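import Mathlib
import Cfsg.Prelude.Def_CaseTheorems
import Cfsg.Prelude.Def_Local

set_option autoImplicit false

namespace Cfsg.Agent.Helper2

open scoped commutatorElement

variable {X : Type*} [Group X]

/-- If `H` is normal and `H Z(X) = X` then `X' ≤ H`. -/
theorem commutator_le_of_normal_of_map_center_eq_top (H : Subgroup X) [hHn : H.Normal]
    (hmap : H.map (QuotientGroup.mk' (Subgroup.center X)) = ⊤) : commutator X ≤ H := by
  rw [commutator_def, Subgroup.commutator_le]
  intro a _ b _
  have ha : QuotientGroup.mk' (Subgroup.center X) a ∈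
      H.map (QuotientGroup.mk' (Subgroup.center X)) := by rw [hmap]; trivial
  obtain ⟨h1, hh1, e1⟩ := ha
  have hz : h1⁻¹ * a ∈ Subgroup.center X := QuotientGroup.eq.mp e1
  have hzc : ∀ g : X, g * (h1⁻¹ * a) = (h1⁻¹ * a) * g := Subgroup.mem_center_iff.mp hz
  have e : ⁅a, b⁆ = h1 * (b * h1⁻¹ * b⁻¹) := by
    rw [commutatorElement_def]
    have h2 : a * b = h1 * b * (h1⁻¹ * a) := by
      rw [mul_assoc h1 b, hzc b]; group
    rw [h2]; group
  rw [e]
  exact H.mul_mem hh1 (hHn.conj_mem _ (H.inv_mem hh1) b)

/-- In a perfect group, a subnormal subgroup that covers `X / Z(X)` is everything. -/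
theorem eq_top_of_isSubnormal_of_map_center_eq_top [hperf : Group.IsPerfect X] (H : Subgroup X)
    (hH : H.IsSubnormal) (hmap : H.map (QuotientGroup.mk' (Subgroup.center X)) = ⊤) : H = ⊤ := by
  induction hH with
  | top => rfl
  | step H K h_le hSubn hN ih =>
    have hK : K = ⊤ := ih (by rw [eq_top_iff, ← hmap]; exact Subgroup.map_mono h_le)
    subst hK
    have hHn : H.Normal := by
      rw [← Subgroup.normalizer_eq_top_iff, eq_top_iff]
      exact (Subgroup.normal_subgroupOf_iff_le_normalizer h_le).mp hN
    have := commutator_le_of_normal_of_map_center_eq_top H hmap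
    rw [hperf.commutator_eq_top] at this
    exact eq_top_iff.mpr this

/-- In a quasisimple group, every subnormal subgroup is the whole group or central. -/
theorem isSubnormal_quasisimple (hX : Cfsg.IsQuasisimple X) (H : Subgroup X)
    (hH : H.IsSubnormal) : H = ⊤ ∨ H ≤ Subgroup.center X := by
  obtain ⟨hperf, hsimp⟩ := hX
  have hsub : (H.map (QuotientGroup.mk' (Subgroup.center X))).IsSubnormal :=
    hH.map (QuotientGroup.mk'_surjective _)
  rcases hsub.eq_bot_or_top_of_isSimpleGroup hsimp with h | h
  · right
    intro x hx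
    have : QuotientGroup.mk' (Subgroup.center X) x ∈
        H.map (QuotientGroup.mk' (Subgroup.center X)) := ⟨x, hx, rfl⟩
    rw [h, Subgroup.mem_bot] at this
    exact (QuotientGroup.eq_one_iff x).mp this
  · left
    exact eq_top_of_isSubnormal_of_map_center_eq_top H hH h


theorem commutator_eq_top_of_simple_nonabelian {S : Type*} [Group S] (hs : IsSimpleGroup S)
    (h : ¬ IsMulCommutative S) : commutator S = ⊤ := by
  rcases (inferInstance : (commutator S).Normal).eq_bot_or_eq_top with hb | ht
  · exfalso; apply h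
    refine ⟨⟨fun a b => ?_⟩⟩
    have : ⁅a, b⁆ ∈ commutator S :=
      Subgroup.commutator_mem_commutator (Subgroup.mem_top a) (Subgroup.mem_top b)
    rw [hb, Subgroup.mem_bot, commutatorElement_eq_one_iff_mul_comm] at this
    exact this
  · exact ht

theorem commutatorElement_mul_center_left {a b z : X} (hz : z ∈ Subgroup.center X) :
    ⁅a * z, b⁆ = ⁅a, b⁆ := by
  have hzc := Subgroup.mem_center_iff.mp hz
  rw [commutatorElement_def, commutatorElement_def]
  calc a * z * b * (a * z)⁻¹ * b⁻¹ = a * (z * b * z⁻¹) * a⁻¹ * b⁻¹ := by group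
    _ = a * b * a⁻¹ * b⁻¹ := by rw [← hzc b, mul_inv_cancel_right]

theorem commutatorElement_mul_center_right {a b z : X} (hz : z ∈ Subgroup.center X) :
    ⁅a, b * z⁆ = ⁅a, b⁆ := by
  have hzc := Subgroup.mem_center_iff.mp hz
  rw [commutatorElement_def, commutatorElement_def]
  calc a * (b * z) * a⁻¹ * (b * z)⁻¹ = a * b * (z * a⁻¹ * z⁻¹) * b⁻¹ := by group
    _ = a * b * a⁻¹ * b⁻¹ := by rw [← hzc a⁻¹, mul_inv_cancel_right]

/-- If `X / Z(X)` is non-abelian simple then `X = X' Z(X)` and `X'` is quasisimple. -/
theorem quasisimple_commutator_of_central_quotient_simple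
    (hs : IsSimpleGroup (X ⧸ Subgroup.center X))
    (hna : ¬ IsMulCommutative (X ⧸ Subgroup.center X)) :
    commutator X ⊔ Subgroup.center X = ⊤ ∧ Cfsg.IsQuasisimple ↥(commutator X) := by
  have hmap : (commutator X).map (QuotientGroup.mk' (Subgroup.center X)) = ⊤ := by
    rw [commutator_def, Subgroup.map_commutator,
      Subgroup.map_top_of_surjective _ (QuotientGroup.mk'_surjective _), ← commutator_def]
    exact commutator_eq_top_of_simple_nonabelian hs hna
  have hsup : commutator X ⊔ Subgroup.center X = ⊤ := by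
    have := Subgroup.comap_map_eq (QuotientGroup.mk' (Subgroup.center X)) (commutator X)
    rw [hmap, Subgroup.comap_top, QuotientGroup.ker_mk'] at this
    exact this.symm
  have hdec : ∀ a : X, ∃ a' ∈ commutator X, ∃ z ∈ Subgroup.center X, a = a' * z := by
    intro a
    have ha : QuotientGroup.mk' (Subgroup.center X) a ∈
        (commutator X).map (QuotientGroup.mk' (Subgroup.center X)) := by rw [hmap]; trivial
    obtain ⟨a', ha', e⟩ := ha
    exact ⟨a', ha', a'⁻¹ * a, QuotientGroup.eq.mp e, by group⟩
  have hperf : ⁅commutator X, commutator X⁆ = commutator X := by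
    apply le_antisymm
    · exact Subgroup.commutator_le_left _ _
    · conv_lhs => rw [commutator_def]
      rw [Subgroup.commutator_le]
      intro a _ b _
      obtain ⟨a', ha', z1, hz1, rfl⟩ := hdec a
      obtain ⟨b', hb', z2, hz2, rfl⟩ := hdec b
      rw [commutatorElement_mul_center_left hz1, commutatorElement_mul_center_right hz2]
      exact Subgroup.commutator_mem_commutator ha' hb'
  refine ⟨hsup, Subgroup.isPerfect_iff.mpr hperf, ?_⟩
  let φ : ↥(commutator X) →* X ⧸ Subgroup.center X :=
    (QuotientGroup.mk' (Subgroup.center X)).comp (commutator X).subtype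
  have hsurj : Function.Surjective φ := by
    intro q
    have hq : q ∈ (commutator X).map (QuotientGroup.mk' (Subgroup.center X)) := by
      rw [hmap]; trivial
    obtain ⟨a, ha, rfl⟩ := hq
    exact ⟨⟨a, ha⟩, rfl⟩
  have hker : φ.ker = Subgroup.center ↥(commutator X) := by
    ext x
    rw [MonoidHom.mem_ker]
    have h1 : φ x = 1 ↔ (x : X) ∈ Subgroup.center X := QuotientGroup.eq_one_iff (x : X)
    rw [h1, Subgroup.mem_center_iff, Subgroup.mem_center_iff]
    constructor
    · intro h g
      exact Subtype.ext (h g)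
    · intro h g
      obtain ⟨g', hg', z, hz, rfl⟩ := hdec g
      have hzc := Subgroup.mem_center_iff.mp hz
      have h2 : g' * (x : X) = (x : X) * g' := congrArg Subtype.val (h ⟨g', hg'⟩)
      calc g' * z * (x : X) = g' * (x : X) * z := by rw [mul_assoc, ← hzc (x : X), ← mul_assoc]
        _ = (x : X) * (g' * z) := by rw [h2, mul_assoc]
  have e : ↥(commutator X) ⧸ Subgroup.center ↥(commutator X) ≃* X ⧸ Subgroup.center X :=
    (QuotientGroup.quotientMulEquivOfEq hker.symm).trans
      (QuotientGroup.quotientKerEquivOfSurjective φ hsurj)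
  exact e.isSimpleGroup

end Cfsg.Agent.Helper2
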