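import Mathlib
import Cfsg.Agent.Helper2.Quasisimple

set_option autoImplicit false

namespace Cfsg.Agent.Helper2

open scoped commutatorElement

variable {G : Type*} [Group G]

/-- If `K` normalizes `H` then `⁅K, H⁆ ≤ H`. -/
theorem commutator_le_of_le_normalizer {H K : Subgroup G}
    (h : K ≤ Subgroup.normalizer (H : Set G)) : ⁅K, H⁆ ≤ H := by
  rw [Subgroup.commutator_le]
  intro k hk x hx
  rw [commutatorElement_def]
  have h1 : k * x * k⁻¹ ∈ H := (Subgroup.mem_normalizer_iff.mp (h hk) x).mp hx
  exact H.mul_mem h1 (H.inv_mem hx)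

theorem iterate_commutator_mono {H K : Subgroup G} (hHK : H ≤ K) (n : ℕ) (A : Subgroup G) :
    (fun B : Subgroup G => ⁅B, H⁆)^[n] A ≤ (fun B : Subgroup G => ⁅B, K⁆)^[n] A := by
  induction n with
  | zero => exact le_refl _
  | succ n ih =>
    rw [Function.iterate_succ_apply', Function.iterate_succ_apply']
    exact Subgroup.commutator_mono ih hHK

/-- If `L` is subnormal then for some `n` the `n`-fold commutator `[A, L, ..., L]` lies in `L`
for every `A`. -/
theorem exists_iterate_commutator_le_of_isSubnormal {L : Subgroup G} (hL : L.IsSubnormal) :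
    ∃ n : ℕ, ∀ A : Subgroup G, (fun B : Subgroup G => ⁅B, L⁆)^[n] A ≤ L := by
  induction hL with
  | top => exact ⟨0, fun A => le_top⟩
  | step H K h_le hSubn hN ih =>
    obtain ⟨n, hn⟩ := ih
    refine ⟨n + 1, fun A => ?_⟩
    rw [Function.iterate_succ_apply']
    have h1 : (fun B : Subgroup G => ⁅B, H⁆)^[n] A ≤ K :=
      (iterate_commutator_mono h_le n A).trans (hn A)
    have h2 : K ≤ Subgroup.normalizer (H : Set G) :=
      (Subgroup.normal_subgroupOf_iff_le_normalizer h_le).mp hN
    exact (Subgroup.commutator_mono h1 (le_refl H)).trans (commutator_le_of_le_normalizer h2)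

/-- For a perfect subgroup `L`: `[B, L, L] = 1` implies `[B, L] = 1` (three subgroups lemma). -/
theorem commutator_eq_bot_of_commutator_commutator_eq_bot {L B : Subgroup G} (hperf : ⁅L, L⁆ = L)
    (h : ⁅⁅B, L⁆, L⁆ = ⊥) : ⁅B, L⁆ = ⊥ := by
  have h1 : ⁅⁅L, B⁆, L⁆ = ⊥ := by rw [Subgroup.commutator_comm L B]; exact h
  have h2 := Subgroup.commutator_commutator_eq_bot_of_rotate h1 h
  rw [hperf, Subgroup.commutator_comm] at h2
  exact h2

theorem iterate_commutator_eq_bot_descend {L : Subgroup G} (hperf : ⁅L, L⁆ = L) (A : Subgroup G)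
    (m : ℕ) (h : (fun B : Subgroup G => ⁅B, L⁆)^[m + 1] A = ⊥) : ⁅A, L⁆ = ⊥ := by
  induction m with
  | zero => simpa using h
  | succ m ih =>
    apply ih
    rw [Function.iterate_succ_apply', Function.iterate_succ_apply'] at h
    rw [Function.iterate_succ_apply']
    exact commutator_eq_bot_of_commutator_commutator_eq_bot hperf h

theorem iterate_commutator_le_of_le_normalizer {L H : Subgroup G}
    (hinv : L ≤ Subgroup.normalizer (H : Set G)) (n : ℕ) :
    (fun B : Subgroup G => ⁅B, L⁆)^[n] H ≤ H := by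
  induction n with
  | zero => exact le_refl _
  | succ n ih =>
    rw [Function.iterate_succ_apply']
    calc ⁅(fun B : Subgroup G => ⁅B, L⁆)^[n] H, L⁆ ≤ ⁅H, L⁆ := Subgroup.commutator_mono ih (le_refl L)
      _ = ⁅L, H⁆ := Subgroup.commutator_comm _ _
      _ ≤ H := commutator_le_of_le_normalizer hinv

/-- A component `L` centralizes every solvable subgroup it normalizes. -/
theorem component_commutator_solvable_eq_bot (L H : Subgroup G) (hL : Cfsg.IsComponent L)
    (hsolv : Group.IsSolvable ↥H) (hinv : L ≤ Subgroup.normalizer (H : Set G)) : ⁅L, H⁆ = ⊥ := by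
  obtain ⟨hsn, hq⟩ := hL
  have hq' := hq
  obtain ⟨hperf, hsimp⟩ := hq
  have hperf' : ⁅L, L⁆ = L := Subgroup.isPerfect_iff.mp hperf
  obtain ⟨n, hn⟩ := exists_iterate_commutator_le_of_isSubnormal hsn
  have hLH : (fun B : Subgroup G => ⁅B, L⁆)^[n] H ≤ L ⊓ H :=
    le_inf (hn H) (iterate_commutator_le_of_le_normalizer hinv n)
  -- `L ⊓ H` is normal in `L`
  have hnorm : ((L ⊓ H).subgroupOf L).Normal := by
    rw [Subgroup.normal_subgroupOf_iff_le_normalizer inf_le_left]
    intro l hl
    rw [Subgroup.mem_normalizer_iff]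
    intro x
    have h1 := Subgroup.mem_normalizer_iff.mp (hinv hl) x
    constructor
    · rintro ⟨hxL, hxH⟩
      exact ⟨L.mul_mem (L.mul_mem hl hxL) (L.inv_mem hl), h1.mp hxH⟩
    · rintro ⟨hxL, hxH⟩
      refine ⟨?_, h1.mpr hxH⟩
      have : x = l⁻¹ * (l * x * l⁻¹) * l := by group
      rw [this]
      exact L.mul_mem (L.mul_mem (L.inv_mem hl) hxL) hl
  have hcases := isSubnormal_quasisimple hq' ((L ⊓ H).subgroupOf L) hnorm.isSubnormal
  rw [Subgroup.commutator_comm]
  apply iterate_commutator_eq_bot_descend hperf' H n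
  rw [Function.iterate_succ_apply', eq_bot_iff]
  rcases hcases with htop | hcen
  · -- `L ≤ H`, so `L` is solvable and perfect, hence trivial
    have hLleH : L ≤ H := by
      intro x hx
      have : (⟨x, hx⟩ : L) ∈ (L ⊓ H).subgroupOf L := by rw [htop]; trivial
      rw [Subgroup.mem_subgroupOf] at this
      exact this.2
    have hLsolv : Group.IsSolvable ↥L :=
      Group.isSolvable_of_isSolvable_injective (Subgroup.inclusion_injective hLleH)
    have hLbot : L = ⊥ := by
      by_contra hne
      have : Nontrivial ↥L := (Subgroup.nontrivial_iff_ne_bot L).mpr hne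
      exact Group.IsPerfect.not_isSolvable ↥L hLsolv
    rw [hLbot]
    simp
  · calc ⁅(fun B : Subgroup G => ⁅B, L⁆)^[n] H, L⁆ ≤ ⁅L ⊓ H, L⁆ :=
          Subgroup.commutator_mono hLH (le_refl L)
      _ ≤ ⊥ := by
        rw [Subgroup.commutator_le]
        intro x hx l hl
        rw [Subgroup.mem_bot, commutatorElement_eq_one_iff_mul_comm]
        have hxc : (⟨x, hx.1⟩ : L) ∈ Subgroup.center ↥L :=
          hcen (by rw [Subgroup.mem_subgroupOf]; exact hx)
        have := Subgroup.mem_center_iff.mp hxc ⟨l, hl⟩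
        exact (congrArg Subtype.val this).symm


/-- A component `L` is contained in, or centralizes, every subgroup it normalizes. -/
theorem component_le_or_commutator_eq_bot (L H : Subgroup G) (hL : Cfsg.IsComponent L)
    (hinv : L ≤ Subgroup.normalizer (H : Set G)) : L ≤ H ∨ ⁅L, H⁆ = ⊥ := by
  obtain ⟨hsn, hq⟩ := hL
  have hq' := hq
  obtain ⟨hperf, hsimp⟩ := hq
  have hperf' : ⁅L, L⁆ = L := Subgroup.isPerfect_iff.mp hperf
  obtain ⟨n, hn⟩ := exists_iterate_commutator_le_of_isSubnormal hsn
  have hLH : (fun B : Subgroup G => ⁅B, L⁆)^[n] H ≤ L ⊓ H :=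
    le_inf (hn H) (iterate_commutator_le_of_le_normalizer hinv n)
  have hnorm : ((L ⊓ H).subgroupOf L).Normal := by
    rw [Subgroup.normal_subgroupOf_iff_le_normalizer inf_le_left]
    intro l hl
    rw [Subgroup.mem_normalizer_iff]
    intro x
    have h1 := Subgroup.mem_normalizer_iff.mp (hinv hl) x
    constructor
    · rintro ⟨hxL, hxH⟩
      exact ⟨L.mul_mem (L.mul_mem hl hxL) (L.inv_mem hl), h1.mp hxH⟩
    · rintro ⟨hxL, hxH⟩
      refine ⟨?_, h1.mpr hxH⟩
      have : x = l⁻¹ * (l * x * l⁻¹) * l := by group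
      rw [this]
      exact L.mul_mem (L.mul_mem (L.inv_mem hl) hxL) hl
  rcases isSubnormal_quasisimple hq' ((L ⊓ H).subgroupOf L) hnorm.isSubnormal with htop | hcen
  · left
    intro x hx
    have : (⟨x, hx⟩ : L) ∈ (L ⊓ H).subgroupOf L := by rw [htop]; trivial
    rw [Subgroup.mem_subgroupOf] at this
    exact this.2
  · right
    rw [Subgroup.commutator_comm]
    apply iterate_commutator_eq_bot_descend hperf' H n
    rw [Function.iterate_succ_apply', eq_bot_iff]
    calc ⁅(fun B : Subgroup G => ⁅B, L⁆)^[n] H, L⁆ ≤ ⁅L ⊓ H, L⁆ :=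
          Subgroup.commutator_mono hLH (le_refl L)
      _ ≤ ⊥ := by
        rw [Subgroup.commutator_le]
        intro x hx l hl
        rw [Subgroup.mem_bot, commutatorElement_eq_one_iff_mul_comm]
        have hxc : (⟨x, hx.1⟩ : L) ∈ Subgroup.center ↥L :=
          hcen (by rw [Subgroup.mem_subgroupOf]; exact hx)
        have := Subgroup.mem_center_iff.mp hxc ⟨l, hl⟩
        exact (congrArg Subtype.val this).symm

/-- A component `L` is contained in, or centralizes, every subnormal subgroup. -/
theorem component_le_or_commutator_eq_bot_of_isSubnormal (L H : Subgroup G)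
    (hL : Cfsg.IsComponent L) (hH : H.IsSubnormal) : L ≤ H ∨ ⁅L, H⁆ = ⊥ := by
  induction hH with
  | top => left; exact le_top
  | step H K h_le hSubn hN ih =>
    rcases ih with hLK | hbot
    · have h2 : K ≤ Subgroup.normalizer (H : Set G) :=
        (Subgroup.normal_subgroupOf_iff_le_normalizer h_le).mp hN
      exact component_le_or_commutator_eq_bot L H hL (hLK.trans h2)
    · right
      rw [eq_bot_iff, ← hbot]
      exact Subgroup.commutator_mono (le_refl L) h_le

/-- Quasisimplicity is invariant under isomorphism. -/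
theorem isQuasisimple_of_mulEquiv {A B : Type*} [Group A] [Group B] (e : A ≃* B)
    (h : Cfsg.IsQuasisimple A) : Cfsg.IsQuasisimple B := by
  obtain ⟨hperf, hsimp⟩ := h
  refine ⟨Group.IsPerfect.ofSurjective (f := e.toMonoidHom) e.surjective, ?_⟩
  let φ : A →* B ⧸ Subgroup.center B := (QuotientGroup.mk' (Subgroup.center B)).comp e.toMonoidHom
  have hsurj : Function.Surjective φ :=
    (QuotientGroup.mk'_surjective (Subgroup.center B)).comp e.surjective
  have hker : φ.ker = Subgroup.center A := by
    ext x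
    rw [MonoidHom.mem_ker]
    have h1 : φ x = 1 ↔ e x ∈ Subgroup.center B := QuotientGroup.eq_one_iff (e x)
    rw [h1, Subgroup.mem_center_iff, Subgroup.mem_center_iff]
    constructor
    · intro h a
      apply e.injective
      rw [map_mul, map_mul]
      exact h (e a)
    · intro h b
      obtain ⟨a, rfl⟩ := e.surjective b
      rw [← map_mul, ← map_mul, h a]
  have e' : B ⧸ Subgroup.center B ≃* A ⧸ Subgroup.center A :=
    ((QuotientGroup.quotientMulEquivOfEq hker.symm).trans
      (QuotientGroup.quotientKerEquivOfSurjective φ hsurj)).symm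
  exact e'.isSimpleGroup

/-- Components of a subnormal subgroup are exactly the components of `G` lying in it. -/
theorem isComponent_map_subtype_iff (H : Subgroup G) (hH : H.IsSubnormal) (K : Subgroup ↥H) :
    Cfsg.IsComponent K ↔ Cfsg.IsComponent (K.map H.subtype) := by
  have e : ↥K ≃* ↥(K.map H.subtype) := K.equivMapOfInjective H.subtype H.subtype_injective
  constructor
  · rintro ⟨hsn, hq⟩
    exact ⟨hsn.trans' hH, isQuasisimple_of_mulEquiv e hq⟩
  · rintro ⟨hsn, hq⟩
    refine ⟨?_, isQuasisimple_of_mulEquiv e.symm hq⟩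
    have := hsn.subgroupOf (K := H)
    rw [Subgroup.subgroupOf, Subgroup.comap_map_eq_self_of_injective H.subtype_injective] at this
    exact this

end Cfsg.Agent.Helper2
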