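import Mathlib
import Cfsg.Prelude.Def_TwoFusion

set_option autoImplicit false

namespace Cfsg.Agent.Helper2

variable {G : Type*} [Group G]

theorem mul_self_of_orderOf_two {x : G} (hx : orderOf x = 2) : x * x = 1 := by
  have := pow_orderOf_eq_one x
  rw [hx, pow_two] at this
  exact this

theorem inv_eq_self_of_orderOf_two {x : G} (hx : orderOf x = 2) : x⁻¹ = x :=
  inv_eq_of_mul_eq_one_left (mul_self_of_orderOf_two hx)

theorem ne_one_of_orderOf_two {x : G} (hx : orderOf x = 2) : x ≠ 1 := by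
  rintro rfl
  simp at hx

theorem orderOf_two_of_mul_self {x : G} (h : x * x = 1) (h1 : x ≠ 1) : orderOf x = 2 := by
  apply orderOf_eq_prime _ h1
  rw [pow_two]; exact h

/-- For involutions `x`, `y`: `(x*y)⁻¹ = y*x`. -/
theorem inv_mul_invol {x y : G} (hx : x * x = 1) (hy : y * y = 1) : (x * y)⁻¹ = y * x := by
  apply inv_eq_of_mul_eq_one_right
  calc x * y * (y * x) = x * (y * y) * x := by group
    _ = 1 := by rw [hy, mul_one, hx]

/-- For involutions `x`, `y`: `x * (x*y)^j = (y*x)^j * x`. -/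
theorem invol_mul_pow {x y : G} (hx : x * x = 1) (j : ℕ) :
    x * (x * y) ^ j = (y * x) ^ j * x := by
  induction j with
  | zero => simp
  | succ j ih =>
    rw [pow_succ, ← mul_assoc, ih, pow_succ]
    calc (y * x) ^ j * x * (x * y) = (y * x) ^ j * (x * x) * y := by group
      _ = (y * x) ^ j * y := by rw [hx, mul_one]
      _ = (y * x) ^ j * y * (x * x) := by rw [hx, mul_one]
      _ = (y * x) ^ j * (y * x) * x := by group

/-- For involutions `x`, `y`: `(x*y)^j * x = x * (y*x)^j`. -/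
theorem pow_mul_invol {x y : G} (hx : x * x = 1) (j : ℕ) :
    (x * y) ^ j * x = x * (y * x) ^ j := by
  induction j with
  | zero => simp
  | succ j ih =>
    rw [pow_succ', mul_assoc, ih, pow_succ']
    calc x * y * (x * (y * x) ^ j) = (x * x) * (x * y * (x * (y * x) ^ j)) := by rw [hx, one_mul]
      _ = x * ((x * x) * (y * x) * (y * x) ^ j) := by group
      _ = x * (y * x * (y * x) ^ j) := by rw [hx, one_mul]

/-- If involutions `x`, `y` have `(x*y)^(2k+1) = 1`, then `(y*x)^(k+1)` conjugates `x` to `y`. -/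
theorem conj_of_pow_odd {x y : G} (hx : x * x = 1) (hy : y * y = 1) (k : ℕ)
    (h : (x * y) ^ (2 * k + 1) = 1) :
    (y * x) ^ (k + 1) * x * ((y * x) ^ (k + 1))⁻¹ = y := by
  have hinv : ((y * x) ^ (k + 1))⁻¹ = (x * y) ^ (k + 1) := by
    rw [← inv_pow, inv_mul_invol hy hx]
  rw [hinv, mul_assoc, invol_mul_pow hx, ← mul_assoc, ← pow_add]
  have h' : (y * x) ^ (2 * k + 1) = 1 := by
    rw [← inv_mul_invol hx hy, inv_pow, h, inv_one]
  have : k + 1 + (k + 1) = (2 * k + 1) + 1 := by ring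
  rw [this, pow_succ, h', one_mul, mul_assoc, hx, mul_one]

/-- For involutions `x, y`, `x * (x*y)^m` commutes with `x` when `(x*y)^(2m) = 1`. -/
theorem commute_invol_mul_pow {x y : G} (hx : x * x = 1) (hy : y * y = 1) (m : ℕ)
    (h : (x * y) ^ (2 * m) = 1) : Commute x (x * (x * y) ^ m) := by
  have h' : (y * x) ^ m = (x * y) ^ m := by
    have h2 : (x * y) ^ m * (x * y) ^ m = 1 := by rw [← pow_add, ← two_mul, h]
    have : ((x * y) ^ m)⁻¹ = (x * y) ^ m := inv_eq_of_mul_eq_one_left h2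
    rw [← inv_mul_invol hx hy, inv_pow, this]
  show x * (x * (x * y) ^ m) = x * (x * y) ^ m * x
  rw [mul_assoc x ((x * y) ^ m) x, pow_mul_invol hx, h']

/-- `x * (x*y)^(2k)` is a conjugate of `x`. -/
theorem invol_mul_pow_even {x y : G} (hx : x * x = 1) (hy : y * y = 1) (k : ℕ) :
    x * (x * y) ^ (2 * k) = (y * x) ^ k * x * ((y * x) ^ k)⁻¹ := by
  have hinv : ((y * x) ^ k)⁻¹ = (x * y) ^ k := by
    rw [← inv_pow, inv_mul_invol hy hx]
  rw [hinv, two_mul, pow_add, ← mul_assoc, invol_mul_pow hx]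

/-- `x * (x*y)^(2k+1)` is a conjugate of `y`. -/
theorem invol_mul_pow_odd {x y : G} (hx : x * x = 1) (hy : y * y = 1) (k : ℕ) :
    x * (x * y) ^ (2 * k + 1) = (y * x) ^ k * y * ((y * x) ^ k)⁻¹ := by
  have hinv : ((y * x) ^ k)⁻¹ = (x * y) ^ k := by
    rw [← inv_pow, inv_mul_invol hy hx]
  rw [hinv]
  have e : (x * y) ^ (2 * k + 1) = (x * y) ^ k * ((x * y) * (x * y) ^ k) := by
    rw [← pow_succ', ← pow_add]; congr 1; ring
  rw [e, ← mul_assoc, invol_mul_pow hx]
  calc (y * x) ^ k * x * (x * y * (x * y) ^ k)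
      = (y * x) ^ k * (x * x) * y * (x * y) ^ k := by simp only [mul_assoc]
    _ = (y * x) ^ k * y * (x * y) ^ k := by rw [hx, mul_one]

/-- If `z` is an isolated involution of a finite group and `s` a conjugate of `z`, then `z * s`
has odd order. -/
theorem odd_orderOf_mul_conj_of_isolated [Finite G] {z : G} (hz : Cfsg.IsIsolatedInvolution z)
    (g : G) : Odd (orderOf (z * (g * z * g⁻¹))) := by
  set s := g * z * g⁻¹ with hs
  have hzz : z * z = 1 := mul_self_of_orderOf_two hz.1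
  have hss : s * s = 1 := by
    rw [hs]
    calc g * z * g⁻¹ * (g * z * g⁻¹) = g * (z * z) * g⁻¹ := by group
      _ = 1 := by rw [hzz]; group
  rcases Nat.even_or_odd (orderOf (z * s)) with he | ho
  · exfalso
    obtain ⟨m, hm⟩ := he
    have hm' : orderOf (z * s) = 2 * m := by rw [hm]; ring
    have hpow : (z * s) ^ (2 * m) = 1 := by rw [← hm']; exact pow_orderOf_eq_one _
    have hcomm := commute_invol_mul_pow hzz hss m hpow
    -- `z * (z*s)^m` is a conjugate of `z`
    have hconj : ∃ w : G, z * (z * s) ^ m = w * z * w⁻¹ := by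
      rcases Nat.even_or_odd' m with ⟨k, hk | hk⟩
      · refine ⟨(s * z) ^ k, ?_⟩
        rw [hk]; exact invol_mul_pow_even hzz hss k
      · refine ⟨(s * z) ^ k * g, ?_⟩
        rw [hk, invol_mul_pow_odd hzz hss k, hs]
        group
    obtain ⟨w, hw⟩ := hconj
    have := hz.2 w (by rw [← hw]; exact hcomm)
    rw [← hw] at this
    have h1 : (z * s) ^ m = 1 := by
      have := congrArg (fun t => z * t) this
      simpa [← mul_assoc, hzz] using this
    have hdvd : orderOf (z * s) ∣ m := orderOf_dvd_of_pow_eq_one h1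
    have hpos : 0 < orderOf (z * s) := orderOf_pos _
    rw [hm'] at hdvd hpos
    have hmpos : 0 < m := by omega
    have := Nat.le_of_dvd hmpos hdvd
    omega
  · exact ho

/-- A conjugate of an isolated involution is isolated. -/
theorem isIsolated_conj {z : G} (hz : Cfsg.IsIsolatedInvolution z) (g : G) :
    Cfsg.IsIsolatedInvolution (g * z * g⁻¹) := by
  refine ⟨?_, ?_⟩
  · have : g * z * g⁻¹ = MulAut.conj g z := rfl
    rw [this, MulEquiv.orderOf_eq]; exact hz.1
  · intro h hc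
    have h1 : Commute z ((g⁻¹ * h * g) * z * (g⁻¹ * h * g)⁻¹) := by
      have := hc.eq
      show z * _ = _ * z
      have e1 : z * (g⁻¹ * h * g * z * (g⁻¹ * h * g)⁻¹)
          = g⁻¹ * (g * z * g⁻¹ * (h * (g * z * g⁻¹) * h⁻¹)) * g := by group
      have e2 : g⁻¹ * h * g * z * (g⁻¹ * h * g)⁻¹ * z
          = g⁻¹ * (h * (g * z * g⁻¹) * h⁻¹ * (g * z * g⁻¹)) * g := by group
      rw [e1, e2, this]
    have h2 := hz.2 _ h1
    calc h * (g * z * g⁻¹) * h⁻¹ = g * (g⁻¹ * h * g * z * (g⁻¹ * h * g)⁻¹) * g⁻¹ := by group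
      _ = g * z * g⁻¹ := by rw [h2]

theorem conj_mul_self {z : G} (hzz : z * z = 1) (g : G) :
    g * z * g⁻¹ * (g * z * g⁻¹) = 1 := by
  calc g * z * g⁻¹ * (g * z * g⁻¹) = g * (z * z) * g⁻¹ := by group
    _ = 1 := by rw [hzz]; group

/-- If `z` is an isolated involution of a finite group and `s = g z g⁻¹`, then a power of `s * z`
conjugates `z` to `s`. -/
theorem exists_pow_conj_of_isolated [Finite G] {z : G} (hz : Cfsg.IsIsolatedInvolution z)
    (g : G) : ∃ j : ℕ, ((g * z * g⁻¹) * z) ^ j * z * (((g * z * g⁻¹) * z) ^ j)⁻¹ = g * z * g⁻¹ := by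
  have hzz : z * z = 1 := mul_self_of_orderOf_two hz.1
  have hss := conj_mul_self hzz g
  obtain ⟨k, hk⟩ := odd_orderOf_mul_conj_of_isolated hz g
  refine ⟨k + 1, conj_of_pow_odd hzz hss k ?_⟩
  rw [← hk]; exact pow_orderOf_eq_one _

end Cfsg.Agent.Helper2
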