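import Mathlib
import Cfsg.Agent.Helper2.Invol

set_option autoImplicit false

namespace Cfsg.Agent.Helper2

variable {G : Type*} [Group G]

open scoped Pointwise

/-- membership in a conjugate Sylow subgroup -/
theorem mem_smul_sylow_iff {p : ℕ} (P : Sylow p G) (h x : G) :
    x ∈ ((h • P : Sylow p G) : Subgroup G) ↔ h⁻¹ * x * h ∈ (P : Subgroup G) := by
  rw [Sylow.coe_subgroup_smul, Subgroup.mem_pointwise_smul_iff_inv_smul_mem]
  simp [MulAut.smul_def]

/-- Any `p`-subgroup of a finite group can be conjugated into a given Sylow `p`-subgroup. -/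
theorem exists_conj_le_sylow [Finite G] {p : ℕ} [Fact p.Prime] (P : Sylow p G) (K : Subgroup G)
    (hK : IsPGroup p K) : ∃ h : G, ∀ k ∈ K, h * k * h⁻¹ ∈ (P : Subgroup G) := by
  obtain ⟨Q, hQ⟩ := hK.exists_le_sylow
  obtain ⟨g, hg⟩ := MulAction.exists_smul_eq G P Q
  refine ⟨g⁻¹, fun k hk => ?_⟩
  have : k ∈ ((g • P : Sylow p G) : Subgroup G) := by rw [hg]; exact hQ hk
  rw [mem_smul_sylow_iff] at this
  simpa using this

/-- The subgroup generated by two commuting involutions is a 2-group. -/
theorem isPGroup_closure_pair_comm {u w : G} (hu : u * u = 1) (hw : w * w = 1)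
    (hc : Commute u w) : IsPGroup 2 (Subgroup.closure ({u, w} : Set G)) := by
  have key : ∀ d ∈ Subgroup.closure ({u, w} : Set G), d * d = 1 ∧ Commute d u ∧ Commute d w := by
    intro d hd
    induction hd using Subgroup.closure_induction with
    | mem a ha =>
      rcases ha with rfl | ha
      · exact ⟨hu, Commute.refl _, hc⟩
      · rw [Set.mem_singleton_iff] at ha
        subst ha
        exact ⟨hw, hc.symm, Commute.refl _⟩
    | one => exact ⟨by simp, Commute.one_left _, Commute.one_left _⟩
    | mul a b ha hb iha ihb =>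
      refine ⟨?_, iha.2.1.mul_left ihb.2.1, iha.2.2.mul_left ihb.2.2⟩
      -- a commutes with b since b ∈ closure {u, w} and a commutes with u, w
      have hab : Commute a b := by
        have : b ∈ Subgroup.centralizer ({a} : Set G) := by
          have hle : Subgroup.closure ({u, w} : Set G) ≤ Subgroup.centralizer ({a} : Set G) := by
            rw [Subgroup.closure_le]
            intro c hc'
            rcases hc' with rfl | hc'
            · exact Subgroup.mem_centralizer_singleton_iff.mpr iha.2.1.symm.eq
            · rw [Set.mem_singleton_iff] at hc'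
              subst hc'
              exact Subgroup.mem_centralizer_singleton_iff.mpr iha.2.2.symm.eq
          exact hle hb
        exact (Subgroup.mem_centralizer_singleton_iff.mp this).symm
      calc a * b * (a * b) = a * (b * a) * b := by group
        _ = a * (a * b) * b := by rw [hab.eq]
        _ = (a * a) * (b * b) := by group
        _ = 1 := by rw [iha.1, ihb.1, one_mul]
    | inv a _ iha =>
      have : a⁻¹ = a := inv_eq_of_mul_eq_one_left iha.1
      rw [this]; exact iha
  intro ⟨d, hd⟩
  refine ⟨1, ?_⟩
  apply Subtype.ext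
  have := (key d hd).1
  simp [pow_two, this]

/-- If no conjugate of the involution `t` other than `t` lies in the Sylow 2-subgroup `S`, then
`t` is an isolated involution. -/
theorem isolated_of_sylow [Finite G] (S : Sylow 2 G) {t : G} (ht : orderOf t = 2)
    (hiso : ∀ g : G, g * t * g⁻¹ ∈ S → g * t * g⁻¹ = t) : Cfsg.IsIsolatedInvolution t := by
  refine ⟨ht, fun g hc => ?_⟩
  have htt : t * t = 1 := mul_self_of_orderOf_two ht
  have hss : (g * t * g⁻¹) * (g * t * g⁻¹) = 1 := conj_mul_self htt g
  have : Fact (Nat.Prime 2) := ⟨Nat.prime_two⟩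
  obtain ⟨h, hh⟩ := exists_conj_le_sylow S _ (isPGroup_closure_pair_comm htt hss hc)
  have h1 : h * t * h⁻¹ ∈ (S : Subgroup G) :=
    hh t (Subgroup.subset_closure (by simp))
  have h2 : h * (g * t * g⁻¹) * h⁻¹ ∈ (S : Subgroup G) :=
    hh _ (Subgroup.subset_closure (by simp))
  have e1 := hiso h h1
  have e2 : (h * g) * t * (h * g)⁻¹ = t := by
    apply hiso
    have : (h * g) * t * (h * g)⁻¹ = h * (g * t * g⁻¹) * h⁻¹ := by group
    rw [this]; exact h2
  have e3 : h * (g * t * g⁻¹) * h⁻¹ = h * t * h⁻¹ := by
    calc h * (g * t * g⁻¹) * h⁻¹ = (h * g) * t * (h * g)⁻¹ := by group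
      _ = t := e2
      _ = h * t * h⁻¹ := e1.symm
  have := mul_left_cancel (mul_right_cancel e3)
  exact this

end Cfsg.Agent.Helper2
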