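import Mathlib
import Cfsg.Prelude.Def_Transfer
import Cfsg.Prelude.Def_TwoFusion
import Cfsg.Agent.Helper2.SylowConj

set_option autoImplicit false

namespace Cfsg.Agent.Helper2

variable {G : Type*} [Group G]

/-- notation-free abbreviation: the conjugate `g H g⁻¹` in the `map conj` form -/
abbrev cj (g : G) (H : Subgroup G) : Subgroup G := H.map (MulAut.conj g).toMonoidHom

theorem mem_cj_iff (H : Subgroup G) (g y : G) : y ∈ cj g H ↔ g⁻¹ * y * g ∈ H := by
  constructor
  · rintro ⟨x, hx, rfl⟩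
    simpa [mul_assoc] using hx
  · intro h
    refine ⟨g⁻¹ * y * g, h, ?_⟩
    simp [mul_assoc]

theorem conj_mem_cj (H : Subgroup G) (g x : G) (hx : x ∈ H) : g * x * g⁻¹ ∈ cj g H :=
  ⟨x, hx, by simp⟩

theorem cj_cj (X : Subgroup G) (a g : G) : cj a (cj g X) = cj (a * g) X := by
  ext y
  simp only [mem_cj_iff]
  have : g⁻¹ * (a⁻¹ * y * a) * g = (a * g)⁻¹ * y * (a * g) := by group
  rw [this]

theorem cj_one (X : Subgroup G) : cj (1 : G) X = X := by
  ext y; rw [mem_cj_iff]; simp

theorem cj_le_iff (H K : Subgroup G) (g : G) : cj g H ≤ K ↔ ∀ x ∈ H, g * x * g⁻¹ ∈ K := by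
  constructor
  · intro h x hx; exact h (conj_mem_cj H g x hx)
  · rintro h _ ⟨x, hx, rfl⟩; simpa using h x hx

theorem cj_mono {H K : Subgroup G} (h : H ≤ K) (g : G) : cj g H ≤ cj g K :=
  Subgroup.map_mono h

theorem cj_eq_of_cj_inv_eq {X : Subgroup G} {g : G} (h : cj g X = X) : cj g⁻¹ X = X := by
  conv_lhs => rw [← h]
  rw [cj_cj, inv_mul_cancel, cj_one]

theorem mem_normalizer_iff_cj (H : Subgroup G) (g : G) :
    g ∈ Subgroup.normalizer (H : Set G) ↔ cj g H = H := by
  rw [Subgroup.mem_normalizer_iff]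
  constructor
  · intro h
    ext y
    rw [mem_cj_iff]
    have := h (g⁻¹ * y * g)
    simp only [mul_assoc, mul_inv_cancel_left, mul_inv_cancel, mul_one] at this
    rw [mul_assoc]; exact this
  · intro h x
    constructor
    · intro hx
      rw [← h]
      exact conj_mem_cj H g x hx
    · intro hx
      rw [← h, mem_cj_iff] at hx
      simpa [mul_assoc] using hx

theorem isPGroup_cj {p : ℕ} {H : Subgroup G} (hH : IsPGroup p H) (g : G) : IsPGroup p (cj g H) :=
  hH.map _

/-- Any `p`-subgroup can be conjugated into a given Sylow `p`-subgroup (`cj` form). -/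
theorem exists_cj_le_sylow [Finite G] {p : ℕ} [Fact p.Prime] (P : Sylow p G) (K : Subgroup G)
    (hK : IsPGroup p K) : ∃ h : G, cj h K ≤ (P : Subgroup G) := by
  obtain ⟨h, hh⟩ := exists_conj_le_sylow P K hK
  exact ⟨h, (cj_le_iff K P h).mpr hh⟩

/-- Key fusion lemma for weakly closed subgroups: if `W` is weakly closed in the Sylow
`p`-subgroup `T` and both `W` and `g W g⁻¹` lie in a subgroup `C`, then `c * g` normalizes `W`
for some `c ∈ C`. -/
theorem weaklyClosed_fusion [Finite G] {p : ℕ} [Fact p.Prime] (T : Sylow p G) (W : Subgroup G)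
    (hW : Cfsg.IsWeaklyClosed W (T : Subgroup G)) (C : Subgroup G) (hWC : W ≤ C) (g : G)
    (hg : cj g W ≤ C) : ∃ c ∈ C, cj (c * g) W = W := by
  have hWp : IsPGroup p W := T.isPGroup'.to_le hW.1
  -- work inside C
  obtain ⟨P1, hP1⟩ := (hWp.comap_subtype (K := C)).exists_le_sylow
  have hK : IsPGroup p ((cj g W).comap C.subtype) := (isPGroup_cj hWp g).comap_subtype
  obtain ⟨c, hc⟩ := exists_conj_le_sylow P1 _ hK
  -- the image of P1 in G is a p-group, hence conjugate into T
  have hP1G : IsPGroup p ((P1 : Subgroup C).map C.subtype) := P1.isPGroup'.map _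
  obtain ⟨x, hx⟩ := exists_cj_le_sylow T _ hP1G
  -- W ≤ image of P1
  have h1 : W ≤ (P1 : Subgroup C).map C.subtype := by
    intro w hw
    exact ⟨⟨w, hWC hw⟩, hP1 (Subgroup.mem_subgroupOf.mpr hw), rfl⟩
  -- cj (c*g) W ≤ image of P1
  have h2 : cj ((c : G) * g) W ≤ (P1 : Subgroup C).map C.subtype := by
    rw [cj_le_iff]
    intro w hw
    have hmem : g * w * g⁻¹ ∈ C := hg (conj_mem_cj W g w hw)
    have := hc ⟨g * w * g⁻¹, hmem⟩ (by
      simp only [Subgroup.mem_comap, Subgroup.coe_subtype]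
      exact conj_mem_cj W g w hw)
    refine ⟨_, this, ?_⟩
    simp only [Subgroup.coe_subtype, Subgroup.coe_mul, Subgroup.coe_inv]
    group
  -- now use weak closure twice
  have e1 : cj x W = W := hW.2 x (le_trans (cj_mono h1 x) hx)
  have e2 : cj (x * ((c : G) * g)) W = W := by
    apply hW.2
    have := le_trans (cj_mono h2 x) hx
    rw [cj_cj] at this
    exact this
  refine ⟨c, c.2, ?_⟩
  have e3 : cj x⁻¹ W = W := cj_eq_of_cj_inv_eq e1
  calc cj ((c : G) * g) W = cj (x⁻¹ * (x * ((c : G) * g))) W := by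
        congr 1; group
    _ = cj x⁻¹ (cj (x * ((c : G) * g)) W) := (cj_cj _ _ _).symm
    _ = W := by rw [e2, e3]

end Cfsg.Agent.Helper2
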