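import Mathlib
import Cfsg.Prelude.Def_Local
import Cfsg.Agent.Helper2.Component
import Cfsg.Agent.Helper2.Quasisimple
import Cfsg.Agent.Helper2.Conj
import Cfsg.Agent.Helper1.Fitting

set_option autoImplicit false

namespace Cfsg.Agent.Helper2

open Cfsg.Agent.Helper1

variable {G : Type*} [Group G]

/-- The join of a family of subgroups stable under automorphisms is characteristic. -/
theorem sSup_characteristic (S : Set (Subgroup G))
    (h : ∀ φ : G ≃* G, ∀ N ∈ S, N.map φ.toMonoidHom ∈ S) : (sSup S).Characteristic := by
  rw [Subgroup.characteristic_iff_map_le]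
  intro φ
  rw [(Subgroup.gc_map_comap φ.toMonoidHom).l_sSup]
  apply iSup₂_le
  intro N hN
  exact le_sSup (h φ N hN)

theorem isNilpotent_of_mulEquiv {A B : Type*} [Group A] [Group B] (e : A ≃* B)
    (h : Group.IsNilpotent A) : Group.IsNilpotent B :=
  Group.nilpotent_of_surjective e.toMonoidHom e.surjective

instance fittingSubgroup_characteristic : (Cfsg.fittingSubgroup G).Characteristic := by
  apply sSup_characteristic
  rintro φ N ⟨hN, hnil⟩
  refine ⟨?_, ?_⟩
  · exact hN.map φ.toMonoidHom φ.surjective
  · exact isNilpotent_of_mulEquiv (N.equivMapOfInjective φ.toMonoidHom φ.injective) hnil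

theorem isComponent_map_equiv {A B : Type*} [Group A] [Group B] (e : A ≃* B) {K : Subgroup A}
    (hK : Cfsg.IsComponent K) : Cfsg.IsComponent (K.map e.toMonoidHom) := by
  obtain ⟨hsn, hq⟩ := hK
  exact ⟨hsn.map e.surjective,
    isQuasisimple_of_mulEquiv (K.equivMapOfInjective e.toMonoidHom e.injective) hq⟩

instance layer_characteristic : (Cfsg.layer G).Characteristic := by
  apply sSup_characteristic
  intro φ N hN
  exact isComponent_map_equiv φ hN

instance generalizedFittingSubgroup_characteristic :
    (Cfsg.generalizedFittingSubgroup G).Characteristic := by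
  unfold Cfsg.generalizedFittingSubgroup
  infer_instance

theorem isComponent_cj {K : Subgroup G} (hK : Cfsg.IsComponent K) (g : G) :
    Cfsg.IsComponent (cj g K) :=
  isComponent_map_equiv (MulAut.conj g) hK

theorem component_le_layer {K : Subgroup G} (hK : Cfsg.IsComponent K) : K ≤ Cfsg.layer G :=
  le_sSup hK

theorem fittingSubgroup_le_generalizedFittingSubgroup :
    Cfsg.fittingSubgroup G ≤ Cfsg.generalizedFittingSubgroup G := le_sup_right

theorem layer_le_generalizedFittingSubgroup :
    Cfsg.layer G ≤ Cfsg.generalizedFittingSubgroup G := le_sup_left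

theorem component_perfect {K : Subgroup G} (hK : Cfsg.IsComponent K) : ⁅K, K⁆ = K :=
  Subgroup.isPerfect_iff.mp hK.2.1

theorem component_ne_bot {K : Subgroup G} (hK : Cfsg.IsComponent K) : K ≠ ⊥ := by
  rintro rfl
  have := hK.2.2
  have : Nontrivial ((⊥ : Subgroup G) ⧸ Subgroup.center (⊥ : Subgroup G)) := this.toNontrivial
  obtain ⟨a, b, hab⟩ := this
  apply hab
  induction a using QuotientGroup.induction_on with | _ a => ?_
  induction b using QuotientGroup.induction_on with | _ b => ?_
  rw [Subsingleton.elim a b]

/-- A component is not contained in a subgroup all of whose elements commute with it. -/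
theorem component_not_commutative {K : Subgroup G} (hK : Cfsg.IsComponent K) :
    ¬ (∀ a ∈ K, ∀ b ∈ K, a * b = b * a) := by
  intro h
  apply component_ne_bot hK
  rw [← component_perfect hK, Subgroup.commutator_eq_bot_iff_le_centralizer]
  intro a ha
  rw [Subgroup.mem_centralizer_iff]
  intro b hb
  exact h b hb a ha

theorem component_not_solvable {K : Subgroup G} (hK : Cfsg.IsComponent K) :
    ¬ Group.IsSolvable ↥K := by
  intro hs
  have := component_commutator_solvable_eq_bot K K hK hs Subgroup.le_normalizer
  rw [component_perfect hK] at this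
  exact component_ne_bot hK this

/-- Distinct components commute. -/
theorem components_commute {K L : Subgroup G} (hK : Cfsg.IsComponent K) (hL : Cfsg.IsComponent L)
    (hne : K ≠ L) : ⁅K, L⁆ = ⊥ := by
  rcases component_le_or_commutator_eq_bot_of_isSubnormal K L hK hL.1 with h | h
  · exfalso
    have hsn : (K.subgroupOf L).IsSubnormal := hK.1.subgroupOf
    rcases isSubnormal_quasisimple hL.2 _ hsn with h1 | h1
    · apply hne
      rw [Subgroup.subgroupOf_eq_top] at h1
      exact le_antisymm h h1
    · apply component_not_commutative hK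
      intro a ha b hb
      have ha' : (⟨a, h ha⟩ : ↥L) ∈ Subgroup.center ↥L := h1 (Subgroup.mem_subgroupOf.mpr ha)
      have := Subgroup.mem_center_iff.mp ha' ⟨b, h hb⟩
      exact (congrArg Subtype.val this).symm
  · exact h

instance layer_normal : (Cfsg.layer G).Normal := inferInstance

theorem fittingSubgroup_isSolvable [Finite G] : Group.IsSolvable ↥(Cfsg.fittingSubgroup G) := by
  have := fittingSubgroup_isNilpotent (G := G)
  infer_instance

/-- Components centralize solvable normal subgroups. -/
theorem layer_commutator_solvable_normal [Finite G] (H : Subgroup G) [H.Normal]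
    (hs : Group.IsSolvable ↥H) : ⁅Cfsg.layer G, H⁆ = ⊥ := by
  rw [Subgroup.commutator_eq_bot_iff_le_centralizer]
  apply sSup_le
  intro K hK
  rw [← Subgroup.commutator_eq_bot_iff_le_centralizer]
  apply component_commutator_solvable_eq_bot K H hK hs
  rw [Subgroup.normalizer_eq_top]
  exact le_top

theorem layer_commutator_fittingSubgroup [Finite G] :
    ⁅Cfsg.layer G, Cfsg.fittingSubgroup G⁆ = ⊥ :=
  layer_commutator_solvable_normal _ fittingSubgroup_isSolvable

end Cfsg.Agent.Helper2
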