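import Mathlib
import Cfsg.Agent.Helper2.Layer

set_option autoImplicit false

namespace Cfsg.Agent.Helper2

open Cfsg.Agent.Helper1

variable {G : Type*} [Group G]

/-- The Fitting subgroup of a normal subgroup lies in the Fitting subgroup. -/
theorem fittingSubgroup_normal_le [Finite G] (N : Subgroup G) [N.Normal] :
    (Cfsg.fittingSubgroup ↥N).map N.subtype ≤ Cfsg.fittingSubgroup G := by
  apply le_fittingSubgroup inferInstance
  exact isNilpotent_of_mulEquiv
    ((Cfsg.fittingSubgroup ↥N).equivMapOfInjective N.subtype N.subtype_injective)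
    fittingSubgroup_isNilpotent

theorem fittingSubgroup_map_equiv {A B : Type*} [Group A] [Group B] (e : A ≃* B) :
    (Cfsg.fittingSubgroup A).map e.toMonoidHom = Cfsg.fittingSubgroup B := by
  apply le_antisymm
  · unfold Cfsg.fittingSubgroup
    rw [(Subgroup.gc_map_comap e.toMonoidHom).l_sSup]
    apply iSup₂_le
    rintro N ⟨hN, hnil⟩
    apply le_sSup
    exact ⟨hN.map e.toMonoidHom e.surjective,
      isNilpotent_of_mulEquiv (N.equivMapOfInjective e.toMonoidHom e.injective) hnil⟩
  · unfold Cfsg.fittingSubgroup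
    apply sSup_le
    rintro N ⟨hN, hnil⟩
    have h1 : N.map e.symm.toMonoidHom ≤ sSup {N : Subgroup A | N.Normal ∧ Group.IsNilpotent ↥N} := by
      apply le_sSup
      exact ⟨hN.map e.symm.toMonoidHom e.symm.surjective,
        isNilpotent_of_mulEquiv (N.equivMapOfInjective e.symm.toMonoidHom e.symm.injective) hnil⟩
    intro x hx
    refine ⟨e.symm x, h1 ⟨x, hx, rfl⟩, ?_⟩
    simp

/-- The Fitting subgroup of a subnormal subgroup lies in the Fitting subgroup. -/
theorem fittingSubgroup_subnormal_le [Finite G] (K : Subgroup G) (hK : K.IsSubnormal) :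
    (Cfsg.fittingSubgroup ↥K).map K.subtype ≤ Cfsg.fittingSubgroup G := by
  induction hK with
  | top =>
    have := fittingSubgroup_map_equiv (Subgroup.topEquiv (G := G))
    rw [← this]
    exact le_of_eq rfl
  | step H K h_le hSubn hN ih =>
    refine le_trans ?_ ih
    -- `H.subgroupOf K` is normal in `K`
    have h1 := fittingSubgroup_normal_le (H.subgroupOf K)
    have e : ↥(H.subgroupOf K) ≃* ↥H := Subgroup.subgroupOfEquivOfLe h_le
    have h2 := fittingSubgroup_map_equiv (Subgroup.subgroupOfEquivOfLe h_le)
    rw [← h2]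
    intro x hx
    obtain ⟨y, hy, rfl⟩ := hx
    obtain ⟨z, hz, rfl⟩ := hy
    refine ⟨(H.subgroupOf K).subtype z, h1 ⟨z, hz, rfl⟩, ?_⟩
    rfl

/-- A nilpotent subnormal subgroup lies in the Fitting subgroup. -/
theorem le_fittingSubgroup_of_subnormal_nilpotent [Finite G] (K : Subgroup G) (hK : K.IsSubnormal)
    (hnil : Group.IsNilpotent ↥K) : K ≤ Cfsg.fittingSubgroup G := by
  refine le_trans ?_ (fittingSubgroup_subnormal_le K hK)
  have : Cfsg.fittingSubgroup ↥K = ⊤ := by
    rw [eq_top_iff]
    apply le_fittingSubgroup inferInstance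
    exact isNilpotent_of_mulEquiv Subgroup.topEquiv.symm hnil
  rw [this]
  intro x hx
  exact ⟨⟨x, hx⟩, Subgroup.mem_top _, rfl⟩

/-- Key claim: a finite group whose Fitting subgroup is central and all of whose components are
central is abelian. -/
theorem center_eq_top_of_fitting_layer_central [Finite G]
    (hF : Cfsg.fittingSubgroup G ≤ Subgroup.center G)
    (hE : ∀ K : Subgroup G, Cfsg.IsComponent K → K ≤ Subgroup.center G) :
    Subgroup.center G = ⊤ := by
  by_contra hne
  let 𝒮 : Set (Subgroup G) := {X | X.IsSubnormal ∧ ¬ X ≤ Subgroup.center G}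
  have htop : (⊤ : Subgroup G) ∈ 𝒮 := ⟨Subgroup.IsSubnormal.top, fun h => hne (top_le_iff.mp h)⟩
  obtain ⟨X, -, hXmin⟩ := (Set.toFinite 𝒮).exists_le_minimal htop
  obtain ⟨hXsn, hXnc⟩ := hXmin.prop
  -- proper subnormal subgroups of `X` are central in `G`
  have hprop : ∀ Y : Subgroup G, Y.IsSubnormal → Y ≤ X → Y ≠ X → Y ≤ Subgroup.center G := by
    intro Y hY hYX hne'
    by_contra hYc
    exact hne' (le_antisymm hYX (hXmin.le_of_le ⟨hY, hYc⟩ hYX))
  -- `X` is not nilpotent
  have hXnil : ¬ Group.IsNilpotent ↥X := fun hnil =>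
    hXnc ((le_fittingSubgroup_of_subnormal_nilpotent X hXsn hnil).trans hF)
  -- the central quotient of `X` is simple non-abelian
  have hnc : ¬ IsMulCommutative (↥X ⧸ Subgroup.center ↥X) := by
    intro hc
    apply hXnil
    have : Group.IsNilpotent (↥X ⧸ Subgroup.center ↥X) := by
      open scoped IsMulCommutative in infer_instance
    exact Subgroup.isNilpotent_of_ker_le_center (QuotientGroup.mk' (Subgroup.center ↥X))
      (by rw [QuotientGroup.ker_mk'])
  have hsimple : IsSimpleGroup (↥X ⧸ Subgroup.center ↥X) := by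
    have hnt : Nontrivial (↥X ⧸ Subgroup.center ↥X) := by
      by_contra hnt
      rw [not_nontrivial_iff_subsingleton] at hnt
      apply hnc
      exact ⟨⟨fun a b => Subsingleton.elim _ _⟩⟩
    refine ⟨fun N hN => ?_⟩
    by_cases htop' : N.comap (QuotientGroup.mk' (Subgroup.center ↥X)) = ⊤
    · right
      rw [eq_top_iff]
      intro y _
      obtain ⟨x, rfl⟩ := QuotientGroup.mk'_surjective (Subgroup.center ↥X) y
      have : x ∈ N.comap (QuotientGroup.mk' (Subgroup.center ↥X)) := by rw [htop']; trivial
      exact this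
    · left
      set M := N.comap (QuotientGroup.mk' (Subgroup.center ↥X)) with hM
      have hMn : M.Normal := hN.comap _
      have hMsn : (M.map X.subtype).IsSubnormal := hMn.isSubnormal.trans' hXsn
      have hMX : M.map X.subtype ≤ X := by
        rintro _ ⟨x, -, rfl⟩; exact x.2
      have hMne : M.map X.subtype ≠ X := by
        intro h
        apply htop'
        rw [eq_top_iff]
        intro x _
        have : (x : G) ∈ M.map X.subtype := by rw [h]; exact x.2
        obtain ⟨y, hy, hyx⟩ := this
        have : y = x := Subtype.ext hyx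
        rw [← this]; exact hy
      have hMc := hprop _ hMsn hMX hMne
      rw [eq_bot_iff]
      intro y hy
      obtain ⟨x, rfl⟩ := QuotientGroup.mk'_surjective (Subgroup.center ↥X) y
      have hxM : x ∈ M := hy
      have hxc : (x : G) ∈ Subgroup.center G := hMc ⟨x, hxM, rfl⟩
      rw [Subgroup.mem_bot]
      rw [QuotientGroup.mk'_apply, QuotientGroup.eq_one_iff, Subgroup.mem_center_iff]
      intro g
      apply Subtype.ext
      exact Subgroup.mem_center_iff.mp hxc g
  obtain ⟨-, hq⟩ := quasisimple_commutator_of_central_quotient_simple hsimple hnc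
  -- `X'` is a component of `G`
  have hcomp : Cfsg.IsComponent ((commutator ↥X).map X.subtype) := by
    refine ⟨(inferInstance : (commutator ↥X).Normal).isSubnormal.trans' hXsn, ?_⟩
    exact isQuasisimple_of_mulEquiv
      ((commutator ↥X).equivMapOfInjective X.subtype X.subtype_injective) hq
  apply component_not_commutative hcomp
  intro a ha b hb
  exact (Subgroup.mem_center_iff.mp (hE _ hcomp hb) a)

end Cfsg.Agent.Helper2
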