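import Mathlib
import Cfsg.Agent.Helper2.Layer2

set_option autoImplicit false

namespace Cfsg.Agent.Helper2

open Cfsg.Agent.Helper1

variable {G : Type*} [Group G]

/-- `C_G(F*(G)) ≤ F*(G)`. -/
theorem centralizer_generalizedFittingSubgroup_le [Finite G] :
    Subgroup.centralizer (Cfsg.generalizedFittingSubgroup G : Set G) ≤
      Cfsg.generalizedFittingSubgroup G := by
  set C := Subgroup.centralizer (Cfsg.generalizedFittingSubgroup G : Set G) with hC
  have hCn : C.Normal := Subgroup.normal_centralizer
  have key : ∀ x : ↥C, (x : G) ∈ Cfsg.generalizedFittingSubgroup G → x ∈ Subgroup.center ↥C := by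
    intro x hx
    rw [Subgroup.mem_center_iff]
    intro c
    apply Subtype.ext
    have := Subgroup.mem_centralizer_iff.mp c.2 x hx
    exact this.symm
  have hcenter : Subgroup.center ↥C = ⊤ := by
    apply center_eq_top_of_fitting_layer_central
    · intro x hx
      apply key
      apply fittingSubgroup_le_generalizedFittingSubgroup
      exact fittingSubgroup_normal_le C ⟨x, hx, rfl⟩
    · intro K hK x hx
      apply key
      apply layer_le_generalizedFittingSubgroup
      have := (isComponent_map_subtype_iff C hCn.isSubnormal K).mp hK
      exact component_le_layer this ⟨x, hx, rfl⟩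
  have hnil : Group.IsNilpotent ↥C := by
    have : IsMulCommutative ↥C := ⟨⟨fun a b => by
      have : a ∈ Subgroup.center ↥C := by rw [hcenter]; trivial
      exact (Subgroup.mem_center_iff.mp this b).symm⟩⟩
    open scoped IsMulCommutative in infer_instance
  exact (le_fittingSubgroup hCn hnil).trans fittingSubgroup_le_generalizedFittingSubgroup

/-- A normal subgroup containing `F(X)` and its own centralizer contains `F*(X)`. -/
theorem generalizedFittingSubgroup_le_of_centralizer_le [Finite G] (Y : Subgroup G) [Y.Normal]
    (hF : Cfsg.fittingSubgroup G ≤ Y) (hC : Subgroup.centralizer (Y : Set G) ≤ Y) :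
    Cfsg.generalizedFittingSubgroup G ≤ Y := by
  apply sup_le _ hF
  apply sSup_le
  intro K hK
  rcases component_le_or_commutator_eq_bot K Y hK (by rw [Subgroup.normalizer_eq_top]; exact le_top)
    with h | h
  · exact h
  · rw [Subgroup.commutator_eq_bot_iff_le_centralizer] at h
    exact h.trans hC

theorem layer_eq_bot_iff [Finite G] :
    Subgroup.centralizer (Cfsg.fittingSubgroup G : Set G) ≤ Cfsg.fittingSubgroup G ↔
      Cfsg.layer G = ⊥ := by
  constructor
  · intro h
    rw [eq_bot_iff]
    apply sSup_le
    intro K hK
    exfalso
    have h1 : ⁅K, Cfsg.fittingSubgroup G⁆ = ⊥ :=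
      component_commutator_solvable_eq_bot K _ hK fittingSubgroup_isSolvable
        (by rw [Subgroup.normalizer_eq_top]; exact le_top)
    rw [Subgroup.commutator_eq_bot_iff_le_centralizer] at h1
    have h2 : K ≤ Cfsg.fittingSubgroup G := h1.trans h
    apply component_not_solvable hK
    have : Group.IsSolvable ↥(Cfsg.fittingSubgroup G) := fittingSubgroup_isSolvable
    exact Group.isSolvable_of_isSolvable_injective (Subgroup.inclusion_injective h2)
  · intro h
    have : Cfsg.generalizedFittingSubgroup G = Cfsg.fittingSubgroup G := by
      unfold Cfsg.generalizedFittingSubgroup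
      rw [h, bot_sup_eq]
    have h2 := centralizer_generalizedFittingSubgroup_le (G := G)
    rw [this] at h2
    exact h2

end Cfsg.Agent.Helper2
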