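import Mathlib
import Cfsg.Agent.Helper2.Layer3

set_option autoImplicit false

namespace Cfsg.Agent.Helper2

open Cfsg.Agent.Helper1

variable {G : Type*} [Group G]

theorem layer_perfect : ⁅Cfsg.layer G, Cfsg.layer G⁆ = Cfsg.layer G := by
  apply le_antisymm
  · exact Subgroup.commutator_le_left _ _
  · apply sSup_le
    intro K hK
    calc K = ⁅K, K⁆ := (component_perfect hK).symm
      _ ≤ ⁅Cfsg.layer G, Cfsg.layer G⁆ :=
        Subgroup.commutator_mono (component_le_layer hK) (component_le_layer hK)

/-- elementwise form of `[E, F] = 1` -/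
theorem layer_commute_fitting [Finite G] {x y : G} (hx : x ∈ Cfsg.layer G)
    (hy : y ∈ Cfsg.fittingSubgroup G) : x * y = y * x := by
  have h := layer_commutator_fittingSubgroup (G := G)
  rw [Subgroup.commutator_eq_bot_iff_le_centralizer] at h
  exact (Subgroup.mem_centralizer_iff.mp (h hx) y hy).symm

/-- `Z(E(X)) = F(X) ∩ E(X)`. -/
theorem center_layer_eq [Finite G] :
    (Subgroup.center ↥(Cfsg.layer G)).map (Cfsg.layer G).subtype =
      Cfsg.fittingSubgroup G ⊓ Cfsg.layer G := by
  apply le_antisymm
  · apply le_inf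
    · apply le_fittingSubgroup inferInstance
      have : IsMulCommutative ↥((Subgroup.center ↥(Cfsg.layer G)).map (Cfsg.layer G).subtype) :=
        inferInstance
      open scoped IsMulCommutative in infer_instance
    · rintro _ ⟨x, -, rfl⟩; exact x.2
  · intro x hx
    obtain ⟨hxF, hxE⟩ := Subgroup.mem_inf.mp hx
    refine ⟨⟨x, hxE⟩, ?_, rfl⟩
    rw [SetLike.mem_coe, Subgroup.mem_center_iff]
    intro g
    apply Subtype.ext
    exact layer_commute_fitting g.2 hxF

/-- The derived series of a subgroup, computed in the ambient group. -/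
theorem map_derivedSeries_succ (H : Subgroup G) (n : ℕ) :
    (derivedSeries ↥H (n + 1)).map H.subtype =
      ⁅(derivedSeries ↥H n).map H.subtype, (derivedSeries ↥H n).map H.subtype⁆ := by
  rw [derivedSeries_succ, Subgroup.map_commutator]

theorem layer_le_map_derivedSeries (H : Subgroup G) (hH : Cfsg.layer G ≤ H) (n : ℕ) :
    Cfsg.layer G ≤ (derivedSeries ↥H n).map H.subtype := by
  induction n with
  | zero =>
    rw [derivedSeries_zero]
    intro x hx
    exact ⟨⟨x, hH hx⟩, Subgroup.mem_top _, rfl⟩
  | succ n ih =>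
    rw [map_derivedSeries_succ, ← layer_perfect]
    exact Subgroup.commutator_mono ih ih

/-- `E(X)` is the last term of the derived series of `F*(X)`. -/
theorem iInf_derivedSeries_generalizedFittingSubgroup [Finite G] :
    (⨅ n : ℕ, (derivedSeries ↥(Cfsg.generalizedFittingSubgroup G) n).map
      (Cfsg.generalizedFittingSubgroup G).subtype) = Cfsg.layer G := by
  apply le_antisymm
  · -- the quotient `F* / E` is solvable
    set Fs := Cfsg.generalizedFittingSubgroup G with hFs
    set E' := (Cfsg.layer G).subgroupOf Fs with hE'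
    have hE'n : E'.Normal := inferInstance
    let f : ↥(Cfsg.fittingSubgroup G) →* ↥Fs ⧸ E' :=
      (QuotientGroup.mk' E').comp (Subgroup.inclusion fittingSubgroup_le_generalizedFittingSubgroup)
    have hf : Function.Surjective f := by
      intro y
      obtain ⟨x, rfl⟩ := QuotientGroup.mk'_surjective E' y
      have hx : (x : G) ∈ ((Cfsg.layer G ⊔ Cfsg.fittingSubgroup G : Subgroup G) : Set G) := x.2
      rw [Subgroup.normal_mul] at hx
      obtain ⟨e, he, u, hu, heu⟩ := hx
      refine ⟨⟨u, hu⟩, ?_⟩
      change ((Subgroup.inclusion fittingSubgroup_le_generalizedFittingSubgroup ⟨u, hu⟩ : ↥Fs) :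
        ↥Fs ⧸ E') = (x : ↥Fs ⧸ E')
      rw [QuotientGroup.eq, hE', Subgroup.mem_subgroupOf]
      simp only [Subgroup.coe_mul, Subgroup.coe_inv, Subgroup.coe_inclusion]
      rw [← heu]
      have hnorm : (Cfsg.layer G).Normal := inferInstance
      have := hnorm.conj_mem e he u⁻¹
      simpa [mul_assoc] using this
    have hsolv : Group.IsSolvable (↥Fs ⧸ E') := by
      have := fittingSubgroup_isSolvable (G := G)
      exact Group.isSolvable_of_surjective hf
    obtain ⟨n, hn⟩ := hsolv.solvable
    refine iInf_le_of_le n ?_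
    have h1 := map_derivedSeries_eq (f := QuotientGroup.mk' E') (QuotientGroup.mk'_surjective E') n
    rw [hn, Subgroup.map_eq_bot_iff, QuotientGroup.ker_mk'] at h1
    rintro _ ⟨x, hx, rfl⟩
    exact Subgroup.mem_subgroupOf.mp (h1 hx)
  · apply le_iInf
    intro n
    exact layer_le_map_derivedSeries _ layer_le_generalizedFittingSubgroup n

/-- A subnormal subgroup which is its own layer lies in, and is normalized by, the layer. -/
theorem subnormal_layer_top [Finite G] (A : Subgroup G) (hsn : A.IsSubnormal)
    (hA : Cfsg.layer ↥A = ⊤) :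
    A ≤ Cfsg.layer G ∧ (A.subgroupOf (Cfsg.layer G)).Normal := by
  have h1 : A ≤ Cfsg.layer G := by
    intro x hx
    have hx' : (⟨x, hx⟩ : ↥A) ∈ Cfsg.layer ↥A := by rw [hA]; trivial
    have hle : Cfsg.layer ↥A ≤ (Cfsg.layer G).comap A.subtype := by
      apply sSup_le
      intro K hK
      have := (isComponent_map_subtype_iff A hsn K).mp hK
      intro y hy
      exact component_le_layer this ⟨y, hy, rfl⟩
    exact hle hx'
  refine ⟨h1, ?_⟩
  rw [Subgroup.normal_subgroupOf_iff_le_normalizer h1]
  apply sSup_le
  intro L hL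
  rcases component_le_or_commutator_eq_bot_of_isSubnormal L A hL hsn with h | h
  · exact h.trans Subgroup.le_normalizer
  · rw [Subgroup.commutator_eq_bot_iff_le_centralizer] at h
    exact h.trans (Subgroup.centralizer_le_normalizer _)

end Cfsg.Agent.Helper2
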