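import Mathlib
import Cfsg.Agent.Helper2.Layer4

set_option autoImplicit false

namespace Cfsg.Agent.Helper2

open Cfsg.Agent.Helper1

variable {G : Type*} [Group G]

/-- The derived series of a subgroup computed inside the ambient group. -/
def dser (N : Subgroup G) : ℕ → Subgroup G
  | 0 => N
  | k + 1 => ⁅dser N k, dser N k⁆

theorem map_derivedSeries_eq_dser (N : Subgroup G) (k : ℕ) :
    (derivedSeries ↥N k).map N.subtype = dser N k := by
  induction k with
  | zero =>
    rw [derivedSeries_zero, dser]
    ext x
    constructor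
    · rintro ⟨y, -, rfl⟩; exact y.2
    · intro hx; exact ⟨⟨x, hx⟩, Subgroup.mem_top _, rfl⟩
  | succ k ih => rw [map_derivedSeries_succ, ih, dser]

theorem dser_le (N : Subgroup G) (k : ℕ) : dser N k ≤ N := by
  rw [← map_derivedSeries_eq_dser]
  rintro _ ⟨y, -, rfl⟩; exact y.2

theorem normalizer_le_normalizer_commutator (A : Subgroup G) :
    Subgroup.normalizer (A : Set G) ≤ Subgroup.normalizer ((⁅A, A⁆ : Subgroup G) : Set G) := by
  intro c hc
  rw [mem_normalizer_iff_cj] at hc ⊢
  rw [cj, Subgroup.map_commutator]
  change ⁅cj c A, cj c A⁆ = _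
  rw [hc]

theorem normalizer_le_normalizer_dser (N : Subgroup G) (k : ℕ) :
    Subgroup.normalizer (N : Set G) ≤ Subgroup.normalizer (dser N k : Set G) := by
  induction k with
  | zero => exact le_rfl
  | succ k ih => exact ih.trans (normalizer_le_normalizer_commutator _)

theorem commutator_subtype_le (M : Subgroup G) :
    (commutator ↥M).map M.subtype = ⁅M, M⁆ := by
  have := map_derivedSeries_eq_dser M 1
  rw [dser, dser] at this
  rw [← this, derivedSeries_one]

/-- Step lemma for `S1264`. -/
theorem le_fitting_of_commutator_le [Finite G] (M : Subgroup G)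
    (hM : M ≤ Subgroup.centralizer (Cfsg.fittingSubgroup G : Set G))
    (hnorm : Subgroup.centralizer (Cfsg.fittingSubgroup G : Set G) ≤
      Subgroup.normalizer (M : Set G))
    (hcomm : ⁅M, M⁆ ≤ Cfsg.fittingSubgroup G) : M ≤ Cfsg.fittingSubgroup G := by
  set C := Subgroup.centralizer (Cfsg.fittingSubgroup G : Set G) with hC
  have hCn : C.Normal := Subgroup.normal_centralizer
  have hnil : Group.IsNilpotent ↥M := by
    apply Subgroup.isNilpotent_of_ker_le_center (Abelianization.of (G := ↥M))
    rw [Abelianization.ker_of]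
    intro x hx
    have hxF : (x : G) ∈ Cfsg.fittingSubgroup G := by
      apply hcomm
      rw [← commutator_subtype_le]
      exact ⟨x, hx, rfl⟩
    rw [Subgroup.mem_center_iff]
    intro m
    apply Subtype.ext
    exact Subgroup.mem_centralizer_iff.mp (hM m.2) x hxF |>.symm
  have hMn : (M.subgroupOf C).Normal := (Subgroup.normal_subgroupOf_iff_le_normalizer hM).mpr hnorm
  have hnil' : Group.IsNilpotent ↥(M.subgroupOf C) :=
    isNilpotent_of_mulEquiv (Subgroup.subgroupOfEquivOfLe hM).symm hnil
  have h1 : M.subgroupOf C ≤ Cfsg.fittingSubgroup ↥C := le_fittingSubgroup hMn hnil'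
  intro x hx
  apply fittingSubgroup_normal_le C
  exact ⟨⟨x, hM hx⟩, h1 (Subgroup.mem_subgroupOf.mpr hx), rfl⟩

/-- `S1264`: a solvable subgroup of `C_G(F(G))` normalized by `C_G(F(G))` lies in `Z(F(G))`. -/
theorem solvable_le_center_fitting [Finite G] (N : Subgroup G)
    (hN : N ≤ Subgroup.centralizer (Cfsg.fittingSubgroup G : Set G))
    (hnorm : Subgroup.centralizer (Cfsg.fittingSubgroup G : Set G) ≤
      Subgroup.normalizer (N : Set G))
    (hsolv : Group.IsSolvable ↥N) :
    N ≤ (Subgroup.center ↥(Cfsg.fittingSubgroup G)).map (Cfsg.fittingSubgroup G).subtype := by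
  have hstep : ∀ k, dser N (k + 1) ≤ Cfsg.fittingSubgroup G → dser N k ≤ Cfsg.fittingSubgroup G := by
    intro k hk
    apply le_fitting_of_commutator_le _ ((dser_le N k).trans hN)
      (hnorm.trans (normalizer_le_normalizer_dser N k))
    exact hk
  have hall : ∀ m, dser N m ≤ Cfsg.fittingSubgroup G → dser N 0 ≤ Cfsg.fittingSubgroup G := by
    intro m
    induction m with
    | zero => exact id
    | succ m ih => exact fun h => ih (hstep m h)
  obtain ⟨m, hm⟩ := hsolv.solvable
  have hNF : N ≤ Cfsg.fittingSubgroup G := by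
    have := hall m (by rw [← map_derivedSeries_eq_dser, hm, Subgroup.map_bot]; exact bot_le)
    exact this
  intro x hx
  refine ⟨⟨x, hNF hx⟩, ?_, rfl⟩
  rw [SetLike.mem_coe, Subgroup.mem_center_iff]
  intro g
  apply Subtype.ext
  exact Subgroup.mem_centralizer_iff.mp (hN hx) g g.2

/-- Induction step for `Z(E(G))`. -/
theorem central_prod_induction (s : Finset (Subgroup G)) :
    (∀ K ∈ s, Cfsg.IsComponent K) → ∀ z ∈ (⨆ K ∈ s, K), (∀ K ∈ s, ∀ x ∈ K, z * x = x * z) →
      z ∈ (⨆ L : {K : Subgroup G // Cfsg.IsComponent K},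
        (Subgroup.center ↥(L : Subgroup G)).map (L : Subgroup G).subtype) := by
  classical
  induction s using Finset.induction_on with
  | empty =>
    intro _ z hz _
    simp only [Finset.notMem_empty, iSup_false, iSup_bot, Subgroup.mem_bot] at hz
    rw [hz]; exact Subgroup.one_mem _
  | insert L s hLs ih =>
    intro hcomp z hz hcent
    rw [Finset.iSup_insert] at hz
    have hL : Cfsg.IsComponent L := hcomp L (Finset.mem_insert_self L s)
    have hs : ∀ K ∈ s, Cfsg.IsComponent K := fun K hK => hcomp K (Finset.mem_insert_of_mem hK)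
    have hE' : (⨆ K ∈ s, K) ≤ Subgroup.centralizer (L : Set G) := by
      apply iSup₂_le
      intro K hK
      rw [← Subgroup.commutator_eq_bot_iff_le_centralizer, Subgroup.commutator_comm]
      apply components_commute hL (hs K hK)
      rintro rfl
      exact hLs hK
    have hcoe := Subgroup.coe_mul_of_right_le_normalizer_left L (⨆ K ∈ s, K)
      (hE'.trans (Subgroup.centralizer_le_normalizer _))
    have hz' : z ∈ ((L ⊔ ⨆ K ∈ s, K : Subgroup G) : Set G) := hz
    rw [hcoe] at hz'
    obtain ⟨l, hl, e, he, rfl⟩ := hz'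
    have hl' : l ∈ L := hl
    have he' : e ∈ ⨆ K ∈ s, K := he
    have heL : ∀ x ∈ L, x * e = e * x := fun x hx =>
      Subgroup.mem_centralizer_iff.mp (hE' he') x hx
    have hlc : ∀ x ∈ L, l * x = x * l := by
      intro x hx
      have h1 := hcent L (Finset.mem_insert_self L s) x hx
      have h2 := heL x hx
      calc l * x = (l * e * x) * e⁻¹ := by rw [mul_assoc l e x, ← h2]; group
        _ = (x * (l * e)) * e⁻¹ := by rw [h1]
        _ = x * l := by group
    have hlZ : l ∈ (⨆ L : {K : Subgroup G // Cfsg.IsComponent K},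
        (Subgroup.center ↥(L : Subgroup G)).map (L : Subgroup G).subtype) := by
      apply le_iSup (fun L : {K : Subgroup G // Cfsg.IsComponent K} =>
        (Subgroup.center ↥(L : Subgroup G)).map (L : Subgroup G).subtype) ⟨L, hL⟩
      refine ⟨⟨l, hl'⟩, ?_, rfl⟩
      rw [SetLike.mem_coe, Subgroup.mem_center_iff]
      intro g
      apply Subtype.ext
      exact (hlc g g.2).symm
    have heZ := ih hs e he' (by
      intro K hK x hx
      have h1 := hcent K (Finset.mem_insert_of_mem hK) x hx
      have hKL : ⁅L, K⁆ = ⊥ := by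
        apply components_commute hL (hs K hK)
        rintro rfl
        exact hLs hK
      rw [Subgroup.commutator_eq_bot_iff_le_centralizer] at hKL
      have h2 : x * l = l * x := Subgroup.mem_centralizer_iff.mp (hKL hl') x hx
      calc e * x = l⁻¹ * (l * e * x) := by group
        _ = l⁻¹ * (x * (l * e)) := by rw [h1]
        _ = l⁻¹ * (x * l) * e := by group
        _ = x * e := by rw [h2]; group)
    exact Subgroup.mul_mem _ hlZ heZ

/-- `S1263`: `Z(E(G))` is generated by the centres of the components. -/
theorem center_layer_eq_iSup [Finite G] :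
    (Subgroup.center ↥(Cfsg.layer G)).map (Cfsg.layer G).subtype =
      ⨆ L : {K : Subgroup G // Cfsg.IsComponent K},
        (Subgroup.center ↥(L : Subgroup G)).map (L : Subgroup G).subtype := by
  classical
  apply le_antisymm
  · rintro _ ⟨z, hz, rfl⟩
    set S := (Set.toFinite {K : Subgroup G | Cfsg.IsComponent K}).toFinset with hS
    have hle : Cfsg.layer G ≤ ⨆ K ∈ S, K := by
      apply sSup_le
      intro K hK
      exact le_iSup₂_of_le K (by rw [hS, Set.Finite.mem_toFinset]; exact hK) le_rfl
    apply central_prod_induction S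
    · intro K hK
      rw [hS, Set.Finite.mem_toFinset] at hK
      exact hK
    · exact hle z.2
    · intro K hK x hx
      rw [hS, Set.Finite.mem_toFinset] at hK
      have hz' := Subgroup.mem_center_iff.mp hz ⟨x, component_le_layer hK hx⟩
      exact (congrArg Subtype.val hz').symm
  · apply iSup_le
    rintro ⟨L, hL⟩
    rintro _ ⟨z, hz, rfl⟩
    have hcent : Cfsg.layer G ≤ Subgroup.centralizer {(z : G)} := by
      apply sSup_le
      intro K hK x hx
      rw [Subgroup.mem_centralizer_singleton_iff]
      by_cases hKL : K = L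
      · subst hKL
        have := Subgroup.mem_center_iff.mp hz ⟨x, hx⟩
        exact congrArg Subtype.val this
      · have h1 : ⁅K, L⁆ = ⊥ := components_commute hK hL hKL
        rw [Subgroup.commutator_eq_bot_iff_le_centralizer] at h1
        exact (Subgroup.mem_centralizer_iff.mp (h1 hx) z z.2).symm
    refine ⟨⟨z, component_le_layer hL z.2⟩, ?_, rfl⟩
    rw [SetLike.mem_coe, Subgroup.mem_center_iff]
    intro g
    apply Subtype.ext
    have := hcent g.2
    rw [Subgroup.mem_centralizer_singleton_iff] at this
    exact this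

end Cfsg.Agent.Helper2
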