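import Mathlib
import Cfsg.Agent.Helper5.AxB
import Cfsg.Agent.Helper5.CharP
import Cfsg.Agent.Helper5.CharP2
import Cfsg.Agent.Helper2.Layer5

set_option autoImplicit false

namespace Cfsg.Agent.Helper2

open Cfsg.Agent.Helper1 Cfsg.Agent.Helper5

variable {G : Type*} [Group G]

/-- Local inheritance of characteristic `p`: normalizers of `p`-subgroups. -/
theorem hasCharP_normalizer [Finite G] {p : ℕ} [Fact p.Prime] (hG : HasCharP p G)
    (P : Subgroup G) (hP : IsPGroup p P) :
    HasCharP p ↥(Subgroup.normalizer (P : Set G)) := by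
  set N := Subgroup.normalizer (P : Set G) with hN
  apply hasCharP_of_pprime_elements
  intro c hc hcop
  have hcop' : (orderOf (c : G)).Coprime p := by rwa [Subgroup.orderOf_coe]
  rw [mem_centralizer_pCore_iff] at hc
  -- `P` and `Q ∩ N` lie in `O_p(N)`
  have hPN : P ≤ N := Subgroup.le_normalizer
  have h1 : P ≤ (Cfsg.pCore p ↥N).map N.subtype :=
    le_pCore_map_subtype N P hPN hP le_rfl
  have h2 : Cfsg.pCore p G ⊓ N ≤ (Cfsg.pCore p ↥N).map N.subtype := by
    apply le_pCore_map_subtype N _ inf_le_right ((isPGroup_pCore p).to_le inf_le_left)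
    intro n hn
    apply mem_normalizer_inf
    · rw [Subgroup.normalizer_eq_top]; trivial
    · exact Subgroup.le_normalizer hn
  have hcP : (c : G) ∈ Subgroup.centralizer (P : Set G) := by
    rw [Subgroup.mem_centralizer_iff] at hc ⊢
    intro x hx
    exact hc x (h1 hx)
  have key := thompson_AxB P hP (c : G) hcop' hcP (Cfsg.pCore p G) (isPGroup_pCore p)
    (by rw [Subgroup.normalizer_eq_top]; trivial)
    (by rw [Subgroup.normalizer_eq_top]; exact le_top)
    (by
      intro r hr hrP
      have hrN : r ∈ N := Subgroup.centralizer_le_normalizer _ hrP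
      exact (Subgroup.mem_centralizer_iff.mp hc r (h2 (Subgroup.mem_inf.mpr ⟨hr, hrN⟩))).symm)
  have hcQ : (c : G) ∈ Subgroup.centralizer (Cfsg.pCore p G : Set G) := by
    rw [Subgroup.mem_centralizer_iff]
    intro r hr
    exact (key r hr).symm
  have := eq_one_of_coprime_of_mem_pgroup (Cfsg.pCore p G) (isPGroup_pCore p) (c : G) (hG hcQ) hcop'
  exact Subtype.ext (by simpa using this)

/-- Normal subgroups (stated inside the ambient group) inherit characteristic `p`. -/
theorem hasCharP_of_le_normalizer [Finite G] {p : ℕ} [Fact p.Prime] (A B : Subgroup G) (hAB : A ≤ B)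
    (hBA : B ≤ Subgroup.normalizer (A : Set G)) (hB : HasCharP p ↥B) : HasCharP p ↥A := by
  have hn : (A.subgroupOf B).Normal := (Subgroup.normal_subgroupOf_iff_le_normalizer hAB).mpr hBA
  have h1 : HasCharP p ↥(A.subgroupOf B) := hB.of_normal (A.subgroupOf B)
  exact h1.of_equiv (Subgroup.subgroupOfEquivOfLe hAB)

/-- Normalizers of `p`-subgroups inside a subgroup of characteristic `p`. -/
theorem hasCharP_inf_normalizer [Finite G] {p : ℕ} [Fact p.Prime] (B P : Subgroup G) (hPB : P ≤ B)
    (hP : IsPGroup p P) (hB : HasCharP p ↥B) :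
    HasCharP p ↥(B ⊓ Subgroup.normalizer (P : Set G)) := by
  have h1 := hasCharP_normalizer hB (P.subgroupOf B) hP.comap_subtype
  rw [← Subgroup.subgroupOf_normalizer_eq hPB] at h1
  have e : ↥((Subgroup.normalizer (P : Set G)).subgroupOf B) ≃*
      ↥(B ⊓ Subgroup.normalizer (P : Set G)) := by
    have h2 : (Subgroup.normalizer (P : Set G)).subgroupOf B =
        (B ⊓ Subgroup.normalizer (P : Set G)).subgroupOf B := by
      rw [inf_comm, Subgroup.inf_subgroupOf_right]
    rw [h2]
    exact Subgroup.subgroupOfEquivOfLe inf_le_left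
  exact h1.of_equiv e

theorem isSolvable_pCore [Finite G] (p : ℕ) [Fact p.Prime] :
    Group.IsSolvable ↥(Cfsg.pCore p G) := by
  have : Group.IsNilpotent ↥(Cfsg.pCore p G) := (isPGroup_pCore p).isNilpotent
  infer_instance

/-- `F*(G) = O_p(G)` iff `C_G(O_p(G)) ≤ O_p(G)`. -/
theorem generalizedFittingSubgroup_eq_pCore_iff [Finite G] (p : ℕ) [hp : Fact p.Prime] :
    Cfsg.generalizedFittingSubgroup G = Cfsg.pCore p G ↔ HasCharP p G := by
  constructor
  · intro h
    unfold HasCharP
    rw [← h]
    exact centralizer_generalizedFittingSubgroup_le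
  · intro h
    have hE : Cfsg.layer G = ⊥ := by
      rw [eq_bot_iff]
      apply sSup_le
      intro K hK
      exfalso
      have h1 : ⁅K, Cfsg.pCore p G⁆ = ⊥ :=
        component_commutator_solvable_eq_bot K _ hK (isSolvable_pCore p)
          (by rw [Subgroup.normalizer_eq_top]; exact le_top)
      rw [Subgroup.commutator_eq_bot_iff_le_centralizer] at h1
      have h2 : K ≤ Cfsg.pCore p G := h1.trans h
      apply component_not_solvable hK
      have := isSolvable_pCore (G := G) p
      exact Group.isSolvable_of_isSolvable_injective (Subgroup.inclusion_injective h2)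
    have hF : Cfsg.fittingSubgroup G = Cfsg.pCore p G := by
      apply le_antisymm
      · rw [fittingSubgroup_eq_fitJoin]
        apply iSup_le
        intro q
        by_cases hqp : (q : ℕ) = p
        · rw [hqp]
        · have hq : Fact (q : ℕ).Prime := ⟨q.2⟩
          have hdisj : Disjoint (Cfsg.pCore (q : ℕ) G) (Cfsg.pCore p G) :=
            IsPGroup.disjoint_of_ne _ _ hqp _ _ (Cfsg.Agent.Helper5.isPGroup_pCore _) (Cfsg.Agent.Helper5.isPGroup_pCore _)
          have hcomm : ⁅Cfsg.pCore (q : ℕ) G, Cfsg.pCore p G⁆ = ⊥ := by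
            rw [eq_bot_iff]
            exact (Subgroup.commutator_le_inf _ _).trans (le_of_eq (disjoint_iff.mp hdisj))
          rw [Subgroup.commutator_eq_bot_iff_le_centralizer] at hcomm
          have h3 : Cfsg.pCore (q : ℕ) G ≤ Cfsg.pCore p G := hcomm.trans h
          have : Cfsg.pCore (q : ℕ) G ≤ ⊥ := by
            rw [← disjoint_iff.mp hdisj]
            exact le_inf le_rfl h3
          exact this.trans bot_le
      · exact le_fittingSubgroup inferInstance (isPGroup_pCore p).isNilpotent
    unfold Cfsg.generalizedFittingSubgroup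
    rw [hE, hF, bot_sup_eq]

theorem isPGroup_generalizedFittingSubgroup_iff [Finite G] (p : ℕ) [hp : Fact p.Prime] :
    IsPGroup p ↥(Cfsg.generalizedFittingSubgroup G) ↔ HasCharP p G := by
  constructor
  · intro h
    have h1 : Cfsg.generalizedFittingSubgroup G ≤ Cfsg.pCore p G := Cfsg.Agent.Helper5.le_pCore inferInstance h
    intro x hx
    apply h1
    apply centralizer_generalizedFittingSubgroup_le
    exact Subgroup.centralizer_le (SetLike.coe_subset_coe.mpr h1) hx
  · intro h
    rw [(generalizedFittingSubgroup_eq_pCore_iff p).mpr h]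
    exact isPGroup_pCore p

end Cfsg.Agent.Helper2
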