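import Mathlib
import Cfsg.Agent.Helper2.Layer5

set_option autoImplicit false

namespace Cfsg.Agent.Helper2

open Cfsg.Agent.Helper1
open scoped commutatorElement

variable {G : Type*} [Group G]

theorem conj_commutatorElement (x h k : G) : x * ⁅h, k⁆ * x⁻¹ = ⁅x * h, k⁆ * ⁅x, k⁆⁻¹ := by
  simp only [commutatorElement_def]; group

/-- `H` normalizes `⁅H, K⁆`. -/
theorem le_normalizer_commutator_left (H K : Subgroup G) :
    H ≤ Subgroup.normalizer ((⁅H, K⁆ : Subgroup G) : Set G) := by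
  have key : ∀ x ∈ H, cj x ⁅H, K⁆ ≤ ⁅H, K⁆ := by
    intro x hx
    rw [cj, Subgroup.map_le_iff_le_comap, Subgroup.commutator_def, Subgroup.closure_le]
    rintro _ ⟨h, hh, k, hk, rfl⟩
    rw [SetLike.mem_coe, Subgroup.mem_comap]
    change x * ⁅h, k⁆ * x⁻¹ ∈ _
    rw [conj_commutatorElement, ← Subgroup.commutator_def]
    exact Subgroup.mul_mem _ (Subgroup.commutator_mem_commutator (H.mul_mem hx hh) hk)
      (Subgroup.inv_mem _ (Subgroup.commutator_mem_commutator hx hk))
  intro x hx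
  rw [mem_normalizer_iff_cj]
  apply le_antisymm (key x hx)
  have := cj_mono (key x⁻¹ (H.inv_mem hx)) x
  rwa [cj_cj, mul_inv_cancel, cj_one] at this

/-- `S1321`: `E(X) = C_{E(X)}(U) [E(X), U]`. -/
theorem layer_eq_centralizer_sup_commutator [Finite G] (U : Subgroup G) :
    Cfsg.layer G = (Cfsg.layer G ⊓ Subgroup.centralizer (U : Set G)) ⊔ ⁅Cfsg.layer G, U⁆ ∧
      ⁅Cfsg.layer G, U⁆ ≤ Cfsg.layer G := by
  have hW : ⁅Cfsg.layer G, U⁆ ≤ Cfsg.layer G := Subgroup.commutator_le_left _ _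
  refine ⟨?_, hW⟩
  apply le_antisymm
  · apply sSup_le
    intro L hL
    have hLE : L ≤ Cfsg.layer G := component_le_layer hL
    by_cases hU : ∀ u ∈ U, cj u L = L
    · -- `U` normalizes `L`
      have hUN : U ≤ Subgroup.normalizer (L : Set G) := fun u hu =>
        (mem_normalizer_iff_cj L u).mpr (hU u hu)
      have hLU : ⁅L, U⁆ ≤ L := by
        rw [Subgroup.commutator_comm]
        exact commutator_le_of_le_normalizer hUN
      have hn : ((⁅L, U⁆ : Subgroup G).subgroupOf L).Normal :=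
        (Subgroup.normal_subgroupOf_iff_le_normalizer hLU).mpr (le_normalizer_commutator_left L U)
      rcases isSubnormal_quasisimple hL.2 _ hn.isSubnormal with h | h
      · rw [Subgroup.subgroupOf_eq_top] at h
        exact (h.trans (Subgroup.commutator_mono hLE le_rfl)).trans le_sup_right
      · -- `[L,U] ≤ Z(L)`
        have h1 : ⁅⁅U, L⁆, L⁆ = ⊥ := by
          rw [Subgroup.commutator_comm U L, Subgroup.commutator_eq_bot_iff_le_centralizer]
          intro w hw
          have hwL : w ∈ L := hLU hw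
          have hwc : (⟨w, hwL⟩ : ↥L) ∈ Subgroup.center ↥L := h (Subgroup.mem_subgroupOf.mpr hw)
          rw [Subgroup.mem_centralizer_iff]
          intro l hl
          have := Subgroup.mem_center_iff.mp hwc ⟨l, hl⟩
          exact congrArg Subtype.val this
        have h2 := commutator_eq_bot_of_commutator_commutator_eq_bot (component_perfect hL) h1
        rw [Subgroup.commutator_eq_bot_iff_le_centralizer] at h2
        -- h2 : U ≤ centralizer L
        refine le_trans ?_ le_sup_left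
        apply le_inf hLE
        intro l hl
        rw [Subgroup.mem_centralizer_iff]
        intro u hu
        exact (Subgroup.mem_centralizer_iff.mp (h2 hu) l hl).symm
    · push Not at hU
      obtain ⟨u, hu, hne⟩ := hU
      refine le_trans ?_ le_sup_right
      have hL' : Cfsg.IsComponent (cj u L) := isComponent_cj hL u
      have hcomm : ⁅L, cj u L⁆ = ⊥ := components_commute hL hL' (Ne.symm hne)
      rw [Subgroup.commutator_eq_bot_iff_le_centralizer] at hcomm
      rw [← component_perfect hL, Subgroup.commutator_le]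
      intro l hl m hm
      -- `⁅l, m⁆ = ⁅⁅l, u⁆, m⁆`
      have hl' : u * l⁻¹ * u⁻¹ ∈ cj u L := conj_mem_cj L u l⁻¹ (L.inv_mem hl)
      have hc1 : (u * l⁻¹ * u⁻¹) * m = m * (u * l⁻¹ * u⁻¹) :=
        Subgroup.mem_centralizer_iff.mp (hcomm hm) _ hl'
      have hw : ⁅l, u⁆ ∈ ⁅Cfsg.layer G, U⁆ :=
        Subgroup.commutator_mem_commutator (hLE hl) hu
      have hnorm : m ∈ Subgroup.normalizer ((⁅Cfsg.layer G, U⁆ : Subgroup G) : Set G) :=
        le_normalizer_commutator_left _ _ (hLE hm)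
      have hw2 : m * ⁅l, u⁆⁻¹ * m⁻¹ ∈ ⁅Cfsg.layer G, U⁆ :=
        (Subgroup.mem_normalizer_iff.mp hnorm _).mp (Subgroup.inv_mem _ hw)
      have heq : ⁅l, m⁆ = ⁅l, u⁆ * (m * ⁅l, u⁆⁻¹ * m⁻¹) := by
        have e1 : ⁅l, u⁆ = l * (u * l⁻¹ * u⁻¹) := by rw [commutatorElement_def]; group
        rw [e1, commutatorElement_def]
        calc l * m * l⁻¹ * m⁻¹ = l * (m * (u * l⁻¹ * u⁻¹)) * (u * l⁻¹ * u⁻¹)⁻¹ * l⁻¹ * m⁻¹ := by
              group
          _ = l * ((u * l⁻¹ * u⁻¹) * m) * (u * l⁻¹ * u⁻¹)⁻¹ * l⁻¹ * m⁻¹ := by rw [hc1]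
          _ = l * (u * l⁻¹ * u⁻¹) * (m * (l * (u * l⁻¹ * u⁻¹))⁻¹ * m⁻¹) := by group
      rw [heq]
      exact Subgroup.mul_mem _ hw hw2
  · exact sup_le inf_le_left hW

end Cfsg.Agent.Helper2
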