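import Mathlib
import Cfsg.Prelude.Def_Local
import Cfsg.Agent.Helper2.Layer5

set_option autoImplicit false

namespace Cfsg.Agent.Helper2

open Cfsg.Agent.Helper1

variable {G : Type*} [Group G]

/-! ### `O_{p'}` of subnormal subgroups -/

instance pPrimeCore_characteristic (p : ℕ) : (Cfsg.pPrimeCore p G).Characteristic := by
  apply sSup_characteristic
  rintro φ N ⟨hN, hcop⟩
  refine ⟨hN.map φ.toMonoidHom φ.surjective, ?_⟩
  rwa [Subgroup.card_map_of_injective φ.injective]

theorem pPrimeCore_map_equiv {A B : Type*} [Group A] [Group B] (p : ℕ) (e : A ≃* B) :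
    (Cfsg.pPrimeCore p A).map e.toMonoidHom = Cfsg.pPrimeCore p B := by
  apply le_antisymm
  · unfold Cfsg.pPrimeCore
    rw [(Subgroup.gc_map_comap e.toMonoidHom).l_sSup]
    apply iSup₂_le
    rintro N ⟨hN, hcop⟩
    apply le_sSup
    refine ⟨hN.map e.toMonoidHom e.surjective, ?_⟩
    rwa [Subgroup.card_map_of_injective e.injective]
  · unfold Cfsg.pPrimeCore
    apply sSup_le
    rintro N ⟨hN, hcop⟩
    have h1 : N.map e.symm.toMonoidHom ≤
        sSup {N : Subgroup A | N.Normal ∧ (Nat.card N).Coprime p} := by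
      apply le_sSup
      refine ⟨hN.map e.symm.toMonoidHom e.symm.surjective, ?_⟩
      rwa [Subgroup.card_map_of_injective e.symm.injective]
    intro x hx
    refine ⟨e.symm x, h1 ⟨x, hx, rfl⟩, ?_⟩
    simp

theorem pPrimeCore_normal_le [Finite G] (p : ℕ) (N : Subgroup G) [N.Normal] :
    (Cfsg.pPrimeCore p ↥N).map N.subtype ≤ Cfsg.pPrimeCore p G := by
  apply le_pPrimeCore inferInstance
  rw [Subgroup.card_map_of_injective N.subtype_injective]
  exact card_pPrimeCore_coprime p

theorem pPrimeCore_subnormal_le [Finite G] (p : ℕ) (K : Subgroup G) (hK : K.IsSubnormal) :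
    (Cfsg.pPrimeCore p ↥K).map K.subtype ≤ Cfsg.pPrimeCore p G := by
  induction hK with
  | top =>
    have := pPrimeCore_map_equiv p (Subgroup.topEquiv (G := G))
    rw [← this]
    exact le_of_eq rfl
  | step H K h_le hSubn hN ih =>
    refine le_trans ?_ ih
    have h1 := pPrimeCore_normal_le p (H.subgroupOf K)
    have h2 := pPrimeCore_map_equiv p (Subgroup.subgroupOfEquivOfLe h_le)
    rw [← h2]
    intro x hx
    obtain ⟨y, hy, rfl⟩ := hx
    obtain ⟨z, hz, rfl⟩ := hy
    refine ⟨(H.subgroupOf K).subtype z, h1 ⟨z, hz, rfl⟩, ?_⟩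
    rfl

theorem pPrimeCore_subnormal_eq [Finite G] (p : ℕ) (K : Subgroup G) (hK : K.IsSubnormal) :
    (Cfsg.pPrimeCore p ↥K).map K.subtype = K ⊓ Cfsg.pPrimeCore p G := by
  apply le_antisymm
  · apply le_inf _ (pPrimeCore_subnormal_le p K hK)
    rintro _ ⟨x, -, rfl⟩; exact x.2
  · have hn : ((K ⊓ Cfsg.pPrimeCore p G).subgroupOf K).Normal := by
      rw [inf_comm, Subgroup.inf_subgroupOf_right]
      infer_instance
    have hcop : (Nat.card ((K ⊓ Cfsg.pPrimeCore p G).subgroupOf K)).Coprime p := by
      have h1 : Nat.card ((K ⊓ Cfsg.pPrimeCore p G).subgroupOf K) =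
          Nat.card ↥(K ⊓ Cfsg.pPrimeCore p G) :=
        Nat.card_congr (Subgroup.subgroupOfEquivOfLe inf_le_left).toEquiv
      rw [h1]
      exact Nat.Coprime.coprime_dvd_left (Subgroup.card_dvd_of_le inf_le_right)
        (card_pPrimeCore_coprime p)
    have h2 := le_pPrimeCore hn hcop
    intro x hx
    exact ⟨⟨x, (Subgroup.mem_inf.mp hx).1⟩, h2 (Subgroup.mem_subgroupOf.mpr hx), rfl⟩

/-! ### Perfect groups: `g ^ [G : Z(G)] = 1` -/

theorem pow_index_center_eq_one_of_perfect [Finite G] (hperf : commutator G = ⊤) (g : G) :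
    g ^ (Subgroup.center G).index = 1 := by
  have hker : (⊤ : Subgroup G) ≤ (MonoidHom.transferCenterPow G).ker := by
    rw [← hperf, commutator_def, Subgroup.commutator_le]
    intro a _ b _
    rw [MonoidHom.mem_ker, map_commutatorElement]
    apply Subtype.ext
    have hc := Subgroup.mem_center_iff.mp (MonoidHom.transferCenterPow G b).2
      ((MonoidHom.transferCenterPow G a : Subgroup.center G) : G)
    rw [commutatorElement_def]
    simp only [Subgroup.coe_mul, Subgroup.coe_inv, Subgroup.coe_one]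
    generalize ((MonoidHom.transferCenterPow G a : Subgroup.center G) : G) = A at hc ⊢
    generalize ((MonoidHom.transferCenterPow G b : Subgroup.center G) : G) = B at hc ⊢
    calc A * B * A⁻¹ * B⁻¹ = (A * B) * A⁻¹ * B⁻¹ := by group
      _ = (B * A) * A⁻¹ * B⁻¹ := by rw [hc]
      _ = 1 := by group
  have := hker (Subgroup.mem_top g)
  rw [MonoidHom.mem_ker] at this
  have h2 := congrArg Subtype.val this
  simpa using h2

/-- For a perfect finite group, every prime dividing the order divides the index of the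
centre. -/
theorem dvd_index_center_of_perfect [Finite G] (hperf : commutator G = ⊤) {p : ℕ}
    [hp : Fact p.Prime] (hdvd : p ∣ Nat.card G) : p ∣ (Subgroup.center G).index := by
  obtain ⟨g, hg⟩ := exists_prime_orderOf_dvd_card' p hdvd
  rw [← hg]
  exact orderOf_dvd_of_pow_eq_one (pow_index_center_eq_one_of_perfect hperf g)

end Cfsg.Agent.Helper2
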