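import Mathlib
import Cfsg.Agent.Helper2.PComp1

set_option autoImplicit false

namespace Cfsg.Agent.Helper2

open Cfsg.Agent.Helper1

variable {G : Type*} [Group G]

/-- `x` is a `p`-element. -/
def IsPElt (p : ℕ) (x : G) : Prop := ∃ k : ℕ, x ^ (p ^ k) = 1

theorem IsPElt.map {H : Type*} [Group H] {p : ℕ} {x : G} (hx : IsPElt p x) (f : G →* H) :
    IsPElt p (f x) := by
  obtain ⟨k, hk⟩ := hx
  exact ⟨k, by rw [← map_pow, hk, map_one]⟩

theorem IsPElt.eq_one_of_coprime {p : ℕ} {x : G} (hx : IsPElt p x) {n : ℕ} (hn : x ^ n = 1)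
    (hcop : n.Coprime p) : x = 1 := by
  obtain ⟨k, hk⟩ := hx
  have h1 := orderOf_dvd_of_pow_eq_one hk
  have h2 := orderOf_dvd_of_pow_eq_one hn
  have : orderOf x = 1 := Nat.eq_one_of_dvd_coprimes (Nat.Coprime.pow_right k hcop) h2 h1
  exact orderOf_eq_one_iff.mp this

/-- `O^{p'}(M)`: the subgroup generated by the `p`-elements of `M`. -/
def opp (p : ℕ) (M : Subgroup G) : Subgroup G := Subgroup.closure {x | x ∈ M ∧ IsPElt p x}

theorem opp_le (p : ℕ) (M : Subgroup G) : opp p M ≤ M := by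
  unfold opp
  rw [Subgroup.closure_le]
  exact fun x hx => hx.1

theorem mem_opp {p : ℕ} {M : Subgroup G} {x : G} (hx : x ∈ M) (hp : IsPElt p x) : x ∈ opp p M :=
  Subgroup.subset_closure ⟨hx, hp⟩

theorem opp_mono {p : ℕ} {M N : Subgroup G} (h : M ≤ N) : opp p M ≤ opp p N := by
  unfold opp
  apply Subgroup.closure_mono
  exact fun x hx => ⟨h hx.1, hx.2⟩

theorem map_opp_le {H : Type*} [Group H] (p : ℕ) (M : Subgroup G) (f : G →* H) :
    (opp p M).map f ≤ opp p (M.map f) := by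
  unfold opp
  rw [MonoidHom.map_closure, Subgroup.closure_le]
  rintro _ ⟨x, ⟨hxM, hxp⟩, rfl⟩
  exact Subgroup.subset_closure ⟨⟨x, hxM, rfl⟩, hxp.map f⟩

theorem cj_opp_le (p : ℕ) (M : Subgroup G) (g : G) : cj g (opp p M) ≤ opp p (cj g M) :=
  map_opp_le p M _

theorem normalizer_le_normalizer_opp (p : ℕ) (M : Subgroup G) :
    Subgroup.normalizer (M : Set G) ≤ Subgroup.normalizer (opp p M : Set G) := by
  have key : ∀ g ∈ Subgroup.normalizer (M : Set G), cj g (opp p M) ≤ opp p M := by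
    intro g hg
    have := cj_opp_le p M g
    rwa [(mem_normalizer_iff_cj M g).mp hg] at this
  intro g hg
  rw [mem_normalizer_iff_cj]
  apply le_antisymm (key g hg)
  have := cj_mono (key g⁻¹ (Subgroup.inv_mem _ hg)) g
  rwa [cj_cj, mul_inv_cancel, cj_one] at this

/-- `p`-elements of `M` lie in every normal subgroup of `M` of index prime to `p`. -/
theorem opp_le_of_coprime_relIndex [Finite G] {p : ℕ} (M N : Subgroup G) (hNM : N ≤ M)
    (hn : M ≤ Subgroup.normalizer (N : Set G)) (hcop : (N.relIndex M).Coprime p) :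
    opp p M ≤ N := by
  unfold opp
  rw [Subgroup.closure_le]
  rintro x ⟨hxM, hxp⟩
  have hnorm : (N.subgroupOf M).Normal := (Subgroup.normal_subgroupOf_iff_le_normalizer hNM).mpr hn
  have h1 : IsPElt p (QuotientGroup.mk' (N.subgroupOf M) ⟨x, hxM⟩) := by
    have : IsPElt p (⟨x, hxM⟩ : ↥M) := by
      obtain ⟨k, hk⟩ := hxp
      exact ⟨k, Subtype.ext (by simpa using hk)⟩
    exact this.map _
  have h2 : (QuotientGroup.mk' (N.subgroupOf M) ⟨x, hxM⟩) ^ (N.relIndex M) = 1 := by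
    rw [Subgroup.relIndex, Subgroup.index_eq_card]
    exact pow_card_eq_one'
  have h3 := h1.eq_one_of_coprime h2 hcop
  rw [QuotientGroup.mk'_apply, QuotientGroup.eq_one_iff, Subgroup.mem_subgroupOf] at h3
  exact h3

/-- Lifting `p`-elements along a homomorphism. -/
theorem exists_isPElt_lift [Finite G] {H : Type*} [Group H] {p : ℕ} [hp : Fact p.Prime]
    (f : G →* H) (M : Subgroup G) {y : H} (hy : y ∈ M.map f) (hyp : IsPElt p y) :
    ∃ x ∈ M, IsPElt p x ∧ f x = y := by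
  obtain ⟨u, huM, rfl⟩ := hy
  obtain ⟨k, hk⟩ := hyp
  by_cases hk0 : p ^ k = 1
  · refine ⟨1, M.one_mem, ⟨0, one_pow _⟩, ?_⟩
    rw [hk0, pow_one] at hk
    rw [map_one, hk]
  obtain ⟨a, m, hm, hord⟩ := Nat.exists_eq_pow_mul_and_not_dvd (orderOf_pos u).ne' p
    hp.out.ne_one
  have hcop : Nat.Coprime m (p ^ k) :=
    Nat.Coprime.pow_right k ((Nat.Prime.coprime_iff_not_dvd hp.out).2 hm).symm
  have hk1 : 1 < p ^ k := by
    have : 0 < p ^ k := pow_pos hp.out.pos k
    omega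
  obtain ⟨c, -, hc⟩ := Nat.exists_mul_mod_eq_one_of_coprime hcop hk1
  refine ⟨u ^ (m * c), M.pow_mem huM _, ⟨a, ?_⟩, ?_⟩
  · rw [← pow_mul]
    have : m * c * p ^ a = orderOf u * c := by rw [hord]; ring
    rw [this, pow_mul, pow_orderOf_eq_one, one_pow]
  · rw [map_pow]
    conv_lhs => rw [← Nat.div_add_mod (m * c) (p ^ k), hc]
    rw [pow_add, pow_mul, hk, one_pow, one_mul, pow_one]

/-- A subnormal subgroup contains all the `p`-elements of its product with a normal
`p'`-subgroup. -/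
theorem isPElt_mem_of_subnormal [Finite G] {p : ℕ} (O : Subgroup G) [hO : O.Normal]
    (hOp : (Nat.card O).Coprime p) (H : Subgroup G) (hH : H.IsSubnormal) :
    ∀ x ∈ H ⊔ O, IsPElt p x → x ∈ H := by
  induction hH with
  | top => intro x _ _; trivial
  | step H K h_le hSubn hN ih =>
    intro x hx hxp
    have hxK : x ∈ K := ih x (sup_le_sup_right h_le O hx) hxp
    have hx' : x ∈ ((H ⊔ O : Subgroup G) : Set G) := hx
    rw [Subgroup.mul_normal] at hx'
    obtain ⟨h, hh, o, ho, rfl⟩ := hx'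
    have hhH : h ∈ H := hh
    have hoO : o ∈ O := ho
    have hoK : o ∈ K := by
      have : o = h⁻¹ * (h * o) := by group
      rw [this]
      exact K.mul_mem (K.inv_mem (h_le hhH)) hxK
    -- work in `K / H`
    let q := QuotientGroup.mk' (H.subgroupOf K)
    have h1 : IsPElt p (q ⟨h * o, hxK⟩) := by
      have : IsPElt p (⟨h * o, hxK⟩ : ↥K) := by
        obtain ⟨k, hk⟩ := hxp
        exact ⟨k, Subtype.ext (by simpa using hk)⟩
      exact this.map _
    have h2 : q ⟨h * o, hxK⟩ = q ⟨o, hoK⟩ := by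
      have : (⟨h * o, hxK⟩ : ↥K) = ⟨h, h_le hhH⟩ * ⟨o, hoK⟩ := rfl
      rw [this, map_mul]
      have : q ⟨h, h_le hhH⟩ = 1 := by
        rw [QuotientGroup.mk'_apply, QuotientGroup.eq_one_iff, Subgroup.mem_subgroupOf]
        exact hhH
      rw [this, one_mul]
    have h3 : (q ⟨o, hoK⟩) ^ (Nat.card O) = 1 := by
      rw [← map_pow]
      have : (⟨o, hoK⟩ : ↥K) ^ (Nat.card O) = 1 := by
        apply Subtype.ext
        have h4 : (⟨o, hoO⟩ : ↥O) ^ (Nat.card O) = 1 := pow_card_eq_one'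
        have h5 := congrArg Subtype.val h4
        rw [Subgroup.coe_pow, Subgroup.coe_one] at h5
        rw [Subgroup.coe_pow, Subgroup.coe_one]
        exact h5
      rw [this, map_one]
    rw [h2] at h1
    have h5 := h1.eq_one_of_coprime h3 hOp
    rw [← h2, QuotientGroup.mk'_apply, QuotientGroup.eq_one_iff, Subgroup.mem_subgroupOf] at h5
    exact h5

theorem opp_le_of_subnormal [Finite G] {p : ℕ} (O : Subgroup G) [hO : O.Normal]
    (hOp : (Nat.card O).Coprime p) (H : Subgroup G) (hH : H.IsSubnormal) :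
    opp p (H ⊔ O) ≤ H := by
  unfold opp
  rw [Subgroup.closure_le]
  rintro x ⟨hx, hxp⟩
  exact isPElt_mem_of_subnormal O hOp H hH x hx hxp

end Cfsg.Agent.Helper2
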