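import Mathlib
import Cfsg.Agent.Helper2.PComp2
import Cfsg.Agent.Helper2.Layer
import Cfsg.Agent.Helper1.Fitting2

set_option autoImplicit false

namespace Cfsg.Agent.Helper2

open Cfsg.Agent.Helper1

section general
variable {G : Type*} [Group G]

theorem comap_map_mk'_eq_sup (N : Subgroup G) [N.Normal] (H : Subgroup G) :
    (H.map (QuotientGroup.mk' N)).comap (QuotientGroup.mk' N) = H ⊔ N := by
  rw [Subgroup.comap_map_eq, QuotientGroup.ker_mk']

theorem opp_sup_eq [Finite G] {p : ℕ} (O : Subgroup G) [O.Normal] (hOp : (Nat.card O).Coprime p)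
    (H : Subgroup G) (hH : H.IsSubnormal) : opp p (H ⊔ O) = opp p H := by
  apply le_antisymm
  · unfold opp
    apply Subgroup.closure_mono
    rintro x ⟨hx, hxp⟩
    exact ⟨isPElt_mem_of_subnormal O hOp H hH x hx hxp, hxp⟩
  · exact opp_mono le_sup_left

theorem map_opp_eq [Finite G] {H : Type*} [Group H] (p : ℕ) [Fact p.Prime] (M : Subgroup G)
    (f : G →* H) : (opp p M).map f = opp p (M.map f) := by
  apply le_antisymm (map_opp_le p M f)
  unfold opp
  rw [Subgroup.closure_le]
  rintro y ⟨hy, hyp⟩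
  obtain ⟨x, hxM, hxp, rfl⟩ := exists_isPElt_lift f M hy hyp
  exact ⟨x, Subgroup.subset_closure ⟨hxM, hxp⟩, rfl⟩

theorem opp_normal_subgroupOf (p : ℕ) (M : Subgroup G) : ((opp p M).subgroupOf M).Normal :=
  (Subgroup.normal_subgroupOf_iff_le_normalizer (opp_le p M)).mpr
    (le_trans Subgroup.le_normalizer (normalizer_le_normalizer_opp p M))

theorem opp_isSubnormal (p : ℕ) (M : Subgroup G) (hM : M.IsSubnormal) :
    (opp p M).IsSubnormal :=
  Subgroup.IsSubnormal.step _ _ (opp_le p M) hM (opp_normal_subgroupOf p M)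

theorem coprime_relIndex_opp [Finite G] (p : ℕ) [hp : Fact p.Prime] (M : Subgroup G) :
    ((opp p M).relIndex M).Coprime p := by
  have := opp_normal_subgroupOf p M
  rw [Nat.coprime_comm, Nat.Prime.coprime_iff_not_dvd hp.out]
  intro hdvd
  rw [Subgroup.relIndex, Subgroup.index_eq_card] at hdvd
  obtain ⟨y, hy⟩ := exists_prime_orderOf_dvd_card' p hdvd
  have hyp : IsPElt p y := by
    refine ⟨1, ?_⟩
    rw [pow_one]
    exact orderOf_dvd_iff_pow_eq_one.mp (dvd_of_eq hy)
  have hymem : y ∈ (⊤ : Subgroup ↥M).map (QuotientGroup.mk' ((opp p M).subgroupOf M)) := by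
    rw [Subgroup.map_top_of_surjective _ (QuotientGroup.mk'_surjective _)]; trivial
  obtain ⟨x, -, hxp, rfl⟩ := exists_isPElt_lift _ _ hymem hyp
  have hx : (x : G) ∈ opp p M := mem_opp x.2 (hxp.map M.subtype)
  have h1 : QuotientGroup.mk' ((opp p M).subgroupOf M) x = 1 := by
    rw [QuotientGroup.mk'_apply, QuotientGroup.eq_one_iff, Subgroup.mem_subgroupOf]; exact hx
  rw [h1, orderOf_one] at hy
  exact hp.out.one_lt.ne hy

theorem opp_eq_of_isComponent [Finite G] (p : ℕ) [hp : Fact p.Prime]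
    (hY : Cfsg.pPrimeCore p G = ⊥) (K : Subgroup G) (hK : Cfsg.IsComponent K) :
    opp p K = K := by
  have hne := component_ne_bot hK
  obtain ⟨hsub, hqs⟩ := hK
  have hdvd : p ∣ Nat.card K := by
    by_contra hnd
    have hcop : (Nat.card K).Coprime p :=
      ((Nat.Prime.coprime_iff_not_dvd hp.out).mpr hnd).symm
    have h1 : Cfsg.pPrimeCore p ↥K = ⊤ := by
      rw [eq_top_iff]
      apply le_pPrimeCore inferInstance
      rw [Subgroup.card_top]; exact hcop
    have h2 := pPrimeCore_subnormal_le p K hsub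
    rw [h1, hY, ← MonoidHom.range_eq_map, Subgroup.range_subtype] at h2
    exact hne (le_bot_iff.mp h2)
  have := opp_normal_subgroupOf p K
  rcases isSubnormal_quasisimple hqs ((opp p K).subgroupOf K)
    (Subgroup.Normal.isSubnormal inferInstance) with h | h
  · exact le_antisymm (opp_le p K) (Subgroup.subgroupOf_eq_top.mp h)
  · exfalso
    have h3 := dvd_index_center_of_perfect (G := ↥K) hqs.1.commutator_eq_top hdvd
    have h4 : (Subgroup.center ↥K).index ∣ (opp p K).relIndex K := Subgroup.index_dvd_of_le h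
    have h5 := coprime_relIndex_opp p K
    exact (Nat.Prime.coprime_iff_not_dvd hp.out).mp h5.symm (h3.trans h4)

end general

section pcomp

variable {X : Type*} [Group X] [Finite X]

theorem isPComponent_opp_comap (p : ℕ) [hp : Fact p.Prime]
    (Kbar : Subgroup (X ⧸ Cfsg.pPrimeCore p X)) (hK : Cfsg.IsComponent Kbar) :
    Cfsg.IsPComponent p (opp p (Kbar.comap (QuotientGroup.mk' (Cfsg.pPrimeCore p X)))) ∧
    (opp p (Kbar.comap (QuotientGroup.mk' (Cfsg.pPrimeCore p X)))).map
      (QuotientGroup.mk' (Cfsg.pPrimeCore p X)) = Kbar := by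
  set π := QuotientGroup.mk' (Cfsg.pPrimeCore p X) with hπ
  have hπs : Function.Surjective π := QuotientGroup.mk'_surjective _
  have hmap : (opp p (Kbar.comap π)).map π = Kbar := by
    rw [map_opp_eq, Subgroup.map_comap_eq_self_of_surjective hπs]
    exact opp_eq_of_isComponent p (pPrimeCore_quotient_pPrimeCore p) Kbar hK
  refine ⟨⟨opp_isSubnormal p _ (hK.1.comap π), ?_, ?_⟩, hmap⟩
  · rw [hmap]; exact hK
  · intro H hH hle himg
    apply le_antisymm hle
    rw [hmap] at himg
    have h1 : Kbar.comap π = H ⊔ Cfsg.pPrimeCore p X := by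
      rw [← himg, hπ, comap_map_mk'_eq_sup]
    rw [h1, opp_sup_eq _ (card_pPrimeCore_coprime p) H hH]
    exact opp_le p H

theorem pComponent_opp_eq (p : ℕ) [hp : Fact p.Prime] {K : Subgroup X}
    (hK : Cfsg.IsPComponent p K) : opp p K = K := by
  obtain ⟨hsub, hcomp, hmin⟩ := hK
  apply hmin _ (opp_isSubnormal p K hsub) (opp_le p K)
  rw [map_opp_eq]
  exact opp_eq_of_isComponent p (pPrimeCore_quotient_pPrimeCore p) _ hcomp

theorem pComponent_eq_opp_comap (p : ℕ) [hp : Fact p.Prime] {K : Subgroup X}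
    (hK : Cfsg.IsPComponent p K) :
    opp p ((K.map (QuotientGroup.mk' (Cfsg.pPrimeCore p X))).comap
      (QuotientGroup.mk' (Cfsg.pPrimeCore p X))) = K := by
  rw [comap_map_mk'_eq_sup, opp_sup_eq _ (card_pPrimeCore_coprime p) K hK.1,
    pComponent_opp_eq p hK]

theorem pComponent_unique (p : ℕ) [hp : Fact p.Prime] {K K' : Subgroup X}
    (hK : Cfsg.IsPComponent p K) (hK' : Cfsg.IsPComponent p K')
    (h : K.map (QuotientGroup.mk' (Cfsg.pPrimeCore p X)) =
      K'.map (QuotientGroup.mk' (Cfsg.pPrimeCore p X))) : K = K' := by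
  have h1 := pComponent_eq_opp_comap p hK
  have h2 := pComponent_eq_opp_comap p hK'
  rw [h] at h1
  exact h1.symm.trans h2

theorem isPComponent_iff (p : ℕ) [hp : Fact p.Prime] (K : Subgroup X) :
    Cfsg.IsPComponent p K ↔
      Cfsg.IsComponent (K.map (QuotientGroup.mk' (Cfsg.pPrimeCore p X))) ∧
      opp p ((K.map (QuotientGroup.mk' (Cfsg.pPrimeCore p X))).comap
        (QuotientGroup.mk' (Cfsg.pPrimeCore p X))) = K := by
  constructor
  · intro hK
    exact ⟨hK.2.1, pComponent_eq_opp_comap p hK⟩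
  · rintro ⟨h1, h2⟩
    have := (isPComponent_opp_comap p _ h1).1
    rwa [h2] at this

theorem map_pLayer (p : ℕ) [hp : Fact p.Prime] :
    (Cfsg.pLayer p X).map (QuotientGroup.mk' (Cfsg.pPrimeCore p X)) =
      Cfsg.layer (X ⧸ Cfsg.pPrimeCore p X) := by
  apply le_antisymm
  · unfold Cfsg.pLayer
    rw [(Subgroup.gc_map_comap _).l_sSup]
    apply iSup₂_le
    intro K hK
    exact component_le_layer hK.2.1
  · unfold Cfsg.layer
    apply sSup_le
    intro Kbar hKbar
    obtain ⟨h1, h2⟩ := isPComponent_opp_comap p Kbar hKbar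
    rw [← h2]
    apply Subgroup.map_mono
    exact le_sSup h1

omit [Finite X] in
theorem pComponent_le_pLayer {p : ℕ} {K : Subgroup X} (hK : Cfsg.IsPComponent p K) :
    K ≤ Cfsg.pLayer p X := le_sSup hK

end pcomp

end Cfsg.Agent.Helper2
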