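import Mathlib
import Cfsg.Agent.Helper2.PComp3
import Cfsg.Agent.Helper2.Layer6

set_option autoImplicit false

namespace Cfsg.Agent.Helper2

open Cfsg.Agent.Helper1

section general
variable {G : Type*} [Group G]

theorem commutator_self_le (K : Subgroup G) : ⁅K, K⁆ ≤ K :=
  commutator_le_of_le_normalizer Subgroup.le_normalizer

theorem commutator_self_isSubnormal {K : Subgroup G} (hK : K.IsSubnormal) :
    (⁅K, K⁆ : Subgroup G).IsSubnormal :=
  Subgroup.IsSubnormal.step _ _ (commutator_self_le K) hK
    ((Subgroup.normal_subgroupOf_iff_le_normalizer (commutator_self_le K)).mpr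
      (le_normalizer_commutator_left K K))

theorem le_pPrimeCore_of_subnormal [Finite G] {p : ℕ} (K : Subgroup G) (hK : K.IsSubnormal)
    (hcop : (Nat.card K).Coprime p) : K ≤ Cfsg.pPrimeCore p G := by
  have h1 : Cfsg.pPrimeCore p ↥K = ⊤ := by
    rw [eq_top_iff]
    apply le_pPrimeCore inferInstance
    rw [Subgroup.card_top]; exact hcop
  have h2 := pPrimeCore_subnormal_le p K hK
  rwa [h1, ← MonoidHom.range_eq_map, Subgroup.range_subtype] at h2

end general

section pcomp
variable {X : Type*} [Group X] [Finite X]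

omit [Finite X] in
theorem pComponent_perfect {p : ℕ} {K : Subgroup X} (hK : Cfsg.IsPComponent p K) :
    ⁅K, K⁆ = K := by
  obtain ⟨hsub, hcomp, hmin⟩ := hK
  apply hmin _ (commutator_self_isSubnormal hsub) (commutator_self_le K)
  rw [Subgroup.map_commutator, component_perfect hcomp]

omit [Finite X] in
theorem pComponent_not_le_pPrimeCore {p : ℕ} {K : Subgroup X} (hK : Cfsg.IsPComponent p K) :
    ¬ K ≤ Cfsg.pPrimeCore p X := by
  intro hle
  apply component_ne_bot hK.2.1
  rw [eq_bot_iff]
  rintro _ ⟨x, hx, rfl⟩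
  rw [Subgroup.mem_bot, QuotientGroup.mk'_apply, QuotientGroup.eq_one_iff]
  exact hle hx

theorem pComponent_dvd_card {p : ℕ} [hp : Fact p.Prime] {K : Subgroup X}
    (hK : Cfsg.IsPComponent p K) : p ∣ Nat.card K := by
  by_contra hnd
  have hcop : (Nat.card K).Coprime p :=
    ((Nat.Prime.coprime_iff_not_dvd hp.out).mpr hnd).symm
  exact pComponent_not_le_pPrimeCore hK (le_pPrimeCore_of_subnormal K hK.1 hcop)

theorem pComponent_eq_of_le {p : ℕ} [hp : Fact p.Prime] {K : Subgroup X}
    (hK : Cfsg.IsPComponent p K) (H : Subgroup X) (hle : H ≤ K) (hH : H.IsSubnormal)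
    (hperf : ⁅H, H⁆ = H) (hdvd : p ∣ Nat.card H) : H = K := by
  set π := QuotientGroup.mk' (Cfsg.pPrimeCore p X) with hπ
  have hπs : Function.Surjective π := QuotientGroup.mk'_surjective _
  obtain ⟨hsub, hcomp, hmin⟩ := hK
  have hHbar : (H.map π).IsSubnormal := hH.map hπs
  have hlebar : H.map π ≤ K.map π := Subgroup.map_mono hle
  rcases isSubnormal_quasisimple hcomp.2 ((H.map π).subgroupOf (K.map π)) hHbar.subgroupOf
    with h | h
  · apply hmin H hH hle
    exact le_antisymm hlebar (Subgroup.subgroupOf_eq_top.mp h)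
  · exfalso
    have hcomm : ⁅H.map π, H.map π⁆ = ⊥ := by
      rw [Subgroup.commutator_eq_bot_iff_le_centralizer]
      intro a ha
      rw [Subgroup.mem_centralizer_iff]
      intro b hb
      have ha' : (⟨a, hlebar ha⟩ : ↥(K.map π)) ∈ (H.map π).subgroupOf (K.map π) := by
        rw [Subgroup.mem_subgroupOf]; exact ha
      have hc := Subgroup.mem_center_iff.mp (h ha') ⟨b, hlebar hb⟩
      have := congrArg Subtype.val hc
      simpa using this
    have hbot : H.map π = ⊥ := by
      rw [← hperf, Subgroup.map_commutator, hcomm]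
    have hHO : H ≤ Cfsg.pPrimeCore p X := by
      intro x hx
      have : π x ∈ H.map π := ⟨x, hx, rfl⟩
      rw [hbot, Subgroup.mem_bot, hπ, QuotientGroup.mk'_apply, QuotientGroup.eq_one_iff] at this
      exact this
    have h1 : (Nat.card H).Coprime p :=
      Nat.Coprime.coprime_dvd_left (Subgroup.card_dvd_of_le hHO) (card_pPrimeCore_coprime p)
    exact (Nat.Prime.coprime_iff_not_dvd hp.out).mp h1.symm hdvd

end pcomp

end Cfsg.Agent.Helper2
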