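import Mathlib
import Cfsg.Agent.Helper2.Component

set_option autoImplicit false

namespace Cfsg.Agent.Helper2

variable {G Q : Type*} [Group G] [Group Q]

/-- For a perfect group `G` and a surjection `f` with central kernel, the preimage of the
centre of the image is the centre of `G`. -/
theorem comap_center_eq_of_perfect (hperf : Group.IsPerfect G) (f : G →* Q)
    (hf : Function.Surjective f) (hker : f.ker ≤ Subgroup.center G) :
    (Subgroup.center Q).comap f = Subgroup.center G := by
  apply le_antisymm
  · have h1 : ⁅(Subgroup.center Q).comap f, (⊤ : Subgroup G)⁆ ≤ f.ker := by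
      rw [Subgroup.commutator_le]
      intro z hz g _
      rw [MonoidHom.mem_ker, map_commutatorElement, commutatorElement_eq_one_iff_commute]
      exact (Subgroup.mem_center_iff.mp hz (f g)).symm
    have h2 : ⁅⁅(Subgroup.center Q).comap f, (⊤ : Subgroup G)⁆, (⊤ : Subgroup G)⁆ = ⊥ := by
      rw [Subgroup.commutator_eq_bot_iff_le_centralizer, Subgroup.coe_top,
        Subgroup.centralizer_univ]
      exact h1.trans hker
    have hp : ⁅(⊤ : Subgroup G), (⊤ : Subgroup G)⁆ = ⊤ := by
      rw [← commutator_def]; exact hperf.commutator_eq_top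
    have h3 := commutator_eq_bot_of_commutator_commutator_eq_bot hp h2
    rw [Subgroup.commutator_eq_bot_iff_le_centralizer, Subgroup.coe_top,
      Subgroup.centralizer_univ] at h3
    exact h3
  · intro z hz
    rw [Subgroup.mem_comap, Subgroup.mem_center_iff]
    intro q
    obtain ⟨g, rfl⟩ := hf q
    rw [← map_mul, ← map_mul, Subgroup.mem_center_iff.mp hz g]

/-- `G / Z(G) ≃ Q / Z(Q)` for a perfect central extension `G` of `Q`. -/
noncomputable def centerQuotientEquiv (hperf : Group.IsPerfect G) (f : G →* Q)
    (hf : Function.Surjective f) (hker : f.ker ≤ Subgroup.center G) :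
    G ⧸ Subgroup.center G ≃* Q ⧸ Subgroup.center Q :=
  have hk : ((QuotientGroup.mk' (Subgroup.center Q)).comp f).ker = Subgroup.center G := by
    rw [← MonoidHom.comap_ker, QuotientGroup.ker_mk']
    exact comap_center_eq_of_perfect hperf f hf hker
  (QuotientGroup.quotientMulEquivOfEq hk.symm).trans
    (QuotientGroup.quotientKerEquivOfSurjective ((QuotientGroup.mk' (Subgroup.center Q)).comp f)
      ((QuotientGroup.mk'_surjective _).comp hf))

/-- A central quotient of a quasisimple group is quasisimple. -/
theorem isQuasisimple_of_surjective_central (hG : Cfsg.IsQuasisimple G) (f : G →* Q)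
    (hf : Function.Surjective f) (hker : f.ker ≤ Subgroup.center G) : Cfsg.IsQuasisimple Q := by
  obtain ⟨hperf, hsimp⟩ := hG
  exact ⟨Group.IsPerfect.ofSurjective hf,
    (centerQuotientEquiv hperf f hf hker).symm.isSimpleGroup⟩

/-- A perfect central extension of a quasisimple group is quasisimple. -/
theorem isQuasisimple_of_central_ext (hperf : Group.IsPerfect G) (f : G →* Q)
    (hf : Function.Surjective f) (hker : f.ker ≤ Subgroup.center G)
    (hQ : Cfsg.IsQuasisimple Q) : Cfsg.IsQuasisimple G := by
  obtain ⟨_, hsimp⟩ := hQ
  exact ⟨hperf, (centerQuotientEquiv hperf f hf hker).isSimpleGroup⟩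

/-- Any homomorphic image of a quasisimple group is trivial or quasisimple. -/
theorem isQuasisimple_or_of_surjective (hG : Cfsg.IsQuasisimple G) (f : G →* Q)
    (hf : Function.Surjective f) : Subsingleton Q ∨ Cfsg.IsQuasisimple Q := by
  rcases isSubnormal_quasisimple hG f.ker (Subgroup.Normal.isSubnormal inferInstance) with h | h
  · left
    constructor
    intro a b
    obtain ⟨x, rfl⟩ := hf a
    obtain ⟨y, rfl⟩ := hf b
    have hx : x ∈ f.ker := by rw [h]; trivial
    have hy : y ∈ f.ker := by rw [h]; trivial
    rw [MonoidHom.mem_ker.mp hx, MonoidHom.mem_ker.mp hy]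
  · right
    exact isQuasisimple_of_surjective_central hG f hf h

end Cfsg.Agent.Helper2
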