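import Mathlib
import Cfsg.Agent.Helper2.PComp4
import Cfsg.Agent.Helper2.Quasisimple2

set_option autoImplicit false

namespace Cfsg.Agent.Helper2

open Cfsg.Agent.Helper1
open scoped commutatorElement

section general
variable {G : Type*} [Group G]

theorem pPrimeCore_subnormal_eq_subgroupOf [Finite G] (p : ℕ) (K : Subgroup G)
    (hK : K.IsSubnormal) : Cfsg.pPrimeCore p ↥K = (Cfsg.pPrimeCore p G).subgroupOf K := by
  have h := pPrimeCore_subnormal_eq p K hK
  ext x
  rw [Subgroup.mem_subgroupOf]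
  constructor
  · intro hx
    have : (x : G) ∈ (Cfsg.pPrimeCore p ↥K).map K.subtype := ⟨x, hx, rfl⟩
    rw [h] at this
    exact this.2
  · intro hx
    have : (x : G) ∈ (Cfsg.pPrimeCore p ↥K).map K.subtype := by
      rw [h]; exact ⟨x.2, hx⟩
    obtain ⟨y, hy, hxy⟩ := this
    have : y = x := Subtype.ext hxy
    rwa [← this]

/-- For subnormal `K`, `K / O_{p'}(K)` is isomorphic to the image of `K` in `G / O_{p'}(G)`. -/
noncomputable def subnormalQuotEquiv [Finite G] (p : ℕ) (K : Subgroup G) (hK : K.IsSubnormal) :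
    ↥K ⧸ Cfsg.pPrimeCore p ↥K ≃* ↥(K.map (QuotientGroup.mk' (Cfsg.pPrimeCore p G))) :=
  have hk : ((QuotientGroup.mk' (Cfsg.pPrimeCore p G)).subgroupMap K).ker =
      Cfsg.pPrimeCore p ↥K := by
    rw [Subgroup.ker_subgroupMap, QuotientGroup.ker_mk', pPrimeCore_subnormal_eq_subgroupOf p K hK]
  (QuotientGroup.quotientMulEquivOfEq hk.symm).trans
    (QuotientGroup.quotientKerEquivOfSurjective _
      ((QuotientGroup.mk' (Cfsg.pPrimeCore p G)).subgroupMap_surjective K))

theorem commutator_le_ker_of_map_commutator_eq_bot {H : Type*} [Group H] (f : G →* H)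
    (A B : Subgroup G) (h : ⁅A.map f, B.map f⁆ = ⊥) : ⁅A, B⁆ ≤ f.ker := by
  intro x hx
  rw [MonoidHom.mem_ker]
  have : f x ∈ (⁅A, B⁆ : Subgroup G).map f := ⟨x, hx, rfl⟩
  rw [Subgroup.map_commutator, h, Subgroup.mem_bot] at this
  exact this

/-- If `[J, K] ≤ O` with `O` normal, then `J` normalizes `K ⊔ O`. -/
theorem le_normalizer_sup_of_commutator_le (J K O : Subgroup G) [hO : O.Normal]
    (h : ⁅J, K⁆ ≤ O) : J ≤ Subgroup.normalizer ((K ⊔ O : Subgroup G) : Set G) := by
  have key : ∀ j ∈ J, cj j (K ⊔ O) ≤ K ⊔ O := by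
    intro j hj
    rw [cj, Subgroup.map_le_iff_le_comap]
    apply sup_le
    · intro k hk
      rw [Subgroup.mem_comap]
      change j * k * j⁻¹ ∈ K ⊔ O
      have h1 : ⁅j, k⁆ ∈ O := h (Subgroup.commutator_mem_commutator hj hk)
      have h2 : j * k * j⁻¹ = ⁅j, k⁆ * k := by rw [commutatorElement_def]; group
      rw [h2]
      exact Subgroup.mul_mem _ (Subgroup.mem_sup_right h1) (Subgroup.mem_sup_left hk)
    · intro o ho
      rw [Subgroup.mem_comap]
      change j * o * j⁻¹ ∈ K ⊔ O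
      exact Subgroup.mem_sup_right (hO.conj_mem o ho j)
  intro j hj
  rw [mem_normalizer_iff_cj]
  apply le_antisymm (key j hj)
  have := cj_mono (key j⁻¹ (Subgroup.inv_mem _ hj)) j
  rwa [cj_cj, mul_inv_cancel, cj_one] at this

end general

section pcomp
variable {X : Type*} [Group X] [Finite X]

/-- `K / O_{p'}(K)` is quasisimple for a `p`-component `K`. -/
theorem pComponent_quotient_quasisimple {p : ℕ} {K : Subgroup X}
    (hK : Cfsg.IsPComponent p K) : Cfsg.IsQuasisimple (↥K ⧸ Cfsg.pPrimeCore p ↥K) :=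
  isQuasisimple_of_mulEquiv (subnormalQuotEquiv p K hK.1).symm hK.2.1.2

theorem pComponent_map_ne (p : ℕ) [hp : Fact p.Prime] {K L : Subgroup X}
    (hK : Cfsg.IsPComponent p K) (hL : Cfsg.IsPComponent p L) (hne : K ≠ L) :
    K.map (QuotientGroup.mk' (Cfsg.pPrimeCore p X)) ≠
      L.map (QuotientGroup.mk' (Cfsg.pPrimeCore p X)) :=
  fun h => hne (pComponent_unique p hK hL h)

theorem pComponent_commutator_le_pPrimeCore (p : ℕ) [hp : Fact p.Prime] {K L : Subgroup X}
    (hK : Cfsg.IsPComponent p K) (hL : Cfsg.IsPComponent p L) (hne : K ≠ L) :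
    ⁅K, L⁆ ≤ Cfsg.pPrimeCore p X := by
  have h1 := components_commute hK.2.1 hL.2.1 (pComponent_map_ne p hK hL hne)
  have h2 := commutator_le_ker_of_map_commutator_eq_bot _ K L h1
  rwa [QuotientGroup.ker_mk'] at h2

theorem pComponent_sup_opp (p : ℕ) [hp : Fact p.Prime] {K : Subgroup X}
    (hK : Cfsg.IsPComponent p K) : opp p (K ⊔ Cfsg.pPrimeCore p X) = K := by
  rw [opp_sup_eq _ (card_pPrimeCore_coprime p) K hK.1, pComponent_opp_eq p hK]

/-- `p`-components normalize each other. -/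
theorem pComponent_le_normalizer (p : ℕ) [hp : Fact p.Prime] {K L : Subgroup X}
    (hK : Cfsg.IsPComponent p K) (hL : Cfsg.IsPComponent p L) :
    L ≤ Subgroup.normalizer (K : Set X) := by
  by_cases hne : K = L
  · rw [hne]; exact Subgroup.le_normalizer
  · have h1 : ⁅L, K⁆ ≤ Cfsg.pPrimeCore p X := by
      rw [Subgroup.commutator_comm]
      exact pComponent_commutator_le_pPrimeCore p hK hL hne
    have h2 := le_normalizer_sup_of_commutator_le L K (Cfsg.pPrimeCore p X) h1
    have h3 := normalizer_le_normalizer_opp p (K ⊔ Cfsg.pPrimeCore p X)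
    rw [pComponent_sup_opp p hK] at h3
    exact h2.trans h3

theorem pLayer_le_normalizer (p : ℕ) [hp : Fact p.Prime] {K : Subgroup X}
    (hK : Cfsg.IsPComponent p K) : Cfsg.pLayer p X ≤ Subgroup.normalizer (K : Set X) := by
  unfold Cfsg.pLayer
  apply sSup_le
  intro L hL
  exact pComponent_le_normalizer p hK hL

theorem pComponent_commutator_le (p : ℕ) [hp : Fact p.Prime] {K L : Subgroup X}
    (hK : Cfsg.IsPComponent p K) (hL : Cfsg.IsPComponent p L) (hne : K ≠ L) :
    ⁅K, L⁆ ≤ (Cfsg.pPrimeCore p ↥K).map K.subtype ⊓ (Cfsg.pPrimeCore p ↥L).map L.subtype := by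
  have h0 := pComponent_commutator_le_pPrimeCore p hK hL hne
  have h1 : ⁅K, L⁆ ≤ K := by
    rw [Subgroup.commutator_comm]
    exact commutator_le_of_le_normalizer (pComponent_le_normalizer p hK hL)
  have h2 : ⁅K, L⁆ ≤ L := commutator_le_of_le_normalizer (pComponent_le_normalizer p hL hK)
  rw [pPrimeCore_subnormal_eq p K hK.1, pPrimeCore_subnormal_eq p L hL.1]
  exact le_inf (le_inf h1 h0) (le_inf h2 h0)

/-- A quasisimple `p`-component centralizes its `p'`-core. -/
theorem pComponent_commutator_core_eq_bot {p : ℕ} [hp : Fact p.Prime] {K : Subgroup X}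
    (hK : Cfsg.IsPComponent p K) (hq : Cfsg.IsQuasisimple ↥K) :
    ⁅K, (Cfsg.pPrimeCore p ↥K).map K.subtype⁆ = ⊥ := by
  rcases isSubnormal_quasisimple hq (Cfsg.pPrimeCore p ↥K)
    (Subgroup.Normal.isSubnormal inferInstance) with h | h
  · exfalso
    have h1 := card_pPrimeCore_coprime (G := ↥K) p
    rw [h, Subgroup.card_top] at h1
    exact (Nat.Prime.coprime_iff_not_dvd hp.out).mp h1.symm (pComponent_dvd_card hK)
  · rw [Subgroup.commutator_eq_bot_iff_le_centralizer]
    intro k hk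
    rw [Subgroup.mem_centralizer_iff]
    rintro _ ⟨o, ho, rfl⟩
    have := Subgroup.mem_center_iff.mp (h ho) ⟨k, hk⟩
    have h2 := congrArg Subtype.val this
    simpa using h2.symm

theorem pComponent_quasisimple_of_commutator_core_eq_bot {p : ℕ}
    {K : Subgroup X} (hK : Cfsg.IsPComponent p K)
    (h : ⁅K, (Cfsg.pPrimeCore p ↥K).map K.subtype⁆ = ⊥) : Cfsg.IsQuasisimple ↥K := by
  have hperf : Group.IsPerfect ↥K := Subgroup.isPerfect_iff.mpr (pComponent_perfect hK)
  apply isQuasisimple_of_central_ext hperf (QuotientGroup.mk' (Cfsg.pPrimeCore p ↥K))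
    (QuotientGroup.mk'_surjective _) _ (pComponent_quotient_quasisimple hK)
  rw [QuotientGroup.ker_mk']
  intro o ho
  rw [Subgroup.mem_center_iff]
  intro k
  rw [Subgroup.commutator_eq_bot_iff_le_centralizer] at h
  have h1 := Subgroup.mem_centralizer_iff.mp (h k.2) (o : X) ⟨o, ho, rfl⟩
  apply Subtype.ext
  simpa using h1.symm

end pcomp

end Cfsg.Agent.Helper2
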