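import Mathlib
import Cfsg.Agent.Helper2.PComp5

set_option autoImplicit false

namespace Cfsg.Agent.Helper2

open Cfsg.Agent.Helper1
open scoped commutatorElement

section general
variable {G : Type*} [Group G]

/-- The image of a component under a surjection is trivial or a component. -/
theorem map_component_eq_bot_or {H : Type*} [Group H] (f : G →* H) (hf : Function.Surjective f)
    {C : Subgroup G} (hC : Cfsg.IsComponent C) : C.map f = ⊥ ∨ Cfsg.IsComponent (C.map f) := by
  rcases isQuasisimple_or_of_surjective hC.2 (f.subgroupMap C) (f.subgroupMap_surjective C)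
    with h | h
  · left
    rw [eq_bot_iff]
    intro x hx
    rw [Subgroup.mem_bot]
    have := h.elim (⟨x, hx⟩ : ↥(C.map f)) 1
    exact congrArg Subtype.val this
  · right
    exact ⟨hC.1.map hf, h⟩

theorem map_layer_le {H : Type*} [Group H] (f : G →* H) (hf : Function.Surjective f) :
    (Cfsg.layer G).map f ≤ Cfsg.layer H := by
  unfold Cfsg.layer
  rw [(Subgroup.gc_map_comap f).l_sSup]
  apply iSup₂_le
  intro C hC
  rcases map_component_eq_bot_or f hf hC with h | h
  · rw [h]; exact bot_le
  · exact le_sSup h

end general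

section pcomp
variable {X : Type*} [Group X] [Finite X]

theorem map_layer_eq_iff (p : ℕ) [hp : Fact p.Prime] :
    (Cfsg.layer X).map (QuotientGroup.mk' (Cfsg.pPrimeCore p X)) =
      Cfsg.layer (X ⧸ Cfsg.pPrimeCore p X) ↔ Cfsg.pLayer p X ≤ Cfsg.layer X := by
  constructor
  · intro hE
    unfold Cfsg.pLayer
    apply sSup_le
    intro K hK
    have h1 : K ≤ Cfsg.layer X ⊔ Cfsg.pPrimeCore p X := by
      rw [← comap_map_mk'_eq_sup, hE, ← Subgroup.map_le_iff_le_comap]
      exact component_le_layer hK.2.1
    have h2 := opp_mono (p := p) h1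
    rw [pComponent_opp_eq p hK, opp_sup_eq _ (card_pPrimeCore_coprime p) _
      (Subgroup.Normal.isSubnormal inferInstance)] at h2
    exact h2.trans (opp_le p _)
  · intro hle
    apply le_antisymm (map_layer_le _ (QuotientGroup.mk'_surjective _))
    rw [← map_pLayer p]
    exact Subgroup.map_mono hle

end pcomp

end Cfsg.Agent.Helper2
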