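import Mathlib
import Cfsg.Agent.Helper5.AxB
import Cfsg.Agent.Helper5.Cores
import Cfsg.Agent.Helper2.PComp6
import Cfsg.Agent.Helper2.Layer4
import Cfsg.Agent.Helper2.CharPLocal

set_option autoImplicit false

namespace Cfsg.Agent.Helper2

open Cfsg.Agent.Helper1
open scoped commutatorElement

section inner
variable {H : Type*} [Group H]

/-- The preimage of `E(H / O_{p'}(H))` centralizes every normal `p`-subgroup of `H`. -/
theorem comap_layer_commutator_pgroup [Finite H] (p : ℕ) [hp : Fact p.Prime] (R : Subgroup H)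
    [hRn : R.Normal] (hR : IsPGroup p R) :
    ⁅(Cfsg.layer (H ⧸ Cfsg.pPrimeCore p H)).comap (QuotientGroup.mk' (Cfsg.pPrimeCore p H)), R⁆
      = ⊥ := by
  set D := Cfsg.pPrimeCore p H with hD
  set π := QuotientGroup.mk' D with hπ
  have hπs : Function.Surjective π := QuotientGroup.mk'_surjective _
  set Y := (Cfsg.layer (H ⧸ D)).comap π with hY
  have h1 : R.map π ≤ Cfsg.fittingSubgroup (H ⧸ D) := by
    apply le_fittingSubgroup (hRn.map π hπs)
    exact (hR.map π).isNilpotent
  have h2 : ⁅Y.map π, R.map π⁆ = ⊥ := by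
    rw [eq_bot_iff, ← layer_commutator_fittingSubgroup (G := H ⧸ D)]
    exact Subgroup.commutator_mono (Subgroup.map_comap_le _ _) h1
  have h3 : ⁅Y, R⁆ ≤ D := by
    have := commutator_le_ker_of_map_commutator_eq_bot π Y R h2
    rwa [hπ, QuotientGroup.ker_mk'] at this
  have h4 : ⁅Y, R⁆ ≤ R := Subgroup.commutator_le_right Y R
  have h5 : D ⊓ R = ⊥ := by
    apply inf_eq_bot_of_coprime_card
    obtain ⟨k, hk⟩ := IsPGroup.iff_card.mp hR
    rw [hk]
    exact Nat.Coprime.pow_right k (card_pPrimeCore_coprime p)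
  rw [eq_bot_iff, ← h5]
  exact le_inf h3 h4

theorem eq_bot_of_perfect_of_solvable {Y : Subgroup H} (hperf : ⁅Y, Y⁆ = Y)
    (hs : Group.IsSolvable ↥Y) : Y = ⊥ := by
  have hP : Group.IsPerfect ↥Y := Subgroup.isPerfect_iff.mpr hperf
  by_contra hne
  have : Nontrivial ↥Y := (Subgroup.nontrivial_iff_ne_bot Y).mpr hne
  exact Group.IsPerfect.not_isSolvable (G := ↥Y) hs

/-- If `Y / D` is perfect and every `p'`-element of `Y` lies in the normal subgroup `C`, and `D`
is a `p'`-group, then `Y ≤ C`. -/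
theorem le_of_perfect_quotient_of_pprime_elements [Finite H] (p : ℕ) [hp : Fact p.Prime]
    (Y D C : Subgroup H) [hDn : D.Normal] [hCn : C.Normal] (hDY : D ≤ Y)
    (hDp : (Nat.card D).Coprime p)
    (hperf : ⁅Y.map (QuotientGroup.mk' D), Y.map (QuotientGroup.mk' D)⁆ =
      Y.map (QuotientGroup.mk' D))
    (hel : ∀ y ∈ Y, (orderOf y).Coprime p → y ∈ C) : Y ≤ C := by
  have hDC : D ≤ C := by
    intro d hd
    apply hel d (hDY hd)
    have h1 : orderOf (⟨d, hd⟩ : ↥D) ∣ Nat.card D := orderOf_dvd_natCard _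
    have h2 : orderOf (⟨d, hd⟩ : ↥D) = orderOf d := by
      rw [← Subgroup.orderOf_coe]
    rw [h2] at h1
    exact Nat.Coprime.coprime_dvd_left h1 hDp
  -- `Y ≤ [Y,Y] D`
  have hYle : Y ≤ ⁅Y, Y⁆ ⊔ D := by
    rw [← comap_map_mk'_eq_sup, ← Subgroup.map_le_iff_le_comap, Subgroup.map_commutator, hperf]
  set πC := QuotientGroup.mk' C with hπC
  have hDbot : D.map πC = ⊥ := by
    rw [eq_bot_iff]
    rintro _ ⟨d, hd, rfl⟩
    rw [Subgroup.mem_bot, hπC, QuotientGroup.mk'_apply, QuotientGroup.eq_one_iff]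
    exact hDC hd
  have hperfC : ⁅Y.map πC, Y.map πC⁆ = Y.map πC := by
    apply le_antisymm (commutator_self_le _)
    calc Y.map πC ≤ (⁅Y, Y⁆ ⊔ D).map πC := Subgroup.map_mono hYle
      _ = ⁅Y.map πC, Y.map πC⁆ := by
        rw [Subgroup.map_sup, hDbot, sup_bot_eq, Subgroup.map_commutator]
  have hpg : IsPGroup p ↥(Y.map πC) := by
    rintro ⟨_, ⟨y, hy, rfl⟩⟩
    obtain ⟨a, m, hm, hord⟩ := Nat.exists_eq_pow_mul_and_not_dvd (orderOf_pos y).ne' p
      hp.out.ne_one
    refine ⟨a, ?_⟩
    apply Subtype.ext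
    rw [Subgroup.coe_pow, Subgroup.coe_one]
    change (πC y) ^ (p ^ a) = 1
    rw [← map_pow, hπC, QuotientGroup.mk'_apply, QuotientGroup.eq_one_iff]
    apply hel _ (Y.pow_mem hy _)
    have h1 : orderOf (y ^ (p ^ a)) ∣ m := by
      apply orderOf_dvd_of_pow_eq_one
      rw [← pow_mul, ← hord, pow_orderOf_eq_one]
    exact Nat.Coprime.coprime_dvd_left h1
      ((Nat.Prime.coprime_iff_not_dvd hp.out).mpr hm).symm
  have hsolv : Group.IsSolvable ↥(Y.map πC) := by
    have := hpg.isNilpotent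
    infer_instance
  have hbot := eq_bot_of_perfect_of_solvable hperfC hsolv
  intro y hy
  have : πC y ∈ Y.map πC := ⟨y, hy, rfl⟩
  rw [hbot, Subgroup.mem_bot, hπC, QuotientGroup.mk'_apply, QuotientGroup.eq_one_iff] at this
  exact this

end inner

section outer
variable {G : Type*} [Group G] [Finite G]

/-- `O_{p',E}(N_G(P))` centralizes `O_p(G)`, in `N_G(P)`. -/
theorem comap_layer_normalizer_le_centralizer_pCore (p : ℕ) [hp : Fact p.Prime] (P : Subgroup G)
    (hP : IsPGroup p ↥P) :
    (Cfsg.layer (↥(Subgroup.normalizer (P : Set G)) ⧸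
        Cfsg.pPrimeCore p ↥(Subgroup.normalizer (P : Set G)))).comap
      (QuotientGroup.mk' (Cfsg.pPrimeCore p ↥(Subgroup.normalizer (P : Set G)))) ≤
    (Subgroup.centralizer (Cfsg.pCore p G : Set G)).subgroupOf
      (Subgroup.normalizer (P : Set G)) := by
  set N := Subgroup.normalizer (P : Set G) with hN
  set D := Cfsg.pPrimeCore p ↥N with hD
  set π := QuotientGroup.mk' D with hπ
  have hπs : Function.Surjective π := QuotientGroup.mk'_surjective _
  set Y := (Cfsg.layer (↥N ⧸ D)).comap π with hY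
  set Q := Cfsg.pCore p G with hQ
  have hQp : IsPGroup p ↥Q := Cfsg.Agent.Helper5.isPGroup_pCore p
  have hQn : Q.Normal := inferInstance
  have hPN : P ≤ N := Subgroup.le_normalizer
  -- `Y` centralizes `P` and `Q ∩ N`
  have hPsub : IsPGroup p ↥(P.subgroupOf N) :=
    hP.of_equiv (Subgroup.subgroupOfEquivOfLe hPN).symm
  have hQsub : IsPGroup p ↥(Q.subgroupOf N) := hQp.comap_subtype
  have hPn : (P.subgroupOf N).Normal := Subgroup.normal_in_normalizer
  have hYP : ⁅Y, P.subgroupOf N⁆ = ⊥ := comap_layer_commutator_pgroup p _ hPsub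
  have hYQ : ⁅Y, Q.subgroupOf N⁆ = ⊥ := comap_layer_commutator_pgroup p _ hQsub
  rw [Subgroup.commutator_eq_bot_iff_le_centralizer] at hYP hYQ
  -- every `p'`-element of `Y` centralizes `Q`
  have hel : ∀ y ∈ Y, (orderOf y).Coprime p →
      y ∈ (Subgroup.centralizer (Q : Set G)).subgroupOf N := by
    intro y hy hcop
    rw [Subgroup.mem_subgroupOf]
    have hcop' : (orderOf (y : G)).Coprime p := by
      rwa [Subgroup.orderOf_coe]
    have hyP : (y : G) ∈ Subgroup.centralizer (P : Set G) := by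
      rw [Subgroup.mem_centralizer_iff]
      intro x hx
      have := Subgroup.mem_centralizer_iff.mp (hYP hy) ⟨x, hPN hx⟩
        (by rw [SetLike.mem_coe, Subgroup.mem_subgroupOf]; exact hx)
      exact congrArg Subtype.val this
    have hyQn : (y : G) ∈ Subgroup.normalizer (Q : Set G) := by
      rw [Subgroup.normalizer_eq_top]; trivial
    have hPQn : P ≤ Subgroup.normalizer (Q : Set G) := by
      rw [Subgroup.normalizer_eq_top]; exact le_top
    have key := Cfsg.Agent.Helper5.thompson_AxB P hP (y : G) hcop' hyP Q hQp hyQn hPQn (by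
      intro r hrQ hrP
      have hrN : r ∈ N := Subgroup.centralizer_le_normalizer _ hrP
      have := Subgroup.mem_centralizer_iff.mp (hYQ hy) ⟨r, hrN⟩
        (by rw [SetLike.mem_coe, Subgroup.mem_subgroupOf]; exact hrQ)
      exact (congrArg Subtype.val this).symm)
    rw [Subgroup.mem_centralizer_iff]
    intro r hr
    exact (key r hr).symm
  have hCn : ((Subgroup.centralizer (Q : Set G)).subgroupOf N).Normal := by
    have : (Subgroup.centralizer (Q : Set G)).Normal := Subgroup.normal_centralizer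
    exact Subgroup.Normal.subgroupOf this N
  have hDY : D ≤ Y := by
    intro d hd
    rw [hY, Subgroup.mem_comap]
    have : π d = 1 := by
      rw [hπ, QuotientGroup.mk'_apply, QuotientGroup.eq_one_iff]; exact hd
    rw [this]; exact Subgroup.one_mem _
  have hperf : ⁅Y.map π, Y.map π⁆ = Y.map π := by
    rw [hY, Subgroup.map_comap_eq_self_of_surjective hπs]
    exact layer_perfect
  exact le_of_perfect_quotient_of_pprime_elements p Y D _ hDY (card_pPrimeCore_coprime p) hperf hel

end outer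

end Cfsg.Agent.Helper2
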