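import Mathlib
import Cfsg.Agent.Helper3.CoprimeQuot
import Cfsg.Agent.Helper2.PLayerCent

set_option autoImplicit false

namespace Cfsg.Agent.Helper2

open Cfsg.Agent.Helper1 Cfsg.Agent.Helper5
open scoped commutatorElement

section general
variable {G : Type*} [Group G] [Finite G]

/-- If `O_{p'}(G) = 1` and `E(G) = 1` then `G` has characteristic `p`. -/
theorem hasCharP_of_layer_eq_bot (p : ℕ) [hp : Fact p.Prime] (hO : Cfsg.pPrimeCore p G = ⊥)
    (hE : Cfsg.layer G = ⊥) : HasCharP p G := by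
  rw [← isPGroup_generalizedFittingSubgroup_iff]
  have hF : Cfsg.fittingSubgroup G ≤ Cfsg.pCore p G := by
    rw [fittingSubgroup_eq_fitJoin]
    unfold fitJoin
    apply iSup_le
    intro q
    by_cases hq : (q : ℕ) = p
    · rw [hq]
    · have : Fact (q : ℕ).Prime := ⟨q.2⟩
      have h1 : Cfsg.pCore (q : ℕ) G ≤ Cfsg.pPrimeCore p G := by
        apply Cfsg.Agent.Helper1.le_pPrimeCore inferInstance
        obtain ⟨n, hn⟩ := IsPGroup.iff_card.1 (Cfsg.Agent.Helper5.isPGroup_pCore (G := G) (q : ℕ))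
        rw [hn]
        apply Nat.Coprime.pow_left
        rw [Nat.coprime_primes q.2 hp.out]
        exact hq
      rw [hO] at h1
      exact h1.trans bot_le
  have h2 : Cfsg.generalizedFittingSubgroup G ≤ Cfsg.pCore p G := by
    unfold Cfsg.generalizedFittingSubgroup
    rw [hE, bot_sup_eq]
    exact hF
  exact (Cfsg.Agent.Helper5.isPGroup_pCore p).to_le h2

/-- Groups of characteristic `p` have trivial layer and trivial `p'`-core. -/
theorem layer_eq_bot_of_hasCharP (p : ℕ) [hp : Fact p.Prime] (h : HasCharP p G) :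
    Cfsg.layer G = ⊥ := by
  have h1 := (isPGroup_generalizedFittingSubgroup_iff p).mpr h
  have h2 : IsPGroup p ↥(Cfsg.layer G) := h1.to_le layer_le_generalizedFittingSubgroup
  have h3 : Group.IsSolvable ↥(Cfsg.layer G) := by
    have := h2.isNilpotent
    infer_instance
  exact eq_bot_of_perfect_of_solvable layer_perfect h3

theorem pPrimeCore_eq_bot_of_hasCharP (p : ℕ) [hp : Fact p.Prime] (h : HasCharP p G) :
    Cfsg.pPrimeCore p G = ⊥ := by
  have hdisj : Cfsg.pPrimeCore p G ⊓ Cfsg.pCore p G = ⊥ := by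
    apply inf_eq_bot_of_coprime_card
    obtain ⟨k, hk⟩ := IsPGroup.iff_card.mp (Cfsg.Agent.Helper5.isPGroup_pCore (G := G) p)
    rw [hk]
    exact Nat.Coprime.pow_right k (card_pPrimeCore_coprime p)
  have h1 : ⁅Cfsg.pPrimeCore p G, Cfsg.pCore p G⁆ = ⊥ := by
    rw [eq_bot_iff, ← hdisj]
    exact le_inf (Subgroup.commutator_le_left _ _) (Subgroup.commutator_le_right _ _)
  rw [Subgroup.commutator_eq_bot_iff_le_centralizer] at h1
  rw [eq_bot_iff, ← hdisj]
  exact le_inf le_rfl (h1.trans h)

/-- Image of the normalizer of a `p`-subgroup modulo a normal `p'`-subgroup. -/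
theorem map_normalizer_eq_of_coprime (p : ℕ) [hp : Fact p.Prime] (O : Subgroup G) [O.Normal]
    (hO : (Nat.card O).Coprime p) (P : Subgroup G) (hP : IsPGroup p P) :
    (Subgroup.normalizer (P : Set G)).map (QuotientGroup.mk' O) =
      Subgroup.normalizer ((P.map (QuotientGroup.mk' O) : Subgroup (G ⧸ O)) : Set (G ⧸ O)) := by
  set π := QuotientGroup.mk' O with hπ
  apply le_antisymm
  · exact Subgroup.le_normalizer_map π
  · intro q hq
    obtain ⟨g, rfl⟩ := QuotientGroup.mk'_surjective O q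
    -- `g P g⁻¹ ≤ P O`
    have hZle : cj g P ≤ P ⊔ O := by
      rintro _ ⟨x, hx, rfl⟩
      have h1 : π (g * x * g⁻¹) ∈ P.map π := by
        have := (Subgroup.mem_normalizer_iff.mp hq (π x)).mp ⟨x, hx, rfl⟩
        rwa [← map_inv, ← map_mul, ← map_mul] at this
      have h2 : g * x * g⁻¹ ∈ (P.map π).comap π := h1
      rw [hπ, comap_map_mk'_eq_sup] at h2
      exact h2
    obtain ⟨n, hn, hnz⟩ := Cfsg.Agent.Helper3.exists_conj_into' O hO P (cj g P) hP
      (isPGroup_cj hP g) hZle
    have hle : cj (n * g) P ≤ P := by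
      rintro _ ⟨x, hx, rfl⟩
      have := hnz (g * x * g⁻¹) ⟨x, hx, rfl⟩
      have e : n * (g * x * g⁻¹) * n⁻¹ = n * g * x * (n * g)⁻¹ := by group
      rw [e] at this
      exact this
    have heq : cj (n * g) P = P := by
      apply Subgroup.eq_of_le_of_card_ge hle
      rw [cj, Subgroup.card_map_of_injective (MulEquiv.injective _)]
    have hng : n * g ∈ Subgroup.normalizer (P : Set G) := (mem_normalizer_iff_cj P _).mpr heq
    refine ⟨n * g, hng, ?_⟩
    rw [map_mul]
    have : π n = 1 := by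
      rw [hπ, QuotientGroup.mk'_apply, QuotientGroup.eq_one_iff]; exact hn
    rw [this, one_mul]

end general

section surj
variable {A B : Type*} [Group A] [Group B] [Finite A] [Finite B]

/-- Pull back `O_{p'} = 1` along a surjection with `p'`-kernel. -/
theorem pPrimeCore_eq_ker_of_surjective (p : ℕ) [hp : Fact p.Prime] (f : A →* B)
    (hf : Function.Surjective f) (hker : (Nat.card f.ker).Coprime p)
    (hB : Cfsg.pPrimeCore p B = ⊥) : Cfsg.pPrimeCore p A = f.ker := by
  apply le_antisymm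
  · have h1 : (Cfsg.pPrimeCore p A).map f ≤ Cfsg.pPrimeCore p B := by
      apply Cfsg.Agent.Helper1.le_pPrimeCore (Subgroup.Normal.map inferInstance f hf)
      exact Nat.Coprime.coprime_dvd_left (Subgroup.card_map_dvd _ _) (card_pPrimeCore_coprime p)
    rw [hB] at h1
    intro x hx
    rw [MonoidHom.mem_ker]
    have : f x ∈ (Cfsg.pPrimeCore p A).map f := ⟨x, hx, rfl⟩
    exact (Subgroup.mem_bot.mp (h1 this))
  · exact Cfsg.Agent.Helper1.le_pPrimeCore inferInstance hker

theorem pLayer_eq_bot_of_surjective (p : ℕ) [hp : Fact p.Prime] (f : A →* B)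
    (hf : Function.Surjective f) (hker : (Nat.card f.ker).Coprime p)
    (hB : Cfsg.pPrimeCore p B = ⊥) (hE : Cfsg.layer B = ⊥) : Cfsg.pLayer p A = ⊥ := by
  have hk := pPrimeCore_eq_ker_of_surjective p f hf hker hB
  let e : A ⧸ Cfsg.pPrimeCore p A ≃* B :=
    (QuotientGroup.quotientMulEquivOfEq hk).trans (QuotientGroup.quotientKerEquivOfSurjective f hf)
  unfold Cfsg.pLayer
  rw [eq_bot_iff]
  apply sSup_le
  intro K hK
  exfalso
  have h1 := isComponent_map_equiv e hK.2.1
  have h2 := component_le_layer h1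
  rw [hE] at h2
  exact component_ne_bot h1 (le_bot_iff.mp h2)

end surj

section main
variable {G : Type*} [Group G] [Finite G]

theorem pLayer_normalizer_eq_bot (p : ℕ) [hp : Fact p.Prime] (hL : Cfsg.pLayer p G = ⊥)
    (P : Subgroup G) (hP : IsPGroup p ↥P) :
    Cfsg.pLayer p ↥(Subgroup.normalizer (P : Set G)) = ⊥ ∧
    (Cfsg.pPrimeCore p ↥(Subgroup.normalizer (P : Set G))).map
      (Subgroup.normalizer (P : Set G)).subtype ≤ Cfsg.pPrimeCore p G := by
  set O := Cfsg.pPrimeCore p G with hO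
  set π := QuotientGroup.mk' O with hπ
  set N := Subgroup.normalizer (P : Set G) with hN
  have hObar : Cfsg.pPrimeCore p (G ⧸ O) = ⊥ := pPrimeCore_quotient_pPrimeCore p
  have hEbar : Cfsg.layer (G ⧸ O) = ⊥ := by
    rw [← map_pLayer p, hL, Subgroup.map_bot]
  have hchar : HasCharP p (G ⧸ O) := hasCharP_of_layer_eq_bot p hObar hEbar
  have hM : HasCharP p ↥(N.map π) := by
    rw [hN, hπ, map_normalizer_eq_of_coprime p O (card_pPrimeCore_coprime p) P hP]
    exact hasCharP_normalizer hchar _ (hP.map _)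
  have hf : Function.Surjective (π.subgroupMap N) := π.subgroupMap_surjective N
  have hker : (π.subgroupMap N).ker = O.subgroupOf N := by
    rw [Subgroup.ker_subgroupMap, hπ, QuotientGroup.ker_mk']
  have hkc : (Nat.card (π.subgroupMap N).ker).Coprime p := by
    rw [hker, card_subgroupOf]
    exact Nat.Coprime.coprime_dvd_left (Subgroup.card_dvd_of_le inf_le_left)
      (card_pPrimeCore_coprime p)
  have h1 := pPrimeCore_eq_bot_of_hasCharP p hM
  have h2 := layer_eq_bot_of_hasCharP p hM
  refine ⟨pLayer_eq_bot_of_surjective p _ hf hkc h1 h2, ?_⟩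
  rw [pPrimeCore_eq_ker_of_surjective p _ hf hkc h1, hker]
  rintro _ ⟨x, hx, rfl⟩
  exact Subgroup.mem_subgroupOf.mp hx

end main

end Cfsg.Agent.Helper2
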