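import Mathlib
import Cfsg.Agent.Helper2.PConstrained

set_option autoImplicit false

namespace Cfsg.Agent.Helper2

open Cfsg.Agent.Helper1 Cfsg.Agent.Helper5
open scoped commutatorElement

section general
variable {G : Type*} [Group G] [Finite G]

omit [Finite G] in
theorem map_centralizer_le {H : Type*} [Group H] (f : G →* H) (P : Subgroup G) :
    (Subgroup.centralizer (P : Set G)).map f ≤
      Subgroup.centralizer ((P.map f : Subgroup H) : Set H) := by
  rintro _ ⟨g, hg, rfl⟩
  rw [Subgroup.mem_centralizer_iff]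
  rintro _ ⟨x, hx, rfl⟩
  rw [← map_mul, ← map_mul, Subgroup.mem_centralizer_iff.mp hg x hx]

/-- Image of the centralizer of a `p`-subgroup modulo a normal `p'`-subgroup. -/
theorem map_centralizer_eq_of_coprime (p : ℕ) [hp : Fact p.Prime] (O : Subgroup G) [O.Normal]
    (hO : (Nat.card O).Coprime p) (P : Subgroup G) (hP : IsPGroup p P) :
    (Subgroup.centralizer (P : Set G)).map (QuotientGroup.mk' O) =
      Subgroup.centralizer ((P.map (QuotientGroup.mk' O) : Subgroup (G ⧸ O)) : Set (G ⧸ O)) := by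
  set π := QuotientGroup.mk' O with hπ
  apply le_antisymm (map_centralizer_le π P)
  intro q hq
  have hqn : q ∈ Subgroup.normalizer ((P.map π : Subgroup (G ⧸ O)) : Set (G ⧸ O)) :=
    Subgroup.centralizer_le_normalizer _ hq
  rw [hπ, ← map_normalizer_eq_of_coprime p O hO P hP] at hqn
  obtain ⟨g, hg, rfl⟩ := hqn
  refine ⟨g, ?_, rfl⟩
  have hdisj : P ⊓ O = ⊥ := by
    apply inf_eq_bot_of_coprime_card
    obtain ⟨k, hk⟩ := IsPGroup.iff_card.mp hP
    rw [hk]
    exact (Nat.Coprime.pow_right k hO).symm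
  have hg' : g ∈ Subgroup.normalizer (P : Set G) := hg
  change g ∈ Subgroup.centralizer (P : Set G)
  rw [Subgroup.mem_centralizer_iff]
  intro x hx
  have h1 : g * x * g⁻¹ * x⁻¹ ∈ P :=
    P.mul_mem ((Subgroup.mem_normalizer_iff.mp hg' x).mp hx) (P.inv_mem hx)
  have h2 : g * x * g⁻¹ * x⁻¹ ∈ O := by
    rw [← QuotientGroup.eq_one_iff, ← QuotientGroup.mk'_apply]
    have := Subgroup.mem_centralizer_iff.mp hq (π x) ⟨x, hx, rfl⟩
    change π (g * x * g⁻¹ * x⁻¹) = 1
    rw [map_mul, map_mul, map_mul, map_inv, map_inv, ← this, mul_inv_cancel_right, mul_inv_cancel]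
  have h3 : g * x * g⁻¹ * x⁻¹ ∈ P ⊓ O := ⟨h1, h2⟩
  rw [hdisj, Subgroup.mem_bot] at h3
  have : g * x = x * g := by
    have h4 := congrArg (· * (x * g)) h3
    simpa [mul_assoc] using h4
  exact this.symm

end general

section main
variable {X : Type*} [Group X] [Finite X]

/-- The image of a Sylow `p`-subgroup of `O_{p',p}(X)` is `O_p(X / O_{p'}(X))`. -/
theorem map_sylow_pPrimePCore (p : ℕ) [hp : Fact p.Prime] (P : Sylow p ↥(Cfsg.pPrimePCore p X)) :
    (((P : Subgroup ↥(Cfsg.pPrimePCore p X)).map (Cfsg.pPrimePCore p X).subtype).map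
      (QuotientGroup.mk' (Cfsg.pPrimeCore p X))) = Cfsg.pCore p (X ⧸ Cfsg.pPrimeCore p X) := by
  set O := Cfsg.pPrimeCore p X with hO
  set π := QuotientGroup.mk' O with hπ
  set Q := Cfsg.pCore p (X ⧸ O) with hQ
  have hQp : IsPGroup p ↥Q := Cfsg.Agent.Helper5.isPGroup_pCore p
  let f : ↥(Cfsg.pPrimePCore p X) →* ↥Q :=
    (π.comp (Cfsg.pPrimePCore p X).subtype).codRestrict Q (fun r => r.2)
  have hf : Function.Surjective f := by
    rintro ⟨y, hy⟩
    obtain ⟨x, rfl⟩ := QuotientGroup.mk'_surjective O y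
    exact ⟨⟨x, hy⟩, rfl⟩
  have hS : ((P.mapSurjective hf : Sylow p ↥Q) : Subgroup ↥Q) = ⊤ :=
    ((P.mapSurjective hf).is_maximal' (hQp.to_subgroup ⊤) le_top).symm
  rw [Sylow.coe_mapSurjective] at hS
  ext y
  constructor
  · rintro ⟨_, ⟨r, hr, rfl⟩, rfl⟩
    exact r.2
  · intro hy
    have : (⟨y, hy⟩ : ↥Q) ∈ (P : Subgroup ↥(Cfsg.pPrimePCore p X)).map f := by rw [hS]; trivial
    obtain ⟨r, hr, hry⟩ := this
    refine ⟨r, ⟨r, hr, rfl⟩, ?_⟩
    exact congrArg Subtype.val hry

theorem isPConstrained_iff (p : ℕ) [hp : Fact p.Prime] :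
    Cfsg.IsPConstrained p X ↔ Cfsg.pLayer p X = ⊥ := by
  set O := Cfsg.pPrimeCore p X with hO
  set π := QuotientGroup.mk' O with hπ
  set Q := Cfsg.pCore p (X ⧸ O) with hQ
  have hOc : (Nat.card O).Coprime p := card_pPrimeCore_coprime p
  constructor
  · intro hc
    by_contra hne
    have hex : ∃ K : Subgroup X, Cfsg.IsPComponent p K := by
      by_contra hno
      rw [not_exists] at hno
      apply hne
      unfold Cfsg.pLayer
      rw [eq_bot_iff]
      apply sSup_le
      intro K hK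
      exact absurd hK (hno K)
    obtain ⟨K, hK⟩ := hex
    have hKbar := hK.2.1
    obtain ⟨P⟩ : Nonempty (Sylow p ↥(Cfsg.pPrimePCore p X)) := inferInstance
    set P' := (P : Subgroup ↥(Cfsg.pPrimePCore p X)).map (Cfsg.pPrimePCore p X).subtype with hP'
    have hP'p : IsPGroup p ↥P' := P.2.map _
    have h1 : P'.map π = Q := map_sylow_pPrimePCore p P
    have h2 : ⁅K.map π, Q⁆ = ⊥ := by
      apply component_commutator_solvable_eq_bot _ Q hKbar (isSolvable_pCore p)
      rw [Subgroup.normalizer_eq_top]; exact le_top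
    rw [Subgroup.commutator_eq_bot_iff_le_centralizer, ← h1, hπ,
      ← map_centralizer_eq_of_coprime p O hOc P' hP'p] at h2
    have h3 : K.map π ≤ Q := by
      refine h2.trans ?_
      rw [Subgroup.map_le_iff_le_comap]
      exact hc P
    have hs : Group.IsSolvable ↥(K.map π) := isSolvable_of_le h3 (isSolvable_pCore p)
    exact component_not_solvable hKbar hs
  · intro hL
    have hObar : Cfsg.pPrimeCore p (X ⧸ O) = ⊥ := pPrimeCore_quotient_pPrimeCore p
    have hEbar : Cfsg.layer (X ⧸ O) = ⊥ := by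
      rw [← map_pLayer p, hL, Subgroup.map_bot]
    have hchar : HasCharP p (X ⧸ O) := hasCharP_of_layer_eq_bot p hObar hEbar
    intro P g hg
    change π g ∈ Q
    apply hchar
    rw [← map_sylow_pPrimePCore p P]
    exact map_centralizer_le π _ ⟨g, hg, rfl⟩

end main

end Cfsg.Agent.Helper2
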