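import Mathlib
import Cfsg.Agent.Helper2.PConstrained2

set_option autoImplicit false

namespace Cfsg.Agent.Helper2

open Cfsg.Agent.Helper1 Cfsg.Agent.Helper5
open scoped commutatorElement

section basic
variable {X : Type*} [Group X] [Finite X]

theorem pLayer_eq_bot_iff_layer (p : ℕ) [hp : Fact p.Prime] :
    Cfsg.pLayer p X = ⊥ ↔ Cfsg.layer (X ⧸ Cfsg.pPrimeCore p X) = ⊥ := by
  constructor
  · intro h
    rw [← map_pLayer p, h, Subgroup.map_bot]
  · intro h
    unfold Cfsg.pLayer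
    rw [eq_bot_iff]
    apply sSup_le
    intro K hK
    exfalso
    have h2 := component_le_layer hK.2.1
    rw [h] at h2
    exact component_ne_bot hK.2.1 (le_bot_iff.mp h2)

theorem pLayer_eq_bot_iff_hasCharP (p : ℕ) [hp : Fact p.Prime] :
    Cfsg.pLayer p X = ⊥ ↔ HasCharP p (X ⧸ Cfsg.pPrimeCore p X) := by
  rw [pLayer_eq_bot_iff_layer]
  constructor
  · intro h
    exact hasCharP_of_layer_eq_bot p (pPrimeCore_quotient_pPrimeCore p) h
  · intro h
    exact layer_eq_bot_of_hasCharP p h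

end basic

section equiv
variable {A B : Type*} [Group A] [Group B] [Finite A] [Finite B]

theorem pLayer_eq_bot_of_equiv (p : ℕ) [hp : Fact p.Prime] (e : A ≃* B)
    (h : Cfsg.pLayer p A = ⊥) : Cfsg.pLayer p B = ⊥ := by
  rw [pLayer_eq_bot_iff_hasCharP] at h ⊢
  have he : (Cfsg.pPrimeCore p A).map e.toMonoidHom = Cfsg.pPrimeCore p B :=
    pPrimeCore_map_equiv p e
  exact h.of_equiv (QuotientGroup.congr (Cfsg.pPrimeCore p A) (Cfsg.pPrimeCore p B) e he)

end equiv

section main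
variable {G : Type*} [Group G] [Finite G]

theorem pLayer_eq_bot_of_subnormal (p : ℕ) [hp : Fact p.Prime] (K : Subgroup G)
    (hK : K.IsSubnormal) (h : Cfsg.pLayer p G = ⊥) : Cfsg.pLayer p ↥K = ⊥ := by
  rw [pLayer_eq_bot_iff_hasCharP] at h ⊢
  have h1 : HasCharP p ↥(K.map (QuotientGroup.mk' (Cfsg.pPrimeCore p G))) :=
    h.of_subnormal _ (hK.map (QuotientGroup.mk'_surjective _))
  exact h1.of_equiv (subnormalQuotEquiv p K hK).symm

theorem isPConstrained_quotient_iff (p : ℕ) [hp : Fact p.Prime] :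
    Cfsg.IsPConstrained p G ↔ Cfsg.IsPConstrained p (G ⧸ Cfsg.pPrimeCore p G) := by
  rw [isPConstrained_iff, isPConstrained_iff, pLayer_eq_bot_iff_hasCharP,
    pLayer_eq_bot_iff_hasCharP]
  have hbot : Cfsg.pPrimeCore p (G ⧸ Cfsg.pPrimeCore p G) = ⊥ := pPrimeCore_quotient_pPrimeCore p
  let e : (G ⧸ Cfsg.pPrimeCore p G) ⧸ Cfsg.pPrimeCore p (G ⧸ Cfsg.pPrimeCore p G) ≃*
      G ⧸ Cfsg.pPrimeCore p G :=
    (QuotientGroup.quotientMulEquivOfEq hbot).trans QuotientGroup.quotientBot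
  exact ⟨fun h => h.of_equiv e.symm, fun h => h.of_equiv e⟩

theorem isPConstrained_local (p : ℕ) [hp : Fact p.Prime] (hG : Cfsg.IsPConstrained p G)
    (P : Subgroup G) (hP : IsPGroup p P) :
    Cfsg.IsPConstrained p ↥(Subgroup.normalizer (P : Set G)) ∧
      Cfsg.IsPConstrained p ↥(Subgroup.centralizer (P : Set G)) := by
  rw [isPConstrained_iff] at hG
  rw [isPConstrained_iff, isPConstrained_iff]
  have h1 := (pLayer_normalizer_eq_bot p hG P hP).1
  refine ⟨h1, ?_⟩
  set N := Subgroup.normalizer (P : Set G) with hN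
  set C := Subgroup.centralizer (P : Set G) with hC
  have hCN : C ≤ N := Subgroup.centralizer_le_normalizer _
  have hn : (C.subgroupOf N).Normal :=
    (Subgroup.normal_subgroupOf_iff_le_normalizer hCN).mpr (Cfsg.Agent.Helper5.normalizer_le_normalizer_centralizer P)
  have h2 := pLayer_eq_bot_of_subnormal p (C.subgroupOf N) (Subgroup.Normal.isSubnormal hn) h1
  exact pLayer_eq_bot_of_equiv p (Subgroup.subgroupOfEquivOfLe hCN) h2

end main

end Cfsg.Agent.Helper2
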