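import Mathlib
import Cfsg.Agent.Helper2.Conj

set_option autoImplicit false

namespace Cfsg.Agent.Helper2

variable {G : Type*} [Group G]

/-- Normalizer growth inside a `p`-subgroup. -/
theorem exists_mem_normalizer_notMem_of_lt [Finite G] {p : ℕ} [Fact p.Prime] {R Z : Subgroup G}
    (hR : IsPGroup p R) (hlt : Z < R) :
    ∃ r ∈ R, r ∉ Z ∧ r ∈ Subgroup.normalizer (Z : Set G) := by
  have : Group.IsNilpotent R := hR.isNilpotent
  have hlt' : Z.subgroupOf R < ⊤ := by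
    rw [lt_top_iff_ne_top, Ne, Subgroup.subgroupOf_eq_top]
    exact not_le_of_gt hlt
  have hnc := Group.normalizerCondition_of_isNilpotent (G := R) _ hlt'
  obtain ⟨n, hnN, hnS⟩ := SetLike.exists_of_lt hnc
  refine ⟨n, n.2, fun h => hnS (Subgroup.mem_subgroupOf.mpr h), ?_⟩
  rw [Subgroup.mem_normalizer_iff]
  intro x
  have hn := Subgroup.mem_normalizer_iff.mp hnN
  constructor
  · intro hx
    have h1 := (hn ⟨x, hlt.le hx⟩).mp (Subgroup.mem_subgroupOf.mpr hx)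
    exact Subgroup.mem_subgroupOf.mp h1
  · intro hx
    have hxR : x ∈ R := by
      have h2 : (n : G) * x * (n : G)⁻¹ ∈ R := hlt.le hx
      have : x = (n : G)⁻¹ * ((n : G) * x * (n : G)⁻¹) * (n : G) := by group
      rw [this]
      exact R.mul_mem (R.mul_mem (R.inv_mem n.2) h2) n.2
    have h1 := (hn ⟨x, hxR⟩).mpr (Subgroup.mem_subgroupOf.mpr hx)
    exact Subgroup.mem_subgroupOf.mp h1

theorem cj_sSup_le {g : G} {Θ : Set (Subgroup G)} {T : Subgroup G}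
    (h : ∀ Y ∈ Θ, cj g Y ≤ T) : cj g (sSup Θ) ≤ T := by
  rw [cj, Subgroup.map_le_iff_le_comap]
  apply sSup_le
  intro Y hY
  rw [← Subgroup.map_le_iff_le_comap]
  exact h Y hY

/-- In a `p`-group `R` with an `R`-invariant family `𝒴` of subgroups, if `Θ ⊆ 𝒴` consists of all
members of `𝒴` inside `T = ⟨Θ⟩` and `𝒴 ≠ Θ`, some member of `𝒴` outside `Θ` normalizes `T`. -/
theorem exists_normalizing_member [Finite G] {p : ℕ} [Fact p.Prime] (R : Subgroup G)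
    (hR : IsPGroup p R) (𝒴 Θ : Set (Subgroup G)) (hΘ : Θ ⊆ 𝒴) (h𝒴R : ∀ Y ∈ 𝒴, Y ≤ R)
    (hinv : ∀ Y ∈ 𝒴, ∀ r ∈ R, cj r Y ∈ 𝒴) (hT : ∀ Y ∈ 𝒴, Y ≤ sSup Θ → Y ∈ Θ)
    (Y₀ : Subgroup G) (hY₀ : Y₀ ∈ 𝒴) (hY₀' : Y₀ ∉ Θ) :
    ∃ Y ∈ 𝒴, Y ∉ Θ ∧ Y ≤ Subgroup.normalizer ((sSup Θ : Subgroup G) : Set G) := by
  have hTR : sSup Θ ≤ R := sSup_le fun Y hY => h𝒴R Y (hΘ hY)
  let 𝒵 : Set (Subgroup G) := {Z | sSup Θ ≤ Z ∧ Z ≤ R ∧ ∀ Y ∈ 𝒴, Y ≤ Z → Y ∈ Θ}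
  have hT𝒵 : sSup Θ ∈ 𝒵 := ⟨le_refl _, hTR, hT⟩
  obtain ⟨Z, -, hZmax⟩ := (Set.toFinite 𝒵).exists_le_maximal hT𝒵
  obtain ⟨hTZ, hZR, hZΘ⟩ := hZmax.prop
  have hZne : Z ≠ R := by
    rintro rfl
    exact hY₀' (hZΘ Y₀ hY₀ (h𝒴R Y₀ hY₀))
  have hZlt : Z < R := lt_of_le_of_ne hZR hZne
  obtain ⟨r, hrR, hrZ, hrN⟩ := exists_mem_normalizer_notMem_of_lt hR hZlt
  have hZ'le : Z ≤ R ⊓ Subgroup.normalizer (Z : Set G) := le_inf hZR Subgroup.le_normalizer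
  have hZ'notin : R ⊓ Subgroup.normalizer (Z : Set G) ∉ 𝒵 := by
    intro hmem
    have := hZmax.le_of_ge hmem hZ'le
    exact hrZ (this ⟨hrR, hrN⟩)
  have hex : ∃ Y ∈ 𝒴, Y ≤ R ⊓ Subgroup.normalizer (Z : Set G) ∧ Y ∉ Θ := by
    by_contra hcon
    push Not at hcon
    exact hZ'notin ⟨hTZ.trans hZ'le, inf_le_left, hcon⟩
  obtain ⟨Y, hY𝒴, hYle, hYΘ⟩ := hex
  refine ⟨Y, hY𝒴, hYΘ, ?_⟩
  have hcjle : ∀ y ∈ Y, cj y (sSup Θ) ≤ sSup Θ := by
    intro y hy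
    apply cj_sSup_le
    intro Y' hY'
    have hyR : y ∈ R := (hYle hy).1
    have hyN : y ∈ Subgroup.normalizer (Z : Set G) := (hYle hy).2
    have h1 : cj y Y' ∈ 𝒴 := hinv Y' (hΘ hY') y hyR
    have h2 : cj y Y' ≤ Z := by
      calc cj y Y' ≤ cj y Z := cj_mono ((le_sSup hY').trans hTZ) y
        _ = Z := (mem_normalizer_iff_cj Z y).mp hyN
    exact le_sSup (hZΘ _ h1 h2)
  intro y hy
  rw [mem_normalizer_iff_cj]
  apply le_antisymm (hcjle y hy)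
  have h3 := hcjle y⁻¹ (Y.inv_mem hy)
  calc sSup Θ = cj y (cj y⁻¹ (sSup Θ)) := by rw [cj_cj, mul_inv_cancel, cj_one]
    _ ≤ cj y (sSup Θ) := cj_mono h3 y

theorem coe_smul_sylow_eq_cj {p : ℕ} (P : Sylow p G) (g : G) :
    ((g • P : Sylow p G) : Subgroup G) = cj g (P : Subgroup G) := by
  ext x
  rw [mem_smul_sylow_iff, mem_cj_iff]

/-- **Baer–Suzuki theorem.** -/
theorem baer_suzuki [Finite G] {p : ℕ} [Fact p.Prime] (X : Subgroup G) (hX : IsPGroup p X)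
    (h : ∀ g : G, IsPGroup p ↥(X ⊔ cj g X)) :
    ∃ N : Subgroup G, N.Normal ∧ IsPGroup p N ∧ X ≤ N := by
  -- the members of the class of `X` inside a subgroup `P`
  let 𝒦 : Subgroup G → Set (Subgroup G) := fun P => {Y | (∃ g : G, Y = cj g X) ∧ Y ≤ P}
  -- pairwise generation of `p`-groups
  have hpair : ∀ a b : G, IsPGroup p ↥(cj a X ⊔ cj b X) := by
    intro a b
    have h1 : cj a X ⊔ cj b X = cj a (X ⊔ cj (a⁻¹ * b) X) := by
      have e : cj a (X ⊔ cj (a⁻¹ * b) X) = cj a X ⊔ cj a (cj (a⁻¹ * b) X) :=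
        Subgroup.map_sup _ _ _
      rw [e, cj_cj, mul_inv_cancel_left]
    rw [h1]
    exact isPGroup_cj (h (a⁻¹ * b)) a
  -- conjugation moves `𝒦 P` to `𝒦 (cj g P)`
  have hconj : ∀ (g : G) (P Y : Subgroup G), Y ∈ 𝒦 P → cj g Y ∈ 𝒦 (cj g P) := by
    rintro g P Y ⟨⟨a, rfl⟩, hYP⟩
    exact ⟨⟨g * a, by rw [cj_cj]⟩, cj_mono hYP g⟩
  have hcjinj : ∀ g : G, Function.Injective (cj g : Subgroup G → Subgroup G) := by
    intro g A B hAB
    have := congrArg (cj g⁻¹) hAB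
    simpa [cj_cj, cj_one] using this
  have himage : ∀ (g : G) (P : Subgroup G), 𝒦 (cj g P) = cj g '' 𝒦 P := by
    intro g P
    ext Y
    constructor
    · intro hY
      refine ⟨cj g⁻¹ Y, ?_, by rw [cj_cj, mul_inv_cancel, cj_one]⟩
      have := hconj g⁻¹ _ Y hY
      rwa [cj_cj, inv_mul_cancel, cj_one] at this
    · rintro ⟨Y', hY', rfl⟩
      exact hconj g P Y' hY'
  have hcard : ∀ P S : Sylow p G, (𝒦 (P : Subgroup G)).ncard = (𝒦 (S : Subgroup G)).ncard := by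
    intro P S
    obtain ⟨g, rfl⟩ := MulAction.exists_smul_eq G P S
    rw [coe_smul_sylow_eq_cj, himage, Set.ncard_image_of_injective _ (hcjinj g)]
  by_cases hall : ∀ P S : Sylow p G, 𝒦 (P : Subgroup G) = 𝒦 (S : Subgroup G)
  · -- all Sylow subgroups contain the same members: their join is normal
    obtain ⟨P, hXP⟩ := hX.exists_le_sylow
    refine ⟨sSup (𝒦 (P : Subgroup G)), ?_, ?_, ?_⟩
    · have hcjN : ∀ g : G, cj g (sSup (𝒦 (P : Subgroup G))) ≤ sSup (𝒦 (P : Subgroup G)) := by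
        intro g
        apply cj_sSup_le
        intro Y hY
        apply le_sSup
        have := hconj g _ Y hY
        rw [← coe_smul_sylow_eq_cj, hall (g • P) P] at this
        exact this
      constructor
      intro n hn g
      exact hcjN g (conj_mem_cj _ g n hn)
    · have hle : sSup (𝒦 (P : Subgroup G)) ≤ (P : Subgroup G) := sSup_le fun Y hY => hY.2
      exact P.isPGroup'.to_le hle
    · exact le_sSup ⟨⟨1, (cj_one X).symm⟩, hXP⟩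
  · exfalso
    push Not at hall
    obtain ⟨P₀, S₀, hPS₀⟩ := hall
    have : Nonempty {q : Sylow p G × Sylow p G // 𝒦 (q.1 : Subgroup G) ≠ 𝒦 (q.2 : Subgroup G)} :=
      ⟨⟨(P₀, S₀), hPS₀⟩⟩
    obtain ⟨⟨⟨P, S⟩, hPS⟩, hmax⟩ := Finite.exists_max
      (fun q : {q : Sylow p G × Sylow p G // 𝒦 (q.1 : Subgroup G) ≠ 𝒦 (q.2 : Subgroup G)} =>
        (𝒦 (q.1.1 : Subgroup G) ∩ 𝒦 (q.1.2 : Subgroup G)).ncard)
    simp only at hPS hmax
    have hmax' : ∀ P' S' : Sylow p G, (𝒦 (P : Subgroup G) ∩ 𝒦 (S : Subgroup G)).ncard <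
        (𝒦 (P' : Subgroup G) ∩ 𝒦 (S' : Subgroup G)).ncard →
        𝒦 (P' : Subgroup G) = 𝒦 (S' : Subgroup G) := by
      intro P' S' hlt
      by_contra hne
      have := hmax ⟨(P', S'), hne⟩
      simp only at this
      omega
    -- key step, symmetric in `P` and `S`
    have key : ∀ P S : Sylow p G, 𝒦 (P : Subgroup G) ≠ 𝒦 (S : Subgroup G) →
        ∃ Y ∈ 𝒦 (P : Subgroup G), Y ∉ 𝒦 (P : Subgroup G) ∩ 𝒦 (S : Subgroup G) ∧
          Y ≤ Subgroup.normalizer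
            ((sSup (𝒦 (P : Subgroup G) ∩ 𝒦 (S : Subgroup G)) : Subgroup G) : Set G) := by
      intro P S hPS
      have hnsub : ¬ 𝒦 (P : Subgroup G) ⊆ 𝒦 (S : Subgroup G) := by
        intro hsub
        exact hPS (Set.eq_of_subset_of_ncard_le hsub (hcard S P).le (Set.toFinite _))
      obtain ⟨Y₀, hY₀P, hY₀S⟩ := Set.not_subset.mp hnsub
      apply exists_normalizing_member (P : Subgroup G) P.isPGroup' (𝒦 (P : Subgroup G))
        (𝒦 (P : Subgroup G) ∩ 𝒦 (S : Subgroup G)) Set.inter_subset_left (fun Y hY => hY.2)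
        ?_ ?_ Y₀ hY₀P (fun h => hY₀S h.2)
      · intro Y hY r hr
        have := hconj r _ Y hY
        rwa [(mem_normalizer_iff_cj (P : Subgroup G) r).mp (Subgroup.le_normalizer hr)] at this
      · intro Y hY hYT
        refine ⟨hY, hY.1, hYT.trans (sSup_le fun Y' hY' => hY'.2.2)⟩
    obtain ⟨Y, hYP, hYΘ, hYN⟩ := key P S hPS
    obtain ⟨Y', hY'S, hY'Θ, hY'N⟩ := key S P (Ne.symm hPS)
    rw [Set.inter_comm] at hY'Θ hY'N
    set Θ := 𝒦 (P : Subgroup G) ∩ 𝒦 (S : Subgroup G) with hΘdef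
    have hW : IsPGroup p ↥(Y ⊔ Y') := by
      obtain ⟨a, rfl⟩ := hYP.1
      obtain ⟨b, rfl⟩ := hY'S.1
      exact hpair a b
    have hTp : IsPGroup p ↥(sSup Θ) :=
      P.isPGroup'.to_le (sSup_le fun Y'' hY'' => hY''.1.2)
    have hWT : IsPGroup p ↥((Y ⊔ Y') ⊔ sSup Θ) :=
      IsPGroup.to_sup_of_normal_right' hW hTp (sup_le hYN hY'N)
    obtain ⟨S', hS'⟩ := hWT.exists_le_sylow
    have hYS' : Y ≤ (S' : Subgroup G) := (le_sup_left.trans le_sup_left).trans hS'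
    have hY'S' : Y' ≤ (S' : Subgroup G) := (le_sup_right.trans le_sup_left).trans hS'
    have hΘS' : ∀ Y'' ∈ Θ, Y'' ∈ 𝒦 (S' : Subgroup G) := fun Y'' hY'' =>
      ⟨hY''.1.1, ((le_sSup hY'').trans le_sup_right).trans hS'⟩
    have h1 : 𝒦 (P : Subgroup G) = 𝒦 (S' : Subgroup G) := by
      apply hmax' P S'
      apply Set.ncard_lt_ncard _ (Set.toFinite _)
      refine ⟨fun Y'' hY'' => ⟨hY''.1, hΘS' Y'' hY''⟩, fun hsub => hYΘ (hsub ⟨hYP, hYP.1, hYS'⟩)⟩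
    have h2 : 𝒦 (S : Subgroup G) = 𝒦 (S' : Subgroup G) := by
      apply hmax' S S'
      apply Set.ncard_lt_ncard _ (Set.toFinite _)
      refine ⟨fun Y'' hY'' => ⟨hY''.2, hΘS' Y'' hY''⟩, fun hsub => hY'Θ (hsub ⟨hY'S, hY'S.1, hY'S'⟩)⟩
    exact hPS (h1.trans h2.symm)

end Cfsg.Agent.Helper2
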