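import Mathlib
import Cfsg.Prelude.Def_LieExceptional
import Cfsg.Prelude.Def_OddOrderLocal
import Cfsg.Agent.Helper1.Cores
import Cfsg.Agent.Helper1.CNFrobenius

set_option autoImplicit false

/-!
Three-step groups (with respect to an arbitrary natural number `p`) are not nilpotent and have no
nontrivial normal Sylow subgroup.  Subgroups of CN-groups are CN-groups.
-/

namespace Cfsg.Agent.Helper2

namespace CNThree

open Cfsg

universe u

variable {G : Type u} [Group G]

/-- For arbitrary `p`, the `p`-core of a finite group is a normal `p`-group. -/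
theorem pCore_gen_mem [Finite G] (p : ℕ) :
    (Cfsg.pCore p G).Normal ∧ IsPGroup p (Cfsg.pCore p G) := by
  classical
  have hfin : {N : Subgroup G | N.Normal ∧ IsPGroup p N}.Finite := Set.toFinite _
  unfold Cfsg.pCore
  rw [← hfin.coe_toFinset, ← Finset.sup_id_eq_sSup]
  apply Finset.sup_induction (p := fun N : Subgroup G => N.Normal ∧ IsPGroup p N)
  · exact ⟨inferInstance, IsPGroup.of_bot⟩
  · intro a ha b hb
    have h1 := ha.1
    have h2 := hb.1
    exact ⟨inferInstance, ha.2.to_sup_of_normal_right hb.2⟩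
  · intro N hN
    simpa using hN

theorem eq_one_of_pow_coprime {x : G} {a b : ℕ} (hab : a.Coprime b) (ha : x ^ a = 1)
    (hb : x ^ b = 1) : x = 1 := by
  have h1 := orderOf_dvd_of_pow_eq_one ha
  have h2 := orderOf_dvd_of_pow_eq_one hb
  have h3 : orderOf x ∣ 1 := by
    have := Nat.dvd_gcd h1 h2
    rwa [hab] at this
  exact orderOf_eq_one_iff.1 (Nat.dvd_one.1 h3)

/-- A three-step group (any `p`) has no nontrivial normal Sylow subgroup. -/
theorem threeStep_no_normal_sylow [Finite G] {p : ℕ} (h3 : Cfsg.IsThreeStepGroup p G) (r : ℕ)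
    [hr : Fact r.Prime] (S : Sylow r G) (hSn : (S : Subgroup G).Normal) :
    (S : Subgroup G) = ⊥ := by
  obtain ⟨hQ1, A, hA1, -, -, hAcop, hQAn, hQAtop, ⟨n, hn⟩, hfpf, -⟩ := h3
  obtain ⟨hQn, hQp⟩ := pCore_gen_mem (G := G) p
  set Q := Cfsg.pCore p G with hQ
  by_contra hS1
  obtain ⟨s, hsS, hs1⟩ : ∃ s ∈ (S : Subgroup G), s ≠ 1 := by
    by_contra hcon
    push Not at hcon
    exact hS1 ((Subgroup.eq_bot_iff_forall _).2 hcon)
  have hn0 : n ≠ 0 := by
    intro h0
    rw [h0, pow_zero, Subgroup.index_eq_one] at hn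
    exact hQAtop hn
  obtain ⟨k, hk⟩ : ∃ k, s ^ r ^ k = 1 := by
    obtain ⟨k, hk⟩ := S.2 ⟨s, hsS⟩
    exact ⟨k, by simpa using congrArg Subtype.val hk⟩
  by_cases hrp : r ∣ p
  · -- `S ≤ Q`
    have hSp : IsPGroup p (S : Subgroup G) := S.2.mono hrp
    have hSQ : (S : Subgroup G) ≤ Q := Cfsg.Agent.Helper1.le_pCore hSn hSp
    have hle : (S : Subgroup G) ≤ Q ⊔ A := hSQ.trans le_sup_left
    have hdvd := Subgroup.index_dvd_of_le hle
    rw [hn] at hdvd
    have h1 : r ∣ (S : Subgroup G).index := (hrp.trans (dvd_pow_self p hn0)).trans hdvd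
    exact S.not_dvd_index h1
  · have hcop : r.Coprime p := (Nat.Prime.coprime_iff_not_dvd hr.out).2 hrp
    -- `s ∈ QA`
    have hsQA : s ∈ Q ⊔ A := by
      haveI := hQAn
      have h1 : ((s : G) : G ⧸ (Q ⊔ A)) ^ r ^ k = 1 := by
        rw [← QuotientGroup.mk_pow, hk]; rfl
      have h2 : ((s : G) : G ⧸ (Q ⊔ A)) ^ p ^ n = 1 := by
        rw [← hn, Subgroup.index_eq_card]
        exact pow_card_eq_one'
      have h3 := eq_one_of_pow_coprime (Nat.Coprime.pow k n hcop) h1 h2
      exact (QuotientGroup.eq_one_iff s).1 h3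
    -- `S ∩ Q = 1`
    have hdisj : ∀ z, z ∈ (S : Subgroup G) → z ∈ Q → z = 1 := by
      intro z hzS hzQ
      obtain ⟨k1, hk1⟩ := S.2 ⟨z, hzS⟩
      obtain ⟨k2, hk2⟩ := hQp ⟨z, hzQ⟩
      have hk1' : z ^ r ^ k1 = 1 := by simpa using congrArg Subtype.val hk1
      have hk2' : z ^ p ^ k2 = 1 := by simpa using congrArg Subtype.val hk2
      exact eq_one_of_pow_coprime (Nat.Coprime.pow k1 k2 hcop) hk1' hk2'
    -- `s` centralizes `Q`
    have hcent : ∀ y ∈ Q, s * y = y * s := by
      intro y hy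
      have h1 : s * y * s⁻¹ * y⁻¹ ∈ (S : Subgroup G) := by
        have : s * y * s⁻¹ * y⁻¹ = s * (y * s⁻¹ * y⁻¹) := by group
        rw [this]
        exact Subgroup.mul_mem _ hsS (hSn.conj_mem _ (Subgroup.inv_mem _ hsS) y)
      have h2 : s * y * s⁻¹ * y⁻¹ ∈ Q :=
        Subgroup.mul_mem _ (hQn.conj_mem _ hy s) (Subgroup.inv_mem _ hy)
      have h3 := hdisj _ h1 h2
      have : s * y = (s * y * s⁻¹ * y⁻¹) * (y * s) := by group
      rw [this, h3, one_mul]
    have hmem : s ∈ ((Q ⊔ A : Subgroup G) : Set G) := hsQA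
    rw [Subgroup.normal_mul] at hmem
    obtain ⟨x, hx, a, ha, hxa⟩ := Set.mem_mul.1 hmem
    have ha1 : a ≠ 1 := by
      intro h
      rw [h, mul_one] at hxa
      exact hs1 (hdisj s hsS (hxa ▸ hx))
    have hax : a * x = x * a := by
      have h1 : a = x⁻¹ * s := by rw [← hxa]; group
      have h2 := hcent x hx
      rw [h1]
      calc x⁻¹ * s * x = x⁻¹ * (s * x) := by group
        _ = x⁻¹ * (x * s) := by rw [h2]
        _ = x * (x⁻¹ * s) := by group
    have hx1 : x = 1 := by
      have : x ∈ Q ⊓ Subgroup.centralizer ({a} : Set G) :=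
        ⟨hx, Subgroup.mem_centralizer_singleton_iff.2 hax.symm⟩
      rw [hfpf a ha ha1, Subgroup.mem_bot] at this
      exact this
    rw [hx1, one_mul] at hxa
    apply hQ1
    rw [← hfpf a ha ha1]
    refine (inf_eq_left.2 ?_).symm
    intro y hy
    rw [Subgroup.mem_centralizer_singleton_iff, hxa]
    exact (hcent y hy).symm

/-- A three-step group (any `p`) is not nilpotent. -/
theorem threeStep_not_nilpotent [Finite G] {p : ℕ} (h3 : Cfsg.IsThreeStepGroup p G) :
    ¬ Group.IsNilpotent G := by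
  intro hnil
  have hall := ((Group.isNilpotent_of_finite_tfae (G := G)).out 0 3).1 hnil
  obtain ⟨x, hxQ, hx1⟩ : ∃ x ∈ Cfsg.pCore p G, x ≠ 1 := by
    by_contra hcon
    push Not at hcon
    exact h3.1 ((Subgroup.eq_bot_iff_forall _).2 hcon)
  have ho1 : orderOf x ≠ 1 := fun h => hx1 (orderOf_eq_one_iff.1 h)
  set r := (orderOf x).minFac with hrdef
  haveI hr : Fact r.Prime := ⟨Nat.minFac_prime ho1⟩
  have hrd : r ∣ orderOf x := Nat.minFac_dvd _
  set y := x ^ (orderOf x / r) with hy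
  have hyo : orderOf y = r := by
    rw [hy, orderOf_pow_of_dvd _ (Nat.div_dvd_of_dvd hrd)]
    · exact Nat.div_div_self hrd (orderOf_pos x).ne'
    · intro h0
      have := Nat.div_eq_zero_iff.1 h0
      rcases this with h | h
      · exact hr.out.ne_zero h
      · exact absurd (Nat.le_of_dvd (orderOf_pos x) hrd) (not_le.2 h)
  have hyp : IsPGroup r (Subgroup.zpowers y) := by
    apply IsPGroup.of_card (n := 1)
    rw [Nat.card_zpowers, hyo, pow_one]
  obtain ⟨S, hS⟩ := hyp.exists_le_sylow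
  have hSn := hall r hr S
  have hS0 := threeStep_no_normal_sylow h3 r S hSn
  have hyS : y ∈ (S : Subgroup G) := hS (Subgroup.mem_zpowers y)
  rw [hS0, Subgroup.mem_bot] at hyS
  rw [hyS, orderOf_one] at hyo
  exact hr.out.one_lt.ne hyo

/-- A subgroup of a CN-group is a CN-group. -/
theorem isCNGroup_subgroup (hCN : Cfsg.IsCNGroup G) (H : Subgroup G) : Cfsg.IsCNGroup ↥H := by
  intro h hh1
  have hh1' : (h : G) ≠ 1 := fun h0 => hh1 (Subtype.ext h0)
  have hnil := hCN (h : G) hh1'
  have hle : (Subgroup.centralizer ({h} : Set ↥H)).map H.subtype ≤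
      Subgroup.centralizer ({(h : G)} : Set G) := by
    rintro _ ⟨x, hx, rfl⟩
    rw [SetLike.mem_coe, Subgroup.mem_centralizer_singleton_iff] at hx
    rw [Subgroup.mem_centralizer_singleton_iff]
    exact congrArg Subtype.val hx
  have h1 := Cfsg.Agent.Helper1.CNFrob.nilp_of_le hle hnil
  exact Group.nilpotent_of_mulEquiv
    ((Subgroup.centralizer ({h} : Set ↥H)).equivMapOfInjective H.subtype
      H.subtype_injective).symm

end CNThree

end Cfsg.Agent.Helper2
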