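import Mathlib

set_option autoImplicit false

namespace Cfsg.Agent.Helper2

open Equiv Equiv.Perm

/-- If `σ ^ n = 1` and `σ ^ m` has a fixed point only when `n ∣ m`, all cycles have length `n`. -/
theorem cycleType_eq_replicate_of_semiregular {α : Type*} [Fintype α] [DecidableEq α]
    (σ : Perm α) (n : ℕ) (hn : σ ^ n = 1) (hfree : ∀ (m : ℕ) (x : α), (σ ^ m) x = x → n ∣ m) :
    σ.cycleType = Multiset.replicate (Multiset.card σ.cycleType) n := by
  refine Multiset.eq_replicate.mpr ⟨rfl, fun c hc => ?_⟩
  have h1 : c ∣ n := (dvd_of_mem_cycleType hc).trans (orderOf_dvd_of_pow_eq_one hn)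
  rw [cycleType_def, Multiset.mem_map] at hc
  obtain ⟨τ, hτ, rfl⟩ := hc
  have hτ' : τ ∈ σ.cycleFactorsFinset := hτ
  have hcyc := (mem_cycleFactorsFinset_iff.mp hτ').1
  obtain ⟨x, hx⟩ := hcyc.nonempty_support
  have hτeq := cycle_is_cycleOf hx hτ'
  have h2 : (σ ^ (τ.support.card)) x = x := by
    rw [← cycleOf_pow_apply_self, ← hτeq, ← hcyc.orderOf, pow_orderOf_eq_one]; rfl
  exact Nat.dvd_antisymm h1 (hfree _ x h2)

variable {G : Type*} [Group G]

theorem toPermHom_pow_apply (g : G) (m : ℕ) (x : G) :
    ((MulAction.toPermHom G G g) ^ m) x = g ^ m * x := by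
  rw [← map_pow]; rfl

/-- The sign of left multiplication by an element of even order `n` with `|G| / n` odd is `-1`. -/
theorem sign_toPermHom_eq_neg_one [Fintype G] [DecidableEq G] (g : G) (heven : Even (orderOf g))
    (hodd : Odd (Fintype.card G / orderOf g)) :
    sign (MulAction.toPermHom G G g) = -1 := by
  set σ : Perm G := MulAction.toPermHom G G g with hσ
  have hn : σ ^ orderOf g = 1 := by
    rw [hσ, ← map_pow, pow_orderOf_eq_one, map_one]
  have hfree : ∀ (m : ℕ) (x : G), (σ ^ m) x = x → orderOf g ∣ m := by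
    intro m x hx
    rw [hσ, toPermHom_pow_apply] at hx
    exact orderOf_dvd_of_pow_eq_one (mul_eq_right.mp hx)
  have hct := cycleType_eq_replicate_of_semiregular σ (orderOf g) hn hfree
  have hpos : 0 < orderOf g := orderOf_pos g
  rw [sign_of_cycleType_eq_replicate hpos hct, if_neg (Nat.not_odd_iff_even.mpr heven)]
  have hfix : Fintype.card (Function.fixedPoints σ) = 0 := by
    rw [Fintype.card_eq_zero_iff]
    constructor
    rintro ⟨x, hx⟩
    have h1 : (σ ^ 1) x = x := by rw [pow_one]; exact hx
    have h2 := hfree 1 x h1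
    have h3 : orderOf g = 1 := Nat.dvd_one.mp h2
    rw [h3] at heven
    exact absurd heven (by decide)
  rw [hfix, Nat.sub_zero]
  exact hodd.neg_one_pow

/-- A finite group of even order with a cyclic Sylow 2-subgroup has a subgroup of index 2. -/
theorem exists_index_two_of_cyclic_sylow_two [Finite G] (heven : Even (Nat.card G)) (T : Sylow 2 G)
    (hT : IsCyclic (T : Subgroup G)) : ∃ H : Subgroup G, H.index = 2 := by
  classical
  have : Fact (Nat.Prime 2) := ⟨Nat.prime_two⟩
  have : Fintype G := Fintype.ofFinite G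
  obtain ⟨⟨g, hgT⟩, hg⟩ := hT.exists_generator
  have hord : orderOf g = Nat.card (T : Subgroup G) := by
    rw [← Subgroup.orderOf_mk g hgT]
    exact orderOf_eq_card_of_forall_mem_zpowers hg
  have h2T : 2 ∣ Nat.card (T : Subgroup G) := T.dvd_card_of_dvd_card heven.two_dvd
  have hidx : Nat.card G / orderOf g = (T : Subgroup G).index := by
    rw [hord, ← (T : Subgroup G).card_mul_index, Nat.mul_div_cancel_left _ Nat.card_pos]
  have hodd : Odd (Fintype.card G / orderOf g) := by
    rw [← Nat.card_eq_fintype_card, hidx, ← Nat.not_even_iff_odd, even_iff_two_dvd]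
    exact T.not_dvd_index
  have hev : Even (orderOf g) := by rw [hord]; exact even_iff_two_dvd.mpr h2T
  let ψ : G →* ℤˣ := sign.comp (MulAction.toPermHom G G)
  have hψg : ψ g = -1 := sign_toPermHom_eq_neg_one g hev hodd
  refine ⟨ψ.ker, ?_⟩
  rw [Subgroup.index_ker]
  have : ψ.range = ⊤ := by
    rw [eq_top_iff]; intro u _
    rcases Int.units_eq_one_or u with rfl | rfl
    · exact one_mem _
    · exact ⟨g, hψg⟩
  rw [this]; simp

end Cfsg.Agent.Helper2

namespace Cfsg.Agent.Helper2

variable {G : Type*} [Group G]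

/-- A finite cyclic group has at most one involution. -/
theorem eq_of_orderOf_two_of_isCyclic {H : Type*} [Group H] [Finite H] [IsCyclic H] {a b : H}
    (ha : orderOf a = 2) (hb : orderOf b = 2) : a = b := by
  classical
  have : Fintype H := Fintype.ofFinite H
  by_contra hab
  have h := IsCyclic.card_pow_eq_one_le (α := H) (n := 2) (by norm_num)
  have hsub : ({1, a, b} : Finset H) ⊆ Finset.univ.filter (fun x : H => x ^ 2 = 1) := by
    intro y hy
    simp only [Finset.mem_insert, Finset.mem_singleton] at hy
    simp only [Finset.mem_filter, Finset.mem_univ, true_and]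
    rcases hy with rfl | rfl | rfl
    · simp
    · rw [← ha]; exact pow_orderOf_eq_one _
    · rw [← hb]; exact pow_orderOf_eq_one _
  have hcard : ({1, a, b} : Finset H).card = 3 := by
    rw [Finset.card_insert_of_notMem, Finset.card_insert_of_notMem, Finset.card_singleton]
    · simpa using hab
    · simp only [Finset.mem_insert, Finset.mem_singleton, not_or]
      exact ⟨fun h => by rw [← h, orderOf_one] at ha; omega,
        fun h => by rw [← h, orderOf_one] at hb; omega⟩
  have := Finset.card_le_card hsub
  omega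

/-- If `x` is an involution and a Sylow 2-subgroup of `C_G(x)` is cyclic, then it is (the image
of) a Sylow 2-subgroup of `G`, so `G` has a subgroup of index 2. -/
theorem exists_index_two_of_cyclic_sylow_two_centralizer [Finite G] (x : G) (hx : orderOf x = 2)
    (S : Sylow 2 ↥(Subgroup.centralizer ({x} : Set G)))
    (hS : IsCyclic (S : Subgroup ↥(Subgroup.centralizer ({x} : Set G)))) :
    ∃ H : Subgroup G, H.index = 2 := by
  have : Fact (Nat.Prime 2) := ⟨Nat.prime_two⟩
  have hxC : x ∈ Subgroup.centralizer ({x} : Set G) := Subgroup.mem_centralizer_singleton_iff.mpr rfl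
  have hord' : orderOf (⟨x, hxC⟩ : Subgroup.centralizer ({x} : Set G)) = 2 := by
    rw [Subgroup.orderOf_mk]; exact hx
  have hxS : (⟨x, hxC⟩ : Subgroup.centralizer ({x} : Set G)) ∈
      (S : Subgroup (Subgroup.centralizer ({x} : Set G))) := by
    have hnorm : (Subgroup.zpowers (⟨x, hxC⟩ : Subgroup.centralizer ({x} : Set G))).Normal := by
      constructor
      intro n hn g
      have hg : g * (⟨x, hxC⟩ : Subgroup.centralizer ({x} : Set G)) = ⟨x, hxC⟩ * g := by
        apply Subtype.ext
        exact Subgroup.mem_centralizer_singleton_iff.mp g.2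
      obtain ⟨k, rfl⟩ := Subgroup.mem_zpowers_iff.mp hn
      have hc : Commute g ((⟨x, hxC⟩ : Subgroup.centralizer ({x} : Set G)) ^ k) :=
        (show Commute g ⟨x, hxC⟩ from hg).zpow_right k
      rw [hc.eq, mul_inv_cancel_right]
      exact Subgroup.zpow_mem _ (Subgroup.mem_zpowers _) k
    have hp : IsPGroup 2 (Subgroup.zpowers (⟨x, hxC⟩ : Subgroup.centralizer ({x} : Set G))) := by
      apply IsPGroup.of_card (n := 1)
      rw [Nat.card_zpowers, hord', pow_one]
    exact hp.le_sylow_of_normal S (Subgroup.mem_zpowers _)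
  obtain ⟨T, hT⟩ := (S.isPGroup'.map (Subgroup.centralizer ({x} : Set G)).subtype).exists_le_sylow
  have hxS' : x ∈ (S : Subgroup (Subgroup.centralizer ({x} : Set G))).map
      (Subgroup.centralizer ({x} : Set G)).subtype := ⟨_, hxS, rfl⟩
  haveI hcyc' : IsCyclic ((S : Subgroup (Subgroup.centralizer ({x} : Set G))).map
      (Subgroup.centralizer ({x} : Set G)).subtype) :=
    ((S : Subgroup (Subgroup.centralizer ({x} : Set G))).equivMapOfInjective
      (Subgroup.centralizer ({x} : Set G)).subtype (Subgroup.subtype_injective _)).isCyclic.mp hS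
  have hTS : (T : Subgroup G) ≤ (S : Subgroup (Subgroup.centralizer ({x} : Set G))).map
      (Subgroup.centralizer ({x} : Set G)).subtype := by
    by_contra hne
    haveI : Group.IsNilpotent (T : Subgroup G) := T.isPGroup'.isNilpotent
    have hlt : ((S : Subgroup (Subgroup.centralizer ({x} : Set G))).map
        (Subgroup.centralizer ({x} : Set G)).subtype).subgroupOf (T : Subgroup G) < ⊤ := by
      rw [lt_top_iff_ne_top, Ne, Subgroup.subgroupOf_eq_top]; exact hne
    have hnc := Group.normalizerCondition_of_isNilpotent (G := (T : Subgroup G)) _ hlt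
    obtain ⟨n, hnN, hnS⟩ := SetLike.exists_of_lt hnc
    have hnx : (n : G) * x * (n : G)⁻¹ ∈ (S : Subgroup (Subgroup.centralizer ({x} : Set G))).map
        (Subgroup.centralizer ({x} : Set G)).subtype := by
      have h1 := (Subgroup.mem_normalizer_iff.mp hnN ⟨x, hT hxS'⟩).mp
        (by rw [Subgroup.mem_subgroupOf]; exact hxS')
      rw [Subgroup.mem_subgroupOf] at h1
      simpa using h1
    have hnx2 : (n : G) * x * (n : G)⁻¹ = x := by
      have h2 := eq_of_orderOf_two_of_isCyclic
        (H := ((S : Subgroup (Subgroup.centralizer ({x} : Set G))).map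
          (Subgroup.centralizer ({x} : Set G)).subtype))
        (a := ⟨_, hnx⟩) (b := ⟨x, hxS'⟩)
        (by
          rw [Subgroup.orderOf_mk]
          have : (n : G) * x * (n : G)⁻¹ = MulAut.conj (n : G) x := rfl
          rw [this, MulEquiv.orderOf_eq]; exact hx)
        (by rw [Subgroup.orderOf_mk]; exact hx)
      exact congrArg Subtype.val h2
    have hnC : (n : G) ∈ Subgroup.centralizer ({x} : Set G) := by
      rw [Subgroup.mem_centralizer_singleton_iff]
      calc (n : G) * x = ((n : G) * x * (n : G)⁻¹) * (n : G) := by group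
        _ = x * (n : G) := by rw [hnx2]
    have hK : IsPGroup 2 ((T : Subgroup G).subgroupOf (Subgroup.centralizer ({x} : Set G))) :=
      T.isPGroup'.comap_subtype
    have hSK : (S : Subgroup (Subgroup.centralizer ({x} : Set G))) ≤
        (T : Subgroup G).subgroupOf (Subgroup.centralizer ({x} : Set G)) := by
      intro y hy; rw [Subgroup.mem_subgroupOf]; exact hT ⟨y, hy, rfl⟩
    have hmax := S.is_maximal' hK hSK
    apply hnS
    rw [Subgroup.mem_subgroupOf]
    have h1 : (⟨(n : G), hnC⟩ : Subgroup.centralizer ({x} : Set G)) ∈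
        (T : Subgroup G).subgroupOf (Subgroup.centralizer ({x} : Set G)) := by
      rw [Subgroup.mem_subgroupOf]; exact n.2
    rw [hmax] at h1
    exact ⟨_, h1, rfl⟩
  have hTeq : (T : Subgroup G) = (S : Subgroup (Subgroup.centralizer ({x} : Set G))).map
      (Subgroup.centralizer ({x} : Set G)).subtype := le_antisymm hTS hT
  have hTcyc : IsCyclic (T : Subgroup G) := by rw [hTeq]; exact hcyc'
  have heven : Even (Nat.card G) := by
    rw [even_iff_two_dvd, ← hx]; exact orderOf_dvd_natCard x
  exact exists_index_two_of_cyclic_sylow_two heven T hTcyc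

end Cfsg.Agent.Helper2
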