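import Mathlib
import Cfsg.Agent.Helper4.HallHigman
import Cfsg.Agent.Helper2.Layer6
import Cfsg.Agent.Helper1.Cores

/-!
Helper lemmas (helper2): stability-group argument.  If `Q = [A, Q]` is a `p'`-group centralizing
`[P, A]` for a normal `p`-subgroup `P`, then `Q` centralizes `P`.
-/

set_option autoImplicit false

namespace Cfsg.Agent.Helper2

open scoped commutatorElement

section main
variable {G : Type*} [Group G]

/-- The elements normalizing `P₁` and acting trivially on `P / P₁` (as a subgroup). -/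
def stabMod (P P₁ : Subgroup G) : Subgroup G where
  carrier := {g | g ∈ Subgroup.normalizer (P₁ : Set G) ∧ (∀ x ∈ P, g * x * g⁻¹ ∈ P) ∧
    (∀ x ∈ P, g⁻¹ * x * g ∈ P) ∧ ∀ x ∈ P, g * x * g⁻¹ * x⁻¹ ∈ P₁}
  one_mem' := by
    refine ⟨Subgroup.one_mem _, ?_, ?_, ?_⟩
    · intro x hx; simpa using hx
    · intro x hx; simpa using hx
    · intro x _; simp
  mul_mem' := by
    rintro g h ⟨hgN, hgP, hgP', hg⟩ ⟨hhN, hhP, hhP', hh⟩
    refine ⟨Subgroup.mul_mem _ hgN hhN, ?_, ?_, ?_⟩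
    · intro x hx
      have := hgP _ (hhP x hx)
      have e : g * h * x * (g * h)⁻¹ = g * (h * x * h⁻¹) * g⁻¹ := by group
      rw [e]; exact this
    · intro x hx
      have := hhP' _ (hgP' x hx)
      have e : (g * h)⁻¹ * x * (g * h) = h⁻¹ * (g⁻¹ * x * g) * h := by group
      rw [e]; exact this
    · intro x hx
      have h1 : g * (h * x * h⁻¹ * x⁻¹) * g⁻¹ ∈ P₁ :=
        (Subgroup.mem_normalizer_iff.mp hgN _).mp (hh x hx)
      have h2 := hg x hx
      have e : g * h * x * (g * h)⁻¹ * x⁻¹ =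
          g * (h * x * h⁻¹ * x⁻¹) * g⁻¹ * (g * x * g⁻¹ * x⁻¹) := by group
      rw [e]
      exact Subgroup.mul_mem _ h1 h2
  inv_mem' := by
    rintro g ⟨hgN, hgP, hgP', hg⟩
    refine ⟨Subgroup.inv_mem _ hgN, ?_, ?_, ?_⟩
    · intro x hx; simpa using hgP' x hx
    · intro x hx; simpa using hgP x hx
    · intro x hx
      have h1 := hg _ (hgP' x hx)
      have h2 := Subgroup.inv_mem _ h1
      have e : (g * (g⁻¹ * x * g) * g⁻¹ * (g⁻¹ * x * g)⁻¹)⁻¹ = g⁻¹ * x * g⁻¹⁻¹ * x⁻¹ := by group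
      rw [e] at h2
      exact h2

theorem mem_stabMod {P P₁ : Subgroup G} {g : G} :
    g ∈ stabMod P P₁ ↔ g ∈ Subgroup.normalizer (P₁ : Set G) ∧ (∀ x ∈ P, g * x * g⁻¹ ∈ P) ∧
      (∀ x ∈ P, g⁻¹ * x * g ∈ P) ∧ ∀ x ∈ P, g * x * g⁻¹ * x⁻¹ ∈ P₁ := Iff.rfl

/-- If `q` centralizes `P₁ ≤ P`, acts trivially on `P / P₁`, `P` is a `p`-group and `q` has order prime to
`p`, then `q` centralizes `P`. -/
theorem commute_of_stab {p : ℕ} [hp : Fact p.Prime] {P P₁ : Subgroup G} (hP : IsPGroup p ↥P)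
    (hle : P₁ ≤ P) {q : G} (hq : (orderOf q).Coprime p) (hqfin : IsOfFinOrder q)
    (hc : ∀ c ∈ P₁, q * c = c * q) {x : G} (hx : x ∈ P) (hqx : q * x * q⁻¹ * x⁻¹ ∈ P₁) :
    q * x = x * q := by
  set c := q * x * q⁻¹ * x⁻¹ with hcdef
  have hqc : q * c = c * q := hc c hqx
  have hconj : q * x * q⁻¹ = c * x := by rw [hcdef]; group
  have hpow : ∀ m : ℕ, q ^ m * x * (q ^ m)⁻¹ = c ^ m * x := by
    intro m
    induction m with
    | zero => simp
    | succ m ih =>
      have hcm : q * c ^ m = c ^ m * q := (Commute.pow_right hqc m).eq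
      calc q ^ (m + 1) * x * (q ^ (m + 1))⁻¹ = q * (q ^ m * x * (q ^ m)⁻¹) * q⁻¹ := by
            rw [pow_succ']; group
        _ = q * (c ^ m * x) * q⁻¹ := by rw [ih]
        _ = (q * c ^ m) * x * q⁻¹ := by group
        _ = c ^ m * (q * x * q⁻¹) := by rw [hcm]; group
        _ = c ^ m * (c * x) := by rw [hconj]
        _ = c ^ (m + 1) * x := by rw [pow_succ]; group
  have h1 := hpow (orderOf q)
  rw [pow_orderOf_eq_one] at h1
  have h2 : c ^ orderOf q = 1 := by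
    have : x = c ^ orderOf q * x := by simpa using h1
    have := congrArg (· * x⁻¹) this
    simpa using this.symm
  obtain ⟨k, hk⟩ := hP ⟨c, hle hqx⟩
  have h3 : c ^ p ^ k = 1 := congrArg Subtype.val hk
  have h4 : orderOf c ∣ orderOf q := orderOf_dvd_of_pow_eq_one h2
  have h5 : orderOf c ∣ p ^ k := orderOf_dvd_of_pow_eq_one h3
  have h6 : (orderOf q).Coprime (p ^ k) := Nat.Coprime.pow_right k hq
  have h7 : orderOf c = 1 := Nat.eq_one_of_dvd_coprimes h6 h4 h5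
  have h8 : c = 1 := orderOf_eq_one_iff.mp h7
  rw [h8, one_mul] at hconj
  have := congrArg (· * q) hconj
  simpa using this

theorem commutator_commutator_ne_bot [Finite G] {p : ℕ} [hp : Fact p.Prime]
    (hS : Cfsg.IsPSolvable p G) (hred : Cfsg.pPrimeCore p G = ⊥)
    (A Q : Subgroup G) (hQ : ¬ p ∣ Nat.card Q) (hQ1 : Q ≠ ⊥)
    (hAQ : ⁅A, Q⁆ = Q) : ⁅⁅Cfsg.pCore p G, A⁆, Q⁆ ≠ ⊥ := by
  intro hbot
  have hPn : (Cfsg.pCore p G).Normal := inferInstance
  have hPp : IsPGroup p ↥(Cfsg.pCore p G) := Cfsg.Agent.Helper1.pCore_isPGroup p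
  have hcent : ∀ q ∈ Q, ∀ c ∈ ⁅Cfsg.pCore p G, A⁆, q * c = c * q := by
    have h1 := Subgroup.commutator_eq_bot_iff_le_centralizer.mp hbot
    intro q hq c hc
    have := h1 hc
    rw [Subgroup.mem_centralizer_iff] at this
    exact this q hq
  have hP1le : ⁅Cfsg.pCore p G, A⁆ ≤ Cfsg.pCore p G := Subgroup.commutator_le_left _ _
  -- `A ≤ stabMod`
  have hAT : A ≤ stabMod (Cfsg.pCore p G) ⁅Cfsg.pCore p G, A⁆ := by
    intro a ha
    refine ⟨?_, fun x hx => hPn.conj_mem x hx a, fun x hx => ?_, fun x hx => ?_⟩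
    · have := le_normalizer_commutator_left A (Cfsg.pCore p G)
      rw [Subgroup.commutator_comm] at this
      exact this ha
    · have := hPn.conj_mem x hx a⁻¹
      simpa using this
    · have h1 : ⁅a, x⁆ ∈ ⁅A, Cfsg.pCore p G⁆ := Subgroup.commutator_mem_commutator ha hx
      rw [Subgroup.commutator_comm] at h1
      exact h1
  -- `Q` normalizes `stabMod`
  have hQT : ∀ q ∈ Q, ∀ g ∈ stabMod (Cfsg.pCore p G) ⁅Cfsg.pCore p G, A⁆,
      q * g * q⁻¹ ∈ stabMod (Cfsg.pCore p G) ⁅Cfsg.pCore p G, A⁆ := by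
    intro q hq g hg
    have hqN : q ∈ Subgroup.normalizer ((⁅Cfsg.pCore p G, A⁆ : Subgroup G) : Set G) := by
      apply Subgroup.centralizer_le_normalizer
      rw [Subgroup.mem_centralizer_iff]
      intro c hc
      exact (hcent q hq c hc).symm
    obtain ⟨hgN, hgP, hgP', hgc⟩ := hg
    refine ⟨Subgroup.mul_mem _ (Subgroup.mul_mem _ hqN hgN) (Subgroup.inv_mem _ hqN), ?_, ?_, ?_⟩
    · intro x hx
      exact hPn.conj_mem x hx _
    · intro x hx
      have := hPn.conj_mem x hx (q * g * q⁻¹)⁻¹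
      simpa using this
    · intro x hx
      have hx' : q⁻¹ * x * q ∈ Cfsg.pCore p G := by
        have := hPn.conj_mem x hx q⁻¹
        simpa using this
      have h1 := hgc _ hx'
      have h2 : q * (g * (q⁻¹ * x * q) * g⁻¹ * (q⁻¹ * x * q)⁻¹) * q⁻¹ ∈ ⁅Cfsg.pCore p G, A⁆ :=
        (Subgroup.mem_normalizer_iff.mp hqN _).mp h1
      have e : q * g * q⁻¹ * x * (q * g * q⁻¹)⁻¹ * x⁻¹ =
          q * (g * (q⁻¹ * x * q) * g⁻¹ * (q⁻¹ * x * q)⁻¹) * q⁻¹ := by group
      rw [e]; exact h2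
  have hQleT : Q ≤ stabMod (Cfsg.pCore p G) ⁅Cfsg.pCore p G, A⁆ := by
    rw [← hAQ, Subgroup.commutator_le]
    intro a ha q hq
    have h1 := hAT ha
    have h2 := hQT q hq a⁻¹ (Subgroup.inv_mem _ h1)
    have e : ⁅a, q⁆ = a * (q * a⁻¹ * q⁻¹) := by rw [commutatorElement_def]; group
    rw [e]
    exact Subgroup.mul_mem _ h1 h2
  -- hence `Q` centralizes `O_p(G)`
  have hQC : Q ≤ Subgroup.centralizer (Cfsg.pCore p G : Set G) := by
    intro q hq
    rw [Subgroup.mem_centralizer_iff]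
    intro x hx
    have hqo : (orderOf q).Coprime p := by
      have h1 : orderOf q ∣ Nat.card Q := Subgroup.orderOf_dvd_natCard Q hq
      have h2 : (Nat.card Q).Coprime p :=
        ((Nat.Prime.coprime_iff_not_dvd hp.out).mpr hQ).symm
      exact Nat.Coprime.coprime_dvd_left h1 h2
    have := commute_of_stab hPp hP1le hqo (isOfFinOrder_of_finite q) (hcent q hq) hx
      ((hQleT hq).2.2.2 x hx)
    exact this.symm
  have hQP : Q ≤ Cfsg.pCore p G :=
    hQC.trans (Cfsg.Agent.Helper4.centralizer_pCore_le_of_isPSolvable hS hred)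
  apply hQ1
  rw [Subgroup.eq_bot_iff_forall]
  intro q hq
  obtain ⟨k, hk⟩ := hPp ⟨q, hQP hq⟩
  have h3 : q ^ p ^ k = 1 := congrArg Subtype.val hk
  have h4 : orderOf q ∣ p ^ k := orderOf_dvd_of_pow_eq_one h3
  have h5 : orderOf q ∣ Nat.card Q := Subgroup.orderOf_dvd_natCard Q hq
  have h6 : (p ^ k).Coprime (Nat.card Q) :=
    Nat.Coprime.pow_left k ((Nat.Prime.coprime_iff_not_dvd hp.out).mpr hQ)
  exact orderOf_eq_one_iff.mp (Nat.eq_one_of_dvd_coprimes h6 h4 h5)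

end main

end Cfsg.Agent.Helper2
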