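import Mathlib
import Cfsg.Prelude.Def_LieExceptional
import Cfsg.Prelude.Def_OddOrderLocal
import Cfsg.Prelude.Def_OddOrder
import Cfsg.Prelude.Def_PLocal
import Cfsg.Prelude.Def_LocalEven
import Cfsg.Prelude.Def_EvenType
import Cfsg.Agent.Helper1.Cores
import Cfsg.Agent.Helper1.CNFrobenius
import Cfsg.Agent.Helper1.GlaubermanNPC
import Cfsg.Agent.Helper1.ThompsonRed
import Cfsg.Agent.Helper2.BaerSuzuki
import Cfsg.Agent.Helper2.CNThreeA
import Cfsg.Agent.Helper2.CNThreeB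
import Cfsg.Agent.S0664
import Cfsg.Agent.S3081

set_option autoImplicit false

/-!
A minimal simple CN-group of odd order has no three-step subgroup.
-/

namespace Cfsg.Agent.Helper2

namespace CNThree

open Cfsg
open Cfsg.Agent.Helper1 Cfsg.Agent.Helper1.ThompsonRed
open scoped commutatorElement

universe u

variable {G : Type u} [Group G]

/-- The subgroups to be excluded: solvable, not nilpotent, without nontrivial normal Sylow
subgroups. -/
def TS (H : Subgroup G) : Prop :=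
  Group.IsSolvable ↥H ∧ ¬ Group.IsNilpotent ↥H ∧
    ∀ (q : ℕ) [Fact q.Prime] (S : Sylow q ↥H), (S : Subgroup ↥H).Normal → (S : Subgroup ↥H) = ⊥

theorem commutator_eq_top_of_minSimple (hG : Cfsg.IsMinSimpleOddOrder G) :
    commutator G = ⊤ := by
  obtain ⟨-, hsimp, hnab, -⟩ := hG
  haveI := hsimp
  rcases (inferInstance : (commutator G).Normal).eq_bot_or_eq_top with h | h
  · exfalso
    apply hnab
    refine ⟨⟨fun a b => ?_⟩⟩
    have h1 : ⁅a, b⁆ ∈ commutator G :=
      Subgroup.commutator_mem_commutator (Subgroup.mem_top a) (Subgroup.mem_top b)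
    rw [h, Subgroup.mem_bot, commutatorElement_eq_one_iff_mul_comm] at h1
    exact h1
  · exact h

theorem not_isSolvable_of_minSimple (hG : Cfsg.IsMinSimpleOddOrder G) :
    ¬ Group.IsSolvable G := by
  intro hs
  have h1 := commutator_eq_top_of_minSimple hG
  haveI := hG.2.1
  have h2 := Group.IsSolvable.commutator_lt_top_of_nontrivial G
  exact h2.ne h1

theorem ts_of_threeStep [Finite G] (hG : Cfsg.IsMinSimpleOddOrder G) (H : Subgroup G) (p : ℕ)
    (h3 : Cfsg.IsThreeStepGroup p ↥H) : TS H := by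
  refine ⟨?_, threeStep_not_nilpotent h3, fun q _ S hSn => threeStep_no_normal_sylow h3 q S hSn⟩
  apply hG.2.2.2 H
  intro htop
  subst htop
  haveI := hG.2.1
  haveI : Nontrivial ↥(⊤ : Subgroup G) := (Subgroup.topEquiv (G := G)).toEquiv.nontrivial
  haveI : IsSimpleGroup ↥(⊤ : Subgroup G) :=
    IsSimpleGroup.isSimpleGroup_of_surjective (Subgroup.topEquiv (G := G)).symm.toMonoidHom
      (Subgroup.topEquiv (G := G)).symm.surjective
  obtain ⟨hQ1, A, -, -, -, -, -, hQAtop, -⟩ := h3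
  rcases (inferInstance : (Cfsg.pCore p ↥(⊤ : Subgroup G)).Normal).eq_bot_or_eq_top with h | h
  · exact hQ1 h
  · apply hQAtop
    rw [h]
    exact top_sup_eq _

/-- The main step: a `TS`-subgroup of maximal order cannot exist. -/
theorem no_ts [Finite G] (hG : Cfsg.IsMinSimpleOddOrder G) (hCN : Cfsg.IsCNGroup G)
    (H : Subgroup G) (hTS : TS H) (hmax : ∀ L : Subgroup G, TS L → Nat.card L ≤ Nat.card H) :
    False := by
  obtain ⟨hsolv, hnn, hns⟩ := hTS
  have hodd : Odd (Nat.card G) := hG.1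
  have hCNH := isCNGroup_subgroup hCN H
  have hsolv' := hsolv
  obtain ⟨q, hq, hQ1, hC, M₁, hM₁top, hcomm, n, hM₁idx⟩ := exists_q_quotient hCNH hnn hns
  have hqF : Fact q.Prime := ⟨hq⟩
  have hQp : IsPGroup q (Cfsg.pCore q ↥H) := pCore_isPGroup q
  have hoddH : Odd (Nat.card ↥H) := Odd.of_dvd_nat hodd (Subgroup.card_subgroup_dvd_card H)
  -- `q` is odd
  have hq2 : q ≠ 2 := by
    intro h2
    obtain ⟨z, hzQ, hz1⟩ : ∃ z ∈ Cfsg.pCore q ↥H, z ≠ 1 := by
      by_contra hcon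
      push Not at hcon
      exact hQ1 ((Subgroup.eq_bot_iff_forall _).2 hcon)
    obtain ⟨k, hk⟩ := exists_orderOf_eq_pow_of_mem_isPGroup hQp hzQ
    have hk0 : k ≠ 0 := by
      intro h0
      rw [h0, pow_zero, orderOf_eq_one_iff] at hk
      exact hz1 hk
    have h1 : q ∣ Nat.card ↥H := by
      have := orderOf_dvd_natCard z
      rw [hk] at this
      exact (dvd_pow_self q hk0).trans this
    rw [h2] at h1
    exact (Nat.not_even_iff_odd.2 hoddH) (even_iff_two_dvd.2 h1)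
  obtain ⟨P₀⟩ : Nonempty (Sylow q ↥H) := inferInstance
  have hQP₀ : Cfsg.pCore q ↥H ≤ P₀ := pCore_le_sylow P₀
  have hP₀1 : (P₀ : Subgroup ↥H) ≠ ⊥ := fun h0 => hQ1 (le_bot_iff.1 (h0 ▸ hQP₀))
  have hfreeH : ¬ Cfsg.Involves ↥(Cfsg.qd q) ↥H := not_involves_qd_of_odd hoddH q hq2
  have hZJn : (Cfsg.centerThompsonAOf (P₀ : Subgroup ↥H)).Normal :=
    Cfsg.Agent.S0664.result hq2 hfreeH hC P₀
  -- transport to `G`
  obtain ⟨P, hPdef⟩ : ∃ P : Subgroup G, P = (P₀ : Subgroup ↥H).map H.subtype := ⟨_, rfl⟩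
  have hPH : P ≤ H := hPdef ▸ Subgroup.map_subtype_le _
  have hPq : IsPGroup q P := hPdef ▸ P₀.2.map _
  have hP1 : P ≠ ⊥ := by
    intro h0
    apply hP₀1
    rw [hPdef, Subgroup.map_eq_bot_iff_of_injective _ H.subtype_injective] at h0
    exact h0
  have hmemP : ∀ y : ↥H, y ∈ (P₀ : Subgroup ↥H) ↔ (y : G) ∈ P := by
    intro y
    rw [hPdef]
    constructor
    · intro hy
      exact ⟨y, hy, rfl⟩
    · rintro ⟨y', hy', hyy'⟩
      have : y' = y := Subtype.ext hyy'
      rwa [← this]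
  obtain ⟨X, hXdef⟩ : ∃ X : Subgroup G, X = Cfsg.centerThompsonAOf P := ⟨_, rfl⟩
  have hX : X = (Cfsg.centerThompsonAOf (P₀ : Subgroup ↥H)).map H.subtype := by
    rw [hXdef, hPdef, ← zjFunctor_of, zjFunctor.of_map_of_injective _ H.subtype_injective,
      zjFunctor_of]
  have hX1 : X ≠ ⊥ := by
    rw [hXdef, ← zjFunctor_of]
    exact of_ne_bot zjFunctor (fun S _ _ hS hnt => zjFunctor_ne_bot S hS hnt) hPq hP1
  have hXP : X ≤ P := by
    rw [hXdef, ← zjFunctor_of]; exact zjFunctor.of_le P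
  have hNPX : Subgroup.normalizer (P : Set G) ≤ Subgroup.normalizer (X : Set G) := by
    rw [hXdef, ← zjFunctor_of]; exact zjFunctor.normalizer_le P
  have hHX : H ≤ Subgroup.normalizer (X : Set G) := by
    have key : ∀ g ∈ H, ∀ x ∈ X, g * x * g⁻¹ ∈ X := by
      intro g hg x hx
      rw [hX] at hx ⊢
      obtain ⟨y, hy, rfl⟩ := hx
      exact ⟨⟨g, hg⟩ * y * ⟨g, hg⟩⁻¹, hZJn.conj_mem y hy ⟨g, hg⟩, rfl⟩
    intro g hg
    rw [Subgroup.mem_normalizer_iff]
    intro x
    refine ⟨key g hg x, fun h => ?_⟩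
    have := key g⁻¹ (inv_mem hg) _ h
    simpa [mul_assoc] using this
  obtain ⟨L, hLdef⟩ : ∃ L : Subgroup G, L = Subgroup.normalizer (X : Set G) := ⟨_, rfl⟩
  have hHL : H ≤ L := hLdef ▸ hHX
  have hLtop : L ≠ ⊤ := by
    intro htop
    have hXn : X.Normal := Subgroup.normalizer_eq_top_iff.1 (hLdef ▸ htop)
    haveI := hG.2.1
    rcases hXn.eq_bot_or_eq_top with h | h
    · exact hX1 h
    · apply not_isSolvable_of_minSimple hG
      have hPtop : P = ⊤ := top_le_iff.1 (h ▸ hXP)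
      have hHtop : H = ⊤ := top_le_iff.1 (hPtop ▸ hPH)
      have : Group.IsSolvable ↥(⊤ : Subgroup G) := hHtop ▸ hsolv
      exact Group.isSolvable_of_surjective (f := (Subgroup.topEquiv (G := G)).toMonoidHom)
        (Subgroup.topEquiv (G := G)).surjective
  have hLsolv : Group.IsSolvable ↥L := hG.2.2.2 L hLtop
  have hCNL := isCNGroup_subgroup hCN L
  -- `L` is again a `TS`-subgroup
  have hnnL : ¬ Group.IsNilpotent ↥L := fun h => hnn (CNFrob.nilp_of_le hHL h)
  have hTSL : TS L := by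
    refine ⟨hLsolv, hnnL, ?_⟩
    intro r _ S hSn
    by_contra hS1
    obtain ⟨-, -, -, hquot⟩ := CNFrob.cn_frobenius hCNL hnnL r S hS1 hSn
    have hP₀n := sylow_normal_of_le_nilp_by_nilp (Subgroup.inclusion hHL)
      (Subgroup.inclusion_injective hHL) (Cfsg.fittingHall ↥L) CNFrob.fittingHall_isNilpotent
      hquot hCNH hQ1 hC P₀
    exact hP₀1 (hns q P₀ hP₀n)
  have hLH : L = H := by
    symm
    exact Subgroup.eq_of_le_of_card_ge hHL (hmax L hTSL)
  -- `P` is a Sylow subgroup of `G`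
  have hPmax : ∀ {Q₁ : Subgroup G}, IsPGroup q Q₁ → P ≤ Q₁ → Q₁ = P := by
    intro Q₁ hQ₁ hle
    by_contra hne
    have hlt : P < Q₁ := lt_of_le_of_ne hle (Ne.symm hne)
    obtain ⟨r, hrQ₁, hrP, hrN⟩ := exists_mem_normalizer_notMem_of_lt hQ₁ hlt
    have hrH : r ∈ H := by
      rw [← hLH, hLdef]
      exact hNPX hrN
    have h1 : IsPGroup q (Q₁.subgroupOf H) := hQ₁.comap_subtype
    have h2 : (P₀ : Subgroup ↥H) ≤ Q₁.subgroupOf H := by
      intro y hy
      rw [Subgroup.mem_subgroupOf]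
      exact hle ((hmemP y).1 hy)
    have h3 := P₀.is_maximal' h1 h2
    have h4 : (⟨r, hrH⟩ : ↥H) ∈ Q₁.subgroupOf H := by
      rw [Subgroup.mem_subgroupOf]; exact hrQ₁
    rw [h3, hmemP] at h4
    exact hrP h4
  set PS : Sylow q G := ⟨P, hPq, hPmax⟩ with hPS
  have hPScoe : (PS : Subgroup G) = P := rfl
  have hqdG : ¬ Cfsg.Involves ↥(Cfsg.qd q) G := not_involves_qd_of_odd hodd q hq2
  have hctrl := (Cfsg.Agent.S3081.result hq2 PS P ⟨le_of_eq hPScoe.symm, fun x _ g h => by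
    rw [hPScoe] at h; exact h⟩ hqdG).1
  -- focal subgroup
  have hfoc := Subgroup.commutator_inf_eq_focalSubgroup PS
  rw [commutator_eq_top_of_minSimple hG, top_inf_eq, hPScoe] at hfoc
  have hfocle : P.focalSubgroup ≤ M₁.map H.subtype := by
    rw [Subgroup.focalSubgroup_def, Subgroup.closure_le]
    rintro g ⟨hgP, x, hxP, u, hgxu⟩
    have hconj : u * x * u⁻¹ ∈ P := by
      have h1 : u * x * u⁻¹ = (x⁻¹ * g)⁻¹ := by
        rw [hgxu, commutatorElement_def]; group
      rw [h1]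
      exact Subgroup.inv_mem _ (Subgroup.mul_mem _ (Subgroup.inv_mem _ hxP) hgP)
    obtain ⟨-, hc⟩ := hctrl {x} (by
      intro a ha
      rw [Set.mem_singleton_iff] at ha
      rw [ha, hPScoe]; exact hxP)
    obtain ⟨y, hyL, hy⟩ := hc u (by
      rintro _ ⟨a, ha, rfl⟩
      rw [Set.mem_singleton_iff] at ha
      rw [ha, hPScoe]; exact hconj)
    have hyx := hy x (Set.mem_singleton x)
    have hyH : y ∈ H := by rw [← hLH, hLdef, hXdef]; exact hyL
    have hxH : x ∈ H := hPH hxP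
    have hg : g = ⁅x, y⁆ := by
      rw [hgxu, commutatorElement_def, commutatorElement_def]
      have h1 : x * u * x⁻¹ * u⁻¹ = x * (u * x * u⁻¹)⁻¹ := by group
      rw [h1, hyx]; group
    have hmem : ⁅(⟨x, hxH⟩ : ↥H), ⟨y, hyH⟩⁆ ∈ M₁ := by
      apply hcomm
      rw [commutator_def]
      exact Subgroup.commutator_mem_commutator (Subgroup.mem_top _) (Subgroup.mem_top _)
    refine ⟨_, hmem, ?_⟩
    rw [hg]
    rfl
  rw [← hfoc] at hfocle
  have hP₀M : (P₀ : Subgroup ↥H) ≤ M₁ := by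
    intro y hy
    obtain ⟨m, hm, hmy⟩ := hfocle ((hmemP y).1 hy)
    have : m = y := Subtype.ext hmy
    rwa [← this]
  have hidx := Subgroup.index_dvd_of_le hP₀M
  have hM1 : M₁.index ≠ 1 := fun h => hM₁top (Subgroup.index_eq_one.1 h)
  obtain ⟨j, -, hj⟩ := (Nat.dvd_prime_pow hq).1 hM₁idx
  have hj0 : j ≠ 0 := by
    intro h0
    rw [h0, pow_zero] at hj
    exact hM1 hj
  have hqdvd : q ∣ (P₀ : Subgroup ↥H).index := by
    refine dvd_trans ?_ hidx
    rw [hj]
    exact dvd_pow_self q hj0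
  exact P₀.not_dvd_index hqdvd

/-- A minimal simple CN-group of odd order has no three-step subgroup. -/
theorem no_threeStep [Finite G] (hG : Cfsg.IsMinSimpleOddOrder G) (hCN : Cfsg.IsCNGroup G)
    (H : Subgroup G) (p : ℕ) : ¬ Cfsg.IsThreeStepGroup p ↥H := by
  intro h3
  have hTS := ts_of_threeStep hG H p h3
  obtain ⟨H₀, hH₀, hmax⟩ := Set.exists_max_image {L : Subgroup G | TS L}
    (fun L => Nat.card L) (Set.toFinite _) ⟨H, hTS⟩
  exact no_ts hG hCN H₀ hH₀ (fun L hL => hmax L hL)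

end CNThree

end Cfsg.Agent.Helper2
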