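import Mathlib
import Cfsg.Prelude.Def_LieExceptional
import Cfsg.Prelude.Def_OddOrderLocal
import Cfsg.Prelude.Def_OddOrder
import Cfsg.Agent.Helper1.CNFrobenius
import Cfsg.Agent.Helper1.TypeP
import Cfsg.Agent.Helper2.CNThreeC

set_option autoImplicit false

/-!
Proper non-nilpotent subgroups of a minimal simple CN-group of odd order are of Frobenius type.
-/

namespace Cfsg.Agent.Helper2

namespace CNMax

open Cfsg
open Cfsg.Agent.Helper1
open Cfsg.Agent.Helper2.CNThree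

universe u

variable {G : Type u} [Group G]

theorem not_ts [Finite G] (hG : Cfsg.IsMinSimpleOddOrder G) (hCN : Cfsg.IsCNGroup G)
    (H : Subgroup G) : ¬ TS H := by
  intro hTS
  obtain ⟨H₀, hH₀, hmax⟩ := Set.exists_max_image {L : Subgroup G | TS L}
    (fun L => Nat.card L) (Set.toFinite _) ⟨H, hTS⟩
  exact no_ts hG hCN H₀ hH₀ (fun L hL => hmax L hL)

theorem fittingHallOf_le (M : Subgroup G) : Cfsg.fittingHallOf M ≤ M :=
  Subgroup.map_subtype_le _

theorem fittingHallOf_isNilpotent [Finite G] (M : Subgroup G) :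
    Group.IsNilpotent ↥(Cfsg.fittingHallOf M) := by
  have h1 : Group.IsNilpotent ↥(Cfsg.fittingHall ↥M) := CNFrob.fittingHall_isNilpotent
  exact Group.nilpotent_of_mulEquiv
    ((Cfsg.fittingHall ↥M).equivMapOfInjective M.subtype M.subtype_injective)

theorem le_normalizer_fittingHallOf (M : Subgroup G) :
    M ≤ Subgroup.normalizer (Cfsg.fittingHallOf M : Set G) := by
  have hn : (Cfsg.fittingHall ↥M).Normal := inferInstance
  have key : ∀ g ∈ M, ∀ x ∈ Cfsg.fittingHallOf M, g * x * g⁻¹ ∈ Cfsg.fittingHallOf M := by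
    rintro g hg _ ⟨y, hy, rfl⟩
    exact ⟨⟨g, hg⟩ * y * ⟨g, hg⟩⁻¹, hn.conj_mem y hy ⟨g, hg⟩, rfl⟩
  intro g hg
  rw [Subgroup.mem_normalizer_iff]
  intro x
  refine ⟨key g hg x, fun h => ?_⟩
  have := key g⁻¹ (inv_mem hg) _ h
  simpa [mul_assoc] using this

theorem mem_fittingHallOf_iff (M : Subgroup G) (x : G) (hx : x ∈ M) :
    x ∈ Cfsg.fittingHallOf M ↔ (⟨x, hx⟩ : ↥M) ∈ Cfsg.fittingHall ↥M := by
  constructor
  · rintro ⟨y, hy, hyx⟩
    have : y = ⟨x, hx⟩ := Subtype.ext hyx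
    rwa [← this]
  · intro h
    exact ⟨⟨x, hx⟩, h, rfl⟩

/-- A normal nilpotent Hall subgroup of `M` lies in `fittingHallOf M`. -/
theorem le_fittingHallOf [Finite G] (M T : Subgroup G) (hTM : T ≤ M)
    (hMT : M ≤ Subgroup.normalizer (T : Set G)) (hT : Group.IsNilpotent ↥T)
    (hcop : (Nat.card T).Coprime (T.relIndex M)) : T ≤ Cfsg.fittingHallOf M := by
  have hn : (T.subgroupOf M).Normal := by
    refine ⟨fun n hn g => ?_⟩
    rw [Subgroup.mem_subgroupOf] at hn ⊢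
    have := (Subgroup.mem_normalizer_iff.1 (hMT g.2) n).1 hn
    simpa using this
  have hnil : Group.IsNilpotent ↥(T.subgroupOf M) :=
    Group.nilpotent_of_mulEquiv (Subgroup.subgroupOfEquivOfLe hTM).symm
  have hc : (Nat.card ↥(T.subgroupOf M)).Coprime (T.subgroupOf M).index := by
    rw [Nat.card_congr (Subgroup.subgroupOfEquivOfLe hTM).toEquiv]
    exact hcop
  have hle : T.subgroupOf M ≤ Cfsg.fittingHall ↥M := le_sSup ⟨hn, hnil, hc⟩
  intro x hx
  exact ⟨⟨x, hTM hx⟩, hle (Subgroup.mem_subgroupOf.2 hx), rfl⟩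

/-- The Frobenius-type structure of proper non-nilpotent subgroups. -/
theorem frob_structure [Finite G] (hG : Cfsg.IsMinSimpleOddOrder G) (hCN : Cfsg.IsCNGroup G)
    (M : Subgroup G) (hM : M ≠ ⊤) (hnn : ¬ Group.IsNilpotent ↥M) :
    ∃ E : Subgroup G, Cfsg.IsComplIn (Cfsg.fittingHallOf M) E M ∧ Cfsg.fittingHallOf M ≠ ⊥ ∧
      E ≠ ⊥ ∧
      (∀ e ∈ E, e ≠ 1 → Cfsg.fittingHallOf M ⊓ Subgroup.centralizer ({e} : Set G) = ⊥) ∧
      Group.IsNilpotent (↥M ⧸ Cfsg.fittingHall ↥M) ∧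
      (Nat.card ↥(Cfsg.fittingHallOf M)).Coprime (Nat.card E) := by
  have hsolv : Group.IsSolvable ↥M := hG.2.2.2 M hM
  have hCNM := isCNGroup_subgroup hCN M
  have hex : ∃ (r : ℕ) (_ : Fact r.Prime) (S : Sylow r ↥M), (S : Subgroup ↥M).Normal ∧
      (S : Subgroup ↥M) ≠ ⊥ := by
    by_contra hcon
    apply not_ts hG hCN M
    refine ⟨hsolv, hnn, ?_⟩
    intro r hr S hSn
    by_contra hS1
    exact hcon ⟨r, hr, S, hSn, hS1⟩
  obtain ⟨r, hr, S, hSn, hS1⟩ := hex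
  obtain ⟨hK1, hKtop, ⟨E, hcompl, -, hfpf⟩, hquot⟩ := CNFrob.cn_frobenius hCNM hnn r S hS1 hSn
  have hdisj : Cfsg.fittingHall ↥M ⊓ E = ⊥ := disjoint_iff.1 hcompl.disjoint
  have hsup : Cfsg.fittingHall ↥M ⊔ E = ⊤ := hcompl.sup_eq_top
  have hcardE : (Cfsg.fittingHall ↥M).index = Nat.card E :=
    Subgroup.IsComplement'.index_eq_card (Subgroup.IsComplement'.symm hcompl)
  have hcopKE : (Nat.card ↥(Cfsg.fittingHall ↥M)).Coprime (Nat.card E) :=
    hcardE ▸ fittingHall_coprime ↥M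
  refine ⟨E.map M.subtype, ⟨fittingHallOf_le M, Subgroup.map_subtype_le _, ?_, ?_⟩, ?_, ?_, ?_,
    hquot, ?_⟩
  · rw [eq_bot_iff]
    rintro x ⟨⟨y, hy, rfl⟩, ⟨y', hy', hyy'⟩⟩
    have : y' = y := Subtype.ext hyy'
    rw [this] at hy'
    have h1 : y ∈ Cfsg.fittingHall ↥M ⊓ E := ⟨hy, hy'⟩
    rw [hdisj, Subgroup.mem_bot] at h1
    rw [h1]
    exact Subgroup.one_mem _
  · intro m hm
    have h1 : (⟨m, hm⟩ : ↥M) ∈ Cfsg.fittingHall ↥M ⊔ E := hsup ▸ Subgroup.mem_top _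
    rw [Subgroup.mem_sup_of_normal_left] at h1
    obtain ⟨a, ha, b, hb, hab⟩ := h1
    refine ⟨a, ⟨a, ha, rfl⟩, b, ⟨b, hb, rfl⟩, ?_⟩
    have := congrArg Subtype.val hab
    simpa using this.symm
  · intro h0
    apply hK1
    unfold Cfsg.fittingHallOf at h0
    rwa [Subgroup.map_eq_bot_iff_of_injective _ M.subtype_injective] at h0
  · intro h0
    rw [Subgroup.map_eq_bot_iff_of_injective _ M.subtype_injective] at h0
    rw [h0, sup_bot_eq] at hsup
    exact hKtop hsup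
  · rintro _ ⟨e, he, rfl⟩ he1
    have he1' : e ≠ 1 := fun h => he1 (by rw [h]; rfl)
    rw [eq_bot_iff]
    rintro x ⟨⟨y, hy, rfl⟩, hxc⟩
    have hxc' : M.subtype y ∈ Subgroup.centralizer ({M.subtype e} : Set G) := hxc
    rw [Subgroup.mem_centralizer_singleton_iff] at hxc'
    have hxc := hxc'
    have h1 : y ∈ Cfsg.fittingHall ↥M ⊓ Subgroup.centralizer ({e} : Set ↥M) := by
      refine ⟨hy, ?_⟩
      show y ∈ Subgroup.centralizer ({e} : Set ↥M)
      rw [Subgroup.mem_centralizer_singleton_iff]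
      exact Subtype.ext hxc
    rw [hfpf e he he1', Subgroup.mem_bot] at h1
    rw [h1]
    exact Subgroup.one_mem _
  · unfold Cfsg.fittingHallOf
    rw [Nat.card_congr ((Cfsg.fittingHall ↥M).equivMapOfInjective M.subtype
        M.subtype_injective).symm.toEquiv,
      Nat.card_congr (E.equivMapOfInjective M.subtype M.subtype_injective).symm.toEquiv]
    exact hcopKE

end CNMax

end Cfsg.Agent.Helper2
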