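import Mathlib
import Cfsg.Prelude.Def_LieExceptional
import Cfsg.Prelude.Def_OddOrderLocal
import Cfsg.Prelude.Def_OddOrder
import Cfsg.Agent.Helper1.Basic
import Cfsg.Agent.Helper1.Cores
import Cfsg.Agent.Helper1.CNSolvB
import Cfsg.Agent.Helper2.BaerSuzuki
import Cfsg.Agent.Helper2.CNMaxA

set_option autoImplicit false

/-!
In a minimal simple CN-group of odd order, distinct Sylow `p`-subgroups meet trivially.
-/

namespace Cfsg.Agent.Helper2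

namespace CNMax

open Cfsg
open Cfsg.Agent.Helper1
open Cfsg.Agent.Helper2.CNThree

universe u

variable {G : Type u} [Group G]

/-- A proper non-nilpotent subgroup has a nontrivial normal Sylow subgroup. -/
theorem exists_normal_sylow [Finite G] (hG : Cfsg.IsMinSimpleOddOrder G) (hCN : Cfsg.IsCNGroup G)
    (M : Subgroup G) (hM : M ≠ ⊤) (hnn : ¬ Group.IsNilpotent ↥M) :
    ∃ (r : ℕ) (_ : Fact r.Prime) (S : Sylow r ↥M), (S : Subgroup ↥M).Normal ∧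
      (S : Subgroup ↥M) ≠ ⊥ := by
  have hsolv : Group.IsSolvable ↥M := hG.2.2.2 M hM
  by_contra hcon
  apply not_ts hG hCN M
  refine ⟨hsolv, hnn, ?_⟩
  intro r hr S hSn
  by_contra hS1
  exact hcon ⟨r, hr, S, hSn, hS1⟩

theorem sylow_TI_aux [Finite G] (hG : Cfsg.IsMinSimpleOddOrder G) (hCN : Cfsg.IsCNGroup G)
    {p : ℕ} [hp : Fact p.Prime] (P₁ P₂ : Sylow p G) (hne : P₁ ≠ P₂)
    (hD : (P₁ : Subgroup G) ⊓ P₂ ≠ ⊥)
    (hmax : ∀ Q₁ Q₂ : Sylow p G, Q₁ ≠ Q₂ → (Q₁ : Subgroup G) ⊓ Q₂ ≠ ⊥ →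
      Nat.card ↥((Q₁ : Subgroup G) ⊓ Q₂) ≤ Nat.card ↥((P₁ : Subgroup G) ⊓ P₂)) : False := by
  obtain ⟨D, hDdef⟩ : ∃ D : Subgroup G, D = (P₁ : Subgroup G) ⊓ P₂ := ⟨_, rfl⟩
  rw [← hDdef] at hD hmax
  have hD1 : D ≤ P₁ := hDdef ▸ inf_le_left
  have hD2 : D ≤ P₂ := hDdef ▸ inf_le_right
  have hDp : IsPGroup p D := P₁.2.to_le hD1
  have hlt₁ : D < (P₁ : Subgroup G) := by
    refine lt_of_le_of_ne hD1 (fun h => hne ?_)
    have hle : (P₁ : Subgroup G) ≤ P₂ := h ▸ hD2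
    exact (Sylow.ext (P₁.is_maximal' P₂.2 hle)).symm
  have hlt₂ : D < (P₂ : Subgroup G) := by
    refine lt_of_le_of_ne hD2 (fun h => hne ?_)
    have hle : (P₂ : Subgroup G) ≤ P₁ := h ▸ hD1
    exact Sylow.ext (P₂.is_maximal' P₁.2 hle)
  obtain ⟨r₁, hr₁P, hr₁D, hr₁N⟩ := exists_mem_normalizer_notMem_of_lt P₁.2 hlt₁
  obtain ⟨r₂, hr₂P, hr₂D, hr₂N⟩ := exists_mem_normalizer_notMem_of_lt P₂.2 hlt₂
  obtain ⟨N, hNdef⟩ : ∃ N : Subgroup G, N = Subgroup.normalizer (D : Set G) := ⟨_, rfl⟩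
  have hDN : D ≤ N := hNdef ▸ Subgroup.le_normalizer
  have hNtop : N ≠ ⊤ := by
    intro htop
    have hDn : D.Normal := Subgroup.normalizer_eq_top_iff.1 (hNdef ▸ htop)
    haveI := hG.2.1
    rcases hDn.eq_bot_or_eq_top with h | h
    · exact hD h
    · apply hne
      have h1 : (P₁ : Subgroup G) = ⊤ := top_le_iff.1 (h ▸ hD1)
      have h2 : (P₂ : Subgroup G) = ⊤ := top_le_iff.1 (h ▸ hD2)
      exact Sylow.ext (h1.trans h2.symm)
  have hCNN := isCNGroup_subgroup hCN N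
  -- no Sylow `p`-subgroup of `N` is normal
  have key : ∀ R₀ : Sylow p ↥N, ¬ (R₀ : Subgroup ↥N).Normal := by
    intro R₀ hR₀n
    have hsub : ∀ T : Subgroup G, IsPGroup p T → T ≤ N →
        T ≤ (R₀ : Subgroup ↥N).map N.subtype := by
      intro T hT hTN
      have h1 : IsPGroup p (T.subgroupOf N) := hT.comap_subtype
      obtain ⟨R', hR'⟩ := h1.exists_le_sylow
      obtain ⟨g, hg⟩ := MulAction.exists_smul_eq ↥N R₀ R'
      rw [Sylow.smul_eq_of_normal] at hg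
      rw [← hg] at hR'
      intro x hx
      exact ⟨⟨x, hTN hx⟩, hR' (Subgroup.mem_subgroupOf.2 hx), rfl⟩
    have hRp : IsPGroup p ((R₀ : Subgroup ↥N).map N.subtype) := R₀.2.map _
    obtain ⟨P₃, hP₃⟩ := hRp.exists_le_sylow
    have hDR : D ≤ (R₀ : Subgroup ↥N).map N.subtype := hsub D hDp hDN
    have hr₁R : r₁ ∈ (R₀ : Subgroup ↥N).map N.subtype := by
      apply hsub ((P₁ : Subgroup G) ⊓ N) (P₁.2.to_le inf_le_left) inf_le_right
      exact ⟨hr₁P, hNdef ▸ hr₁N⟩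
    have hr₂R : r₂ ∈ (R₀ : Subgroup ↥N).map N.subtype := by
      apply hsub ((P₂ : Subgroup G) ⊓ N) (P₂.2.to_le inf_le_left) inf_le_right
      exact ⟨hr₂P, hNdef ▸ hr₂N⟩
    have h13 : P₁ = P₃ := by
      by_contra h
      have hle : D ≤ (P₁ : Subgroup G) ⊓ P₃ := le_inf hD1 (hDR.trans hP₃)
      have hlt : D < (P₁ : Subgroup G) ⊓ P₃ := by
        refine lt_of_le_of_ne hle (fun heq => hr₁D ?_)
        rw [heq]
        exact ⟨hr₁P, hP₃ hr₁R⟩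
      have h1 := hmax P₁ P₃ h (fun h0 => hD (le_bot_iff.1 (h0 ▸ hle)))
      exact absurd (card_lt_card_of_lt hlt) (not_lt.2 h1)
    have h23 : P₂ = P₃ := by
      by_contra h
      have hle : D ≤ (P₂ : Subgroup G) ⊓ P₃ := le_inf hD2 (hDR.trans hP₃)
      have hlt : D < (P₂ : Subgroup G) ⊓ P₃ := by
        refine lt_of_le_of_ne hle (fun heq => hr₂D ?_)
        rw [heq]
        exact ⟨hr₂P, hP₃ hr₂R⟩
      have h1 := hmax P₂ P₃ h (fun h0 => hD (le_bot_iff.1 (h0 ▸ hle)))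
      exact absurd (card_lt_card_of_lt hlt) (not_lt.2 h1)
    exact hne (h13.trans h23.symm)
  obtain ⟨R₀⟩ : Nonempty (Sylow p ↥N) := inferInstance
  have hnn : ¬ Group.IsNilpotent ↥N := by
    intro hnil
    have hall := ((Group.isNilpotent_of_finite_tfae (G := ↥N)).out 0 3).1 hnil
    exact key R₀ (hall p hp R₀)
  obtain ⟨r, hr, S, hSn, hS1⟩ := exists_normal_sylow hG hCN N hNtop hnn
  have hpr : p ≠ r := by
    intro h
    subst h
    exact key S hSn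
  have hp1 : Cfsg.pCore p ↥N ≠ ⊥ := by
    have hn : (D.subgroupOf N).Normal := by
      rw [hNdef]; exact Subgroup.normal_in_normalizer
    have hle : D.subgroupOf N ≤ Cfsg.pCore p ↥N := le_pCore hn hDp.comap_subtype
    intro h0
    apply hD
    rw [h0, le_bot_iff, Subgroup.subgroupOf_eq_bot] at hle
    rw [eq_bot_iff]
    intro x hx
    have := hle.le_bot ⟨hx, hDN hx⟩
    exact this
  have hr1 : Cfsg.pCore r ↥N ≠ ⊥ := by
    have hle : (S : Subgroup ↥N) ≤ Cfsg.pCore r ↥N := le_pCore hSn S.2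
    intro h0
    rw [h0, le_bot_iff] at hle
    exact hS1 hle
  exact key R₀ (CNSolv.sylow_normal_of_two_cores hCNN hpr hp1 hr1 R₀)

/-- Distinct Sylow `p`-subgroups meet trivially. -/
theorem sylow_TI [Finite G] (hG : Cfsg.IsMinSimpleOddOrder G) (hCN : Cfsg.IsCNGroup G)
    {p : ℕ} [hp : Fact p.Prime] (P₁ P₂ : Sylow p G) (hne : P₁ ≠ P₂) :
    (P₁ : Subgroup G) ⊓ P₂ = ⊥ := by
  by_contra hD
  obtain ⟨pr, hpr, hmax⟩ := Set.exists_max_image
    {pr : Sylow p G × Sylow p G | pr.1 ≠ pr.2 ∧ (pr.1 : Subgroup G) ⊓ pr.2 ≠ ⊥}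
    (fun pr => Nat.card ↥((pr.1 : Subgroup G) ⊓ pr.2)) (Set.toFinite _) ⟨(P₁, P₂), hne, hD⟩
  exact sylow_TI_aux hG hCN pr.1 pr.2 hpr.1 hpr.2 (fun Q₁ Q₂ h1 h2 => hmax (Q₁, Q₂) ⟨h1, h2⟩)

end CNMax

end Cfsg.Agent.Helper2
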