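import Mathlib
import Cfsg.Prelude.Def_LieExceptional
import Cfsg.Prelude.Def_OddOrderLocal
import Cfsg.Prelude.Def_OddOrder
import Cfsg.Prelude.Def_Solvable
import Cfsg.Agent.Helper1.Basic
import Cfsg.Agent.Helper1.CNGroup2
import Cfsg.Agent.Helper1.NilpCoprime
import Cfsg.Agent.Helper2.CNMaxA
import Cfsg.Agent.Helper2.CNMaxB
import Cfsg.Agent.S0035

set_option autoImplicit false

/-!
Maximal nilpotent subgroups of a minimal simple CN-group of odd order.
-/

namespace Cfsg.Agent.Helper2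

namespace CNMax

open Cfsg
open Cfsg.Agent.Helper1
open Cfsg.Agent.Helper2.CNThree

universe u

variable {G : Type u} [Group G]

theorem not_isNilpotent_of_minSimple (hG : Cfsg.IsMinSimpleOddOrder G) :
    ¬ Group.IsNilpotent G := by
  intro h
  exact not_isSolvable_of_minSimple hG inferInstance

theorem not_isNilpotent_top (hG : Cfsg.IsMinSimpleOddOrder G) :
    ¬ Group.IsNilpotent ↥(⊤ : Subgroup G) := by
  intro h
  exact not_isNilpotent_of_minSimple hG
    (Group.nilpotent_of_mulEquiv (Subgroup.topEquiv : (⊤ : Subgroup G) ≃* G))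

theorem max_nilpotent_ne_bot [Finite G] (hG : Cfsg.IsMinSimpleOddOrder G)
    (H : Subgroup G) (hmax : ∀ L : Subgroup G, Group.IsNilpotent L → H ≤ L → L = H) :
    H ≠ ⊥ := by
  intro h0
  haveI := hG.2.1
  obtain ⟨x, hx⟩ := exists_ne (1 : G)
  have hnil : Group.IsNilpotent ↥(Subgroup.zpowers x) := by
    letI : CommGroup ↥(Subgroup.zpowers x) := IsCyclic.commGroup
    exact CommGroup.isNilpotent
  have h1 := hmax (Subgroup.zpowers x) hnil (h0 ▸ bot_le)
  rw [h0, Subgroup.zpowers_eq_bot] at h1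
  exact hx h1

/-- The trivial intersection property of maximal nilpotent subgroups. -/
theorem max_nilpotent_TI [Finite G] (hG : Cfsg.IsMinSimpleOddOrder G) (hCN : Cfsg.IsCNGroup G)
    (H : Subgroup G) (hH : Group.IsNilpotent H)
    (hmax : ∀ L : Subgroup G, Group.IsNilpotent L → H ≤ L → L = H) :
    ∀ g : G, H.map (MulAut.conj g).toMonoidHom ≠ H →
      H ⊓ H.map (MulAut.conj g).toMonoidHom = ⊥ := by
  have hH1 := max_nilpotent_ne_bot hG H hmax
  have hfacts := cn_max_nilpotent_facts hCN H hH hmax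
  by_cases hpp : IsPrimePow (Nat.card H)
  · rw [isPrimePow_nat_iff] at hpp
    obtain ⟨p, k, hp, hk, hpk⟩ := hpp
    haveI hpF : Fact p.Prime := ⟨hp⟩
    have hHp : IsPGroup p H := IsPGroup.of_card hpk.symm
    set HS : Sylow p G := ⟨H, hHp, fun {Q} hQ hle => hmax Q hQ.isNilpotent hle⟩ with hHS
    intro g hg
    have hne : HS ≠ g • HS := by
      intro h
      apply hg
      have h1 := congrArg (fun S : Sylow p G => (S : Subgroup G)) h
      simp only [Sylow.coe_subgroup_smul] at h1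
      exact h1.symm
    have h2 := sylow_TI hG hCN HS (g • HS) hne
    rw [Sylow.coe_subgroup_smul] at h2
    exact h2
  · apply hfacts.2.1 hpp
    intro h1
    exact hH1 (Subgroup.card_eq_one.1 h1)

/-- Every element of `H` is a commutator with a fixed-point-free element normalizing `H`. -/
theorem exists_eq_commutator_of_fpf [Finite G] (H : Subgroup G) (e : G)
    (he : e ∈ Subgroup.normalizer (H : Set G))
    (hfpf : H ⊓ Subgroup.centralizer ({e} : Set G) = ⊥) (h : G) (hh : h ∈ H) :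
    ∃ h₀ ∈ H, h = h₀ * e * h₀⁻¹ * e⁻¹ := by
  have hmem : ∀ x ∈ H, x * e * x⁻¹ * e⁻¹ ∈ H := by
    intro x hx
    have h1 : e * x⁻¹ * e⁻¹ ∈ H := (Subgroup.mem_normalizer_iff.1 he _).1 (H.inv_mem hx)
    have : x * e * x⁻¹ * e⁻¹ = x * (e * x⁻¹ * e⁻¹) := by group
    rw [this]
    exact H.mul_mem hx h1
  let c : ↥H → ↥H := fun x => ⟨x.1 * e * x.1⁻¹ * e⁻¹, hmem x.1 x.2⟩
  have hinj : Function.Injective c := by
    intro x y hxy
    have h1 : x.1 * e * x.1⁻¹ * e⁻¹ = y.1 * e * y.1⁻¹ * e⁻¹ := congrArg Subtype.val hxy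
    have h2 : (y.1⁻¹ * x.1) * e = e * (y.1⁻¹ * x.1) := by
      have h3 : x.1 * e * x.1⁻¹ = y.1 * e * y.1⁻¹ := mul_right_cancel h1
      calc (y.1⁻¹ * x.1) * e = y.1⁻¹ * (x.1 * e * x.1⁻¹) * x.1 := by group
        _ = y.1⁻¹ * (y.1 * e * y.1⁻¹) * x.1 := by rw [h3]
        _ = e * (y.1⁻¹ * x.1) := by group
    have h4 : y.1⁻¹ * x.1 ∈ H ⊓ Subgroup.centralizer ({e} : Set G) :=
      ⟨H.mul_mem (H.inv_mem y.2) x.2, Subgroup.mem_centralizer_singleton_iff.2 h2⟩
    rw [hfpf, Subgroup.mem_bot] at h4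
    apply Subtype.ext
    have : x.1 = y.1 * (y.1⁻¹ * x.1) := by group
    rw [this, h4, mul_one]
  obtain ⟨h₀, hh₀⟩ := (Finite.injective_iff_surjective.1 hinj) ⟨h, hh⟩
  exact ⟨h₀.1, h₀.2, (congrArg Subtype.val hh₀).symm⟩

/-- The main theorem on maximal nilpotent subgroups. -/
theorem max_nilpotent_main [Finite G] (hG : Cfsg.IsMinSimpleOddOrder G) (hCN : Cfsg.IsCNGroup G)
    (H : Subgroup G) (hH : Group.IsNilpotent H)
    (hmax : ∀ L : Subgroup G, Group.IsNilpotent L → H ≤ L → L = H) :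
    (Nat.card H).Coprime H.index ∧
      (∀ g : G, H.map (MulAut.conj g).toMonoidHom ≠ H →
        H ⊓ H.map (MulAut.conj g).toMonoidHom = ⊥) ∧
      IsCoatom (Subgroup.normalizer (H : Set G)) ∧
      ∃ E : Subgroup G, Cfsg.IsComplIn H E (Subgroup.normalizer (H : Set G)) ∧ E ≠ ⊥ ∧
        ∀ e ∈ E, e ≠ 1 → H ⊓ Subgroup.centralizer ({e} : Set G) = ⊥ := by
  have hH1 := max_nilpotent_ne_bot hG H hmax
  have hcop := (cn_max_nilpotent_facts hCN H hH hmax).1
  have hTI := max_nilpotent_TI hG hCN H hH hmax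
  have hHtop : H ≠ ⊤ := fun h => not_isNilpotent_top hG (h ▸ hH)
  obtain ⟨N, hNdef⟩ : ∃ N : Subgroup G, N = Subgroup.normalizer (H : Set G) := ⟨_, rfl⟩
  rw [← hNdef]
  have hHN : H ≤ N := hNdef ▸ Subgroup.le_normalizer
  have hNtop : N ≠ ⊤ := by
    intro htop
    have hHn : H.Normal := Subgroup.normalizer_eq_top_iff.1 (hNdef ▸ htop)
    haveI := hG.2.1
    rcases hHn.eq_bot_or_eq_top with h | h
    · exact hH1 h
    · exact hHtop h
  -- `N ≠ H` by Frobenius' theorem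
  have hNH : N ≠ H := by
    intro hNH
    have hfrob : Cfsg.IsFrobeniusComplement H := by
      refine ⟨hH1, hHtop, fun g hg => ?_⟩
      rw [conj_smul_eq_map]
      apply hTI g
      intro h
      apply hg
      rw [← hNH, hNdef]
      exact Subgroup.mem_normalizer_iff_map_conj_eq.2 h
    obtain ⟨K, -, hKn, hKc⟩ := Cfsg.Agent.S0035.result H hfrob
    haveI := hG.2.1
    rcases hKn.eq_bot_or_eq_top with h | h
    · rw [h, Subgroup.isComplement'_bot_left] at hKc
      exact hHtop hKc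
    · rw [h, Subgroup.isComplement'_top_left] at hKc
      exact hH1 hKc
  have hnnN : ¬ Group.IsNilpotent ↥N := fun hnil => hNH (hmax N hnil hHN)
  obtain ⟨E, hcompl, hK1, hE1, hfpf, hquot, hcopKE⟩ := frob_structure hG hCN N hNtop hnnN
  have hKH : Cfsg.fittingHallOf N = H := by
    apply hmax _ (fittingHallOf_isNilpotent N)
    apply le_fittingHallOf N H hHN (le_of_eq hNdef) hH
    exact Nat.Coprime.coprime_dvd_right (Dvd.intro _ (Subgroup.relIndex_mul_index hHN)) hcop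
  rw [hKH] at hcompl hfpf hcopKE
  refine ⟨hcop, hTI, ⟨hNtop, ?_⟩, E, hcompl, hE1, hfpf⟩
  -- maximality of `N`
  intro M' hlt
  by_contra hM'top
  have hnnM' : ¬ Group.IsNilpotent ↥M' := fun hnil => hnnN (CNFrob.nilp_of_le hlt.le hnil)
  obtain ⟨E', -, -, -, -, hquot', -⟩ := frob_structure hG hCN M' hM'top hnnM'
  obtain ⟨e, heE, he1⟩ : ∃ e ∈ E, e ≠ 1 := by
    by_contra hcon
    push Not at hcon
    exact hE1 ((Subgroup.eq_bot_iff_forall _).2 hcon)
  have heN : e ∈ N := hcompl.2.1 heE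
  have heM' : e ∈ M' := hlt.le heN
  have hHK' : H ≤ Cfsg.fittingHallOf M' := by
    intro h hh
    obtain ⟨h₀, hh₀, hc⟩ := exists_eq_commutator_of_fpf H e (hNdef ▸ heN) (hfpf e heE he1) h hh
    have hh₀M' : h₀ ∈ M' := hlt.le (hHN hh₀)
    have hcop' : (orderOf ((⟨h₀, hh₀M'⟩ : ↥M') : ↥M' ⧸ Cfsg.fittingHall ↥M')).Coprime
        (orderOf ((⟨e, heM'⟩ : ↥M') : ↥M' ⧸ Cfsg.fittingHall ↥M')) := by
      have h1 : orderOf ((⟨h₀, hh₀M'⟩ : ↥M') : ↥M' ⧸ Cfsg.fittingHall ↥M') ∣ Nat.card H := by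
        refine (orderOf_map_dvd (QuotientGroup.mk' (Cfsg.fittingHall ↥M')) _).trans ?_
        rw [Subgroup.orderOf_mk]
        exact Subgroup.orderOf_dvd_natCard H hh₀
      have h2 : orderOf ((⟨e, heM'⟩ : ↥M') : ↥M' ⧸ Cfsg.fittingHall ↥M') ∣ Nat.card E := by
        refine (orderOf_map_dvd (QuotientGroup.mk' (Cfsg.fittingHall ↥M')) _).trans ?_
        rw [Subgroup.orderOf_mk]
        exact Subgroup.orderOf_dvd_natCard E heE
      exact Nat.Coprime.coprime_dvd_left h1 (Nat.Coprime.coprime_dvd_right h2 hcopKE)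
    haveI := hquot'
    have hcomm := commute_of_coprime_orderOf _ _ hcop'
    have hmem : (⟨h₀, hh₀M'⟩ : ↥M') * ⟨e, heM'⟩ * (⟨h₀, hh₀M'⟩ : ↥M')⁻¹ * (⟨e, heM'⟩ : ↥M')⁻¹ ∈
        Cfsg.fittingHall ↥M' := by
      rw [← QuotientGroup.eq_one_iff, QuotientGroup.mk_mul, QuotientGroup.mk_mul,
        QuotientGroup.mk_mul, QuotientGroup.mk_inv, QuotientGroup.mk_inv, hcomm]
      group
    have hhM' : h ∈ M' := hlt.le (hHN hh)
    rw [mem_fittingHallOf_iff M' h hhM']
    have : (⟨h, hhM'⟩ : ↥M') = (⟨h₀, hh₀M'⟩ : ↥M') * ⟨e, heM'⟩ * (⟨h₀, hh₀M'⟩ : ↥M')⁻¹ *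
        (⟨e, heM'⟩ : ↥M')⁻¹ := Subtype.ext hc
    rw [this]
    exact hmem
  have hK'H : Cfsg.fittingHallOf M' = H := hmax _ (fittingHallOf_isNilpotent M') hHK'
  have hM'N : M' ≤ N := by
    have := le_normalizer_fittingHallOf M'
    rw [hK'H, ← hNdef] at this
    exact this
  exact hlt.not_ge hM'N

end CNMax

end Cfsg.Agent.Helper2
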