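import Mathlib
import Cfsg.Prelude.Def_LieExceptional
import Cfsg.Prelude.Def_OddOrderLocal
import Cfsg.Prelude.Def_OddOrder
import Cfsg.Agent.Helper1.Basic
import Cfsg.Agent.Helper2.CNMaxA
import Cfsg.Agent.Helper2.CNMaxB
import Cfsg.Agent.Helper2.CNMaxC

set_option autoImplicit false

/-!
Maximal subgroups of a minimal simple CN-group of odd order are Frobenius groups whose kernel is a
maximal nilpotent subgroup.
-/

namespace Cfsg.Agent.Helper2

namespace CNMax

open Cfsg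
open Cfsg.Agent.Helper1
open Cfsg.Agent.Helper2.CNThree

universe u

variable {G : Type u} [Group G]

/-- Every nilpotent subgroup lies in a maximal nilpotent subgroup. -/
theorem exists_max_nilpotent_ge [Finite G] (L : Subgroup G) (hL : Group.IsNilpotent ↥L) :
    ∃ L' : Subgroup G, L ≤ L' ∧ Group.IsNilpotent ↥L' ∧
      ∀ L'' : Subgroup G, Group.IsNilpotent ↥L'' → L' ≤ L'' → L'' = L' := by
  obtain ⟨L', hL', hmax⟩ := Set.exists_max_image
    {L' : Subgroup G | Group.IsNilpotent ↥L' ∧ L ≤ L'} (fun L' => Nat.card L') (Set.toFinite _)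
    ⟨L, hL, le_rfl⟩
  refine ⟨L', hL'.2, hL'.1, fun L'' hL'' hle => ?_⟩
  have h1 := hmax L'' ⟨hL'', hL'.2.trans hle⟩
  exact (Subgroup.eq_of_le_of_card_ge hle h1).symm

theorem coatom_not_nilpotent [Finite G] (hG : Cfsg.IsMinSimpleOddOrder G)
    (hCN : Cfsg.IsCNGroup G) (M : Subgroup G) (hM : IsCoatom M) : ¬ Group.IsNilpotent ↥M := by
  intro hnil
  have hmaxM : ∀ L : Subgroup G, Group.IsNilpotent L → M ≤ L → L = M := by
    intro L hL hML
    by_contra hne
    have hlt : M < L := lt_of_le_of_ne hML (Ne.symm hne)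
    have htop := hM.2 L hlt
    exact not_isNilpotent_top hG (htop ▸ hL)
  obtain ⟨-, -, hco, E, hcompl, hE1, -⟩ := max_nilpotent_main hG hCN M hnil hmaxM
  obtain ⟨-, hEN, hdisj, -⟩ := hcompl
  have hlt : M < Subgroup.normalizer (M : Set G) := by
    refine lt_of_le_of_ne Subgroup.le_normalizer (fun heq => hE1 ?_)
    rw [← heq] at hEN
    rw [← hdisj]
    exact (inf_eq_right.2 hEN).symm
  exact hco.1 (hM.2 _ hlt)

theorem coatom_structure [Finite G] (hG : Cfsg.IsMinSimpleOddOrder G) (hCN : Cfsg.IsCNGroup G)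
    (M : Subgroup G) (hM : IsCoatom M) :
    ∃ H E : Subgroup G, Group.IsNilpotent H ∧
      (∀ L : Subgroup G, Group.IsNilpotent L → H ≤ L → L = H) ∧
      M ≤ Subgroup.normalizer (H : Set G) ∧ Cfsg.IsComplIn H E M ∧ H ≠ ⊥ ∧ E ≠ ⊥ ∧
      ∀ e ∈ E, e ≠ 1 → H ⊓ Subgroup.centralizer ({e} : Set G) = ⊥ := by
  have hMtop := hM.1
  have hnn := coatom_not_nilpotent hG hCN M hM
  obtain ⟨E, hcompl, hK1, hE1, hfpf, -, -⟩ := frob_structure hG hCN M hMtop hnn
  obtain ⟨K, hKdef⟩ : ∃ K : Subgroup G, K = Cfsg.fittingHallOf M := ⟨_, rfl⟩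
  rw [← hKdef] at hcompl hK1 hfpf
  have hKnil : Group.IsNilpotent ↥K := hKdef ▸ fittingHallOf_isNilpotent M
  have hMK : M ≤ Subgroup.normalizer (K : Set G) := hKdef ▸ le_normalizer_fittingHallOf M
  refine ⟨K, E, hKnil, ?_, hMK, hcompl, hK1, hE1, hfpf⟩
  intro L hL hKL
  obtain ⟨L', hLL', hL'nil, hmaxL'⟩ := exists_max_nilpotent_ge L hL
  obtain ⟨hcopL', hTIL', hcoL', -⟩ := max_nilpotent_main hG hCN L' hL'nil hmaxL'
  have hML' : M ≤ Subgroup.normalizer (L' : Set G) := by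
    intro m hm
    by_contra hmn
    have h1 : L'.map (MulAut.conj m).toMonoidHom ≠ L' :=
      fun h => hmn (Subgroup.mem_normalizer_iff_map_conj_eq.2 h)
    have h2 := hTIL' m h1
    apply hK1
    rw [eq_bot_iff, ← h2]
    intro k hk
    refine ⟨hLL' (hKL hk), ?_⟩
    have h3 : m⁻¹ * k * m⁻¹⁻¹ ∈ K :=
      (Subgroup.mem_normalizer_iff.1 (Subgroup.inv_mem _ (hMK hm)) k).1 hk
    refine ⟨m⁻¹ * k * m⁻¹⁻¹, hLL' (hKL h3), ?_⟩
    simp only [MulEquiv.coe_toMonoidHom, MulAut.conj_apply]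
    group
  have hMeq : M = Subgroup.normalizer (L' : Set G) := by
    by_contra hne
    exact hcoL'.1 (hM.2 _ (lt_of_le_of_ne hML' hne))
  have hL'M : L' ≤ M := hMeq ▸ Subgroup.le_normalizer
  have hL'K : L' ≤ K := by
    rw [hKdef]
    apply le_fittingHallOf M L' hL'M hML' hL'nil
    exact Nat.Coprime.coprime_dvd_right (Dvd.intro _ (Subgroup.relIndex_mul_index hL'M)) hcopL'
  exact le_antisymm ((hLL'.trans hL'K)) hKL

end CNMax

end Cfsg.Agent.Helper2
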