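import Mathlib
import Cfsg.Prelude.Def_LieExceptional
import Cfsg.Prelude.Def_OddOrderLocal
import Cfsg.Prelude.Def_OddOrder
import Cfsg.Agent.Helper1.Basic
import Cfsg.Agent.Helper1.CNGroup2
import Cfsg.Agent.Helper1.CNGroup3
import Cfsg.Agent.Helper2.CNMaxA
import Cfsg.Agent.Helper2.CNMaxB
import Cfsg.Agent.Helper2.CNMaxC
import Cfsg.Agent.Helper2.CNMaxD

set_option autoImplicit false

/-!
The partition of a minimal simple CN-group of odd order by the conjugates of the Frobenius
kernels of representatives of its maximal subgroups.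
-/

namespace Cfsg.Agent.Helper2

namespace CNMax

open Cfsg
open Cfsg.Agent.Helper1
open Cfsg.Agent.Helper2.CNThree

universe u

variable {G : Type u} [Group G]

/-- For a maximal nilpotent subgroup `H`, the kernel of `N_G(H)` is `H`. -/
theorem fittingHallOf_normalizer_eq [Finite G] (hG : Cfsg.IsMinSimpleOddOrder G)
    (hCN : Cfsg.IsCNGroup G) (H : Subgroup G) (hH : Group.IsNilpotent H)
    (hmax : ∀ L : Subgroup G, Group.IsNilpotent L → H ≤ L → L = H) :
    Cfsg.fittingHallOf (Subgroup.normalizer (H : Set G)) = H := by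
  have hcop := (cn_max_nilpotent_facts hCN H hH hmax).1
  apply hmax _ (fittingHallOf_isNilpotent _)
  apply le_fittingHallOf _ H Subgroup.le_normalizer le_rfl hH
  exact Nat.Coprime.coprime_dvd_right
    (Dvd.intro _ (Subgroup.relIndex_mul_index Subgroup.le_normalizer)) hcop

/-- For a maximal subgroup `M`, the kernel `fittingHallOf M` is a maximal nilpotent subgroup with
normalizer `M`. -/
theorem coatom_fittingHallOf [Finite G] (hG : Cfsg.IsMinSimpleOddOrder G)
    (hCN : Cfsg.IsCNGroup G) (M : Subgroup G) (hM : IsCoatom M) :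
    Group.IsNilpotent ↥(Cfsg.fittingHallOf M) ∧
      (∀ L : Subgroup G, Group.IsNilpotent L → Cfsg.fittingHallOf M ≤ L →
        L = Cfsg.fittingHallOf M) ∧
      Subgroup.normalizer (Cfsg.fittingHallOf M : Set G) = M := by
  have hMtop := hM.1
  have hnn := coatom_not_nilpotent hG hCN M hM
  obtain ⟨E, hcompl, hK1, hE1, hfpf, -, -⟩ := frob_structure hG hCN M hMtop hnn
  obtain ⟨K, hKdef⟩ : ∃ K : Subgroup G, K = Cfsg.fittingHallOf M := ⟨_, rfl⟩
  rw [← hKdef] at hcompl hK1 hfpf ⊢
  have hKnil : Group.IsNilpotent ↥K := hKdef ▸ fittingHallOf_isNilpotent M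
  have hMK : M ≤ Subgroup.normalizer (K : Set G) := hKdef ▸ le_normalizer_fittingHallOf M
  have hKmax : ∀ L : Subgroup G, Group.IsNilpotent L → K ≤ L → L = K := by
    intro L hL hKL
    obtain ⟨L', hLL', hL'nil, hmaxL'⟩ := exists_max_nilpotent_ge L hL
    obtain ⟨hcopL', hTIL', hcoL', -⟩ := max_nilpotent_main hG hCN L' hL'nil hmaxL'
    have hML' : M ≤ Subgroup.normalizer (L' : Set G) := by
      intro m hm
      by_contra hmn
      have h1 : L'.map (MulAut.conj m).toMonoidHom ≠ L' :=
        fun h => hmn (Subgroup.mem_normalizer_iff_map_conj_eq.2 h)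
      have h2 := hTIL' m h1
      apply hK1
      rw [eq_bot_iff, ← h2]
      intro k hk
      refine ⟨hLL' (hKL hk), ?_⟩
      have h3 : m⁻¹ * k * m⁻¹⁻¹ ∈ K :=
        (Subgroup.mem_normalizer_iff.1 (Subgroup.inv_mem _ (hMK hm)) k).1 hk
      refine ⟨m⁻¹ * k * m⁻¹⁻¹, hLL' (hKL h3), ?_⟩
      simp only [MulEquiv.coe_toMonoidHom, MulAut.conj_apply]
      group
    have hMeq : M = Subgroup.normalizer (L' : Set G) := by
      by_contra hne
      exact hcoL'.1 (hM.2 _ (lt_of_le_of_ne hML' hne))
    have hL'M : L' ≤ M := hMeq ▸ Subgroup.le_normalizer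
    have hL'K : L' ≤ K := by
      rw [hKdef]
      apply le_fittingHallOf M L' hL'M hML' hL'nil
      exact Nat.Coprime.coprime_dvd_right (Dvd.intro _ (Subgroup.relIndex_mul_index hL'M)) hcopL'
    exact le_antisymm ((hLL'.trans hL'K)) hKL
  refine ⟨hKnil, hKmax, ?_⟩
  obtain ⟨-, -, hco, -⟩ := max_nilpotent_main hG hCN K hKnil hKmax
  by_contra hne
  exact hco.1 (hM.2 _ (lt_of_le_of_ne hMK (Ne.symm hne)))

/-- Conjugates of maximal nilpotent subgroups are maximal nilpotent. -/
theorem max_nilpotent_conj (H : Subgroup G) (hH : Group.IsNilpotent H)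
    (hmax : ∀ L : Subgroup G, Group.IsNilpotent L → H ≤ L → L = H) (g : G) :
    Group.IsNilpotent ↥(H.map (MulAut.conj g).toMonoidHom) ∧
      ∀ L : Subgroup G, Group.IsNilpotent L → H.map (MulAut.conj g).toMonoidHom ≤ L →
        L = H.map (MulAut.conj g).toMonoidHom := by
  constructor
  · exact Group.nilpotent_of_mulEquiv
      (H.equivMapOfInjective (MulAut.conj g).toMonoidHom (MulAut.conj g).injective)
  · intro L hL hle
    have hL' : Group.IsNilpotent ↥(L.map (MulAut.conj g⁻¹).toMonoidHom) :=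
      Group.nilpotent_of_mulEquiv
        (L.equivMapOfInjective (MulAut.conj g⁻¹).toMonoidHom (MulAut.conj g⁻¹).injective)
    have hle' : H ≤ L.map (MulAut.conj g⁻¹).toMonoidHom := by
      intro x hx
      refine ⟨g * x * g⁻¹, hle ⟨x, hx, rfl⟩, ?_⟩
      simp only [MulEquiv.coe_toMonoidHom, MulAut.conj_apply]
      group
    have h1 := hmax _ hL' hle'
    rw [← h1, Subgroup.map_map]
    ext x
    constructor
    · intro hx
      refine ⟨x, hx, ?_⟩
      simp only [MonoidHom.comp_apply, MulEquiv.coe_toMonoidHom, MulAut.conj_apply]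
      group
    · rintro ⟨y, hy, rfl⟩
      simp only [MonoidHom.comp_apply, MulEquiv.coe_toMonoidHom, MulAut.conj_apply]
      have : g * (g⁻¹ * y * g⁻¹⁻¹) * g⁻¹ = y := by group
      rw [this]
      exact hy

theorem normalizer_map_conj (H : Subgroup G) (g : G) :
    Subgroup.normalizer ((H.map (MulAut.conj g).toMonoidHom : Subgroup G) : Set G) =
      (Subgroup.normalizer (H : Set G)).map (MulAut.conj g).toMonoidHom :=
  (Subgroup.map_equiv_normalizer_eq H (MulAut.conj g)).symm

/-- Every maximal nilpotent subgroup is conjugate to the kernel of a representative. -/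
theorem max_nilpotent_eq_conj [Finite G] (hG : Cfsg.IsMinSimpleOddOrder G)
    (hCN : Cfsg.IsCNGroup G) (k : ℕ) (Mrep : Fin k → Subgroup G)
    (hmaxM : ∀ i, IsCoatom (Mrep i))
    (hall : ∀ M : Subgroup G, IsCoatom M →
      ∃ i, ∃ g : G, M = (Mrep i).map (MulAut.conj g).toMonoidHom)
    (L : Subgroup G) (hL : Group.IsNilpotent L)
    (hmax : ∀ L' : Subgroup G, Group.IsNilpotent L' → L ≤ L' → L' = L) :
    ∃ i, ∃ g : G, L = (Cfsg.fittingHallOf (Mrep i)).map (MulAut.conj g).toMonoidHom := by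
  obtain ⟨-, -, hco, -⟩ := max_nilpotent_main hG hCN L hL hmax
  obtain ⟨i, g, hig⟩ := hall _ hco
  refine ⟨i, g, ?_⟩
  obtain ⟨hKnil, hKmax, hKN⟩ := coatom_fittingHallOf hG hCN (Mrep i) (hmaxM i)
  obtain ⟨hK'nil, hK'max⟩ := max_nilpotent_conj _ hKnil hKmax g
  have h1 := fittingHallOf_normalizer_eq hG hCN L hL hmax
  have h2 := fittingHallOf_normalizer_eq hG hCN _ hK'nil hK'max
  rw [normalizer_map_conj, hKN, ← hig, h1] at h2
  exact h2

theorem partition_main [Finite G] (hG : Cfsg.IsMinSimpleOddOrder G)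
    (hCN : Cfsg.IsCNGroup G) (k : ℕ) (Mrep : Fin k → Subgroup G)
    (hmaxM : ∀ i, IsCoatom (Mrep i))
    (hnc : ∀ i j, i ≠ j → ∀ g : G, Mrep j ≠ (Mrep i).map (MulAut.conj g).toMonoidHom)
    (hall : ∀ M : Subgroup G, IsCoatom M →
      ∃ i, ∃ g : G, M = (Mrep i).map (MulAut.conj g).toMonoidHom) :
    (∀ i j, i ≠ j → (Nat.card (Cfsg.fittingHallOf (Mrep i))).Coprime
        (Nat.card (Cfsg.fittingHallOf (Mrep j)))) ∧
      ∏ i, Nat.card (Cfsg.fittingHallOf (Mrep i)) = Nat.card G ∧
      ∀ x : G, ∃ i, ∃ g : G, g * x * g⁻¹ ∈ Cfsg.fittingHallOf (Mrep i) := by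
  have hcop : ∀ i j, i ≠ j → (Nat.card (Cfsg.fittingHallOf (Mrep i))).Coprime
      (Nat.card (Cfsg.fittingHallOf (Mrep j))) := by
    intro i j hij
    obtain ⟨hKinil, hKimax, hKiN⟩ := coatom_fittingHallOf hG hCN (Mrep i) (hmaxM i)
    obtain ⟨hKjnil, hKjmax, hKjN⟩ := coatom_fittingHallOf hG hCN (Mrep j) (hmaxM j)
    rcases cn_max_nilpotent_conj_or_coprime hCN _ _ ⟨hKinil, hKimax⟩ ⟨hKjnil, hKjmax⟩ with
      ⟨g, hg⟩ | h
    · exfalso
      apply hnc i j hij g
      rw [← hKjN, hg, normalizer_map_conj, hKiN]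
    · exact h
  -- every nilpotent subgroup is conjugate into some kernel
  have hconj : ∀ T : Subgroup G, Group.IsNilpotent ↥T → ∃ i, ∃ g : G,
      T ≤ (Cfsg.fittingHallOf (Mrep i)).map (MulAut.conj g).toMonoidHom := by
    intro T hT
    obtain ⟨L, hTL, hLnil, hLmax⟩ := exists_max_nilpotent_ge T hT
    obtain ⟨i, g, hig⟩ := max_nilpotent_eq_conj hG hCN k Mrep hmaxM hall L hLnil hLmax
    exact ⟨i, g, hig ▸ hTL⟩
  refine ⟨hcop, ?_, ?_⟩
  · apply Nat.dvd_antisymm
    · apply Fintype.prod_dvd_of_isRelPrime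
      · intro i j hij
        exact Nat.coprime_iff_isRelPrime.1 (hcop i j hij)
      · intro i
        exact Subgroup.card_subgroup_dvd_card _
    · have hprod0 : ∏ i, Nat.card (Cfsg.fittingHallOf (Mrep i)) ≠ 0 := by
        apply Finset.prod_ne_zero_iff.2
        intro i _
        exact Nat.card_pos.ne'
      rw [← Nat.factorization_le_iff_dvd Nat.card_pos.ne' hprod0]
      intro r
      by_cases hr : r.Prime
      · haveI : Fact r.Prime := ⟨hr⟩
        obtain ⟨R⟩ : Nonempty (Sylow r G) := inferInstance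
        have hRcard := R.card_eq_multiplicity
        by_cases hR1 : (R : Subgroup G) = ⊥
        · rw [hR1, Subgroup.card_bot] at hRcard
          have : (Nat.card G).factorization r = 0 := by
            by_contra h0
            have := Nat.one_lt_pow h0 hr.one_lt
            omega
          rw [this]
          exact Nat.zero_le _
        · obtain ⟨z, hzR, hz1, hzc⟩ := exists_central_ne_one R.2.isNilpotent hR1
          have hRC : (R : Subgroup G) ≤ Subgroup.centralizer ({z} : Set G) := by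
            intro y hy
            rw [Subgroup.mem_centralizer_singleton_iff]
            exact (hzc y hy).symm
          obtain ⟨i, g, hig⟩ := hconj _ (hCN z hz1)
          have h1 : Nat.card (R : Subgroup G) ∣
              Nat.card ↥((Cfsg.fittingHallOf (Mrep i)).map (MulAut.conj g).toMonoidHom) :=
            Subgroup.card_dvd_of_le (hRC.trans hig)
          rw [← conj_smul_eq_map, card_conj_smul, hRcard] at h1
          have h2 : r ^ (Nat.card G).factorization r ∣
              ∏ i, Nat.card (Cfsg.fittingHallOf (Mrep i)) :=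
            h1.trans (Finset.dvd_prod_of_mem _ (Finset.mem_univ i))
          exact (hr.pow_dvd_iff_le_factorization hprod0).1 h2
      · rw [Nat.factorization_eq_zero_of_not_prime _ hr]
        exact Nat.zero_le _
  · intro x
    have hnil : Group.IsNilpotent ↥(Subgroup.zpowers x) := by
      letI : CommGroup ↥(Subgroup.zpowers x) := IsCyclic.commGroup
      exact CommGroup.isNilpotent
    obtain ⟨i, g, hig⟩ := hconj _ hnil
    obtain ⟨y, hy, hyx⟩ := hig (Subgroup.mem_zpowers x)
    refine ⟨i, g⁻¹, ?_⟩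
    rw [← hyx]
    simp only [MulEquiv.coe_toMonoidHom, MulAut.conj_apply]
    have : g⁻¹ * (g * y * g⁻¹) * g⁻¹⁻¹ = y := by group
    rw [this]
    exact hy

end CNMax

end Cfsg.Agent.Helper2
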