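import Mathlib
import Cfsg.Prelude.Def_LieExceptional
import Cfsg.Prelude.Def_OddOrderLocal
import Cfsg.Prelude.Def_OddOrder
import Cfsg.Agent.Helper1.Basic
import Cfsg.Agent.Helper1.CNGroup2
import Cfsg.Agent.Helper1.CNQuotient
import Cfsg.Agent.Helper2.CNMaxA
import Cfsg.Agent.Helper2.CNMaxC
import Cfsg.Agent.Helper2.CNMaxD
import Cfsg.Agent.Helper2.CNMaxE

set_option autoImplicit false

/-!
The CN-theorem for groups of odd order, reduced to the non-existence of a partition of a group of
odd order by the conjugates of trivial-intersection Frobenius kernels of pairwise coprime orders.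
-/

namespace Cfsg.Agent.Helper2

namespace CNTheorem

open Cfsg
open Cfsg.Agent.Helper1
open Cfsg.Agent.Helper2.CNThree Cfsg.Agent.Helper2.CNMax
open scoped Pointwise

universe u

/-- The non-existence statement for partitions by Frobenius kernels (indexed by `Fin k`). -/
def NoFrobeniusPartition : Prop :=
  ∀ (G : Type u) [Group G] [Finite G], Odd (Nat.card G) → ∀ (k : ℕ), 2 ≤ k →
    ∀ (L H : Fin k → Subgroup G), (∀ i, H i < L i) → (∀ i, H i ≠ ⊥) →
    (∀ i, ∀ x ∈ L i, ∀ h ∈ H i, x * h * x⁻¹ ∈ H i) →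
    (∀ i, ∀ h ∈ H i, h ≠ 1 → L i ⊓ Subgroup.centralizer ({h} : Set G) ≤ H i) →
    (∀ i j, i ≠ j → Nat.Coprime (Nat.card (H i)) (Nat.card (H j))) →
    (∀ i, Cfsg.IsTISubset (H i : Set G) ∧ Subgroup.normalizer (H i : Set G) = L i) →
    (∀ g : G, g ≠ 1 → ∃ i, ∃ x : G, x * g * x⁻¹ ∈ H i) → False

variable {G : Type u} [Group G]

/-- conjugacy of subgroups -/
def conjSetoid (G : Type u) [Group G] : Setoid (Subgroup G) where
  r M M' := ∃ g : G, M' = MulAut.conj g • M
  iseqv := by
    refine ⟨fun M => ⟨1, by simp⟩, ?_, ?_⟩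
    · rintro M M' ⟨g, h⟩
      exact ⟨g⁻¹, by rw [h, smul_smul, ← map_mul]; simp⟩
    · rintro M M' M'' ⟨g, h⟩ ⟨g', h'⟩
      exact ⟨g' * g, by rw [h', h, smul_smul, map_mul]⟩

theorem isCoatom_conj_smul (g : G) (M : Subgroup G) (hM : IsCoatom M) :
    IsCoatom (MulAut.conj g • M) := by
  have h1 : MulAut.conj g • M = (MulEquiv.mapSubgroup (MulAut.conj g)) M := rfl
  rw [h1, OrderIso.isCoatom_iff]
  exact hM

/-- A system of representatives of the conjugacy classes of maximal subgroups. -/
theorem exists_reps [Finite G] : ∃ (k : ℕ) (Mrep : Fin k → Subgroup G),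
    (∀ i, IsCoatom (Mrep i)) ∧
    (∀ i j, i ≠ j → ∀ g : G, Mrep j ≠ (Mrep i).map (MulAut.conj g).toMonoidHom) ∧
    (∀ M : Subgroup G, IsCoatom M →
      ∃ i, ∃ g : G, M = (Mrep i).map (MulAut.conj g).toMonoidHom) := by
  classical
  let ι := {q : Quotient (conjSetoid G) // IsCoatom (Quotient.out q)}
  haveI : Finite ι := inferInstance
  obtain ⟨k, ⟨e⟩⟩ := Finite.exists_equiv_fin ι
  refine ⟨k, fun j => Quotient.out (e.symm j).1, fun j => (e.symm j).2, ?_, ?_⟩
  · intro i j hij g hg
    apply hij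
    have h1 : (conjSetoid G).r (Quotient.out (e.symm i).1) (Quotient.out (e.symm j).1) := ⟨g, hg⟩
    have h2 : (e.symm i).1 = (e.symm j).1 := by
      rw [← Quotient.out_eq (e.symm i).1, ← Quotient.out_eq (e.symm j).1]
      exact Quotient.sound h1
    exact e.symm.injective (Subtype.ext h2)
  · intro M hM
    obtain ⟨Q, hQ⟩ : ∃ Q : Subgroup G, Q = Quotient.out (⟦M⟧ : Quotient (conjSetoid G)) :=
      ⟨_, rfl⟩
    have h1 : (conjSetoid G).r Q M := by
      rw [hQ]
      exact Quotient.exact (Quotient.out_eq _)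
    obtain ⟨g, hg⟩ := h1
    have hco : IsCoatom (Quotient.out (⟦M⟧ : Quotient (conjSetoid G))) := by
      have h2 : Q = MulAut.conj g⁻¹ • M := by
        rw [hg, smul_smul, ← map_mul]; simp
      rw [← hQ, h2]
      exact isCoatom_conj_smul g⁻¹ M hM
    refine ⟨e ⟨⟦M⟧, hco⟩, g, ?_⟩
    show M = Subgroup.map _ (Quotient.out (e.symm (e ⟨⟦M⟧, hco⟩)).1)
    rw [Equiv.symm_apply_apply, ← hQ]
    exact hg

/-- The CN-theorem for odd order, assuming the non-existence of Frobenius partitions. -/
theorem cn_solvable_aux (hP : NoFrobeniusPartition.{u}) : ∀ (n : ℕ) (G : Type u) [Group G]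
    [Finite G], Nat.card G = n → Odd n → Cfsg.IsCNGroup G → Group.IsSolvable G := by
  intro n
  induction n using Nat.strong_induction_on with
  | _ n ih =>
  intro G _ _ hcard hodd hCN
  by_contra hns
  have hoddG : Odd (Nat.card G) := hcard ▸ hodd
  -- proper subgroups are solvable
  have hprop : ∀ H : Subgroup G, H ≠ ⊤ → Group.IsSolvable ↥H := by
    intro H hH
    have hlt : Nat.card ↥H < n := by
      have h1 := card_lt_card_of_lt (lt_top_iff_ne_top.2 hH)
      rw [Subgroup.card_top, hcard] at h1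
      exact h1
    exact ih _ hlt ↥H rfl (Odd.of_dvd_nat hoddG (Subgroup.card_subgroup_dvd_card H))
      (isCNGroup_subgroup hCN H)
  have hnt : Nontrivial G := by
    by_contra h
    rw [not_nontrivial_iff_subsingleton] at h
    exact hns inferInstance
  have hsimple : IsSimpleGroup G := by
    refine { toNontrivial := hnt, eq_bot_or_eq_top_of_normal := ?_ }
    intro N hN
    by_contra hcon
    push Not at hcon
    obtain ⟨hN1, hNtop⟩ := hcon
    apply hns
    have hNsolv : Group.IsSolvable ↥N := hprop N hNtop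
    have hCNq : Cfsg.IsCNGroup (G ⧸ N) := CNQuot.cn_quotient_solvable _ G N rfl hCN hNsolv
    have hmul : Nat.card (G ⧸ N) * Nat.card N = Nat.card G := by
      exact (Subgroup.card_eq_card_quotient_mul_card_subgroup N).symm
    have hNcard : 1 < Nat.card N := by
      rw [Subgroup.one_lt_card_iff_ne_bot]; exact hN1
    have hlt : Nat.card (G ⧸ N) < n := by
      rw [← hcard, ← hmul]
      have hpos : 0 < Nat.card (G ⧸ N) := Nat.card_pos
      nlinarith
    have hoddq : Odd (Nat.card (G ⧸ N)) := Odd.of_dvd_nat hoddG (Dvd.intro _ hmul)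
    have hqsolv : Group.IsSolvable (G ⧸ N) := ih _ hlt (G ⧸ N) rfl hoddq hCNq
    exact Group.isSolvable_of_ker_le_range N.subtype (QuotientGroup.mk' N) (by simp)
  have hnab : ¬ IsMulCommutative G := by
    intro hc
    apply hns
    letI : CommGroup G := { (inferInstance : Group G) with mul_comm := hc.is_comm.comm }
    exact Group.isSolvable_of_comm (fun a b => mul_comm a b)
  have hG : Cfsg.IsMinSimpleOddOrder G := ⟨hoddG, hsimple, hnab, hprop⟩
  -- the partition
  obtain ⟨k, Mrep, hmaxM, hnc, hall⟩ := exists_reps (G := G)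
  obtain ⟨hcop, hprod, hcover⟩ := partition_main hG hCN k Mrep hmaxM hnc hall
  have hdata : ∀ i, Group.IsNilpotent ↥(Cfsg.fittingHallOf (Mrep i)) ∧
      (∀ L : Subgroup G, Group.IsNilpotent L → Cfsg.fittingHallOf (Mrep i) ≤ L →
        L = Cfsg.fittingHallOf (Mrep i)) ∧
      Subgroup.normalizer (Cfsg.fittingHallOf (Mrep i) : Set G) = Mrep i :=
    fun i => coatom_fittingHallOf hG hCN (Mrep i) (hmaxM i)
  have hne : ∀ i, Cfsg.fittingHallOf (Mrep i) ≠ ⊥ :=
    fun i => max_nilpotent_ne_bot hG _ (hdata i).2.1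
  have hlt : ∀ i, Cfsg.fittingHallOf (Mrep i) < Mrep i := by
    intro i
    refine lt_of_le_of_ne (CNMax.fittingHallOf_le _) ?_
    intro heq
    apply coatom_not_nilpotent hG hCN (Mrep i) (hmaxM i)
    rw [← heq]
    exact (hdata i).1
  have hk : 2 ≤ k := by
    by_contra hk2
    have hk01 : k = 0 ∨ k = 1 := by omega
    rcases hk01 with rfl | rfl
    · simp at hprod
      have := Finite.one_lt_card_iff_nontrivial.2 hnt
      omega
    · simp at hprod
      have h1 : Cfsg.fittingHallOf (Mrep 0) = ⊤ := hprod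
      have h2 := hlt 0
      rw [h1] at h2
      exact not_top_lt h2
  refine hP G hoddG k hk Mrep (fun i => Cfsg.fittingHallOf (Mrep i)) hlt hne ?_ ?_ hcop ?_ ?_
  · intro i x hx h hh
    have := le_normalizer_fittingHallOf (Mrep i) hx
    exact (Subgroup.mem_normalizer_iff.1 this h).1 hh
  · intro i h hh hh1
    obtain ⟨hnil, hmax, -⟩ := hdata i
    have hTI := max_nilpotent_TI hG hCN _ hnil hmax
    exact inf_le_right.trans ((cn_max_nilpotent_facts hCN _ hnil hmax).2.2 hTI h hh hh1)
  · intro i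
    obtain ⟨hnil, hmax, hN⟩ := hdata i
    have hTI := max_nilpotent_TI hG hCN _ hnil hmax
    refine ⟨?_, hN⟩
    intro g hg x hx hgx
    by_contra hx1
    have h1 : (Cfsg.fittingHallOf (Mrep i)).map (MulAut.conj g⁻¹).toMonoidHom ≠
        Cfsg.fittingHallOf (Mrep i) := by
      intro h
      apply hg
      have := Subgroup.mem_normalizer_iff_map_conj_eq.2 h
      have h2 := Subgroup.inv_mem _ this
      rwa [inv_inv] at h2
    have h2 := hTI g⁻¹ h1
    have h3 : x ∈ Cfsg.fittingHallOf (Mrep i) ⊓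
        (Cfsg.fittingHallOf (Mrep i)).map (MulAut.conj g⁻¹).toMonoidHom := by
      refine ⟨hx, g * x * g⁻¹, hgx, ?_⟩
      simp only [MulEquiv.coe_toMonoidHom, MulAut.conj_apply]
      group
    rw [h2, Subgroup.mem_bot] at h3
    exact hx1 h3
  · intro g _
    exact hcover g

theorem cn_solvable (hP : NoFrobeniusPartition.{u}) (G : Type u) [Group G] [Finite G]
    (hodd : Odd (Nat.card G)) (hCN : Cfsg.IsCNGroup G) : Group.IsSolvable G :=
  cn_solvable_aux hP _ G rfl hodd hCN

end CNTheorem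

end Cfsg.Agent.Helper2
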