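import Mathlib

/-!
# The Möbius action of `GL(2, K)` on the projective line: explicit elements
-/

set_option autoImplicit false

namespace Cfsg.Agent.Helper2.Mobius

open OnePoint Matrix

variable {K : Type*} [Field K] [DecidableEq K]

/-- the affine matrix `x ↦ a x + b` -/
noncomputable def aff (a b : K) (ha : a ≠ 0) : GL (Fin 2) K :=
  Matrix.GeneralLinearGroup.mkOfDetNeZero !![a, b; 0, 1] (by
    rw [Matrix.det_fin_two_of]
    simpa using ha)

theorem aff_smul_infty (a b : K) (ha : a ≠ 0) : aff a b ha • (∞ : OnePoint K) = ∞ := by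
  rw [OnePoint.smul_infty_eq_ite]
  simp [aff]

theorem aff_smul_coe (a b : K) (ha : a ≠ 0) (x : K) :
    aff a b ha • (x : OnePoint K) = ((a * x + b : K) : OnePoint K) := by
  rw [OnePoint.smul_some_eq_ite]
  simp [aff]

/-- the inversion matrix `x ↦ 1 / x` -/
noncomputable def inv' : GL (Fin 2) K :=
  Matrix.GeneralLinearGroup.mkOfDetNeZero !![0, 1; 1, 0] (by
    rw [Matrix.det_fin_two_of]
    simp)

theorem inv'_smul_infty : (inv' : GL (Fin 2) K) • (∞ : OnePoint K) = ((0 : K) : OnePoint K) := by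
  rw [OnePoint.smul_infty_eq_ite]
  simp [inv']

theorem inv'_smul_zero : (inv' : GL (Fin 2) K) • ((0 : K) : OnePoint K) = ∞ := by
  rw [OnePoint.smul_some_eq_ite]
  simp [inv']

theorem inv'_smul_coe (x : K) (hx : x ≠ 0) :
    (inv' : GL (Fin 2) K) • (x : OnePoint K) = ((x⁻¹ : K) : OnePoint K) := by
  rw [OnePoint.smul_some_eq_ite]
  simp [inv', hx]

/-- a matrix fixing `∞, 0, 1` acts trivially and is central -/
theorem fix3 (g : GL (Fin 2) K) (h1 : g • (∞ : OnePoint K) = ∞)
    (h2 : g • ((0 : K) : OnePoint K) = ((0 : K) : OnePoint K))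
    (h3 : g • ((1 : K) : OnePoint K) = ((1 : K) : OnePoint K)) :
    g 1 0 = 0 ∧ g 0 1 = 0 ∧ g 0 0 = g 1 1 ∧ g 1 1 ≠ 0 := by
  have h10 : g 1 0 = 0 := OnePoint.smul_infty_eq_self_iff.1 h1
  have hdet : g 0 0 * g 1 1 - g 0 1 * g 1 0 ≠ 0 := by
    have := g.det_ne_zero
    rwa [Matrix.det_fin_two] at this
  rw [h10, mul_zero, sub_zero] at hdet
  have h11 : g 1 1 ≠ 0 := right_ne_zero_of_mul hdet
  rw [OnePoint.smul_some_eq_ite] at h2 h3
  rw [h10] at h2 h3
  simp only [zero_mul, zero_add, mul_zero, h11, if_false, OnePoint.coe_eq_coe] at h2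
  simp only [zero_mul, zero_add, mul_one, h11, if_false, OnePoint.coe_eq_coe] at h3
  have h01 : g 0 1 = 0 := by
    rcases div_eq_zero_iff.1 h2 with h | h
    · exact h
    · exact absurd h h11
  rw [h01, add_zero, div_eq_one_iff_eq h11] at h3
  exact ⟨h10, h01, h3, h11⟩

theorem smul_eq_of_fix3 (g : GL (Fin 2) K) (h1 : g • (∞ : OnePoint K) = ∞)
    (h2 : g • ((0 : K) : OnePoint K) = ((0 : K) : OnePoint K))
    (h3 : g • ((1 : K) : OnePoint K) = ((1 : K) : OnePoint K)) (x : OnePoint K) : g • x = x := by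
  obtain ⟨h10, h01, h00, h11⟩ := fix3 g h1 h2 h3
  cases x with
  | infty => exact h1
  | coe x =>
    rw [OnePoint.smul_some_eq_ite, h10, h01, h00]
    simp only [zero_mul, zero_add, add_zero, h11, if_false, OnePoint.coe_eq_coe]
    field_simp

theorem mem_center_of_fix3 (g : GL (Fin 2) K) (h1 : g • (∞ : OnePoint K) = ∞)
    (h2 : g • ((0 : K) : OnePoint K) = ((0 : K) : OnePoint K))
    (h3 : g • ((1 : K) : OnePoint K) = ((1 : K) : OnePoint K)) :
    g ∈ Subgroup.center (GL (Fin 2) K) := by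
  obtain ⟨h10, h01, h00, h11⟩ := fix3 g h1 h2 h3
  rw [Matrix.GeneralLinearGroup.center_eq_range_scalar]
  refine ⟨Units.mk0 (g 1 1) h11, ?_⟩
  apply Matrix.GeneralLinearGroup.ext
  intro i j
  rw [Matrix.GeneralLinearGroup.coe_scalar]
  fin_cases i <;> fin_cases j
  · simpa using h00.symm
  · simpa using h01.symm
  · simpa using h10.symm
  · simp

theorem smul_eq_of_mem_center (g : GL (Fin 2) K) (hg : g ∈ Subgroup.center (GL (Fin 2) K))
    (x : OnePoint K) : g • x = x := by
  rw [Matrix.GeneralLinearGroup.center_eq_range_scalar] at hg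
  obtain ⟨c, rfl⟩ := hg
  have hc : (c : K) ≠ 0 := c.ne_zero
  cases x with
  | infty =>
    rw [OnePoint.smul_infty_eq_ite]
    simp [Matrix.GeneralLinearGroup.coe_scalar]
  | coe x =>
    rw [OnePoint.smul_some_eq_ite]
    simp [Matrix.GeneralLinearGroup.coe_scalar, hc]

end Cfsg.Agent.Helper2.Mobius
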