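import Mathlib
import Cfsg.Agent.Helper2.MobiusA

/-!
# Recognising the Möbius group among permutation groups of the projective line
-/

set_option autoImplicit false

namespace Cfsg.Agent.Helper2.Mobius

open OnePoint Matrix

variable (K : Type*) [Field K] [DecidableEq K]

/-- the Möbius action as a homomorphism to permutations -/
noncomputable def mobHom : GL (Fin 2) K →* Equiv.Perm (OnePoint K) :=
  MulAction.toPermHom (GL (Fin 2) K) (OnePoint K)

variable {K}

theorem mobHom_apply (g : GL (Fin 2) K) (x : OnePoint K) : mobHom K g x = g • x := rfl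

theorem mobHom_ker : (mobHom K).ker = Subgroup.center (GL (Fin 2) K) := by
  ext g
  rw [MonoidHom.mem_ker]
  constructor
  · intro h
    have hx : ∀ x : OnePoint K, g • x = x := by
      intro x
      rw [← mobHom_apply, h]
      rfl
    exact mem_center_of_fix3 g (hx _) (hx _) (hx _)
  · intro h
    ext x
    rw [mobHom_apply, smul_eq_of_mem_center g h]
    rfl

/-- `PGL(2, K)` is isomorphic to the range of the Möbius action -/
noncomputable def pglEquivRange : Matrix.ProjGenLinGroup (Fin 2) K ≃* (mobHom K).range :=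
  (QuotientGroup.quotientMulEquivOfEq (mobHom_ker (K := K)).symm).trans
    (QuotientGroup.quotientKerEquivRange (mobHom K))

theorem eq_one_of_fix3 (p : Equiv.Perm (OnePoint K)) (hp : p ∈ (mobHom K).range)
    (h1 : p ∞ = ∞) (h2 : p ((0 : K) : OnePoint K) = ((0 : K) : OnePoint K))
    (h3 : p ((1 : K) : OnePoint K) = ((1 : K) : OnePoint K)) : p = 1 := by
  obtain ⟨g, rfl⟩ := hp
  ext x
  rw [mobHom_apply]
  exact smul_eq_of_fix3 g h1 h2 h3 x

theorem mem_range_of_affine (p : Equiv.Perm (OnePoint K)) (a b : K) (ha : a ≠ 0)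
    (h1 : p ∞ = ∞) (h2 : ∀ x : K, p (x : OnePoint K) = ((a * x + b : K) : OnePoint K)) :
    p ∈ (mobHom K).range := by
  refine ⟨aff a b ha, ?_⟩
  ext x
  rw [mobHom_apply]
  cases x with
  | infty => rw [aff_smul_infty, h1]
  | coe x => rw [aff_smul_coe, h2]

theorem mem_range_of_inv (u : Equiv.Perm (OnePoint K)) (h1 : u ∞ = ((0 : K) : OnePoint K))
    (h2 : u ((0 : K) : OnePoint K) = ∞)
    (h3 : ∀ x : K, x ≠ 0 → u (x : OnePoint K) = ((x⁻¹ : K) : OnePoint K)) :
    u ∈ (mobHom K).range := by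
  refine ⟨inv', ?_⟩
  ext x
  rw [mobHom_apply]
  cases x with
  | infty => rw [inv'_smul_infty, h1]
  | coe x =>
    by_cases hx : x = 0
    · rw [hx, inv'_smul_zero, h2]
    · rw [inv'_smul_coe x hx, h3 x hx]

/-- Recognition of the Möbius group. -/
theorem eq_range (G' : Subgroup (Equiv.Perm (OnePoint K)))
    (h1 : ∀ g ∈ G', g ∞ = ∞ → ∃ a b : K, a ≠ 0 ∧
      ∀ x : K, g (x : OnePoint K) = ((a * x + b : K) : OnePoint K))
    (h3 : ∃ u ∈ G', u ∞ = ((0 : K) : OnePoint K) ∧ u ((0 : K) : OnePoint K) = ∞ ∧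
      ∀ x : K, x ≠ 0 → u (x : OnePoint K) = ((x⁻¹ : K) : OnePoint K))
    (h4 : ∀ p q r : OnePoint K, p ≠ q → p ≠ r → q ≠ r →
      ∃ g ∈ G', g ∞ = p ∧ g ((0 : K) : OnePoint K) = q ∧ g ((1 : K) : OnePoint K) = r) :
    G' = (mobHom K).range := by
  have hsub : G' ≤ (mobHom K).range := by
    intro g hg
    obtain ⟨u, hu, hu1, hu2, hu3⟩ := h3
    have huR := mem_range_of_inv u hu1 hu2 hu3
    have haffR : ∀ w ∈ G', w ∞ = ∞ → w ∈ (mobHom K).range := by
      intro w hw hw1
      obtain ⟨a, b, ha, hab⟩ := h1 w hw hw1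
      exact mem_range_of_affine w a b ha hw1 hab
    cases hgi : g ∞ with
    | infty => exact haffR g hg hgi
    | coe c =>
      have hne1 : (∞ : OnePoint K) ≠ ((c : K) : OnePoint K) := OnePoint.infty_ne_coe c
      have hne2 : (∞ : OnePoint K) ≠ ((c + 1 : K) : OnePoint K) := OnePoint.infty_ne_coe _
      have hne3 : ((c : K) : OnePoint K) ≠ ((c + 1 : K) : OnePoint K) := by
        rw [Ne, OnePoint.coe_eq_coe]
        intro h
        have : (1 : K) = 0 := by
          have h' : c + 0 = c + 1 := by rw [add_zero]; exact h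
          exact (add_left_cancel h').symm
        exact one_ne_zero this
      obtain ⟨t, ht, ht1, ht2, -⟩ := h4 _ _ _ hne1 hne2 hne3
      have htR := haffR t ht ht1
      have hw : (u * t⁻¹ * g) ∞ = ∞ := by
        rw [Equiv.Perm.mul_apply, Equiv.Perm.mul_apply, hgi, ← ht2, Equiv.Perm.inv_def, Equiv.symm_apply_apply, hu2]
      have hwR := haffR (u * t⁻¹ * g) (G'.mul_mem (G'.mul_mem hu (G'.inv_mem ht)) hg) hw
      have : g = t * u⁻¹ * (u * t⁻¹ * g) := by group
      rw [this]
      exact Subgroup.mul_mem _ (Subgroup.mul_mem _ htR (Subgroup.inv_mem _ huR)) hwR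
  apply le_antisymm hsub
  intro p hp
  have hinj := p.injective
  obtain ⟨g, hg, hg1, hg2, hg3⟩ := h4 (p ∞) (p ((0 : K) : OnePoint K)) (p ((1 : K) : OnePoint K))
    (fun h => OnePoint.infty_ne_coe _ (hinj h)) (fun h => OnePoint.infty_ne_coe _ (hinj h))
    (fun h => by
      have := hinj h
      rw [OnePoint.coe_eq_coe] at this
      exact zero_ne_one this)
  have hgR := hsub hg
  have h5 : g⁻¹ * p = 1 := by
    apply eq_one_of_fix3 _ (Subgroup.mul_mem _ (Subgroup.inv_mem _ hgR) hp)
    · rw [Equiv.Perm.mul_apply, ← hg1, Equiv.Perm.inv_def, Equiv.symm_apply_apply]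
    · rw [Equiv.Perm.mul_apply, ← hg2, Equiv.Perm.inv_def, Equiv.symm_apply_apply]
    · rw [Equiv.Perm.mul_apply, ← hg3, Equiv.Perm.inv_def, Equiv.symm_apply_apply]
  have : p = g := by
    rw [inv_mul_eq_one] at h5
    exact h5.symm
  rw [this]
  exact hg

end Cfsg.Agent.Helper2.Mobius
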