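import Mathlib
import Cfsg.Agent.Helper2.MobiusB

/-!
# Recognising `PGL(2, K)` from an action on a set identified with the projective line
-/

set_option autoImplicit false

namespace Cfsg.Agent.Helper2.Mobius

open OnePoint Matrix MulAction

theorem nonempty_mulEquiv_pgl {G α K : Type*} [Group G] [MulAction G α] [Field K] [DecidableEq K]
    (e : α ≃ OnePoint K) (hfaith : ∀ g : G, (∀ x : α, g • x = x) → g = 1)
    (h1 : ∀ g : G, g • e.symm ∞ = e.symm ∞ → ∃ a b : K, a ≠ 0 ∧
      ∀ x : K, g • e.symm (x : OnePoint K) = e.symm ((a * x + b : K) : OnePoint K))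
    (h3 : ∃ u : G, u • e.symm ∞ = e.symm ((0 : K) : OnePoint K) ∧
      u • e.symm ((0 : K) : OnePoint K) = e.symm ∞ ∧
      ∀ x : K, x ≠ 0 → u • e.symm (x : OnePoint K) = e.symm ((x⁻¹ : K) : OnePoint K))
    (h4 : ∀ p q r : α, p ≠ q → p ≠ r → q ≠ r →
      ∃ g : G, g • e.symm ∞ = p ∧ g • e.symm ((0 : K) : OnePoint K) = q ∧
        g • e.symm ((1 : K) : OnePoint K) = r) :
    Nonempty (G ≃* Matrix.ProjGenLinGroup (Fin 2) K) := by
  let φ : G →* Equiv.Perm (OnePoint K) :=
    e.permCongrHom.toMonoidHom.comp (MulAction.toPermHom G α)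
  have hφ : ∀ (g : G) (x : OnePoint K), φ g x = e (g • e.symm x) := fun g x => rfl
  have hinj : Function.Injective φ := by
    rw [injective_iff_map_eq_one]
    intro g hg
    apply hfaith
    intro x
    have := hφ g (e x)
    rw [hg, Equiv.symm_apply_apply] at this
    exact (e.injective this).symm
  have hrange : φ.range = (mobHom K).range := by
    apply eq_range
    · rintro _ ⟨g, rfl⟩ hg
      rw [hφ] at hg
      have hg' : g • e.symm ∞ = e.symm ∞ := by
        have := congrArg e.symm hg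
        rwa [Equiv.symm_apply_apply] at this
      obtain ⟨a, b, ha, hab⟩ := h1 g hg'
      refine ⟨a, b, ha, fun x => ?_⟩
      rw [hφ, hab, Equiv.apply_symm_apply]
    · obtain ⟨u, hu1, hu2, hu3⟩ := h3
      refine ⟨φ u, ⟨u, rfl⟩, ?_, ?_, ?_⟩
      · rw [hφ, hu1, Equiv.apply_symm_apply]
      · rw [hφ, hu2, Equiv.apply_symm_apply]
      · intro x hx
        rw [hφ, hu3 x hx, Equiv.apply_symm_apply]
    · intro p q r hpq hpr hqr
      obtain ⟨g, hg1, hg2, hg3⟩ := h4 (e.symm p) (e.symm q) (e.symm r)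
        (fun h => hpq (e.symm.injective h)) (fun h => hpr (e.symm.injective h))
        (fun h => hqr (e.symm.injective h))
      refine ⟨φ g, ⟨g, rfl⟩, ?_, ?_, ?_⟩
      · rw [hφ, hg1, Equiv.apply_symm_apply]
      · rw [hφ, hg2, Equiv.apply_symm_apply]
      · rw [hφ, hg3, Equiv.apply_symm_apply]
  exact ⟨(MonoidHom.ofInjective hinj).trans
    ((MulEquiv.subgroupCongr hrange).trans pglEquivRange.symm)⟩

theorem map_center_eq {A B : Type*} [Group A] [Group B] (e : A ≃* B) :
    (Subgroup.center A).map e.toMonoidHom = Subgroup.center B := by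
  ext x
  rw [Subgroup.mem_map, Subgroup.mem_center_iff]
  constructor
  · rintro ⟨y, hy, rfl⟩ b
    rw [Subgroup.mem_center_iff] at hy
    obtain ⟨a, rfl⟩ := e.surjective b
    show e a * e y = e y * e a
    rw [← map_mul, ← map_mul, hy]
  · intro hx
    refine ⟨e.symm x, ?_, e.apply_symm_apply x⟩
    rw [Subgroup.mem_center_iff]
    intro a
    apply e.injective
    rw [map_mul, map_mul, e.apply_symm_apply]
    exact hx (e a)

/-- a ring isomorphism induces an isomorphism of `PGL₂` -/
noncomputable def pglCongr {K K' : Type*} [Field K] [Field K'] (e : K ≃+* K') :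
    Matrix.ProjGenLinGroup (Fin 2) K ≃* Matrix.ProjGenLinGroup (Fin 2) K' :=
  QuotientGroup.congr (Subgroup.center (GL (Fin 2) K)) (Subgroup.center (GL (Fin 2) K'))
    (Units.mapEquiv (RingEquiv.mapMatrix (m := Fin 2) e).toMulEquiv)
    (map_center_eq (A := GL (Fin 2) K) (B := GL (Fin 2) K')
      (Units.mapEquiv (RingEquiv.mapMatrix (m := Fin 2) e).toMulEquiv))

/-- shrink the universe of the field -/
theorem exists_small_field {K : Type*} [Field K] [Fintype K] :
    ∃ (F : Type) (_ : Field F) (_ : Fintype F), Fintype.card F = Fintype.card K ∧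
      Nonempty (Matrix.ProjGenLinGroup (Fin 2) K ≃* Matrix.ProjGenLinGroup (Fin 2) F) := by
  refine ⟨Shrink.{0} K, inferInstance, Fintype.ofEquiv K (equivShrink.{0} K), ?_, ?_⟩
  · exact (@Fintype.card_congr _ _ _ (Fintype.ofEquiv K (equivShrink.{0} K))
      (equivShrink.{0} K)).symm
  · exact ⟨pglCongr (Shrink.ringEquiv.{0} K).symm⟩

/-- In a finite field of characteristic two, `PGL₂ ≅ PSL₂`. -/
theorem nonempty_pgl_equiv_psl {F : Type*} [Field F] [Fintype F] (h2 : (2 : F) = 0) :
    Nonempty (Matrix.ProjGenLinGroup (Fin 2) F ≃* Matrix.ProjectiveSpecialLinearGroup (Fin 2) F) := by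
  haveI : CharP F 2 := by
    apply CharTwo.of_one_ne_zero_of_two_eq_zero one_ne_zero h2
  refine ⟨(MulEquiv.ofBijective Matrix.ProjectiveSpecialLinearGroup.toPGL
    ⟨Matrix.ProjectiveSpecialLinearGroup.toPGL_injective,
      Matrix.ProjectiveSpecialLinearGroup.toPGL_surj_of_roots ?_⟩).symm⟩
  intro r
  have hbij : Function.Bijective (frobenius F 2) := by
    rw [← Finite.injective_iff_bijective]
    exact frobenius_inj F 2
  obtain ⟨k, hk⟩ := hbij.2 (r : F)
  have hk' : k ^ 2 = (r : F) := hk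
  have hk0 : k ≠ 0 := by
    intro h0
    rw [h0] at hk'
    have : (r : F) = 0 := by rw [← hk']; ring
    exact r.ne_zero this
  refine ⟨Units.mk0 k hk0, ?_⟩
  apply Units.ext
  rw [Fintype.card_fin, Units.val_pow_eq_pow_val, Units.val_mk0, hk']

end Cfsg.Agent.Helper2.Mobius
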