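import Mathlib

/-!
# Sharply 3-transitive actions of odd degree: two-point stabilisers are abelian
-/

set_option autoImplicit false

namespace Cfsg.Agent.Helper2.Sharp3

open MulAction

/-- Sharply 3-transitive action in elementary form. -/
structure SharpThree (G α : Type*) [Group G] [MulAction G α] : Prop where
  trans : ∀ a b c a' b' c' : α, a ≠ b → a ≠ c → b ≠ c → a' ≠ b' → a' ≠ c' → b' ≠ c' →
    ∃ g : G, g • a = a' ∧ g • b = b' ∧ g • c = c'
  sharp : ∀ g : G, ∀ a b c : α, a ≠ b → a ≠ c → b ≠ c →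
    g • a = a → g • b = b → g • c = c → g = 1

variable {G α : Type*} [Group G] [MulAction G α]

/-- In odd degree, an involution has exactly one fixed point. -/
theorem SharpThree.invol_fix_unique [Finite α] (h : SharpThree G α) (hodd : Odd (Nat.card α))
    (t : G) (ht : t * t = 1) (ht1 : t ≠ 1) :
    ∃ c : α, t • c = c ∧ ∀ c' : α, t • c' = c' → c' = c := by
  classical
  have hord : orderOf t = 2 := orderOf_eq_prime (by rw [pow_two]; exact ht) ht1
  have hp : IsPGroup 2 (Subgroup.zpowers t) := by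
    apply IsPGroup.of_card (n := 1)
    rw [Nat.card_zpowers, hord, pow_one]
  have hmod := hp.card_modEq_card_fixedPoints α
  have hmem : ∀ c : α, c ∈ fixedPoints (Subgroup.zpowers t) α ↔ t • c = c := by
    intro c
    rw [mem_fixedPoints]
    constructor
    · intro hc; exact hc ⟨t, Subgroup.mem_zpowers t⟩
    · intro hc g
      have : Subgroup.zpowers t ≤ stabilizer G c :=
        (Subgroup.zpowers_le).2 (mem_stabilizer_iff.2 hc)
      exact mem_stabilizer_iff.1 (this g.2)
  have hSodd : (fixedPoints (Subgroup.zpowers t) α).ncard % 2 = 1 := by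
    rw [← Nat.card_coe_set_eq, ← hmod, ← Nat.odd_iff]
    exact hodd
  have h2 : ¬ 2 < (fixedPoints (Subgroup.zpowers t) α).ncard := by
    rw [Set.two_lt_ncard_iff (Set.toFinite _)]
    rintro ⟨a, b, c, ha, hb, hc, hab, hac, hbc⟩
    exact ht1 (h.sharp t a b c hab hac hbc ((hmem a).1 ha) ((hmem b).1 hb) ((hmem c).1 hc))
  have h1 : (fixedPoints (Subgroup.zpowers t) α).ncard = 1 := by omega
  obtain ⟨c, hc⟩ := Set.ncard_eq_one.1 h1
  refine ⟨c, (hmem c).1 (by rw [hc]; rfl), ?_⟩
  intro c' hc'
  have : c' ∈ fixedPoints (Subgroup.zpowers t) α := (hmem c').2 hc'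
  rw [hc] at this
  exact this

theorem pow_two_mul_smul_of_swap (g : G) (a b : α) (h1 : g • a = b) (h2 : g • b = a) (k : ℕ) :
    g ^ (2 * k) • a = a ∧ g ^ (2 * k) • b = b := by
  induction k with
  | zero => simp
  | succ k ih =>
    have : g ^ (2 * (k + 1)) = g ^ (2 * k) * (g * g) := by
      rw [mul_add, pow_add, mul_one, pow_two]
    rw [this, mul_smul, mul_smul, mul_smul, mul_smul, h1, h2, h1]
    exact ih

theorem pow_two_mul_add_one_smul_of_swap (g : G) (a b : α) (h1 : g • a = b) (h2 : g • b = a)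
    (k : ℕ) : g ^ (2 * k + 1) • a = b ∧ g ^ (2 * k + 1) • b = a := by
  have := pow_two_mul_smul_of_swap g a b h1 h2 k
  rw [pow_succ, mul_smul, mul_smul, h1, h2]
  exact ⟨this.2, this.1⟩

/-- An element swapping two points is an involution. -/
theorem SharpThree.swap_sq_eq_one [Finite G] [Finite α] (h : SharpThree G α)
    (hodd : Odd (Nat.card α)) (g : G) (a b : α) (hab : a ≠ b) (h1 : g • a = b) (h2 : g • b = a) :
    g * g = 1 := by
  have hn : 0 < orderOf g := orderOf_pos g
  have hgn : g ^ orderOf g = 1 := pow_orderOf_eq_one g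
  rcases Nat.even_or_odd' (orderOf g) with ⟨m, hm | hm⟩
  swap
  · exfalso
    have := (pow_two_mul_add_one_smul_of_swap g a b h1 h2 m).1
    rw [← hm, hgn, one_smul] at this
    exact hab this
  have hm0 : m ≠ 0 := by omega
  have hmlt : m < orderOf g := by omega
  have ht1 : g ^ m ≠ 1 := pow_ne_one_of_lt_orderOf hm0 hmlt
  have htt : g ^ m * g ^ m = 1 := by
    rw [← pow_add, ← two_mul, ← hm, hgn]
  obtain ⟨c, hc, hcu⟩ := h.invol_fix_unique hodd (g ^ m) htt ht1
  rcases Nat.even_or_odd' m with ⟨k, hk | hk⟩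
  · exfalso
    have := pow_two_mul_smul_of_swap g a b h1 h2 k
    rw [← hk] at this
    exact hab ((hcu a this.1).trans (hcu b this.2).symm)
  · have hsw := pow_two_mul_add_one_smul_of_swap g a b h1 h2 k
    rw [← hk] at hsw
    have hca : a ≠ c := by
      intro hca
      rw [← hca, hsw.1] at hc
      exact hab hc.symm
    have hcb : b ≠ c := by
      intro hcb
      rw [← hcb, hsw.2] at hc
      exact hab hc
    have hgc : g • c = c := by
      apply hcu
      rw [← mul_smul, pow_mul_comm', mul_smul, hc]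
    apply h.sharp (g * g) a b c hab hca hcb
    · rw [mul_smul, h1, h2]
    · rw [mul_smul, h2, h1]
    · rw [mul_smul, hgc, hgc]

/-- An element swapping `a` and `b` inverts the stabiliser of `a` and `b`. -/
theorem SharpThree.conj_eq_inv [Finite G] [Finite α] (h : SharpThree G α)
    (hodd : Odd (Nat.card α)) (u : G) (a b : α) (hab : a ≠ b) (h1 : u • a = b) (h2 : u • b = a)
    (d : G) (hda : d • a = a) (hdb : d • b = b) : u * d * u⁻¹ = d⁻¹ := by
  have huu := h.swap_sq_eq_one hodd u a b hab h1 h2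
  have hud := h.swap_sq_eq_one hodd (u * d) a b hab (by rw [mul_smul, hda, h1])
    (by rw [mul_smul, hdb, h2])
  have hu : u⁻¹ = u := inv_eq_of_mul_eq_one_right huu
  rw [hu, eq_inv_iff_mul_eq_one]
  rw [mul_assoc, mul_assoc] at *
  exact hud

/-- The stabiliser of two points is abelian. -/
theorem SharpThree.comm_of_fix [Finite G] [Finite α] (h : SharpThree G α)
    (hodd : Odd (Nat.card α)) (h3 : 3 ≤ Nat.card α) (a b : α) (hab : a ≠ b)
    (d e : G) (hda : d • a = a) (hdb : d • b = b) (hea : e • a = a) (heb : e • b = b) :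
    d * e = e * d := by
  classical
  have : Fintype α := Fintype.ofFinite α
  rw [Nat.card_eq_fintype_card] at h3
  obtain ⟨c, hc⟩ : ∃ c : α, a ≠ c ∧ b ≠ c := by
    by_contra hcon
    push_neg at hcon
    have : (Finset.univ : Finset α) ⊆ {a, b} := by
      intro x _
      by_cases hx : a = x
      · simp [hx]
      · simp [(hcon x hx).symm]
    have := Finset.card_le_card this
    have h4 : ({a, b} : Finset α).card ≤ 2 := Finset.card_le_two
    rw [Finset.card_univ] at this
    omega
  obtain ⟨u, hu1, hu2, -⟩ := h.trans a b c b a c hab hc.1 hc.2 hab.symm hc.2 hc.1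
  have h1 := h.conj_eq_inv hodd u a b hab hu1 hu2 d hda hdb
  have h2 := h.conj_eq_inv hodd u a b hab hu1 hu2 e hea heb
  have h3 := h.conj_eq_inv hodd u a b hab hu1 hu2 (d * e) (by rw [mul_smul, hea, hda])
    (by rw [mul_smul, heb, hdb])
  have h4 : u * (d * e) * u⁻¹ = (u * d * u⁻¹) * (u * e * u⁻¹) := by group
  rw [h4, h1, h2, ← mul_inv_rev, inv_inj] at h3
  exact h3.symm

end Cfsg.Agent.Helper2.Sharp3
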