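import Mathlib
import Cfsg.Agent.Helper4.SharpTwoNF

/-!
# A sharply 2-transitive group with abelian point stabiliser: the near-field is a field
-/

set_option autoImplicit false

namespace Cfsg.Agent.Helper2.Sharp3

open MulAction Cfsg.Agent.Helper4

variable {H β : Type*} [Group H] [MulAction H β] {a0 a1 : β} (D : NFData H β a0 a1)
  [DecidableEq β]

theorem nf_mul_comm (hc : ∀ x y : β, D.μ x * D.μ y = D.μ y * D.μ x) (x y : β) :
    D.mul x y = D.mul y x := by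
  by_cases hx : x = a0
  · rw [hx, D.zero_mul, D.mul_zero]
  by_cases hy : y = a0
  · rw [hy, D.zero_mul, D.mul_zero]
  rw [D.mul_of_ne _ hy, D.mul_of_ne _ hx]
  conv_lhs => rw [← D.hμ1 x hx]
  conv_rhs => rw [← D.hμ1 y hy]
  rw [← mul_smul, ← mul_smul, hc]

theorem nf_exists_field (hc : ∀ x y : β, D.μ x * D.μ y = D.μ y * D.μ x) :
    ∃ (_ : Field β), (∀ x y : β, x + y = D.add x y) ∧ (∀ x y : β, x * y = D.mul x y) ∧
      (0 : β) = a0 ∧ (1 : β) = a1 := by
  letI : Add β := ⟨D.add⟩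
  letI : Zero β := ⟨a0⟩
  letI : Neg β := ⟨D.neg⟩
  letI : Mul β := ⟨D.mul⟩
  letI : One β := ⟨a1⟩
  letI : Inv β := ⟨fun x => if x = a0 then a0 else (D.μ x)⁻¹ • a1⟩
  refine ⟨Field.ofMinimalAxioms β D.add_assoc D.zero_add D.neg_add D.mul_assoc
    (nf_mul_comm D hc) D.one_mul ?_ ?_ ?_ ⟨a0, a1, D.h01⟩, fun _ _ => rfl, fun _ _ => rfl,
    rfl, rfl⟩
  · intro a ha
    have ha' : a ≠ a0 := ha
    show D.mul a (if a = a0 then a0 else (D.μ a)⁻¹ • a1) = a1
    rw [if_neg ha', nf_mul_comm D hc, D.mul_of_ne _ ha', smul_inv_smul]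
  · show (if a0 = a0 then a0 else (D.μ a0)⁻¹ • a1) = a0
    rw [if_pos rfl]
  · intro a b c
    show D.mul a (D.add b c) = D.add (D.mul a b) (D.mul a c)
    rw [nf_mul_comm D hc, D.right_distrib, nf_mul_comm D hc b, nf_mul_comm D hc c]

end Cfsg.Agent.Helper2.Sharp3
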