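import Mathlib
import Cfsg.Agent.Helper2.Sharp3A
import Cfsg.Agent.Helper2.Sharp3B
import Cfsg.Agent.Helper2.MobiusC

/-!
# Sharply 3-transitive groups of odd degree are `PGL₂` of a field
-/

set_option autoImplicit false

namespace Cfsg.Agent.Helper2.Sharp3

open MulAction OnePoint Cfsg.Agent.Helper4

universe u v

theorem SharpThree.exists_pgl {G : Type u} {α : Type v} [Group G] [MulAction G α] [Finite G]
    [Finite α] (h : SharpThree G α) (hodd : Odd (Nat.card α)) (h3 : 3 ≤ Nat.card α) :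
    ∃ (β : Type v) (_ : Field β) (_ : Fintype β), Fintype.card β + 1 = Nat.card α ∧
      Nonempty (G ≃* Matrix.ProjGenLinGroup (Fin 2) β) := by
  classical
  haveI : Fintype α := Fintype.ofFinite α
  obtain ⟨pi, p0, p1, hi0, hi1, h01⟩ := Fintype.two_lt_card_iff.1
    (by rw [← Nat.card_eq_fintype_card]; omega : 2 < Fintype.card α)
  have hβ : ∀ x : α, x ≠ pi → x ∈ SubMulAction.ofStabilizer G pi :=
    fun x hx => (SubMulAction.mem_ofStabilizer_iff G pi).2 hx
  have hβ' : ∀ x : SubMulAction.ofStabilizer G pi, (x : α) ≠ pi :=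
    fun x => (SubMulAction.mem_ofStabilizer_iff G pi).1 x.2
  haveI : Fintype (SubMulAction.ofStabilizer G pi) := Fintype.ofFinite _
  have hS2 : SharpTwo (stabilizer G pi) (SubMulAction.ofStabilizer G pi) := by
    constructor
    · intro a b c d hab hcd
      obtain ⟨g, hg1, hg2, hg3⟩ := h.trans pi a b pi c d (hβ' a).symm (hβ' b).symm
        (fun hh => hab (Subtype.ext hh)) (hβ' c).symm (hβ' d).symm
        (fun hh => hcd (Subtype.ext hh))
      exact ⟨⟨g, mem_stabilizer_iff.2 hg1⟩, Subtype.ext hg2, Subtype.ext hg3⟩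
    · intro g a b hab hga hgb
      apply Subtype.ext
      exact h.sharp (g : G) pi a b (hβ' a).symm (hβ' b).symm (fun hh => hab (Subtype.ext hh))
        (mem_stabilizer_iff.1 g.2) (congrArg Subtype.val hga) (congrArg Subtype.val hgb)
  obtain ⟨D⟩ := hS2.exists_nfData (⟨p0, hβ p0 hi0.symm⟩ : SubMulAction.ofStabilizer G pi)
    ⟨p1, hβ p1 hi1.symm⟩ (fun hh => h01 (congrArg Subtype.val hh))
  have hc : ∀ x y : SubMulAction.ofStabilizer G pi, D.μ x * D.μ y = D.μ y * D.μ x := by
    intro x y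
    apply Subtype.ext
    exact h.comm_of_fix hodd h3 pi p0 hi0 (D.μ x : G) (D.μ y : G)
      (mem_stabilizer_iff.1 (D.μ x).2) (congrArg Subtype.val (D.hμ0 x))
      (mem_stabilizer_iff.1 (D.μ y).2) (congrArg Subtype.val (D.hμ0 y))
  obtain ⟨F, hadd, hmul, hzero, hone⟩ := nf_exists_field D hc
  refine ⟨SubMulAction.ofStabilizer G pi, F, inferInstance, ?_, ?_⟩
  · rw [← Nat.card_eq_fintype_card]
    exact SubMulAction.nat_card_ofStabilizer_add_one_eq G pi
  let e : α ≃ OnePoint (SubMulAction.ofStabilizer G pi) :=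
    { toFun := fun x => if hx : x = pi then ∞ else
        ((⟨x, hβ x hx⟩ : SubMulAction.ofStabilizer G pi) : OnePoint _)
      invFun := fun p => Option.elim p pi (fun b => (b : α))
      left_inv := by
        intro x
        by_cases hx : x = pi
        · simp only [dif_pos hx]
          exact hx.symm
        · simp only [dif_neg hx]
          rfl
      right_inv := by
        intro p
        cases p with
        | infty =>
          show (if hx : pi = pi then _ else _) = _
          rw [dif_pos rfl]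
        | coe b =>
          show (if hx : (b : α) = pi then _ else _) = _
          rw [dif_neg (hβ' b)]
          rfl }
  have he1 : e.symm ∞ = pi := rfl
  have he2 : ∀ b : SubMulAction.ofStabilizer G pi, e.symm (b : OnePoint _) = (b : α) :=
    fun b => rfl
  have hz : ((0 : SubMulAction.ofStabilizer G pi) : α) = p0 := by rw [hzero]
  have ho : ((1 : SubMulAction.ofStabilizer G pi) : α) = p1 := by rw [hone]
  apply Mobius.nonempty_mulEquiv_pgl e
  · intro g hg
    exact h.sharp g pi p0 p1 hi0 hi1 h01 (hg _) (hg _) (hg _)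
  · intro g hg
    rw [he1] at hg
    obtain ⟨a, b, ha, hab⟩ := D.affine ⟨g, mem_stabilizer_iff.2 hg⟩
    refine ⟨a, b, by rw [hzero]; exact ha, fun x => ?_⟩
    rw [he2, he2, mul_comm, hadd, hmul, ← hab x]
    rfl
  · obtain ⟨u, hu1, hu2, hu3⟩ := h.trans pi p0 p1 p0 pi p1 hi0 hi1 h01 hi0.symm h01 hi1
    refine ⟨u, ?_, ?_, ?_⟩
    · rw [he1, he2, hz]; exact hu1
    · rw [he1, he2, hz]; exact hu2
    · intro x hx
      rw [he2, he2]
      have hx' : x ≠ ⟨p0, hβ p0 hi0.symm⟩ := by rw [← hzero]; exact hx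
      have hxe : (x : α) = (D.μ x : G) • p1 := (congrArg Subtype.val (D.hμ1 x hx')).symm
      have hconj := h.conj_eq_inv hodd u pi p0 hi0 hu1 hu2 (D.μ x : G)
        (mem_stabilizer_iff.1 (D.μ x).2) (congrArg Subtype.val (D.hμ0 x))
      have hum : u * (D.μ x : G) = (D.μ x : G)⁻¹ * u := by
        rw [← hconj]; group
      have hinv : (D.μ x)⁻¹ • (⟨p1, hβ p1 hi1.symm⟩ : SubMulAction.ofStabilizer G pi) = x⁻¹ := by
        apply eq_inv_of_mul_eq_one_left
        rw [hmul, D.mul_of_ne _ hx', smul_inv_smul, hone]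
      rw [← hinv, hxe, ← mul_smul, hum, mul_smul, hu3]
      rfl
  · intro p q r hpq hpr hqr
    obtain ⟨g, hg1, hg2, hg3⟩ := h.trans pi p0 p1 p q r hi0 hi1 h01 hpq hpr hqr
    refine ⟨g, ?_, ?_, ?_⟩
    · rw [he1]; exact hg1
    · rw [he2, hz]; exact hg2
    · rw [he2, ho]; exact hg3

end Cfsg.Agent.Helper2.Sharp3
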