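import Mathlib
import Cfsg.Agent.Helper2.Sharp3C

/-!
# From Mathlib's multiple transitivity to the elementary sharply 3-transitive form
-/

set_option autoImplicit false

namespace Cfsg.Agent.Helper2.Sharp3

open MulAction

variable {G α : Type*} [Group G] [MulAction G α]

/-- three distinct points as an embedding of `Fin 3` -/
def emb3 (a b c : α) (hab : a ≠ b) (hac : a ≠ c) (hbc : b ≠ c) : Fin 3 ↪ α :=
  ⟨![a, b, c], by
    intro i j hij
    fin_cases i <;> fin_cases j <;> simp_all⟩

theorem emb3_zero (a b c : α) (hab : a ≠ b) (hac : a ≠ c) (hbc : b ≠ c) :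
    emb3 a b c hab hac hbc 0 = a := rfl

theorem emb3_one (a b c : α) (hab : a ≠ b) (hac : a ≠ c) (hbc : b ≠ c) :
    emb3 a b c hab hac hbc 1 = b := rfl

theorem emb3_two (a b c : α) (hab : a ≠ b) (hac : a ≠ c) (hbc : b ≠ c) :
    emb3 a b c hab hac hbc 2 = c := rfl

theorem sharpThree_of (h3 : IsMultiplyPretransitive G α 3)
    (hs : ∀ x : Fin 3 ↪ α, stabilizer G x = ⊥) : SharpThree G α := by
  constructor
  · intro a b c a' b' c' hab hac hbc hab' hac' hbc'
    obtain ⟨g, hg⟩ := (MulAction.isMultiplyPretransitive_iff).1 h3 (emb3 a b c hab hac hbc)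
      (emb3 a' b' c' hab' hac' hbc')
    refine ⟨g, ?_, ?_, ?_⟩
    · have := congrArg (fun f : Fin 3 ↪ α => f 0) hg
      simpa only [Function.Embedding.smul_apply, emb3_zero] using this
    · have := congrArg (fun f : Fin 3 ↪ α => f 1) hg
      simpa only [Function.Embedding.smul_apply, emb3_one] using this
    · have := congrArg (fun f : Fin 3 ↪ α => f 2) hg
      simpa only [Function.Embedding.smul_apply, emb3_two] using this
  · intro g a b c hab hac hbc ha hb hc
    have hg : g ∈ stabilizer G (emb3 a b c hab hac hbc) := by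
      rw [mem_stabilizer_iff]
      ext i
      rw [Function.Embedding.smul_apply]
      fin_cases i
      · exact ha
      · exact hb
      · exact hc
    rw [hs] at hg
    exact Subgroup.mem_bot.1 hg

end Cfsg.Agent.Helper2.Sharp3
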