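import Mathlib
import Cfsg.Prelude.Def_Involutions
import Cfsg.Agent.Helper2.Conj

set_option autoImplicit false

namespace Cfsg.Agent.Helper2

variable {G : Type*} [Group G]

/-- A finite subgroup of even order contains an involution. -/
theorem exists_invol_of_even_card [Finite G] (K : Subgroup G) (h : Even (Nat.card K)) :
    ∃ t ∈ K, orderOf t = 2 := by
  have : Fact (Nat.Prime 2) := ⟨Nat.prime_two⟩
  obtain ⟨x, hx⟩ := exists_prime_orderOf_dvd_card' (G := K) 2 (even_iff_two_dvd.mp h)
  refine ⟨x.1, x.2, ?_⟩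
  rw [← hx, Subgroup.orderOf_coe]

/-- A finite subgroup containing an involution has even order. -/
theorem even_card_of_invol [Finite G] (K : Subgroup G) {t : G} (ht : t ∈ K)
    (h2 : orderOf t = 2) : Even (Nat.card K) := by
  rw [even_iff_two_dvd, ← h2]
  have := orderOf_dvd_natCard (⟨t, ht⟩ : K)
  rwa [← Subgroup.orderOf_coe] at this

theorem not_odd_card_of_invol [Finite G] (K : Subgroup G) {t : G} (ht : t ∈ K)
    (h2 : orderOf t = 2) : ¬ Odd (Nat.card K) := by
  rw [Nat.not_odd_iff_even]
  exact even_card_of_invol K ht h2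

/-- In a strongly embedded subgroup `H`: if an involution `t` lies in `H ∩ g H g⁻¹` then `g ∈ H`. -/
theorem mem_of_invol_mem_inter [Finite G] {H : Subgroup G} (hH : Cfsg.IsStronglyEmbedded H)
    {t g : G} (ht : orderOf t = 2) (htH : t ∈ H) (htg : t ∈ cj g H) : g ∈ H := by
  by_contra hg
  exact not_odd_card_of_invol (H ⊓ cj g H) (Subgroup.mem_inf.mpr ⟨htH, htg⟩) ht (hH.2.2 g hg)

/-- Criterion for strong embedding in terms of involutions. -/
theorem stronglyEmbedded_of_invol [Finite G] {H : Subgroup G} (hne : H ≠ ⊤)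
    (heven : Even (Nat.card H))
    (h : ∀ t g : G, orderOf t = 2 → t ∈ H → t ∈ cj g H → g ∈ H) :
    Cfsg.IsStronglyEmbedded H := by
  refine ⟨hne, heven, fun g hg => ?_⟩
  rw [← Nat.not_even_iff_odd]
  intro he
  obtain ⟨t, htK, ht2⟩ := exists_invol_of_even_card _ he
  rw [Subgroup.mem_inf] at htK
  exact hg (h t g ht2 htK.1 htK.2)

end Cfsg.Agent.Helper2
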