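import Mathlib
import Cfsg.Agent.Helper2.StrEmb
import Cfsg.Agent.Helper2.Invol

set_option autoImplicit false

namespace Cfsg.Agent.Helper2.CIT

open Cfsg Cfsg.Agent.Helper2

variable {G : Type*} [Group G] [Finite G]

/-- A `2`-element normalizing a Sylow `2`-subgroup lies in it. -/
theorem mem_sylow_of_mem_normalizer (T : Sylow 2 G) {t : G} (ht : orderOf t = 2)
    (htN : t ∈ Subgroup.normalizer ((T : Subgroup G) : Set G)) : t ∈ (T : Subgroup G) := by
  haveI : Fact (Nat.Prime 2) := ⟨Nat.prime_two⟩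
  have hzp : IsPGroup 2 ↥(Subgroup.zpowers t) := by
    rw [IsPGroup.iff_card]
    exact ⟨1, by rw [Nat.card_zpowers, ht, pow_one]⟩
  have hle : Subgroup.zpowers t ≤ Subgroup.normalizer ((T : Subgroup G) : Set G) := by
    rw [Subgroup.zpowers_le]; exact htN
  have hsup : IsPGroup 2 ↥(Subgroup.zpowers t ⊔ (T : Subgroup G)) :=
    IsPGroup.to_sup_of_normal_right' hzp T.2 hle
  have := T.is_maximal' hsup le_sup_right
  rw [← this]
  exact le_sup_left (a := Subgroup.zpowers t) (Subgroup.mem_zpowers t)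

/-- Hypothesis: centralizers of involutions are elementary abelian `2`-groups. -/
def CIHyp (G : Type*) [Group G] : Prop :=
  ∀ t : G, orderOf t = 2 → IsMulCommutative (Subgroup.centralizer ({t} : Set G)) ∧
    ∀ c ∈ Subgroup.centralizer ({t} : Set G), c ^ 2 = 1

theorem sylow_comm (hC : CIHyp G) (T : Sylow 2 G) (hnt : (T : Subgroup G) ≠ ⊥) :
    ∀ x ∈ (T : Subgroup G), ∀ y ∈ (T : Subgroup G), x * y = y * x := by
  haveI : Fact (Nat.Prime 2) := ⟨Nat.prime_two⟩
  haveI : Nontrivial ↥(T : Subgroup G) := (Subgroup.nontrivial_iff_ne_bot _).mpr hnt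
  haveI : Nontrivial ↥(Subgroup.center ↥(T : Subgroup G)) := T.2.center_nontrivial
  have hZp : IsPGroup 2 ↥(Subgroup.center ↥(T : Subgroup G)) := T.2.to_subgroup _
  obtain ⟨n, hn⟩ := IsPGroup.iff_card.mp hZp
  have heven : Even (Nat.card ↥(Subgroup.center ↥(T : Subgroup G))) := by
    rcases n with _ | n
    · rw [pow_zero] at hn
      have := Finite.one_lt_card (α := ↥(Subgroup.center ↥(T : Subgroup G)))
      omega
    · rw [hn, pow_succ]; exact even_two.mul_left _
  obtain ⟨z0, hz0c, hz0⟩ := exists_invol_of_even_card _ heven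
  have hz0' : orderOf ((z0 : ↥(T : Subgroup G)) : G) = 2 := by
    rw [Subgroup.orderOf_coe]; exact hz0
  have hTle : ∀ x ∈ (T : Subgroup G), x ∈ Subgroup.centralizer ({(z0 : G)} : Set G) := by
    intro x hx
    rw [Subgroup.mem_centralizer_singleton_iff]
    have := Subgroup.mem_center_iff.mp hz0c ⟨x, hx⟩
    exact congrArg Subtype.val this
  intro x hx y hy
  have hcomm := (hC _ hz0').1
  have := hcomm.is_comm.comm ⟨x, hTle x hx⟩ ⟨y, hTle y hy⟩
  exact congrArg Subtype.val this

theorem centralizer_eq_sylow (hC : CIHyp G) (T : Sylow 2 G) {t : G} (ht : orderOf t = 2)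
    (htT : t ∈ (T : Subgroup G)) : Subgroup.centralizer ({t} : Set G) = (T : Subgroup G) := by
  have hnt : (T : Subgroup G) ≠ ⊥ := by
    intro h
    rw [h, Subgroup.mem_bot] at htT
    exact ne_one_of_orderOf_two ht htT
  have hp : IsPGroup 2 ↥(Subgroup.centralizer ({t} : Set G)) := by
    intro c
    refine ⟨1, ?_⟩
    rw [pow_one]
    apply Subtype.ext
    rw [Subgroup.coe_pow, Subgroup.coe_one]
    exact (hC t ht).2 c c.2
  apply T.is_maximal' hp
  intro x hx
  rw [Subgroup.mem_centralizer_singleton_iff]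
  exact sylow_comm hC T hnt x hx t htT

theorem stronglyEmbedded_normalizer (T : Sylow 2 G) (hnc : ¬ IsCyclic (T : Subgroup G))
    (hnn : ¬ (T : Subgroup G).Normal) (hC : CIHyp G) :
    Cfsg.IsStronglyEmbedded (Subgroup.normalizer ((T : Subgroup G) : Set G)) := by
  haveI : Fact (Nat.Prime 2) := ⟨Nat.prime_two⟩
  have hnt : (T : Subgroup G) ≠ ⊥ := by
    intro h
    apply hnc
    rw [h]
    infer_instance
  apply stronglyEmbedded_of_invol
  · intro h
    exact hnn (Subgroup.normalizer_eq_top_iff.mp h)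
  · -- even order
    haveI : Nontrivial ↥(T : Subgroup G) := (Subgroup.nontrivial_iff_ne_bot _).mpr hnt
    obtain ⟨n, hn⟩ := IsPGroup.iff_card.mp T.2
    have h2 : 2 ∣ Nat.card ↥(T : Subgroup G) := by
      rcases n with _ | n
      · rw [pow_zero] at hn
        have := Finite.one_lt_card (α := ↥(T : Subgroup G))
        omega
      · rw [hn, pow_succ]; exact dvd_mul_left _ _
    exact even_iff_two_dvd.mpr (h2.trans (Subgroup.card_dvd_of_le Subgroup.le_normalizer))
  · intro t g ht htN htg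
    have htT := mem_sylow_of_mem_normalizer T ht htN
    rw [mem_cj_iff] at htg
    have ht' : orderOf (g⁻¹ * t * g) = 2 := by
      have : g⁻¹ * t * g = MulAut.conj g⁻¹ t := by simp
      rw [this, MulEquiv.orderOf_eq]; exact ht
    have htT' := mem_sylow_of_mem_normalizer T ht' htg
    have h1 := centralizer_eq_sylow hC T ht htT
    have h2 := centralizer_eq_sylow hC T ht' htT'
    rw [mem_normalizer_iff_cj]
    ext x
    rw [mem_cj_iff]
    have e1 : g⁻¹ * x * g ∈ (T : Subgroup G) ↔
        g⁻¹ * x * g ∈ Subgroup.centralizer ({g⁻¹ * t * g} : Set G) := by rw [h2]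
    have e2 : x ∈ (T : Subgroup G) ↔ x ∈ Subgroup.centralizer ({t} : Set G) := by rw [h1]
    rw [e1, e2, Subgroup.mem_centralizer_singleton_iff,
      Subgroup.mem_centralizer_singleton_iff]
    constructor
    · intro h
      calc x * t = g * (g⁻¹ * x * g * (g⁻¹ * t * g)) * g⁻¹ := by group
        _ = g * (g⁻¹ * t * g * (g⁻¹ * x * g)) * g⁻¹ := by rw [h]
        _ = t * x := by group
    · intro h
      calc g⁻¹ * x * g * (g⁻¹ * t * g) = g⁻¹ * (x * t) * g := by group
        _ = g⁻¹ * (t * x) * g := by rw [h]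
        _ = g⁻¹ * t * g * (g⁻¹ * x * g) := by group

end Cfsg.Agent.Helper2.CIT
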