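import Mathlib
import Cfsg.Agent.Helper2.SylowConj
import Cfsg.Agent.S0208
import Cfsg.Agent.S0209

set_option autoImplicit false

namespace Cfsg.Agent.Helper2

variable {G : Type*} [Group G]

/-- Two non-conjugate involutions of a finite group both commute with a common involution. -/
theorem exists_invol_commute_of_not_isConj [Finite G] {s t : G} (hs : orderOf s = 2)
    (ht : orderOf t = 2) (hnc : ¬ IsConj s t) :
    ∃ u : G, orderOf u = 2 ∧ Commute u s ∧ Commute u t := by
  rcases Nat.even_or_odd (orderOf (s * t)) with he | ho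
  · exact ⟨_, Cfsg.Agent.S0209.result s t hs ht he⟩
  · exfalso
    obtain ⟨d, -, hd⟩ := Cfsg.Agent.S0208.result s t hs ht ho
    exact hnc (isConj_iff.mpr ⟨d, hd⟩)

theorem orderOf_conj_eq (g s : G) : orderOf (g * s * g⁻¹) = orderOf s := by
  have : g * s * g⁻¹ = MulAut.conj g s := rfl
  rw [this, MulEquiv.orderOf_eq]

end Cfsg.Agent.Helper2
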