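import Mathlib
import Cfsg.Agent.Helper2.StrEmb
import Cfsg.Agent.Helper2.InvolConj

set_option autoImplicit false

namespace Cfsg.Agent.Helper2

variable {G : Type*} [Group G]

/-- An element of odd order is a power of its square. -/
theorem eq_sq_pow_of_odd {x : G} (k : ℕ) (hk : orderOf x = 2 * k + 1) : x = (x ^ 2) ^ (k + 1) := by
  rw [← pow_mul]
  have : 2 * (k + 1) = (2 * k + 1) + 1 := by ring
  rw [this, pow_succ, ← hk, pow_orderOf_eq_one, one_mul]

/-- Elements of odd order with the same square are equal. -/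
theorem eq_of_sq_eq_sq_of_odd {x y : G} (hx : Odd (orderOf x)) (hy : Odd (orderOf y))
    (h : x ^ 2 = y ^ 2) : x = y := by
  obtain ⟨a, ha⟩ := hx
  obtain ⟨b, hb⟩ := hy
  have hxe := eq_sq_pow_of_odd a ha
  have hye := eq_sq_pow_of_odd b hb
  set e := x ^ 2 with he
  rw [← h] at hye
  -- `e ^ (2 * (a+1)) = e = e ^ (2 * (b+1))`
  have h1 : e ^ (2 * (a + 1)) = e ^ (2 * (b + 1)) := by
    rw [mul_comm 2, mul_comm 2, pow_mul, pow_mul, ← hxe, ← hye, ← he, h]
  rw [pow_eq_pow_iff_modEq] at h1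
  have hodd : Odd (orderOf e) := by
    have hdvd : orderOf e ∣ orderOf x := orderOf_pow_dvd 2
    rw [ha] at hdvd
    exact Odd.of_dvd_nat ⟨a, rfl⟩ hdvd
  have hcop : Nat.Coprime (orderOf e) 2 := Nat.Coprime.symm (Nat.coprime_two_left.mpr hodd)
  have h2 : a + 1 ≡ b + 1 [MOD orderOf e] :=
    Nat.ModEq.cancel_left_of_coprime (by rw [Nat.gcd_comm]; exact hcop.symm.gcd_eq_one ▸ rfl) h1
  rw [hxe, hye]
  exact pow_eq_pow_iff_modEq.mpr h2

/-- Two distinct involutions whose product has odd order are conjugate by an involution. -/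
theorem exists_invol_conj_of_odd {t s : G} (htt : t * t = 1) (hss : s * s = 1) (hne : t ≠ s)
    (hodd : Odd (orderOf (t * s))) : ∃ r : G, orderOf r = 2 ∧ r * t * r⁻¹ = s := by
  obtain ⟨k, hk⟩ := hodd
  have hpow : (t * s) ^ (2 * k + 1) = 1 := by rw [← hk]; exact pow_orderOf_eq_one _
  have hconj := conj_of_pow_odd htt hss k hpow
  have hrr : ((s * t) ^ (k + 1) * t) * ((s * t) ^ (k + 1) * t) = 1 := by
    have e1 : (s * t) ^ (k + 1) * t = t * (t * s) ^ (k + 1) := (invol_mul_pow htt (k + 1)).symm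
    have e2 : t * s = (s * t)⁻¹ := (inv_mul_invol hss htt).symm
    calc (s * t) ^ (k + 1) * t * ((s * t) ^ (k + 1) * t)
        = (s * t) ^ (k + 1) * t * (t * (t * s) ^ (k + 1)) := by rw [← e1]
      _ = (s * t) ^ (k + 1) * (t * t) * (t * s) ^ (k + 1) := by simp only [mul_assoc]
      _ = 1 := by rw [htt, mul_one, e2, inv_pow, mul_inv_cancel]
  have hrconj : ((s * t) ^ (k + 1) * t) * t * ((s * t) ^ (k + 1) * t)⁻¹ = s := by
    have : ((s * t) ^ (k + 1) * t) * t * ((s * t) ^ (k + 1) * t)⁻¹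
        = (s * t) ^ (k + 1) * (t * t) * t⁻¹ * ((s * t) ^ (k + 1))⁻¹ := by
      rw [mul_inv_rev]; simp only [mul_assoc]
    rw [this, htt, mul_one]
    have htinv : t⁻¹ = t := inv_eq_of_mul_eq_one_left htt
    rw [htinv]; exact hconj
  refine ⟨(s * t) ^ (k + 1) * t, orderOf_two_of_mul_self hrr ?_, hrconj⟩
  intro h1
  rw [h1] at hrconj
  apply hne
  simpa using hrconj

section StronglyEmbedded

variable [Finite G] {H : Subgroup G}

omit [Finite G] in
theorem smul_coset_eq_iff (t a : G) : t • (a : G ⧸ H) = (a : G ⧸ H) ↔ a⁻¹ * t * a ∈ H := by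
  rw [MulAction.Quotient.smul_coe, smul_eq_mul, eq_comm, QuotientGroup.eq]
  constructor
  · intro h; simpa [mul_assoc] using h
  · intro h; simpa [mul_assoc] using h

/-- In a strongly embedded subgroup, an involution fixes at most one coset. -/
theorem fix_unique (hSE : Cfsg.IsStronglyEmbedded H) {t : G} (ht : orderOf t = 2) {x z : G ⧸ H}
    (hx : t • x = x) (hz : t • z = z) : x = z := by
  induction x using QuotientGroup.induction_on with | _ a => ?_
  induction z using QuotientGroup.induction_on with | _ b => ?_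
  rw [smul_coset_eq_iff] at hx hz
  rw [QuotientGroup.eq]
  have ht' : orderOf (a⁻¹ * t * a) = 2 := by
    have := orderOf_conj_eq a⁻¹ t
    rw [inv_inv] at this
    rw [this]; exact ht
  apply mem_of_invol_mem_inter hSE ht' hx
  rw [mem_cj_iff]
  have : (a⁻¹ * b)⁻¹ * (a⁻¹ * t * a) * (a⁻¹ * b) = b⁻¹ * t * b := by group
  rw [this]; exact hz

/-- If `z` commutes with an involution `t` fixing only `x`, then `z` fixes `x`. -/
theorem fix_of_commute (hSE : Cfsg.IsStronglyEmbedded H) {t z : G} (ht : orderOf t = 2)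
    {x : G ⧸ H} (hx : t • x = x) (hc : Commute z t) : z • x = x := by
  apply fix_unique hSE ht _ hx
  rw [← mul_smul, ← hc.eq, mul_smul, hx]

/-- An involution `t` fixing `x` and an involution `r` moving `x` have a product of odd order. -/
theorem odd_orderOf_mul_of_move (hSE : Cfsg.IsStronglyEmbedded H) {t r : G} (ht : orderOf t = 2)
    (hr : orderOf r = 2) {x : G ⧸ H} (hx : t • x = x) (hrx : r • x ≠ x) :
    Odd (orderOf (t * r)) := by
  rcases Nat.even_or_odd (orderOf (t * r)) with he | ho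
  · exfalso
    obtain ⟨hz2, hzt, hzr⟩ := Cfsg.Agent.S0209.result t r ht hr he
    set z := (t * r) ^ (orderOf (t * r) / 2) with hz
    have hzx : z • x = x := fix_of_commute hSE ht hx hzt
    have hzy : z • (r • x) = r • x := by
      rw [← mul_smul, hzr.eq, mul_smul, hzx]
    exact hrx (fix_unique hSE hz2 hzy hzx)
  · exact ho

/-- Involutions fixing different cosets have a product of odd order. -/
theorem odd_orderOf_mul_of_fix_ne (hSE : Cfsg.IsStronglyEmbedded H) {t s : G} (ht : orderOf t = 2)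
    (hs : orderOf s = 2) {x y : G ⧸ H} (hx : t • x = x) (hy : s • y = y) (hxy : x ≠ y) :
    Odd (orderOf (t * s)) := by
  apply odd_orderOf_mul_of_move hSE ht hs hx
  intro hsx
  exact hxy (fix_unique hSE hs hsx hy)

/-- Given involutions `t` fixing `x` and `s` fixing `y ≠ x`, there is an involution `r` with
`r t r⁻¹ = s` and `r • x = y`. -/
theorem exists_invol_swap (hSE : Cfsg.IsStronglyEmbedded H) {t s : G} (ht : orderOf t = 2)
    (hs : orderOf s = 2) {x y : G ⧸ H} (hx : t • x = x) (hy : s • y = y) (hxy : x ≠ y) :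
    ∃ r : G, orderOf r = 2 ∧ r * t * r⁻¹ = s ∧ r • x = y := by
  have hne : t ≠ s := by
    rintro rfl
    exact hxy (fix_unique hSE ht hx hy)
  obtain ⟨r, hr2, hrc⟩ := exists_invol_conj_of_odd (mul_self_of_orderOf_two ht)
    (mul_self_of_orderOf_two hs) hne (odd_orderOf_mul_of_fix_ne hSE ht hs hx hy hxy)
  refine ⟨r, hr2, hrc, ?_⟩
  apply fix_unique hSE hs _ hy
  rw [← hrc, ← mul_smul, inv_mul_cancel_right, mul_smul, hx]

/-- Uniqueness of the swapping involution. -/
theorem invol_swap_unique (hSE : Cfsg.IsStronglyEmbedded H) {t r r' : G} (ht : orderOf t = 2)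
    (hr : orderOf r = 2) (hr' : orderOf r' = 2) {x : G ⧸ H} (hx : t • x = x)
    (hrx : r • x ≠ x) (hr'x : r' • x ≠ x) (h : r * t * r⁻¹ = r' * t * r'⁻¹) : r = r' := by
  have htt := mul_self_of_orderOf_two ht
  have hrinv := inv_eq_self_of_orderOf_two hr
  have hr'inv := inv_eq_self_of_orderOf_two hr'
  have h1 := odd_orderOf_mul_of_move hSE ht hr hx hrx
  have h2 := odd_orderOf_mul_of_move hSE ht hr' hx hr'x
  have hsq : (t * r) ^ 2 = (t * r') ^ 2 := by
    rw [pow_two, pow_two]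
    calc t * r * (t * r) = t * (r * t * r⁻¹) := by rw [hrinv]; simp only [mul_assoc]
      _ = t * (r' * t * r'⁻¹) := by rw [h]
      _ = t * r' * (t * r') := by rw [hr'inv]; simp only [mul_assoc]
  exact mul_left_cancel (eq_of_sq_eq_sq_of_odd h1 h2 hsq)

omit [Finite G] in
/-- The involutions fixing a coset are in bijection with the involutions of `H`. -/
theorem card_invol_fix (x : G ⧸ H) :
    Nat.card {t : G // orderOf t = 2 ∧ t • x = x} = Nat.card {t : G // orderOf t = 2 ∧ t ∈ H} := by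
  induction x using QuotientGroup.induction_on with | _ a => ?_
  apply Nat.card_congr
  refine Equiv.subtypeEquiv (MulAut.conj a⁻¹).toEquiv (fun t => ?_)
  have e : (MulAut.conj a⁻¹).toEquiv t = a⁻¹ * t * a := by
    simp
  rw [e, smul_coset_eq_iff]
  have := orderOf_conj_eq a⁻¹ t
  rw [inv_inv] at this
  rw [this]

/-- For a strongly embedded subgroup, the number of involutions mapping a coset `x` to another
coset `y` equals the number of involutions of `H`. -/
theorem card_invol_swap (hSE : Cfsg.IsStronglyEmbedded H) (x y : G ⧸ H) (hxy : x ≠ y) :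
    Nat.card {i : G // orderOf i = 2 ∧ i • x = y} =
      Nat.card {t : G // orderOf t = 2 ∧ t ∈ H} := by
  have hA := card_invol_fix (H := H) x
  have hB := card_invol_fix (H := H) y
  have hmpos : 0 < Nat.card {t : G // orderOf t = 2 ∧ t ∈ H} := by
    obtain ⟨t, htH, ht2⟩ := exists_invol_of_even_card H hSE.2.1
    have : Nonempty {t : G // orderOf t = 2 ∧ t ∈ H} := ⟨⟨t, ht2, htH⟩⟩
    exact Nat.card_pos
  let Φ : {t : G // orderOf t = 2 ∧ t • x = x} × {i : G // orderOf i = 2 ∧ i • x = y} →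
      {t : G // orderOf t = 2 ∧ t • x = x} × {s : G // orderOf s = 2 ∧ s • y = y} :=
    fun q => (q.1, ⟨q.2.1 * q.1.1 * q.2.1⁻¹, by
      rw [orderOf_conj_eq]; exact q.1.2.1, by
      have h0 : q.2.1 • x = y := q.2.2.2
      have h1 : q.2.1⁻¹ • y = x := by
        calc q.2.1⁻¹ • y = q.2.1⁻¹ • (q.2.1 • x) := by rw [h0]
          _ = x := by rw [← mul_smul, inv_mul_cancel, one_smul]
      rw [mul_smul, mul_smul, h1, q.1.2.2, h0]⟩)
  have hbij : Function.Bijective Φ := by
    constructor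
    · rintro ⟨⟨t, ht2, htx⟩, ⟨r, hr2, hrx⟩⟩ ⟨⟨t', ht'2, ht'x⟩, ⟨r', hr'2, hr'x⟩⟩ hq
      simp only [Φ, Prod.mk.injEq, Subtype.mk.injEq] at hq
      obtain ⟨rfl, hc⟩ := hq
      have : r = r' := invol_swap_unique hSE ht2 hr2 hr'2 htx (by rw [hrx]; exact hxy.symm)
        (by rw [hr'x]; exact hxy.symm) hc
      subst this
      rfl
    · rintro ⟨⟨t, ht2, htx⟩, ⟨s, hs2, hsy⟩⟩
      obtain ⟨r, hr2, hrc, hrx⟩ := exists_invol_swap hSE ht2 hs2 htx hsy hxy
      refine ⟨(⟨t, ht2, htx⟩, ⟨r, hr2, hrx⟩), ?_⟩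
      simp only [Φ, Prod.mk.injEq, Subtype.mk.injEq, true_and]
      exact hrc
  have hcard := Nat.card_eq_of_bijective Φ hbij
  rw [Nat.card_prod, Nat.card_prod, hA, hB] at hcard
  exact Nat.eq_of_mul_eq_mul_left hmpos hcard

/-- Every involution fixes a coset of a strongly embedded subgroup. -/
theorem exists_fix_of_invol (hSE : Cfsg.IsStronglyEmbedded H) {a : G} (ha : orderOf a = 2) :
    ∃ x : G ⧸ H, a • x = x := by
  obtain ⟨t, htH, ht2⟩ := exists_invol_of_even_card H hSE.2.1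
  have htx : t • ((1 : G) : G ⧸ H) = ((1 : G) : G ⧸ H) := by
    rw [smul_coset_eq_iff]; simpa using htH
  rcases Nat.even_or_odd (orderOf (a * t)) with he | ho
  · obtain ⟨hz2, hza, hzt⟩ := Cfsg.Agent.S0209.result a t ha ht2 he
    have hzx := fix_of_commute hSE ht2 htx hzt
    exact ⟨_, fix_of_commute hSE hz2 hzx hza.symm⟩
  · obtain ⟨d, -, hd⟩ := Cfsg.Agent.S0208.result a t ha ht2 ho
    refine ⟨d⁻¹ • ((1 : G) : G ⧸ H), ?_⟩
    have : a = d⁻¹ * t * d := by rw [← hd]; group
    rw [this, ← mul_smul, mul_assoc, mul_inv_cancel, mul_one, mul_smul, htx]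

/-- All involutions of a group with a strongly embedded subgroup are conjugate. -/
theorem isConj_of_invol (hSE : Cfsg.IsStronglyEmbedded H) {a b : G} (ha : orderOf a = 2)
    (hb : orderOf b = 2) : IsConj a b := by
  obtain ⟨x, hax⟩ := exists_fix_of_invol hSE ha
  obtain ⟨y, hby⟩ := exists_fix_of_invol hSE hb
  -- move `a` away from `y` if necessary
  have hmove : ∃ w : G, w • x ≠ y := by
    by_cases hxy : x = y
    · subst hxy
      induction x using QuotientGroup.induction_on with | _ g0 => ?_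
      obtain ⟨g1, hg1⟩ : ∃ g1 : G, g1 ∉ H := by
        by_contra hcon
        push Not at hcon
        exact hSE.1 (eq_top_iff.mpr fun g _ => hcon g)
      refine ⟨g0 * g1 * g0⁻¹, ?_⟩
      rw [MulAction.Quotient.smul_coe, smul_eq_mul, Ne, QuotientGroup.eq]
      intro h
      apply hg1
      have e : (g0 * g1 * g0⁻¹ * g0)⁻¹ * g0 = g1⁻¹ := by group
      rw [e] at h
      simpa using H.inv_mem h
    · exact ⟨1, by rwa [one_smul]⟩
  obtain ⟨w, hw⟩ := hmove
  have hc2 : orderOf (w * a * w⁻¹) = 2 := by rw [orderOf_conj_eq]; exact ha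
  have hcx : (w * a * w⁻¹) • (w • x) = w • x := by
    rw [← mul_smul, inv_mul_cancel_right, mul_smul, hax]
  have hodd := odd_orderOf_mul_of_fix_ne hSE hc2 hb hcx hby hw
  obtain ⟨d, -, hd⟩ := Cfsg.Agent.S0208.result _ b hc2 hb hodd
  exact (isConj_iff.mpr ⟨w, rfl⟩).trans (isConj_iff.mpr ⟨d, hd⟩)

/-- Involutions of `H` are conjugate under `H ∩ uHu⁻¹` for an involution `u ∉ H`. -/
theorem invol_conj_in_inter (hSE : Cfsg.IsStronglyEmbedded H) {u : G} (hu : orderOf u = 2)
    (huH : u ∉ H) {s t : G} (hs : orderOf s = 2) (hsH : s ∈ H) (ht : orderOf t = 2)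
    (htH : t ∈ H) : ∃ d ∈ H ⊓ cj u H, d * s * d⁻¹ = t := by
  have huinv := inv_eq_self_of_orderOf_two hu
  have hxy : ((1 : G) : G ⧸ H) ≠ ((u : G) : G ⧸ H) := by
    rw [Ne, QuotientGroup.eq]; simpa using huH
  have htx : t • ((1 : G) : G ⧸ H) = ((1 : G) : G ⧸ H) := by
    rw [smul_coset_eq_iff]; simpa using htH
  have hs'2 : orderOf (u * s * u⁻¹) = 2 := by rw [orderOf_conj_eq]; exact hs
  have hs'y : (u * s * u⁻¹) • ((u : G) : G ⧸ H) = ((u : G) : G ⧸ H) := by
    rw [smul_coset_eq_iff]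
    have e : u⁻¹ * (u * s * u⁻¹) * u = s := by group
    rw [e]; exact hsH
  obtain ⟨r, hr2, hrc, hrx⟩ := exists_invol_swap hSE ht hs'2 htx hs'y hxy
  have hrinv := inv_eq_self_of_orderOf_two hr2
  have hux : u • ((1 : G) : G ⧸ H) = ((u : G) : G ⧸ H) := by
    rw [MulAction.Quotient.smul_coe, smul_eq_mul, mul_one]
  have hry : r • ((u : G) : G ⧸ H) = ((1 : G) : G ⧸ H) := by
    rw [← hrx, ← mul_smul, mul_self_of_orderOf_two hr2, one_smul]
  have huy : u • ((u : G) : G ⧸ H) = ((1 : G) : G ⧸ H) := by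
    rw [← hux, ← mul_smul, mul_self_of_orderOf_two hu, one_smul]
  refine ⟨r * u, Subgroup.mem_inf.mpr ⟨?_, ?_⟩, ?_⟩
  · have h1 : (r * u) • ((1 : G) : G ⧸ H) = ((1 : G) : G ⧸ H) := by
      rw [mul_smul, hux, hry]
    rw [smul_coset_eq_iff] at h1
    simpa using h1
  · have h1 : (r * u) • ((u : G) : G ⧸ H) = ((u : G) : G ⧸ H) := by
      rw [mul_smul, huy, hrx]
    rw [smul_coset_eq_iff] at h1
    rw [mem_cj_iff]
    exact h1
  · have e : r * u * s * (r * u)⁻¹ = r * (u * s * u⁻¹) * r⁻¹ := by group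
    rw [e, ← hrc, hrinv]
    calc r * (r * t * r) * r = (r * r) * t * (r * r) := by simp only [mul_assoc]
      _ = t := by rw [mul_self_of_orderOf_two hr2, one_mul, mul_one]

end StronglyEmbedded

end Cfsg.Agent.Helper2
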