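import Mathlib
import Cfsg.Agent.Helper2.CITStrEmb
import Cfsg.Agent.Helper2.StrEmb3
import Cfsg.Agent.Helper1.Basic

set_option autoImplicit false

namespace Cfsg.Agent.Helper2.CIT

open Cfsg Cfsg.Agent.Helper2

variable {G : Type*} [Group G] [Finite G]

omit [Finite G] in
theorem card_subtype_ne' {α : Type*} [Finite α] (a : α) :
    Nat.card {x : α // x ≠ a} = Nat.card α - 1 := by
  classical
  have := Fintype.ofFinite α
  rw [Nat.card_eq_fintype_card, Nat.card_eq_fintype_card]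
  have h := Fintype.card_subtype_compl (fun x : α => x = a)
  rw [Fintype.card_subtype_eq] at h
  convert h using 2

theorem exists_invol_sylow (T : Sylow 2 G) (hnt : (T : Subgroup G) ≠ ⊥) :
    ∃ t ∈ (T : Subgroup G), orderOf t = 2 := by
  haveI : Fact (Nat.Prime 2) := ⟨Nat.prime_two⟩
  haveI : Nontrivial ↥(T : Subgroup G) := (Subgroup.nontrivial_iff_ne_bot _).mpr hnt
  obtain ⟨n, hn⟩ := IsPGroup.iff_card.mp T.2
  apply exists_invol_of_even_card
  rcases n with _ | n
  · rw [pow_zero] at hn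
    have := Finite.one_lt_card (α := ↥(T : Subgroup G))
    omega
  · rw [hn, pow_succ]; exact even_two.mul_left _

theorem sylow_sq (hC : CIHyp G) (T : Sylow 2 G) (hnt : (T : Subgroup G) ≠ ⊥) :
    ∀ t ∈ (T : Subgroup G), t ^ 2 = 1 := by
  obtain ⟨t0, ht0T, ht0⟩ := exists_invol_sylow T hnt
  have h := centralizer_eq_sylow hC T ht0 ht0T
  intro t ht
  rw [← h] at ht
  exact (hC t0 ht0).2 t ht

theorem invol_normalizer_iff (hC : CIHyp G) (T : Sylow 2 G) (hnt : (T : Subgroup G) ≠ ⊥) (t : G) :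
    (orderOf t = 2 ∧ t ∈ Subgroup.normalizer ((T : Subgroup G) : Set G)) ↔
      (t ∈ (T : Subgroup G) ∧ t ≠ 1) := by
  constructor
  · rintro ⟨h2, hN⟩
    exact ⟨mem_sylow_of_mem_normalizer T h2 hN, ne_one_of_orderOf_two h2⟩
  · rintro ⟨hT, h1⟩
    refine ⟨?_, Subgroup.le_normalizer hT⟩
    apply orderOf_two_of_mul_self _ h1
    rw [← pow_two]; exact sylow_sq hC T hnt t hT

theorem card_invol_normalizer (hC : CIHyp G) (T : Sylow 2 G) (hnt : (T : Subgroup G) ≠ ⊥) :
    Nat.card {t : G // orderOf t = 2 ∧ t ∈ Subgroup.normalizer ((T : Subgroup G) : Set G)} =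
      Nat.card ↥(T : Subgroup G) - 1 := by
  rw [← card_subtype_ne' (1 : ↥(T : Subgroup G))]
  apply Nat.card_congr
  refine Equiv.ofBijective
    (fun t => ⟨⟨t.1, ((invol_normalizer_iff hC T hnt t.1).mp t.2).1⟩, fun h =>
      ((invol_normalizer_iff hC T hnt t.1).mp t.2).2 (congrArg Subtype.val h)⟩) ⟨?_, ?_⟩
  · intro a b h
    apply Subtype.ext
    have := congrArg (fun x : {x : ↥(T : Subgroup G) // x ≠ 1} => (x.1 : G)) h
    exact this
  · rintro ⟨⟨t, ht⟩, h1⟩
    have h1' : t ≠ 1 := fun h => h1 (Subtype.ext h)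
    exact ⟨⟨t, (invol_normalizer_iff hC T hnt t).mpr ⟨ht, h1'⟩⟩, rfl⟩

section main

variable (T : Sylow 2 G) (hnc : ¬ IsCyclic (T : Subgroup G)) (hnn : ¬ (T : Subgroup G).Normal)
  (hC : CIHyp G) (u : G) (hu : orderOf u = 2)
  (huH : u ∉ Subgroup.normalizer ((T : Subgroup G) : Set G))

include hnc in
theorem sylow_ne_bot : (T : Subgroup G) ≠ ⊥ := by
  intro h
  apply hnc
  rw [h]
  infer_instance

include hnc hnn hC huH in
theorem inter_inf_sylow :
    (Subgroup.normalizer ((T : Subgroup G) : Set G) ⊓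
      cj u (Subgroup.normalizer ((T : Subgroup G) : Set G))) ⊓ (T : Subgroup G) = ⊥ := by
  have hSE := stronglyEmbedded_normalizer T hnc hnn hC
  have hodd := hSE.2.2 u huH
  have hnt := sylow_ne_bot T hnc
  rw [eq_bot_iff]
  intro x hx
  rw [Subgroup.mem_inf] at hx
  rw [Subgroup.mem_bot]
  have h1 : orderOf x ∣ 2 := orderOf_dvd_of_pow_eq_one (sylow_sq hC T hnt x hx.2)
  have h2 : orderOf x ∣ Nat.card ↥(Subgroup.normalizer ((T : Subgroup G) : Set G) ⊓
      cj u (Subgroup.normalizer ((T : Subgroup G) : Set G))) := by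
    have := orderOf_dvd_natCard (⟨x, hx.1⟩ : ↥(Subgroup.normalizer ((T : Subgroup G) : Set G) ⊓
      cj u (Subgroup.normalizer ((T : Subgroup G) : Set G))))
    rwa [Subgroup.orderOf_mk] at this
  have h3 : orderOf x ∣ Nat.gcd 2 (Nat.card ↥(Subgroup.normalizer ((T : Subgroup G) : Set G) ⊓
      cj u (Subgroup.normalizer ((T : Subgroup G) : Set G)))) := Nat.dvd_gcd h1 h2
  rw [Nat.coprime_two_left.mpr hodd] at h3
  exact orderOf_eq_one_iff.mp (Nat.dvd_one.mp h3)

include hnc hnn hC hu huH in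
theorem card_inter :
    Nat.card ↥(Subgroup.normalizer ((T : Subgroup G) : Set G) ⊓
      cj u (Subgroup.normalizer ((T : Subgroup G) : Set G))) = Nat.card ↥(T : Subgroup G) - 1 := by
  have hSE := stronglyEmbedded_normalizer T hnc hnn hC
  have hnt := sylow_ne_bot T hnc
  obtain ⟨t0, ht0T, ht0⟩ := exists_invol_sylow T hnt
  have ht0N : t0 ∈ Subgroup.normalizer ((T : Subgroup G) : Set G) := Subgroup.le_normalizer ht0T
  rw [← card_invol_normalizer hC T hnt]
  let f : ↥(Subgroup.normalizer ((T : Subgroup G) : Set G) ⊓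
      cj u (Subgroup.normalizer ((T : Subgroup G) : Set G))) →
      {t : G // orderOf t = 2 ∧ t ∈ Subgroup.normalizer ((T : Subgroup G) : Set G)} :=
    fun d => ⟨d.1 * t0 * d.1⁻¹, by
      have : d.1 * t0 * d.1⁻¹ = MulAut.conj d.1 t0 := rfl
      rw [this, MulEquiv.orderOf_eq]; exact ht0,
      mul_mem (mul_mem (Subgroup.mem_inf.mp d.2).1 ht0N) (inv_mem (Subgroup.mem_inf.mp d.2).1)⟩
  apply Nat.card_eq_of_bijective f
  constructor
  · intro d d' h
    have h1 : d.1 * t0 * d.1⁻¹ = d'.1 * t0 * d'.1⁻¹ := congrArg Subtype.val h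
    have h2 : d'.1⁻¹ * d.1 ∈ Subgroup.centralizer ({t0} : Set G) := by
      rw [Subgroup.mem_centralizer_singleton_iff]
      calc d'.1⁻¹ * d.1 * t0 = d'.1⁻¹ * (d.1 * t0 * d.1⁻¹) * d.1 := by group
        _ = d'.1⁻¹ * (d'.1 * t0 * d'.1⁻¹) * d.1 := by rw [h1]
        _ = t0 * (d'.1⁻¹ * d.1) := by group
    rw [centralizer_eq_sylow hC T ht0 ht0T] at h2
    have h3 : d'.1⁻¹ * d.1 ∈ (Subgroup.normalizer ((T : Subgroup G) : Set G) ⊓
      cj u (Subgroup.normalizer ((T : Subgroup G) : Set G))) ⊓ (T : Subgroup G) :=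
      Subgroup.mem_inf.mpr ⟨mul_mem (inv_mem d'.2) d.2, h2⟩
    rw [inter_inf_sylow T hnc hnn hC u huH, Subgroup.mem_bot] at h3
    apply Subtype.ext
    calc d.1 = d'.1 * (d'.1⁻¹ * d.1) := by group
      _ = d'.1 := by rw [h3, mul_one]
  · rintro ⟨t, ht2, htN⟩
    obtain ⟨d, hd, hdt⟩ := invol_conj_in_inter hSE hu huH ht0 ht0N ht2 htN
    exact ⟨⟨d, hd⟩, Subtype.ext hdt⟩

include hnc hnn hC hu huH in
theorem exists_mul_eq (h : G) (hh : h ∈ Subgroup.normalizer ((T : Subgroup G) : Set G)) :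
    ∃ d ∈ Subgroup.normalizer ((T : Subgroup G) : Set G) ⊓
      cj u (Subgroup.normalizer ((T : Subgroup G) : Set G)), ∃ t ∈ (T : Subgroup G), d * t = h := by
  have hSE := stronglyEmbedded_normalizer T hnc hnn hC
  have hnt := sylow_ne_bot T hnc
  obtain ⟨t0, ht0T, ht0⟩ := exists_invol_sylow T hnt
  have ht0N : t0 ∈ Subgroup.normalizer ((T : Subgroup G) : Set G) := Subgroup.le_normalizer ht0T
  have h2 : orderOf (h * t0 * h⁻¹) = 2 := by
    have : h * t0 * h⁻¹ = MulAut.conj h t0 := rfl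
    rw [this, MulEquiv.orderOf_eq]; exact ht0
  have hN : h * t0 * h⁻¹ ∈ Subgroup.normalizer ((T : Subgroup G) : Set G) :=
    mul_mem (mul_mem hh ht0N) (inv_mem hh)
  obtain ⟨d, hd, hdt⟩ := invol_conj_in_inter hSE hu huH ht0 ht0N h2 hN
  refine ⟨d, hd, d⁻¹ * h, ?_, by group⟩
  rw [← centralizer_eq_sylow hC T ht0 ht0T, Subgroup.mem_centralizer_singleton_iff]
  calc d⁻¹ * h * t0 = d⁻¹ * (h * t0 * h⁻¹) * h := by group
    _ = d⁻¹ * (d * t0 * d⁻¹) * h := by rw [hdt]
    _ = t0 * (d⁻¹ * h) := by group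

include hnc hnn hC hu huH in
theorem isComplement'_inter_sylow :
    Subgroup.IsComplement'
      ((Subgroup.normalizer ((T : Subgroup G) : Set G) ⊓
        cj u (Subgroup.normalizer ((T : Subgroup G) : Set G))).subgroupOf
          (Subgroup.normalizer ((T : Subgroup G) : Set G)))
      ((T : Subgroup G).subgroupOf (Subgroup.normalizer ((T : Subgroup G) : Set G))) := by
  apply Subgroup.isComplement'_of_disjoint_and_mul_eq_univ
  · rw [Subgroup.disjoint_def]
    intro x hx1 hx2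
    have h3 : (x : G) ∈ (Subgroup.normalizer ((T : Subgroup G) : Set G) ⊓
      cj u (Subgroup.normalizer ((T : Subgroup G) : Set G))) ⊓ (T : Subgroup G) :=
      Subgroup.mem_inf.mpr ⟨Subgroup.mem_subgroupOf.mp hx1, Subgroup.mem_subgroupOf.mp hx2⟩
    rw [inter_inf_sylow T hnc hnn hC u huH, Subgroup.mem_bot] at h3
    exact Subtype.ext h3
  · rw [Set.eq_univ_iff_forall]
    rintro ⟨h, hh⟩
    obtain ⟨d, hd, t, ht, hdt⟩ := exists_mul_eq T hnc hnn hC u hu huH h hh
    refine Set.mem_mul.mpr ⟨⟨d, (Subgroup.mem_inf.mp hd).1⟩, ?_, ⟨t, Subgroup.le_normalizer ht⟩, ?_, ?_⟩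
    · exact Subgroup.mem_subgroupOf.mpr hd
    · exact Subgroup.mem_subgroupOf.mpr ht
    · exact Subtype.ext hdt

include hnc hnn hC hu huH in
theorem card_normalizer :
    Nat.card ↥(Subgroup.normalizer ((T : Subgroup G) : Set G)) =
      Nat.card ↥(T : Subgroup G) * (Nat.card ↥(T : Subgroup G) - 1) := by
  have h := (isComplement'_inter_sylow T hnc hnn hC u hu huH).card_mul_card
  rw [Cfsg.Agent.Helper1.card_subgroupOf_of_le inf_le_left,
    Cfsg.Agent.Helper1.card_subgroupOf_of_le Subgroup.le_normalizer,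
    card_inter T hnc hnn hC u hu huH] at h
  rw [← h, mul_comm]

include hnc hnn hC hu huH in
theorem inverts_inter :
    ∀ d ∈ Subgroup.normalizer ((T : Subgroup G) : Set G) ⊓
      cj u (Subgroup.normalizer ((T : Subgroup G) : Set G)), u * d * u⁻¹ = d⁻¹ := by
  have hSE := stronglyEmbedded_normalizer T hnc hnn hC
  have hnt := sylow_ne_bot T hnc
  have huu := mul_self_of_orderOf_two hu
  have huinv := inv_eq_self_of_orderOf_two hu
  set N := Subgroup.normalizer ((T : Subgroup G) : Set G) with hN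
  have hxy : ((1 : G) : G ⧸ N) ≠ ((u : G) : G ⧸ N) := by
    rw [Ne, QuotientGroup.eq]; simpa using huH
  have hcard := card_invol_swap hSE _ _ hxy
  rw [card_invol_normalizer hC T hnt, ← card_inter T hnc hnn hC u hu huH] at hcard
  have hux : u • ((1 : G) : G ⧸ N) = ((u : G) : G ⧸ N) := by
    rw [MulAction.Quotient.smul_coe, smul_eq_mul, mul_one]
  have huy : u • ((u : G) : G ⧸ N) = ((1 : G) : G ⧸ N) := by
    rw [MulAction.Quotient.smul_coe, smul_eq_mul, huu]
  let Θ : {i : G // orderOf i = 2 ∧ i • ((1 : G) : G ⧸ N) = ((u : G) : G ⧸ N)} → ↥(N ⊓ cj u N) :=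
    fun i => ⟨u * i.1, by
      have hii := mul_self_of_orderOf_two i.2.1
      have h0 : i.1 • ((1 : G) : G ⧸ N) = ((u : G) : G ⧸ N) := i.2.2
      have hiy : i.1 • ((u : G) : G ⧸ N) = ((1 : G) : G ⧸ N) := by
        calc i.1 • ((u : G) : G ⧸ N) = i.1 • (i.1 • ((1 : G) : G ⧸ N)) := congrArg _ h0.symm
          _ = ((1 : G) : G ⧸ N) := by rw [← mul_smul, hii, one_smul]
      rw [Subgroup.mem_inf, mem_cj_iff]
      constructor
      · have : (u * i.1) • ((1 : G) : G ⧸ N) = ((1 : G) : G ⧸ N) := by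
          rw [mul_smul, h0, huy]
        rw [smul_coset_eq_iff] at this
        simpa using this
      · have : (i.1 * u) • ((1 : G) : G ⧸ N) = ((1 : G) : G ⧸ N) := by
          rw [mul_smul, hux, hiy]
        rw [smul_coset_eq_iff] at this
        have e : u⁻¹ * (u * i.1) * u = (1 : G)⁻¹ * (i.1 * u) * 1 := by group
        rw [e]; exact this⟩
  have hinj : Function.Injective Θ := by
    intro i j h
    have := congrArg Subtype.val h
    exact Subtype.ext (mul_left_cancel this)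
  have hbij := hinj.bijective_of_nat_card_le hcard.symm.le
  intro d hd
  obtain ⟨i, hi⟩ := hbij.2 ⟨d, hd⟩
  have hid : u * i.1 = d := congrArg Subtype.val hi
  have hii := mul_self_of_orderOf_two i.2.1
  have hi' : i.1 = u * d := by rw [← hid, ← mul_assoc, huu, one_mul]
  rw [hi'] at hii
  rw [huinv]
  apply eq_inv_of_mul_eq_one_left
  calc u * d * u * d = u * d * (u * d) := by group
    _ = 1 := hii

end main

end Cfsg.Agent.Helper2.CIT
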