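import Mathlib
import Cfsg.Agent.Helper2.CIT2

set_option autoImplicit false

namespace Cfsg.Agent.Helper2.CIT

open Cfsg Cfsg.Agent.Helper2

variable {G : Type*} [Group G] [Finite G]

theorem mem_normalizer_of_forall_conj_mem {D : Subgroup G} {x : G}
    (h : ∀ d ∈ D, x * d * x⁻¹ ∈ D) : x ∈ Subgroup.normalizer (D : Set G) := by
  rw [mem_normalizer_iff_cj]
  apply Subgroup.eq_of_le_of_card_ge ((cj_le_iff D D x).mpr h)
  exact (Subgroup.card_map_of_injective (MulAut.conj x).injective).ge

section main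

variable (T : Sylow 2 G) (hnc : ¬ IsCyclic (T : Subgroup G)) (hnn : ¬ (T : Subgroup G).Normal)
  (hC : CIHyp G) (u : G) (hu : orderOf u = 2)
  (huH : u ∉ Subgroup.normalizer ((T : Subgroup G) : Set G))

include hnc in
theorem four_le_card_sylow : 4 ≤ Nat.card ↥(T : Subgroup G) := by
  haveI : Fact (Nat.Prime 2) := ⟨Nat.prime_two⟩
  obtain ⟨n, hn⟩ := IsPGroup.iff_card.mp T.2
  rcases n with _ | _ | n
  · exfalso; apply hnc
    rw [pow_zero] at hn
    haveI : Subsingleton ↥(T : Subgroup G) := (Nat.card_eq_one_iff_unique.mp hn).1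
    infer_instance
  · exfalso; apply hnc
    rw [zero_add, pow_one] at hn
    exact isCyclic_of_prime_card hn
  · rw [hn]
    calc 4 = 2 ^ 2 := by norm_num
      _ ≤ 2 ^ (n + 1 + 1) := Nat.pow_le_pow_right (by norm_num) (by omega)

include hnc hnn hC hu huH in
theorem exists_ne_one_inter :
    ∃ d ∈ Subgroup.normalizer ((T : Subgroup G) : Set G) ⊓
      cj u (Subgroup.normalizer ((T : Subgroup G) : Set G)), d ≠ 1 := by
  have h4 := four_le_card_sylow T hnc
  have hcard := card_inter T hnc hnn hC u hu huH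
  by_contra hcon
  push Not at hcon
  have hbot : Subgroup.normalizer ((T : Subgroup G) : Set G) ⊓
      cj u (Subgroup.normalizer ((T : Subgroup G) : Set G)) = ⊥ := by
    rw [eq_bot_iff]; intro x hx; rw [Subgroup.mem_bot]; exact hcon x hx
  rw [hbot, Subgroup.card_bot] at hcard
  omega

include hnc hnn hC hu huH in
/-- no involution centralizes `D` -/
theorem not_invol_centralizes_inter {c : G} (hc : orderOf c = 2)
    (hcD : ∀ d ∈ Subgroup.normalizer ((T : Subgroup G) : Set G) ⊓
      cj u (Subgroup.normalizer ((T : Subgroup G) : Set G)), c * d = d * c) : False := by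
  have hSE := stronglyEmbedded_normalizer T hnc hnn hC
  obtain ⟨d, hd, hd1⟩ := exists_ne_one_inter T hnc hnn hC u hu huH
  have hdc : d ∈ Subgroup.centralizer ({c} : Set G) :=
    Subgroup.mem_centralizer_singleton_iff.mpr (hcD d hd).symm
  have h2 : d ^ 2 = 1 := (hC c hc).2 d hdc
  have h1 : orderOf d ∣ 2 := orderOf_dvd_of_pow_eq_one h2
  have hodd := hSE.2.2 u huH
  have h3 : orderOf d ∣ Nat.card ↥(Subgroup.normalizer ((T : Subgroup G) : Set G) ⊓
      cj u (Subgroup.normalizer ((T : Subgroup G) : Set G))) := by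
    have := orderOf_dvd_natCard (⟨d, hd⟩ : ↥(Subgroup.normalizer ((T : Subgroup G) : Set G) ⊓
      cj u (Subgroup.normalizer ((T : Subgroup G) : Set G))))
    rwa [Subgroup.orderOf_mk] at this
  have h4 := Nat.dvd_gcd h1 h3
  rw [Nat.coprime_two_left.mpr hodd] at h4
  exact hd1 (orderOf_eq_one_iff.mp (Nat.dvd_one.mp h4))

include hnc hnn hC hu huH in
/-- `N_H(D) = D` -/
theorem mem_inter_of_mem_normalizer {h : G}
    (hh : h ∈ Subgroup.normalizer ((T : Subgroup G) : Set G))
    (hn : h ∈ Subgroup.normalizer ((Subgroup.normalizer ((T : Subgroup G) : Set G) ⊓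
      cj u (Subgroup.normalizer ((T : Subgroup G) : Set G)) : Subgroup G) : Set G)) :
    h ∈ Subgroup.normalizer ((T : Subgroup G) : Set G) ⊓
      cj u (Subgroup.normalizer ((T : Subgroup G) : Set G)) := by
  have hnt := sylow_ne_bot T hnc
  obtain ⟨d, hd, t, ht, hdt⟩ := exists_mul_eq T hnc hnn hC u hu huH h hh
  have htn : t ∈ Subgroup.normalizer ((Subgroup.normalizer ((T : Subgroup G) : Set G) ⊓
      cj u (Subgroup.normalizer ((T : Subgroup G) : Set G)) : Subgroup G) : Set G) := by
    have : t = d⁻¹ * h := by rw [← hdt]; group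
    rw [this]
    exact mul_mem (inv_mem (Subgroup.le_normalizer hd)) hn
  by_cases ht1 : t = 1
  · rw [← hdt, ht1, mul_one]; exact hd
  · exfalso
    have ht2 : orderOf t = 2 := by
      apply orderOf_two_of_mul_self _ ht1
      rw [← pow_two]; exact sylow_sq hC T hnt t ht
    apply not_invol_centralizes_inter T hnc hnn hC u hu huH ht2
    intro d' hd'
    have h1 : t * d' * t⁻¹ ∈ Subgroup.normalizer ((T : Subgroup G) : Set G) ⊓
        cj u (Subgroup.normalizer ((T : Subgroup G) : Set G)) :=
      (Subgroup.mem_normalizer_iff.mp htn d').mp hd'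
    have h2 : t * d' * t⁻¹ * d'⁻¹ ∈ (T : Subgroup G) := by
      have hd'N : d' ∈ Subgroup.normalizer ((T : Subgroup G) : Set G) := (Subgroup.mem_inf.mp hd').1
      have : d' * t⁻¹ * d'⁻¹ ∈ (T : Subgroup G) :=
        (Subgroup.mem_normalizer_iff.mp hd'N t⁻¹).mp (inv_mem ht)
      have e : t * d' * t⁻¹ * d'⁻¹ = t * (d' * t⁻¹ * d'⁻¹) := by group
      rw [e]; exact mul_mem ht this
    have h3 : t * d' * t⁻¹ * d'⁻¹ ∈ (Subgroup.normalizer ((T : Subgroup G) : Set G) ⊓
        cj u (Subgroup.normalizer ((T : Subgroup G) : Set G))) ⊓ (T : Subgroup G) :=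
      Subgroup.mem_inf.mpr ⟨mul_mem h1 (inv_mem hd'), h2⟩
    rw [inter_inf_sylow T hnc hnn hC u huH, Subgroup.mem_bot] at h3
    calc t * d' = (t * d' * t⁻¹ * d'⁻¹) * d' * t := by group
      _ = d' * t := by rw [h3, one_mul]

include hnc hnn hC hu huH in
/-- if `D` fixes `v H` for an involution `v ∉ H`, then `v` inverts `D`. -/
theorem inverts_of_fix {v : G} (hv : orderOf v = 2)
    (hvH : v ∉ Subgroup.normalizer ((T : Subgroup G) : Set G))
    (hfix : ∀ d ∈ Subgroup.normalizer ((T : Subgroup G) : Set G) ⊓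
      cj u (Subgroup.normalizer ((T : Subgroup G) : Set G)),
      d • ((v : G) : G ⧸ Subgroup.normalizer ((T : Subgroup G) : Set G)) = (v : G)) :
    ∀ d ∈ Subgroup.normalizer ((T : Subgroup G) : Set G) ⊓
      cj u (Subgroup.normalizer ((T : Subgroup G) : Set G)), v * d * v⁻¹ = d⁻¹ := by
  have hle : Subgroup.normalizer ((T : Subgroup G) : Set G) ⊓
      cj u (Subgroup.normalizer ((T : Subgroup G) : Set G)) ≤
      Subgroup.normalizer ((T : Subgroup G) : Set G) ⊓
      cj v (Subgroup.normalizer ((T : Subgroup G) : Set G)) := by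
    intro d hd
    refine Subgroup.mem_inf.mpr ⟨(Subgroup.mem_inf.mp hd).1, ?_⟩
    rw [mem_cj_iff]
    have := hfix d hd
    rwa [smul_coset_eq_iff] at this
  have heq : Subgroup.normalizer ((T : Subgroup G) : Set G) ⊓
      cj u (Subgroup.normalizer ((T : Subgroup G) : Set G)) =
      Subgroup.normalizer ((T : Subgroup G) : Set G) ⊓
      cj v (Subgroup.normalizer ((T : Subgroup G) : Set G)) := by
    apply Subgroup.eq_of_le_of_card_ge hle
    rw [card_inter T hnc hnn hC u hu huH, card_inter T hnc hnn hC v hv hvH]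
  rw [heq]
  exact inverts_inter T hnc hnn hC v hv hvH

include hnc hnn hC hu huH in
theorem fix_iff (g : G) :
    (∀ d ∈ Subgroup.normalizer ((T : Subgroup G) : Set G) ⊓
      cj u (Subgroup.normalizer ((T : Subgroup G) : Set G)),
      d • ((g : G) : G ⧸ Subgroup.normalizer ((T : Subgroup G) : Set G)) = (g : G)) ↔
    (((g : G) : G ⧸ Subgroup.normalizer ((T : Subgroup G) : Set G)) = ((1 : G) : G ⧸ _) ∨
      ((g : G) : G ⧸ Subgroup.normalizer ((T : Subgroup G) : Set G)) = ((u : G) : G ⧸ _)) := by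
  have hSE := stronglyEmbedded_normalizer T hnc hnn hC
  have huu := mul_self_of_orderOf_two hu
  have huinv := inv_eq_self_of_orderOf_two hu
  set N := Subgroup.normalizer ((T : Subgroup G) : Set G) with hN
  have hα : ∀ d ∈ N ⊓ cj u N, d • ((1 : G) : G ⧸ N) = ((1 : G) : G ⧸ N) := by
    intro d hd
    rw [smul_coset_eq_iff]; simpa using (Subgroup.mem_inf.mp hd).1
  have hβ : ∀ d ∈ N ⊓ cj u N, d • ((u : G) : G ⧸ N) = ((u : G) : G ⧸ N) := by
    intro d hd
    rw [smul_coset_eq_iff]
    have := (Subgroup.mem_inf.mp hd).2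
    rwa [mem_cj_iff] at this
  constructor
  · intro hfix
    by_contra hcon
    push Not at hcon
    obtain ⟨hg1, hgu⟩ := hcon
    -- an involution `v` with `v α = γ`
    have hpos : 0 < Nat.card {i : G // orderOf i = 2 ∧ i • ((1 : G) : G ⧸ N) = ((g : G) : G ⧸ N)} := by
      rw [card_invol_swap hSE _ _ (Ne.symm hg1)]
      obtain ⟨t, htH, ht2⟩ := exists_invol_of_even_card N hSE.2.1
      haveI : Nonempty {t : G // orderOf t = 2 ∧ t ∈ N} := ⟨⟨t, ht2, htH⟩⟩
      exact Nat.card_pos
    obtain ⟨⟨v, hv2, hvg⟩⟩ := (Nat.card_pos_iff.mp hpos).1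
    have hvα : ((v : G) : G ⧸ N) = ((g : G) : G ⧸ N) := by
      rw [← hvg, MulAction.Quotient.smul_coe, smul_eq_mul, mul_one]
    have hvH : v ∉ N := by
      intro hvN
      apply hg1
      rw [← hvα, QuotientGroup.eq]; simpa using hvN
    have hvinv := inverts_of_fix T hnc hnn hC u hu huH hv2 hvH (by rw [hvα]; exact hfix)
    have huinvD := inverts_inter T hnc hnn hC u hu huH
    have hvv := mul_self_of_orderOf_two hv2
    have hvi := inv_eq_self_of_orderOf_two hv2
    -- c = u v centralizes D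
    have hcD : ∀ d ∈ N ⊓ cj u N, (u * v) * d = d * (u * v) := by
      intro d hd
      have h1 := hvinv d hd
      have h2 := huinvD d⁻¹ (inv_mem hd)
      rw [inv_inv] at h2
      calc u * v * d = u * (v * d * v⁻¹) * v := by group
        _ = u * d⁻¹ * v := by rw [h1]
        _ = (u * d⁻¹ * u⁻¹) * u * v := by group
        _ = d * (u * v) := by rw [h2]; group
    -- y = c α
    have hy1 : ((u * v : G) : G ⧸ N) ≠ ((1 : G) : G ⧸ N) := by
      intro h
      apply hgu
      rw [← hvα, QuotientGroup.eq]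
      have h' := QuotientGroup.eq.mp h
      have e : (u * v)⁻¹ * 1 = v⁻¹ * u := by
        rw [mul_one, mul_inv_rev, huinv]
      rw [e] at h'
      exact h'
    have hyfix : ∀ d ∈ N ⊓ cj u N, d • ((u * v : G) : G ⧸ N) = ((u * v : G) : G ⧸ N) := by
      intro d hd
      have e : ((u * v : G) : G ⧸ N) = (u * v) • ((1 : G) : G ⧸ N) := by
        rw [MulAction.Quotient.smul_coe, smul_eq_mul, mul_one]
      rw [e, ← mul_smul, ← hcD d hd, mul_smul, hα d hd]
    have hpos' : 0 < Nat.card {i : G // orderOf i = 2 ∧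
        i • ((1 : G) : G ⧸ N) = ((u * v : G) : G ⧸ N)} := by
      rw [card_invol_swap hSE _ _ (Ne.symm hy1)]
      obtain ⟨t, htH, ht2⟩ := exists_invol_of_even_card N hSE.2.1
      haveI : Nonempty {t : G // orderOf t = 2 ∧ t ∈ N} := ⟨⟨t, ht2, htH⟩⟩
      exact Nat.card_pos
    obtain ⟨⟨w, hw2, hwy⟩⟩ := (Nat.card_pos_iff.mp hpos').1
    have hwα : ((w : G) : G ⧸ N) = ((u * v : G) : G ⧸ N) := by
      rw [← hwy, MulAction.Quotient.smul_coe, smul_eq_mul, mul_one]
    have hwH : w ∉ N := by
      intro hwN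
      apply hy1
      rw [← hwα, QuotientGroup.eq]; simpa using hwN
    have hwinv := inverts_of_fix T hnc hnn hC u hu huH hw2 hwH (by rw [hwα]; exact hyfix)
    have hww := mul_self_of_orderOf_two hw2
    have hwi := inv_eq_self_of_orderOf_two hw2
    -- w⁻¹ c ∈ N_H(D) = D
    have hmemH : w⁻¹ * (u * v) ∈ N := by
      have := QuotientGroup.eq.mp hwα
      exact this
    have hnormD : ∀ x : G, (∀ d ∈ N ⊓ cj u N, x * d * x⁻¹ = d⁻¹) →
        x ∈ Subgroup.normalizer ((N ⊓ cj u N : Subgroup G) : Set G) := by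
      intro x hx
      apply mem_normalizer_of_forall_conj_mem
      intro d hd
      rw [hx d hd]; exact inv_mem hd
    have hcn : w⁻¹ * (u * v) ∈ Subgroup.normalizer ((N ⊓ cj u N : Subgroup G) : Set G) :=
      mul_mem (inv_mem (hnormD w hwinv)) (mul_mem (hnormD u huinvD) (hnormD v hvinv))
    have hd0 := mem_inter_of_mem_normalizer T hnc hnn hC u hu huH hmemH hcn
    have hc2 : (u * v) * (u * v) = 1 := by
      have h1 := hwinv _ hd0
      have e : u * v = w * (w⁻¹ * (u * v)) := by group
      calc (u * v) * (u * v) = w * (w⁻¹ * (u * v)) * (w * (w⁻¹ * (u * v))) := by rw [← e]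
        _ = (w * (w⁻¹ * (u * v)) * w⁻¹) * (w * w) * (w⁻¹ * (u * v)) := by group
        _ = 1 := by rw [h1, hww]; group
    have hc1 : u * v ≠ 1 := by
      intro h
      apply hy1
      rw [h]
    exact not_invol_centralizes_inter T hnc hnn hC u hu huH (orderOf_two_of_mul_self hc2 hc1) hcD
  · rintro (h | h)
    · rw [h]; exact hα
    · rw [h]; exact hβ

include hnc hnn hC hu huH in
theorem normalizer_inter :
    Subgroup.normalizer ((Subgroup.normalizer ((T : Subgroup G) : Set G) ⊓
      cj u (Subgroup.normalizer ((T : Subgroup G) : Set G)) : Subgroup G) : Set G) =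
    (Subgroup.normalizer ((T : Subgroup G) : Set G) ⊓
      cj u (Subgroup.normalizer ((T : Subgroup G) : Set G))) ⊔ Subgroup.zpowers u := by
  have huinv := inv_eq_self_of_orderOf_two hu
  have huinvD := inverts_inter T hnc hnn hC u hu huH
  have huN : u ∈ Subgroup.normalizer ((Subgroup.normalizer ((T : Subgroup G) : Set G) ⊓
      cj u (Subgroup.normalizer ((T : Subgroup G) : Set G)) : Subgroup G) : Set G) := by
    apply mem_normalizer_of_forall_conj_mem
    intro d hd
    rw [huinvD d hd]; exact inv_mem hd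
  apply le_antisymm
  · intro g hg
    have hfix : ∀ d ∈ Subgroup.normalizer ((T : Subgroup G) : Set G) ⊓
        cj u (Subgroup.normalizer ((T : Subgroup G) : Set G)),
        d • ((g : G) : G ⧸ Subgroup.normalizer ((T : Subgroup G) : Set G)) = (g : G) := by
      intro d hd
      rw [smul_coset_eq_iff]
      have h1 := (Subgroup.mem_normalizer_iff.mp (inv_mem hg) d).mp hd
      rw [inv_inv] at h1
      exact (Subgroup.mem_inf.mp h1).1
    rcases (fix_iff T hnc hnn hC u hu huH g).mp hfix with h | h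
    · have hgN : g ∈ Subgroup.normalizer ((T : Subgroup G) : Set G) := by
        have := QuotientGroup.eq.mp h
        rw [mul_one] at this
        simpa using inv_mem this
      exact Subgroup.mem_sup_left (mem_inter_of_mem_normalizer T hnc hnn hC u hu huH hgN hg)
    · have hx : u⁻¹ * g ∈ Subgroup.normalizer ((T : Subgroup G) : Set G) := by
        have := QuotientGroup.eq.mp h
        have e : u⁻¹ * g = (g⁻¹ * u)⁻¹ := by group
        rw [e]; exact inv_mem this
      have hxn := mul_mem (inv_mem huN) hg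
      have hxD := mem_inter_of_mem_normalizer T hnc hnn hC u hu huH hx hxn
      have e : g = u * (u⁻¹ * g) := by group
      rw [e]
      exact mul_mem (Subgroup.mem_sup_right (Subgroup.mem_zpowers u)) (Subgroup.mem_sup_left hxD)
  · apply sup_le Subgroup.le_normalizer
    rw [Subgroup.zpowers_le]; exact huN

end main

end Cfsg.Agent.Helper2.CIT
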