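import Mathlib
import Cfsg.Agent.Helper2.CIT4

set_option autoImplicit false

namespace Cfsg.Agent.Helper2.CIT

open Cfsg Cfsg.Agent.Helper2

variable {G : Type*} [Group G] [Finite G]

section main

variable (T : Sylow 2 G) (hnc : ¬ IsCyclic (T : Subgroup G)) (hnn : ¬ (T : Subgroup G).Normal)
  (hC : CIHyp G)

local notation "NT" => Subgroup.normalizer ((T : Subgroup G) : Set G)

include hnc hnn hC in
theorem exists_invol_map {x : G ⧸ NT} (hx : x ≠ ((1 : G) : G ⧸ NT)) :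
    ∃ v : G, orderOf v = 2 ∧ v ∉ NT ∧ ((v : G) : G ⧸ NT) = x := by
  have hSE := stronglyEmbedded_normalizer T hnc hnn hC
  have hpos : 0 < Nat.card {i : G // orderOf i = 2 ∧ i • ((1 : G) : G ⧸ NT) = x} := by
    rw [card_invol_swap hSE _ _ (Ne.symm hx)]
    obtain ⟨t, htH, ht2⟩ := exists_invol_of_even_card NT hSE.2.1
    haveI : Nonempty {t : G // orderOf t = 2 ∧ t ∈ NT} := ⟨⟨t, ht2, htH⟩⟩
    exact Nat.card_pos
  obtain ⟨⟨v, hv2, hvg⟩⟩ := (Nat.card_pos_iff.mp hpos).1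
  have hvα : ((v : G) : G ⧸ NT) = x := by
    rw [← hvg, MulAction.Quotient.smul_coe, smul_eq_mul, mul_one]
  refine ⟨v, hv2, ?_, hvα⟩
  intro hvN
  apply hx
  rw [← hvα, QuotientGroup.eq]; simpa using hvN

include hnc hnn hC in
theorem exists_invol_not_mem : ∃ u : G, orderOf u = 2 ∧ u ∉ NT := by
  have hSE := stronglyEmbedded_normalizer T hnc hnn hC
  obtain ⟨g, hg⟩ : ∃ g : G, g ∉ NT := by
    by_contra hcon
    push Not at hcon
    exact hSE.1 (eq_top_iff.mpr fun g _ => hcon g)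
  have hx : ((g : G) : G ⧸ NT) ≠ ((1 : G) : G ⧸ NT) := by
    rw [Ne, QuotientGroup.eq]
    intro h
    apply hg
    simpa using inv_mem h
  obtain ⟨v, hv, hvH, -⟩ := exists_invol_map T hnc hnn hC hx
  exact ⟨v, hv, hvH⟩

omit [Finite G] in
theorem smul_one_coset_of_mem {h : G} (hh : h ∈ NT) :
    h • ((1 : G) : G ⧸ NT) = ((1 : G) : G ⧸ NT) := by
  rw [smul_coset_eq_iff]; simpa using hh

variable (u : G) (hu : orderOf u = 2)
  (huH : u ∉ Subgroup.normalizer ((T : Subgroup G) : Set G))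

omit [Finite G] in
theorem smul_u_coset_of_mem {d : G} (hd : d ∈ NT ⊓ cj u NT) :
    d • ((u : G) : G ⧸ NT) = ((u : G) : G ⧸ NT) := by
  rw [smul_coset_eq_iff]
  have := (Subgroup.mem_inf.mp hd).2
  rwa [mem_cj_iff] at this

include hnc hnn hC hu huH in
/-- `T` is transitive on the points different from `H`. -/
theorem exists_sylow_smul_eq {x : G ⧸ NT} (hx : x ≠ ((1 : G) : G ⧸ NT)) :
    ∃ t ∈ (T : Subgroup G), t • ((u : G) : G ⧸ NT) = x := by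
  obtain ⟨v, hv, hvH, hvx⟩ := exists_invol_map T hnc hnn hC hx
  obtain ⟨t, ht, hconj⟩ := exists_conj_inter_le T hnc hnn hC hu huH hv hvH
  have hfix : ∀ d ∈ NT ⊓ cj u NT, d • ((t * v : G) : G ⧸ NT) = ((t * v : G) : G ⧸ NT) := by
    intro d hd
    have h1 := hconj d hd
    have h2 : (t⁻¹ * d * t) • ((v : G) : G ⧸ NT) = ((v : G) : G ⧸ NT) := by
      rw [smul_coset_eq_iff]
      have := (Subgroup.mem_inf.mp h1).2
      rwa [mem_cj_iff] at this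
    have e : ((t * v : G) : G ⧸ NT) = t • ((v : G) : G ⧸ NT) := by
      rw [MulAction.Quotient.smul_coe, smul_eq_mul]
    rw [e]
    calc d • (t • ((v : G) : G ⧸ NT)) = t • ((t⁻¹ * d * t) • ((v : G) : G ⧸ NT)) := by
          rw [← mul_smul, ← mul_smul]; congr 1; group
      _ = t • ((v : G) : G ⧸ NT) := by rw [h2]
  rcases (fix_iff T hnc hnn hC u hu huH (t * v)).mp hfix with h | h
  · exfalso
    apply hvH
    have h' := QuotientGroup.eq.mp h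
    have e : (t * v)⁻¹ * 1 = v⁻¹ * t⁻¹ := by group
    rw [e] at h'
    have htN : t ∈ NT := Subgroup.le_normalizer ht
    have : v⁻¹ = (v⁻¹ * t⁻¹) * t := by group
    have h2 : v⁻¹ ∈ NT := by rw [this]; exact mul_mem h' htN
    simpa using inv_mem h2
  · refine ⟨t⁻¹, inv_mem ht, ?_⟩
    rw [← hvx, ← h, MulAction.Quotient.smul_coe, smul_eq_mul]
    congr 1; group

include hnc hnn hC in
/-- `T` acts semiregularly off the point `H`. -/
theorem eq_one_of_sylow_fix {t : G} (ht : t ∈ (T : Subgroup G)) {x : G ⧸ NT}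
    (hx : x ≠ ((1 : G) : G ⧸ NT)) (htx : t • x = x) : t = 1 := by
  have hSE := stronglyEmbedded_normalizer T hnc hnn hC
  have hnt := sylow_ne_bot T hnc
  by_contra ht1
  have ht2 : orderOf t = 2 := by
    apply orderOf_two_of_mul_self _ ht1
    rw [← pow_two]; exact sylow_sq hC T hnt t ht
  exact hx (fix_unique hSE ht2 htx (smul_one_coset_of_mem T (Subgroup.le_normalizer ht)))

include hnc hnn hC in
theorem existsUnique_sylow_smul (x y : G ⧸ NT) (hx : x ≠ ((1 : G) : G ⧸ NT))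
    (hy : y ≠ ((1 : G) : G ⧸ NT)) : ∃! t : G, t ∈ (T : Subgroup G) ∧ t • x = y := by
  obtain ⟨u, hu, huH⟩ := exists_invol_not_mem T hnc hnn hC
  obtain ⟨t₁, ht₁, h1⟩ := exists_sylow_smul_eq T hnc hnn hC u hu huH hx
  obtain ⟨t₂, ht₂, h2⟩ := exists_sylow_smul_eq T hnc hnn hC u hu huH hy
  refine ⟨t₂ * t₁⁻¹, ⟨mul_mem ht₂ (inv_mem ht₁), ?_⟩, ?_⟩
  · rw [← h1, ← mul_smul, inv_mul_cancel_right, h2]
  · rintro t' ⟨ht', h'⟩
    have hfix : ((t₂ * t₁⁻¹)⁻¹ * t') • x = x := by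
      rw [mul_smul, h', ← h2, ← mul_smul]
      have : (t₂ * t₁⁻¹)⁻¹ * t₂ = t₁ := by group
      rw [this, h1]
    have := eq_one_of_sylow_fix T hnc hnn hC
      (mul_mem (inv_mem (mul_mem ht₂ (inv_mem ht₁))) ht') hx hfix
    calc t' = (t₂ * t₁⁻¹) * ((t₂ * t₁⁻¹)⁻¹ * t') := by group
      _ = t₂ * t₁⁻¹ := by rw [this, mul_one]

include hnc hnn hC hu huH in
/-- a nonidentity element of `D` fixes no third point -/
theorem eq_one_of_inter_fix {d s : G} (hd : d ∈ NT ⊓ cj u NT) (hs : s ∈ (T : Subgroup G))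
    (hs1 : s ≠ 1) (hfix : d • (s • ((u : G) : G ⧸ NT)) = s • ((u : G) : G ⧸ NT)) : d = 1 := by
  have hsN : s ∈ NT := Subgroup.le_normalizer hs
  have hdN : d ∈ NT := (Subgroup.mem_inf.mp hd).1
  have h1 : s⁻¹ * d * s ∈ NT ⊓ cj u NT := by
    refine Subgroup.mem_inf.mpr ⟨mul_mem (mul_mem (inv_mem hsN) hdN) hsN, ?_⟩
    rw [mem_cj_iff]
    have : (s⁻¹ * d * s) • ((u : G) : G ⧸ NT) = ((u : G) : G ⧸ NT) := by
      rw [mul_smul, mul_smul, hfix, ← mul_smul, inv_mul_cancel, one_smul]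
    rwa [smul_coset_eq_iff] at this
  have h2 : s⁻¹ * d * s * d⁻¹ ∈ (T : Subgroup G) := by
    have : d * s * d⁻¹ ∈ (T : Subgroup G) := (Subgroup.mem_normalizer_iff.mp hdN s).mp hs
    have e : s⁻¹ * d * s * d⁻¹ = s⁻¹ * (d * s * d⁻¹) := by group
    rw [e]; exact mul_mem (inv_mem hs) this
  have h3 : s⁻¹ * d * s * d⁻¹ ∈ (NT ⊓ cj u NT) ⊓ (T : Subgroup G) :=
    Subgroup.mem_inf.mpr ⟨mul_mem h1 (inv_mem hd), h2⟩
  rw [inter_inf_sylow T hnc hnn hC u huH, Subgroup.mem_bot] at h3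
  have hc : d * s = s * d := by
    calc d * s = s * (s⁻¹ * d * s * d⁻¹) * d := by group
      _ = s * d := by rw [h3, mul_one]
  exact eq_one_of_commute T hnc hnn hC hu huH hd hs hs1 hc

include hnc hnn hC hu huH in
/-- normal form for triples of distinct points -/
theorem exists_normalize {t₀ : G} (ht₀ : t₀ ∈ (T : Subgroup G)) (ht₀2 : orderOf t₀ = 2)
    (x₁ x₂ x₃ : G ⧸ NT) (h12 : x₁ ≠ x₂) (h13 : x₁ ≠ x₃) (h23 : x₂ ≠ x₃) :
    ∃ g : G, g • x₁ = ((1 : G) : G ⧸ NT) ∧ g • x₂ = ((u : G) : G ⧸ NT) ∧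
      g • x₃ = t₀ • ((u : G) : G ⧸ NT) := by
  have hSE := stronglyEmbedded_normalizer T hnc hnn hC
  have hnt := sylow_ne_bot T hnc
  obtain ⟨g₁, hg₁⟩ : ∃ g₁ : G, g₁ • x₁ = ((1 : G) : G ⧸ NT) := by
    induction x₁ using QuotientGroup.induction_on with | _ a => ?_
    exact ⟨a⁻¹, by rw [MulAction.Quotient.smul_coe, smul_eq_mul, inv_mul_cancel]⟩
  have hx₂ : g₁ • x₂ ≠ ((1 : G) : G ⧸ NT) := by
    rw [← hg₁]; intro h; exact h12 (MulAction.injective g₁ h).symm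
  obtain ⟨t, ht, htx⟩ := exists_sylow_smul_eq T hnc hnn hC u hu huH hx₂
  have htN : t ∈ NT := Subgroup.le_normalizer ht
  have h2 : t⁻¹ • (g₁ • x₂) = ((u : G) : G ⧸ NT) := by rw [← htx, inv_smul_smul]
  have h1 : t⁻¹ • (g₁ • x₁) = ((1 : G) : G ⧸ NT) := by
    rw [hg₁]; exact smul_one_coset_of_mem T (inv_mem htN)
  have hx₃a : t⁻¹ • (g₁ • x₃) ≠ ((1 : G) : G ⧸ NT) := by
    rw [← h1]; intro h
    exact h13 (MulAction.injective g₁ (MulAction.injective t⁻¹ h)).symm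
  have hx₃b : t⁻¹ • (g₁ • x₃) ≠ ((u : G) : G ⧸ NT) := by
    rw [← h2]; intro h
    exact h23 (MulAction.injective g₁ (MulAction.injective t⁻¹ h)).symm
  obtain ⟨s, hs, hsx⟩ := exists_sylow_smul_eq T hnc hnn hC u hu huH hx₃a
  have hs1 : s ≠ 1 := by
    intro h
    rw [h, one_smul] at hsx
    exact hx₃b hsx.symm
  have hs2 : orderOf s = 2 := by
    apply orderOf_two_of_mul_self _ hs1
    rw [← pow_two]; exact sylow_sq hC T hnt s hs
  obtain ⟨d, hd, hds⟩ := invol_conj_in_inter hSE hu huH hs2 (Subgroup.le_normalizer hs) ht₀2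
    (Subgroup.le_normalizer ht₀)
  have hdα := smul_one_coset_of_mem T (Subgroup.mem_inf.mp hd).1
  have hdβ := smul_u_coset_of_mem T u hd
  refine ⟨d * t⁻¹ * g₁, ?_, ?_, ?_⟩
  · rw [mul_smul, mul_smul, h1, hdα]
  · rw [mul_smul, mul_smul, h2, hdβ]
  · rw [mul_smul, mul_smul, ← hsx, ← hds]
    calc d • (s • ((u : G) : G ⧸ NT)) = (d * s * d⁻¹) • (d • ((u : G) : G ⧸ NT)) := by
          rw [← mul_smul, ← mul_smul]; congr 1; group
      _ = (d * s * d⁻¹) • ((u : G) : G ⧸ NT) := by rw [hdβ]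

include hnc hnn hC in
theorem triply_transitive (x₁ x₂ x₃ y₁ y₂ y₃ : G ⧸ NT) (h12 : x₁ ≠ x₂) (h13 : x₁ ≠ x₃)
    (h23 : x₂ ≠ x₃) (k12 : y₁ ≠ y₂) (k13 : y₁ ≠ y₃) (k23 : y₂ ≠ y₃) :
    ∃ g : G, g • x₁ = y₁ ∧ g • x₂ = y₂ ∧ g • x₃ = y₃ := by
  have hnt := sylow_ne_bot T hnc
  obtain ⟨u, hu, huH⟩ := exists_invol_not_mem T hnc hnn hC
  obtain ⟨t₀, ht₀, ht₀2⟩ := exists_invol_sylow T hnt
  obtain ⟨g, hg1, hg2, hg3⟩ := exists_normalize T hnc hnn hC u hu huH ht₀ ht₀2 x₁ x₂ x₃ h12 h13 h23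
  obtain ⟨k, hk1, hk2, hk3⟩ := exists_normalize T hnc hnn hC u hu huH ht₀ ht₀2 y₁ y₂ y₃ k12 k13 k23
  refine ⟨k⁻¹ * g, ?_, ?_, ?_⟩
  · rw [mul_smul, hg1, ← hk1, inv_smul_smul]
  · rw [mul_smul, hg2, ← hk2, inv_smul_smul]
  · rw [mul_smul, hg3, ← hk3, inv_smul_smul]

include hnc hnn hC in
theorem eq_one_of_fix_three (g : G) (x₁ x₂ x₃ : G ⧸ NT) (h12 : x₁ ≠ x₂) (h13 : x₁ ≠ x₃)
    (h23 : x₂ ≠ x₃) (f1 : g • x₁ = x₁) (f2 : g • x₂ = x₂) (f3 : g • x₃ = x₃) : g = 1 := by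
  have hnt := sylow_ne_bot T hnc
  obtain ⟨u, hu, huH⟩ := exists_invol_not_mem T hnc hnn hC
  obtain ⟨t₀, ht₀, ht₀2⟩ := exists_invol_sylow T hnt
  obtain ⟨k, hk1, hk2, hk3⟩ := exists_normalize T hnc hnn hC u hu huH ht₀ ht₀2 x₁ x₂ x₃ h12 h13 h23
  have e1 : (k * g * k⁻¹) • ((1 : G) : G ⧸ NT) = ((1 : G) : G ⧸ NT) := by
    rw [← hk1, mul_smul, inv_smul_smul, mul_smul, f1]
  have e2 : (k * g * k⁻¹) • ((u : G) : G ⧸ NT) = ((u : G) : G ⧸ NT) := by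
    rw [← hk2, mul_smul, inv_smul_smul, mul_smul, f2]
  have e3 : (k * g * k⁻¹) • (t₀ • ((u : G) : G ⧸ NT)) = t₀ • ((u : G) : G ⧸ NT) := by
    rw [← hk3, mul_smul, inv_smul_smul, mul_smul, f3]
  have hd : k * g * k⁻¹ ∈ NT ⊓ cj u NT := by
    refine Subgroup.mem_inf.mpr ⟨?_, ?_⟩
    · rw [smul_coset_eq_iff] at e1; simpa using e1
    · rw [mem_cj_iff]; rwa [smul_coset_eq_iff] at e2
  have h := eq_one_of_inter_fix T hnc hnn hC u hu huH hd ht₀ (ne_one_of_orderOf_two ht₀2) e3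
  calc g = k⁻¹ * (k * g * k⁻¹) * k := by group
    _ = 1 := by rw [h]; group

end main

end Cfsg.Agent.Helper2.CIT
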