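import Mathlib
import Cfsg.Agent.Helper6.TIFrob6
import Cfsg.Agent.Helper6.TIFrob3

/-!
# Abelian T.I. subgroups with Frobenius normalizer: the normalizer side

For an abelian subgroup `K` containing the centralizers of its nonidentity elements, the
irreducible characters of `N = N_G(K)` not containing `K` in their kernel (the relevant
characters) all have degree `e = |N : K|`, vanish off `K`, and satisfy the usual sum rules on
the nonidentity elements of `K`.
-/

set_option autoImplicit false
set_option linter.style.haveILetI false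

namespace Cfsg.Agent.Helper2.BrTI

open Cfsg.Agent.Helper6
open scoped ComplexConjugate

universe u

variable {G : Type u} [Group G] (K : Subgroup G)

local notation "NK" => Subgroup.normalizer (K : Set G)

/-- the relevant characters of the normalizer, as a subtype -/
abbrev Rel : Type u := {χ : Cfsg.IrrCharacter NK //
  ∃ k : NK, (k : G) ∈ K ∧ (χ : NK → ℂ) k ≠ (χ : NK → ℂ) 1}

variable [Fintype G]

/-- a relevant character vanishes off `K` and has degree `e` -/
theorem rel_data (hC : ∀ k ∈ K, k ≠ 1 → Subgroup.centralizer ({k} : Set G) ≤ K)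
    (hab : ∀ a ∈ K, ∀ b ∈ K, a * b = b * a) (η : NK → ℂ) (hη : Cfsg.IsIrrCharacter NK η)
    (hrel : ∃ k : NK, (k : G) ∈ K ∧ η k ≠ η 1) :
    (∀ x : NK, (x : G) ∉ K → η x = 0) ∧ η 1 = ((K.subgroupOf NK).index : ℂ) := by
  classical
  haveI : Fintype NK := Fintype.ofFinite _
  have hfree := tifrob_free K hC
  have habn : ∀ a b : K.subgroupOf NK, a * b = b * a := by
    intro a b
    apply Subtype.ext
    apply Subtype.ext
    exact hab _ (Subgroup.mem_subgroupOf.mp a.2) _ (Subgroup.mem_subgroupOf.mp b.2)
  obtain ⟨k, hk, hne⟩ := hrel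
  obtain ⟨φ, hφ, hφ1, heq⟩ := irr_eq_ind_of_free (K.subgroupOf NK) hfree η hη
    ⟨k, Subgroup.mem_subgroupOf.mpr hk, hne⟩
  constructor
  · intro x hx
    rw [heq]
    exact indFun_normal_apply_off _ φ x (fun h => hx (Subgroup.mem_subgroupOf.mp h))
  · rw [heq, indFun_apply_one]
    have hdeg1 := (comm_iff_forall_irr_degree_one (G := K.subgroupOf NK)).mp habn ⟨φ, hφ⟩
    simp only at hdeg1
    rw [hdeg1, mul_one]

end Cfsg.Agent.Helper2.BrTI
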