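import Mathlib
import Cfsg.Agent.Helper2.BrTIA

/-!
# Abelian T.I. subgroups with Frobenius normalizer: sum rules in the normalizer
-/

set_option autoImplicit false
set_option linter.style.haveILetI false

namespace Cfsg.Agent.Helper2.BrTI

open Cfsg.Agent.Helper6
open scoped ComplexConjugate

universe u

variable {G : Type u} [Group G] (K : Subgroup G)

local notation "NK" => Subgroup.normalizer (K : Set G)

variable [Fintype G]

/-- the centralizer in the normalizer of a nonidentity element of `K` is `K` -/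
theorem centralizer_in_normalizer (hC : ∀ k ∈ K, k ≠ 1 → Subgroup.centralizer ({k} : Set G) ≤ K)
    (hab : ∀ a ∈ K, ∀ b ∈ K, a * b = b * a) (k : NK) (hkK : (k : G) ∈ K) (hk1 : k ≠ 1) :
    Subgroup.centralizer ({k} : Set NK) = K.subgroupOf NK := by
  ext x
  rw [Subgroup.mem_centralizer_iff, Subgroup.mem_subgroupOf]
  constructor
  · intro h
    have hk1' : (k : G) ≠ 1 := fun h => hk1 (Subtype.ext h)
    apply hC (k : G) hkK hk1'
    rw [Subgroup.mem_centralizer_iff]
    intro y hy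
    rw [Set.mem_singleton_iff] at hy
    subst hy
    have := h k rfl
    exact congrArg Subtype.val this
  · intro hx y hy
    rw [Set.mem_singleton_iff] at hy
    subst hy
    apply Subtype.ext
    exact hab _ hkK _ hx

/-- the centralizer in `G` of a nonidentity element of `K` is `K` -/
theorem centralizer_eq (hC : ∀ k ∈ K, k ≠ 1 → Subgroup.centralizer ({k} : Set G) ≤ K)
    (hab : ∀ a ∈ K, ∀ b ∈ K, a * b = b * a) (k : G) (hkK : k ∈ K) (hk1 : k ≠ 1) :
    Subgroup.centralizer ({k} : Set G) = K := by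
  apply le_antisymm (hC k hkK hk1)
  intro x hx
  rw [Subgroup.mem_centralizer_iff]
  intro y hy
  rw [Set.mem_singleton_iff] at hy
  subst hy
  exact hab _ hkK _ hx

theorem card_subgroupOf_normalizer : Nat.card (K.subgroupOf NK) = Nat.card K :=
  Nat.card_congr (Subgroup.subgroupOfEquivOfLe Subgroup.le_normalizer).toEquiv

section NSide


/-- splitting a sum over the irreducible characters of the normalizer -/
theorem sum_split [Fintype ↥NK] [Fintype (Cfsg.IrrCharacter ↥NK)] [Fintype (Rel K)]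
    (F : Cfsg.IrrCharacter NK → ℂ)
    [DecidablePred fun χ : Cfsg.IrrCharacter NK => ∀ n ∈ K.subgroupOf NK, (χ : NK → ℂ) n =
      (χ : NK → ℂ) 1] :
    ∑ χ, F χ = ∑ η : Rel K, F η.1 +
      ∑ χ ∈ Finset.univ.filter (fun χ : Cfsg.IrrCharacter NK => ∀ n ∈ K.subgroupOf NK,
        (χ : NK → ℂ) n = (χ : NK → ℂ) 1), F χ := by
  classical
  rw [← Finset.sum_filter_add_sum_filter_not Finset.univ
    (fun χ : Cfsg.IrrCharacter NK => ∃ k : NK, (k : G) ∈ K ∧ (χ : NK → ℂ) k ≠ (χ : NK → ℂ) 1) F]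
  congr 1
  · rw [Finset.sum_subtype (Finset.univ.filter
      (fun χ : Cfsg.IrrCharacter NK => ∃ k : NK, (k : G) ∈ K ∧ (χ : NK → ℂ) k ≠ (χ : NK → ℂ) 1))
      (p := fun χ : Cfsg.IrrCharacter NK => ∃ k : NK, (k : G) ∈ K ∧
        (χ : NK → ℂ) k ≠ (χ : NK → ℂ) 1)
      (fun x => by
        rw [Finset.mem_filter]
        exact ⟨fun h => h.2, fun h => ⟨Finset.mem_univ _, h⟩⟩) F]
  · apply Finset.sum_congr _ (fun _ _ => rfl)
    ext χ
    simp only [Finset.mem_filter, Finset.mem_univ, true_and, not_exists, not_and, not_not]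
    constructor
    · intro h n hn
      exact h n (Subgroup.mem_subgroupOf.mp hn)
    · intro h n hn
      exact h n (Subgroup.mem_subgroupOf.mpr hn)

set_option maxHeartbeats 800000 in
theorem nside [Fintype ↥NK] [Fintype (Cfsg.IrrCharacter ↥NK)] [Fintype (Rel K)] (hC : ∀ k ∈ K, k ≠ 1 → Subgroup.centralizer ({k} : Set G) ≤ K)
    (hab : ∀ a ∈ K, ∀ b ∈ K, a * b = b * a) (k : NK) (hkK : (k : G) ∈ K) (hk1 : k ≠ 1) :
    ∑ η : Rel K, (η.1 : NK → ℂ) k = -1 ∧
    ∑ η : Rel K, (η.1 : NK → ℂ) k * conj ((η.1 : NK → ℂ) k) =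
      (Nat.card K : ℂ) - ((K.subgroupOf NK).index : ℂ) ∧
    Nat.card (Rel K) * (K.subgroupOf NK).index + 1 = Nat.card K := by
  classical
  set e : ℕ := (K.subgroupOf NK).index with he
  have hepos : 0 < e := Nat.pos_of_ne_zero Subgroup.index_ne_zero_of_finite
  have heC : (e : ℂ) ≠ 0 := by exact_mod_cast hepos.ne'
  have hKn : (K.subgroupOf NK).Normal := Subgroup.normal_in_normalizer
  -- nonrelevant characters
  have hnonrel : ∑ χ ∈ Finset.univ.filter (fun χ : Cfsg.IrrCharacter NK =>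
      ∀ n ∈ K.subgroupOf NK, (χ : NK → ℂ) n = (χ : NK → ℂ) 1),
      ((χ : NK → ℂ) 1) ^ 2 = (e : ℂ) := by
    have h := sum_sq_degrees_of_le_ker (G := NK) (K.subgroupOf NK)
    have h2 := congrArg (fun n : ℕ => (n : ℂ)) h
    simp only [Nat.cast_sum, Nat.cast_pow] at h2
    rw [← h2]
    apply Finset.sum_congr rfl
    intro χ _
    rw [charDegree_cast_of_isCharacter (IsIrrCharacter.isCharacter χ.2)]
  have hdegconj : ∀ χ : Cfsg.IrrCharacter NK, conj ((χ : NK → ℂ) 1) = (χ : NK → ℂ) 1 := by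
    intro χ
    obtain ⟨n, hn⟩ := IsCharacter.apply_one (IsIrrCharacter.isCharacter χ.2)
    rw [hn, Complex.conj_natCast]
  have hreldeg : ∀ η : Rel K, (η.1 : NK → ℂ) 1 = (e : ℂ) := fun η =>
    (rel_data K hC hab _ η.1.2 η.2).2
  -- first column
  have h1 := column_orthogonality_aux (G := NK) (1 : NK) k
  rw [if_neg (by rw [isConj_one_right]; exact hk1)] at h1
  rw [sum_split K] at h1
  have h1b : ∑ χ ∈ Finset.univ.filter (fun χ : Cfsg.IrrCharacter NK =>
      ∀ n ∈ K.subgroupOf NK, (χ : NK → ℂ) n = (χ : NK → ℂ) 1),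
      (χ : NK → ℂ) 1 * conj ((χ : NK → ℂ) k) = (e : ℂ) := by
    rw [← hnonrel]
    apply Finset.sum_congr rfl
    intro χ hχ
    rw [Finset.mem_filter] at hχ
    rw [hχ.2 k (Subgroup.mem_subgroupOf.mpr hkK), hdegconj, sq]
  rw [h1b] at h1
  have h1a : ∑ η : Rel K, (η.1 : NK → ℂ) 1 * conj ((η.1 : NK → ℂ) k) =
      (e : ℂ) * conj (∑ η : Rel K, (η.1 : NK → ℂ) k) := by
    rw [map_sum, Finset.mul_sum]
    apply Finset.sum_congr rfl
    intro η _
    rw [hreldeg]
  rw [h1a] at h1
  have hsum1 : ∑ η : Rel K, (η.1 : NK → ℂ) k = -1 := by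
    have h2 : conj (∑ η : Rel K, (η.1 : NK → ℂ) k) = -1 := by
      have : (e : ℂ) * (conj (∑ η : Rel K, (η.1 : NK → ℂ) k) + 1) = 0 := by
        rw [mul_add, mul_one]
        exact h1
      rcases mul_eq_zero.mp this with h | h
      · exact absurd h heC
      · linear_combination h
    have h3 := congrArg conj h2
    rw [Complex.conj_conj] at h3
    rw [h3]
    simp
  -- the diagonal
  have h2 := column_orthogonality_aux (G := NK) k k
  rw [if_pos (IsConj.refl k), centralizer_in_normalizer K hC hab k hkK hk1,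
    card_subgroupOf_normalizer, sum_split K] at h2
  have h2b : ∑ χ ∈ Finset.univ.filter (fun χ : Cfsg.IrrCharacter NK =>
      ∀ n ∈ K.subgroupOf NK, (χ : NK → ℂ) n = (χ : NK → ℂ) 1),
      (χ : NK → ℂ) k * conj ((χ : NK → ℂ) k) = (e : ℂ) := by
    rw [← hnonrel]
    apply Finset.sum_congr rfl
    intro χ hχ
    rw [Finset.mem_filter] at hχ
    rw [hχ.2 k (Subgroup.mem_subgroupOf.mpr hkK), hdegconj, sq]
  rw [h2b] at h2
  -- the degrees
  have h3 := sum_sq_degrees (G := NK)
  rw [sum_split K, hnonrel] at h3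
  have h3a : ∑ η : Rel K, ((η.1 : NK → ℂ) 1) ^ 2 = (Nat.card (Rel K) : ℂ) * (e : ℂ) ^ 2 := by
    rw [Finset.sum_congr rfl (fun η _ => by rw [hreldeg η])]
    rw [Finset.sum_const, Finset.card_univ, nsmul_eq_mul, Nat.card_eq_fintype_card]
  rw [h3a] at h3
  have hcardN : Nat.card NK = e * Nat.card K := by
    rw [← card_subgroupOf_normalizer K, he, mul_comm]
    exact (Subgroup.card_mul_index (K.subgroupOf NK)).symm
  refine ⟨hsum1, by linear_combination h2, ?_⟩
  rw [hcardN] at h3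
  have h4 : Nat.card (Rel K) * e ^ 2 + e = e * Nat.card K := by exact_mod_cast h3
  have h5 : e * (Nat.card (Rel K) * e + 1) = e * Nat.card K := by
    rw [← h4]; ring
  exact Nat.eq_of_mul_eq_mul_left hepos h5

end NSide

end Cfsg.Agent.Helper2.BrTI
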