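import Mathlib
import Cfsg.Agent.Helper2.BrTIB

/-!
# Abelian T.I. subgroups with Frobenius normalizer: the exceptional characters
-/

set_option autoImplicit false
set_option linter.style.haveILetI false

namespace Cfsg.Agent.Helper2.BrTI

open Cfsg.Agent.Helper6
open scoped ComplexConjugate

universe u

variable {G : Type u} [Group G] (K : Subgroup G)

local notation "NK" => Subgroup.normalizer (K : Set G)

variable [Fintype G]

/-- the data of the exceptional characters -/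
structure Data : Type u where
  hTI : ∀ g : G, g ∉ NK → ∀ k ∈ K, g * k * g⁻¹ ∈ K → k = 1
  hC : ∀ k ∈ K, k ≠ 1 → Subgroup.centralizer ({k} : Set G) ≤ K
  hab : ∀ a ∈ K, ∀ b ∈ K, a * b = b * a
  ε : ℂ
  hε : ε = 1 ∨ ε = -1
  f : Rel K → Cfsg.IrrCharacter G
  hf : Function.Injective f
  hind : ∀ χ ξ : Rel K, Cfsg.indFun NK ((χ.1 : ↥NK → ℂ) - (ξ.1 : ↥NK → ℂ)) =
    ε • ((f χ : G → ℂ) - (f ξ : G → ℂ))

variable {K}

namespace Data

variable (D : Data K)

theorem eps_sq : D.ε * D.ε = 1 := by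
  rcases D.hε with h | h <;> rw [h] <;> norm_num

theorem eps_conj : conj D.ε = D.ε := by
  rcases D.hε with h | h <;> rw [h] <;> simp

/-- differences of exceptional characters on the normalizer -/
theorem diff_apply (η ξ : Rel K) (x : ↥NK) :
    ((D.f η : G → ℂ) x - (D.f ξ : G → ℂ) x) =
      D.ε * ((η.1 : ↥NK → ℂ) x - (ξ.1 : ↥NK → ℂ) x) := by
  have hη := rel_data K D.hC D.hab _ η.1.2 η.2
  have hξ := rel_data K D.hC D.hab _ ξ.1.2 ξ.2
  have hcf : Cfsg.IsClassFunction ↥NK ((η.1 : ↥NK → ℂ) - (ξ.1 : ↥NK → ℂ)) := by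
    intro g h
    simp only [Pi.sub_apply]
    rw [IsCharacter.isClassFunction (IsIrrCharacter.isCharacter η.1.2) g h,
      IsCharacter.isClassFunction (IsIrrCharacter.isCharacter ξ.1.2) g h]
  have h1 := tifrob_indFun_restrict K D.hTI D.hC ((η.1 : ↥NK → ℂ) - (ξ.1 : ↥NK → ℂ)) hcf
    (fun x hx => by simp only [Pi.sub_apply]; rw [hη.1 x hx, hξ.1 x hx, sub_zero])
    (by simp only [Pi.sub_apply]; rw [hη.2, hξ.2, sub_self]) x
  rw [D.hind η ξ] at h1
  simp only [Pi.smul_apply, Pi.sub_apply, smul_eq_mul] at h1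
  calc ((D.f η : G → ℂ) x - (D.f ξ : G → ℂ) x)
      = (D.ε * D.ε) * ((D.f η : G → ℂ) x - (D.f ξ : G → ℂ) x) := by rw [D.eps_sq, one_mul]
    _ = D.ε * (D.ε * ((D.f η : G → ℂ) x - (D.f ξ : G → ℂ) x)) := by ring
    _ = _ := by rw [h1]

/-- the exceptional characters have the same degree -/
theorem deg_eq (η ξ : Rel K) : (D.f η : G → ℂ) 1 = (D.f ξ : G → ℂ) 1 := by
  have h := D.diff_apply η ξ 1
  have hη := rel_data K D.hC D.hab _ η.1.2 η.2
  have hξ := rel_data K D.hC D.hab _ ξ.1.2 ξ.2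
  rw [hη.2, hξ.2, sub_self, mul_zero] at h
  have h2 : (D.f η : G → ℂ) ((1 : ↥NK) : G) = (D.f ξ : G → ℂ) ((1 : ↥NK) : G) := by
    linear_combination h
  simpa using h2

open Classical in
theorem inner_f (a b : Rel K) :
    Cfsg.classInner (D.f a : G → ℂ) (D.f b : G → ℂ) = if a = b then 1 else 0 := by
  split_ifs with h
  · rw [h]
    exact classInner_irr_self (D.f b).2
  · apply classInner_irr_ne (D.f a).2 (D.f b).2
    intro h2
    exact h (D.hf (Subtype.ext h2))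

omit [Fintype G] in
open Classical in
theorem inner_rel [Fintype ↥NK] (a b : Rel K) :
    Cfsg.classInner (a.1 : ↥NK → ℂ) (b.1 : ↥NK → ℂ) = if a = b then 1 else 0 := by
  split_ifs with h
  · rw [h]
    exact classInner_irr_self b.1.2
  · apply classInner_irr_ne a.1.2 b.1.2
    intro h2
    exact h (Subtype.ext (Subtype.ext h2))

include D in
/-- the combination used in `tifrob_core` -/
theorem combo (a b : Rel K) :
    ((b.1 : ↥NK → ℂ) 1) • (a.1 : ↥NK → ℂ) - ((a.1 : ↥NK → ℂ) 1) • (b.1 : ↥NK → ℂ) =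
      (((K.subgroupOf NK).index : ℂ)) • ((a.1 : ↥NK → ℂ) - (b.1 : ↥NK → ℂ)) := by
  rw [(rel_data K D.hC D.hab _ a.1.2 a.2).2, (rel_data K D.hC D.hab _ b.1.2 b.2).2, smul_sub]

/-- an exceptional character minus the corresponding relevant character is constant on the
nonidentity elements of `K` -/
theorem exc_const [Fintype ↥NK] (η₀ : Rel K) :
    ∃ c : ℂ, ∀ k : ↥NK, (k : G) ∈ K → k ≠ 1 →
      (D.f η₀ : G → ℂ) k - D.ε * (η₀.1 : ↥NK → ℂ) k = c := by
  have h := tifrob_core K D.hC (D.f η₀ : G → ℂ)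
    (IsCharacter.isClassFunction (IsIrrCharacter.isCharacter (D.f η₀).2))
    (D.ε • (η₀.1 : ↥NK → ℂ)) (by
      intro g h
      simp only [Pi.smul_apply]
      rw [IsCharacter.isClassFunction (IsIrrCharacter.isCharacter η₀.1.2) g h]) (by
      intro η η' hη hη' hr hr'
      have e1 := D.combo ⟨⟨η, hη⟩, hr⟩ ⟨⟨η', hη'⟩, hr'⟩
      simp only at e1
      rw [e1, indFun_smul, D.hind ⟨⟨η, hη⟩, hr⟩ ⟨⟨η', hη'⟩, hr'⟩]
      rw [classInner_smul_left, classInner_smul_left, classInner_sub_left, D.inner_f, D.inner_f,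
        classInner_smul_left, classInner_smul_right, classInner_sub_left,
        (inner_rel ⟨⟨η, hη⟩, hr⟩ η₀ : Cfsg.classInner η (η₀.1 : ↥NK → ℂ) = _),
        (inner_rel ⟨⟨η', hη'⟩, hr'⟩ η₀ : Cfsg.classInner η' (η₀.1 : ↥NK → ℂ) = _), D.eps_conj]
      ring)
  obtain ⟨c, hc⟩ := h
  exact ⟨c, fun k hk hk1 => by simpa using hc k hk hk1⟩

/-- a nonexceptional character is constant on the nonidentity elements of `K` -/
theorem nonexc_const [Fintype ↥NK] (χ : Cfsg.IrrCharacter G) (hχ : ∀ η : Rel K, D.f η ≠ χ) :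
    ∃ c : ℂ, ∀ k : ↥NK, (k : G) ∈ K → k ≠ 1 → (χ : G → ℂ) k = c := by
  have h := tifrob_core K D.hC (χ : G → ℂ)
    (IsCharacter.isClassFunction (IsIrrCharacter.isCharacter χ.2))
    (0 : ↥NK → ℂ) (by intro g h; rfl) (by
      intro η η' hη hη' hr hr'
      have e1 := D.combo ⟨⟨η, hη⟩, hr⟩ ⟨⟨η', hη'⟩, hr'⟩
      simp only at e1
      rw [e1, indFun_smul, D.hind ⟨⟨η, hη⟩, hr⟩ ⟨⟨η', hη'⟩, hr'⟩]
      rw [classInner_smul_left, classInner_smul_left, classInner_sub_left,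
        classInner_irr_ne (D.f _).2 χ.2 (fun h => hχ _ (Subtype.ext h)),
        classInner_irr_ne (D.f _).2 χ.2 (fun h => hχ _ (Subtype.ext h)),
        classInner_zero_right]
      ring)
  obtain ⟨c, hc⟩ := h
  exact ⟨c, fun k hk hk1 => by simpa using hc k hk hk1⟩

end Data

end Cfsg.Agent.Helper2.BrTI
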