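import Mathlib
import Cfsg.Agent.Helper2.BrTIC

/-!
# Abelian T.I. subgroups with Frobenius normalizer: integrality of the constants
-/

set_option autoImplicit false
set_option linter.style.haveILetI false

namespace Cfsg.Agent.Helper2.BrTI

open Cfsg.Agent.Helper6
open scoped ComplexConjugate

universe u

variable {G : Type u} [Group G] (K : Subgroup G)

local notation "NK" => Subgroup.normalizer (K : Set G)

variable [Fintype G]

set_option maxHeartbeats 800000 in
/-- a character of `G` which differs on the nonidentity elements of `K` from an integer multiple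
of a character of the normalizer by a constant: the constant is an integer, and a congruence -/
theorem const_int [Fintype ↥NK] (hK2 : 2 ≤ Nat.card K) {ψ : G → ℂ}
    (hψ : Cfsg.IsCharacter G ψ) {φ : ↥NK → ℂ} (hφ : Cfsg.IsCharacter ↥NK φ) (s : ℤ) (c : ℂ)
    (h : ∀ k : ↥NK, (k : G) ∈ K → k ≠ 1 → ψ k - (s : ℂ) * φ k = c) :
    ∃ z : ℤ, c = z ∧
      (Nat.card K : ℤ) ∣ (Cfsg.charDegree ψ : ℤ) - s * (Cfsg.charDegree φ : ℤ) - z := by
  classical
  set K' : Subgroup ↥NK := K.subgroupOf NK with hK'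
  haveI : Fintype K' := Fintype.ofFinite K'
  have hcard : Nat.card K' = Nat.card K := card_subgroupOf_normalizer K
  set ψ' : K' → ℂ := fun k => ψ ((k : ↥NK) : G) with hψ'
  set φ' : K' → ℂ := fun k => φ (k : ↥NK) with hφ'
  have hψ'c : Cfsg.IsCharacter K' ψ' :=
    IsCharacter.comp_hom ((Subgroup.subtype NK).comp (Subgroup.subtype K')) hψ
  have hφ'c : Cfsg.IsCharacter K' φ' := IsCharacter.restrict K' hφ
  obtain ⟨n₁, hn₁⟩ := sum_char_eq_card_mul hψ'c
  obtain ⟨n₂, hn₂⟩ := sum_char_eq_card_mul hφ'c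
  rw [hcard] at hn₁ hn₂
  have hval : ∀ k : K', k ≠ 1 → ψ' k = (s : ℂ) * φ' k + c := by
    intro k hk
    have := h (k : ↥NK) (Subgroup.mem_subgroupOf.mp k.2) (fun h1 => hk (Subtype.ext h1))
    simp only [hψ', hφ']
    linear_combination this
  have hdψ : ψ 1 = (Cfsg.charDegree ψ : ℂ) := (charDegree_cast_of_isCharacter hψ).symm
  have hdφ : φ 1 = (Cfsg.charDegree φ : ℂ) := (charDegree_cast_of_isCharacter hφ).symm
  have hψ'1 : ψ' 1 = (Cfsg.charDegree ψ : ℂ) := by
    simp only [hψ']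
    rw [← hdψ]
    simp
  have hφ'1 : φ' 1 = (Cfsg.charDegree φ : ℂ) := by
    simp only [hφ']
    rw [← hdφ]
    simp
  have hcard1 : (Finset.univ.erase (1 : K')).card = Nat.card K - 1 := by
    rw [Finset.card_erase_of_mem (Finset.mem_univ _), Finset.card_univ,
      ← Nat.card_eq_fintype_card, hcard]
  have hsumψ : ∑ k : K', ψ' k = ψ' 1 + ((s : ℂ) * (∑ k : K', φ' k - φ' 1) +
      ((Nat.card K - 1 : ℕ) : ℂ) * c) := by
    rw [← Finset.add_sum_erase Finset.univ ψ' (Finset.mem_univ (1 : K'))]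
    congr 1
    rw [← Finset.add_sum_erase Finset.univ φ' (Finset.mem_univ (1 : K'))]
    rw [add_sub_cancel_left, Finset.mul_sum, ← hcard1, ← nsmul_eq_mul, ← Finset.sum_const,
      ← Finset.sum_add_distrib]
    apply Finset.sum_congr rfl
    intro k hk
    exact hval k (Finset.ne_of_mem_erase hk)
  rw [hn₁, hn₂, hψ'1, hφ'1] at hsumψ
  set a : ℤ := (Nat.card K : ℤ) * n₁ - (Cfsg.charDegree ψ : ℤ) -
    s * ((Nat.card K : ℤ) * n₂ - (Cfsg.charDegree φ : ℤ)) with ha
  have haC : (a : ℂ) = ((Nat.card K - 1 : ℕ) : ℂ) * c := by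
    rw [ha]
    push_cast
    linear_combination hsumψ
  -- a nonidentity element of `K`
  obtain ⟨k₀, hk₀⟩ : ∃ k₀ : K', k₀ ≠ 1 := by
    have h1 : 1 < Nat.card K' := by rw [hcard]; omega
    haveI : Nontrivial K' := (Finite.one_lt_card_iff_nontrivial).mp h1
    exact exists_ne 1
  have hcint : IsIntegral ℤ c := by
    have h1 := hval k₀ hk₀
    have h2 : c = ψ' k₀ - (s : ℂ) * φ' k₀ := by linear_combination -h1
    rw [h2]
    apply IsIntegral.sub
    · exact IsCharacter.isIntegral_value hψ'c k₀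
    · apply IsIntegral.mul
      · exact isIntegral_algebraMap (R := ℤ) (A := ℂ) (x := s)
      · exact IsCharacter.isIntegral_value hφ'c k₀
  have hne : Nat.card K - 1 ≠ 0 := by omega
  obtain ⟨z, hz⟩ := int_dvd_of_isIntegral a (Nat.card K - 1) hne c hcint haC
  have hneC : ((Nat.card K - 1 : ℕ) : ℂ) ≠ 0 := by exact_mod_cast hne
  have hcz : c = z := by
    have h1 : ((Nat.card K - 1 : ℕ) : ℂ) * c = ((Nat.card K - 1 : ℕ) : ℂ) * z := by
      rw [← haC, hz]
      push_cast
      ring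
    exact mul_left_cancel₀ hneC h1
  refine ⟨z, hcz, ⟨(n₁ : ℤ) - s * n₂ - z, ?_⟩⟩
  have h1 : ((Nat.card K - 1 : ℕ) : ℤ) = (Nat.card K : ℤ) - 1 := by
    rw [Nat.cast_sub (by omega)]
    simp
  rw [h1] at hz
  rw [ha] at hz
  linear_combination -hz

end Cfsg.Agent.Helper2.BrTI
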