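import Mathlib
import Cfsg.Agent.Helper2.BrTIE

/-!
# Abelian T.I. subgroups with Frobenius normalizer: the general relations

The relations of `BrTI.Data.main2` without the hypothesis that there are many relevant characters:
the exceptional characters are only determined up to an integer shift `m`.
-/

set_option autoImplicit false
set_option linter.style.haveILetI false

namespace Cfsg.Agent.Helper2.M11

open Cfsg.Agent.Helper6 Cfsg.Agent.Helper2.BrTI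
open scoped ComplexConjugate

universe u

variable {G : Type u} [Group G] {K : Subgroup G}

local notation "NK" => Subgroup.normalizer (K : Set G)

variable [Fintype G]

set_option maxHeartbeats 3200000 in
/-- the values of the irreducible characters on the nonidentity elements of `K`, with the shift -/
theorem data_main3 (D : Data K) [Fintype ↥NK] [Fintype (Cfsg.IrrCharacter ↥NK)] [Fintype (Rel K)]
    [Fintype (Cfsg.IrrCharacter G)] (e : ℕ) (he : (K.subgroupOf NK).index = e)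
    (ht1 : 1 < Nat.card (Rel K)) (hK2 : 2 ≤ Nat.card K) :
    ∃ (εz m : ℤ) (c : Cfsg.IrrCharacter G → ℤ),
      (εz = 1 ∨ εz = -1) ∧ (εz : ℂ) = D.ε ∧
      (∀ η : Rel K, ∀ k : ↥NK, (k : G) ∈ K → k ≠ 1 →
        (D.f η : G → ℂ) k = D.ε * (η.1 : ↥NK → ℂ) k + m) ∧
      (∀ η : Rel K, c (D.f η) = 0) ∧
      (∀ χ : Cfsg.IrrCharacter G, (∀ η : Rel K, D.f η ≠ χ) →
        (∀ k : ↥NK, (k : G) ∈ K → k ≠ 1 → (χ : G → ℂ) k = c χ) ∧
        (Nat.card K : ℤ) ∣ (Cfsg.charDegree (χ : G → ℂ) : ℤ) - c χ) ∧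
      c ⟨fun _ => 1, isIrrCharacter_one⟩ = 1 ∧
      (∀ η : Rel K, D.f η ≠ ⟨fun _ => 1, isIrrCharacter_one⟩) ∧
      ∑ χ, c χ ^ 2 = (e : ℤ) + 2 * εz * m - (Nat.card (Rel K) : ℤ) * m ^ 2 ∧
      (∀ η : Rel K, ∑ χ, c χ * (Cfsg.charDegree (χ : G → ℂ) : ℤ) =
        (Cfsg.charDegree (D.f η : G → ℂ) : ℤ) * (εz - (Nat.card (Rel K) : ℤ) * m)) ∧
      (∀ η : Rel K, (Nat.card K : ℤ) ∣
        (Cfsg.charDegree (D.f η : G → ℂ) : ℤ) - εz * (e : ℤ) - m) := by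
  classical
  subst he
  set e := (K.subgroupOf NK).index with he
  have hepos : 0 < e := Nat.pos_of_ne_zero Subgroup.index_ne_zero_of_finite
  obtain ⟨k₀, hk₀K, hk₀1⟩ : ∃ k₀ : ↥NK, (k₀ : G) ∈ K ∧ k₀ ≠ 1 := by
    have h1 : 1 < Nat.card (K.subgroupOf NK) := by rw [card_subgroupOf_normalizer]; omega
    haveI : Nontrivial (K.subgroupOf NK) := (Finite.one_lt_card_iff_nontrivial).mp h1
    obtain ⟨k, hk⟩ := exists_ne (1 : K.subgroupOf NK)
    exact ⟨k.1, Subgroup.mem_subgroupOf.mp k.2, fun h => hk (Subtype.ext h)⟩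
  have hk₀1' : (k₀ : G) ≠ 1 := fun h => hk₀1 (Subtype.ext h)
  obtain ⟨hs1, hs2, hcard⟩ := nside K D.hC D.hab k₀ hk₀K hk₀1
  rw [← he] at hs2 hcard
  set t := Nat.card (Rel K) with ht
  obtain ⟨η₀, η₁, hη01⟩ : ∃ η₀ η₁ : Rel K, η₀ ≠ η₁ := by
    have h1 : 1 < Nat.card (Rel K) := ht1
    haveI : Nontrivial (Rel K) := (Finite.one_lt_card_iff_nontrivial).mp h1
    exact exists_pair_ne _
  obtain ⟨εz, hεz, hεzC⟩ : ∃ εz : ℤ, (εz = 1 ∨ εz = -1) ∧ (εz : ℂ) = D.ε := by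
    rcases D.hε with h | h
    · exact ⟨1, Or.inl rfl, by rw [h]; simp⟩
    · exact ⟨-1, Or.inr rfl, by rw [h]; simp⟩
  obtain ⟨c₀, hc₀⟩ := D.exc_const η₀
  have hrel_e : ∀ η : Rel K, Cfsg.charDegree (η.1 : ↥NK → ℂ) = e := by
    intro η
    have h1 := charDegree_cast_of_isCharacter (IsIrrCharacter.isCharacter η.1.2)
    rw [(rel_data K D.hC D.hab _ η.1.2 η.2).2] at h1
    exact_mod_cast h1
  obtain ⟨m, hm, hmdvd⟩ := const_int K hK2 (IsIrrCharacter.isCharacter (D.f η₀).2)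
    (IsIrrCharacter.isCharacter η₀.1.2) εz c₀ (by
      intro k hk hk1
      rw [hεzC]
      exact hc₀ k hk hk1)
  rw [hrel_e] at hmdvd
  have hexc : ∀ η : Rel K, ∀ k : ↥NK, (k : G) ∈ K → k ≠ 1 →
      (D.f η : G → ℂ) k = D.ε * (η.1 : ↥NK → ℂ) k + m := by
    intro η k hk hk1
    have h1 := D.diff_apply η η₀ k
    have h2 := hc₀ k hk hk1
    rw [hm] at h2
    linear_combination h1 + h2
  have hz : ∀ χ : Cfsg.IrrCharacter G, (∀ η : Rel K, D.f η ≠ χ) → ∃ z : ℤ,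
      (∀ k : ↥NK, (k : G) ∈ K → k ≠ 1 → (χ : G → ℂ) k = z) ∧
      (Nat.card K : ℤ) ∣ (Cfsg.charDegree (χ : G → ℂ) : ℤ) - z := by
    intro χ hχ
    obtain ⟨c, hc⟩ := D.nonexc_const χ hχ
    obtain ⟨z, hz1, hz2⟩ := const_int K hK2 (IsIrrCharacter.isCharacter χ.2)
      (IsCharacter.zero (G := ↥NK)) 0 c (by
        intro k hk hk1
        rw [hc k hk hk1]
        simp)
    refine ⟨z, fun k hk hk1 => by rw [hc k hk hk1, hz1], ?_⟩
    simpa using hz2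
  set c : Cfsg.IrrCharacter G → ℤ := fun χ =>
    if hχ : ∀ η : Rel K, D.f η ≠ χ then Classical.choose (hz χ hχ) else 0 with hcdef
  have hc_non : ∀ χ : Cfsg.IrrCharacter G, (∀ η : Rel K, D.f η ≠ χ) →
      (∀ k : ↥NK, (k : G) ∈ K → k ≠ 1 → (χ : G → ℂ) k = c χ) ∧
      (Nat.card K : ℤ) ∣ (Cfsg.charDegree (χ : G → ℂ) : ℤ) - c χ := by
    intro χ hχ
    have := Classical.choose_spec (hz χ hχ)
    simp only [hcdef, dif_pos hχ]
    exact this
  have hc_exc : ∀ η : Rel K, c (D.f η) = 0 := by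
    intro η
    simp only [hcdef]
    rw [dif_neg]
    push Not
    exact ⟨η, rfl⟩
  -- the trivial character
  set triv : Cfsg.IrrCharacter G := ⟨fun _ => 1, isIrrCharacter_one⟩ with htriv
  have htriv_non : ∀ η : Rel K, D.f η ≠ triv := by
    intro η
    by_cases h : η = η₀
    · rw [h]; exact D.triv_not_exc η₀ η₁ hη01
    · exact D.triv_not_exc η η₀ h
  have hctriv : c triv = 1 := by
    have h1 := (hc_non triv htriv_non).1 k₀ hk₀K hk₀1
    have h2 : ((1 : ℤ) : ℂ) = (c triv : ℂ) := by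
      rw [← h1]
      simp [htriv]
    exact_mod_cast h2.symm
  -- splitting sums
  set S : Finset (Cfsg.IrrCharacter G) := Finset.univ.image D.f with hS
  have hsplit : ∀ F : Cfsg.IrrCharacter G → ℂ,
      ∑ χ, F χ = ∑ η : Rel K, F (D.f η) + ∑ χ ∈ Sᶜ, F χ := by
    intro F
    rw [← Finset.sum_add_sum_compl S F, hS, Finset.sum_image (fun a _ b _ h => D.hf h)]
  have hScompl : ∀ χ ∈ Sᶜ, ∀ η : Rel K, D.f η ≠ χ := by
    intro χ hχ η h
    rw [Finset.mem_compl, hS, Finset.mem_image] at hχ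
    exact hχ ⟨η, Finset.mem_univ _, h⟩
  have hsumc : ∀ F : Cfsg.IrrCharacter G → ℂ, (∀ η, F (D.f η) = 0) →
      ∑ χ ∈ Sᶜ, F χ = ∑ χ, F χ := by
    intro F hF
    rw [hsplit F, Finset.sum_eq_zero (fun η _ => hF η), zero_add]
  have hs1c : ∑ η : Rel K, conj ((η.1 : ↥NK → ℂ) k₀) = -1 := by
    rw [← map_sum, hs1]
    simp
  have htC : (∑ _η : Rel K, (1 : ℂ)) = (t : ℂ) := by
    rw [Finset.sum_const, Finset.card_univ, nsmul_eq_mul, mul_one, ht,
      Nat.card_eq_fintype_card]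
  -- the diagonal relation
  have hG2 := column_orthogonality_aux (G := G) (k₀ : G) (k₀ : G)
  rw [if_pos (IsConj.refl _), centralizer_eq K D.hC D.hab _ hk₀K hk₀1', hsplit] at hG2
  have hG2a : ∑ η : Rel K, (D.f η : G → ℂ) k₀ * conj ((D.f η : G → ℂ) k₀) =
      (Nat.card K : ℂ) - e - 2 * D.ε * m + t * (m : ℂ) ^ 2 := by
    have h1 : ∀ η : Rel K, (D.f η : G → ℂ) k₀ * conj ((D.f η : G → ℂ) k₀) =
        (η.1 : ↥NK → ℂ) k₀ * conj ((η.1 : ↥NK → ℂ) k₀) +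
          D.ε * m * (η.1 : ↥NK → ℂ) k₀ + D.ε * m * conj ((η.1 : ↥NK → ℂ) k₀) +
          (m : ℂ) ^ 2 * 1 := by
      intro η
      rw [hexc η k₀ hk₀K hk₀1, map_add, map_mul, D.eps_conj, map_intCast]
      linear_combination ((η.1 : ↥NK → ℂ) k₀ * conj ((η.1 : ↥NK → ℂ) k₀)) * D.eps_sq
    rw [Finset.sum_congr rfl (fun η _ => h1 η)]
    rw [Finset.sum_add_distrib, Finset.sum_add_distrib, Finset.sum_add_distrib,
      ← Finset.mul_sum, ← Finset.mul_sum, ← Finset.mul_sum, hs2, hs1, hs1c, htC]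
    ring
  have hG2b : ∑ χ ∈ Sᶜ, (χ : G → ℂ) k₀ * conj ((χ : G → ℂ) k₀) =
      ∑ χ, ((c χ : ℤ) : ℂ) ^ 2 := by
    rw [← hsumc (fun χ => ((c χ : ℤ) : ℂ) ^ 2) (fun η => by rw [hc_exc]; simp)]
    apply Finset.sum_congr rfl
    intro χ hχ
    rw [(hc_non χ (hScompl χ hχ)).1 k₀ hk₀K hk₀1, map_intCast, sq]
  rw [hG2a, hG2b] at hG2
  have hsq : ∑ χ, c χ ^ 2 = (e : ℤ) + 2 * εz * m - t * m ^ 2 := by
    have h1 : ((∑ χ, c χ ^ 2 : ℤ) : ℂ) = (((e : ℤ) + 2 * εz * m - t * m ^ 2 : ℤ) : ℂ) := by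
      push_cast
      rw [hεzC]
      linear_combination hG2
    exact_mod_cast h1
  -- the first column
  have hG1 := column_orthogonality_aux (G := G) (1 : G) (k₀ : G)
  rw [if_neg (by rw [isConj_one_right]; exact hk₀1'), hsplit] at hG1
  have hdeg : ∀ χ : Cfsg.IrrCharacter G, (χ : G → ℂ) 1 = (Cfsg.charDegree (χ : G → ℂ) : ℂ) :=
    fun χ => (charDegree_cast_of_isCharacter (IsIrrCharacter.isCharacter χ.2)).symm
  have hG1a : ∑ η : Rel K, (D.f η : G → ℂ) 1 * conj ((D.f η : G → ℂ) k₀) =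
      (Cfsg.charDegree (D.f η₀ : G → ℂ) : ℂ) * (-D.ε + t * m) := by
    have h1 : ∀ η : Rel K, (D.f η : G → ℂ) 1 * conj ((D.f η : G → ℂ) k₀) =
        (Cfsg.charDegree (D.f η₀ : G → ℂ) : ℂ) * (D.ε * conj ((η.1 : ↥NK → ℂ) k₀) +
          (m : ℂ) * 1) := by
      intro η
      rw [D.deg_eq η η₀, hdeg, hexc η k₀ hk₀K hk₀1, map_add, map_mul, D.eps_conj, map_intCast,
        mul_one]
    rw [Finset.sum_congr rfl (fun η _ => h1 η), ← Finset.mul_sum, Finset.sum_add_distrib,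
      ← Finset.mul_sum, ← Finset.mul_sum, hs1c, htC]
    ring
  have hG1b : ∑ χ ∈ Sᶜ, (χ : G → ℂ) 1 * conj ((χ : G → ℂ) k₀) =
      ∑ χ, ((c χ : ℤ) : ℂ) * (Cfsg.charDegree (χ : G → ℂ) : ℂ) := by
    rw [← hsumc (fun χ => ((c χ : ℤ) : ℂ) * (Cfsg.charDegree (χ : G → ℂ) : ℂ))
      (fun η => by rw [hc_exc]; simp)]
    apply Finset.sum_congr rfl
    intro χ hχ
    rw [(hc_non χ (hScompl χ hχ)).1 k₀ hk₀K hk₀1, map_intCast, hdeg, mul_comm]
  rw [hG1a, hG1b] at hG1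
  have hlin : ∑ χ, c χ * (Cfsg.charDegree (χ : G → ℂ) : ℤ) =
      (Cfsg.charDegree (D.f η₀ : G → ℂ) : ℤ) * (εz - t * m) := by
    have h1 : ((∑ χ, c χ * (Cfsg.charDegree (χ : G → ℂ) : ℤ) : ℤ) : ℂ) =
        (((Cfsg.charDegree (D.f η₀ : G → ℂ) : ℤ) * (εz - t * m) : ℤ) : ℂ) := by
      push_cast
      rw [hεzC]
      linear_combination hG1
    exact_mod_cast h1
  have hdegη : ∀ η : Rel K, Cfsg.charDegree (D.f η : G → ℂ) = Cfsg.charDegree (D.f η₀ : G → ℂ) := by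
    intro η
    have h1 : (Cfsg.charDegree (D.f η : G → ℂ) : ℂ) = (Cfsg.charDegree (D.f η₀ : G → ℂ) : ℂ) := by
      rw [charDegree_cast_of_isCharacter (IsIrrCharacter.isCharacter (D.f η).2),
        charDegree_cast_of_isCharacter (IsIrrCharacter.isCharacter (D.f η₀).2), D.deg_eq η η₀]
    exact_mod_cast h1
  refine ⟨εz, m, c, hεz, hεzC, hexc, hc_exc, hc_non, hctriv, htriv_non, hsq, ?_, ?_⟩
  · intro η
    rw [hlin, hdegη η]
  · intro η
    rw [hdegη η]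
    convert hmdvd using 1

end Cfsg.Agent.Helper2.M11
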