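import Mathlib

/-!
# Integer vectors of small norm
-/

set_option autoImplicit false

namespace Cfsg.Agent.Helper2.BrTI

variable {ι : Type*} [DecidableEq ι]

theorem sq_eq_one_of_le_two (a : ℤ) (h0 : a ≠ 0) (h : a ^ 2 ≤ 2) : a = 1 ∨ a = -1 := by
  have h1 : -1 ≤ a := by nlinarith
  have h2 : a ≤ 1 := by nlinarith
  omega

/-- norm one -/
theorem norm_one (s : Finset ι) (c : ι → ℤ) (h : ∑ i ∈ s, c i ^ 2 = 1) :
    ∃ i₁ ∈ s, (c i₁ = 1 ∨ c i₁ = -1) ∧ ∀ j ∈ s, j ≠ i₁ → c j = 0 := by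
  have hex : ∃ i₁ ∈ s, c i₁ ≠ 0 := by
    by_contra hne
    push Not at hne
    rw [Finset.sum_eq_zero (fun i hi => by rw [hne i hi]; norm_num)] at h
    omega
  obtain ⟨i₁, hi₁, hc⟩ := hex
  rw [← Finset.add_sum_erase s _ hi₁] at h
  have hnn : 0 ≤ ∑ i ∈ s.erase i₁, c i ^ 2 := Finset.sum_nonneg (fun i _ => sq_nonneg _)
  have h1 := sq_eq_one_of_le_two (c i₁) hc (by linarith)
  have h2 : c i₁ ^ 2 = 1 := by rcases h1 with h | h <;> rw [h] <;> norm_num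
  have h3 : ∑ i ∈ s.erase i₁, c i ^ 2 = 0 := by linarith
  refine ⟨i₁, hi₁, h1, ?_⟩
  intro j hj hne
  have := (Finset.sum_eq_zero_iff_of_nonneg (fun i _ => sq_nonneg (c i))).mp h3 j
    (Finset.mem_erase.mpr ⟨hne, hj⟩)
  exact pow_eq_zero_iff (by norm_num) |>.mp this

/-- norm two -/
theorem norm_two (s : Finset ι) (c : ι → ℤ) (h : ∑ i ∈ s, c i ^ 2 = 2) :
    ∃ i₁ ∈ s, ∃ i₂ ∈ s, i₁ ≠ i₂ ∧ (c i₁ = 1 ∨ c i₁ = -1) ∧ (c i₂ = 1 ∨ c i₂ = -1) ∧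
      ∀ j ∈ s, j ≠ i₁ → j ≠ i₂ → c j = 0 := by
  have hex : ∃ i₁ ∈ s, c i₁ ≠ 0 := by
    by_contra hne
    push Not at hne
    rw [Finset.sum_eq_zero (fun i hi => by rw [hne i hi]; norm_num)] at h
    omega
  obtain ⟨i₁, hi₁, hc⟩ := hex
  rw [← Finset.add_sum_erase s _ hi₁] at h
  have hnn : 0 ≤ ∑ i ∈ s.erase i₁, c i ^ 2 := Finset.sum_nonneg (fun i _ => sq_nonneg _)
  have h1 := sq_eq_one_of_le_two (c i₁) hc (by linarith)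
  have h2 : c i₁ ^ 2 = 1 := by rcases h1 with h | h <;> rw [h] <;> norm_num
  have h3 : ∑ i ∈ s.erase i₁, c i ^ 2 = 1 := by linarith
  obtain ⟨i₂, hi₂, hc₂, hrest⟩ := norm_one (s.erase i₁) c h3
  refine ⟨i₁, hi₁, i₂, (Finset.mem_erase.mp hi₂).2, (Finset.mem_erase.mp hi₂).1.symm, h1, hc₂, ?_⟩
  intro j hj hj1 hj2
  exact hrest j (Finset.mem_erase.mpr ⟨hj1, hj⟩) hj2

variable [Fintype ι]

theorem sum_sq_two (c w : ι → ℤ) (i₀ : ι) (h0 : c i₀ = 1) (h : ∑ i, c i ^ 2 = 2) :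
    ∃ i₁, i₁ ≠ i₀ ∧ (c i₁ = 1 ∨ c i₁ = -1) ∧ ∑ i, c i * w i = w i₀ + c i₁ * w i₁ := by
  rw [← Finset.add_sum_erase Finset.univ _ (Finset.mem_univ i₀), h0] at h
  have h1 : ∑ i ∈ Finset.univ.erase i₀, c i ^ 2 = 1 := by linarith
  obtain ⟨i₁, hi₁, hc₁, hrest⟩ := norm_one _ c h1
  refine ⟨i₁, (Finset.mem_erase.mp hi₁).1, hc₁, ?_⟩
  rw [← Finset.add_sum_erase Finset.univ _ (Finset.mem_univ i₀), h0, one_mul,
    ← Finset.add_sum_erase _ _ hi₁]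
  rw [Finset.sum_eq_zero, add_zero]
  intro j hj
  rw [hrest j (Finset.mem_erase.mp hj).2 (Finset.mem_erase.mp hj).1, zero_mul]

theorem sum_sq_three (c w : ι → ℤ) (i₀ : ι) (h0 : c i₀ = 1) (h : ∑ i, c i ^ 2 = 3) :
    ∃ i₁ i₂, i₁ ≠ i₀ ∧ i₂ ≠ i₀ ∧ i₁ ≠ i₂ ∧ (c i₁ = 1 ∨ c i₁ = -1) ∧ (c i₂ = 1 ∨ c i₂ = -1) ∧
      ∑ i, c i * w i = w i₀ + c i₁ * w i₁ + c i₂ * w i₂ := by
  rw [← Finset.add_sum_erase Finset.univ _ (Finset.mem_univ i₀), h0] at h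
  have h1 : ∑ i ∈ Finset.univ.erase i₀, c i ^ 2 = 2 := by linarith
  obtain ⟨i₁, hi₁, i₂, hi₂, hne, hc₁, hc₂, hrest⟩ := norm_two _ c h1
  refine ⟨i₁, i₂, (Finset.mem_erase.mp hi₁).1, (Finset.mem_erase.mp hi₂).1, hne, hc₁, hc₂, ?_⟩
  have hi₂' : i₂ ∈ (Finset.univ.erase i₀).erase i₁ := Finset.mem_erase.mpr ⟨hne.symm, hi₂⟩
  rw [← Finset.add_sum_erase Finset.univ _ (Finset.mem_univ i₀), h0, one_mul,
    ← Finset.add_sum_erase _ _ hi₁, ← Finset.add_sum_erase _ _ hi₂']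
  rw [Finset.sum_eq_zero, add_zero, add_assoc]
  intro j hj
  have hj2 := Finset.mem_erase.mp hj
  have hj1 := Finset.mem_erase.mp hj2.2
  rw [hrest j hj1.2 hj1.1 hj2.1, zero_mul]

end Cfsg.Agent.Helper2.BrTI
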