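import Mathlib

set_option autoImplicit false

namespace Cfsg.Agent.Helper2.SylowExact

variable {G : Type*} [Group G]

/-- If `s` divides `|G|` exactly once, the Sylow `s`-subgroups have order `s`. -/
theorem card_sylow_of_exact [Finite G] {s m : ℕ} [hs : Fact s.Prime] (hG : Nat.card G = s * m)
    (hm : ¬ s ∣ m) (P : Sylow s G) : Nat.card P = s := by
  have hm0 : m ≠ 0 := by
    rintro rfl
    exact hm (dvd_zero s)
  rw [Sylow.card_eq_multiplicity, hG, Nat.factorization_mul hs.out.ne_zero hm0,
    Finsupp.add_apply, Nat.Prime.factorization_self hs.out,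
    Nat.factorization_eq_zero_of_not_dvd hm, pow_one]

/-- A normal subgroup of index prime to `r` contains every Sylow `r`-subgroup. -/
theorem sylow_le_of_normal_of_coprime_index [Finite G] {r : ℕ} [Fact r.Prime] (K : Subgroup G)
    [K.Normal] (hK : Nat.Coprime K.index r) (R : Sylow r G) : (R : Subgroup G) ≤ K := by
  rw [← Subgroup.relIndex_eq_one]
  have h1 : K.relIndex R ∣ K.index := Subgroup.relIndex_dvd_index_of_normal K R
  have h2 : K.relIndex R ∣ Nat.card R := Subgroup.relIndex_dvd_card K R
  obtain ⟨k, hk⟩ := IsPGroup.iff_card.mp R.isPGroup'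
  rw [hk] at h2
  have h3 : Nat.Coprime K.index (r ^ k) := Nat.Coprime.pow_right k hK
  exact Nat.eq_one_of_dvd_coprimes h3 h1 h2

/-- If a normal subgroup containing all Sylow `r`-subgroups has a unique Sylow `r`-subgroup,
then the Sylow `r`-subgroups of the whole group are normal. -/
theorem sylow_normal_of_unique_in_normal [Finite G] {r : ℕ} [Fact r.Prime] (K : Subgroup G)
    (hle : ∀ R : Sylow r G, (R : Subgroup G) ≤ K) (huniq : Nat.card (Sylow r K) = 1)
    (R : Sylow r G) : (R : Subgroup G).Normal := by
  have hsub : Subsingleton (Sylow r K) := (Nat.card_eq_one_iff_unique.mp huniq).1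
  have hall : ∀ g : G, g • R = R := by
    intro g
    have h1 : (g • R).subtype (hle _) = R.subtype (hle R) := Subsingleton.elim _ _
    exact Sylow.subtype_injective h1
  rw [← Subgroup.normalizer_eq_top_iff, eq_top_iff]
  intro g _
  exact Sylow.smul_eq_iff_mem_normalizer.mp (hall g)

end Cfsg.Agent.Helper2.SylowExact
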