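import Mathlib
import Cfsg.Agent.Helper2.SylowExact

set_option autoImplicit false

namespace Cfsg.Agent.Helper2.SmallOrder

open Subgroup

variable {G : Type*} [Group G]

/-- `|N_G(P) : C_G(P)|` divides `φ(|P|)` for cyclic `P`. -/
theorem relIndex_centralizer_normalizer_dvd [Finite G] (P : Subgroup G) (hP : IsCyclic P) :
    (centralizer (P : Set G)).relIndex (normalizer (P : Set G)) ∣ Nat.totient (Nat.card P) := by
  have key := Subgroup.card_dvd_of_injective _
    (QuotientGroup.kerLift_injective P.normalizerMonoidHom)
  rw [Subgroup.normalizerMonoidHom_ker, ← Subgroup.index, ← Subgroup.relIndex,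
    hP.card_mulAut] at key
  exact key

/-- A Sylow subgroup of prime order whose normalizer has order prime to `p - 1` has a normal
complement. -/
theorem exists_normal_index_of_prime_sylow [Finite G] {p : ℕ} [hp : Fact p.Prime] (P : Sylow p G)
    (hP : Nat.card P = p)
    (hcop : Nat.Coprime (Nat.card (normalizer ((P : Subgroup G) : Set G))) (p - 1)) :
    ∃ K : Subgroup G, K.Normal ∧ K.index = p := by
  have hfp : Fact (Nat.card (P : Subgroup G)).Prime := by rw [hP]; exact hp
  have hPc : IsCyclic (P : Subgroup G) := isCyclic_of_prime_card rfl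
  have h1 := relIndex_centralizer_normalizer_dvd (P : Subgroup G) hPc
  rw [hP, Nat.totient_prime hp.out] at h1
  have h2 : (centralizer ((P : Subgroup G) : Set G)).relIndex
      (normalizer ((P : Subgroup G) : Set G)) ∣ Nat.card (normalizer ((P : Subgroup G) : Set G)) :=
    Subgroup.relIndex_dvd_card _ _
  have h3 := Nat.eq_one_of_dvd_coprimes hcop h2 h1
  have hle : normalizer ((P : Subgroup G) : Set G) ≤ centralizer ((P : Subgroup G) : Set G) :=
    Subgroup.relIndex_eq_one.mp h3
  have hcomp := MonoidHom.ker_transferSylow_isComplement' P hle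
  refine ⟨(MonoidHom.transferSylow P hle).ker, MonoidHom.normal_ker _, ?_⟩
  rw [hcomp.symm.index_eq_card, hP]

/-- A simple group has no normal subgroup of index strictly between `1` and `|G|`. -/
theorem false_of_normal_index [Finite G] [IsSimpleGroup G] (K : Subgroup G) [hK : K.Normal]
    (h1 : K.index ≠ 1) (h2 : K.index ≠ Nat.card G) : False := by
  rcases hK.eq_bot_or_eq_top with h | h
  · apply h2
    rw [h, Subgroup.index_bot]
  · apply h1
    rw [h, Subgroup.index_top]

/-- In a simple group, a Sylow subgroup that is neither trivial nor everything is not unique. -/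
theorem card_sylow_ne_one [Finite G] [IsSimpleGroup G] {p : ℕ} [Fact p.Prime] (P : Sylow p G)
    (h1 : Nat.card P ≠ 1) (h2 : Nat.card P ≠ Nat.card G) : Nat.card (Sylow p G) ≠ 1 := by
  intro h
  have hsub : Subsingleton (Sylow p G) := (Nat.card_eq_one_iff_unique.mp h).1
  have hn : (P : Subgroup G).Normal := by
    rw [← Subgroup.normalizer_eq_top_iff, eq_top_iff]
    intro g _
    exact Sylow.smul_eq_iff_mem_normalizer.mp (Subsingleton.elim _ _)
  rcases hn.eq_bot_or_eq_top with h | h
  · apply h1
    rw [h, Subgroup.card_bot]
  · apply h2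
    rw [h, Subgroup.card_top]

/-- The order of the normalizer of a Sylow subgroup times the number of Sylow subgroups. -/
theorem card_normalizer_mul_card_sylow [Finite G] {p : ℕ} [Fact p.Prime] (P : Sylow p G) :
    Nat.card (normalizer ((P : Subgroup G) : Set G)) * Nat.card (Sylow p G) = Nat.card G := by
  rw [Sylow.card_eq_index_normalizer P]
  exact Subgroup.card_mul_index _

end Cfsg.Agent.Helper2.SmallOrder

namespace Cfsg.Agent.Helper2.SmallOrder

open Subgroup

variable {G : Type*} [Group G]

/-- In a simple group, the order divides the factorial of the index of any proper subgroup. -/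
theorem card_dvd_factorial_index [Finite G] [IsSimpleGroup G] (H : Subgroup G) (hH : H ≠ ⊤) :
    Nat.card G ∣ (H.index).factorial := by
  classical
  have hker : (MulAction.toPermHom G (G ⧸ H)).ker = ⊥ := by
    rcases (MonoidHom.normal_ker (MulAction.toPermHom G (G ⧸ H))).eq_bot_or_eq_top with h | h
    · exact h
    · exfalso
      apply hH
      rw [eq_top_iff, ← h, ← Subgroup.normalCore_eq_ker]
      exact Subgroup.normalCore_le H
  have hinj : Function.Injective (MulAction.toPermHom G (G ⧸ H)) :=
    (MonoidHom.ker_eq_bot_iff _).mp hker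
  have h1 := Subgroup.card_dvd_of_injective _ hinj
  have : Fintype (G ⧸ H) := Fintype.ofFinite _
  rwa [Nat.card_eq_fintype_card (α := Equiv.Perm (G ⧸ H)), Fintype.card_perm,
    ← Nat.card_eq_fintype_card, ← Subgroup.index] at h1

end Cfsg.Agent.Helper2.SmallOrder

namespace Cfsg.Agent.Helper2.SmallOrder

open Subgroup

variable {G : Type*} [Group G]

/-- `|N_G(P) : C_G(P)|` divides `|Aut P|`. -/
theorem relIndex_centralizer_normalizer_dvd_card_mulAut [Finite G] (P : Subgroup G) :
    (centralizer (P : Set G)).relIndex (normalizer (P : Set G)) ∣ Nat.card (MulAut P) := by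
  have key := Subgroup.card_dvd_of_injective _
    (QuotientGroup.kerLift_injective P.normalizerMonoidHom)
  rw [Subgroup.normalizerMonoidHom_ker, ← Subgroup.index, ← Subgroup.relIndex] at key
  exact key

/-- The automorphism group of a finite group embeds in the permutations of its non-identity
elements. -/
theorem card_mulAut_dvd_factorial (T : Type*) [Group T] [Finite T] :
    Nat.card (MulAut T) ∣ (Nat.card T - 1).factorial := by
  classical
  have : Fintype T := Fintype.ofFinite T
  let φ : MulAut T →* Equiv.Perm {t : T // t ≠ 1} :=
    { toFun := fun σ => (σ.toEquiv).subtypeEquiv (fun t => by simp)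
      map_one' := by
        ext t
        rfl
      map_mul' := fun σ τ => by
        ext t
        rfl }
  have hinj : Function.Injective φ := by
    intro σ τ h
    apply MulEquiv.ext
    intro t
    by_cases ht : t = 1
    · rw [ht, map_one, map_one]
    · have := congrArg (fun e : Equiv.Perm {t : T // t ≠ 1} => ((e ⟨t, ht⟩ : {t : T // t ≠ 1}) : T)) h
      exact this
  have h1 := Subgroup.card_dvd_of_injective φ hinj
  rwa [Nat.card_eq_fintype_card (α := Equiv.Perm {t : T // t ≠ 1}), Fintype.card_perm,
    Fintype.card_subtype_compl, Fintype.card_subtype_eq, ← Nat.card_eq_fintype_card] at h1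

end Cfsg.Agent.Helper2.SmallOrder
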