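import Mathlib
import Cfsg.Agent.Helper2.BrTIE
import Cfsg.Agent.Helper2.BrTIF
import Cfsg.Agent.Helper2.SmallOrder

/-!
# Brauer's degree equation for a self-centralizing subgroup of prime order
-/

set_option autoImplicit false
set_option linter.style.haveILetI false

namespace Cfsg.Agent.Helper2.BrTI

open Cfsg.Agent.Helper6

universe u

variable {G : Type u} [Group G]


/-- a nonidentity element of a subgroup of prime order generates it -/
theorem mem_zpowers_of_prime (K : Subgroup G) {p : ℕ} [hp : Fact p.Prime] (hK : Nat.card K = p)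
    (k : G) (hk : k ∈ K) (hk1 : k ≠ 1) (x : G) (hx : x ∈ K) : x ∈ Subgroup.zpowers k := by
  have h := mem_zpowers_of_prime_card (G := K) hK (g := ⟨k, hk⟩) (g' := ⟨x, hx⟩)
    (by intro h; exact hk1 (congrArg Subtype.val h))
  obtain ⟨i, hi⟩ := Subgroup.mem_zpowers_iff.mp h
  exact Subgroup.mem_zpowers_iff.mpr ⟨i, by simpa using congrArg Subtype.val hi⟩

theorem conj_zpow (g k : G) (i : ℤ) : g * k ^ i * g⁻¹ = (g * k * g⁻¹) ^ i := by
  have := map_zpow (MulAut.conj g) k i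
  simpa [MulAut.conj_apply] using this

theorem prime_TI (K : Subgroup G) {p : ℕ} [hp : Fact p.Prime] (hK : Nat.card K = p) :
    ∀ g : G, g ∉ (Subgroup.normalizer (K : Set G)) → ∀ k ∈ K, g * k * g⁻¹ ∈ K → k = 1 := by
  intro g hg k hk hgk
  by_contra hk1
  apply hg
  rw [Subgroup.mem_normalizer_iff]
  have hgk1 : g * k * g⁻¹ ≠ 1 := by
    intro h
    apply hk1
    have : k = g⁻¹ * (g * k * g⁻¹) * g := by group
    rw [this, h]
    group
  intro h
  constructor
  · intro hh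
    obtain ⟨i, rfl⟩ := Subgroup.mem_zpowers_iff.mp (mem_zpowers_of_prime K hK k hk hk1 h hh)
    rw [conj_zpow]
    exact K.zpow_mem hgk i
  · intro hh
    obtain ⟨i, hi⟩ := Subgroup.mem_zpowers_iff.mp
      (mem_zpowers_of_prime K hK _ hgk hgk1 _ hh)
    rw [← conj_zpow] at hi
    have : h = k ^ i := by
      have h1 : g⁻¹ * (g * k ^ i * g⁻¹) * g = g⁻¹ * (g * h * g⁻¹) * g := by rw [hi]
      have h2 : g⁻¹ * (g * k ^ i * g⁻¹) * g = k ^ i := by group
      have h3 : g⁻¹ * (g * h * g⁻¹) * g = h := by group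
      rw [h2, h3] at h1
      exact h1.symm
    rw [this]
    exact K.zpow_mem hk i

theorem prime_cent (K : Subgroup G) {p : ℕ} [hp : Fact p.Prime] (hK : Nat.card K = p)
    (hcent : Subgroup.centralizer (K : Set G) ≤ K) :
    ∀ k ∈ K, k ≠ 1 → Subgroup.centralizer ({k} : Set G) ≤ K := by
  intro k hk hk1 x hx
  apply hcent
  rw [Subgroup.mem_centralizer_iff] at hx ⊢
  intro y hy
  obtain ⟨i, rfl⟩ := Subgroup.mem_zpowers_iff.mp (mem_zpowers_of_prime K hK k hk hk1 y hy)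
  have h1 : Commute k x := hx k rfl
  exact (h1.zpow_left i).eq

theorem prime_ab (K : Subgroup G) {p : ℕ} [hp : Fact p.Prime] (hK : Nat.card K = p) :
    ∀ a ∈ K, ∀ b ∈ K, a * b = b * a := by
  intro a ha b hb
  by_cases hb1 : b = 1
  · rw [hb1, mul_one, one_mul]
  · obtain ⟨i, rfl⟩ := Subgroup.mem_zpowers_iff.mp (mem_zpowers_of_prime K hK b hb hb1 a ha)
    exact ((Commute.refl b).zpow_left i).eq

/-- the exceptional characters of a self-centralizing subgroup of prime order -/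
theorem exists_data [Fintype G] (K : Subgroup G) {p : ℕ} [hp : Fact p.Prime]
    (hK : Nat.card K = p) (hcent : Subgroup.centralizer (K : Set G) ≤ K)
    (hbig : (K.subgroupOf (Subgroup.normalizer (K : Set G))).index + 1 < p) : Nonempty (Data K) := by
  rcases tifrob_abelian K (prime_TI K hK) (prime_cent K hK hcent) (prime_ab K hK) with h | h
  · exfalso
    obtain ⟨-, q, -, -, h2⟩ := h
    omega
  · obtain ⟨ε, f, hε, hf, hind⟩ := h
    exact ⟨⟨prime_TI K hK, prime_cent K hK hcent, prime_ab K hK, ε, hε, f, hf, hind⟩⟩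

open Classical in
/-- Brauer's degree equation -/
theorem brauer_main [Fintype G] [Fintype (Cfsg.IrrCharacter G)] (hperf : commutator G = ⊤)
    (K : Subgroup G) {p : ℕ} [hp : Fact p.Prime]
    (hK : Nat.card K = p) (hcent : Subgroup.centralizer (K : Set G) ≤ K) (e : ℕ)
    (he : (K.subgroupOf (Subgroup.normalizer (K : Set G))).index = e) (hbig : e * (e + 1) + 1 < p) :
    ∃ (εz : ℤ) (d : ℕ) (c : Cfsg.IrrCharacter G → ℤ),
      (εz = 1 ∨ εz = -1) ∧ c ⟨fun _ => 1, isIrrCharacter_one⟩ = 1 ∧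
      ∑ χ, c χ ^ 2 = (e : ℤ) ∧
      ∑ χ, c χ * (Cfsg.charDegree (χ : G → ℂ) : ℤ) = εz * (d : ℤ) ∧
      (∀ χ, c χ ≠ 0 → (p : ℤ) ∣ (Cfsg.charDegree (χ : G → ℂ) : ℤ) - c χ) ∧
      (p : ℤ) ∣ (d : ℤ) - εz * e ∧ d ∣ Nat.card G ∧
      (∀ χ : Cfsg.IrrCharacter G, Cfsg.charDegree (χ : G → ℂ) ∣ Nat.card G) ∧
      (∀ χ : Cfsg.IrrCharacter G, χ ≠ ⟨fun _ => 1, isIrrCharacter_one⟩ →
        1 < Cfsg.charDegree (χ : G → ℂ)) := by
  have hepos : 0 < e := by
    rw [← he]
    exact Nat.pos_of_ne_zero Subgroup.index_ne_zero_of_finite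
  obtain ⟨D⟩ := exists_data K hK hcent (by rw [he]; nlinarith)
  haveI : Fintype ↥(Subgroup.normalizer (K : Set G)) := Fintype.ofFinite _
  haveI : Finite (Cfsg.IrrCharacter ↥(Subgroup.normalizer (K : Set G))) := irr_finite
  haveI : Fintype (Cfsg.IrrCharacter ↥(Subgroup.normalizer (K : Set G))) := Fintype.ofFinite _
  haveI : Fintype (Rel K) := Fintype.ofFinite _
  obtain ⟨εz, Λ, c, h1, h2, h3, h4, h5, h6⟩ := D.main e he (by rw [hK]; exact hbig)
  rw [hK] at h5 h6
  refine ⟨εz, Cfsg.charDegree (Λ : G → ℂ), c, h1, h2, h3, h4, h5, h6,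
    charDegree_dvd_card Λ.2, fun χ => charDegree_dvd_card χ.2, ?_⟩
  intro χ hχ
  obtain ⟨n, hn, hn1⟩ := IsIrrCharacter.apply_one_pos χ.2
  have hdeg : Cfsg.charDegree (χ : G → ℂ) = n := by
    have := charDegree_cast_of_isCharacter (IsIrrCharacter.isCharacter χ.2)
    rw [hn1] at this
    exact_mod_cast this
  rw [hdeg]
  by_contra hlt
  have hn1' : n = 1 := by omega
  rw [hn1'] at hn1
  have hcard := card_linear_irr (G := G)
  rw [hperf, Subgroup.index_top] at hcard
  have hsub : Subsingleton {χ : Cfsg.IrrCharacter G // (χ : G → ℂ) 1 = 1} :=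
    (Nat.card_eq_one_iff_unique.mp hcard).1
  have := Subsingleton.elim (⟨χ, by simpa using hn1⟩ :
    {χ : Cfsg.IrrCharacter G // (χ : G → ℂ) 1 = 1}) ⟨⟨fun _ => 1, isIrrCharacter_one⟩, rfl⟩
  exact hχ (congrArg Subtype.val this)

end Cfsg.Agent.Helper2.BrTI
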