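import Mathlib

set_option autoImplicit false

namespace Cfsg.Agent.Helper2.PermPrime

open Equiv Equiv.Perm

variable {α : Type*} [Fintype α] [DecidableEq α]

theorem cycleType_of_orderOf_prime {p : ℕ} (hp : p.Prime) {σ : Perm α} (hσ : orderOf σ = p)
    (hlt : Fintype.card α < 2 * p) : σ.cycleType = {p} := by
  have hc : σ.IsCycle := isCycle_of_prime_order' (by rw [hσ]; exact hp) (by rw [hσ]; exact hlt)
  rw [hc.cycleType, ← hc.orderOf, hσ]

theorem card_centralizer_of_orderOf_prime {p : ℕ} (hp : p.Prime) {σ : Perm α} (hσ : orderOf σ = p)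
    (hle : Fintype.card α ≤ p + 1) :
    Nat.card (Subgroup.centralizer ({σ} : Set (Perm α))) = p := by
  have hlt : Fintype.card α < 2 * p := by have := hp.two_le; omega
  have hct := cycleType_of_orderOf_prime hp hσ hlt
  rw [Equiv.Perm.nat_card_centralizer, hct]
  have h1 : Fintype.card α - p ≤ 1 := by omega
  have h2 : (Fintype.card α - p).factorial = 1 := by
    rcases Nat.le_one_iff_eq_zero_or_eq_one.mp h1 with h | h <;> rw [h] <;> rfl
  simp [h2]

theorem isConj_of_orderOf_prime {p : ℕ} (hp : p.Prime) {σ τ : Perm α} (hσ : orderOf σ = p)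
    (hτ : orderOf τ = p) (hlt : Fintype.card α < 2 * p) : IsConj σ τ := by
  rw [isConj_iff_cycleType_eq, cycleType_of_orderOf_prime hp hσ hlt,
    cycleType_of_orderOf_prime hp hτ hlt]

end Cfsg.Agent.Helper2.PermPrime
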