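import Mathlib
import Cfsg.Agent.Helper2.SmallOrder

set_option autoImplicit false

/-! A simple group with `p + 1` Sylow `p`-subgroups of prime order `p ≡ 3 (mod 4)` whose
normalizers have order `2p` does not exist: an involution of the normalizer acts on the Sylow
subgroups as an odd permutation. -/

namespace Cfsg.Agent.Helper2.SignArg

open Subgroup MulAction

variable {G : Type*} [Group G] [Finite G] {p : ℕ} [hp : Fact p.Prime]

/-- An element of a Sylow subgroup `P` of prime order normalizing a different Sylow subgroup is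
trivial. -/
theorem eq_one_of_mem_of_smul_eq (P Q : Sylow p G) (hP : Nat.card P = p) (hPQ : P ≠ Q) (s : G)
    (hs : s ∈ (P : Subgroup G)) (hsQ : s • Q = Q) : s = 1 := by
  by_contra hs1
  have hsN : s ∈ normalizer ((Q : Subgroup G) : Set G) := Sylow.smul_eq_iff_mem_normalizer.mp hsQ
  have h1 : s ∈ (P : Subgroup G) ⊓ (Q : Subgroup G) :=
    (IsPGroup.inf_normalizer_sylow P.2 Q).le ⟨hs, hsN⟩
  have hfp : Fact (Nat.card (P : Subgroup G)).Prime := by rw [hP]; exact hp
  have hz : zpowers (⟨s, hs⟩ : (P : Subgroup G)) = ⊤ := by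
    apply zpowers_eq_top_of_prime_card rfl
    intro h
    apply hs1
    exact congrArg Subtype.val h
  have hle : (P : Subgroup G) ≤ (Q : Subgroup G) := by
    intro x hx
    have hx' : (⟨x, hx⟩ : (P : Subgroup G)) ∈ zpowers (⟨s, hs⟩ : (P : Subgroup G)) := by
      rw [hz]; exact mem_top _
    obtain ⟨k, hk⟩ := mem_zpowers_iff.mp hx'
    have hk' : s ^ k = x := by
      have := congrArg Subtype.val hk
      simpa using this
    rw [← hk']
    exact (Q : Subgroup G).zpow_mem h1.2 k
  apply hPQ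
  exact Sylow.ext (P.is_maximal' Q.2 hle).symm

/-- `P` is transitive on the other Sylow subgroups when there are `p + 1` of them. -/
theorem exists_smul_eq (P : Sylow p G) (hP : Nat.card P = p)
    (hn : Nat.card (Sylow p G) = p + 1) (Q₁ Q₂ : Sylow p G) (h₁ : Q₁ ≠ P) (h₂ : Q₂ ≠ P) :
    ∃ s ∈ (P : Subgroup G), s • Q₁ = Q₂ := by
  have hstab : stabilizer (P : Subgroup G) Q₁ = ⊥ := by
    rw [eq_bot_iff]
    intro s hs
    rw [mem_stabilizer_iff] at hs
    rw [mem_bot]
    have := eq_one_of_mem_of_smul_eq P Q₁ hP h₁.symm (s : G) s.2 hs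
    exact Subtype.ext this
  have hcard : (orbit (P : Subgroup G) Q₁).ncard = p := by
    rw [← index_stabilizer, hstab, index_bot, hP]
  have hsub : orbit (P : Subgroup G) Q₁ ⊆ ({P} : Set (Sylow p G))ᶜ := by
    rintro Q ⟨s, rfl⟩ hQ
    rw [Set.mem_singleton_iff] at hQ
    apply h₁
    have h3 : (s : G) • P = P :=
      Sylow.smul_eq_iff_mem_normalizer.mpr (le_normalizer s.2)
    have h4 : (s : G) • Q₁ = P := hQ
    have h5 : (s : G)⁻¹ • ((s : G) • Q₁) = (s : G)⁻¹ • ((s : G) • P) := by rw [h4, h3]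
    rwa [inv_smul_smul, inv_smul_smul] at h5
  have hcompl : (({P} : Set (Sylow p G))ᶜ).ncard = p := by
    rw [Set.ncard_compl, Set.ncard_singleton, hn]
    omega
  have heq := Set.eq_of_subset_of_ncard_le hsub (by rw [hcard, hcompl])
  have hmem : Q₂ ∈ orbit (P : Subgroup G) Q₁ := by rw [heq]; exact h₂
  obtain ⟨s, hs⟩ := hmem
  exact ⟨s, s.2, hs⟩

omit [Finite G] hp in
/-- A subgroup of prime order is generated by any non-identity element. -/
theorem le_zpowers_of_prime_card (H : Subgroup G) {q : ℕ} (hq : q.Prime) (hH : Nat.card H = q)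
    (s : G) (hs : s ∈ H) (hs1 : s ≠ 1) : H ≤ zpowers s := by
  have hfp : Fact (Nat.card H).Prime := by rw [hH]; exact ⟨hq⟩
  have hz : zpowers (⟨s, hs⟩ : H) = ⊤ := by
    apply zpowers_eq_top_of_prime_card rfl
    intro h
    apply hs1
    exact congrArg Subtype.val h
  intro x hx
  have hx' : (⟨x, hx⟩ : H) ∈ zpowers (⟨s, hs⟩ : H) := by
    rw [hz]; exact mem_top _
  obtain ⟨k, hk⟩ := mem_zpowers_iff.mp hx'
  have hk' : s ^ k = x := by
    have := congrArg Subtype.val hk
    simpa using this
  exact mem_zpowers_iff.mpr ⟨k, hk'⟩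

/-- An element of `N(P)` not centralizing `P` fixes at most one other Sylow subgroup. -/
theorem fixed_unique (P : Sylow p G) (hP : Nat.card P = p) (hn : Nat.card (Sylow p G) = p + 1)
    (t : G) (htP : t • P = P) (htC : t ∉ centralizer ((P : Subgroup G) : Set G))
    (Q₁ Q₂ : Sylow p G) (h₁ : Q₁ ≠ P) (h₂ : Q₂ ≠ P) (ht₁ : t • Q₁ = Q₁) (ht₂ : t • Q₂ = Q₂) :
    Q₁ = Q₂ := by
  obtain ⟨s, hsP, hs⟩ := exists_smul_eq P hP hn Q₁ Q₂ h₁ h₂
  have htN : t ∈ normalizer ((P : Subgroup G) : Set G) :=
    Sylow.smul_eq_iff_mem_normalizer.mp htP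
  have hu1 : t⁻¹ * s * t * s⁻¹ ∈ (P : Subgroup G) := by
    apply mul_mem _ (inv_mem hsP)
    exact (mem_normalizer_iff''.mp htN s).mp hsP
  have hu2 : (t⁻¹ * s * t * s⁻¹) • Q₂ = Q₂ := by
    rw [mul_smul, mul_smul, mul_smul, ← hs, inv_smul_smul, ht₁, hs]
    exact inv_smul_eq_iff.mpr ht₂.symm
  have hu := eq_one_of_mem_of_smul_eq P Q₂ hP h₂.symm _ hu1 hu2
  have hcomm : s * t = t * s := by
    calc s * t = t * (t⁻¹ * s * t * s⁻¹) * s := by group
      _ = t * s := by rw [hu, mul_one]
  by_cases hs1 : s = 1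
  · rw [hs1, one_smul] at hs; exact hs
  · exfalso
    apply htC
    rw [mem_centralizer_iff]
    intro x hx
    have hx' := le_zpowers_of_prime_card (P : Subgroup G) hp.out hP s hsP hs1 hx
    obtain ⟨k, rfl⟩ := mem_zpowers_iff.mp hx'
    exact ((Commute.zpow_left (show Commute s t from hcomm) k).eq)

/-- If `|N(P)| = 2p` in a simple group with `|P| = p` odd and `|G| ≠ p`, an involution of `N(P)`
does not centralize `P`. -/
theorem not_mem_centralizer [IsSimpleGroup G] (P : Sylow p G) (hP : Nat.card P = p) (hp2 : p ≠ 2)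
    (hN : Nat.card (normalizer ((P : Subgroup G) : Set G)) = 2 * p) (hG : Nat.card G ≠ p)
    (t : G) (htN : t ∈ normalizer ((P : Subgroup G) : Set G)) (ht : orderOf t = 2) :
    t ∉ centralizer ((P : Subgroup G) : Set G) := by
  intro htC
  have hfp : Fact (Nat.card (P : Subgroup G)).Prime := by rw [hP]; exact hp
  haveI : IsCyclic (P : Subgroup G) := isCyclic_of_prime_card rfl
  have hPK : (P : Subgroup G) ≤
      centralizer ((P : Subgroup G) : Set G) ⊓ normalizer ((P : Subgroup G) : Set G) :=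
    le_inf (Subgroup.le_centralizer (P : Subgroup G)) le_normalizer
  have hKN : centralizer ((P : Subgroup G) : Set G) ⊓ normalizer ((P : Subgroup G) : Set G) ≤
      normalizer ((P : Subgroup G) : Set G) := inf_le_right
  have h1 : p ∣ Nat.card ↥(centralizer ((P : Subgroup G) : Set G) ⊓
      normalizer ((P : Subgroup G) : Set G)) := by
    have := Subgroup.card_dvd_of_le hPK
    rwa [hP] at this
  have h2 : 2 ∣ Nat.card ↥(centralizer ((P : Subgroup G) : Set G) ⊓
      normalizer ((P : Subgroup G) : Set G)) := by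
    have htK : t ∈ centralizer ((P : Subgroup G) : Set G) ⊓
      normalizer ((P : Subgroup G) : Set G) := ⟨htC, htN⟩
    have := orderOf_dvd_natCard (⟨t, htK⟩ : ↥(centralizer ((P : Subgroup G) : Set G) ⊓
      normalizer ((P : Subgroup G) : Set G)))
    rwa [Subgroup.orderOf_mk, ht] at this
  have hcop : Nat.Coprime 2 p :=
    (Nat.coprime_primes Nat.prime_two hp.out).mpr (Ne.symm hp2)
  have h3 : 2 * p ∣ Nat.card ↥(centralizer ((P : Subgroup G) : Set G) ⊓
      normalizer ((P : Subgroup G) : Set G)) := hcop.mul_dvd_of_dvd_of_dvd h2 h1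
  have h4 : normalizer ((P : Subgroup G) : Set G) ≤
      centralizer ((P : Subgroup G) : Set G) ⊓ normalizer ((P : Subgroup G) : Set G) := by
    have heq := Subgroup.eq_of_le_of_card_ge hKN (by
      rw [hN]; exact Nat.le_of_dvd Nat.card_pos h3)
    rw [heq]
  have hle : normalizer ((P : Subgroup G) : Set G) ≤ centralizer ((P : Subgroup G) : Set G) :=
    h4.trans inf_le_left
  have hcomp := MonoidHom.ker_transferSylow_isComplement' P hle
  haveI : (MonoidHom.transferSylow P hle).ker.Normal := MonoidHom.normal_ker _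
  apply SmallOrder.false_of_normal_index (MonoidHom.transferSylow P hle).ker
  · rw [hcomp.symm.index_eq_card, hP]; exact hp.out.one_lt.ne'
  · rw [hcomp.symm.index_eq_card, hP]; exact Ne.symm hG

/-- No simple group has `p + 1` Sylow `p`-subgroups of prime order `p ≡ 3 (mod 4)` with
normalizers of order `2p`. -/
theorem false_of_sylow_succ [IsSimpleGroup G] (P : Sylow p G) (hp4 : p % 4 = 3)
    (hP : Nat.card P = p) (hn : Nat.card (Sylow p G) = p + 1)
    (hN : Nat.card (normalizer ((P : Subgroup G) : Set G)) = 2 * p) : False := by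
  classical
  have : Fintype (Sylow p G) := Fintype.ofFinite _
  have hp2 : p ≠ 2 := by omega
  have hG : Nat.card G = 2 * p * (p + 1) := by
    rw [← SmallOrder.card_normalizer_mul_card_sylow P, hN, hn]
  have hppos := hp.out.two_le
  have hGp : Nat.card G ≠ p := by rw [hG]; nlinarith
  have h2N : 2 ∣ Nat.card (normalizer ((P : Subgroup G) : Set G)) := by
    rw [hN]; exact dvd_mul_right 2 p
  haveI : Fact (Nat.Prime 2) := ⟨Nat.prime_two⟩
  obtain ⟨⟨t, htN⟩, ht⟩ := exists_prime_orderOf_dvd_card' 2 h2N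
  rw [Subgroup.orderOf_mk] at ht
  have htC := not_mem_centralizer P hP hp2 hN hGp t htN ht
  have htP : t • P = P := Sylow.smul_eq_iff_mem_normalizer.mpr htN
  let ψ : G →* ℤˣ := Equiv.Perm.sign.comp (MulAction.toPermHom G (Sylow p G))
  have hker : ψ.ker = ⊤ := by
    rcases (MonoidHom.normal_ker ψ).eq_bot_or_eq_top with h | h
    · exfalso
      have hinj : Function.Injective ψ := (MonoidHom.ker_eq_bot_iff ψ).mp h
      have := Nat.card_le_card_of_injective ψ hinj
      rw [Nat.card_eq_fintype_card (α := ℤˣ), Fintype.card_units_int, hG] at this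
      nlinarith
    · exact h
  have hψt : ψ t = 1 := by
    have : t ∈ ψ.ker := by rw [hker]; exact mem_top t
    exact MonoidHom.mem_ker.mp this
  set τ : Equiv.Perm (Sylow p G) := MulAction.toPermHom G (Sylow p G) t with hτ
  have hτ2 : τ ^ 2 = 1 := by
    rw [hτ, ← map_pow, ← ht, pow_orderOf_eq_one, map_one]
  have hPfix : P ∈ Function.fixedPoints τ := htP
  have hfix : Fintype.card (Function.fixedPoints τ) = 2 := by
    rw [← Nat.card_eq_fintype_card]
    rw [Nat.card_eq_two_iff' (⟨P, hPfix⟩ : Function.fixedPoints τ)]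
    have hmod := Equiv.Perm.card_compl_support_modEq (p := 2) (n := 1) (σ := τ)
      (by rw [pow_one]; exact hτ2)
    rw [Finset.card_compl, ← Equiv.Perm.sum_cycleType, ← Equiv.Perm.card_fixedPoints,
      ← Nat.card_eq_fintype_card (α := Sylow p G), hn] at hmod
    have heven : 2 ∣ Fintype.card (Function.fixedPoints τ) := by
      have h0 : (p + 1) % 2 = 0 := by omega
      have h1 : Fintype.card (Function.fixedPoints τ) % 2 = (p + 1) % 2 := hmod
      omega
    have hpos : 0 < Fintype.card (Function.fixedPoints τ) :=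
      Fintype.card_pos_iff.mpr ⟨⟨P, hPfix⟩⟩
    have h1lt : 1 < Fintype.card (Function.fixedPoints τ) := by omega
    obtain ⟨Q₀, hQ₀⟩ := Fintype.exists_ne_of_one_lt_card h1lt
      (⟨P, hPfix⟩ : Function.fixedPoints τ)
    refine ⟨Q₀, hQ₀, ?_⟩
    intro Q hQ
    apply Subtype.ext
    exact fixed_unique P hP hn t htP htC Q Q₀ (fun h => hQ (Subtype.ext h))
      (fun h => hQ₀ (Subtype.ext h)) Q.2 Q₀.2
  have hsign : Equiv.Perm.sign τ = -1 := by
    rw [Equiv.Perm.sign_of_pow_two_eq_one hτ2, hfix, ← Nat.card_eq_fintype_card, hn]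
    have hodd : Odd ((p + 1 - 2) / 2) := by
      rw [Nat.odd_iff]; omega
    exact hodd.neg_one_pow
  have h3 : ψ t = -1 := hsign
  rw [hψt] at h3
  exact absurd h3 (by decide)

end Cfsg.Agent.Helper2.SignArg
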