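import Mathlib

set_option autoImplicit false

namespace Cfsg.Agent.Helper2.SylowExact

variable {G : Type*} [Group G]

theorem card_sylow_of_exact_pow [Finite G] {s k m : ℕ} [hs : Fact s.Prime]
    (hG : Nat.card G = s ^ k * m) (hm : ¬ s ∣ m) (P : Sylow s G) : Nat.card P = s ^ k := by
  have hm0 : m ≠ 0 := by
    rintro rfl
    exact hm (dvd_zero s)
  have hsk : s ^ k ≠ 0 := pow_ne_zero _ hs.out.ne_zero
  rw [Sylow.card_eq_multiplicity, hG, Nat.factorization_mul hsk hm0,
    Finsupp.add_apply, Nat.factorization_pow, Finsupp.smul_apply,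
    Nat.Prime.factorization_self hs.out, Nat.factorization_eq_zero_of_not_dvd hm]
  simp

end Cfsg.Agent.Helper2.SylowExact
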