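import Mathlib
import Cfsg.Agent.S0991
import Cfsg.Agent.Helper2.SmallOrder
import Cfsg.Agent.Helper2.SylowExact2
import Cfsg.Agent.Helper2.SignArg
import Cfsg.Agent.Helper2.PermPrime

set_option autoImplicit false

/-! Simple groups of order 504: index bounds and the Sylow 7-subgroups. -/

namespace Cfsg.Agent.Helper2.S504

open Subgroup

section general

variable {G : Type*} [Group G] [Finite G]

theorem card_mul_relIndex' {H K : Subgroup G} (h : H ≤ K) :
    Nat.card H * H.relIndex K = Nat.card K := by
  have := relIndex_mul_relIndex (⊥ : Subgroup G) H K bot_le h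
  rwa [relIndex_bot_left, relIndex_bot_left] at this

/-- In a simple group with `p + 1` Sylow `p`-subgroups of prime order `p`, every element commuting
with a non-identity element of a Sylow `p`-subgroup has order dividing `p`. -/
theorem orderOf_dvd_of_commute_of_sylow_succ [IsSimpleGroup G] {p : ℕ} [hp : Fact p.Prime]
    (P : Sylow p G) (hP : Nat.card P = p) (hn : Nat.card (Sylow p G) = p + 1)
    (y : G) (hy : y ∈ (P : Subgroup G)) (hy1 : y ≠ 1) (x : G) (hx : Commute x y) :
    orderOf x ∣ p := by
  classical
  have : Fintype (Sylow p G) := Fintype.ofFinite _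
  let φ : G →* Equiv.Perm (Sylow p G) := MulAction.toPermHom G (Sylow p G)
  have hker : φ.ker = ⊥ := by
    rcases (MonoidHom.normal_ker φ).eq_bot_or_eq_top with h | h
    · exact h
    · exfalso
      have hfix : ∀ g : G, g • P = P := by
        intro g
        have hg : g ∈ φ.ker := by rw [h]; exact mem_top g
        have h1 : φ g = 1 := MonoidHom.mem_ker.mp hg
        have h2 : φ g P = P := by rw [h1]; rfl
        exact h2
      have htop : normalizer ((P : Subgroup G) : Set G) = ⊤ := by
        rw [eq_top_iff]
        intro g _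
        exact Sylow.smul_eq_iff_mem_normalizer.mp (hfix g)
      have h3 : (normalizer ((P : Subgroup G) : Set G)).index = p + 1 := by
        rw [← hn]; exact (Sylow.card_eq_index_normalizer P).symm
      rw [htop, index_top] at h3
      have := hp.out.two_le
      omega
  have hinj : Function.Injective φ := (MonoidHom.ker_eq_bot_iff φ).mp hker
  have hyo : orderOf y = p := by
    apply orderOf_eq_prime _ hy1
    have h1 : (⟨y, hy⟩ : (P : Subgroup G)) ^ Nat.card (P : Subgroup G) = 1 := pow_card_eq_one'
    rw [hP] at h1
    have h2 := congrArg Subtype.val h1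
    simpa using h2
  have hσ : orderOf (φ y) = p := by rw [orderOf_injective φ hinj, hyo]
  have hcard : Fintype.card (Sylow p G) ≤ p + 1 := by
    rw [← Nat.card_eq_fintype_card, hn]
  have hcent := PermPrime.card_centralizer_of_orderOf_prime hp.out hσ hcard
  have hmem : φ x ∈ centralizer ({φ y} : Set (Equiv.Perm (Sylow p G))) := by
    rw [mem_centralizer_singleton_iff]
    rw [← map_mul, ← map_mul, hx.eq]
  have h1 := Subgroup.orderOf_dvd_natCard _ hmem
  rwa [hcent, orderOf_injective φ hinj] at h1

end general

variable {G : Type*} [Group G] [Finite G] [IsSimpleGroup G]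

theorem not_isMulCommutative (h : Nat.card G = 504) : ¬ IsMulCommutative G := by
  intro hc
  haveI : Fact (Nat.Prime 7) := ⟨by norm_num⟩
  let P : Sylow 7 G := default
  have hP : Nat.card P = 7 := by
    simpa using SylowExact.card_sylow_of_exact_pow (s := 7) (k := 1) (m := 72)
      (by rw [h]; norm_num) (by norm_num) P
  have hn : (P : Subgroup G).Normal := ⟨fun n hn g => by
    have : g * n * g⁻¹ = n := by rw [hc.is_comm.comm g n]; group
    rw [this]; exact hn⟩
  rcases hn.eq_bot_or_eq_top with h0 | h0
  · rw [h0] at hP; simp at hP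
  · rw [h0, Subgroup.card_top, h] at hP; omega

theorem no_embed_alt7 (h : Nat.card G = 504)
    (f : G →* ↥(alternatingGroup (Fin 7))) (hf : Function.Injective f) : False := by
  classical
  haveI : IsSimpleGroup ↥(alternatingGroup (Fin 7)) :=
    alternatingGroup.isSimpleGroup (by simp)
  have hA : Nat.card ↥(alternatingGroup (Fin 7)) = 2520 := by
    have := two_mul_nat_card_alternatingGroup (α := Fin 7)
    rw [Nat.card_eq_fintype_card (α := Equiv.Perm (Fin 7)), Fintype.card_perm,
      Fintype.card_fin] at this
    have h7 : Nat.factorial 7 = 5040 := by decide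
    omega
  have hK : Nat.card f.range = 504 := by
    rw [← h]
    exact (Nat.card_congr (Equiv.ofInjective f hf)).symm
  have hidx : f.range.index = 5 := by
    have := f.range.card_mul_index
    rw [hK, hA] at this
    omega
  have hne : f.range ≠ ⊤ := by
    intro h0
    rw [h0, index_top] at hidx
    omega
  have := SmallOrder.card_dvd_factorial_index f.range hne
  rw [hA, hidx] at this
  have h5 : Nat.factorial 5 = 120 := by decide
  rw [h5] at this
  omega

theorem index_ne_seven (h : Nat.card G = 504) (H : Subgroup G) : H.index ≠ 7 := by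
  intro h7
  have hH : H ≠ ⊤ := by
    rintro rfl
    rw [index_top] at h7
    omega
  obtain ⟨f, hf⟩ := Cfsg.Agent.S0991.result (not_isMulCommutative h) H hH
  have key : ∀ (n : ℕ) (f : G →* ↥(alternatingGroup (Fin n))), Function.Injective f → n = 7 →
      False := by
    intro n f hf hn
    subst hn
    exact no_embed_alt7 h f hf
  exact key _ f hf h7

theorem eight_le_index (h : Nat.card G = 504) (H : Subgroup G) (hH : H ≠ ⊤) : 8 ≤ H.index := by
  have h1 := SmallOrder.card_dvd_factorial_index H hH
  rw [h] at h1
  have h7 : 7 ∣ (H.index).factorial := Dvd.dvd.trans (by norm_num) h1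
  have h7' : 7 ≤ H.index := (Nat.Prime.dvd_factorial (by norm_num)).mp h7
  have := index_ne_seven h H
  omega

/-- every proper subgroup has order at most 63 -/
theorem card_le_of_ne_top (h : Nat.card G = 504) (H : Subgroup G) (hH : H ≠ ⊤) :
    Nat.card H ≤ 63 := by
  have h1 := eight_le_index h H hH
  have h2 := H.card_mul_index
  rw [h] at h2
  nlinarith

theorem ne_top_of_card_lt (h : Nat.card G = 504) (H : Subgroup G) (hH : Nat.card H < 504) :
    H ≠ ⊤ := by
  rintro rfl
  rw [Subgroup.card_top, h] at hH
  omega

/-! ### Sylow 7-subgroups -/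

theorem card_sylow7_eq (h : Nat.card G = 504) [Fact (Nat.Prime 7)] (P : Sylow 7 G) :
    Nat.card P = 7 := by
  simpa using SylowExact.card_sylow_of_exact_pow (s := 7) (k := 1) (m := 72)
    (by rw [h]; norm_num) (by norm_num) P

theorem card_sylow7 (h : Nat.card G = 504) [Fact (Nat.Prime 7)] : Nat.card (Sylow 7 G) = 36 := by
  let P : Sylow 7 G := default
  have hP : Nat.card P = 7 := card_sylow7_eq h P
  have hidx : (P : Subgroup G).index = 72 := by
    have h1 := (P : Subgroup G).card_mul_index
    rw [hP, h] at h1
    omega
  have hdvd : Nat.card (Sylow 7 G) ∣ 72 := hidx ▸ Sylow.card_dvd_index P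
  have hmod : Nat.card (Sylow 7 G) % 7 = 1 := card_sylow_modEq_one 7 G
  have hne1 : Nat.card (Sylow 7 G) ≠ 1 := by
    apply SmallOrder.card_sylow_ne_one P
    · rw [hP]; norm_num
    · rw [hP, h]; norm_num
  have hle : Nat.card (Sylow 7 G) ≤ 72 := Nat.le_of_dvd (by norm_num) hdvd
  have hn : Nat.card (Sylow 7 G) = 8 ∨ Nat.card (Sylow 7 G) = 36 := by
    generalize Nat.card (Sylow 7 G) = n at *
    interval_cases n <;> omega
  rcases hn with hn | hn
  · exfalso
    have hN : Nat.card (normalizer ((P : Subgroup G) : Set G)) = 63 := by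
      have := SmallOrder.card_normalizer_mul_card_sylow P
      rw [hn, h] at this
      omega
    have hfp : Fact (Nat.card (P : Subgroup G)).Prime := by rw [hP]; infer_instance
    have hPc : IsCyclic (P : Subgroup G) := isCyclic_of_prime_card rfl
    have h1 := SmallOrder.relIndex_centralizer_normalizer_dvd (P : Subgroup G) hPc
    rw [hP] at h1
    have htot : Nat.totient 7 = 6 := by decide
    rw [htot] at h1
    have hCN : centralizer ((P : Subgroup G) : Set G) ≤ normalizer ((P : Subgroup G) : Set G) :=
      centralizer_le_normalizer _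
    have h2 := card_mul_relIndex' hCN
    rw [hN] at h2
    have hr : (centralizer ((P : Subgroup G) : Set G)).relIndex
        (normalizer ((P : Subgroup G) : Set G)) ∣ 63 := Dvd.intro_left _ h2
    have hr3 : (centralizer ((P : Subgroup G) : Set G)).relIndex
        (normalizer ((P : Subgroup G) : Set G)) ∣ 3 := by
      have := Nat.dvd_gcd h1 hr
      simpa using this
    have h3 : 3 ∣ Nat.card (centralizer ((P : Subgroup G) : Set G)) := by
      obtain ⟨k, hk⟩ := hr3
      rw [Nat.mul_comm] at h2
      have h4 : (centralizer ((P : Subgroup G) : Set G)).relIndex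
        (normalizer ((P : Subgroup G) : Set G)) = 1 ∨ (centralizer ((P : Subgroup G) : Set G)).relIndex
        (normalizer ((P : Subgroup G) : Set G)) = 3 := by
        have := Nat.le_of_dvd (by norm_num) ⟨k, hk⟩
        generalize (centralizer ((P : Subgroup G) : Set G)).relIndex
          (normalizer ((P : Subgroup G) : Set G)) = r at *
        interval_cases r <;> omega
      rcases h4 with h4 | h4
      · rw [h4] at h2; omega
      · rw [h4] at h2; omega
    haveI : Fact (Nat.Prime 3) := ⟨by norm_num⟩
    obtain ⟨⟨x, hxC⟩, hx⟩ := exists_prime_orderOf_dvd_card' 3 h3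
    rw [Subgroup.orderOf_mk] at hx
    obtain ⟨y, hy1⟩ : ∃ y : (P : Subgroup G), y ≠ 1 := by
      haveI : Nontrivial (P : Subgroup G) := by
        rw [← Finite.one_lt_card_iff_nontrivial, hP]; norm_num
      exact exists_ne 1
    have hcomm : Commute x (y : G) := by
      have := mem_centralizer_iff.mp hxC (y : G) y.2
      exact this.symm
    have := orderOf_dvd_of_commute_of_sylow_succ P hP (by rw [hn]) (y : G) y.2
      (fun h0 => hy1 (Subtype.ext h0)) x hcomm
    rw [hx] at this
    omega
  · exact hn

theorem card_normalizer_sylow7 (h : Nat.card G = 504) [Fact (Nat.Prime 7)] (P : Sylow 7 G) :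
    Nat.card (normalizer ((P : Subgroup G) : Set G)) = 14 := by
  have := SmallOrder.card_normalizer_mul_card_sylow P
  rw [card_sylow7 h, h] at this
  omega

theorem card_centralizer_sylow7 (h : Nat.card G = 504) [Fact (Nat.Prime 7)] (P : Sylow 7 G) :
    Nat.card (centralizer ((P : Subgroup G) : Set G)) = 7 := by
  have hP : Nat.card P = 7 := card_sylow7_eq h P
  have hN := card_normalizer_sylow7 h P
  have hfp : Fact (Nat.card (P : Subgroup G)).Prime := by rw [hP]; infer_instance
  haveI : IsCyclic (P : Subgroup G) := isCyclic_of_prime_card rfl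
  have hPC : (P : Subgroup G) ≤ centralizer ((P : Subgroup G) : Set G) :=
    Subgroup.le_centralizer (P : Subgroup G)
  have hCN : centralizer ((P : Subgroup G) : Set G) ≤ normalizer ((P : Subgroup G) : Set G) :=
    centralizer_le_normalizer _
  have h1 : 7 ∣ Nat.card (centralizer ((P : Subgroup G) : Set G)) := by
    have := Subgroup.card_dvd_of_le hPC
    rwa [hP] at this
  have h2 : Nat.card (centralizer ((P : Subgroup G) : Set G)) ∣ 14 := by
    have := Subgroup.card_dvd_of_le hCN
    rwa [hN] at this
  have h3 : ¬ 2 ∣ Nat.card (centralizer ((P : Subgroup G) : Set G)) := by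
    intro h2'
    haveI : Fact (Nat.Prime 2) := ⟨Nat.prime_two⟩
    obtain ⟨⟨t, htC⟩, ht⟩ := exists_prime_orderOf_dvd_card' 2 h2'
    rw [Subgroup.orderOf_mk] at ht
    exact SignArg.not_mem_centralizer P hP (by norm_num) (by rw [hN]) (by rw [h]; norm_num)
      t (hCN htC) ht htC
  have hle := Nat.le_of_dvd (by norm_num) h2
  generalize Nat.card (centralizer ((P : Subgroup G) : Set G)) = c at *
  interval_cases c <;> omega

/-- an element commuting with an element of order 7 has order dividing 7 -/
theorem orderOf_dvd_seven_of_commute (h : Nat.card G = 504) {x y : G} (hy : orderOf y = 7)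
    (hx : Commute x y) : orderOf x ∣ 7 := by
  haveI : Fact (Nat.Prime 7) := ⟨by norm_num⟩
  have hz : Nat.card (zpowers y) = 7 := by rw [Nat.card_zpowers, hy]
  have hpg : IsPGroup 7 (zpowers y) := IsPGroup.of_card (n := 1) (by rw [hz]; norm_num)
  obtain ⟨P, hP⟩ := hpg.exists_le_sylow
  have hPc : Nat.card P = 7 := card_sylow7_eq h P
  have hyP : y ∈ (P : Subgroup G) := hP (mem_zpowers y)
  have hy1 : y ≠ 1 := by
    intro h0
    rw [h0, orderOf_one] at hy
    omega
  have hle : (P : Subgroup G) ≤ zpowers y :=
    SignArg.le_zpowers_of_prime_card (P : Subgroup G) (by norm_num) hPc y hyP hy1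
  have hxC : x ∈ centralizer ((P : Subgroup G) : Set G) := by
    rw [mem_centralizer_iff]
    intro g hg
    obtain ⟨k, rfl⟩ := mem_zpowers_iff.mp (hle hg)
    exact ((hx.zpow_right k).eq).symm
  have := Subgroup.orderOf_dvd_natCard _ hxC
  rwa [card_centralizer_sylow7 h P] at this

end Cfsg.Agent.Helper2.S504
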