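import Mathlib
import Cfsg.Agent.Helper2.BrTIG
import Cfsg.Agent.Helper2.S504A

/-!
# Brauer's degree equation: simple groups with a Sylow subgroup of prime order whose normalizer
has order `2p` or `3p`
-/

set_option autoImplicit false
set_option linter.style.haveILetI false

namespace Cfsg.Agent.Helper2.BrTI

open Cfsg.Agent.Helper6 Subgroup
open scoped commutatorElement

universe u

variable {G : Type u} [Group G]

/-- a simple group whose order is not a prime is perfect -/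
theorem perfect_of_simple [IsSimpleGroup G] (hnp : ¬ (Nat.card G).Prime) : commutator G = ⊤ := by
  rcases (inferInstance : (commutator G).Normal).eq_bot_or_eq_top with h | h
  · exfalso
    have hc : ∀ a b : G, a * b = b * a := by
      intro a b
      have h1 : ⁅a, b⁆ ∈ commutator G := by
        rw [_root_.commutator_def]
        exact Subgroup.commutator_mem_commutator (Subgroup.mem_top a) (Subgroup.mem_top b)
      rw [h, Subgroup.mem_bot, commutatorElement_eq_one_iff_mul_comm] at h1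
      exact h1
    let _ : CommGroup G := { (inferInstance : Group G) with mul_comm := hc }
    exact hnp IsSimpleGroup.prime_card
  · exact h

/-- in a simple group, a Sylow subgroup of prime order `p` whose normalizer has order `q p` with
`q` prime is self-centralizing -/
theorem sylow_selfcent [Finite G] [IsSimpleGroup G] {p : ℕ} [hp : Fact p.Prime] (P : Sylow p G)
    (hP : Nat.card P = p) (hGp : Nat.card G ≠ p) (q : ℕ) (hq : q.Prime)
    (hN : Nat.card (normalizer ((P : Subgroup G) : Set G)) = q * p) :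
    centralizer ((P : Subgroup G) : Set G) ≤ P ∧
      ((P : Subgroup G).subgroupOf (normalizer ((P : Subgroup G) : Set G))).index = q := by
  set N := normalizer ((P : Subgroup G) : Set G) with hNdef
  set C := centralizer ((P : Subgroup G) : Set G) with hCdef
  have hCN : C ≤ N := Subgroup.centralizer_le_normalizer _
  have hPN : (P : Subgroup G) ≤ N := Subgroup.le_normalizer
  have hPC : (P : Subgroup G) ≤ C := by
    intro x hx
    rw [hCdef, Subgroup.mem_centralizer_iff]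
    intro y hy
    exact prime_ab (P : Subgroup G) hP y hy x hx
  have hfp : Fact (Nat.card (P : Subgroup G)).Prime := by rw [hP]; exact hp
  have hPc : IsCyclic (P : Subgroup G) := isCyclic_of_prime_card rfl
  have h1 := SmallOrder.relIndex_centralizer_normalizer_dvd (P : Subgroup G) hPc
  rw [hP, Nat.totient_prime hp.out] at h1
  have h2 := S504.card_mul_relIndex' hCN
  have h3 := S504.card_mul_relIndex' hPC
  rw [hP] at h3
  rw [hN, ← h3] at h2
  -- `p * r₁ * r₂ = q * p`
  have h4 : (P : Subgroup G).relIndex C * C.relIndex N = q := by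
    have : p * ((P : Subgroup G).relIndex C * C.relIndex N) = p * q := by
      rw [← mul_assoc, h2, mul_comm]
    exact Nat.eq_of_mul_eq_mul_left hp.out.pos this
  have hne1 : C.relIndex N ≠ 1 := by
    intro h
    have hle : N ≤ C := Subgroup.relIndex_eq_one.mp h
    have hcomp := MonoidHom.ker_transferSylow_isComplement' P hle
    have hidx : (MonoidHom.transferSylow P hle).ker.index = p := by
      rw [hcomp.symm.index_eq_card, hP]
    apply SmallOrder.false_of_normal_index (MonoidHom.transferSylow P hle).ker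
    · rw [hidx]; exact hp.out.one_lt.ne'
    · rw [hidx]; exact hGp.symm
  have h5 : C.relIndex N ∣ q := ⟨_, by rw [← h4, mul_comm]⟩
  have h6 : C.relIndex N = q := ((Nat.dvd_prime hq).mp h5).resolve_left hne1
  have h7 : (P : Subgroup G).relIndex C = 1 := by
    rw [h6] at h4
    have : (P : Subgroup G).relIndex C * q = 1 * q := by rw [h4, one_mul]
    exact Nat.eq_of_mul_eq_mul_right hq.pos this
  refine ⟨Subgroup.relIndex_eq_one.mp h7, ?_⟩
  have h8 := S504.card_mul_relIndex' hPN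
  rw [hP, hN] at h8
  have : p * (P : Subgroup G).relIndex N = p * q := by rw [h8, mul_comm]
  exact Nat.eq_of_mul_eq_mul_left hp.out.pos this

end Cfsg.Agent.Helper2.BrTI

namespace Cfsg.Agent.Helper2.BrTI

open Cfsg.Agent.Helper6 Subgroup

universe u

variable {G : Type u} [Group G]

theorem coprime_of_dvd_sub {p n : ℕ} {a : ℤ} (hp : p.Prime) (h : (p : ℤ) ∣ (n : ℤ) - a)
    (ha : ¬ (p : ℤ) ∣ a) : Nat.Coprime n p := by
  rw [Nat.coprime_comm, Nat.Prime.coprime_iff_not_dvd hp]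
  intro hd
  apply ha
  have h1 : (p : ℤ) ∣ (n : ℤ) := by exact_mod_cast hd
  have h2 := Int.dvd_sub h1 h
  simpa using h2

theorem not_dvd_pm_one {p : ℕ} (hp : 2 < p) {δ : ℤ} (hδ : δ = 1 ∨ δ = -1) : ¬ (p : ℤ) ∣ δ := by
  intro h
  have h1 : (p : ℤ) ∣ 1 := by
    rcases hδ with h2 | h2
    · rwa [h2] at h
    · rw [h2] at h
      exact (Int.dvd_neg).mp h
  have := Int.le_of_dvd (by norm_num) h1
  omega

theorem not_dvd_pm_mul {p e : ℕ} (he : 0 < e) (hp : e < p) {δ : ℤ} (hδ : δ = 1 ∨ δ = -1) :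
    ¬ (p : ℤ) ∣ δ * e := by
  intro h
  have h1 : (p : ℤ) ∣ (e : ℤ) := by
    rcases hδ with h2 | h2
    · rw [h2, one_mul] at h
      exact h
    · rw [h2, neg_one_mul] at h
      exact (Int.dvd_neg).mp h
  have := Int.le_of_dvd (by exact_mod_cast he) h1
  omega

open Classical in
/-- the degree equation when the normalizer has order `2p` -/
theorem simple_e2 [Finite G] [IsSimpleGroup G] {p : ℕ} [hp : Fact p.Prime] (P : Sylow p G)
    (hP : Nat.card P = p) (m' : ℕ) (hG : Nat.card G = p * m') (hm' : 1 < m')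
    (hN : Nat.card (normalizer ((P : Subgroup G) : Set G)) = 2 * p) (hp7 : 7 < p) :
    ∃ (n d : ℕ) (δ εz : ℤ), (δ = 1 ∨ δ = -1) ∧ (εz = 1 ∨ εz = -1) ∧ 1 < n ∧ n ∣ m' ∧ d ∣ m' ∧
      (p : ℤ) ∣ (n : ℤ) - δ ∧ (p : ℤ) ∣ (d : ℤ) - εz * 2 ∧ 1 + δ * n = εz * d := by
  haveI : Fintype G := Fintype.ofFinite G
  haveI : Finite (Cfsg.IrrCharacter G) := irr_finite
  haveI : Fintype (Cfsg.IrrCharacter G) := Fintype.ofFinite _
  have hGp : Nat.card G ≠ p := by
    rw [hG]
    intro h
    have : p * m' = p * 1 := by rw [h, mul_one]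
    have := Nat.eq_of_mul_eq_mul_left hp.out.pos this
    omega
  have hnp : ¬ (Nat.card G).Prime := by
    rw [hG]
    exact Nat.not_prime_mul hp.out.one_lt.ne' hm'.ne'
  obtain ⟨hcent, he⟩ := sylow_selfcent P hP hGp 2 Nat.prime_two hN
  obtain ⟨εz, d, c, hε, hc1, hsq, hlin, hmod, hdmod, hddvd, hdvd, hgt⟩ :=
    brauer_main (perfect_of_simple hnp) (P : Subgroup G) hP hcent 2 he (by omega)
  obtain ⟨χ₁, hχ₁, hcχ₁, hsum⟩ := sum_sq_two c
    (fun χ => (Cfsg.charDegree (χ : G → ℂ) : ℤ)) _ hc1 (by exact_mod_cast hsq)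
  rw [hsum] at hlin
  have hone : Cfsg.charDegree (fun _ : G => (1 : ℂ)) = 1 := by
    unfold Cfsg.charDegree
    simp
  simp only [hone] at hlin
  have hcne : c χ₁ ≠ 0 := by rcases hcχ₁ with h | h <;> rw [h] <;> norm_num
  have hmod1 := hmod χ₁ hcne
  refine ⟨Cfsg.charDegree (χ₁ : G → ℂ), d, c χ₁, εz, hcχ₁, hε, hgt χ₁ hχ₁, ?_, ?_, hmod1,
    by simpa using hdmod, by exact_mod_cast hlin⟩
  · have hcop := coprime_of_dvd_sub hp.out hmod1 (not_dvd_pm_one (by omega) hcχ₁)
    have := hdvd χ₁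
    rw [hG] at this
    exact hcop.dvd_of_dvd_mul_left this
  · have hcop := coprime_of_dvd_sub hp.out hdmod
      (not_dvd_pm_mul (e := 2) (by norm_num) (by omega) hε)
    rw [hG] at hddvd
    exact hcop.dvd_of_dvd_mul_left hddvd

open Classical in
/-- the degree equation when the normalizer has order `3p` -/
theorem simple_e3 [Finite G] [IsSimpleGroup G] {p : ℕ} [hp : Fact p.Prime] (P : Sylow p G)
    (hP : Nat.card P = p) (m' : ℕ) (hG : Nat.card G = p * m') (hm' : 1 < m')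
    (hN : Nat.card (normalizer ((P : Subgroup G) : Set G)) = 3 * p) (hp13 : 13 < p) :
    ∃ (n₁ n₂ d : ℕ) (δ₁ δ₂ εz : ℤ), (δ₁ = 1 ∨ δ₁ = -1) ∧ (δ₂ = 1 ∨ δ₂ = -1) ∧
      (εz = 1 ∨ εz = -1) ∧ 1 < n₁ ∧ 1 < n₂ ∧ n₁ ∣ m' ∧ n₂ ∣ m' ∧ d ∣ m' ∧
      (p : ℤ) ∣ (n₁ : ℤ) - δ₁ ∧ (p : ℤ) ∣ (n₂ : ℤ) - δ₂ ∧ (p : ℤ) ∣ (d : ℤ) - εz * 3 ∧
      1 + δ₁ * n₁ + δ₂ * n₂ = εz * d := by
  haveI : Fintype G := Fintype.ofFinite G
  haveI : Finite (Cfsg.IrrCharacter G) := irr_finite
  haveI : Fintype (Cfsg.IrrCharacter G) := Fintype.ofFinite _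
  have hGp : Nat.card G ≠ p := by
    rw [hG]
    intro h
    have : p * m' = p * 1 := by rw [h, mul_one]
    have := Nat.eq_of_mul_eq_mul_left hp.out.pos this
    omega
  have hnp : ¬ (Nat.card G).Prime := by
    rw [hG]
    exact Nat.not_prime_mul hp.out.one_lt.ne' hm'.ne'
  obtain ⟨hcent, he⟩ := sylow_selfcent P hP hGp 3 Nat.prime_three hN
  obtain ⟨εz, d, c, hε, hc1, hsq, hlin, hmod, hdmod, hddvd, hdvd, hgt⟩ :=
    brauer_main (perfect_of_simple hnp) (P : Subgroup G) hP hcent 3 he (by omega)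
  obtain ⟨χ₁, χ₂, hχ₁, hχ₂, -, hcχ₁, hcχ₂, hsum⟩ := sum_sq_three c
    (fun χ => (Cfsg.charDegree (χ : G → ℂ) : ℤ)) _ hc1 (by exact_mod_cast hsq)
  rw [hsum] at hlin
  have hone : Cfsg.charDegree (fun _ : G => (1 : ℂ)) = 1 := by
    unfold Cfsg.charDegree
    simp
  simp only [hone] at hlin
  have hcne₁ : c χ₁ ≠ 0 := by rcases hcχ₁ with h | h <;> rw [h] <;> norm_num
  have hcne₂ : c χ₂ ≠ 0 := by rcases hcχ₂ with h | h <;> rw [h] <;> norm_num
  have hmod1 := hmod χ₁ hcne₁
  have hmod2 := hmod χ₂ hcne₂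
  refine ⟨Cfsg.charDegree (χ₁ : G → ℂ), Cfsg.charDegree (χ₂ : G → ℂ), d, c χ₁, c χ₂, εz,
    hcχ₁, hcχ₂, hε, hgt χ₁ hχ₁, hgt χ₂ hχ₂, ?_, ?_, ?_, hmod1, hmod2,
    by simpa using hdmod, by exact_mod_cast hlin⟩
  · have hcop := coprime_of_dvd_sub hp.out hmod1 (not_dvd_pm_one (by omega) hcχ₁)
    have := hdvd χ₁
    rw [hG] at this
    exact hcop.dvd_of_dvd_mul_left this
  · have hcop := coprime_of_dvd_sub hp.out hmod2 (not_dvd_pm_one (by omega) hcχ₂)
    have := hdvd χ₂
    rw [hG] at this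
    exact hcop.dvd_of_dvd_mul_left this
  · have hcop := coprime_of_dvd_sub hp.out hdmod
      (not_dvd_pm_mul (e := 3) (by norm_num) (by omega) hε)
    rw [hG] at hddvd
    exact hcop.dvd_of_dvd_mul_left hddvd

end Cfsg.Agent.Helper2.BrTI
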