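import Mathlib

set_option autoImplicit false

namespace Cfsg.Agent.Helper2.ClassCount

variable {G : Type*} [Group G]

theorem set_eq_pair (P : G → Prop) (g₁ g₂ : G) (h1 : P g₁) (h2 : P g₂)
    (hall : ∀ t, P t → IsConj t g₁ ∨ IsConj t g₂) :
    {C : ConjClasses G | ∃ t, P t ∧ ConjClasses.mk t = C} =
      {ConjClasses.mk g₁, ConjClasses.mk g₂} := by
  ext C
  simp only [Set.mem_setOf_eq, Set.mem_insert_iff, Set.mem_singleton_iff]
  constructor
  · rintro ⟨t, ht, rfl⟩
    rcases hall t ht with h | h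
    · left; exact ConjClasses.mk_eq_mk_iff_isConj.mpr h
    · right; exact ConjClasses.mk_eq_mk_iff_isConj.mpr h
  · rintro (rfl | rfl)
    · exact ⟨g₁, h1, rfl⟩
    · exact ⟨g₂, h2, rfl⟩

theorem card_eq_two (P : G → Prop) (g₁ g₂ : G) (h1 : P g₁) (h2 : P g₂)
    (hne : ¬ IsConj g₁ g₂) (hall : ∀ t, P t → IsConj t g₁ ∨ IsConj t g₂) :
    Nat.card {C : ConjClasses G // ∃ t, P t ∧ ConjClasses.mk t = C} = 2 := by
  have h := set_eq_pair P g₁ g₂ h1 h2 hall
  have h3 : Nat.card {C : ConjClasses G // ∃ t, P t ∧ ConjClasses.mk t = C} =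
      ({C : ConjClasses G | ∃ t, P t ∧ ConjClasses.mk t = C}).ncard :=
    Nat.card_coe_set_eq _
  rw [h3, h]
  apply Set.ncard_pair
  intro heq
  exact hne (ConjClasses.mk_eq_mk_iff_isConj.mp heq)

theorem card_eq_three (P : G → Prop) (g₁ g₂ g₃ : G) (h1 : P g₁) (h2 : P g₂) (h3 : P g₃)
    (hne12 : ¬ IsConj g₁ g₂) (hne13 : ¬ IsConj g₁ g₃) (hne23 : ¬ IsConj g₂ g₃)
    (hall : ∀ t, P t → IsConj t g₁ ∨ IsConj t g₂ ∨ IsConj t g₃) :
    Nat.card {C : ConjClasses G // ∃ t, P t ∧ ConjClasses.mk t = C} = 3 := by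
  have h : {C : ConjClasses G | ∃ t, P t ∧ ConjClasses.mk t = C} =
      {ConjClasses.mk g₁, ConjClasses.mk g₂, ConjClasses.mk g₃} := by
    ext C
    simp only [Set.mem_setOf_eq, Set.mem_insert_iff, Set.mem_singleton_iff]
    constructor
    · rintro ⟨t, ht, rfl⟩
      rcases hall t ht with h | h | h
      · left; exact ConjClasses.mk_eq_mk_iff_isConj.mpr h
      · right; left; exact ConjClasses.mk_eq_mk_iff_isConj.mpr h
      · right; right; exact ConjClasses.mk_eq_mk_iff_isConj.mpr h
    · rintro (rfl | rfl | rfl)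
      · exact ⟨g₁, h1, rfl⟩
      · exact ⟨g₂, h2, rfl⟩
      · exact ⟨g₃, h3, rfl⟩
  have h4 : Nat.card {C : ConjClasses G // ∃ t, P t ∧ ConjClasses.mk t = C} =
      ({C : ConjClasses G | ∃ t, P t ∧ ConjClasses.mk t = C}).ncard :=
    Nat.card_coe_set_eq _
  rw [h4, h]
  rw [Set.ncard_eq_three]
  refine ⟨_, _, _, ?_, ?_, ?_, rfl⟩
  · intro heq; exact hne12 (ConjClasses.mk_eq_mk_iff_isConj.mp heq)
  · intro heq; exact hne13 (ConjClasses.mk_eq_mk_iff_isConj.mp heq)
  · intro heq; exact hne23 (ConjClasses.mk_eq_mk_iff_isConj.mp heq)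

end Cfsg.Agent.Helper2.ClassCount

-- Restored by lead: first-version lemmas of this file, still used by S0230, S1875, BrauerFowler*, ThompsonOrder.
namespace Cfsg.Agent.Helper2

variable {G : Type*} [Group G]

/-- Orbit-stabilizer for the conjugation action, in `Nat.card` form. -/
theorem card_isConj_mul_card_centralizer [Finite G] (t : G) :
    Nat.card {x : G // IsConj t x} * Nat.card (Subgroup.centralizer ({t} : Set G)) = Nat.card G := by
  rw [Subgroup.nat_card_centralizer_nat_card_stabilizer, ← Nat.card_prod]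
  have e : {x : G // IsConj t x} ≃ MulAction.orbit (ConjAct G) t :=
    Equiv.subtypeEquivRight (fun x => by
      rw [ConjAct.mem_orbit_conjAct]; exact ⟨fun h => h.symm, fun h => h.symm⟩)
  rw [Nat.card_congr (Equiv.prodCongr e (Equiv.refl _)),
    Nat.card_congr (MulAction.orbitProdStabilizerEquivGroup (ConjAct G) t)]
  rfl

theorem natCard_subtype_eq_card_filter {α : Type*} [Fintype α] (p : α → Prop) [DecidablePred p] :
    Nat.card {x // p x} = (Finset.univ.filter p).card := by
  rw [Nat.card_eq_fintype_card, Fintype.card_subtype]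

theorem natCard_centralizer_eq_card_filter [Fintype G] (u : G)
    [DecidablePred (fun x : G => x * u = u * x)] :
    Nat.card (Subgroup.centralizer ({u} : Set G)) = (Finset.univ.filter (fun x : G => x * u = u * x)).card := by
  have : Nat.card (Subgroup.centralizer ({u} : Set G)) = Nat.card {x : G // x * u = u * x} :=
    Nat.card_congr (Equiv.subtypeEquivRight (fun x => Subgroup.mem_centralizer_singleton_iff))
  rw [this, natCard_subtype_eq_card_filter]

end Cfsg.Agent.Helper2
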