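import Mathlib
import Cfsg.Agent.Helper2.S504A

set_option autoImplicit false

/-! Simple groups of order 504: the Sylow 3-subgroups. -/

namespace Cfsg.Agent.Helper2.S504

open Subgroup

variable {G : Type*} [Group G] [Finite G] [IsSimpleGroup G]

theorem card_sylow3_eq (h : Nat.card G = 504) [Fact (Nat.Prime 3)] (P : Sylow 3 G) :
    Nat.card P = 9 := by
  simpa using SylowExact.card_sylow_of_exact_pow (s := 3) (k := 2) (m := 56)
    (by rw [h]; norm_num) (by norm_num) P

theorem card_sylow3 (h : Nat.card G = 504) [Fact (Nat.Prime 3)] : Nat.card (Sylow 3 G) = 28 := by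
  let P : Sylow 3 G := default
  have hP : Nat.card P = 9 := card_sylow3_eq h P
  have hidx : (P : Subgroup G).index = 56 := by
    have h1 := (P : Subgroup G).card_mul_index
    rw [hP, h] at h1
    omega
  have hdvd : Nat.card (Sylow 3 G) ∣ 56 := hidx ▸ Sylow.card_dvd_index P
  have hmod : Nat.card (Sylow 3 G) % 3 = 1 := card_sylow_modEq_one 3 G
  have hne1 : Nat.card (Sylow 3 G) ≠ 1 := by
    apply SmallOrder.card_sylow_ne_one P
    · rw [hP]; norm_num
    · rw [hP, h]; norm_num
  have hle : Nat.card (Sylow 3 G) ≤ 56 := Nat.le_of_dvd (by norm_num) hdvd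
  have hidxN : (normalizer ((P : Subgroup G) : Set G)).index = Nat.card (Sylow 3 G) :=
    (Sylow.card_eq_index_normalizer P).symm
  have hNtop : normalizer ((P : Subgroup G) : Set G) ≠ ⊤ := by
    intro h0
    rw [h0, index_top] at hidxN
    exact hne1 hidxN.symm
  have h8 := eight_le_index h _ hNtop
  rw [hidxN] at h8
  generalize Nat.card (Sylow 3 G) = n at *
  interval_cases n <;> omega

theorem card_normalizer_sylow3 (h : Nat.card G = 504) [Fact (Nat.Prime 3)] (P : Sylow 3 G) :
    Nat.card (normalizer ((P : Subgroup G) : Set G)) = 18 := by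
  have := SmallOrder.card_normalizer_mul_card_sylow P
  rw [card_sylow3 h, h] at this
  omega

theorem isMulCommutative_sylow3 (h : Nat.card G = 504) [Fact (Nat.Prime 3)] (P : Sylow 3 G) :
    IsMulCommutative (P : Subgroup G) :=
  IsPGroup.isMulCommutative_of_card_eq_prime_sq (p := 3) (by rw [card_sylow3_eq h P]; norm_num)

theorem mul_comm_sylow3 (h : Nat.card G = 504) [Fact (Nat.Prime 3)] (P : Sylow 3 G) {a b : G}
    (ha : a ∈ (P : Subgroup G)) (hb : b ∈ (P : Subgroup G)) : a * b = b * a := by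
  have hc := isMulCommutative_sylow3 h P
  exact congrArg Subtype.val (hc.is_comm.comm ⟨a, ha⟩ ⟨b, hb⟩)

open scoped IsMulCommutative in
/-- An involution of `N(P)`, `P` a Sylow 3-subgroup, centralizes no non-identity element of `P`
(transfer). -/
theorem eq_one_of_commute_invol_normalizer (h : Nat.card G = 504) [Fact (Nat.Prime 3)]
    (P : Sylow 3 G) (s : G) (hsN : s ∈ normalizer ((P : Subgroup G) : Set G))
    (hs : orderOf s = 2) (x₀ : G) (hx₀ : x₀ ∈ (P : Subgroup G)) (hcomm : Commute s x₀) :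
    x₀ = 1 := by
  by_contra hx1
  have hP : Nat.card P = 9 := card_sylow3_eq h P
  haveI hc : IsMulCommutative (P : Subgroup G) := isMulCommutative_sylow3 h P
  have hN := card_normalizer_sylow3 h P
  have hNC : normalizer ((P : Subgroup G) : Set G) ≤ centralizer ({x₀} : Set G) := by
    have hPC : (P : Subgroup G) ≤
        centralizer ({x₀} : Set G) ⊓ normalizer ((P : Subgroup G) : Set G) := by
      intro g hg
      refine Subgroup.mem_inf.mpr ⟨?_, le_normalizer hg⟩
      rw [mem_centralizer_singleton_iff]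
      exact mul_comm_sylow3 h P hg hx₀
    have hsC : s ∈ centralizer ({x₀} : Set G) ⊓ normalizer ((P : Subgroup G) : Set G) :=
      Subgroup.mem_inf.mpr ⟨mem_centralizer_singleton_iff.mpr hcomm.eq, hsN⟩
    have h9 : 9 ∣ Nat.card ↥(centralizer ({x₀} : Set G) ⊓
        normalizer ((P : Subgroup G) : Set G)) := by
      have := Subgroup.card_dvd_of_le hPC
      rwa [hP] at this
    have h2 : 2 ∣ Nat.card ↥(centralizer ({x₀} : Set G) ⊓
        normalizer ((P : Subgroup G) : Set G)) := by
      have := Subgroup.orderOf_dvd_natCard _ hsC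
      rwa [hs] at this
    have h18 : 2 * 9 ∣ Nat.card ↥(centralizer ({x₀} : Set G) ⊓
        normalizer ((P : Subgroup G) : Set G)) :=
      Nat.Coprime.mul_dvd_of_dvd_of_dvd (by norm_num) h2 h9
    have hle : centralizer ({x₀} : Set G) ⊓ normalizer ((P : Subgroup G) : Set G) ≤
        normalizer ((P : Subgroup G) : Set G) := inf_le_right
    have heq := Subgroup.eq_of_le_of_card_ge hle
      (by rw [hN]; exact Nat.le_of_dvd Nat.card_pos h18)
    rw [← heq]
    exact inf_le_left
  have key : ∀ (k : ℕ) (g₀ : G), g₀⁻¹ * x₀ ^ k * g₀ ∈ (P : Subgroup G) →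
      g₀⁻¹ * x₀ ^ k * g₀ = x₀ ^ k := by
    intro k g₀ hg
    obtain ⟨n, hn, hneq⟩ :=
      Sylow.conj_eq_normalizer_conj_of_mem P (x₀ ^ k) g₀ (pow_mem hx₀ k) hg
    rw [hneq]
    have hnc : n * x₀ = x₀ * n := mem_centralizer_singleton_iff.mp (hNC hn)
    have hck : Commute n (x₀ ^ k) := (show Commute n x₀ from hnc).pow_right k
    rw [mul_assoc, ← hck.eq, inv_mul_cancel_left]
  have hτ := MonoidHom.transfer_eq_pow (MonoidHom.id (P : Subgroup G)) x₀ key
  have hidx : (P : Subgroup G).index = 56 := by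
    have h1 := (P : Subgroup G).card_mul_index
    rw [hP, h] at h1
    omega
  -- the transfer is a nontrivial homomorphism into a group of order 9
  rcases (MonoidHom.normal_ker
      (MonoidHom.transfer (MonoidHom.id (P : Subgroup G)))).eq_bot_or_eq_top with hk | hk
  · have hinj : Function.Injective (MonoidHom.transfer (MonoidHom.id (P : Subgroup G))) :=
      (MonoidHom.ker_eq_bot_iff _).mp hk
    have := Nat.card_le_card_of_injective _ hinj
    rw [h, hP] at this
    omega
  · have hmem : x₀ ∈ (MonoidHom.transfer (MonoidHom.id (P : Subgroup G))).ker := by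
      rw [hk]; exact mem_top _
    rw [MonoidHom.mem_ker, hτ] at hmem
    have h56 : x₀ ^ 56 = 1 := by
      have h56' : x₀ ^ (P : Subgroup G).index = 1 := by
        simpa using congrArg Subtype.val hmem
      rwa [hidx] at h56'
    have h9 : x₀ ^ 9 = 1 := by
      have h1 : (⟨x₀, hx₀⟩ : (P : Subgroup G)) ^ Nat.card (P : Subgroup G) = 1 := pow_card_eq_one'
      rw [hP] at h1
      have h2 := congrArg Subtype.val h1
      simpa using h2
    have hd1 : orderOf x₀ ∣ 56 := orderOf_dvd_of_pow_eq_one h56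
    have hd2 : orderOf x₀ ∣ 9 := orderOf_dvd_of_pow_eq_one h9
    have hd3 : orderOf x₀ ∣ 1 := by
      have := Nat.dvd_gcd hd1 hd2
      simpa using this
    apply hx1
    rw [← orderOf_eq_one_iff]
    exact Nat.dvd_one.mp hd3

/-- An involution of `N(P)`, `P` a Sylow 3-subgroup, inverts `P`. -/
theorem conj_eq_inv_of_invol_normalizer (h : Nat.card G = 504) [Fact (Nat.Prime 3)]
    (P : Sylow 3 G) (s : G) (hsN : s ∈ normalizer ((P : Subgroup G) : Set G))
    (hs : orderOf s = 2) (x : G) (hx : x ∈ (P : Subgroup G)) : s * x * s⁻¹ = x⁻¹ := by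
  have hsx : s * x * s⁻¹ ∈ (P : Subgroup G) := (mem_normalizer_iff.mp hsN x).mp hx
  have hss : s * s = 1 := by
    rw [← pow_two, ← hs, pow_orderOf_eq_one]
  have hsinv : s⁻¹ = s := inv_eq_of_mul_eq_one_left hss
  have hw : x * (s * x * s⁻¹) ∈ (P : Subgroup G) := mul_mem hx hsx
  have hcomm : Commute s (x * (s * x * s⁻¹)) := by
    have h1 : s * (x * (s * x * s⁻¹)) * s⁻¹ = (s * x * s⁻¹) * x := by
      calc s * (x * (s * x * s⁻¹)) * s⁻¹ = (s * x * s⁻¹) * ((s * s) * x * (s⁻¹ * s⁻¹)) := by group
        _ = (s * x * s⁻¹) * x := by rw [hsinv, hss]; group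
    have h2 : (s * x * s⁻¹) * x = x * (s * x * s⁻¹) := mul_comm_sylow3 h P hsx hx
    have h3 : s * (x * (s * x * s⁻¹)) * s⁻¹ = x * (s * x * s⁻¹) := h1.trans h2
    exact mul_inv_eq_iff_eq_mul.mp h3
  have h1 := eq_one_of_commute_invol_normalizer h P s hsN hs _ hw hcomm
  exact (eq_inv_of_mul_eq_one_right h1)

end Cfsg.Agent.Helper2.S504
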