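import Mathlib
import Cfsg.Agent.Helper2.S504B

set_option autoImplicit false

/-! Simple groups of order 504: no element of order 6. -/

namespace Cfsg.Agent.Helper2.S504

open Subgroup

section general

variable {G : Type*} [Group G]

theorem centralizer_zpowers_eq (x : G) :
    centralizer ((zpowers x : Subgroup G) : Set G) = centralizer ({x} : Set G) := by
  ext g
  rw [mem_centralizer_iff, mem_centralizer_singleton_iff]
  constructor
  · intro hg
    exact (hg x (mem_zpowers x)).symm
  · intro hg y hy
    obtain ⟨k, rfl⟩ := mem_zpowers_iff.mp hy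
    exact (((show Commute g x from hg).zpow_right k).eq).symm

/-- an involution inverting `x` normalizes `zpowers x` -/
theorem mem_normalizer_zpowers_of_conj_eq_inv {s x : G} (hss : s * s = 1)
    (hsx : s * x * s⁻¹ = x⁻¹) : s ∈ normalizer ((zpowers x : Subgroup G) : Set G) := by
  have hsinv : s⁻¹ = s := inv_eq_of_mul_eq_one_left hss
  have hfwd : ∀ g : G, g ∈ zpowers x → s * g * s⁻¹ ∈ zpowers x := by
    intro g hg
    obtain ⟨k, rfl⟩ := mem_zpowers_iff.mp hg
    have : s * x ^ k * s⁻¹ = (x⁻¹) ^ k := by
      rw [← hsx, conj_zpow]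
    rw [this]
    exact zpow_mem (inv_mem (mem_zpowers x)) k
  rw [mem_normalizer_iff]
  intro g
  constructor
  · exact hfwd g
  · intro hg
    have := hfwd _ hg
    have e : s * (s * g * s⁻¹) * s⁻¹ = g := by
      rw [hsinv]
      calc s * (s * g * s) * s = (s * s) * g * (s * s) := by group
        _ = g := by rw [hss]; group
    rwa [e] at this

end general

variable {G : Type*} [Group G] [Finite G] [IsSimpleGroup G]

/-- no involution commutes with an element of order 3 -/
theorem not_commute_invol_three (h : Nat.card G = 504) {t x : G} (ht : orderOf t = 2)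
    (hx : orderOf x = 3) : ¬ Commute t x := by
  intro hcomm
  haveI : Fact (Nat.Prime 3) := ⟨by norm_num⟩
  haveI : Fact (Nat.Prime 2) := ⟨Nat.prime_two⟩
  have hz : Nat.card (zpowers x) = 3 := by rw [Nat.card_zpowers, hx]
  have hpg : IsPGroup 3 (zpowers x) := IsPGroup.of_card (n := 1) (by rw [hz]; norm_num)
  obtain ⟨P, hPle⟩ := hpg.exists_le_sylow
  have hP : Nat.card P = 9 := card_sylow3_eq h P
  have hxP : x ∈ (P : Subgroup G) := hPle (mem_zpowers x)
  have hN := card_normalizer_sylow3 h P
  -- an involution of N(P)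
  obtain ⟨⟨s, hsN⟩, hs⟩ := exists_prime_orderOf_dvd_card' (G := normalizer ((P : Subgroup G) : Set G)) 2
    (by rw [hN]; norm_num)
  rw [Subgroup.orderOf_mk] at hs
  have hsx := conj_eq_inv_of_invol_normalizer h P s hsN hs x hxP
  have hss : s * s = 1 := by rw [← pow_two, ← hs, pow_orderOf_eq_one]
  have hx3 : x ^ 3 = 1 := by rw [← hx, pow_orderOf_eq_one]
  have hx1 : x ≠ 1 := by
    intro h0
    rw [h0, orderOf_one] at hx
    omega
  have hxinv : x⁻¹ ≠ x := by
    intro h0
    have hxx : x * x = 1 := by
      calc x * x = x⁻¹ * x := by rw [h0]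
        _ = 1 := inv_mul_cancel x
    have : orderOf x ∣ 2 := orderOf_dvd_of_pow_eq_one (by rw [pow_two, hxx])
    rw [hx] at this
    omega
  -- the centralizer of x
  have hPC : (P : Subgroup G) ≤ centralizer ({x} : Set G) := by
    intro g hg
    rw [mem_centralizer_singleton_iff]
    exact mul_comm_sylow3 h P hg hxP
  have htC : t ∈ centralizer ({x} : Set G) := mem_centralizer_singleton_iff.mpr hcomm.eq
  have h9 : 9 ∣ Nat.card (centralizer ({x} : Set G)) := by
    have := Subgroup.card_dvd_of_le hPC
    rwa [hP] at this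
  have h2 : 2 ∣ Nat.card (centralizer ({x} : Set G)) := by
    have := Subgroup.orderOf_dvd_natCard _ htC
    rwa [ht] at this
  have h18 : 2 * 9 ∣ Nat.card (centralizer ({x} : Set G)) :=
    Nat.Coprime.mul_dvd_of_dvd_of_dvd (by norm_num) h2 h9
  -- the normalizer of ⟨x⟩
  have hsNx : s ∈ normalizer ((zpowers x : Subgroup G) : Set G) :=
    mem_normalizer_zpowers_of_conj_eq_inv hss hsx
  have hsC : s ∉ centralizer ({x} : Set G) := by
    intro h0
    rw [mem_centralizer_singleton_iff] at h0
    apply hxinv
    rw [← hsx, h0, mul_inv_cancel_right]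
  have hCN : centralizer ((zpowers x : Subgroup G) : Set G) ≤
      normalizer ((zpowers x : Subgroup G) : Set G) := centralizer_le_normalizer _
  have hrel := SmallOrder.relIndex_centralizer_normalizer_dvd (zpowers x) inferInstance
  rw [hz] at hrel
  have htot : Nat.totient 3 = 2 := by decide
  rw [htot] at hrel
  have hrel1 : (centralizer ((zpowers x : Subgroup G) : Set G)).relIndex
      (normalizer ((zpowers x : Subgroup G) : Set G)) ≠ 1 := by
    intro h1
    rw [relIndex_eq_one] at h1
    apply hsC
    rw [← centralizer_zpowers_eq]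
    exact h1 hsNx
  have hrel2 : (centralizer ((zpowers x : Subgroup G) : Set G)).relIndex
      (normalizer ((zpowers x : Subgroup G) : Set G)) = 2 := by
    have := Nat.le_of_dvd (by norm_num) hrel
    have hpos : (centralizer ((zpowers x : Subgroup G) : Set G)).relIndex
      (normalizer ((zpowers x : Subgroup G) : Set G)) ≠ 0 := by
      intro h0
      rw [h0] at hrel
      omega
    omega
  have hcard := card_mul_relIndex' hCN
  rw [hrel2, centralizer_zpowers_eq] at hcard
  have hNtop : normalizer ((zpowers x : Subgroup G) : Set G) ≠ ⊤ := by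
    intro h0
    have hn : (zpowers x : Subgroup G).Normal := normalizer_eq_top_iff.mp h0
    rcases hn.eq_bot_or_eq_top with h1 | h1
    · rw [h1] at hz; simp at hz
    · rw [h1, Subgroup.card_top, h] at hz; omega
  have h63 := card_le_of_ne_top h _ hNtop
  have hC18 : Nat.card (centralizer ({x} : Set G)) = 18 := by
    obtain ⟨k, hk⟩ := h18
    rw [hk] at hcard
    rw [hk]
    have hpos : 0 < Nat.card (centralizer ({x} : Set G)) := Nat.card_pos
    have : k = 1 := by omega
    rw [this]
  -- P is normal in C(x)
  have hrelP : (P : Subgroup G).relIndex (centralizer ({x} : Set G)) = 2 := by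
    have := card_mul_relIndex' hPC
    rw [hP, hC18] at this
    omega
  have hnorm : ((P : Subgroup G).subgroupOf (centralizer ({x} : Set G))).Normal :=
    Subgroup.normal_of_index_eq_two hrelP
  have hconj : ∀ c ∈ centralizer ({x} : Set G), ∀ g ∈ (P : Subgroup G),
      c * g * c⁻¹ ∈ (P : Subgroup G) := by
    intro c hc g hg
    have := hnorm.conj_mem ⟨g, hPC hg⟩ (mem_subgroupOf.mpr hg) ⟨c, hc⟩
    exact mem_subgroupOf.mp this
  have htN : t ∈ normalizer ((P : Subgroup G) : Set G) := by
    rw [mem_normalizer_iff]
    intro g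
    constructor
    · exact hconj t htC g
    · intro hg
      have := hconj t⁻¹ (inv_mem htC) _ hg
      have e : t⁻¹ * (t * g * t⁻¹) * t⁻¹⁻¹ = g := by group
      rwa [e] at this
  have htx := conj_eq_inv_of_invol_normalizer h P t htN ht x hxP
  apply hxinv
  rw [← htx, hcomm.eq, mul_inv_cancel_right]

end Cfsg.Agent.Helper2.S504
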