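import Mathlib
import Cfsg.Agent.Helper2.S504C
import Cfsg.Agent.Helper2.ClassCount

set_option autoImplicit false

/-! Simple groups of order 504: counting elements; the Sylow 2-subgroups have exponent 2. -/

namespace Cfsg.Agent.Helper2.S504

open Subgroup

section general

variable {G : Type*} [Group G]

theorem card_ne_one_subtype (H : Subgroup G) [Finite H] :
    Nat.card {x : H // x ≠ 1} = Nat.card H - 1 := by
  classical
  have : Fintype H := Fintype.ofFinite H
  rw [Nat.card_eq_fintype_card, Nat.card_eq_fintype_card, Fintype.card_subtype_compl,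
    Fintype.card_subtype_eq]

/-- If the Sylow `p`-subgroups have order `k` and intersect pairwise trivially, a set containing
all their non-identity elements has at least `n_p * (k - 1)` elements. -/
theorem card_sylow_mul_pred_le [Fintype G] {p : ℕ} [Fact p.Prime] (k : ℕ)
    (hk : ∀ P : Sylow p G, Nat.card P = k)
    (hTI : ∀ P Q : Sylow p G, P ≠ Q → (P : Subgroup G) ⊓ (Q : Subgroup G) = ⊥)
    (S : Finset G) (hS : ∀ P : Sylow p G, ∀ x ∈ (P : Subgroup G), x ≠ 1 → x ∈ S) :
    Nat.card (Sylow p G) * (k - 1) ≤ S.card := by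
  classical
  have : Fintype (Sylow p G) := Fintype.ofFinite _
  let ι : (Σ P : Sylow p G, {x : (P : Subgroup G) // x ≠ 1}) → {g : G // g ∈ S} :=
    fun a => ⟨(a.2.1 : G), hS a.1 _ a.2.1.2 (fun h0 => a.2.2 (Subtype.ext h0))⟩
  have hinj : Function.Injective ι := by
    rintro ⟨P, ⟨x, hx⟩⟩ ⟨Q, ⟨y, hy⟩⟩ hxy
    have hval : (x : G) = (y : G) := congrArg Subtype.val hxy
    have hPQ : P = Q := by
      by_contra hne
      have hbot := hTI P Q hne
      have hm : (x : G) ∈ (P : Subgroup G) ⊓ (Q : Subgroup G) :=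
        Subgroup.mem_inf.mpr ⟨x.2, hval ▸ y.2⟩
      rw [hbot, Subgroup.mem_bot] at hm
      exact hx (Subtype.ext hm)
    subst hPQ
    have hxy' : x = y := Subtype.ext hval
    subst hxy'
    rfl
  have h1 := Nat.card_le_card_of_injective ι hinj
  have h2 : Nat.card (Σ P : Sylow p G, {x : (P : Subgroup G) // x ≠ 1}) =
      Nat.card (Sylow p G) * (k - 1) := by
    rw [Nat.card_sigma]
    have : ∀ P : Sylow p G, Nat.card {x : (P : Subgroup G) // x ≠ 1} = k - 1 := by
      intro P
      rw [card_ne_one_subtype, hk P]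
    simp only [this, Finset.sum_const, Finset.card_univ, smul_eq_mul]
    rw [Nat.card_eq_fintype_card]
  have h3 : Nat.card {g : G // g ∈ S} = S.card := by
    rw [Nat.card_eq_fintype_card, Fintype.card_coe]
  rw [h2, h3] at h1
  exact h1

/-- distinct subgroups of the same prime order meet trivially -/
theorem inf_eq_bot_of_prime_card {q : ℕ} (hq : q.Prime) (H K : Subgroup G) (hH : Nat.card H = q)
    (hK : Nat.card K = q) (hHK : H ≠ K) : H ⊓ K = ⊥ := by
  by_contra hne
  obtain ⟨⟨g, hg⟩, hg1⟩ := (Subgroup.ne_bot_iff_exists_ne_one).mp hne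
  have hg1' : g ≠ 1 := fun h0 => hg1 (Subtype.ext h0)
  obtain ⟨hgH, hgK⟩ := Subgroup.mem_inf.mp hg
  have h1 : H ≤ zpowers g := SignArg.le_zpowers_of_prime_card H hq hH g hgH hg1'
  have h2 : K ≤ zpowers g := SignArg.le_zpowers_of_prime_card K hq hK g hgK hg1'
  have h3 : zpowers g ≤ H := (zpowers_le).mpr hgH
  have h4 : zpowers g ≤ K := (zpowers_le).mpr hgK
  exact hHK (le_antisymm (h1.trans h4) (h2.trans h3))

theorem dvd_eight_of (c : ℕ) (h1 : c ∣ 504) (h3 : ¬ 3 ∣ c) (h7 : ¬ 7 ∣ c) : c ∣ 8 := by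
  have h3c : Nat.Coprime 3 c := (Nat.Prime.coprime_iff_not_dvd (by norm_num)).mpr h3
  have h7c : Nat.Coprime 7 c := (Nat.Prime.coprime_iff_not_dvd (by norm_num)).mpr h7
  have h63 : Nat.Coprime (3 ^ 2 * 7) c := Nat.Coprime.mul_left (Nat.Coprime.pow_left 2 h3c) h7c
  have h63' : Nat.Coprime c 63 := by
    have := h63.symm
    norm_num at this
    exact this
  exact Nat.Coprime.dvd_of_dvd_mul_right h63' (by norm_num; exact h1)

end general

variable {G : Type*} [Group G] [Finite G] [IsSimpleGroup G]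

/-- distinct Sylow 3-subgroups intersect trivially -/
theorem sylow3_inf_eq_bot (h : Nat.card G = 504) [Fact (Nat.Prime 3)] (P Q : Sylow 3 G)
    (hPQ : P ≠ Q) : (P : Subgroup G) ⊓ (Q : Subgroup G) = ⊥ := by
  by_contra hne
  haveI : Fact (Nat.Prime 2) := ⟨Nat.prime_two⟩
  haveI : Fact (Nat.Prime 7) := ⟨by norm_num⟩
  have hP := card_sylow3_eq h P
  have hQ := card_sylow3_eq h Q
  have hcard1 : Nat.card ↥((P : Subgroup G) ⊓ (Q : Subgroup G)) ≠ 1 := by
    intro h1
    exact hne (Subgroup.card_eq_one.mp h1)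
  have hdvd : Nat.card ↥((P : Subgroup G) ⊓ (Q : Subgroup G)) ∣ 9 := by
    have := Subgroup.card_dvd_of_le (inf_le_left : (P : Subgroup G) ⊓ (Q : Subgroup G) ≤ P)
    rwa [hP] at this
  have h3 : 3 ∣ Nat.card ↥((P : Subgroup G) ⊓ (Q : Subgroup G)) := by
    have hle := Nat.le_of_dvd (by norm_num) hdvd
    generalize Nat.card ↥((P : Subgroup G) ⊓ (Q : Subgroup G)) = c at *
    interval_cases c <;> omega
  obtain ⟨⟨x, hxPQ⟩, hx⟩ := exists_prime_orderOf_dvd_card' 3 h3
  rw [Subgroup.orderOf_mk] at hx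
  obtain ⟨hxP, hxQ⟩ := Subgroup.mem_inf.mp hxPQ
  have hPC : (P : Subgroup G) ≤ centralizer ({x} : Set G) := by
    intro g hg
    rw [mem_centralizer_singleton_iff]
    exact mul_comm_sylow3 h P hg hxP
  have hQC : (Q : Subgroup G) ≤ centralizer ({x} : Set G) := by
    intro g hg
    rw [mem_centralizer_singleton_iff]
    exact mul_comm_sylow3 h Q hg hxQ
  have h9 : 9 ∣ Nat.card (centralizer ({x} : Set G)) := by
    have := Subgroup.card_dvd_of_le hPC
    rwa [hP] at this
  have hdvdG : Nat.card (centralizer ({x} : Set G)) ∣ 504 := by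
    rw [← h]
    exact Subgroup.card_subgroup_dvd_card _
  have hne9 : Nat.card (centralizer ({x} : Set G)) ≠ 9 := by
    intro h9'
    have e1 : (P : Subgroup G) = centralizer ({x} : Set G) :=
      Subgroup.eq_of_le_of_card_ge hPC (by rw [hP, h9'])
    have e2 : (Q : Subgroup G) = centralizer ({x} : Set G) :=
      Subgroup.eq_of_le_of_card_ge hQC (by rw [hQ, h9'])
    exact hPQ (Sylow.ext (e1.trans e2.symm))
  have h27 : 2 ∣ Nat.card (centralizer ({x} : Set G)) ∨
      7 ∣ Nat.card (centralizer ({x} : Set G)) := by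
    obtain ⟨m, hm⟩ := h9
    rw [hm] at hdvdG hne9 ⊢
    have hm56 : m ∣ 56 := Nat.dvd_of_mul_dvd_mul_left (by norm_num : 0 < 9) hdvdG
    have := Nat.le_of_dvd (by norm_num) hm56
    interval_cases m <;> omega
  rcases h27 with h2 | h7
  · obtain ⟨⟨t, htC⟩, ht⟩ := exists_prime_orderOf_dvd_card' 2 h2
    rw [Subgroup.orderOf_mk] at ht
    exact not_commute_invol_three h ht hx (mem_centralizer_singleton_iff.mp htC)
  · obtain ⟨⟨y, hyC⟩, hy⟩ := exists_prime_orderOf_dvd_card' 7 h7
    rw [Subgroup.orderOf_mk] at hy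
    have hc : Commute x y := (show Commute y x from mem_centralizer_singleton_iff.mp hyC).symm
    have := orderOf_dvd_seven_of_commute h hy hc
    rw [hx] at this
    omega

/-- the centralizer of an involution is a 2-group -/
theorem card_centralizer_invol_dvd (h : Nat.card G = 504) {t : G} (ht : orderOf t = 2) :
    Nat.card (centralizer ({t} : Set G)) ∣ 8 := by
  haveI : Fact (Nat.Prime 3) := ⟨by norm_num⟩
  haveI : Fact (Nat.Prime 7) := ⟨by norm_num⟩
  apply dvd_eight_of
  · rw [← h]
    exact Subgroup.card_subgroup_dvd_card _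
  · intro h3
    obtain ⟨⟨x, hxC⟩, hx⟩ := exists_prime_orderOf_dvd_card' 3 h3
    rw [Subgroup.orderOf_mk] at hx
    have hc : Commute t x := (show Commute x t from mem_centralizer_singleton_iff.mp hxC).symm
    exact not_commute_invol_three h ht hx hc
  · intro h7
    obtain ⟨⟨y, hyC⟩, hy⟩ := exists_prime_orderOf_dvd_card' 7 h7
    rw [Subgroup.orderOf_mk] at hy
    have hc : Commute t y := (show Commute y t from mem_centralizer_singleton_iff.mp hyC).symm
    have := orderOf_dvd_seven_of_commute h hy hc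
    rw [ht] at this
    omega

end Cfsg.Agent.Helper2.S504
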