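import Mathlib
import Cfsg.Agent.S0991
import Cfsg.Agent.Helper2.SmallOrder
import Cfsg.Agent.Helper2.SylowExact2
import Cfsg.Agent.Helper2.S504D

set_option autoImplicit false

/-! Simple groups of order 360: index bounds and Sylow numbers. -/

namespace Cfsg.Agent.Helper2.Ord360

open Subgroup

variable {G : Type*} [Group G] [Finite G] [IsSimpleGroup G]

theorem six_le_index (h : Nat.card G = 360) (H : Subgroup G) (hH : H ≠ ⊤) : 6 ≤ H.index := by
  have h1 := SmallOrder.card_dvd_factorial_index H hH
  rw [h] at h1
  by_contra hlt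
  have hle : H.index ≤ 5 := by omega
  have h2 : (H.index).factorial ∣ Nat.factorial 5 := Nat.factorial_dvd_factorial hle
  have h5 : Nat.factorial 5 = 120 := by decide
  rw [h5] at h2
  have := Nat.le_of_dvd (by norm_num) (h1.trans h2)
  omega

/-- every proper subgroup has order at most 60 -/
theorem card_le_of_ne_top (h : Nat.card G = 360) (H : Subgroup G) (hH : H ≠ ⊤) :
    Nat.card H ≤ 60 := by
  have h1 := six_le_index h H hH
  have h2 := H.card_mul_index
  rw [h] at h2
  nlinarith

theorem eq_top_of_card_gt (h : Nat.card G = 360) (H : Subgroup G) (hH : 60 < Nat.card H) :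
    H = ⊤ := by
  by_contra hne
  have := card_le_of_ne_top h H hne
  omega

theorem card_dvd (h : Nat.card G = 360) (H : Subgroup G) : Nat.card H ∣ 360 := by
  rw [← h]
  exact Subgroup.card_subgroup_dvd_card H

theorem card_sylow3_eq (h : Nat.card G = 360) [Fact (Nat.Prime 3)] (P : Sylow 3 G) :
    Nat.card P = 9 := by
  simpa using SylowExact.card_sylow_of_exact_pow (s := 3) (k := 2) (m := 40)
    (by rw [h]; norm_num) (by norm_num) P

theorem card_sylow5_eq (h : Nat.card G = 360) [Fact (Nat.Prime 5)] (P : Sylow 5 G) :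
    Nat.card P = 5 := by
  simpa using SylowExact.card_sylow_of_exact_pow (s := 5) (k := 1) (m := 72)
    (by rw [h]; norm_num) (by norm_num) P

theorem card_sylow2_eq (h : Nat.card G = 360) [Fact (Nat.Prime 2)] (P : Sylow 2 G) :
    Nat.card P = 8 := by
  simpa using SylowExact.card_sylow_of_exact_pow (s := 2) (k := 3) (m := 45)
    (by rw [h]; norm_num) (by norm_num) P

theorem not_isMulCommutative (h : Nat.card G = 360) : ¬ IsMulCommutative G := by
  intro hc
  haveI : Fact (Nat.Prime 5) := ⟨by norm_num⟩
  let P : Sylow 5 G := default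
  have hP : Nat.card P = 5 := card_sylow5_eq h P
  have hn : (P : Subgroup G).Normal := ⟨fun n hn g => by
    have : g * n * g⁻¹ = n := by rw [hc.is_comm.comm g n]; group
    rw [this]; exact hn⟩
  rcases hn.eq_bot_or_eq_top with h0 | h0
  · rw [h0] at hP; simp at hP
  · rw [h0, Subgroup.card_top, h] at hP; omega

theorem center_eq_bot (h : Nat.card G = 360) : Subgroup.center G = ⊥ := by
  rcases (inferInstance : (Subgroup.center G).Normal).eq_bot_or_eq_top with h0 | h0
  · exact h0
  · exfalso
    apply not_isMulCommutative h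
    refine ⟨⟨fun a b => ?_⟩⟩
    have : a ∈ Subgroup.center G := by rw [h0]; exact Subgroup.mem_top a
    exact ((Subgroup.mem_center_iff.mp this) b).symm

/-- A Sylow subgroup of order `p^2` equal to its own normalizer has a normal complement. -/
theorem exists_normal_index_of_self_normalizing {K : Type*} [Group K] [Finite K] {p : ℕ}
    [hp : Fact p.Prime] (P : Sylow p K) (hP : Nat.card P = p ^ 2)
    (hN : Nat.card (normalizer ((P : Subgroup K) : Set K)) = p ^ 2) :
    ∃ Q : Subgroup K, Q.Normal ∧ Q.index = p ^ 2 ∧ Nat.card Q * p ^ 2 = Nat.card K := by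
  have hPN : (P : Subgroup K) = normalizer ((P : Subgroup K) : Set K) := by
    apply Subgroup.eq_of_le_of_card_ge Subgroup.le_normalizer
    rw [hP, hN]
  have hcomm : ∀ a b : (P : Subgroup K), a * b = b * a := by
    have hc := IsPGroup.commutative_of_card_eq_prime_sq (p := p) (G := (P : Subgroup K)) hP
    intro a b
    exact hc a b
  have hle : normalizer ((P : Subgroup K) : Set K) ≤ centralizer ((P : Subgroup K) : Set K) := by
    rw [← hPN]
    intro x hx
    rw [mem_centralizer_iff]
    intro y hy
    have := hcomm ⟨y, hy⟩ ⟨x, hx⟩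
    exact congrArg Subtype.val this
  have hcomp := MonoidHom.ker_transferSylow_isComplement' P hle
  refine ⟨(MonoidHom.transferSylow P hle).ker, MonoidHom.normal_ker _, ?_, ?_⟩
  · rw [hcomp.symm.index_eq_card, hP]
  · have := hcomp.card_mul
    rw [hP] at this
    exact this

theorem card_sylow3 (h : Nat.card G = 360) [Fact (Nat.Prime 3)] : Nat.card (Sylow 3 G) = 10 := by
  let P : Sylow 3 G := default
  have hP : Nat.card P = 9 := card_sylow3_eq h P
  have hidx : (P : Subgroup G).index = 40 := by
    have h1 := (P : Subgroup G).card_mul_index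
    rw [hP, h] at h1
    omega
  have hdvd : Nat.card (Sylow 3 G) ∣ 40 := hidx ▸ Sylow.card_dvd_index P
  have hmod : Nat.card (Sylow 3 G) % 3 = 1 := card_sylow_modEq_one 3 G
  have hne1 : Nat.card (Sylow 3 G) ≠ 1 := by
    apply SmallOrder.card_sylow_ne_one P
    · rw [hP]; norm_num
    · rw [hP, h]; norm_num
  have h6 : 6 ≤ Nat.card (Sylow 3 G) := by
    rw [Sylow.card_eq_index_normalizer P]
    apply six_le_index h
    intro htop
    apply hne1
    rw [Sylow.card_eq_index_normalizer P, htop, index_top]
  have hle : Nat.card (Sylow 3 G) ≤ 40 := Nat.le_of_dvd (by norm_num) hdvd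
  have hn : Nat.card (Sylow 3 G) = 10 ∨ Nat.card (Sylow 3 G) = 40 := by
    generalize Nat.card (Sylow 3 G) = n at *
    interval_cases n <;> omega
  rcases hn with hn | hn
  · exact hn
  · exfalso
    have hN : Nat.card (normalizer ((P : Subgroup G) : Set G)) = 3 ^ 2 := by
      have := SmallOrder.card_normalizer_mul_card_sylow P
      rw [hn, h] at this
      omega
    obtain ⟨Q, hQn, hQi, -⟩ := exists_normal_index_of_self_normalizing P (by rw [hP]; norm_num) hN
    apply SmallOrder.false_of_normal_index Q
    · rw [hQi]; norm_num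
    · rw [hQi, h]; norm_num

theorem card_normalizer_sylow3 (h : Nat.card G = 360) [Fact (Nat.Prime 3)] (P : Sylow 3 G) :
    Nat.card (normalizer ((P : Subgroup G) : Set G)) = 36 := by
  have := SmallOrder.card_normalizer_mul_card_sylow P
  rw [card_sylow3 h, h] at this
  omega

theorem card_sylow5 (h : Nat.card G = 360) [Fact (Nat.Prime 5)] :
    Nat.card (Sylow 5 G) = 6 ∨ Nat.card (Sylow 5 G) = 36 := by
  let P : Sylow 5 G := default
  have hP : Nat.card P = 5 := card_sylow5_eq h P
  have hidx : (P : Subgroup G).index = 72 := by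
    have h1 := (P : Subgroup G).card_mul_index
    rw [hP, h] at h1
    omega
  have hdvd : Nat.card (Sylow 5 G) ∣ 72 := hidx ▸ Sylow.card_dvd_index P
  have hmod : Nat.card (Sylow 5 G) % 5 = 1 := card_sylow_modEq_one 5 G
  have hne1 : Nat.card (Sylow 5 G) ≠ 1 := by
    apply SmallOrder.card_sylow_ne_one P
    · rw [hP]; norm_num
    · rw [hP, h]; norm_num
  have hle : Nat.card (Sylow 5 G) ≤ 72 := Nat.le_of_dvd (by norm_num) hdvd
  generalize Nat.card (Sylow 5 G) = n at *
  interval_cases n <;> omega

end Cfsg.Agent.Helper2.Ord360
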