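import Mathlib
import Cfsg.Agent.Helper2.Ord360A

set_option autoImplicit false

/-! Simple groups of order 360: the Sylow 3-subgroups intersect trivially. -/

namespace Cfsg.Agent.Helper2.Ord360

open Subgroup

variable {G : Type*} [Group G] [Finite G] [IsSimpleGroup G]

/-- No subgroup of order 4 of a simple group of order 360 is normalized by a subgroup of order 36. -/
theorem false_of_card_four_normalized (h : Nat.card G = 360) (Q₁ C : Subgroup G)
    (hQ : Nat.card Q₁ = 4) (hC : Nat.card C = 36) (hCN : C ≤ normalizer (Q₁ : Set G)) : False := by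
  haveI : Fact (Nat.Prime 2) := ⟨Nat.prime_two⟩
  have hQp : IsPGroup 2 Q₁ := IsPGroup.of_card (n := 2) (by rw [hQ]; norm_num)
  obtain ⟨T, hQT⟩ := hQp.exists_le_sylow
  have hT : Nat.card T = 8 := card_sylow2_eq h T
  have hidx : (Q₁.subgroupOf (T : Subgroup G)).index = 2 := by
    have h1 := S504.card_mul_relIndex' hQT
    rw [hQ, hT] at h1
    rw [← Subgroup.relIndex]
    omega
  have hnorm : (Q₁.subgroupOf (T : Subgroup G)).Normal := Subgroup.normal_of_index_eq_two hidx
  have hTN : (T : Subgroup G) ≤ normalizer (Q₁ : Set G) :=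
    (Subgroup.normal_subgroupOf_iff_le_normalizer hQT).mp hnorm
  have h8 : 8 ∣ Nat.card (normalizer (Q₁ : Set G)) := by
    have := Subgroup.card_dvd_of_le hTN
    rwa [hT] at this
  have h36 : 36 ∣ Nat.card (normalizer (Q₁ : Set G)) := by
    have := Subgroup.card_dvd_of_le hCN
    rwa [hC] at this
  have h72 : 72 ∣ Nat.card (normalizer (Q₁ : Set G)) := by
    have : Nat.lcm 8 36 ∣ Nat.card (normalizer (Q₁ : Set G)) := Nat.lcm_dvd h8 h36
    have hl : Nat.lcm 8 36 = 72 := by decide
    rwa [hl] at this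
  have hpos : 0 < Nat.card (normalizer (Q₁ : Set G)) := Nat.card_pos
  have htop : normalizer (Q₁ : Set G) = ⊤ := by
    apply eq_top_of_card_gt h
    have := Nat.le_of_dvd hpos h72
    omega
  have hn : Q₁.Normal := Subgroup.normalizer_eq_top_iff.mp htop
  rcases hn.eq_bot_or_eq_top with h0 | h0
  · rw [h0, Subgroup.card_bot] at hQ; omega
  · rw [h0, Subgroup.card_top, h] at hQ; omega

theorem sylow3_inf_eq_bot (h : Nat.card G = 360) [Fact (Nat.Prime 3)] (P Q : Sylow 3 G)
    (hPQ : P ≠ Q) : (P : Subgroup G) ⊓ (Q : Subgroup G) = ⊥ := by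
  by_contra hne
  set D : Subgroup G := (P : Subgroup G) ⊓ (Q : Subgroup G) with hD
  set C : Subgroup G := centralizer (D : Set G) with hCdef
  have hP9 : Nat.card P = 9 := card_sylow3_eq h P
  have hQ9 : Nat.card Q = 9 := card_sylow3_eq h Q
  have hPcomm : ∀ a b : (P : Subgroup G), a * b = b * a :=
    IsPGroup.commutative_of_card_eq_prime_sq (p := 3) (by rw [hP9]; norm_num)
  have hQcomm : ∀ a b : (Q : Subgroup G), a * b = b * a :=
    IsPGroup.commutative_of_card_eq_prime_sq (p := 3) (by rw [hQ9]; norm_num)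
  have hPC : (P : Subgroup G) ≤ C := by
    intro x hx
    rw [hCdef, mem_centralizer_iff]
    intro d hd
    have hdP : d ∈ (P : Subgroup G) := (Subgroup.mem_inf.mp hd).1
    exact congrArg Subtype.val (hPcomm ⟨d, hdP⟩ ⟨x, hx⟩)
  have hQC : (Q : Subgroup G) ≤ C := by
    intro x hx
    rw [hCdef, mem_centralizer_iff]
    intro d hd
    have hdQ : d ∈ (Q : Subgroup G) := (Subgroup.mem_inf.mp hd).2
    exact congrArg Subtype.val (hQcomm ⟨d, hdQ⟩ ⟨x, hx⟩)
  have hCtop : C ≠ ⊤ := by
    intro htop
    apply hne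
    rw [hCdef, Subgroup.centralizer_eq_top_iff_subset] at htop
    rw [eq_bot_iff]
    intro d hd
    have := htop hd
    rw [SetLike.mem_coe, center_eq_bot h] at this
    exact this
  have hC60 : Nat.card C ≤ 60 := card_le_of_ne_top h C hCtop
  have hCdvd : Nat.card C ∣ 360 := card_dvd h C
  have h9C : 9 ∣ Nat.card C := by
    have := Subgroup.card_dvd_of_le hPC
    rwa [hP9] at this
  -- Sylow subgroups of C
  let PC : Sylow 3 C := P.subtype hPC
  let QC : Sylow 3 C := Q.subtype hQC
  have hPQC : PC ≠ QC := by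
    intro heq
    apply hPQ
    apply Sylow.ext
    have h1 : ((PC : Subgroup C)).map C.subtype = ((QC : Subgroup C)).map C.subtype := by rw [heq]
    rw [Sylow.coe_subtype, Sylow.coe_subtype, Subgroup.subgroupOf_map_subtype,
      Subgroup.subgroupOf_map_subtype, inf_eq_left.mpr hPC, inf_eq_left.mpr hQC] at h1
    exact h1
  have hPC9 : Nat.card PC = 9 := by
    have : Nat.card PC = Nat.card P := by
      rw [Sylow.coe_subtype]
      exact Nat.card_congr (Subgroup.subgroupOfEquivOfLe hPC).toEquiv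
    rw [this, hP9]
  have hidx : (PC : Subgroup C).index * 9 = Nat.card C := by
    have := (PC : Subgroup C).index_mul_card
    rwa [hPC9] at this
  have hdvd : Nat.card (Sylow 3 C) ∣ (PC : Subgroup C).index := Sylow.card_dvd_index PC
  have hmod : Nat.card (Sylow 3 C) % 3 = 1 := card_sylow_modEq_one 3 C
  have h2 : 2 ≤ Nat.card (Sylow 3 C) := by
    have : Nontrivial (Sylow 3 C) := ⟨⟨PC, QC, hPQC⟩⟩
    exact Finite.one_lt_card
  have hNS := SmallOrder.card_normalizer_mul_card_sylow PC
  -- arithmetic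
  have hfacts : Nat.card C = 36 ∧ Nat.card (Sylow 3 C) = 4 := by
    obtain ⟨k, hk⟩ := h9C
    have hk7 : k ≤ 6 := by omega
    have hkpos : 0 < k := by
      rcases Nat.eq_zero_or_pos k with h0 | h0
      · rw [h0] at hk
        have : 0 < Nat.card C := Nat.card_pos
        omega
      · exact h0
    have hik : (PC : Subgroup C).index = k := by omega
    rw [hik] at hdvd
    have hnle : Nat.card (Sylow 3 C) ≤ k := Nat.le_of_dvd hkpos hdvd
    rw [hk] at hCdvd
    generalize Nat.card (Sylow 3 C) = n at *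
    interval_cases k <;> interval_cases n <;> simp_all <;> omega
  obtain ⟨hC36, hn4⟩ := hfacts
  have hN9 : Nat.card (normalizer ((PC : Subgroup C) : Set C)) = 3 ^ 2 := by
    rw [hn4, hC36] at hNS
    omega
  obtain ⟨Q₀, hQ₀n, -, hQ₀c⟩ :=
    exists_normal_index_of_self_normalizing PC (by rw [hPC9]; norm_num) hN9
  have hQ₀4 : Nat.card Q₀ = 4 := by
    rw [hC36] at hQ₀c
    omega
  -- map to G
  set Q₁ : Subgroup G := Q₀.map C.subtype with hQ₁
  have hQ₁4 : Nat.card Q₁ = 4 := by
    rw [hQ₁, Subgroup.card_map_of_injective C.subtype_injective, hQ₀4]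
  have hCN : C ≤ normalizer (Q₁ : Set G) := by
    have h1 := Subgroup.le_normalizer_map (H := Q₀) C.subtype
    have h2 : normalizer (Q₀ : Set C) = ⊤ := Subgroup.normalizer_eq_top_iff.mpr hQ₀n
    rw [h2, ← MonoidHom.range_eq_map, Subgroup.range_subtype] at h1
    exact h1
  exact false_of_card_four_normalized h Q₁ C hQ₁4 hC36 hCN

end Cfsg.Agent.Helper2.Ord360
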