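import Mathlib
import Cfsg.Agent.Helper2.Ord360B
import Cfsg.Agent.Helper7.ZassCount

set_option autoImplicit false

/-! Simple groups of order 360: the action on the ten Sylow 3-subgroups is doubly transitive. -/

namespace Cfsg.Agent.Helper2.Ord360

open Subgroup MulAction

variable {G : Type*} [Group G] [Finite G] [IsSimpleGroup G]

theorem smul_inj_of_mem (h : Nat.card G = 360) [Fact (Nat.Prime 3)] (P Q : Sylow 3 G)
    (hPQ : P ≠ Q) {x y : G} (hx : x ∈ (P : Subgroup G)) (hy : y ∈ (P : Subgroup G))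
    (hxy : x • Q = y • Q) : x = y := by
  have h1 : (x⁻¹ * y) • Q = Q := by
    rw [mul_smul, ← hxy, inv_smul_smul]
  have h2 : x⁻¹ * y ∈ normalizer ((Q : Subgroup G) : Set G) := Sylow.smul_eq_iff_mem_normalizer.mp h1
  have h3 : x⁻¹ * y ∈ (P : Subgroup G) := mul_mem (inv_mem hx) hy
  have h4 : x⁻¹ * y ∈ (P : Subgroup G) ⊓ normalizer ((Q : Subgroup G) : Set G) :=
    Subgroup.mem_inf.mpr ⟨h3, h2⟩
  have h5 : x⁻¹ * y ∈ (P : Subgroup G) ⊓ (Q : Subgroup G) :=
    le_of_eq (IsPGroup.inf_normalizer_sylow P.2 Q) h4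
  rw [sylow3_inf_eq_bot h P Q hPQ, Subgroup.mem_bot] at h5
  exact (inv_mul_eq_one.mp h5)

theorem smul_ne_of_mem [Fact (Nat.Prime 3)] (P Q : Sylow 3 G)
    (hPQ : P ≠ Q) {x : G} (hx : x ∈ (P : Subgroup G)) : x • Q ≠ P := by
  intro e
  apply hPQ
  have h1 : x⁻¹ • P = P := by
    apply Sylow.smul_eq_iff_mem_normalizer.mpr
    exact Subgroup.le_normalizer (inv_mem hx)
  have h2 : Q = x⁻¹ • P := by rw [← e, inv_smul_smul]
  exact (h2.trans h1).symm

theorem exists_smul_eq_of_ne (h : Nat.card G = 360) [Fact (Nat.Prime 3)] (P Q R : Sylow 3 G)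
    (hPQ : P ≠ Q) (hPR : P ≠ R) : ∃ x ∈ (P : Subgroup G), x • Q = R := by
  classical
  have : Fintype (Sylow 3 G) := Fintype.ofFinite _
  let f : ↥(P : Subgroup G) → {S : Sylow 3 G // S ≠ P} :=
    fun x => ⟨(x : G) • Q, smul_ne_of_mem P Q hPQ x.2⟩
  have hinj : Function.Injective f := by
    intro x y hxy
    have : (x : G) • Q = (y : G) • Q := congrArg Subtype.val hxy
    exact Subtype.ext (smul_inj_of_mem h P Q hPQ x.2 y.2 this)
  have hcard : Nat.card {S : Sylow 3 G // S ≠ P} ≤ Nat.card (P : Subgroup G) := by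
    rw [card_sylow3_eq h P, Nat.card_eq_fintype_card, Fintype.card_subtype_compl,
      Fintype.card_subtype_eq, ← Nat.card_eq_fintype_card, card_sylow3 h]
  have hbij := hinj.bijective_of_nat_card_le hcard
  obtain ⟨x, hx⟩ := hbij.2 ⟨R, hPR.symm⟩
  exact ⟨(x : G), x.2, congrArg Subtype.val hx⟩

theorem t2 (h : Nat.card G = 360) [Fact (Nat.Prime 3)] :
    Cfsg.Agent.Helper7.Zass.T2 G (Sylow 3 G) := by
  intro a b c d hab hcd
  obtain ⟨g₁, hg₁⟩ := MulAction.exists_smul_eq G a c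
  have h1 : c ≠ g₁ • b := by
    intro e
    rw [← hg₁] at e
    exact hab (smul_left_cancel _ e)
  obtain ⟨x, hx, hxe⟩ := exists_smul_eq_of_ne h c (g₁ • b) d h1 hcd
  refine ⟨x * g₁, ?_, ?_⟩
  · rw [mul_smul, hg₁]
    apply Sylow.smul_eq_iff_mem_normalizer.mpr
    exact Subgroup.le_normalizer hx
  · rw [mul_smul, hxe]

theorem card_two_stab (h : Nat.card G = 360) [Fact (Nat.Prime 3)] {a b : Sylow 3 G}
    (hab : a ≠ b) :
    Nat.card ↥(stabilizer G a ⊓ stabilizer G b : Subgroup G) = 4 := by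
  classical
  have : Fintype G := Fintype.ofFinite G
  have : Fintype (Sylow 3 G) := Fintype.ofFinite _
  have h1 := Cfsg.Agent.Helper7.Zass.card_eq (t2 h) hab
  rw [← Nat.card_eq_fintype_card, ← Nat.card_eq_fintype_card, h, card_sylow3 h] at h1
  omega

end Cfsg.Agent.Helper2.Ord360
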