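import Mathlib
import Cfsg.Agent.Helper2.Ord360C

set_option autoImplicit false

/-! Simple groups of order 360 with 36 Sylow 5-subgroups: no non-identity element normalizes three
Sylow 3-subgroups. -/

namespace Cfsg.Agent.Helper2.Ord360

open Subgroup MulAction Cfsg.Agent.Helper7.Zass

variable {G : Type*} [Group G] [Finite G] [IsSimpleGroup G]

theorem phi_nonneg (n : ℕ) : (0 : ℤ) ≤ ((n : ℤ) - 1) * ((n : ℤ) - 2) := by
  rcases Nat.lt_or_ge n 3 with h | h
  · interval_cases n <;> norm_num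
  · have h1 : (3 : ℤ) ≤ (n : ℤ) := by exact_mod_cast h
    nlinarith

theorem two_le_phi (n : ℕ) (h : 3 ≤ n) : (2 : ℤ) ≤ ((n : ℤ) - 1) * ((n : ℤ) - 2) := by
  have h1 : (3 : ℤ) ≤ (n : ℤ) := by exact_mod_cast h
  nlinarith

/-- elements of order 5 normalize no Sylow 3-subgroup -/
theorem fpf_of_mem_sylow5 (h : Nat.card G = 360) [Fact (Nat.Prime 3)] [Fact (Nat.Prime 5)]
    (P : Sylow 5 G) {x : G} (hx : x ∈ (P : Subgroup G)) (hx1 : x ≠ 1) (c : Sylow 3 G) :
    x • c ≠ c := by
  intro e
  have h1 : x ∈ normalizer ((c : Subgroup G) : Set G) := Sylow.smul_eq_iff_mem_normalizer.mp e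
  have h2 : orderOf x ∣ 36 := by
    have := Subgroup.orderOf_dvd_natCard (normalizer ((c : Subgroup G) : Set G)) h1
    rwa [card_normalizer_sylow3 h c] at this
  have h3 : orderOf x ∣ 5 := by
    have := Subgroup.orderOf_dvd_natCard (P : Subgroup G) hx
    rwa [card_sylow5_eq h P] at this
  have h4 : orderOf x ∣ Nat.gcd 36 5 := Nat.dvd_gcd h2 h3
  have h5 : Nat.gcd 36 5 = 1 := by decide
  rw [h5, Nat.dvd_one, orderOf_eq_one_iff] at h4
  exact hx1 h4

theorem p3 (h : Nat.card G = 360) [Fact (Nat.Prime 3)] [Fact (Nat.Prime 5)]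
    (h5 : Nat.card (Sylow 5 G) = 36) : P3 G (Sylow 3 G) := by
  classical
  have : Fintype G := Fintype.ofFinite G
  have : Fintype (Sylow 3 G) := Fintype.ofFinite _
  intro g₀ a b c hab hbc hac hga hgb hgc
  by_contra hg1
  obtain ⟨a', b', hab'⟩ : ∃ a' b' : Sylow 3 G, a' ≠ b' := ⟨a, b, hab⟩
  have hT := t2 h
  have hs1 : ∑ g : G, nfix (Ω := Sylow 3 G) g = 360 := by
    rw [sum_nfix hT hab', ← Nat.card_eq_fintype_card, h]
  have hs2 : ∑ g : G, (nfix (Ω := Sylow 3 G) g * nfix (Ω := Sylow 3 G) g -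
      nfix (Ω := Sylow 3 G) g) = 360 := by
    rw [sum_nfix_sq hT hab', ← Nat.card_eq_fintype_card, h]
  set φ : G → ℤ := fun g => ((nfix (Ω := Sylow 3 G) g : ℤ) - 1) *
    ((nfix (Ω := Sylow 3 G) g : ℤ) - 2) with hφ
  have hφnn : ∀ g : G, 0 ≤ φ g := fun g => phi_nonneg _
  have hsum : ∑ g : G, φ g = 360 := by
    have e1 : ∀ g : G, φ g = ((nfix (Ω := Sylow 3 G) g * nfix (Ω := Sylow 3 G) g -
        nfix (Ω := Sylow 3 G) g : ℕ) : ℤ) - 2 * ((nfix (Ω := Sylow 3 G) g : ℕ) : ℤ) + 2 := by
      intro g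
      rw [hφ, Nat.cast_sub (Nat.le_mul_self _)]
      push_cast
      ring
    rw [Finset.sum_congr rfl (fun g _ => e1 g), Finset.sum_add_distrib, Finset.sum_sub_distrib,
      ← Nat.cast_sum, hs2, ← Finset.mul_sum, ← Nat.cast_sum, hs1, Finset.sum_const,
      Finset.card_univ, ← Nat.card_eq_fintype_card, h]
    norm_num
  -- derangements
  set X : Finset G := Finset.univ.filter (fun g : G => ∀ c : Sylow 3 G, g • c ≠ c) with hX
  have hXcard : 144 ≤ X.card := by
    have hk : ∀ P : Sylow 5 G, Nat.card P = 5 := fun P => card_sylow5_eq h P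
    have hTI : ∀ P Q : Sylow 5 G, P ≠ Q → (P : Subgroup G) ⊓ (Q : Subgroup G) = ⊥ := by
      intro P Q hPQ
      apply S504.inf_eq_bot_of_prime_card (q := 5) (by norm_num) _ _ (hk P) (hk Q)
      intro e
      exact hPQ (Sylow.ext e)
    have := S504.card_sylow_mul_pred_le (p := 5) 5 hk hTI X (by
      intro P x hx hx1
      rw [hX, Finset.mem_filter]
      exact ⟨Finset.mem_univ _, fpf_of_mem_sylow5 h P hx hx1⟩)
    rw [h5] at this
    omega
  have hφX : ∀ g ∈ X, φ g = 2 := by
    intro g hg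
    rw [hX, Finset.mem_filter] at hg
    have : nfix (Ω := Sylow 3 G) g = 0 := (nfix_eq_zero_iff g).mpr hg.2
    rw [hφ]
    simp only [this]
    norm_num
  have h1X : (1 : G) ∉ X := by
    rw [hX, Finset.mem_filter]
    intro hh
    exact hh.2 a (one_smul _ _)
  have hgX : g₀ ∉ X := by
    rw [hX, Finset.mem_filter]
    intro hh
    exact hh.2 a hga
  have hφ1 : φ 1 = 72 := by
    rw [hφ]
    simp only [nfix_one]
    rw [← Nat.card_eq_fintype_card, card_sylow3 h]
    norm_num
  have hφg : 2 ≤ φ g₀ := by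
    apply two_le_phi
    unfold nfix
    have hsub : ({a, b, c} : Finset (Sylow 3 G)) ⊆
        Finset.univ.filter (fun d : Sylow 3 G => g₀ • d = d) := by
      intro d hd
      rw [Finset.mem_insert, Finset.mem_insert, Finset.mem_singleton] at hd
      rw [Finset.mem_filter]
      refine ⟨Finset.mem_univ _, ?_⟩
      rcases hd with rfl | rfl | rfl
      · exact hga
      · exact hgb
      · exact hgc
    have h3 : ({a, b, c} : Finset (Sylow 3 G)).card = 3 := by
      rw [Finset.card_insert_of_notMem, Finset.card_insert_of_notMem, Finset.card_singleton]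
      · rw [Finset.mem_singleton]; exact hbc
      · rw [Finset.mem_insert, Finset.mem_singleton]
        rintro (e | e)
        · exact hab e
        · exact hac e
    have hc := Finset.card_le_card hsub
    rw [h3] at hc
    exact hc
  have hsub : insert (1 : G) (insert g₀ X) ⊆ Finset.univ := Finset.subset_univ _
  have hle := Finset.sum_le_sum_of_subset_of_nonneg hsub (fun g _ _ => hφnn g)
  rw [hsum, Finset.sum_insert, Finset.sum_insert hgX, Finset.sum_congr rfl hφX,
    Finset.sum_const, hφ1] at hle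
  · have : (144 : ℤ) ≤ (X.card : ℤ) := by exact_mod_cast hXcard
    rw [nsmul_eq_mul] at hle
    linarith
  · rw [Finset.mem_insert]
    rintro (e | e)
    · exact hg1 e.symm
    · exact h1X e

end Cfsg.Agent.Helper2.Ord360
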