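import Mathlib

set_option autoImplicit false

/-!
A field lemma: an involutory map `σ` of the nonzero elements of a field which is anti-equivariant
under a multiplicative subgroup of index two containing `-1`, sends `1` to `-1` and satisfies the
relation coming from an element of order three, is `x ↦ -1/x`.
-/

namespace Cfsg.Agent.Helper2.ZasPSL

variable {K : Type*} [Field K]

theorem sigma_eq_neg_inv (P : K → Prop) (hP0 : ¬ P 0) (hP1 : P 1) (hPneg : P (-1))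
    (hPmul : ∀ x y, P x → P y → P (x * y)) (hPinv : ∀ x, P x → P x⁻¹)
    (hPnn : ∀ x y, x ≠ 0 → y ≠ 0 → ¬ P x → ¬ P y → P (x * y))
    (hPex : ∃ ν : K, ν ≠ 0 ∧ ¬ P ν)
    (σ : K → K)
    (h1 : ∀ α, P α → ∀ x, x ≠ 0 → σ (α * x) = α⁻¹ * σ x)
    (h2 : ∀ x, x ≠ 0 → σ x ≠ 0 ∧ σ (σ x) = x)
    (h3 : σ 1 = -1)
    (h4 : ∀ x, x ≠ 0 → x ≠ 1 → σ (σ x + 1) + 1 = σ (x - 1)) :
    ∀ x, x ≠ 0 → σ x = -x⁻¹ := by
  have hPne : ∀ x, P x → x ≠ 0 := by
    intro x hx h0
    rw [h0] at hx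
    exact hP0 hx
  have hPn : ∀ x y, P x → y ≠ 0 → ¬ P y → ¬ P (x * y) := by
    intro x y hx hy hny hxy
    apply hny
    have e : y = x⁻¹ * (x * y) := by
      rw [← mul_assoc, inv_mul_cancel₀ (hPne x hx), one_mul]
    rw [e]
    exact hPmul _ _ (hPinv x hx) hxy
  have hninv : ∀ y, y ≠ 0 → ¬ P y → ¬ P y⁻¹ := by
    intro y hy hny h
    apply hny
    have := hPinv _ h
    rwa [inv_inv] at this
  have hnegP : ∀ y, y ≠ 0 → ¬ P y → ¬ P (-y) := by
    intro y hy hny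
    have := hPn (-1) y hPneg hy hny
    rwa [neg_one_mul] at this
  -- step 1
  have s1 : ∀ x, P x → σ x = -x⁻¹ := by
    intro x hx
    have := h1 x hx 1 one_ne_zero
    rw [mul_one, h3] at this
    rw [this]; ring
  obtain ⟨ν, hν0, hνP⟩ := hPex
  have hσν0 : σ ν ≠ 0 := (h2 ν hν0).1
  have hσνP : ¬ P (σ ν) := by
    intro h
    have e1 := s1 _ h
    rw [(h2 ν hν0).2] at e1
    apply hνP
    rw [e1]
    have e2 : -(σ ν)⁻¹ = (-1) * (σ ν)⁻¹ := by ring
    rw [e2]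
    exact hPmul _ _ hPneg (hPinv _ h)
  have hκP : P (-(ν * σ ν)) := by
    have e : -(ν * σ ν) = (-1) * (ν * σ ν) := by ring
    rw [e]
    exact hPmul _ _ hPneg (hPnn _ _ hν0 hσν0 hνP hσνP)
  generalize hκ : -(ν * σ ν) = κ at hκP
  have hκ0 : κ ≠ 0 := hPne _ hκP
  -- step 3
  have s3 : ∀ x, x ≠ 0 → ¬ P x → σ x = -(κ * x⁻¹) := by
    intro x hx hxP
    have hq : P (x * ν⁻¹) := hPnn _ _ hx (inv_ne_zero hν0) hxP (hninv ν hν0 hνP)
    have e : x = (x * ν⁻¹) * ν := by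
      rw [mul_assoc, inv_mul_cancel₀ hν0, mul_one]
    have h5 := h1 _ hq ν hν0
    rw [← e] at h5
    rw [h5, ← hκ, mul_inv, inv_inv]
    ring
  -- step 4 : two consecutive non-members
  obtain ⟨y, hy0, hyP, hy1P⟩ : ∃ y : K, y ≠ 0 ∧ ¬ P y ∧ ¬ P (y - 1) := by
    by_cases hc : P (ν - 1)
    · refine ⟨(ν - 1) * ν⁻¹, ?_, ?_, ?_⟩
      · exact mul_ne_zero (hPne _ hc) (inv_ne_zero hν0)
      · exact hPn _ _ hc (inv_ne_zero hν0) (hninv ν hν0 hνP)
      · have e : (ν - 1) * ν⁻¹ - 1 = -ν⁻¹ := by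
          field_simp
          ring
        rw [e]
        exact hnegP _ (inv_ne_zero hν0) (hninv ν hν0 hνP)
    · exact ⟨ν, hν0, hνP, hc⟩
  have hy1 : y - 1 ≠ 0 := by
    intro h
    have : y = 1 := sub_eq_zero.mp h
    rw [this] at hyP
    exact hyP hP1
  -- step 5
  have hx0 : κ * y ≠ 0 := mul_ne_zero hκ0 hy0
  have hxP : ¬ P (κ * y) := hPn _ _ hκP hy0 hyP
  have hxκ : κ * y - κ = κ * (y - 1) := by ring
  have hxκ0 : κ * y - κ ≠ 0 := by
    rw [hxκ]; exact mul_ne_zero hκ0 hy1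
  have hxκP : ¬ P (κ * y - κ) := by
    rw [hxκ]; exact hPn _ _ hκP hy1 hy1P
  have hx1 : κ * y ≠ 1 := by
    intro h
    rw [h] at hxP
    exact hxP hP1
  have hx10 : κ * y - 1 ≠ 0 := fun h => hx1 (sub_eq_zero.mp h)
  generalize κ * y = x at hx0 hxP hxκ0 hxκP hx1 hx10
  have e1 : σ x = -(κ * x⁻¹) := s3 x hx0 hxP
  have e2 : σ x + 1 = (x - κ) * x⁻¹ := by
    rw [e1]
    field_simp
    ring
  have hP2 : P ((x - κ) * x⁻¹) := hPnn _ _ hxκ0 (inv_ne_zero hx0) hxκP (hninv x hx0 hxP)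
  have e3 : σ (σ x + 1) = -((x - κ) * x⁻¹)⁻¹ := by
    rw [e2]
    exact s1 _ hP2
  have e4 := h4 x hx0 hx1
  rw [e3] at e4
  have hκ1 : κ = 1 := by
    by_cases hc : P (x - 1)
    · rw [s1 _ hc] at e4
      have e5 : κ * (x - 1) = x - κ := by
        field_simp at e4
        linear_combination (-1 : K) * e4
      have e6 : (κ - 1) * x = 0 := by linear_combination e5
      rcases mul_eq_zero.mp e6 with h | h
      · exact sub_eq_zero.mp h
      · exact absurd h hx0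
    · rw [s3 _ hx10 hc] at e4
      have e5 : κ * (x - 1) = κ * (x - κ) := by
        field_simp at e4
        linear_combination (-1 : K) * e4
      have e6 := mul_left_cancel₀ hκ0 e5
      linear_combination e6
  intro z hz
  by_cases hc : P z
  · exact s1 z hc
  · rw [s3 z hz hc, hκ1, one_mul]

end Cfsg.Agent.Helper2.ZasPSL
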