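import Mathlib
import Cfsg.Agent.Helper2.MobiusB

set_option autoImplicit false

/-!
Recognising `PSL(2, K)`: a group acting faithfully on a set identified with the projective line
over `K`, containing the maps `x ↦ α² x + β` and `x ↦ -1/x` and of the right order.
-/

namespace Cfsg.Agent.Helper2.ZasPSL

open OnePoint Matrix MulAction
open Cfsg.Agent.Helper2.Mobius

section sl

variable (K : Type*) [Field K] [DecidableEq K]

/-- `SL₂` acting on the projective line -/
noncomputable def slHom : SpecialLinearGroup (Fin 2) K →* Equiv.Perm (OnePoint K) :=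
  (mobHom K).comp Matrix.SpecialLinearGroup.toGL

theorem slHom_apply (A : SpecialLinearGroup (Fin 2) K) (x : OnePoint K) :
    slHom K A x = (Matrix.SpecialLinearGroup.toGL A) • x := rfl

theorem slHom_ker : (slHom K).ker = Subgroup.center (SpecialLinearGroup (Fin 2) K) := by
  ext A
  rw [MonoidHom.mem_ker]
  show mobHom K (Matrix.SpecialLinearGroup.toGL A) = 1 ↔ _
  rw [← MonoidHom.mem_ker, mobHom_ker, Matrix.SpecialLinearGroup.toGL_mem_center_iff]

/-- `PSL₂` is the image of `SL₂` in the permutations of the projective line -/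
noncomputable def pslEquivRange :
    Matrix.ProjectiveSpecialLinearGroup (Fin 2) K ≃* (slHom K).range :=
  (QuotientGroup.quotientMulEquivOfEq (slHom_ker K).symm).trans
    (QuotientGroup.quotientKerEquivRange (slHom K))

theorem slHom_infty (A : SpecialLinearGroup (Fin 2) K) :
    slHom K A ∞ = if A 1 0 = 0 then ∞ else ((A 0 0 / A 1 0 : K) : OnePoint K) := by
  rw [slHom_apply, OnePoint.smul_infty_eq_ite]
  rfl

theorem slHom_coe (A : SpecialLinearGroup (Fin 2) K) (x : K) :
    slHom K A (x : OnePoint K) = if A 1 0 * x + A 1 1 = 0 then ∞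
      else (((A 0 0 * x + A 0 1) / (A 1 0 * x + A 1 1) : K) : OnePoint K) := by
  rw [slHom_apply, OnePoint.smul_some_eq_ite]
  rfl

end sl

variable {G Ω K : Type*} [Group G] [MulAction G Ω] [Field K] [DecidableEq K]

theorem exists_smul_eq_slHom (f : OnePoint K → Ω)
    (hB : ∀ α : K, α ≠ 0 → ∀ β : K, ∃ g : G, g • f ∞ = f ∞ ∧
      ∀ x : K, g • f (x : OnePoint K) = f ((α ^ 2 * x + β : K) : OnePoint K))
    (hS : ∃ s : G, s • f ∞ = f ((0 : K) : OnePoint K) ∧ s • f ((0 : K) : OnePoint K) = f ∞ ∧
      ∀ x : K, x ≠ 0 → s • f (x : OnePoint K) = f ((-x⁻¹ : K) : OnePoint K))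
    (A : SpecialLinearGroup (Fin 2) K) :
    ∃ g : G, ∀ z : OnePoint K, g • f z = f (slHom K A z) := by
  have hdet : A 0 0 * A 1 1 - A 0 1 * A 1 0 = 1 := by
    have := A.det_coe
    rwa [Matrix.det_fin_two] at this
  have hinf := slHom_infty K A
  have hcoe := slHom_coe K A
  generalize A 0 0 = a at hdet hinf hcoe
  generalize A 0 1 = b at hdet hinf hcoe
  generalize A 1 0 = c at hdet hinf hcoe
  generalize A 1 1 = d at hdet hinf hcoe
  by_cases hc : c = 0
  · subst hc
    have had : a * d = 1 := by linear_combination hdet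
    have ha : a ≠ 0 := left_ne_zero_of_mul_eq_one had
    have hd : d ≠ 0 := right_ne_zero_of_mul_eq_one had
    obtain ⟨g, hg1, hg2⟩ := hB a ha (a * b)
    refine ⟨g, fun z => ?_⟩
    cases z with
    | infty => rw [hinf, if_pos rfl, hg1]
    | coe x =>
      rw [hcoe, if_neg (by rw [zero_mul, zero_add]; exact hd), hg2]
      congr 2
      rw [zero_mul, zero_add]
      field_simp
      linear_combination (a * x + b) * had
  · obtain ⟨g₁, hg11, hg12⟩ := hB c⁻¹ (inv_ne_zero hc) (a / c)
    obtain ⟨g₂, hg21, hg22⟩ := hB 1 one_ne_zero (d / c)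
    obtain ⟨s, hs1, hs2, hs3⟩ := hS
    refine ⟨g₁ * s * g₂, fun z => ?_⟩
    cases z with
    | infty =>
      rw [hinf, if_neg hc, mul_smul, mul_smul, hg21, hs1, hg12]
      congr 2
      ring
    | coe x =>
      rw [hcoe, mul_smul, mul_smul, hg22]
      by_cases hx : c * x + d = 0
      · rw [if_pos hx]
        have e : (1 : K) ^ 2 * x + d / c = 0 := by
          field_simp
          linear_combination hx
        rw [e, hs2, hg11]
      · rw [if_neg hx]
        have e : (1 : K) ^ 2 * x + d / c ≠ 0 := by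
          intro h
          apply hx
          field_simp at h
          linear_combination h
        rw [hs3 _ e, hg12]
        congr 2
        field_simp
        linear_combination hdet

theorem nonempty_mulEquiv_psl [Finite G] [Fintype K]
    (f : OnePoint K → Ω) (hf : Function.Bijective f)
    (hfaith : ∀ g : G, (∀ x : Ω, g • x = x) → g = 1)
    (hB : ∀ α : K, α ≠ 0 → ∀ β : K, ∃ g : G, g • f ∞ = f ∞ ∧
      ∀ x : K, g • f (x : OnePoint K) = f ((α ^ 2 * x + β : K) : OnePoint K))
    (hS : ∃ s : G, s • f ∞ = f ((0 : K) : OnePoint K) ∧ s • f ((0 : K) : OnePoint K) = f ∞ ∧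
      ∀ x : K, x ≠ 0 → s • f (x : OnePoint K) = f ((-x⁻¹ : K) : OnePoint K))
    (hcard : Nat.card G = Nat.card (Matrix.ProjectiveSpecialLinearGroup (Fin 2) K)) :
    Nonempty (G ≃* Matrix.ProjectiveSpecialLinearGroup (Fin 2) K) := by
  let e : OnePoint K ≃ Ω := Equiv.ofBijective f hf
  let φ : G →* Equiv.Perm (OnePoint K) :=
    e.symm.permCongrHom.toMonoidHom.comp (MulAction.toPermHom G Ω)
  have hφ : ∀ (g : G) (x : OnePoint K), f (φ g x) = g • f x := by
    intro g x
    have h1 : φ g x = e.symm (g • e x) := rfl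
    rw [h1]
    exact e.apply_symm_apply _
  have hinj : Function.Injective φ := by
    rw [injective_iff_map_eq_one]
    intro g hg
    apply hfaith
    intro y
    obtain ⟨x, rfl⟩ := hf.2 y
    rw [← hφ, hg]
    rfl
  have hle : (slHom K).range ≤ φ.range := by
    rintro _ ⟨A, rfl⟩
    obtain ⟨g, hg⟩ := exists_smul_eq_slHom f hB hS A
    refine ⟨g, ?_⟩
    ext z
    apply hf.1
    rw [hφ, hg]
  have hcard2 : Nat.card (slHom K).range = Nat.card φ.range := by
    rw [← Nat.card_congr (pslEquivRange K).toEquiv, ← hcard]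
    exact Nat.card_congr (MonoidHom.ofInjective hinj).toEquiv
  have heq : (slHom K).range = φ.range :=
    Subgroup.eq_of_le_of_card_ge hle (le_of_eq hcard2.symm)
  exact ⟨(MonoidHom.ofInjective hinj).trans
    ((MulEquiv.subgroupCongr heq.symm).trans (pslEquivRange K).symm)⟩

end Cfsg.Agent.Helper2.ZasPSL
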