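import Mathlib
import Cfsg.Agent.Helper2.ZasPSLD

set_option autoImplicit false

/-!
The Frobenius kernel of a point stabiliser in a Zassenhaus group with `2 d ≥ n - 1`: it is abelian
and the two-point stabiliser acts irreducibly on it.
-/

namespace Cfsg.Agent.Helper2.ZasPSL

open MulAction Cfsg.Agent.Helper7.Zass Cfsg.Agent.Helper7.TwoOrb

variable {G Ω : Type*} [Group G] [Finite G] [MulAction G Ω] [Fintype Ω]

theorem exists_kernel_data (hZ : Cfsg.IsZassenhausGroup G Ω) {a b : Ω} (hab : a ≠ b)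
    (hd : Fintype.card Ω - 2 ≤ 2 * Nat.card ↥(stabilizer G a ⊓ stabilizer G b))
    (h4 : 4 ≤ Fintype.card Ω) :
    ∃ N : Subgroup G, (∀ n ∈ N, n • a = a) ∧ (∀ n ∈ N, ∀ y : Ω, y ≠ a → n • y = y → n = 1) ∧
      (∀ y z : Ω, y ≠ a → z ≠ a → ∃ n ∈ N, n • y = z) ∧
      (∀ g : G, g • a = a → ∀ n ∈ N, g * n * g⁻¹ ∈ N) ∧
      (∀ n ∈ N, ∀ m ∈ N, n * m = m * n) ∧ Nat.card N + 1 = Fintype.card Ω ∧
      (∀ M : Subgroup G, M ≤ N →
        (∀ h ∈ stabilizer G a ⊓ stabilizer G b, ∀ m ∈ M, h * m * h⁻¹ ∈ M) → M = ⊥ ∨ M = N) := by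
  classical
  have hZH : ZHyp G Ω := zhyp_of hZ
  obtain ⟨hfaith, h2t, hp3, hfix, hnoreg⟩ := hZ
  haveI := hfaith
  obtain ⟨N, hNset, hNcard⟩ := exists_kernel_subgroup hZH a
  rw [Nat.card_eq_fintype_card (α := Ω)] at hNcard
  have hmem : ∀ x : G, x ∈ N ↔ x ∈ Kset a := by
    intro x
    rw [← SetLike.mem_coe, hNset]
  set H : Subgroup G := stabilizer G a ⊓ stabilizer G b with hH
  have hmemH : ∀ h : G, h ∈ H ↔ h • a = a ∧ h • b = b := by
    intro h
    rw [hH, Subgroup.mem_inf, mem_stabilizer_iff, mem_stabilizer_iff]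
  have hNa : ∀ n ∈ N, n • a = a := fun n hn => ((hmem n).1 hn).1
  have hNfree : ∀ n ∈ N, ∀ y : Ω, y ≠ a → n • y = y → n = 1 := by
    intro n hn y hy hny
    by_contra hn1
    exact hy (Kset_fix_unique ((hmem n).1 hn) hn1 hny)
  have hNtrans : ∀ y z : Ω, y ≠ a → z ≠ a → ∃ n ∈ N, n • y = z := by
    intro y z hy hz
    obtain ⟨k, hk, hkyz⟩ := Kset_transitive hZH hy hz
    exact ⟨k, (hmem k).2 hk, hkyz⟩
  have hNnorm : ∀ g : G, g • a = a → ∀ n ∈ N, g * n * g⁻¹ ∈ N := by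
    intro g hg n hn
    rw [hmem] at hn ⊢
    have := conj_mem_Kset hn g
    rwa [hg] at this
  have hnorm : ∀ h ∈ H, ∀ x ∈ N, h * x * h⁻¹ ∈ N := fun h hh => hNnorm h ((hmemH h).1 hh).1
  have hfree : ∀ h ∈ H, ∀ x ∈ N, x ≠ 1 → h * x * h⁻¹ = x → h = 1 := by
    intro h hh x hx hx1 hconj
    obtain ⟨hha, hhb⟩ := (hmemH h).1 hh
    have hxa : x • a = a := hNa x hx
    have hcomm : h * x = x * h := by
      have : h * x = (h * x * h⁻¹) * h := by group
      rw [this, hconj]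
    have h3 : h • (x • b) = x • b := by
      rw [← mul_smul, hcomm, mul_smul, hhb]
    have hxb : x • b ≠ b := fun e => hx1 (hNfree x hx b (Ne.symm hab) e)
    have hxba : x • b ≠ a := by
      intro e
      apply hab
      have : x • b = x • a := by rw [e, hxa]
      exact (smul_left_cancel _ this).symm
    exact hp3 h a b (x • b) hab (Ne.symm hxb) (Ne.symm hxba) hha hhb h3
  have h2 : Nat.card N - 1 ≤ 2 * Nat.card H := by
    have : Nat.card N - 1 = Fintype.card Ω - 2 := by omega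
    rw [this]
    exact hd
  have hF2 : 2 ≤ Nat.card N := by omega
  obtain ⟨hcomm, -⟩ := elementary_abelian N H hnorm hfree h2 hF2
  refine ⟨N, hNa, hNfree, hNtrans, hNnorm, hcomm, hNcard, ?_⟩
  intro M hMN hMinv
  by_cases hM : M = ⊥
  · exact Or.inl hM
  right
  have hTF : ((M : Set G) \ {1}) ⊆ (N : Set G) \ {1} := fun x hx => ⟨hMN hx.1, hx.2⟩
  have hTinv : ∀ h ∈ H, ∀ x ∈ ((M : Set G) \ {1}), h * x * h⁻¹ ∈ ((M : Set G) \ {1}) := by
    intro h hh x hx
    refine ⟨hMinv h hh x hx.1, ?_⟩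
    intro e
    apply hx.2
    rw [Set.mem_singleton_iff] at e ⊢
    have : x = h⁻¹ * (h * x * h⁻¹) * h := by group
    rw [this, e]
    group
  have hTcard : ((M : Set G) \ {1}).ncard + 1 = Nat.card M := by
    rw [Set.ncard_sdiff_singleton_add_one (show (1 : G) ∈ (M : Set G) from M.one_mem)
      (Set.toFinite _), ← Nat.card_coe_set_eq]
    rfl
  have hT := diff_one_eq_of_gcd N H hnorm hfree h2 hF2 _ hTF hTinv (by
    rw [hTcard, Nat.gcd_eq_left (Subgroup.card_dvd_of_le hMN)]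
    intro e
    exact hM (Subgroup.card_eq_one.mp e))
  apply le_antisymm hMN
  intro n hn
  by_cases hn1 : n = 1
  · rw [hn1]; exact M.one_mem
  · have : n ∈ ((M : Set G) \ {1}) := by
      rw [hT]
      exact ⟨hn, hn1⟩
    exact this.1

end Cfsg.Agent.Helper2.ZasPSL
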