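import Mathlib

set_option autoImplicit false

/-!
A finite field with a ring automorphism of prime order `r` whose only fixed points are `0` and `1`
has `2 ^ r` elements.
-/

namespace Cfsg.Agent.Helper2.ZasReg

theorem card_eq_two_pow_of_ringAut {F : Type*} [Field F] [Finite F] (τ : RingAut F) {r : ℕ}
    (hr : r.Prime) (hτr : τ ^ r = 1) (hfix : ∀ x : F, τ x = x → x = 0 ∨ x = 1)
    (hne : ∃ x : F, τ x ≠ x) : Nat.card F = 2 ^ r := by
  classical
  have hτ1 : τ ≠ 1 := by
    rintro rfl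
    obtain ⟨x, hx⟩ := hne
    exact hx rfl
  haveI : Fact r.Prime := ⟨hr⟩
  have hord : orderOf τ = r := orderOf_eq_prime hτr hτ1
  haveI : Finite ↥(Subgroup.zpowers τ) := by
    apply Nat.finite_of_card_ne_zero
    rw [Nat.card_zpowers, hord]
    exact hr.ne_zero
  haveI : Fintype ↥(Subgroup.zpowers τ) := Fintype.ofFinite _
  have h1 := FixedPoints.finrank_eq_card ↥(Subgroup.zpowers τ) F
  have h2 : Fintype.card ↥(Subgroup.zpowers τ) = r := by
    rw [← Nat.card_eq_fintype_card, Nat.card_zpowers, hord]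
  rw [h2] at h1
  have h3 : Nat.card ↥(FixedPoints.subfield ↥(Subgroup.zpowers τ) F) = 2 := by
    rw [Nat.card_eq_two_iff]
    refine ⟨0, 1, zero_ne_one, ?_⟩
    rw [Set.eq_univ_iff_forall]
    rintro ⟨x, hx⟩
    have hx' : τ x = x := hx ⟨τ, Subgroup.mem_zpowers τ⟩
    rcases hfix x hx' with rfl | rfl
    · left; rfl
    · right; rfl
  have h4 := Module.natCard_eq_pow_finrank (K := ↥(FixedPoints.subfield ↥(Subgroup.zpowers τ) F))
    (V := F)
  rw [h3, h1] at h4
  exact h4

end Cfsg.Agent.Helper2.ZasReg
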