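import Mathlib
import Cfsg.Agent.Helper2.ZasRegA

set_option autoImplicit false

/-!
An abelian group of automorphisms of an elementary abelian `2`-group `V`, transitive on the nonzero
vectors, together with `0` forms a field inside `End V`; a normalising automorphism of prime order
`r` acting fixed-point-freely forces `|V| = 2 ^ r`.
-/

namespace Cfsg.Agent.Helper2.ZasReg

/-- An abelian group `K` of automorphisms of an elementary abelian `2`-group `V`, transitive on
nonzero vectors. -/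
structure FData (V : Type*) [AddCommGroup V] where
  K : Subgroup (AddMonoid.End V)ˣ
  v₀ : V
  hv₀ : v₀ ≠ 0
  comm : ∀ k₁ ∈ K, ∀ k₂ ∈ K, k₁ * k₂ = k₂ * k₁
  trans : ∀ w : V, w ≠ 0 → ∃ k ∈ K, (k : AddMonoid.End V) v₀ = w
  two : ∀ v : V, v + v = 0

namespace FData

variable {V : Type*} [AddCommGroup V] (D : FData V)

theorem eq_zero_of_comm {z : AddMonoid.End V}
    (hz : ∀ k ∈ D.K, z * (k : AddMonoid.End V) = (k : AddMonoid.End V) * z)
    (hz0 : z D.v₀ = 0) : z = 0 := by
  refine DFunLike.ext _ _ (fun w => ?_)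
  by_cases hw : w = 0
  · subst hw; simp
  · obtain ⟨k, hk, rfl⟩ := D.trans w hw
    have h1 : z ((k : AddMonoid.End V) D.v₀) = (z * (k : AddMonoid.End V)) D.v₀ := rfl
    rw [h1, hz k hk]
    show (k : AddMonoid.End V) (z D.v₀) = 0
    rw [hz0, map_zero]

include D in
theorem add_self (x : AddMonoid.End V) : x + x = 0 := by
  refine DFunLike.ext _ _ (fun w => ?_)
  show x w + x w = 0
  exact D.two _

include D in
theorem neg_eq (x : AddMonoid.End V) : -x = x := neg_eq_of_add_eq_zero_left (D.add_self x)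

/-- the underlying set of the field -/
def carrier : Set (AddMonoid.End V) :=
  {x | x = 0 ∨ ∃ k ∈ D.K, x = ((k : (AddMonoid.End V)ˣ) : AddMonoid.End V)}

theorem comm_of_mem {x : AddMonoid.End V} (hx : x ∈ D.carrier) {l : (AddMonoid.End V)ˣ}
    (hl : l ∈ D.K) : x * (l : AddMonoid.End V) = (l : AddMonoid.End V) * x := by
  rcases hx with rfl | ⟨k, hk, rfl⟩
  · simp
  · rw [← Units.val_mul, ← Units.val_mul, D.comm k hk l hl]

theorem eq_zero_of_mem {x : AddMonoid.End V} (hx : x ∈ D.carrier) (h0 : x D.v₀ = 0) : x = 0 := by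
  rcases hx with rfl | ⟨k, hk, rfl⟩
  · rfl
  · exfalso
    apply D.hv₀
    have e : ((k⁻¹ : (AddMonoid.End V)ˣ) : AddMonoid.End V) * (k : AddMonoid.End V) = 1 :=
      Units.inv_mul k
    have h1 := congrArg (fun f : AddMonoid.End V => f D.v₀) e
    change ((k⁻¹ : (AddMonoid.End V)ˣ) : AddMonoid.End V) ((k : AddMonoid.End V) D.v₀) = D.v₀ at h1
    rw [h0, map_zero] at h1
    exact h1.symm

theorem add_mem {x y : AddMonoid.End V} (hx : x ∈ D.carrier) (hy : y ∈ D.carrier) :
    x + y ∈ D.carrier := by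
  by_cases hw : (x + y) D.v₀ = 0
  · left
    apply D.eq_zero_of_comm _ hw
    intro l hl
    rw [add_mul, mul_add, D.comm_of_mem hx hl, D.comm_of_mem hy hl]
  · obtain ⟨k, hk, hkv⟩ := D.trans _ hw
    right
    refine ⟨k, hk, ?_⟩
    have hz : x + y - (k : AddMonoid.End V) = 0 := by
      apply D.eq_zero_of_comm
      · intro l hl
        rw [sub_mul, mul_sub, add_mul, mul_add, D.comm_of_mem hx hl, D.comm_of_mem hy hl,
          D.comm_of_mem (Or.inr ⟨k, hk, rfl⟩) hl]
      · show (x + y) D.v₀ - (k : AddMonoid.End V) D.v₀ = 0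
        rw [hkv, sub_self]
    exact sub_eq_zero.mp hz

/-- the field as a subring of `End V` -/
def S : Subring (AddMonoid.End V) where
  carrier := D.carrier
  mul_mem' := by
    rintro x y (rfl | ⟨k, hk, rfl⟩) (rfl | ⟨l, hl, rfl⟩)
    · left; simp
    · left; simp
    · left; simp
    · right; exact ⟨k * l, D.K.mul_mem hk hl, (Units.val_mul k l).symm⟩
  one_mem' := Or.inr ⟨1, D.K.one_mem, rfl⟩
  add_mem' := fun hx hy => D.add_mem hx hy
  zero_mem' := Or.inl rfl
  neg_mem' := by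
    intro x hx
    rw [D.neg_eq x]; exact hx

theorem mem_S {x : AddMonoid.End V} : x ∈ D.S ↔
    x = 0 ∨ ∃ k ∈ D.K, x = ((k : (AddMonoid.End V)ˣ) : AddMonoid.End V) := Iff.rfl

theorem isField : IsField ↥D.S where
  exists_pair_ne := ⟨0, 1, by
    intro h
    apply D.hv₀
    have h1 : ((0 : ↥D.S) : AddMonoid.End V) = ((1 : ↥D.S) : AddMonoid.End V) :=
      congrArg Subtype.val h
    have h2 := congrArg (fun f : AddMonoid.End V => f D.v₀) h1
    exact h2.symm⟩
  mul_comm := by
    rintro ⟨x, hx⟩ ⟨y, hy⟩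
    apply Subtype.ext
    show x * y = y * x
    rcases hy with rfl | ⟨l, hl, rfl⟩
    · simp
    · exact D.comm_of_mem hx hl
  mul_inv_cancel := by
    rintro ⟨x, hx⟩ hx0
    rcases hx with rfl | ⟨k, hk, rfl⟩
    · exact absurd rfl hx0
    · refine ⟨⟨((k⁻¹ : (AddMonoid.End V)ˣ) : AddMonoid.End V),
        Or.inr ⟨k⁻¹, D.K.inv_mem hk, rfl⟩⟩, ?_⟩
      apply Subtype.ext
      exact Units.mul_inv k

/-- evaluation at the base vector -/
def evalMap : ↥D.S → V := fun x => (x : AddMonoid.End V) D.v₀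

theorem evalMap_bijective : Function.Bijective D.evalMap := by
  constructor
  · intro x y hxy
    have hxy' : (x : AddMonoid.End V) D.v₀ = (y : AddMonoid.End V) D.v₀ := hxy
    have h1 : ((x - y : ↥D.S) : AddMonoid.End V) D.v₀ = 0 := by
      show (x : AddMonoid.End V) D.v₀ - (y : AddMonoid.End V) D.v₀ = 0
      rw [hxy', sub_self]
    have h2 := D.eq_zero_of_mem (x - y).2 h1
    exact sub_eq_zero.mp (Subtype.ext h2)
  · intro w
    by_cases hw : w = 0
    · subst hw
      exact ⟨0, rfl⟩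
    · obtain ⟨k, hk, hkw⟩ := D.trans w hw
      exact ⟨⟨k, Or.inr ⟨k, hk, rfl⟩⟩, hkw⟩

theorem card_S : Nat.card ↥D.S = Nat.card V :=
  Nat.card_congr (Equiv.ofBijective D.evalMap D.evalMap_bijective)

theorem finite_S [Finite V] : Finite ↥D.S :=
  Finite.of_injective D.evalMap D.evalMap_bijective.1

end FData

section conj

variable {V : Type*} [AddCommGroup V]

/-- conjugation by a unit as a ring endomorphism -/
def conjHom (σ : (AddMonoid.End V)ˣ) : AddMonoid.End V →+* AddMonoid.End V where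
  toFun x := (σ : AddMonoid.End V) * x * ((σ⁻¹ : (AddMonoid.End V)ˣ) : AddMonoid.End V)
  map_one' := by simp
  map_mul' x y := by
    simp only [mul_assoc, Units.inv_mul_cancel_left]
  map_zero' := by simp
  map_add' x y := by simp [mul_add, add_mul]

theorem conjHom_apply (σ : (AddMonoid.End V)ˣ) (x : AddMonoid.End V) :
    conjHom σ x = (σ : AddMonoid.End V) * x * ((σ⁻¹ : (AddMonoid.End V)ˣ) : AddMonoid.End V) :=
  rfl

theorem conjHom_mem (D : FData V) {σ : (AddMonoid.End V)ˣ} (hσ : ∀ k ∈ D.K, σ * k * σ⁻¹ ∈ D.K) :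
    ∀ x ∈ D.S, conjHom σ x ∈ D.S := by
  rintro x (rfl | ⟨k, hk, rfl⟩)
  · left; simp
  · right
    exact ⟨σ * k * σ⁻¹, hσ k hk, by rw [conjHom_apply, Units.val_mul, Units.val_mul]⟩

/-- conjugation by a normalising unit as a ring endomorphism of the field -/
def tauHom (D : FData V) {σ : (AddMonoid.End V)ˣ} (hσ : ∀ k ∈ D.K, σ * k * σ⁻¹ ∈ D.K) :
    ↥D.S →+* ↥D.S :=
  (conjHom σ).restrict D.S D.S (conjHom_mem D hσ)

theorem tauHom_coe (D : FData V) {σ : (AddMonoid.End V)ˣ} (hσ : ∀ k ∈ D.K, σ * k * σ⁻¹ ∈ D.K)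
    (x : ↥D.S) : ((tauHom D hσ x : ↥D.S) : AddMonoid.End V) =
      (σ : AddMonoid.End V) * x * ((σ⁻¹ : (AddMonoid.End V)ˣ) : AddMonoid.End V) := rfl

end conj

end Cfsg.Agent.Helper2.ZasReg
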