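import Mathlib
import Cfsg.Agent.Helper2.ZasRegB

set_option autoImplicit false

/-!
`|V| = 2 ^ r` for the data of `ZasRegB`.
-/

namespace Cfsg.Agent.Helper2.ZasReg

namespace FData

variable {V : Type*} [AddCommGroup V] (D : FData V)

theorem main [Finite V] (σ : (AddMonoid.End V)ˣ) (hσ : ∀ k ∈ D.K, σ * k * σ⁻¹ ∈ D.K)
    (hfpf : ∀ k ∈ D.K, σ * k * σ⁻¹ = k → k = 1) {r : ℕ} (hr : r.Prime) (hσr : σ ^ r = 1)
    (hK : ∃ k ∈ D.K, k ≠ 1) : Nat.card V = 2 ^ r := by
  letI : Field ↥D.S := D.isField.toField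
  haveI : Finite ↥D.S := D.finite_S
  let τ₀ : ↥D.S →+* ↥D.S := tauHom D hσ
  have hinj : Function.Injective τ₀ := τ₀.injective
  have hbij : Function.Bijective τ₀ := ⟨hinj, Finite.injective_iff_surjective.mp hinj⟩
  let τ : RingAut ↥D.S := RingEquiv.ofBijective τ₀ hbij
  have hτ : ∀ x : ↥D.S, ((τ x : ↥D.S) : AddMonoid.End V) =
      (σ : AddMonoid.End V) * x * ((σ⁻¹ : (AddMonoid.End V)ˣ) : AddMonoid.End V) := fun x => rfl
  have hpow : ∀ n : ℕ, ∀ x : ↥D.S, (((τ ^ n) x : ↥D.S) : AddMonoid.End V) =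
      ((σ ^ n : (AddMonoid.End V)ˣ) : AddMonoid.End V) * x *
        (((σ ^ n)⁻¹ : (AddMonoid.End V)ˣ) : AddMonoid.End V) := by
    intro n
    induction n with
    | zero => intro x; simp
    | succ n ih =>
      intro x
      have e : (τ ^ (n + 1)) x = τ ((τ ^ n) x) := by
        rw [pow_succ']; rfl
      rw [e, hτ, ih, pow_succ', mul_inv_rev, Units.val_mul, Units.val_mul]
      simp only [mul_assoc]
  rw [← D.card_S]
  apply card_eq_two_pow_of_ringAut τ hr
  · apply RingEquiv.ext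
    intro x
    apply Subtype.ext
    rw [hpow, hσr]
    simp
  · intro x hx
    have hx' := congrArg Subtype.val hx
    rw [hτ] at hx'
    rcases x.2 with h0 | ⟨k, hk, hxk⟩
    · left
      exact Subtype.ext h0
    · right
      rw [hxk, ← Units.val_mul, ← Units.val_mul] at hx'
      have h1 := hfpf k hk (Units.ext hx')
      apply Subtype.ext
      rw [hxk, h1]
      rfl
  · obtain ⟨k, hk, hk1⟩ := hK
    refine ⟨⟨k, Or.inr ⟨k, hk, rfl⟩⟩, ?_⟩
    intro hx
    have hx' := congrArg Subtype.val hx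
    rw [hτ] at hx'
    change (σ : AddMonoid.End V) * (k : AddMonoid.End V) *
      ((σ⁻¹ : (AddMonoid.End V)ˣ) : AddMonoid.End V) = (k : AddMonoid.End V) at hx'
    rw [← Units.val_mul, ← Units.val_mul] at hx'
    exact hk1 (hfpf k hk (Units.ext hx'))

end FData

end Cfsg.Agent.Helper2.ZasReg
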