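import Mathlib
import Cfsg.Statements.S0739

set_option autoImplicit false

/-!
Zassenhaus groups: elementary facts about the two-point stabiliser.
-/

namespace Cfsg.Agent.Helper2.ZasOdd

open MulAction

variable {G Ω : Type*} [Group G] [MulAction G Ω]

/-- the two-point stabiliser -/
abbrev HH (G : Type*) {Ω : Type*} [Group G] [MulAction G Ω] (a b : Ω) : Subgroup G :=
  stabilizer G a ⊓ stabilizer G b

theorem mem_HH {a b : Ω} {g : G} : g ∈ HH G a b ↔ g • a = a ∧ g • b = b := by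
  simp [HH, Subgroup.mem_inf, mem_stabilizer_iff]

section

variable (hZ : Cfsg.IsZassenhausGroup G Ω) {a b : Ω} (hab : a ≠ b)
include hZ hab

theorem fix_cases {h : G} (hh : h ∈ HH G a b) (h1 : h ≠ 1) {c : Ω} (hc : h • c = c) :
    c = a ∨ c = b := by
  by_contra hcon
  push_neg at hcon
  obtain ⟨hfa, hfb⟩ := mem_HH.mp hh
  exact h1 (hZ.2.2.1 h a b c hab (Ne.symm hcon.2) (Ne.symm hcon.1) hfa hfb hc)

theorem exists_swap : ∃ s : G, s • a = b ∧ s • b = a := by
  have h2 := hZ.2.1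
  rw [is_two_pretransitive_iff] at h2
  exact h2 hab (Ne.symm hab)

theorem HH_ne_bot : HH G a b ≠ ⊥ := by
  obtain ⟨g, hg1, a', b', hab', hga, hgb⟩ := hZ.2.2.2.1
  have h2 := hZ.2.1
  rw [is_two_pretransitive_iff] at h2
  obtain ⟨x, hxa, hxb⟩ := h2 hab' hab
  intro hbot
  have hmem : x * g * x⁻¹ ∈ HH G a b := by
    rw [mem_HH]
    constructor
    · rw [mul_smul, mul_smul, ← hxa, inv_smul_smul, hga]
    · rw [mul_smul, mul_smul, ← hxb, inv_smul_smul, hgb]
  rw [hbot, Subgroup.mem_bot] at hmem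
  apply hg1
  have : g = x⁻¹ * (x * g * x⁻¹) * x := by group
  rw [this, hmem]
  group

/-- elements normalising a non-trivial subgroup of the two-point stabiliser fix or swap the points -/
theorem normalizer_cases (Q : Subgroup G) (hQ : Q ≤ HH G a b) (hQ1 : Q ≠ ⊥) {g : G}
    (hg : ∀ x ∈ Q, g * x * g⁻¹ ∈ Q) :
    (g • a = a ∧ g • b = b) ∨ (g • a = b ∧ g • b = a) := by
  obtain ⟨x, hx, hx1⟩ := (Subgroup.ne_bot_iff_exists_ne_one).mp hQ1 |> fun ⟨x, hx⟩ =>
    (⟨x.1, x.2, fun h => hx (Subtype.ext h)⟩ : ∃ x : G, x ∈ Q ∧ x ≠ 1)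
  have hy : g * x * g⁻¹ ∈ HH G a b := hQ (hg x hx)
  have hy1 : g * x * g⁻¹ ≠ 1 := by
    intro h
    apply hx1
    have : x = g⁻¹ * (g * x * g⁻¹) * g := by group
    rw [this, h]; group
  obtain ⟨hxa, hxb⟩ := mem_HH.mp (hQ hx)
  have h1 : (g * x * g⁻¹) • (g • a) = g • a := by
    rw [mul_smul, mul_smul, inv_smul_smul, hxa]
  have h2 : (g * x * g⁻¹) • (g • b) = g • b := by
    rw [mul_smul, mul_smul, inv_smul_smul, hxb]
  have hne : g • a ≠ g • b := fun h => hab (MulAction.injective g h)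
  rcases fix_cases hZ hab hy hy1 h1 with ha | ha <;>
    rcases fix_cases hZ hab hy hy1 h2 with hb | hb
  · exact absurd (ha.trans hb.symm) hne
  · exact Or.inl ⟨ha, hb⟩
  · exact Or.inr ⟨ha, hb⟩
  · exact absurd (ha.trans hb.symm) hne

end

/-- swapping elements normalise the two-point stabiliser -/
theorem swap_conj_mem {a b : Ω} {s : G} (hsa : s • a = b) (hsb : s • b = a) {h : G}
    (hh : h ∈ HH G a b) : s * h * s⁻¹ ∈ HH G a b := by
  obtain ⟨hfa, hfb⟩ := mem_HH.mp hh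
  have h1 : s⁻¹ • a = b := by rw [← hsb, inv_smul_smul]
  have h2 : s⁻¹ • b = a := by rw [← hsa, inv_smul_smul]
  rw [mem_HH]
  constructor
  · rw [mul_smul, mul_smul, h1, hfb, hsb]
  · rw [mul_smul, mul_smul, h2, hfa, hsa]

theorem swap_mul_swap_mem {a b : Ω} {s s' : G} (hsa : s • a = b) (hsb : s • b = a)
    (hsa' : s' • a = b) (hsb' : s' • b = a) : s * s' ∈ HH G a b := by
  rw [mem_HH]
  constructor
  · rw [mul_smul, hsa', hsb]
  · rw [mul_smul, hsb', hsa]

theorem swap_mul_inv_mem {a b : Ω} {s s' : G} (hsa : s • a = b) (hsb : s • b = a)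
    (hsa' : s' • a = b) (hsb' : s' • b = a) : s' * s⁻¹ ∈ HH G a b := by
  have h1 : s⁻¹ • a = b := by rw [← hsb, inv_smul_smul]
  have h2 : s⁻¹ • b = a := by rw [← hsa, inv_smul_smul]
  rw [mem_HH]
  constructor
  · rw [mul_smul, h1, hsb']
  · rw [mul_smul, h2, hsa']

end Cfsg.Agent.Helper2.ZasOdd
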