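import Mathlib
import Cfsg.Agent.Helper2.ZasOddA

set_option autoImplicit false

/-!
Zassenhaus groups: Sylow subgroups of the two-point stabiliser for odd primes are Sylow subgroups
of the whole group.
-/

namespace Cfsg.Agent.Helper2.ZasOdd

open MulAction

variable {G Ω : Type*} [Group G] [MulAction G Ω]

theorem not_dvd_index_HH [Finite G] (hZ : Cfsg.IsZassenhausGroup G Ω) {a b : Ω} (hab : a ≠ b)
    (q : ℕ) [hq : Fact q.Prime] (hq2 : q ≠ 2) (Q : Subgroup G) (hQ : Q ≤ HH G a b) (hQ1 : Q ≠ ⊥)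
    (hQp : IsPGroup q Q) : ¬ q ∣ (HH G a b).index := by
  classical
  set H := HH G a b with hH
  have hmod := hQp.card_modEq_card_fixedPoints (G ⧸ H)
  set F := fixedPoints ↥Q (G ⧸ H) with hF
  obtain ⟨x₀, hx₀, hx₀1⟩ : ∃ x : G, x ∈ Q ∧ x ≠ 1 := by
    obtain ⟨x, hx⟩ := (Subgroup.ne_bot_iff_exists_ne_one).mp hQ1
    exact ⟨x.1, x.2, fun h => hx (Subtype.ext h)⟩
  -- representatives of fixed cosets fix or swap the two points
  have key : ∀ c : F, ((c : G ⧸ H).out • a = a ∧ (c : G ⧸ H).out • b = b) ∨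
      ((c : G ⧸ H).out • a = b ∧ (c : G ⧸ H).out • b = a) := by
    intro c
    set g := (c : G ⧸ H).out with hg
    have hgc : ((g : G) : G ⧸ H) = c := QuotientGroup.out_eq' _
    have hfix : ∀ x : ↥Q, x • (c : G ⧸ H) = c := fun x => c.2 x
    have hconj : g⁻¹ * x₀ * g ∈ H := by
      have h1 := hfix ⟨x₀, hx₀⟩
      rw [← hgc] at h1
      have h2 : ((x₀ * g : G) : G ⧸ H) = ((g : G) : G ⧸ H) := h1
      rw [QuotientGroup.eq] at h2
      have h3 := H.inv_mem h2
      have h4 : ((x₀ * g)⁻¹ * g)⁻¹ = g⁻¹ * x₀ * g := by group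
      rwa [h4] at h3
    obtain ⟨hca, hcb⟩ := mem_HH.mp hconj
    have h1 : x₀ • (g • a) = g • a := by
      have : (g⁻¹ * x₀ * g) • a = a := hca
      rw [mul_smul, mul_smul] at this
      have h2 := congrArg (fun y => g • y) this
      simpa using h2
    have h2 : x₀ • (g • b) = g • b := by
      have : (g⁻¹ * x₀ * g) • b = b := hcb
      rw [mul_smul, mul_smul] at this
      have h2 := congrArg (fun y => g • y) this
      simpa using h2
    have hne : g • a ≠ g • b := fun h => hab (MulAction.injective g h)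
    rcases fix_cases hZ hab (hQ hx₀) hx₀1 h1 with ha | ha <;>
      rcases fix_cases hZ hab (hQ hx₀) hx₀1 h2 with hb | hb
    · exact absurd (ha.trans hb.symm) hne
    · exact Or.inl ⟨ha, hb⟩
    · exact Or.inr ⟨ha, hb⟩
    · exact absurd (ha.trans hb.symm) hne
  -- at most two fixed cosets
  let φ : F → Bool := fun c => decide ((c : G ⧸ H).out • a = a)
  have hφ : Function.Injective φ := by
    intro c c' hcc
    have hcc' : ((c : G ⧸ H).out • a = a) ↔ ((c' : G ⧸ H).out • a = a) := by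
      simpa [φ] using hcc
    have hsame : (c : G ⧸ H).out • a = (c' : G ⧸ H).out • a ∧
        (c : G ⧸ H).out • b = (c' : G ⧸ H).out • b := by
      rcases key c with ⟨h1, h2⟩ | ⟨h1, h2⟩ <;> rcases key c' with ⟨h3, h4⟩ | ⟨h3, h4⟩
      · exact ⟨h1.trans h3.symm, h2.trans h4.symm⟩
      · exact absurd (hcc'.mp h1) (by rw [h3]; exact Ne.symm hab)
      · exact absurd (hcc'.mpr h3) (by rw [h1]; exact Ne.symm hab)
      · exact ⟨h1.trans h3.symm, h2.trans h4.symm⟩
    apply Subtype.ext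
    rw [← QuotientGroup.out_eq' (c : G ⧸ H), ← QuotientGroup.out_eq' (c' : G ⧸ H),
      QuotientGroup.eq, mem_HH]
    constructor
    · rw [mul_smul, ← hsame.1, inv_smul_smul]
    · rw [mul_smul, ← hsame.2, inv_smul_smul]
  have hle : Nat.card F ≤ 2 := by
    have := Nat.card_le_card_of_injective φ hφ
    simpa using this
  have hpos : 0 < Nat.card F := by
    haveI : Nonempty F := by
      refine ⟨⟨((1 : G) : G ⧸ H), ?_⟩⟩
      intro x
      have : x • (((1 : G) : G ⧸ H)) = (((x : G) * 1 : G) : G ⧸ H) := rfl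
      rw [this, mul_one, QuotientGroup.eq]
      exact H.mul_mem (H.inv_mem (hQ x.2)) H.one_mem
    exact Nat.card_pos
  intro hdvd
  rw [Subgroup.index_eq_card] at hdvd
  have h0 : Nat.card (G ⧸ H) ≡ 0 [MOD q] := (Nat.modEq_zero_iff_dvd).mpr hdvd
  have h1 : q ∣ Nat.card F := (Nat.modEq_zero_iff_dvd).mp (hmod.symm.trans h0)
  have h2 := Nat.le_of_dvd hpos h1
  have h3 := hq.out.two_le
  have : q = 2 := by omega
  exact hq2 this

/-- a Sylow subgroup of a subgroup of index prime to `q` is a Sylow subgroup -/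
theorem not_dvd_index_map_of_not_dvd [Finite G] (H : Subgroup G) (q : ℕ) [hq : Fact q.Prime]
    (Q : Sylow q ↥H) (h1 : ¬ q ∣ H.index) :
    ¬ q ∣ ((Q : Subgroup ↥H).map H.subtype).index := by
  have hQ'H : (Q : Subgroup ↥H).map H.subtype ≤ H := by rintro _ ⟨x, -, rfl⟩; exact x.2
  have h2 := Subgroup.relIndex_mul_index hQ'H
  have h3 : ((Q : Subgroup ↥H).map H.subtype).subgroupOf H = (Q : Subgroup ↥H) :=
    Subgroup.comap_map_eq_self_of_injective H.subtype_injective _
  have h4 : ((Q : Subgroup ↥H).map H.subtype).relIndex H = (Q : Subgroup ↥H).index := by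
    rw [Subgroup.relIndex, h3]
  rw [← h2, h4]
  intro hdvd
  rcases (Nat.Prime.dvd_mul hq.out).mp hdvd with h | h
  · exact Q.not_dvd_index h
  · exact h1 h

/-- Sylow subgroups of the two-point stabiliser (for odd primes) are Sylow in the group -/
theorem not_dvd_index_map [Finite G] (hZ : Cfsg.IsZassenhausGroup G Ω) {a b : Ω} (hab : a ≠ b)
    (q : ℕ) [hq : Fact q.Prime] (hq2 : q ≠ 2) (Q : Sylow q ↥(HH G a b))
    (hQ1 : (Q : Subgroup ↥(HH G a b)) ≠ ⊥) :
    ¬ q ∣ ((Q : Subgroup ↥(HH G a b)).map (HH G a b).subtype).index := by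
  apply not_dvd_index_map_of_not_dvd
  have hQ'H : (Q : Subgroup ↥(HH G a b)).map (HH G a b).subtype ≤ HH G a b := by
    rintro _ ⟨x, -, rfl⟩; exact x.2
  have hQ'1 : (Q : Subgroup ↥(HH G a b)).map (HH G a b).subtype ≠ ⊥ := by
    intro h
    apply hQ1
    rw [eq_bot_iff]
    intro x hx
    have : (x : G) ∈ (Q : Subgroup ↥(HH G a b)).map (HH G a b).subtype := ⟨x, hx, rfl⟩
    rw [h, Subgroup.mem_bot] at this
    exact Subgroup.mem_bot.mpr (Subtype.ext this)
  exact not_dvd_index_HH hZ hab q hq2 _ hQ'H hQ'1 (Q.isPGroup'.map _)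

end Cfsg.Agent.Helper2.ZasOdd
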