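import Mathlib
import Cfsg.Agent.Helper2.ZasOddB
import Cfsg.Agent.Helper1.FrobComplSylow
import Cfsg.Agent.Helper1.FrobConj
import Cfsg.Agent.Helper4.QuatSquareC
import Cfsg.Agent.Helper6.FrobThm

set_option autoImplicit false

/-!
Zassenhaus groups: a two-point stabiliser of odd order has all Sylow subgroups cyclic.
-/

namespace Cfsg.Agent.Helper2.ZasOdd

open MulAction
open scoped Pointwise

variable {G Ω : Type*} [Group G] [MulAction G Ω]

/-- the two-point stabiliser inside the one-point stabiliser -/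
abbrev H1 (G : Type*) {Ω : Type*} [Group G] [MulAction G Ω] (a b : Ω) :
    Subgroup ↥(stabilizer G a) := (stabilizer G b).subgroupOf (stabilizer G a)

theorem mem_H1 {a b : Ω} {n : ↥(stabilizer G a)} : n ∈ H1 G a b ↔ (n : G) • b = b := by
  rw [H1, Subgroup.mem_subgroupOf, mem_stabilizer_iff]

/-- the obvious isomorphism -/
def equivH1 (a b : Ω) : ↥(H1 G a b) ≃* ↥(HH G a b) where
  toFun n := ⟨((n : ↥(stabilizer G a)) : G),
    mem_HH.mpr ⟨mem_stabilizer_iff.mp (n : ↥(stabilizer G a)).2, mem_H1.mp n.2⟩⟩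
  invFun h := ⟨⟨(h : G), mem_stabilizer_iff.mpr (mem_HH.mp h.2).1⟩, mem_H1.mpr (mem_HH.mp h.2).2⟩
  left_inv _ := rfl
  right_inv _ := rfl
  map_mul' _ _ := rfl

theorem isFrobeniusComplement_H1 (hZ : Cfsg.IsZassenhausGroup G Ω) {a b : Ω} (hab : a ≠ b) :
    Cfsg.IsFrobeniusComplement (H1 G a b) := by
  obtain ⟨x, hx, hx1⟩ : ∃ x : G, x ∈ HH G a b ∧ x ≠ 1 := by
    obtain ⟨x, hx⟩ := (Subgroup.ne_bot_iff_exists_ne_one).mp (HH_ne_bot hZ hab)
    exact ⟨x.1, x.2, fun h => hx (Subtype.ext h)⟩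
  obtain ⟨hxa, hxb⟩ := mem_HH.mp hx
  refine ⟨?_, ?_, ?_⟩
  · intro hbot
    have : (⟨⟨x, mem_stabilizer_iff.mpr hxa⟩, mem_H1.mpr hxb⟩ : ↥(H1 G a b)) = 1 := by
      have h1 : (⟨x, mem_stabilizer_iff.mpr hxa⟩ : ↥(stabilizer G a)) ∈ H1 G a b := mem_H1.mpr hxb
      rw [hbot, Subgroup.mem_bot] at h1
      exact Subtype.ext h1
    apply hx1
    have h2 := congrArg (fun n : ↥(H1 G a b) => ((n : ↥(stabilizer G a)) : G)) this
    exact h2
  · intro htop
    -- a third point
    haveI := hZ.1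
    obtain ⟨c, hc⟩ : ∃ c : Ω, x • c ≠ c := by
      by_contra hcon
      push_neg at hcon
      apply hx1
      apply FaithfulSMul.eq_of_smul_eq_smul (α := Ω)
      intro c
      rw [hcon c, one_smul]
    have hca : c ≠ a := fun h => hc (by rw [h, hxa])
    have hcb : c ≠ b := fun h => hc (by rw [h, hxb])
    have h2 := hZ.2.1
    rw [is_two_pretransitive_iff] at h2
    obtain ⟨g, hga, hgb⟩ := h2 hab (Ne.symm hca)
    have hmem : (⟨g, mem_stabilizer_iff.mpr hga⟩ : ↥(stabilizer G a)) ∈ H1 G a b := by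
      rw [htop]; trivial
    rw [mem_H1] at hmem
    exact hcb (hgb.symm.trans hmem)
  · intro g hg
    rw [eq_bot_iff]
    intro y hy
    obtain ⟨hy1, hy2⟩ := Subgroup.mem_inf.mp hy
    rw [Subgroup.mem_bot]
    rw [Subgroup.mem_pointwise_smul_iff_inv_smul_mem] at hy2
    have hconj : (MulAut.conj g)⁻¹ • y = g⁻¹ * y * g := by simp [MulAut.smul_def]
    rw [hconj, mem_H1] at hy2
    rw [mem_H1] at hy1 hg
    have hga : (g : G) • a = a := mem_stabilizer_iff.mp g.2
    have hya : (y : G) • a = a := mem_stabilizer_iff.mp y.2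
    have h3 : (y : G) • ((g : G) • b) = (g : G) • b := by
      have h4 : ((g : G)⁻¹ * (y : G) * (g : G)) • b = b := hy2
      rw [mul_smul, mul_smul] at h4
      have h5 := congrArg (fun z => (g : G) • z) h4
      simpa using h5
    have hne1 : (g : G) • b ≠ b := hg
    have hne2 : a ≠ (g : G) • b := by
      intro h
      have : (g : G) • a = (g : G) • b := by rw [hga]; exact h
      exact hab (MulAction.injective (g : G) this)
    have := hZ.2.2.1 (y : G) a b ((g : G) • b) hab (Ne.symm hne1) hne2 hya hy1 h3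
    exact Subtype.ext this

/-- a two-point stabiliser of odd order has all Sylow subgroups cyclic -/
theorem isZGroup_HH [Finite G] (hZ : Cfsg.IsZassenhausGroup G Ω) {a b : Ω} (hab : a ≠ b)
    (hodd : Odd (Nat.card ↥(HH G a b))) : IsZGroup ↥(HH G a b) := by
  have hF := isFrobeniusComplement_H1 hZ hab
  obtain ⟨K, hKset, hKn, hKc⟩ := Cfsg.Agent.Helper6.frobenius_kernel_theorem (H1 G a b) hF
  have hK1 : K ≠ ⊥ := Cfsg.Agent.Helper1.frobenius_kernel_ne_bot hF hKc
  have hfpf : ∀ h ∈ H1 G a b, h ≠ 1 → K ⊓ Subgroup.centralizer {h} = ⊥ :=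
    fun h hh hh1 => Cfsg.Agent.Helper4.frobenius_fpf (H1 G a b) K hF hKset h hh hh1
  have hodd1 : Odd (Nat.card ↥(H1 G a b)) := by
    rw [Nat.card_congr (equivH1 a b).toEquiv]; exact hodd
  haveI : IsZGroup ↥(H1 G a b) := by
    refine ⟨fun p hp P => ?_⟩
    haveI : Fact p.Prime := ⟨hp⟩
    rcases Cfsg.Agent.Helper1.frobenius_complement_sylow K (H1 G a b) hK1 hfpf p P with h | ⟨n, ⟨e⟩⟩
    · exact h
    · exfalso
      haveI : NeZero (2 ^ n) := ⟨by positivity⟩
      have h1 : Nat.card ↥(P : Subgroup ↥(H1 G a b)) = 4 * 2 ^ n := by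
        rw [Nat.card_congr e.toEquiv, Nat.card_eq_fintype_card, QuaternionGroup.card]
      have h2 : Nat.card ↥(P : Subgroup ↥(H1 G a b)) ∣ Nat.card ↥(H1 G a b) :=
        Subgroup.card_subgroup_dvd_card _
      rw [h1] at h2
      have h3 : 2 ∣ Nat.card ↥(H1 G a b) := Dvd.dvd.trans ⟨2 * 2 ^ n, by ring⟩ h2
      rw [Nat.odd_iff] at hodd1
      omega
  exact IsZGroup.of_injective (f := (equivH1 (G := G) a b).symm.toMonoidHom)
    (equivH1 (G := G) a b).symm.injective

end Cfsg.Agent.Helper2.ZasOdd
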