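import Mathlib
import Cfsg.Agent.Helper2.ZasOddC

set_option autoImplicit false

/-!
Zassenhaus groups with two-point stabiliser of odd order: generic lemmas, Frattini argument for
swapping elements, and inversion of Sylow subgroups.
-/

namespace Cfsg.Agent.Helper2.ZasOdd

open MulAction
open scoped Pointwise

section generic

variable {G : Type*} [Group G]

/-- a subgroup `K ≤ H` containing a Sylow subgroup of `G` for each prime dividing `[H : K]`
is all of `H` -/
theorem eq_of_sylow_cover [Finite G] {K H : Subgroup G} (hKH : K ≤ H)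
    (h : ∀ q : ℕ, q.Prime → q ∣ K.relIndex H → ∃ P : Sylow q G, (P : Subgroup G) ≤ K) :
    K = H := by
  apply le_antisymm hKH
  rw [← Subgroup.relIndex_eq_one]
  by_contra hne
  obtain ⟨q, hq, hdvd⟩ := Nat.exists_prime_and_dvd hne
  obtain ⟨P, hP⟩ := h q hq hdvd
  haveI : Fact q.Prime := ⟨hq⟩
  apply P.not_dvd_index
  have h1 : K.relIndex H ∣ K.index := Dvd.intro _ (Subgroup.relIndex_mul_index hKH)
  have h2 : K.index ∣ (P : Subgroup G).index := Subgroup.index_dvd_of_le hP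
  exact hdvd.trans (h1.trans h2)

/-- an automorphism of order two of a cyclic group of odd prime power order is inversion -/
theorem inverts_of_cyclic {q : ℕ} (hq : q.Prime) (hq2 : q ≠ 2) (P : Subgroup G) [IsCyclic ↥P]
    {k : ℕ} (hcard : Nat.card ↥P = q ^ k) {s : G} (hs : ∀ y ∈ P, s * y * s⁻¹ ∈ P)
    (hs2 : ∀ y ∈ P, s * (s * y * s⁻¹) * s⁻¹ = y) {y₀ : G} (hy₀ : y₀ ∈ P)
    (hne : s * y₀ * s⁻¹ ≠ y₀) : ∀ y ∈ P, s * y * s⁻¹ = y⁻¹ := by
  obtain ⟨g, hg⟩ := IsCyclic.exists_generator (α := ↥P)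
  have hord : orderOf (g : G) = q ^ k := by
    rw [Subgroup.orderOf_coe, orderOf_eq_card_of_forall_mem_zpowers hg, hcard]
  have hgen : ∀ y ∈ P, ∃ n : ℤ, (g : G) ^ n = y := by
    intro y hy
    obtain ⟨n, hn⟩ := Subgroup.mem_zpowers_iff.mp (hg ⟨y, hy⟩)
    refine ⟨n, ?_⟩
    have := congrArg Subtype.val hn
    simpa using this
  obtain ⟨m, hm⟩ := hgen _ (hs g g.2)
  have hall : ∀ y ∈ P, s * y * s⁻¹ = y ^ m := by
    intro y hy
    obtain ⟨n, hn⟩ := hgen y hy
    rw [← hn, ← conj_zpow, ← hm, ← zpow_mul, ← zpow_mul, mul_comm]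
  have hpowcard : ∀ y ∈ P, y ^ ((q : ℤ) ^ k) = 1 := by
    intro y hy
    have h1 : (⟨y, hy⟩ : ↥P) ^ Nat.card ↥P = 1 := pow_card_eq_one'
    have h2 := congrArg Subtype.val h1
    rw [hcard] at h2
    have h3 : y ^ (q ^ k) = 1 := by simpa using h2
    have : ((q : ℤ) ^ k) = ((q ^ k : ℕ) : ℤ) := by push_cast; rfl
    rw [this, zpow_natCast, h3]
  have h2 := hs2 g g.2
  rw [hall g g.2, hall _ (P.zpow_mem g.2 m), ← zpow_mul] at h2
  have h3 : (g : G) ^ (m * m - 1) = 1 := by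
    rw [zpow_sub_one, h2, mul_inv_cancel]
  have h4 : ((q ^ k : ℕ) : ℤ) ∣ m * m - 1 := by
    rw [← hord]; exact orderOf_dvd_iff_zpow_eq_one.mpr h3
  have h5 : ((q : ℤ) ^ k) ∣ (m - 1) * (m + 1) := by
    have e : (m - 1) * (m + 1) = m * m - 1 := by ring
    rw [e]
    have : ((q : ℤ) ^ k) = ((q ^ k : ℕ) : ℤ) := by push_cast; rfl
    rw [this]; exact h4
  have hqp : Prime (q : ℤ) := Nat.prime_iff_prime_int.mp hq
  by_cases hdiv : (q : ℤ) ∣ m + 1
  · have hnd : ¬ (q : ℤ) ∣ m - 1 := by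
      intro h
      have h6 : (q : ℤ) ∣ 2 := by
        have := dvd_sub hdiv h
        have e : m + 1 - (m - 1) = 2 := by ring
        rwa [e] at this
      have h7 : q ∣ 2 := by exact_mod_cast h6
      have h8 := (Nat.prime_dvd_prime_iff_eq hq Nat.prime_two).mp h7
      exact hq2 h8
    have hcop : IsCoprime ((q : ℤ) ^ k) (m - 1) :=
      IsCoprime.pow_left ((hqp.irreducible.coprime_iff_not_dvd).mpr hnd)
    have h6 : (q : ℤ) ^ k ∣ m + 1 := hcop.dvd_of_dvd_mul_left h5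
    intro y hy
    rw [hall y hy]
    obtain ⟨c, hc⟩ := h6
    have h7 : y ^ (m + 1) = 1 := by rw [hc, zpow_mul, hpowcard y hy, one_zpow]
    rw [zpow_add_one] at h7
    exact eq_inv_of_mul_eq_one_left h7
  · exfalso
    have hcop : IsCoprime ((q : ℤ) ^ k) (m + 1) :=
      IsCoprime.pow_left ((hqp.irreducible.coprime_iff_not_dvd).mpr hdiv)
    have h6 : (q : ℤ) ^ k ∣ m - 1 := hcop.dvd_of_dvd_mul_right h5
    apply hne
    rw [hall y₀ hy₀]
    obtain ⟨c, hc⟩ := h6
    have h7 : y₀ ^ (m - 1) = 1 := by rw [hc, zpow_mul, hpowcard y₀ hy₀, one_zpow]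
    rw [zpow_sub_one] at h7
    exact mul_inv_eq_one.mp h7

/-- conjugation actions on a cyclic subgroup commute -/
theorem conj_comm_of_cyclic (X : Subgroup G) {x : G} (hx : ∀ z ∈ X, ∃ n : ℤ, z = x ^ n)
    (hxX : x ∈ X) {g₁ g₂ : G} (h1 : ∀ z ∈ X, g₁ * z * g₁⁻¹ ∈ X)
    (h2 : ∀ z ∈ X, g₂ * z * g₂⁻¹ ∈ X) {z : G} (hz : z ∈ X) :
    g₁ * (g₂ * z * g₂⁻¹) * g₁⁻¹ = g₂ * (g₁ * z * g₁⁻¹) * g₂⁻¹ := by
  obtain ⟨e, he⟩ := hx _ (h1 x hxX)
  obtain ⟨k, hk⟩ := hx _ (h2 x hxX)
  obtain ⟨n, rfl⟩ := hx z hz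
  have a1 : g₂ * x ^ n * g₂⁻¹ = x ^ (k * n) := by rw [← conj_zpow, hk, ← zpow_mul]
  have a2 : g₁ * x ^ (k * n) * g₁⁻¹ = x ^ (e * (k * n)) := by rw [← conj_zpow, he, ← zpow_mul]
  have b1 : g₁ * x ^ n * g₁⁻¹ = x ^ (e * n) := by rw [← conj_zpow, he, ← zpow_mul]
  have b2 : g₂ * x ^ (e * n) * g₂⁻¹ = x ^ (k * (e * n)) := by rw [← conj_zpow, hk, ← zpow_mul]
  rw [a1, a2, b1, b2]
  congr 1
  ring

/-- a finite commutative group with cyclic Sylow subgroups is cyclic -/
theorem isCyclic_of_comm {K : Type*} [Group K] [Finite K] [IsZGroup K]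
    (h : ∀ x y : K, x * y = y * x) : IsCyclic K := by
  letI : CommGroup K := { (inferInstance : Group K) with mul_comm := h }
  haveI : Group.IsNilpotent K := CommGroup.isNilpotent
  infer_instance

end generic

section zas

variable {G Ω : Type*} [Group G] [MulAction G Ω] [Finite G]
  (hZ : Cfsg.IsZassenhausGroup G Ω) {a b : Ω} (hab : a ≠ b)
include hZ hab

/-- for each prime dividing the odd order of the two-point stabiliser there is a Sylow subgroup of
the whole group inside it -/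
theorem exists_sylow_le (hodd : Odd (Nat.card ↥(HH G a b))) (q : ℕ) [hq : Fact q.Prime]
    (hqd : q ∣ Nat.card ↥(HH G a b)) :
    ∃ P : Sylow q G, (P : Subgroup G) ≤ HH G a b ∧ (P : Subgroup G) ≠ ⊥ := by
  have hq2 : q ≠ 2 := by
    rintro rfl
    rw [Nat.odd_iff] at hodd
    omega
  obtain ⟨Q⟩ : Nonempty (Sylow q ↥(HH G a b)) := inferInstance
  have hQ1 : (Q : Subgroup ↥(HH G a b)) ≠ ⊥ := Q.ne_bot_of_dvd_card hqd
  have hidx := not_dvd_index_map hZ hab q hq2 Q hQ1
  have hpg : IsPGroup q ((Q : Subgroup ↥(HH G a b)).map (HH G a b).subtype) := Q.isPGroup'.map _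
  refine ⟨hpg.toSylow hidx, ?_, ?_⟩
  · rw [IsPGroup.toSylow_coe]
    rintro _ ⟨x, -, rfl⟩
    exact x.2
  · rw [IsPGroup.toSylow_coe]
    intro h
    apply hQ1
    rw [eq_bot_iff]
    intro x hx
    have : (x : G) ∈ (Q : Subgroup ↥(HH G a b)).map (HH G a b).subtype := ⟨x, hx, rfl⟩
    rw [h, Subgroup.mem_bot] at this
    exact Subgroup.mem_bot.mpr (Subtype.ext this)

theorem sylow_cyclic (hodd : Odd (Nat.card ↥(HH G a b))) (q : ℕ) [hq : Fact q.Prime]
    (P : Sylow q G) (hP : (P : Subgroup G) ≤ HH G a b) : IsCyclic ↥(P : Subgroup G) := by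
  have hz := isZGroup_HH hZ hab hodd
  have hc : IsCyclic ↥(P.subtype hP) := hz.isZGroup q hq.out (P.subtype hP)
  have hc' : IsCyclic ↥((P : Subgroup G).subgroupOf (HH G a b)) := hc
  exact isCyclic_of_surjective _ (Subgroup.subgroupOfEquivOfLe hP).surjective

/-- Frattini argument: a swapping element can be corrected to normalise a given Sylow subgroup -/
theorem exists_mul_swap_normalizes (q : ℕ) [hq : Fact q.Prime] (P : Sylow q G)
    (hP : (P : Subgroup G) ≤ HH G a b) {s : G} (hsa : s • a = b) (hsb : s • b = a) :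
    ∃ h ∈ HH G a b, ∀ y ∈ (P : Subgroup G), (h * s) * y * (h * s)⁻¹ ∈ (P : Subgroup G) := by
  have hP₂ : ((s • P : Sylow q G) : Subgroup G) ≤ HH G a b := by
    intro x hx
    change x ∈ MulAut.conj s • (P : Subgroup G) at hx
    obtain ⟨y, hy, rfl⟩ := (Subgroup.mem_smul_pointwise_iff_exists _ _ _).mp hx
    rw [MulAut.smul_def, MulAut.conj_apply]
    exact swap_conj_mem hsa hsb (hP hy)
  obtain ⟨h, hh⟩ := MulAction.exists_smul_eq ↥(HH G a b) ((s • P).subtype hP₂) (P.subtype hP)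
  rw [Sylow.smul_subtype hP₂ h] at hh
  have h3 : h • (s • P) = P := Sylow.subtype_injective hh
  refine ⟨h, h.2, ?_⟩
  have h4 : ((h : G) * s) • P = P := by rw [mul_smul]; exact h3
  have h5 := Sylow.smul_eq_iff_mem_normalizer.mp h4
  intro y hy
  exact ((Subgroup.mem_set_normalizer_iff.mp h5) y).mp hy

/-- if the normaliser of a Sylow subgroup `P ≤ H` inside `H` centralises `P`, then every swapping
element normalising `P` inverts `P` -/
theorem swap_inverts (q : ℕ) [hq : Fact q.Prime] (hq2 : q ≠ 2)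
    (hnil : ¬ ∃ N : Subgroup G, N.Normal ∧ N.index = q ^ (Nat.card G).factorization q)
    (P : Sylow q G) (hP : (P : Subgroup G) ≤ HH G a b) (hP1 : (P : Subgroup G) ≠ ⊥)
    [IsCyclic ↥(P : Subgroup G)]
    (hcent : ∀ g ∈ HH G a b, (∀ y ∈ (P : Subgroup G), g * y * g⁻¹ ∈ (P : Subgroup G)) →
      ∀ y ∈ (P : Subgroup G), g * y * g⁻¹ = y)
    {s : G} (hsa : s • a = b) (hsb : s • b = a)
    (hsN : ∀ y ∈ (P : Subgroup G), s * y * s⁻¹ ∈ (P : Subgroup G)) :
    ∀ y ∈ (P : Subgroup G), s * y * s⁻¹ = y⁻¹ := by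
  by_cases hs : ∀ y ∈ (P : Subgroup G), s * y * s⁻¹ = y
  · exfalso
    apply hnil
    have hsinv : ∀ y ∈ (P : Subgroup G), s⁻¹ * y * s = y := by
      intro y hy
      have := hs y hy
      calc s⁻¹ * y * s = s⁻¹ * (s * y * s⁻¹) * s := by rw [this]
        _ = y := by group
    have hNC : Subgroup.normalizer ((P : Subgroup G) : Set G) ≤
        Subgroup.centralizer ((P : Subgroup G) : Set G) := by
      intro g hg
      have hgN : ∀ y ∈ (P : Subgroup G), g * y * g⁻¹ ∈ (P : Subgroup G) :=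
        fun y hy => ((Subgroup.mem_set_normalizer_iff.mp hg) y).mp hy
      have hgc : ∀ y ∈ (P : Subgroup G), g * y * g⁻¹ = y := by
        rcases normalizer_cases hZ hab (P : Subgroup G) hP hP1 hgN with ⟨h1, h2⟩ | ⟨h1, h2⟩
        · exact hcent g (mem_HH.mpr ⟨h1, h2⟩) hgN
        · have hmem : g * s⁻¹ ∈ HH G a b := swap_mul_inv_mem hsa hsb h1 h2
          have e2 : ∀ y : G, (g * s⁻¹) * y * (g * s⁻¹)⁻¹ = g * (s⁻¹ * y * s) * g⁻¹ := by
            intro y; group
          have hN' : ∀ y ∈ (P : Subgroup G),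
              (g * s⁻¹) * y * (g * s⁻¹)⁻¹ ∈ (P : Subgroup G) := by
            intro y hy
            rw [e2, hsinv y hy]
            exact hgN y hy
          intro y hy
          have := hcent _ hmem hN' y hy
          rw [e2, hsinv y hy] at this
          exact this
      rw [Subgroup.mem_centralizer_iff]
      intro y hy
      have := hgc y hy
      calc y * g = (g * y * g⁻¹) * g := by rw [this]
        _ = g * y := by group
    have hcompl := MonoidHom.ker_transferSylow_isComplement' P hNC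
    refine ⟨(MonoidHom.transferSylow P hNC).ker, inferInstance, ?_⟩
    rw [hcompl.symm.index_eq_card, P.card_eq_multiplicity]
  · push_neg at hs
    obtain ⟨y₀, hy₀, hne⟩ := hs
    obtain ⟨k, hk⟩ := IsPGroup.iff_card.mp P.isPGroup'
    have e : ∀ y : G, (s * s) * y * (s * s)⁻¹ = s * (s * y * s⁻¹) * s⁻¹ := by
      intro y; group
    have hs2 : ∀ y ∈ (P : Subgroup G), s * (s * y * s⁻¹) * s⁻¹ = y := by
      intro y hy
      have hss : s * s ∈ HH G a b := swap_mul_swap_mem hsa hsb hsa hsb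
      have hN' : ∀ y ∈ (P : Subgroup G), (s * s) * y * (s * s)⁻¹ ∈ (P : Subgroup G) := by
        intro y hy
        rw [e]
        exact hsN _ (hsN y hy)
      have := hcent _ hss hN' y hy
      rw [e] at this
      exact this
    exact inverts_of_cyclic hq.out hq2 (P : Subgroup G) hk hsN hs2 hy₀ hne

end zas

end Cfsg.Agent.Helper2.ZasOdd
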