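import Mathlib
import Cfsg.Agent.Helper2.ZasOddD

set_option autoImplicit false

/-!
A finite group with cyclic Sylow subgroups admitting a fixed-point-free automorphism is abelian.
-/

namespace Cfsg.Agent.Helper2.ZasReg

open Cfsg.Agent.Helper2.ZasOdd

variable {G : Type*} [Group G]

/-- Lang's trick -/
theorem lang_surj (K : Subgroup G) [Finite ↥K] {h : G} (hn : ∀ k ∈ K, h * k * h⁻¹ ∈ K)
    (hfpf : ∀ k ∈ K, h * k * h⁻¹ = k → k = 1) :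
    ∀ k ∈ K, ∃ x ∈ K, k = x⁻¹ * (h * x * h⁻¹) := by
  let f : ↥K → ↥K := fun x => ⟨(x : G)⁻¹ * (h * x * h⁻¹), K.mul_mem (K.inv_mem x.2) (hn x x.2)⟩
  have hinj : Function.Injective f := by
    intro x y hxy
    have h1 : (x : G)⁻¹ * (h * x * h⁻¹) = (y : G)⁻¹ * (h * y * h⁻¹) := congrArg Subtype.val hxy
    have h2 : h * ((y : G) * (x : G)⁻¹) * h⁻¹ = (y : G) * (x : G)⁻¹ := by
      calc h * ((y : G) * (x : G)⁻¹) * h⁻¹ = (h * y * h⁻¹) * (h * x * h⁻¹)⁻¹ := by group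
        _ = ((y : G) * ((y : G)⁻¹ * (h * y * h⁻¹))) * (h * x * h⁻¹)⁻¹ := by group
        _ = ((y : G) * ((x : G)⁻¹ * (h * x * h⁻¹))) * (h * x * h⁻¹)⁻¹ := by rw [h1]
        _ = (y : G) * (x : G)⁻¹ := by group
    have h3 := hfpf _ (K.mul_mem y.2 (K.inv_mem x.2)) h2
    exact Subtype.ext (mul_inv_eq_one.mp h3).symm
  have hsurj := Finite.injective_iff_surjective.mp hinj
  intro k hk
  obtain ⟨x, hx⟩ := hsurj ⟨k, hk⟩
  exact ⟨x, x.2, (congrArg Subtype.val hx).symm⟩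

theorem comm_of_zgroup_fpf (K : Subgroup G) [Finite ↥K] [IsZGroup ↥K] {h : G}
    (hn : ∀ k ∈ K, h * k * h⁻¹ ∈ K) (hn' : ∀ k ∈ K, h⁻¹ * k * h ∈ K)
    (hfpf : ∀ k ∈ K, h * k * h⁻¹ = k → k = 1) :
    ∀ k₁ ∈ K, ∀ k₂ ∈ K, k₁ * k₂ = k₂ * k₁ := by
  classical
  have hXeq : (commutator ↥K).map K.subtype = ⁅K, K⁆ := Subgroup.map_subtype_commutator _
  haveI hcyc : IsCyclic ↥(commutator ↥K) := IsZGroup.isCyclic_commutator ↥K
  obtain ⟨x₀, hx₀⟩ := IsCyclic.exists_generator (α := ↥(commutator ↥K))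
  have hxX : ((x₀ : ↥K) : G) ∈ (⁅K, K⁆ : Subgroup G) := by
    rw [← hXeq]
    exact ⟨x₀.1, x₀.2, rfl⟩
  have hgen : ∀ z ∈ (⁅K, K⁆ : Subgroup G), ∃ n : ℤ, z = ((x₀ : ↥K) : G) ^ n := by
    intro z hz
    rw [← hXeq] at hz
    obtain ⟨w, hw, rfl⟩ := hz
    obtain ⟨n, hn⟩ := Subgroup.mem_zpowers_iff.mp (hx₀ ⟨w, hw⟩)
    refine ⟨n, ?_⟩
    have := congrArg (fun t : ↥(commutator ↥K) => ((t : ↥K) : G)) hn
    simpa using this.symm
  have hXnorm : ∀ g : G, (∀ k ∈ K, g * k * g⁻¹ ∈ K) →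
      ∀ z ∈ (⁅K, K⁆ : Subgroup G), g * z * g⁻¹ ∈ (⁅K, K⁆ : Subgroup G) := by
    intro g hg z hz
    have h1 : Subgroup.map (MulAut.conj g).toMonoidHom K ≤ K := by
      rintro _ ⟨k, hk, rfl⟩
      exact hg k hk
    have h2 : Subgroup.map (MulAut.conj g).toMonoidHom (⁅K, K⁆ : Subgroup G) ≤ ⁅K, K⁆ := by
      rw [Subgroup.map_commutator]
      exact Subgroup.commutator_mono h1 h1
    exact h2 ⟨z, hz, rfl⟩
  have hcen : ∀ k ∈ K, ∀ z ∈ (⁅K, K⁆ : Subgroup G), k * z = z * k := by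
    intro k hk z hz
    obtain ⟨x, hx, rfl⟩ := lang_surj K hn hfpf k hk
    have hhX := hXnorm h hn
    have hhiX := hXnorm h⁻¹ (by intro k hk; rw [inv_inv]; exact hn' k hk)
    have hxX' := hXnorm x (fun k hk => K.mul_mem (K.mul_mem hx hk) (K.inv_mem hx))
    have hz' : h⁻¹ * z * h ∈ (⁅K, K⁆ : Subgroup G) := by
      have := hhiX z hz
      rwa [inv_inv] at this
    have key := conj_comm_of_cyclic _ hgen hxX hhX hxX' hz'
    have e1 : h * (h⁻¹ * z * h) * h⁻¹ = z := by group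
    rw [e1] at key
    calc x⁻¹ * (h * x * h⁻¹) * z
        = x⁻¹ * (h * (x * (h⁻¹ * z * h) * x⁻¹) * h⁻¹) * (h * x * h⁻¹) := by group
      _ = x⁻¹ * (x * z * x⁻¹) * (h * x * h⁻¹) := by rw [key]
      _ = z * (x⁻¹ * (h * x * h⁻¹)) := by group
  intro k₁ hk₁ k₂ hk₂
  have hker : (Abelianization.of : ↥K →* Abelianization ↥K).ker ≤ Subgroup.center ↥K := by
    rw [Abelianization.ker_of]
    intro z hz
    rw [Subgroup.mem_center_iff]
    intro g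
    apply Subtype.ext
    have hz' : (z : G) ∈ (⁅K, K⁆ : Subgroup G) := by
      rw [← hXeq]
      exact ⟨z, hz, rfl⟩
    exact hcen g g.2 z hz'
  have := commutative_of_cyclic_center_quotient Abelianization.of hker
    (⟨k₁, hk₁⟩ : ↥K) ⟨k₂, hk₂⟩
  exact congrArg Subtype.val this

end Cfsg.Agent.Helper2.ZasReg
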