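import Mathlib
import Cfsg.Agent.Helper2.ZasRegC
import Cfsg.Agent.Helper2.ZasRegD

set_option autoImplicit false

/-!
A group `K` with cyclic Sylow subgroups acting regularly on the non-identity elements of an
elementary abelian `2`-group `A`, normalised by a fixed-point-free element of prime order `r`:
then `|A| = 2 ^ r`.
-/

namespace Cfsg.Agent.Helper2.ZasReg

section lin

variable {Γ A : Type*} [Group Γ] [CommGroup A]

/-- linearisation of an action by automorphisms -/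
def linHom0 (c : Γ →* MulAut A) : Γ →* AddMonoid.End (Additive A) where
  toFun γ := MonoidHom.toAdditive (c γ).toMonoidHom
  map_one' := by
    refine DFunLike.ext _ _ (fun v => ?_)
    rw [map_one]
    rfl
  map_mul' γ δ := by
    refine DFunLike.ext _ _ (fun v => ?_)
    rw [map_mul]
    rfl

/-- linearisation of an action by automorphisms, with values in the units -/
def linHom (c : Γ →* MulAut A) : Γ →* (AddMonoid.End (Additive A))ˣ := (linHom0 c).toHomUnits

theorem linHom_apply (c : Γ →* MulAut A) (γ : Γ) (x : A) :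
    ((linHom c γ : (AddMonoid.End (Additive A))ˣ) : AddMonoid.End (Additive A))
      (Additive.ofMul x) = Additive.ofMul (c γ x) := rfl

theorem card_of_linear [Finite A] (c : Γ →* MulAut A)
    (K : Subgroup Γ) [Finite ↥K] [IsZGroup ↥K] {a₀ : A} (ha₀ : a₀ ≠ 1) (hexp : ∀ x : A, x * x = 1)
    (htr : ∀ x : A, x ≠ 1 → ∃ k ∈ K, c k a₀ = x)
    (hfree : ∀ k ∈ K, k ≠ 1 → ∀ x : A, x ≠ 1 → c k x ≠ x)
    {h : Γ} (hn : ∀ k ∈ K, h * k * h⁻¹ ∈ K) (hn' : ∀ k ∈ K, h⁻¹ * k * h ∈ K)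
    (hfpf : ∀ k ∈ K, h * k * h⁻¹ = k → k = 1) {r : ℕ} (hr : r.Prime) (hhr : h ^ r = 1)
    (hK : ∃ k ∈ K, k ≠ 1) : Nat.card A = 2 ^ r := by
  have hcomm := comm_of_zgroup_fpf K hn hn' hfpf
  have hφ1 : ∀ k ∈ K, linHom c k = 1 → k = 1 := by
    intro k hk h1
    by_contra hk1
    apply hfree k hk hk1 a₀ ha₀
    have h2 := congrArg (fun u : (AddMonoid.End (Additive A))ˣ =>
      (u : AddMonoid.End (Additive A)) (Additive.ofMul a₀)) h1
    exact h2
  let D : FData (Additive A) :=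
    { K := K.map (linHom c)
      v₀ := Additive.ofMul a₀
      hv₀ := fun h0 => ha₀ h0
      comm := by
        rintro _ ⟨k₁, hk₁, rfl⟩ _ ⟨k₂, hk₂, rfl⟩
        rw [← map_mul, ← map_mul, hcomm k₁ hk₁ k₂ hk₂]
      trans := by
        intro w hw
        obtain ⟨k, hk, hkw⟩ := htr w.toMul hw
        exact ⟨linHom c k, ⟨k, hk, rfl⟩, hkw⟩
      two := fun v => hexp v.toMul }
  have hmain := D.main (linHom c h) ?_ ?_ hr ?_ ?_
  · exact hmain
  · rintro _ ⟨k, hk, rfl⟩
    exact ⟨h * k * h⁻¹, hn k hk, by rw [map_mul, map_mul, map_inv]⟩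
  · rintro _ ⟨k, hk, rfl⟩ hfix
    have h1 : linHom c (h * k * h⁻¹ * k⁻¹) = 1 := by
      rw [map_mul, map_mul, map_mul, map_inv, map_inv, hfix, mul_inv_cancel]
    have h2 := hφ1 _ (K.mul_mem (hn k hk) (K.inv_mem hk)) h1
    have h3 := hfpf k hk (mul_inv_eq_one.mp h2)
    rw [h3, map_one]
  · rw [← map_pow, hhr, map_one]
  · obtain ⟨k, hk, hk1⟩ := hK
    exact ⟨linHom c k, ⟨k, hk, rfl⟩, fun h1 => hk1 (hφ1 k hk h1)⟩

end lin

end Cfsg.Agent.Helper2.ZasReg
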