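import Mathlib
import Cfsg.Agent.Helper2.ZasRegF

set_option autoImplicit false

/-!
A commuting group of automorphisms of a finite abelian group acting irreducibly generates a field
inside the endomorphism ring, and the abelian group becomes a one-dimensional vector space over it.
-/

namespace Cfsg.Agent.Helper2.ZasPSL

/-- A commuting group `K` of automorphisms of an abelian group `V` acting irreducibly. -/
structure IrrData (V : Type*) [AddCommGroup V] where
  K : Subgroup (AddMonoid.End V)ˣ
  v₀ : V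
  hv₀ : v₀ ≠ 0
  comm : ∀ k₁ ∈ K, ∀ k₂ ∈ K, k₁ * k₂ = k₂ * k₁
  irr : ∀ M : AddSubgroup V, (∀ k ∈ K, ∀ m ∈ M, (k : AddMonoid.End V) m ∈ M) → M = ⊥ ∨ M = ⊤

namespace IrrData

variable {V : Type*} [AddCommGroup V] (D : IrrData V)

/-- the generating set -/
def gens : Set (AddMonoid.End V) :=
  {x | ∃ k ∈ D.K, x = ((k : (AddMonoid.End V)ˣ) : AddMonoid.End V)}

/-- the subring generated by `K` -/
def S : Subring (AddMonoid.End V) := Subring.closure D.gens

theorem gens_subset : D.gens ⊆ D.S := Subring.subset_closure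

theorem unit_mem {k : (AddMonoid.End V)ˣ} (hk : k ∈ D.K) : (k : AddMonoid.End V) ∈ D.S :=
  D.gens_subset ⟨k, hk, rfl⟩

theorem comm_gens {x : AddMonoid.End V} (hx : x ∈ D.S) {k : (AddMonoid.End V)ˣ} (hk : k ∈ D.K) :
    x * (k : AddMonoid.End V) = (k : AddMonoid.End V) * x := by
  have h1 : D.S ≤ Subring.centralizer D.gens := by
    apply Subring.closure_le.mpr
    rintro y ⟨l, hl, rfl⟩
    rw [SetLike.mem_coe, Subring.mem_centralizer_iff]
    rintro z ⟨m, hm, rfl⟩
    rw [← Units.val_mul, ← Units.val_mul, D.comm m hm l hl]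
  have h2 := h1 hx
  rw [Subring.mem_centralizer_iff] at h2
  exact (h2 _ ⟨k, hk, rfl⟩).symm

theorem mul_comm_mem {x y : AddMonoid.End V} (hx : x ∈ D.S) (hy : y ∈ D.S) : x * y = y * x := by
  have h1 : D.S ≤ Subring.centralizer (D.S : Set (AddMonoid.End V)) := by
    apply Subring.closure_le.mpr
    rintro z ⟨l, hl, rfl⟩
    rw [SetLike.mem_coe, Subring.mem_centralizer_iff]
    intro w hw
    exact D.comm_gens hw hl
  have h2 := h1 hy
  rw [Subring.mem_centralizer_iff] at h2
  exact h2 x hx

theorem eq_zero_of_apply_eq_zero {x : AddMonoid.End V} (hx : x ∈ D.S) {v : V} (hv : v ≠ 0)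
    (hxv : x v = 0) : x = 0 := by
  have hM := D.irr (AddMonoidHom.ker (x : V →+ V)) (by
    intro k hk m hm
    have hm' : x m = 0 := hm
    show x ((k : AddMonoid.End V) m) = 0
    have e : x ((k : AddMonoid.End V) m) = (x * (k : AddMonoid.End V)) m := rfl
    rw [e, D.comm_gens hx hk]
    show (k : AddMonoid.End V) (x m) = 0
    rw [hm', map_zero])
  rcases hM with h | h
  · exfalso
    apply hv
    have h1 : v ∈ AddMonoidHom.ker (x : V →+ V) := AddMonoidHom.mem_ker.mpr hxv
    rw [h] at h1
    exact AddSubgroup.mem_bot.mp h1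
  · refine DFunLike.ext _ _ (fun w => ?_)
    have h1 : w ∈ AddMonoidHom.ker (x : V →+ V) := by rw [h]; exact AddSubgroup.mem_top w
    exact AddMonoidHom.mem_ker.mp h1

/-- evaluation at the base vector -/
def evalMap : ↥D.S → V := fun x => (x : AddMonoid.End V) D.v₀

theorem evalMap_add (x y : ↥D.S) : D.evalMap (x + y) = D.evalMap x + D.evalMap y := rfl

theorem evalMap_one : D.evalMap 1 = D.v₀ := rfl

theorem evalMap_zero : D.evalMap 0 = 0 := rfl

theorem evalMap_mul (x y : ↥D.S) :
    D.evalMap (x * y) = (x : AddMonoid.End V) (D.evalMap y) := rfl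

theorem evalMap_injective : Function.Injective D.evalMap := by
  intro x y hxy
  have hxy' : (x : AddMonoid.End V) D.v₀ = (y : AddMonoid.End V) D.v₀ := hxy
  have h1 : ((x - y : ↥D.S) : AddMonoid.End V) D.v₀ = 0 := by
    show (x : AddMonoid.End V) D.v₀ - (y : AddMonoid.End V) D.v₀ = 0
    rw [hxy', sub_self]
  have h2 := D.eq_zero_of_apply_eq_zero (x - y).2 D.hv₀ h1
  exact sub_eq_zero.mp (Subtype.ext h2)

theorem evalMap_surjective : Function.Surjective D.evalMap := by
  let M : AddSubgroup V :=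
    { carrier := Set.range D.evalMap
      zero_mem' := ⟨0, rfl⟩
      add_mem' := by
        rintro _ _ ⟨x, rfl⟩ ⟨y, rfl⟩
        exact ⟨x + y, rfl⟩
      neg_mem' := by
        rintro _ ⟨x, rfl⟩
        exact ⟨-x, rfl⟩ }
  have hM := D.irr M (by
    rintro k hk _ ⟨x, rfl⟩
    exact ⟨⟨(k : AddMonoid.End V) * x, D.S.mul_mem (D.unit_mem hk) x.2⟩, rfl⟩)
  rcases hM with h | h
  · exfalso
    apply D.hv₀
    have h1 : D.v₀ ∈ M := ⟨1, rfl⟩
    rw [h] at h1
    exact AddSubgroup.mem_bot.mp h1
  · intro w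
    have h1 : w ∈ M := by rw [h]; exact AddSubgroup.mem_top w
    exact h1

theorem finite_S [Finite V] : Finite ↥D.S := Finite.of_injective D.evalMap D.evalMap_injective

theorem isField [Finite V] : IsField ↥D.S where
  exists_pair_ne := ⟨0, 1, by
    intro h
    apply D.hv₀
    have h2 := congrArg D.evalMap h
    exact h2.symm⟩
  mul_comm := by
    rintro ⟨x, hx⟩ ⟨y, hy⟩
    exact Subtype.ext (D.mul_comm_mem hx hy)
  mul_inv_cancel := by
    rintro ⟨x, hx⟩ hx0
    have hinj : Function.Injective (x : V →+ V) := by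
      rw [injective_iff_map_eq_zero]
      intro v hv
      by_contra hv0
      exact hx0 (Subtype.ext (D.eq_zero_of_apply_eq_zero hx hv0 hv))
    have hsurj : Function.Surjective (x : V →+ V) := Finite.injective_iff_surjective.mp hinj
    obtain ⟨w, hw⟩ := hsurj D.v₀
    obtain ⟨y, hy⟩ := D.evalMap_surjective w
    refine ⟨y, ?_⟩
    apply D.evalMap_injective
    rw [D.evalMap_mul, hy, D.evalMap_one]
    exact hw

end IrrData

open Cfsg.Agent.Helper2.ZasReg

/-- The field attached to an irreducible commuting action on a finite abelian group. -/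
theorem exists_field_of_irr {Γ A : Type*} [Group Γ] [CommGroup A] [Finite A] (c : Γ →* MulAut A)
    (hcomm : ∀ γ δ : Γ, ∀ x : A, c γ (c δ x) = c δ (c γ x))
    (hirr : ∀ M : Subgroup A, (∀ γ : Γ, ∀ m ∈ M, c γ m ∈ M) → M = ⊥ ∨ M = ⊤)
    {a₀ : A} (ha₀ : a₀ ≠ 1) :
    ∃ (K : Type) (_ : Field K) (_ : Fintype K) (ε : K → A) (χ : Γ → K),
      Function.Bijective ε ∧ (∀ x y : K, ε (x + y) = ε x * ε y) ∧ ε 1 = a₀ ∧
      (∀ (γ : Γ) (x : K), ε (χ γ * x) = c γ (ε x)) := by
  let D : IrrData (Additive A) :=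
    { K := (linHom c).range
      v₀ := Additive.ofMul a₀
      hv₀ := fun h0 => ha₀ h0
      comm := by
        rintro _ ⟨γ, rfl⟩ _ ⟨δ, rfl⟩
        apply Units.ext
        refine DFunLike.ext _ _ (fun v => ?_)
        exact hcomm γ δ v.toMul
      irr := by
        intro M hM
        let M' : Subgroup A :=
          { carrier := {x | Additive.ofMul x ∈ M}
            mul_mem' := fun hx hy => M.add_mem hx hy
            one_mem' := M.zero_mem
            inv_mem' := fun hx => M.neg_mem hx }
        rcases hirr M' (fun γ m hm => hM (linHom c γ) ⟨γ, rfl⟩ _ hm) with h | h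
        · left
          rw [eq_bot_iff]
          intro v hv
          have h1 : v.toMul ∈ M' := hv
          rw [h] at h1
          have h2 : v.toMul = 1 := Subgroup.mem_bot.mp h1
          rw [AddSubgroup.mem_bot]
          exact h2
        · right
          rw [eq_top_iff]
          intro v _
          have h1 : v.toMul ∈ M' := by rw [h]; exact Subgroup.mem_top _
          exact h1 }
  letI : Field ↥D.S := D.isField.toField
  haveI : Finite ↥D.S := D.finite_S
  let ρ : Shrink.{0} ↥D.S ≃+* ↥D.S := Shrink.ringEquiv.{0} ↥D.S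
  refine ⟨Shrink.{0} ↥D.S, inferInstance, Fintype.ofFinite _,
    fun x => Additive.toMul (D.evalMap (ρ x)),
    fun γ => ρ.symm ⟨linHom c γ, D.unit_mem ⟨γ, rfl⟩⟩, ?_, ?_, ?_, ?_⟩
  · constructor
    · intro x y hxy
      exact ρ.injective (D.evalMap_injective (Additive.toMul.injective hxy))
    · intro a
      obtain ⟨y, hy⟩ := D.evalMap_surjective (Additive.ofMul a)
      refine ⟨ρ.symm y, ?_⟩
      show Additive.toMul (D.evalMap (ρ (ρ.symm y))) = a
      rw [RingEquiv.apply_symm_apply, hy]
      rfl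
  · intro x y
    show Additive.toMul (D.evalMap (ρ (x + y))) = _
    rw [map_add, D.evalMap_add]
    rfl
  · show Additive.toMul (D.evalMap (ρ 1)) = a₀
    rw [map_one, D.evalMap_one]
    rfl
  · intro γ x
    show Additive.toMul (D.evalMap (ρ (ρ.symm ⟨linHom c γ, D.unit_mem ⟨γ, rfl⟩⟩ * x))) = _
    rw [map_mul, RingEquiv.apply_symm_apply, D.evalMap_mul]
    rfl

end Cfsg.Agent.Helper2.ZasPSL
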