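import Mathlib
import Cfsg.Agent.Helper2.ZasPSLA

set_option autoImplicit false

/-!
Coordinates: an abelian group `N` acting regularly on `Ω \ {a}`, normalised by an abelian group `H`
fixing `a` and `b` and acting irreducibly on `N`, identifies `Ω \ {a}` with a finite field on which
`N` acts by translations and `H` by multiplications.
-/

namespace Cfsg.Agent.Helper2.ZasPSL

open MulAction

variable {G : Type*} [Group G]

/-- conjugation action of a subgroup `H` on a subgroup `N` it normalises -/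
def conjAct (N H : Subgroup G) (hn : ∀ h ∈ H, ∀ x ∈ N, h * x * h⁻¹ ∈ N) : ↥H →* MulAut ↥N where
  toFun h :=
    { toFun := fun x => ⟨(h : G) * x * (h : G)⁻¹, hn h h.2 x x.2⟩
      invFun := fun x => ⟨(h : G)⁻¹ * x * (h : G), by
        have := hn (h : G)⁻¹ (H.inv_mem h.2) x x.2
        rwa [inv_inv] at this⟩
      left_inv := fun x => Subtype.ext (by
        show (h : G)⁻¹ * ((h : G) * x * (h : G)⁻¹) * (h : G) = x
        group)
      right_inv := fun x => Subtype.ext (by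
        show (h : G) * ((h : G)⁻¹ * x * (h : G)) * (h : G)⁻¹ = x
        group)
      map_mul' := fun x y => Subtype.ext (by
        show (h : G) * ((x : G) * (y : G)) * (h : G)⁻¹ =
          ((h : G) * x * (h : G)⁻¹) * ((h : G) * y * (h : G)⁻¹)
        group) }
  map_one' := by
    apply MulEquiv.ext
    intro x
    apply Subtype.ext
    show ((1 : ↥H) : G) * x * ((1 : ↥H) : G)⁻¹ = x
    rw [Subgroup.coe_one]
    group
  map_mul' := fun h k => by
    apply MulEquiv.ext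
    intro x
    apply Subtype.ext
    show ((h * k : ↥H) : G) * x * ((h * k : ↥H) : G)⁻¹ =
      (h : G) * ((k : G) * x * (k : G)⁻¹) * (h : G)⁻¹
    rw [Subgroup.coe_mul]
    group

theorem conjAct_apply (N H : Subgroup G) (hn : ∀ h ∈ H, ∀ x ∈ N, h * x * h⁻¹ ∈ N) (h : ↥H)
    (x : ↥N) : ((conjAct N H hn h x : ↥N) : G) = (h : G) * x * (h : G)⁻¹ := rfl

variable {Ω : Type*} [MulAction G Ω]

theorem exists_coordinates (N H : Subgroup G) [Finite ↥N] {a b c₀ : Ω}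
    (hNa : ∀ n ∈ N, n • a = a) (hNfree : ∀ n ∈ N, ∀ y : Ω, y ≠ a → n • y = y → n = 1)
    (hNtrans : ∀ y z : Ω, y ≠ a → z ≠ a → ∃ n ∈ N, n • y = z)
    (hnorm : ∀ h ∈ H, ∀ x ∈ N, h * x * h⁻¹ ∈ N)
    (hNcomm : ∀ n ∈ N, ∀ m ∈ N, n * m = m * n)
    (hHcomm : ∀ h ∈ H, ∀ k ∈ H, h * k = k * h)
    (hHb : ∀ h ∈ H, h • b = b)
    (hirr : ∀ M : Subgroup G, M ≤ N → (∀ h ∈ H, ∀ m ∈ M, h * m * h⁻¹ ∈ M) → M = ⊥ ∨ M = N)
    (hab : a ≠ b) (hc₀a : c₀ ≠ a) (hc₀b : c₀ ≠ b) :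
    ∃ (K : Type) (_ : Field K) (_ : Fintype K) (pt : K → Ω) (χ : ↥H → K),
      Function.Injective pt ∧ (∀ y : Ω, y ≠ a → ∃ x, pt x = y) ∧ (∀ x, pt x ≠ a) ∧ pt 0 = b ∧
      pt 1 = c₀ ∧ (∀ β : K, ∃ n ∈ N, ∀ x, n • pt x = pt (x + β)) ∧
      (∀ (h : ↥H) (x : K), (h : G) • pt x = pt (χ h * x)) ∧ Fintype.card K = Nat.card ↥N := by
  letI : CommGroup ↥N :=
    { (inferInstance : Group ↥N) with mul_comm := fun x y => Subtype.ext (hNcomm x x.2 y y.2) }
  obtain ⟨n₁, hn₁N, hn₁⟩ := hNtrans b c₀ (Ne.symm hab) hc₀a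
  have ha₀ : (⟨n₁, hn₁N⟩ : ↥N) ≠ 1 := by
    intro e
    have e' : n₁ = 1 := congrArg Subtype.val e
    rw [e', one_smul] at hn₁
    exact hc₀b hn₁.symm
  have hcomm' : ∀ γ δ : ↥H, ∀ x : ↥N,
      conjAct N H hnorm γ (conjAct N H hnorm δ x) = conjAct N H hnorm δ (conjAct N H hnorm γ x) := by
    intro γ δ x
    apply Subtype.ext
    rw [conjAct_apply, conjAct_apply, conjAct_apply, conjAct_apply]
    have e := hHcomm γ γ.2 δ δ.2
    calc (γ : G) * ((δ : G) * x * (δ : G)⁻¹) * (γ : G)⁻¹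
        = ((γ : G) * δ) * x * ((γ : G) * δ)⁻¹ := by group
      _ = ((δ : G) * γ) * x * ((δ : G) * γ)⁻¹ := by rw [e]
      _ = (δ : G) * ((γ : G) * x * (γ : G)⁻¹) * (δ : G)⁻¹ := by group
  have hirr' : ∀ M : Subgroup ↥N, (∀ γ : ↥H, ∀ m ∈ M, conjAct N H hnorm γ m ∈ M) →
      M = ⊥ ∨ M = ⊤ := by
    intro M hM
    rcases hirr (M.map N.subtype) (Subgroup.map_subtype_le M) (by
      rintro h hh _ ⟨m, hm, rfl⟩
      exact ⟨conjAct N H hnorm ⟨h, hh⟩ m, hM ⟨h, hh⟩ m hm, rfl⟩) with h | h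
    · left
      exact (Subgroup.map_eq_bot_iff_of_injective M N.subtype_injective).mp h
    · right
      rw [eq_top_iff]
      intro x _
      have hx : (x : G) ∈ M.map N.subtype := by rw [h]; exact x.2
      obtain ⟨m, hm, hmx⟩ := hx
      have : m = x := Subtype.ext hmx
      rw [← this]
      exact hm
  obtain ⟨K, instF, instFin, ε, χ, hεbij, hεadd, hε1, hεχ⟩ :=
    exists_field_of_irr (conjAct N H hnorm) hcomm' hirr' ha₀
  have hε0 : ε 0 = 1 := by
    have := hεadd 0 0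
    rw [add_zero] at this
    exact (mul_eq_left.mp this.symm)
  have hfix : ∀ n m : ↥N, (n : G) • b = (m : G) • b → n = m := by
    intro n m hnm
    have h1 : ((m : G)⁻¹ * (n : G)) • b = b := by
      rw [mul_smul, hnm, inv_smul_smul]
    have h2 := hNfree _ (N.mul_mem (N.inv_mem m.2) n.2) b (Ne.symm hab) h1
    exact Subtype.ext (inv_mul_eq_one.mp h2).symm
  refine ⟨K, instF, instFin, fun x => ((ε x : ↥N) : G) • b, χ, ?_, ?_, ?_, ?_, ?_, ?_, ?_, ?_⟩
  · intro x y hxy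
    exact hεbij.1 (hfix _ _ hxy)
  · intro y hy
    obtain ⟨n, hn, hny⟩ := hNtrans b y (Ne.symm hab) hy
    obtain ⟨x, hx⟩ := hεbij.2 ⟨n, hn⟩
    refine ⟨x, ?_⟩
    show ((ε x : ↥N) : G) • b = y
    rw [hx]
    exact hny
  · intro x e
    have e' : ((ε x : ↥N) : G) • b = a := e
    have h1 : ((ε x : ↥N) : G) • b = ((ε x : ↥N) : G) • a := by
      rw [e', hNa _ (ε x).2]
    exact hab (smul_left_cancel _ h1).symm
  · show ((ε 0 : ↥N) : G) • b = b
    rw [hε0, Subgroup.coe_one, one_smul]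
  · show ((ε 1 : ↥N) : G) • b = c₀
    rw [hε1]
    exact hn₁
  · intro β
    refine ⟨((ε β : ↥N) : G), (ε β).2, fun x => ?_⟩
    show ((ε β : ↥N) : G) • (((ε x : ↥N) : G) • b) = ((ε (x + β) : ↥N) : G) • b
    rw [add_comm x β, hεadd, Subgroup.coe_mul, mul_smul]
  · intro h x
    show (h : G) • (((ε x : ↥N) : G) • b) = ((ε (χ h * x) : ↥N) : G) • b
    rw [hεχ, conjAct_apply, mul_smul, mul_smul]
    have : (h : G)⁻¹ • b = b := by
      rw [inv_smul_eq_iff, hHb h h.2]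
    rw [this]
  · rw [← Nat.card_eq_fintype_card]
    exact Nat.card_congr (Equiv.ofBijective ε hεbij)

end Cfsg.Agent.Helper2.ZasPSL
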