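import Mathlib
import Cfsg.Agent.S0741
import Cfsg.Agent.Helper2.ZasPSLB
import Cfsg.Agent.Helper2.ZasPSLC
import Cfsg.Agent.Helper2.ZasPSLE
import Cfsg.Agent.Helper2.ZasPSLF
import Cfsg.Agent.Helper7.ZassCount
import Cfsg.Agent.Helper4.L2pInst

set_option autoImplicit false

/-!
A Zassenhaus group of degree `n + 1` whose two-point stabiliser has even order `d` with
`2 d ≤ n - 1` is `PSL(2, n)`.
-/

namespace Cfsg.Agent.Helper2.ZasPSL

open MulAction OnePoint Cfsg.Agent.Helper7.Zass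

set_option maxHeartbeats 1600000 in
theorem main {G Ω : Type*} [Group G] [Finite G] [MulAction G Ω] [Fintype Ω]
    (hZ : Cfsg.IsZassenhausGroup G Ω) {a b : Ω} (hab : a ≠ b)
    (heven : Even (Nat.card ↥(stabilizer G a ⊓ stabilizer G b)))
    (hd : 2 * Nat.card ↥(stabilizer G a ⊓ stabilizer G b) ≤ Fintype.card Ω - 2) :
    ∃ (p f : ℕ) (K : Type) (_ : Field K) (_ : Fintype K), p.Prime ∧ p ≠ 2 ∧
      Fintype.card K = p ^ f ∧ Fintype.card Ω = p ^ f + 1 ∧
      Nonempty (G ≃* Matrix.ProjectiveSpecialLinearGroup (Fin 2) K) := by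
  classical
  have hd' := Cfsg.Agent.S0741.result hZ hab heven
  have hZH := zhyp_of hZ
  obtain ⟨s, c₀, hs2, hsa, hsb, hc₀a, hc₀b, hsc, hsH⟩ := exists_invol hZ hab heven hd
  have hfaith : FaithfulSMul G Ω := hZ.1
  have hp3 := hZ.2.2.1
  set H : Subgroup G := stabilizer G a ⊓ stabilizer G b with hH
  have hmemH : ∀ h : G, h ∈ H ↔ h • a = a ∧ h • b = b := by
    intro h
    rw [hH, Subgroup.mem_inf, mem_stabilizer_iff, mem_stabilizer_iff]
  have hHpos : 0 < Nat.card H := Nat.card_pos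
  have hdpos : 2 ≤ Nat.card H := by
    obtain ⟨k, hk⟩ := heven
    omega
  have hΩ : Fintype.card Ω = 2 * Nat.card H + 2 := by omega
  obtain ⟨N, hNa, hNfree, hNtrans, hNnorm, hNcomm, hNcard, hirr⟩ :=
    exists_kernel_data hZ hab hd' (by omega)
  -- `s` inverts `H`
  have hinvert : ∀ u : G, (∀ h ∈ H, (u * h) * (u * h) = 1) → ∀ h ∈ H, u * h = h⁻¹ * u := by
    intro u hu h hh
    have hu2 : u * u = 1 := by
      have := hu 1 H.one_mem
      rwa [mul_one] at this
    have huinv : u⁻¹ = u := inv_eq_of_mul_eq_one_right hu2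
    have e : (u * h)⁻¹ = u * h := inv_eq_of_mul_eq_one_right (hu h hh)
    rw [← e, mul_inv_rev, huinv]
  have hsh := hinvert s hsH
  have hHcomm : ∀ h ∈ H, ∀ k ∈ H, h * k = k * h := by
    intro h hh k hk
    have e1 := hsh (h * k) (H.mul_mem hh hk)
    have e2 : s * (h * k) = h⁻¹ * k⁻¹ * s := by
      rw [← mul_assoc, hsh h hh, mul_assoc, hsh k hk, mul_assoc]
    have e3 : (h * k)⁻¹ = h⁻¹ * k⁻¹ := mul_right_cancel (e1.symm.trans e2)
    have e4 : (h * k)⁻¹ = (k * h)⁻¹ := by rw [e3, mul_inv_rev]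
    exact inv_injective e4
  obtain ⟨K, instF, instFin, pt, χ, hptinj, hptsurj, hpta, hpt0, hpt1, hT, hM, hKcard⟩ :=
    exists_coordinates N H hNa hNfree hNtrans (fun h hh => hNnorm h ((hmemH h).1 hh).1) hNcomm
      hHcomm (fun h hh => ((hmemH h).1 hh).2) hirr hab hc₀a hc₀b
  have hcardK : Fintype.card K = 2 * Nat.card H + 1 := by omega
  have hHa : ∀ h : ↥H, (h : G) • a = a := fun h => ((hmemH h).1 h.2).1
  have hHb : ∀ h : ↥H, (h : G) • b = b := fun h => ((hmemH h).1 h.2).2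
  have hχ0 : ∀ h : ↥H, χ h ≠ 0 := by
    intro h e
    have h1 := hM h 1
    rw [e, zero_mul, hpt0, hpt1] at h1
    have h2 : (h : G) • c₀ = (h : G) • b := by rw [h1, hHb h]
    exact hc₀b (smul_left_cancel _ h2)
  have hχmul : ∀ h k : ↥H, χ (h * k) = χ h * χ k := by
    intro h k
    have h1 := hM (h * k) 1
    rw [Subgroup.coe_mul, mul_smul, hM k 1, hM h] at h1
    have h2 := hptinj h1
    rw [mul_one, mul_one] at h2
    exact h2.symm
  have hχ1 : χ 1 = 1 := by
    have h1 := hM 1 1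
    rw [Subgroup.coe_one, one_smul] at h1
    have h2 := hptinj h1
    rw [mul_one] at h2
    exact h2.symm
  have hχinv : ∀ h : ↥H, χ h⁻¹ = (χ h)⁻¹ := by
    intro h
    have h1 := hχmul h⁻¹ h
    rw [inv_mul_cancel, hχ1] at h1
    exact eq_inv_of_mul_eq_one_left h1.symm
  have hχinj : Function.Injective χ := by
    intro h k hhk
    apply Subtype.ext
    apply hfaith.eq_of_smul_eq_smul (α := Ω)
    intro y
    by_cases hy : y = a
    · rw [hy, hHa h, hHa k]
    · obtain ⟨x, rfl⟩ := hptsurj y hy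
      rw [hM h x, hM k x, hhk]
  -- the involution of `H`
  have : Fact (Nat.Prime 2) := ⟨Nat.prime_two⟩
  obtain ⟨t₀, ht₀⟩ := exists_prime_orderOf_dvd_card' (G := ↥H) 2 (even_iff_two_dvd.1 heven)
  have ht₀2 : t₀ * t₀ = 1 := by rw [← pow_two, ← ht₀, pow_orderOf_eq_one]
  have ht₀1 : t₀ ≠ 1 := by
    intro e
    rw [e, orderOf_one] at ht₀
    omega
  have hχt₀ : χ t₀ = -1 := by
    have h1 : χ t₀ * χ t₀ = 1 := by rw [← hχmul, ht₀2, hχ1]
    rcases mul_self_eq_one_iff.mp h1 with h | h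
    · exfalso
      apply ht₀1
      apply hχinj
      rw [h, hχ1]
    · exact h
  -- the subgroup of index two
  let P : K → Prop := fun x => ∃ h : ↥H, χ h = x
  have hP0 : ¬ P 0 := fun ⟨h, hh⟩ => hχ0 h hh
  have hP1 : P 1 := ⟨1, hχ1⟩
  have hPneg : P (-1) := ⟨t₀, hχt₀⟩
  have hPmul : ∀ x y, P x → P y → P (x * y) := by
    rintro _ _ ⟨h, rfl⟩ ⟨k, rfl⟩
    exact ⟨h * k, hχmul h k⟩
  have hPinv : ∀ x, P x → P x⁻¹ := by
    rintro _ ⟨h, rfl⟩
    exact ⟨h⁻¹, hχinv h⟩
  let χu : ↥H →* Kˣ :=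
    { toFun := fun h => Units.mk0 (χ h) (hχ0 h)
      map_one' := Units.ext hχ1
      map_mul' := fun h k => Units.ext (hχmul h k) }
  have hχuinj : Function.Injective χu := fun h k e => hχinj (congrArg Units.val e)
  have hQcard : Nat.card χu.range = Nat.card H :=
    (Nat.card_congr (MonoidHom.ofInjective hχuinj).toEquiv).symm
  have hKu : Nat.card Kˣ = 2 * Nat.card H := by
    rw [Nat.card_units, Nat.card_eq_fintype_card, hcardK]
    omega
  have hidx : χu.range.index = 2 := by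
    have h1 := χu.range.index_mul_card
    rw [hQcard, hKu] at h1
    exact Nat.eq_of_mul_eq_mul_right hHpos h1
  have hPiff : ∀ (x : K) (hx : x ≠ 0), P x ↔ Units.mk0 x hx ∈ χu.range := by
    intro x hx
    constructor
    · rintro ⟨h, hh⟩
      exact ⟨h, Units.ext hh⟩
    · rintro ⟨h, hh⟩
      exact ⟨h, congrArg Units.val hh⟩
  have hPnn : ∀ x y, x ≠ 0 → y ≠ 0 → ¬ P x → ¬ P y → P (x * y) := by
    intro x y hx hy hxP hyP
    rw [hPiff _ (mul_ne_zero hx hy)]
    have e : Units.mk0 (x * y) (mul_ne_zero hx hy) = Units.mk0 x hx * Units.mk0 y hy :=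
      Units.ext rfl
    rw [e, Subgroup.mul_mem_iff_of_index_two hidx, ← hPiff, ← hPiff]
    exact ⟨fun h => absurd h hxP, fun h => absurd h hyP⟩
  have hPex : ∃ ν : K, ν ≠ 0 ∧ ¬ P ν := by
    by_contra hcon
    push_neg at hcon
    have htop : χu.range = ⊤ := by
      rw [eq_top_iff]
      intro u _
      have := (hPiff _ u.ne_zero).1 (hcon _ u.ne_zero)
      have e : Units.mk0 (u : K) u.ne_zero = u := Units.ext rfl
      rwa [e] at this
    rw [htop, Subgroup.index_top] at hidx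
    omega
  -- the involution `s'`
  obtain ⟨s', hs'⟩ : ∃ s' : G, s' = s * (t₀ : G) := ⟨_, rfl⟩
  have hs'H : ∀ h ∈ H, (s' * h) * (s' * h) = 1 := by
    intro h hh
    have h1 := hsH ((t₀ : G) * h) (H.mul_mem t₀.2 hh)
    rw [hs']
    simpa only [mul_assoc] using h1
  have hs'2 : s' * s' = 1 := by
    have h1 := hs'H 1 H.one_mem
    rwa [mul_one] at h1
  have hs'a : s' • a = b := by rw [hs', mul_smul, hHa t₀, hsa]
  have hs'b : s' • b = a := by rw [hs', mul_smul, hHb t₀, hsb]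
  have hs'h := hinvert s' hs'H
  have hs'1 : s' • pt 1 = pt (-1) := by
    rw [hs', hsh t₀ t₀.2, mul_smul, hpt1, hsc, ← hpt1]
    have h1 := hM t₀⁻¹ 1
    rw [Subgroup.coe_inv] at h1
    rw [h1, hχinv, hχt₀, mul_one, inv_neg_one]
  have hex : ∀ x : K, ∃ y : K, x ≠ 0 → s' • pt x = pt y := by
    intro x
    by_cases hx : x = 0
    · exact ⟨0, fun h => absurd hx h⟩
    · have hne : s' • pt x ≠ a := by
        intro e
        rw [← hs'b] at e
        have h1 := smul_left_cancel _ e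
        rw [← hpt0] at h1
        exact hx (hptinj h1)
      obtain ⟨y, hy⟩ := hptsurj _ hne
      exact ⟨y, fun _ => hy.symm⟩
  choose σ hσ using hex
  have hσ0 : ∀ x, x ≠ 0 → σ x ≠ 0 := by
    intro x hx e
    have h1 := hσ x hx
    rw [e, hpt0, ← hs'a] at h1
    exact hpta x (smul_left_cancel _ h1)
  have hσσ : ∀ x, x ≠ 0 → σ (σ x) = x := by
    intro x hx
    have h1 := hσ (σ x) (hσ0 x hx)
    rw [← hσ x hx, ← mul_smul, hs'2, one_smul] at h1
    exact (hptinj h1).symm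
  have h1σ : ∀ α, P α → ∀ x, x ≠ 0 → σ (α * x) = α⁻¹ * σ x := by
    rintro _ ⟨h, rfl⟩ x hx
    have hne : χ h * x ≠ 0 := mul_ne_zero (hχ0 h) hx
    have e1 := hσ _ hne
    rw [← hM h x, ← mul_smul, hs'h h h.2, mul_smul, hσ x hx] at e1
    have e2 := hM h⁻¹ (σ x)
    rw [Subgroup.coe_inv] at e2
    rw [e2, hχinv] at e1
    exact (hptinj e1).symm
  have h3σ : σ 1 = -1 := by
    have h1 := hσ 1 one_ne_zero
    rw [hs'1] at h1
    exact (hptinj h1).symm
  obtain ⟨t₁, ht₁N, ht₁⟩ := hT 1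
  have ht₁a : t₁ • a = a := hNa t₁ ht₁N
  obtain ⟨g, hg⟩ : ∃ g : G, g = t₁ * s' := ⟨_, rfl⟩
  have hga : g • a = pt 1 := by rw [hg, mul_smul, hs'a, ← hpt0, ht₁, zero_add]
  have hg1 : g • pt 1 = b := by rw [hg, mul_smul, hs'1, ht₁, neg_add_cancel, hpt0]
  have hgb : g • b = a := by rw [hg, mul_smul, hs'b, ht₁a]
  have hgx : ∀ x, x ≠ 0 → g • pt x = pt (σ x + 1) := by
    intro x hx
    rw [hg, mul_smul, hσ x hx, ht₁]
  have hpt1b : pt 1 ≠ b := by rw [hpt1]; exact hc₀b
  have hg3 : g * g * g = 1 := by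
    apply hp3 (g * g * g) a (pt 1) b (Ne.symm (hpta 1)) hpt1b hab
    · rw [mul_smul, mul_smul, hga, hg1, hgb]
    · rw [mul_smul, mul_smul, hg1, hgb, hga]
    · rw [mul_smul, mul_smul, hgb, hga, hg1]
  have h4σ : ∀ x, x ≠ 0 → x ≠ 1 → σ (σ x + 1) + 1 = σ (x - 1) := by
    intro x hx0 hx1
    have hx10 : x - 1 ≠ 0 := sub_ne_zero.mpr hx1
    have hne : σ x + 1 ≠ 0 := by
      intro e
      have e1 : σ x = -1 := eq_neg_of_add_eq_zero_left e
      have e2 : σ (σ x) = σ (-1) := by rw [e1]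
      rw [hσσ x hx0, ← h3σ, hσσ 1 one_ne_zero] at e2
      exact hx1 e2
    have e1 : g • pt (σ (x - 1)) = pt x := by
      rw [hgx _ (hσ0 _ hx10), hσσ _ hx10, sub_add_cancel]
    have e2 : g • (g • pt x) = pt (σ (σ x + 1) + 1) := by
      rw [hgx x hx0, hgx _ hne]
    have e3 : g • (g • (g • pt (σ (x - 1)))) = pt (σ (x - 1)) := by
      rw [← mul_smul, ← mul_smul, hg3, one_smul]
    rw [e1, e2] at e3
    exact hptinj e3
  have hσeq := sigma_eq_neg_inv P hP0 hP1 hPneg hPmul hPinv hPnn hPex σ h1σ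
    (fun x hx => ⟨hσ0 x hx, hσσ x hx⟩) h3σ h4σ
  -- the projective line
  let f : OnePoint K → Ω := fun z => OnePoint.elim z a pt
  have hfinf : f ∞ = a := rfl
  have hfc : ∀ x : K, f (x : OnePoint K) = pt x := fun x => rfl
  have hfbij : Function.Bijective f := by
    constructor
    · intro z w hzw
      cases z with
      | infty =>
        cases w with
        | infty => rfl
        | coe y =>
          rw [hfinf, hfc] at hzw
          exact absurd hzw.symm (hpta y)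
      | coe x =>
        cases w with
        | infty =>
          rw [hfinf, hfc] at hzw
          exact absurd hzw (hpta x)
        | coe y =>
          rw [hfc, hfc] at hzw
          rw [hptinj hzw]
    · intro y
      by_cases hy : y = a
      · exact ⟨∞, hy.symm⟩
      · obtain ⟨x, hx⟩ := hptsurj y hy
        exact ⟨(x : OnePoint K), hx⟩
  have hB : ∀ α : K, α ≠ 0 → ∀ β : K, ∃ g : G, g • f ∞ = f ∞ ∧
      ∀ x : K, g • f (x : OnePoint K) = f ((α ^ 2 * x + β : K) : OnePoint K) := by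
    intro α hα β
    have hPα : P (α ^ 2) := by
      rw [pow_two]
      by_cases h : P α
      · exact hPmul _ _ h h
      · exact hPnn _ _ hα hα h h
    obtain ⟨h, hh⟩ := hPα
    obtain ⟨n, hnN, hn⟩ := hT β
    refine ⟨n * (h : G), ?_, fun x => ?_⟩
    · rw [hfinf, mul_smul, hHa h, hNa n hnN]
    · rw [hfc, hfc, mul_smul, hM h x, hn, hh]
  have hS : ∃ s : G, s • f ∞ = f ((0 : K) : OnePoint K) ∧ s • f ((0 : K) : OnePoint K) = f ∞ ∧
      ∀ x : K, x ≠ 0 → s • f (x : OnePoint K) = f ((-x⁻¹ : K) : OnePoint K) := by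
    refine ⟨s', ?_, ?_, ?_⟩
    · rw [hfinf, hfc, hpt0]; exact hs'a
    · rw [hfinf, hfc, hpt0]; exact hs'b
    · intro x hx
      rw [hfc, hfc, hσ x hx, hσeq x hx]
  have hfaith' : ∀ g : G, (∀ x : Ω, g • x = x) → g = 1 :=
    fun g hg => hfaith.eq_of_smul_eq_smul (fun x => by rw [hg x, one_smul])
  have hcard : Nat.card G = Nat.card (Matrix.ProjectiveSpecialLinearGroup (Fin 2) K) := by
    have := Fintype.ofFinite G
    have hGcard := card_eq hZH.t2 hab
    rw [Cfsg.Agent.Helper4.L2p.card_PSL2 (F := K) (p := Fintype.card K) (m := Nat.card H) hcardK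
      hHpos rfl, Nat.card_eq_fintype_card, hGcard, hΩ, hcardK]
    have e : (2 * Nat.card H + 2) * (2 * Nat.card H + 2) - (2 * Nat.card H + 2) =
        (2 * Nat.card H + 2) * (2 * Nat.card H + 1) := by
      have : (2 * Nat.card H + 2) * (2 * Nat.card H + 2) =
          (2 * Nat.card H + 2) * (2 * Nat.card H + 1) + (2 * Nat.card H + 2) := by ring
      rw [this, Nat.add_sub_cancel]
    rw [e]
    ring
  obtain ⟨e⟩ := nonempty_mulEquiv_psl f hfbij hfaith' hB hS hcard
  obtain ⟨p, -, n, hp, hpn⟩ := FiniteField.card' K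
  refine ⟨p, n, K, instF, instFin, hp, ?_, hpn, ?_, ⟨e⟩⟩
  · intro hp2
    rw [hp2] at hpn
    have h2 : 2 ∣ 2 ^ (n : ℕ) := dvd_pow_self 2 n.ne_zero
    rw [← hpn, hcardK] at h2
    omega
  · rw [← hpn, hcardK, hΩ]

end Cfsg.Agent.Helper2.ZasPSL
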