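import Mathlib
import Cfsg.Agent.Helper2.Ord360D
import Cfsg.Agent.S0742
import Cfsg.Agent.S0254

set_option autoImplicit false

/-! Simple groups of order 360 are isomorphic to `A₆`. -/

namespace Cfsg.Agent.Helper2.Ord360

open Subgroup MulAction Cfsg.Agent.Helper7.Zass

variable {G : Type*} [Group G] [Finite G] [IsSimpleGroup G]

theorem card_alt6 : Nat.card ↥(alternatingGroup (Fin 6)) = 360 := by
  have := two_mul_nat_card_alternatingGroup (α := Fin 6)
  rw [Nat.card_eq_fintype_card (α := Equiv.Perm (Fin 6)), Fintype.card_perm,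
    Fintype.card_fin] at this
  have h6 : Nat.factorial 6 = 720 := by decide
  omega

theorem iso_of_card_sylow5_six (h : Nat.card G = 360) [Fact (Nat.Prime 5)]
    (h5 : Nat.card (Sylow 5 G) = 6) : Nonempty (G ≃* ↥(alternatingGroup (Fin 6))) := by
  let P : Sylow 5 G := default
  set H : Subgroup G := normalizer ((P : Subgroup G) : Set G) with hH
  have hidx : H.index = 6 := by
    have h1 := Sylow.card_eq_index_normalizer P
    rw [h5] at h1
    exact h1.symm
  have hne : H ≠ ⊤ := by
    intro e
    rw [e, index_top] at hidx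
    omega
  obtain ⟨f, hf⟩ := Cfsg.Agent.S0991.result (not_isMulCommutative h) H hne
  have key : ∀ (n : ℕ) (f : G →* ↥(alternatingGroup (Fin n))), Function.Injective f → n = 6 →
      Nonempty (G ≃* ↥(alternatingGroup (Fin 6))) := by
    intro n f hf hn
    subst hn
    have hbij : Function.Bijective f := by
      apply hf.bijective_of_nat_card_le
      rw [card_alt6, h]
    exact ⟨MulEquiv.ofBijective f hbij⟩
  exact key _ f hf hidx

theorem faithful (h : Nat.card G = 360) [Fact (Nat.Prime 3)] : FaithfulSMul G (Sylow 3 G) := by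
  have hker : (MulAction.toPermHom G (Sylow 3 G)).ker = ⊥ := by
    rcases (MonoidHom.normal_ker (MulAction.toPermHom G (Sylow 3 G))).eq_bot_or_eq_top with h0 | h0
    · exact h0
    · exfalso
      let P : Sylow 3 G := default
      have htop : normalizer ((P : Subgroup G) : Set G) = ⊤ := by
        rw [eq_top_iff]
        intro g _
        have hg : g ∈ (MulAction.toPermHom G (Sylow 3 G)).ker := by
          rw [h0]
          exact Subgroup.mem_top g
        rw [MonoidHom.mem_ker] at hg
        have hgP : g • P = P := by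
          have := congrArg (fun σ : Equiv.Perm (Sylow 3 G) => σ P) hg
          simpa using this
        exact Sylow.smul_eq_iff_mem_normalizer.mp hgP
      have hc := card_sylow3 h
      rw [Sylow.card_eq_index_normalizer P] at hc
      have hc' : (normalizer ((P : Subgroup G) : Set G)).index = 10 := hc
      rw [htop, index_top] at hc'
      omega
  have hinj := (MonoidHom.ker_eq_bot_iff _).mp hker
  constructor
  intro g₁ g₂ hg
  apply hinj
  apply Equiv.ext
  intro a
  exact hg a

theorem exists_ne_sylow3 (h : Nat.card G = 360) [Fact (Nat.Prime 3)] :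
    ∃ a b : Sylow 3 G, a ≠ b := by
  have : Nontrivial (Sylow 3 G) := by
    rw [← Finite.one_lt_card_iff_nontrivial, card_sylow3 h]
    norm_num
  exact exists_pair_ne _

theorem isZassenhaus (h : Nat.card G = 360) [Fact (Nat.Prime 3)] [Fact (Nat.Prime 5)]
    (h5 : Nat.card (Sylow 5 G) = 36) : Cfsg.IsZassenhausGroup G (Sylow 3 G) := by
  obtain ⟨a, b, hab⟩ := exists_ne_sylow3 h
  refine ⟨faithful h, ?_, p3 h h5, ?_, ?_⟩
  · rw [MulAction.is_two_pretransitive_iff]
    intro a b c d hab hcd
    exact t2 h a b c d hab hcd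
  · have hc := card_two_stab h hab
    have hnt : Nontrivial ↥(stabilizer G a ⊓ stabilizer G b : Subgroup G) := by
      rw [← Finite.one_lt_card_iff_nontrivial, hc]
      norm_num
    obtain ⟨⟨g, hg⟩, hg1⟩ := exists_ne (1 : ↥(stabilizer G a ⊓ stabilizer G b : Subgroup G))
    obtain ⟨hga, hgb⟩ := Subgroup.mem_inf.mp hg
    exact ⟨g, fun e => hg1 (Subtype.ext e), a, b, hab, hga, hgb⟩
  · intro N hN hNt
    rcases hN.eq_bot_or_eq_top with h0 | h0
    · exfalso
      subst h0
      obtain ⟨n, hn⟩ := MulAction.exists_smul_eq (↥(⊥ : Subgroup G)) a b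
      have hn1 : (n : G) = 1 := Subgroup.mem_bot.mp n.2
      apply hab
      rw [← hn, Subgroup.smul_def, hn1, one_smul]
    · subst h0
      refine ⟨a, ?_⟩
      have hS : Nat.card (stabilizer G a) = 36 := by
        rw [Sylow.stabilizer_eq_normalizer]
        exact card_normalizer_sylow3 h a
      have hnt : Nontrivial ↥(stabilizer G a) := by
        rw [← Finite.one_lt_card_iff_nontrivial, hS]
        norm_num
      obtain ⟨⟨g, hg⟩, hg1⟩ := exists_ne (1 : ↥(stabilizer G a))
      intro hbot
      have hm : (⟨g, Subgroup.mem_top g⟩ : ↥(⊤ : Subgroup G)) ∈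
          stabilizer ↥(⊤ : Subgroup G) a := by
        rw [mem_stabilizer_iff, Subgroup.smul_def]
        exact hg
      rw [hbot, Subgroup.mem_bot] at hm
      have hg0 : g = 1 := congrArg Subtype.val hm
      exact hg1 (Subtype.ext hg0)

theorem main (h : Nat.card G = 360) : Nonempty (G ≃* ↥(alternatingGroup (Fin 6))) := by
  classical
  haveI : Fact (Nat.Prime 3) := ⟨by norm_num⟩
  haveI : Fact (Nat.Prime 5) := ⟨by norm_num⟩
  rcases card_sylow5 h with h5 | h5
  · exact iso_of_card_sylow5_six h h5
  · have : Fintype (Sylow 3 G) := Fintype.ofFinite _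
    have hZ := isZassenhaus h h5
    obtain ⟨a, b, hab⟩ := exists_ne_sylow3 h
    have hc := card_two_stab h hab
    have hΩ : Fintype.card (Sylow 3 G) = 10 := by
      rw [← Nat.card_eq_fintype_card, card_sylow3 h]
    obtain ⟨p, f, K, instK, instF, hp, -, hK, hΩK, ⟨e⟩⟩ := Cfsg.Agent.S0742.result hZ hab
      (by rw [hc]; decide) (by rw [hc, hΩ])
    have hK9 : Fintype.card K = 9 := by
      rw [hΩ] at hΩK
      omega
    obtain ⟨e'⟩ := Cfsg.Agent.S0254.result (F := K) hK9
    exact ⟨e.trans e'⟩

end Cfsg.Agent.Helper2.Ord360
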