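import Mathlib
import Cfsg.Agent.Helper2.Invol

set_option autoImplicit false

namespace Cfsg.Agent.Helper2

variable {G : Type*} [Group G]

/-- For involutions `x, y` and `i : ℤ`: `x * (x*y)^i = (x*y)^(-i) * x`. -/
theorem invol_mul_zpow {x y : G} (hx : x * x = 1) (hy : y * y = 1) (i : ℤ) :
    x * (x * y) ^ i = (x * y) ^ (-i) * x := by
  have hxinv : x⁻¹ = x := inv_eq_of_mul_eq_one_left hx
  have h1 : x * (x * y) * x⁻¹ = (x * y)⁻¹ := by
    rw [inv_mul_invol hx hy, hxinv, ← mul_assoc, hx, one_mul]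
  have h2 : x * (x * y) ^ i * x⁻¹ = (x * y) ^ (-i) := by
    rw [← conj_zpow, h1, inv_zpow, zpow_neg]
  rw [← h2, hxinv, mul_assoc, mul_assoc, hx, mul_one]

theorem zpow_mul_invol {x y : G} (hx : x * x = 1) (hy : y * y = 1) (i : ℤ) :
    (x * y) ^ i * x = x * (x * y) ^ (-i) := by
  rw [invol_mul_zpow hx hy, neg_neg]

/-- Elements of the subgroup generated by two involutions `x, y` are `(x*y)^i` or `x * (x*y)^i`. -/
theorem mem_closure_pair_invol {x y : G} (hx : x * x = 1) (hy : y * y = 1) {d : G}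
    (hd : d ∈ Subgroup.closure ({x, y} : Set G)) :
    ∃ i : ℤ, d = (x * y) ^ i ∨ d = x * (x * y) ^ i := by
  induction hd using Subgroup.closure_induction with
  | mem a ha =>
    rcases ha with rfl | ha
    · exact ⟨0, Or.inr (by simp)⟩
    · rw [Set.mem_singleton_iff] at ha
      subst ha
      exact ⟨1, Or.inr (by rw [zpow_one, ← mul_assoc, hx, one_mul])⟩
  | one => exact ⟨0, Or.inl (by simp)⟩
  | mul a b _ _ iha ihb =>
    obtain ⟨i, hi | hi⟩ := iha <;> obtain ⟨j, hj | hj⟩ := ihb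
    · exact ⟨i + j, Or.inl (by rw [hi, hj, zpow_add])⟩
    · refine ⟨-i + j, Or.inr ?_⟩
      rw [hi, hj, ← mul_assoc, zpow_mul_invol hx hy, mul_assoc, ← zpow_add]
    · refine ⟨i + j, Or.inr ?_⟩
      rw [hi, hj, mul_assoc, ← zpow_add]
    · refine ⟨-i + j, Or.inl ?_⟩
      rw [hi, hj]
      calc x * (x * y) ^ i * (x * (x * y) ^ j) = x * ((x * y) ^ i * x) * (x * y) ^ j := by group
        _ = x * (x * (x * y) ^ (-i)) * (x * y) ^ j := by rw [zpow_mul_invol hx hy]
        _ = (x * x) * ((x * y) ^ (-i) * (x * y) ^ j) := by group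
        _ = (x * y) ^ (-i + j) := by rw [hx, one_mul, zpow_add]
  | inv a _ iha =>
    obtain ⟨i, hi | hi⟩ := iha
    · exact ⟨-i, Or.inl (by rw [hi, zpow_neg])⟩
    · refine ⟨i, Or.inr ?_⟩
      have hxinv : x⁻¹ = x := inv_eq_of_mul_eq_one_left hx
      rw [hi, mul_inv_rev, hxinv, ← zpow_neg, zpow_mul_invol hx hy, neg_neg]

/-- Conjugates of `x` under the subgroup generated by involutions `x, y`. -/
theorem conj_closure_pair_invol {x y : G} (hx : x * x = 1) (hy : y * y = 1) {d : G}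
    (hd : d ∈ Subgroup.closure ({x, y} : Set G)) :
    ∃ i : ℤ, d * x * d⁻¹ = x * (x * y) ^ (2 * i) := by
  have hxinv : x⁻¹ = x := inv_eq_of_mul_eq_one_left hx
  obtain ⟨i, hi | hi⟩ := mem_closure_pair_invol hx hy hd
  · refine ⟨-i, ?_⟩
    rw [hi, zpow_mul_invol hx hy, mul_assoc, ← zpow_neg, ← zpow_add]
    congr 2; ring
  · refine ⟨i, ?_⟩
    rw [hi, mul_inv_rev, hxinv]
    calc x * (x * y) ^ i * x * (((x * y) ^ i)⁻¹ * x)
        = x * ((x * y) ^ i * x) * (((x * y) ^ i)⁻¹ * x) := by group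
      _ = x * (x * (x * y) ^ (-i)) * ((x * y) ^ (-i) * x) := by
          rw [zpow_mul_invol hx hy, zpow_neg]
      _ = (x * x) * ((x * y) ^ (-i) * (x * y) ^ (-i)) * x := by group
      _ = (x * y) ^ (-i + -i) * x := by rw [hx, one_mul, zpow_add]
      _ = x * (x * y) ^ (2 * i) := by
          rw [zpow_mul_invol hx hy]; congr 2; ring

end Cfsg.Agent.Helper2
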