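import Mathlib
import Cfsg.Agent.Helper2.Dihedral

set_option autoImplicit false

namespace Cfsg.Agent.Helper2

variable {G : Type*} [Group G]

theorem pw_add [Finite G] (c : G) (i j : ZMod (orderOf c)) :
    c ^ (i + j).val = c ^ i.val * c ^ j.val := by
  have : NeZero (orderOf c) := ⟨(orderOf_pos c).ne'⟩
  rw [ZMod.val_add, pow_mod_orderOf, pow_add]

theorem pw_sub [Finite G] (c : G) (i j : ZMod (orderOf c)) :
    c ^ (j - i).val = (c ^ i.val)⁻¹ * c ^ j.val := by
  have := pw_add c i (j - i)
  rw [add_sub_cancel] at this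
  rw [this, inv_mul_cancel_left]

theorem pw_injective [Finite G] (c : G) :
    Function.Injective (fun i : ZMod (orderOf c) => c ^ i.val) := by
  have : NeZero (orderOf c) := ⟨(orderOf_pos c).ne'⟩
  intro i j h
  have h' : c ^ i.val = c ^ j.val := h
  rw [pow_eq_pow_iff_modEq] at h'
  have := Nat.ModEq.eq_of_lt_of_lt h' (ZMod.val_lt i) (ZMod.val_lt j)
  exact ZMod.val_injective _ this

theorem pow_mul_invol' {x y : G} (hx : x * x = 1) (hy : y * y = 1) (k : ℕ) :
    (x * y) ^ k * x = x * ((x * y) ^ k)⁻¹ := by
  have := zpow_mul_invol hx hy (k : ℤ)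
  rwa [zpow_neg, zpow_natCast] at this

/-- For distinct nontrivial involutions `x, y`, `x` is not a power of `x * y`. -/
theorem invol_ne_pow {x y : G} (hx : x * x = 1) (hy : y * y = 1) (hx1 : x ≠ 1) (hy1 : y ≠ 1)
    (k : ℕ) : x ≠ (x * y) ^ k := by
  intro h
  have hcomm : x * (x * y) = (x * y) * x := by
    have : Commute ((x * y) ^ k) (x * y) := (Commute.refl _).pow_left k
    rw [← h] at this; exact this.eq
  have hc : (x * y) * x = x * (x * y)⁻¹ := by simpa using pow_mul_invol' hx hy 1
  have hcc : (x * y) * (x * y) = 1 := by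
    have h1 : x * (x * y) = x * (x * y)⁻¹ := hcomm.trans hc
    exact mul_eq_one_iff_eq_inv.mpr (mul_left_cancel h1)
  rcases Nat.even_or_odd' k with ⟨m, hm | hm⟩
  · apply hx1; rw [h, hm, pow_mul, pow_two, hcc, one_pow]
  · apply hy1
    have h2 : x = x * y := by
      rw [hm, pow_succ, pow_mul, pow_two, hcc, one_pow, one_mul] at h; exact h
    have h3 : x * y = x * 1 := by rw [mul_one]; exact h2.symm
    exact mul_left_cancel h3

/-- The canonical map from the dihedral group to the group generated by two involutions. -/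
noncomputable def dihFun (x y : G) : DihedralGroup (orderOf (x * y)) → G
  | DihedralGroup.r i => (x * y) ^ i.val
  | DihedralGroup.sr i => x * (x * y) ^ i.val

theorem dihFun_mul [Finite G] {x y : G} (hx : x * x = 1) (hy : y * y = 1)
    (a b : DihedralGroup (orderOf (x * y))) :
    dihFun x y (a * b) = dihFun x y a * dihFun x y b := by
  cases a with
  | r i =>
    cases b with
    | r j =>
      rw [DihedralGroup.r_mul_r]
      exact pw_add _ i j
    | sr j =>
      rw [DihedralGroup.r_mul_sr]
      show x * (x * y) ^ (j - i).val = (x * y) ^ i.val * (x * (x * y) ^ j.val)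
      rw [pw_sub, ← mul_assoc ((x * y) ^ i.val), pow_mul_invol' hx hy, mul_assoc]
  | sr i =>
    cases b with
    | r j =>
      rw [DihedralGroup.sr_mul_r]
      show x * (x * y) ^ (i + j).val = x * (x * y) ^ i.val * (x * y) ^ j.val
      rw [pw_add, mul_assoc]
    | sr j =>
      rw [DihedralGroup.sr_mul_sr]
      show (x * y) ^ (j - i).val = x * (x * y) ^ i.val * (x * (x * y) ^ j.val)
      rw [pw_sub, mul_assoc x, ← mul_assoc ((x * y) ^ i.val), pow_mul_invol' hx hy, mul_assoc x,
        ← mul_assoc x x, hx, one_mul]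

noncomputable def dihHom [Finite G] {x y : G} (hx : x * x = 1) (hy : y * y = 1) :
    DihedralGroup (orderOf (x * y)) →* G :=
  MonoidHom.mk' (dihFun x y) (dihFun_mul hx hy)

theorem dihHom_injective [Finite G] {x y : G} (hx : x * x = 1) (hy : y * y = 1) (hx1 : x ≠ 1)
    (hy1 : y ≠ 1) : Function.Injective (dihHom hx hy) := by
  intro a b h
  have h' : dihFun x y a = dihFun x y b := h
  cases a with
  | r i =>
    cases b with
    | r j =>
      have : i = j := pw_injective (x * y) h'
      rw [this]
    | sr j =>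
      exfalso
      have h2 : (x * y) ^ i.val = x * (x * y) ^ j.val := h'
      have h3 : x = (x * y) ^ (i - j).val := by
        rw [pw_sub]
        have hc : Commute ((x * y) ^ j.val)⁻¹ ((x * y) ^ i.val) :=
          ((Commute.refl (x * y)).pow_pow _ _).inv_left
        rw [hc.eq, h2, mul_inv_cancel_right]
      exact invol_ne_pow hx hy hx1 hy1 _ h3
  | sr i =>
    cases b with
    | r j =>
      exfalso
      have h2 : x * (x * y) ^ i.val = (x * y) ^ j.val := h'
      have h3 : x = (x * y) ^ (j - i).val := by
        rw [pw_sub]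
        have hc : Commute ((x * y) ^ i.val)⁻¹ ((x * y) ^ j.val) :=
          ((Commute.refl (x * y)).pow_pow _ _).inv_left
        rw [hc.eq, ← h2, mul_inv_cancel_right]
      exact invol_ne_pow hx hy hx1 hy1 _ h3
    | sr j =>
      have h2 : x * (x * y) ^ i.val = x * (x * y) ^ j.val := h'
      have : i = j := pw_injective (x * y) (mul_left_cancel h2)
      rw [this]

theorem dihHom_range [Finite G] {x y : G} (hx : x * x = 1) (hy : y * y = 1) :
    (dihHom hx hy).range = Subgroup.closure ({x, y} : Set G) := by
  have : NeZero (orderOf (x * y)) := ⟨(orderOf_pos (x * y)).ne'⟩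
  have hxm : x ∈ Subgroup.closure ({x, y} : Set G) := Subgroup.subset_closure (by simp)
  have hym : y ∈ Subgroup.closure ({x, y} : Set G) := Subgroup.subset_closure (by simp)
  apply le_antisymm
  · rintro _ ⟨d, rfl⟩
    cases d with
    | r i => exact Subgroup.pow_mem _ (Subgroup.mul_mem _ hxm hym) _
    | sr i => exact Subgroup.mul_mem _ hxm (Subgroup.pow_mem _ (Subgroup.mul_mem _ hxm hym) _)
  · rw [Subgroup.closure_le]
    rintro z (rfl | rfl)
    · refine ⟨DihedralGroup.sr 0, ?_⟩
      show z * (z * y) ^ (0 : ZMod (orderOf (z * y))).val = z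
      rw [ZMod.val_zero, pow_zero, mul_one]
    · refine ⟨DihedralGroup.sr 1, ?_⟩
      show x * (x * z) ^ (1 : ZMod (orderOf (x * z))).val = z
      rcases Nat.lt_or_ge 1 (orderOf (x * z)) with h | h
      · have : Fact (1 < orderOf (x * z)) := ⟨h⟩
        rw [ZMod.val_one, pow_one, ← mul_assoc, hx, one_mul]
      · have h1 : orderOf (x * z) = 1 := le_antisymm h (orderOf_pos _)
        have h2 : x * z = 1 := orderOf_eq_one_iff.mp h1
        rw [h2, one_pow, mul_one]
        have : x * z = x * x := by rw [h2, hx]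
        exact (mul_left_cancel this).symm ▸ rfl

/-- Two distinct involutions generate a dihedral group. -/
theorem closure_pair_invol_equiv_dihedral [Finite G] {x y : G} (hx : x * x = 1) (hy : y * y = 1)
    (hx1 : x ≠ 1) (hy1 : y ≠ 1) :
    Nonempty (↥(Subgroup.closure ({x, y} : Set G)) ≃* DihedralGroup (orderOf (x * y))) := by
  have e1 := MonoidHom.ofInjective (dihHom_injective hx hy hx1 hy1)
  have e2 := MulEquiv.subgroupCongr (dihHom_range hx hy)
  exact ⟨(e1.trans e2).symm⟩

end Cfsg.Agent.Helper2
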