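import Mathlib
import Cfsg.Agent.Helper2.SmallOrder

set_option autoImplicit false

/-! Recognising alternating groups by a subgroup of small index. -/

namespace Cfsg.Agent.Helper2.AltRecog

open Subgroup

/-- A simple group of order `n!/2` with a subgroup of index `n` is isomorphic to `A_n`. -/
theorem equiv_alternating_of_index {G : Type*} [Group G] [Finite G] [IsSimpleGroup G] (n : ℕ)
    (hn : 2 ≤ n) (H : Subgroup G) (hidx : H.index = n) (hcard : 2 * Nat.card G = n.factorial) :
    Nonempty (G ≃* alternatingGroup (Fin n)) := by
  classical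
  set φ := MulAction.toPermHom G (G ⧸ H) with hφ
  have hker : φ.ker = ⊥ := by
    rcases (MonoidHom.normal_ker φ).eq_bot_or_eq_top with h | h
    · exact h
    · exfalso
      have hH : H = ⊤ := by
        rw [eq_top_iff, ← h, hφ, ← Subgroup.normalCore_eq_ker]
        exact Subgroup.normalCore_le H
      rw [hH, Subgroup.index_top] at hidx
      omega
  have hinj : Function.Injective φ := (MonoidHom.ker_eq_bot_iff φ).mp hker
  have hq : Nat.card (G ⧸ H) = n := by rw [← Subgroup.index_eq_card, hidx]
  set ψ : G →* Equiv.Perm (Fin n) :=
    (Equiv.permCongrHom (Finite.equivFinOfCardEq hq)).toMonoidHom.comp φ with hψ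
  have hψinj : Function.Injective ψ := by
    intro a b hab
    apply hinj
    exact (Equiv.permCongrHom (Finite.equivFinOfCardEq hq)).injective hab
  have hrange : ψ.range = alternatingGroup (Fin n) := by
    apply Equiv.Perm.eq_alternatingGroup_of_index_eq_two
    have h1 := ψ.range.card_mul_index
    have h2 : Nat.card ψ.range = Nat.card G :=
      (Nat.card_congr (MonoidHom.ofInjective hψinj).toEquiv).symm
    have h3 : Nat.card (Equiv.Perm (Fin n)) = n.factorial := by
      rw [Nat.card_perm, Nat.card_eq_fintype_card, Fintype.card_fin]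
    rw [h2, h3, ← hcard] at h1
    have hpos : 0 < Nat.card G := Nat.card_pos
    have : Nat.card G * ψ.range.index = Nat.card G * 2 := by rw [h1]; ring
    exact Nat.eq_of_mul_eq_mul_left hpos this
  exact ⟨(MonoidHom.ofInjective hψinj).trans (MulEquiv.subgroupCongr hrange)⟩

end Cfsg.Agent.Helper2.AltRecog
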