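import Mathlib

set_option autoImplicit false

/-! Elementary facts on involutions in Zassenhaus-type actions. -/

namespace Cfsg.Agent.Helper2.Zass

open MulAction

variable {G Ω : Type*} [Group G] [MulAction G Ω] [Fintype Ω]

/-- A non-identity element has at most two fixed points when three-point stabilisers are trivial. -/
theorem card_fixedBy_le_two
    (h3 : ∀ g : G, ∀ a b c : Ω, a ≠ b → b ≠ c → a ≠ c → g • a = a → g • b = b → g • c = c → g = 1)
    (s : G) (hs : s ≠ 1) : Nat.card (fixedBy Ω s) ≤ 2 := by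
  classical
  haveI : Fintype (fixedBy Ω s) := Fintype.ofFinite _
  by_contra hlt
  push_neg at hlt
  rw [Nat.card_eq_fintype_card] at hlt
  obtain ⟨x, y, z, hxy, hxz, hyz⟩ := Fintype.two_lt_card_iff.mp hlt
  apply hs
  exact h3 s x y z (fun h => hxy (Subtype.ext h)) (fun h => hyz (Subtype.ext h))
    (fun h => hxz (Subtype.ext h)) x.2 y.2 z.2

theorem two_le_card_fixedBy (s : G) (x y : Ω) (hxy : x ≠ y) (hx : s • x = x) (hy : s • y = y) :
    2 ≤ Nat.card (fixedBy Ω s) := by
  classical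
  haveI : Fintype (fixedBy Ω s) := Fintype.ofFinite _
  rw [Nat.card_eq_fintype_card]
  exact Fintype.one_lt_card_iff.mpr ⟨⟨x, hx⟩, ⟨y, hy⟩, fun h => hxy (congrArg Subtype.val h)⟩

/-- The number of fixed points of an involution has the parity of the degree. -/
theorem card_fixedBy_mod_two (s : G) (hs : s ^ 2 = 1) :
    Nat.card (fixedBy Ω s) % 2 = Fintype.card Ω % 2 := by
  classical
  haveI : Fact (Nat.Prime 2) := ⟨Nat.prime_two⟩
  have hf : (MulAction.toEndHom (M := G) (α := Ω) s) ^ 2 ^ 1 = 1 := by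
    rw [pow_one, ← map_pow, hs, map_one]
  have h := Equiv.Perm.card_fixedPoints_modEq (p := 2) (n := 1) hf
  have h' : Nat.card Ω % 2 = Nat.card ↑(fixedBy Ω s) % 2 := by
    simp only [Fintype.card_eq_nat_card] at h
    exact h
  rw [← h', Nat.card_eq_fintype_card]

omit [Fintype Ω] in
/-- Conjugate an involution moving `c` to one swapping `a` and `b`. -/
theorem exists_swap_conj
    (h2 : ∀ {a b c d : Ω}, a ≠ b → c ≠ d → ∃ g : G, g • a = c ∧ g • b = d)
    (t : G) (ht : orderOf t = 2) (c : Ω) (hc : t • c ≠ c) {a b : Ω} (hab : a ≠ b) :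
    ∃ h : G, orderOf (h * t * h⁻¹) = 2 ∧ (h * t * h⁻¹) • a = b ∧ (h * t * h⁻¹) • b = a ∧
      h • c = a ∧ h • (t • c) = b := by
  have ht2 : t ^ 2 = 1 := by rw [← ht]; exact pow_orderOf_eq_one t
  have ht1 : t ≠ 1 := by
    intro h; rw [h, orderOf_one] at ht; omega
  have htd : t • (t • c) = c := by rw [smul_smul, ← sq, ht2, one_smul]
  obtain ⟨h, hca, hdb⟩ := h2 (Ne.symm hc) hab
  refine ⟨h, ?_, ?_, ?_, hca, hdb⟩
  · haveI : Fact (Nat.Prime 2) := ⟨Nat.prime_two⟩
    apply orderOf_eq_prime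
    · rw [conj_pow, ht2, mul_one, mul_inv_cancel]
    · intro h1
      apply ht1
      have : t = h⁻¹ * (h * t * h⁻¹) * h := by group
      rw [this, h1]; group
  · rw [mul_smul, mul_smul, ← hca, inv_smul_smul, hdb]
  · rw [mul_smul, mul_smul, ← hdb, inv_smul_smul, htd]
    exact hca

omit [Fintype Ω] in
/-- An element swapping two points has even order. -/
theorem two_dvd_orderOf_of_swap [Finite G] (g : G) {a b : Ω} (hab : a ≠ b) (hga : g • a = b)
    (hgb : g • b = a) : 2 ∣ orderOf g := by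
  by_contra hodd
  have hodd' : Odd (orderOf g) := Nat.odd_iff.mpr (by omega)
  obtain ⟨k, hk⟩ := hodd'
  have h1 : g ^ (2 * (k + 1)) = g := by
    rw [show 2 * (k + 1) = (2 * k + 1) + 1 by ring, ← hk, pow_succ, pow_orderOf_eq_one, one_mul]
  have h2a : g ^ 2 ∈ stabilizer G a := by
    rw [mem_stabilizer_iff, sq, mul_smul, hga, hgb]
  have h3 : (g ^ 2) ^ (k + 1) ∈ stabilizer G a := pow_mem h2a _
  rw [← pow_mul, h1, mem_stabilizer_iff, hga] at h3
  exact hab h3.symm

end Cfsg.Agent.Helper2.Zass
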