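import Mathlib
import Cfsg.Agent.Helper2.ZasOddD

set_option autoImplicit false

/-!
Zassenhaus groups with two-point stabiliser `H` of odd order and no normal `q`-complements for
`q ∣ |H|`: `H` is cyclic, self-centralising and inverted by every swapping element.
-/

namespace Cfsg.Agent.Helper2.ZasOdd

open MulAction

section generic

variable {G : Type*} [Group G]

theorem commute_of_sq_commute {y w : G} (hodd : Odd (orderOf y)) (h : Commute (y * y) w) :
    Commute y w := by
  obtain ⟨j, hj⟩ := hodd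
  have : y = (y * y) ^ (j + 1) := by
    rw [← pow_two, ← pow_mul]
    have e : 2 * (j + 1) = orderOf y + 1 := by omega
    rw [e, pow_succ, pow_orderOf_eq_one, one_mul]
  rw [this]
  exact h.pow_left _

theorem odd_orderOf_of_mem {H : Subgroup G} (hodd : Odd (Nat.card ↥H)) {y : G} (hy : y ∈ H) :
    Odd (orderOf y) := by
  apply Odd.of_dvd_nat hodd
  have := orderOf_dvd_natCard (⟨y, hy⟩ : ↥H)
  rwa [Subgroup.orderOf_mk] at this

theorem eq_one_of_eq_inv {H : Subgroup G} (hodd : Odd (Nat.card ↥H)) {y : G} (hy : y ∈ H)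
    (h : y = y⁻¹) : y = 1 := by
  have h1 : y ^ 2 = 1 := by
    rw [pow_two]
    nth_rewrite 2 [h]
    exact mul_inv_cancel y
  have h2 : orderOf y ∣ 2 := orderOf_dvd_of_pow_eq_one h1
  have h3 := odd_orderOf_of_mem hodd hy
  rcases (Nat.dvd_prime Nat.prime_two).mp h2 with h4 | h4
  · exact orderOf_eq_one_iff.mp h4
  · rw [h4] at h3
    exact absurd h3 (by decide)

end generic

section zas

variable {G Ω : Type*} [Group G] [MulAction G Ω] [Finite G]
  (hZ : Cfsg.IsZassenhausGroup G Ω) {a b : Ω} (hab : a ≠ b)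
  (hodd : Odd (Nat.card ↥(HH G a b)))
  (hnil : ∀ q : ℕ, q.Prime → q ∣ Nat.card ↥(HH G a b) →
    ¬ ∃ N : Subgroup G, N.Normal ∧ N.index = q ^ (Nat.card G).factorization q)
include hZ hab hodd hnil

theorem commutator_central : ∀ h ∈ HH G a b,
    ∀ z ∈ (⁅HH G a b, HH G a b⁆ : Subgroup G), h * z = z * h := by
  classical
  haveI hzg : IsZGroup ↥(HH G a b) := isZGroup_HH hZ hab hodd
  have hXeq : (commutator ↥(HH G a b)).map (HH G a b).subtype = ⁅HH G a b, HH G a b⁆ :=
    Subgroup.map_subtype_commutator _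
  have hXH : (⁅HH G a b, HH G a b⁆ : Subgroup G) ≤ HH G a b := by
    rw [← hXeq]
    rintro _ ⟨x, -, rfl⟩
    exact x.2
  -- a generator
  haveI hcyc : IsCyclic ↥(commutator ↥(HH G a b)) :=
    IsZGroup.isCyclic_commutator ↥(HH G a b)
  obtain ⟨x₀, hx₀⟩ := IsCyclic.exists_generator (α := ↥(commutator ↥(HH G a b)))
  have hxX : ((x₀ : ↥(HH G a b)) : G) ∈ (⁅HH G a b, HH G a b⁆ : Subgroup G) := by
    rw [← hXeq]
    exact ⟨x₀.1, x₀.2, rfl⟩
  have hgen : ∀ z ∈ (⁅HH G a b, HH G a b⁆ : Subgroup G),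
      ∃ n : ℤ, z = ((x₀ : ↥(HH G a b)) : G) ^ n := by
    intro z hz
    rw [← hXeq] at hz
    obtain ⟨w, hw, rfl⟩ := hz
    obtain ⟨n, hn⟩ := Subgroup.mem_zpowers_iff.mp (hx₀ ⟨w, hw⟩)
    refine ⟨n, ?_⟩
    have := congrArg (fun t : ↥(commutator ↥(HH G a b)) => ((t : ↥(HH G a b)) : G)) hn
    simpa using this.symm
  -- normalised by everything normalising `H`
  have hXnorm : ∀ g : G, (∀ h ∈ HH G a b, g * h * g⁻¹ ∈ HH G a b) →
      ∀ z ∈ (⁅HH G a b, HH G a b⁆ : Subgroup G),
        g * z * g⁻¹ ∈ (⁅HH G a b, HH G a b⁆ : Subgroup G) := by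
    intro g hg z hz
    have h1 : Subgroup.map (MulAut.conj g).toMonoidHom (HH G a b) ≤ HH G a b := by
      rintro _ ⟨h, hh, rfl⟩
      exact hg h hh
    have h2 : Subgroup.map (MulAut.conj g).toMonoidHom (⁅HH G a b, HH G a b⁆ : Subgroup G) ≤
        ⁅HH G a b, HH G a b⁆ := by
      rw [Subgroup.map_commutator]
      exact Subgroup.commutator_mono h1 h1
    exact h2 ⟨z, hz, rfl⟩
  -- coprimality
  have hcop : (Nat.card ↥(⁅HH G a b, HH G a b⁆ : Subgroup G)).Coprime
      ((⁅HH G a b, HH G a b⁆ : Subgroup G).relIndex (HH G a b)) := by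
    have h1 := IsZGroup.coprime_commutator_index ↥(HH G a b)
    have h2 : Nat.card ↥(⁅HH G a b, HH G a b⁆ : Subgroup G) =
        Nat.card ↥(commutator ↥(HH G a b)) := by
      rw [← hXeq]
      exact Subgroup.card_map_of_injective (HH G a b).subtype_injective
    have h3 : (⁅HH G a b, HH G a b⁆ : Subgroup G).relIndex (HH G a b) =
        (commutator ↥(HH G a b)).index := by
      rw [Subgroup.relIndex, ← hXeq, Subgroup.subgroupOf,
        Subgroup.comap_map_eq_self_of_injective (HH G a b).subtype_injective]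
    rw [h2, h3]
    exact h1
  -- the centraliser of `X` in `H`
  have hC : HH G a b ⊓ Subgroup.centralizer ((⁅HH G a b, HH G a b⁆ : Subgroup G) : Set G) =
      HH G a b := by
    apply eq_of_sylow_cover inf_le_left
    intro q hq hdvd
    haveI : Fact q.Prime := ⟨hq⟩
    have hXC : (⁅HH G a b, HH G a b⁆ : Subgroup G) ≤
        HH G a b ⊓ Subgroup.centralizer ((⁅HH G a b, HH G a b⁆ : Subgroup G) : Set G) := by
      apply le_inf hXH
      intro z hz
      rw [Subgroup.mem_centralizer_iff]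
      intro w hw
      obtain ⟨n, rfl⟩ := hgen z hz
      obtain ⟨m, rfl⟩ := hgen w hw
      exact ((Commute.refl _).zpow_zpow m n).eq
    have h1 : q ∣ (⁅HH G a b, HH G a b⁆ : Subgroup G).relIndex (HH G a b) :=
      hdvd.trans (Subgroup.relIndex_dvd_of_le_left (HH G a b) hXC)
    have hqX : ¬ q ∣ Nat.card ↥(⁅HH G a b, HH G a b⁆ : Subgroup G) := by
      intro h
      have h2 := Nat.dvd_gcd h h1
      rw [hcop] at h2
      exact hq.one_lt.ne' (Nat.dvd_one.mp h2)
    have hqH : q ∣ Nat.card ↥(HH G a b) := h1.trans (Subgroup.relIndex_dvd_card _ _)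
    have hq2 : q ≠ 2 := by
      rintro rfl
      have := hodd
      rw [Nat.odd_iff] at this
      omega
    obtain ⟨P, hP, hP1⟩ := exists_sylow_le hZ hab hodd q hqH
    refine ⟨P, le_inf hP ?_⟩
    haveI := sylow_cyclic hZ hab hodd q P hP
    have hPX : (P : Subgroup G) ⊓ (⁅HH G a b, HH G a b⁆ : Subgroup G) = ⊥ := by
      apply Subgroup.inf_eq_bot_of_coprime
      obtain ⟨k, hk⟩ := IsPGroup.iff_card.mp P.isPGroup'
      rw [hk]
      exact Nat.Coprime.pow_left k ((Nat.Prime.coprime_iff_not_dvd hq).mpr hqX)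
    have hcent : ∀ g ∈ HH G a b, (∀ y ∈ (P : Subgroup G), g * y * g⁻¹ ∈ (P : Subgroup G)) →
        ∀ y ∈ (P : Subgroup G), g * y * g⁻¹ = y := by
      intro g hg hgN y hy
      have h1 : g * y * g⁻¹ * y⁻¹ ∈ (P : Subgroup G) ⊓ (⁅HH G a b, HH G a b⁆ : Subgroup G) := by
        refine Subgroup.mem_inf.mpr ⟨mul_mem (hgN y hy) (inv_mem hy), ?_⟩
        have := Subgroup.commutator_mem_commutator hg (hP hy)
        rwa [commutatorElement_def] at this
      rw [hPX, Subgroup.mem_bot] at h1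
      exact mul_inv_eq_one.mp h1
    obtain ⟨s₀, hs₀a, hs₀b⟩ := exists_swap hZ hab
    obtain ⟨h, hh, hN⟩ := exists_mul_swap_normalizes hZ hab q P hP hs₀a hs₀b
    obtain ⟨hha, hhb⟩ := mem_HH.mp hh
    have hsa : (h * s₀) • a = b := by rw [mul_smul, hs₀a, hhb]
    have hsb : (h * s₀) • b = a := by rw [mul_smul, hs₀b, hha]
    have hinv := swap_inverts hZ hab q hq2 (hnil q hq hqH) P hP hP1 hcent hsa hsb hN
    intro y hy
    rw [Subgroup.mem_centralizer_iff]
    intro w hw
    generalize h * s₀ = s at hsa hsb hinv hN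
    have hsia : s⁻¹ • a = b := by rw [← hsb, inv_smul_smul]
    have hsib : s⁻¹ • b = a := by rw [← hsa, inv_smul_smul]
    have hsX := hXnorm s (fun h' hh' => swap_conj_mem hsa hsb hh')
    have hsiX := hXnorm s⁻¹ (fun h' hh' => swap_conj_mem hsia hsib hh')
    have hyX := hXnorm y (fun h' hh' =>
      (HH G a b).mul_mem ((HH G a b).mul_mem (hP hy) hh') ((HH G a b).inv_mem (hP hy)))
    have hw' : s⁻¹ * w * s ∈ (⁅HH G a b, HH G a b⁆ : Subgroup G) := by
      have := hsiX w hw
      rwa [inv_inv] at this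
    have key := conj_comm_of_cyclic _ hgen hxX hsX hyX hw'
    have e1 : s * (s⁻¹ * w * s) * s⁻¹ = w := by group
    have e2 : s * (y * (s⁻¹ * w * s) * y⁻¹) * s⁻¹ = (s * y * s⁻¹) * w * (s * y * s⁻¹)⁻¹ := by
      group
    rw [e1, e2, hinv y hy, inv_inv] at key
    -- key : y⁻¹ * w * y = y * w * y⁻¹
    have hsq : Commute (y * y) w := by
      have : y * y * w = w * (y * y) := by
        calc y * y * w = y * (y * w * y⁻¹) * y := by group
          _ = y * (y⁻¹ * w * y) * y := by rw [key]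
          _ = w * (y * y) := by group
      exact this
    exact (commute_of_sq_commute (odd_orderOf_of_mem hodd (hP hy)) hsq).eq.symm
  intro h hh z hz
  have h1 : h ∈ HH G a b ⊓ Subgroup.centralizer ((⁅HH G a b, HH G a b⁆ : Subgroup G) : Set G) := by
    rw [hC]; exact hh
  exact ((Subgroup.mem_centralizer_iff.mp h1.2) z hz).symm

end zas

end Cfsg.Agent.Helper2.ZasOdd
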