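import Mathlib
import Cfsg.Agent.Helper2.ZasOddE

set_option autoImplicit false

/-!
Zassenhaus groups with two-point stabiliser `H` of odd order and no normal `q`-complements for
`q ∣ |H|`: final assembly.
-/

namespace Cfsg.Agent.Helper2.ZasOdd

open MulAction

section zas

variable {G Ω : Type*} [Group G] [MulAction G Ω] [Finite G]
  (hZ : Cfsg.IsZassenhausGroup G Ω) {a b : Ω} (hab : a ≠ b)
  (hodd : Odd (Nat.card ↥(HH G a b)))
  (hnil : ∀ q : ℕ, q.Prime → q ∣ Nat.card ↥(HH G a b) →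
    ¬ ∃ N : Subgroup G, N.Normal ∧ N.index = q ^ (Nat.card G).factorization q)
include hZ hab hodd hnil

theorem HH_comm : ∀ h₁ ∈ HH G a b, ∀ h₂ ∈ HH G a b, h₁ * h₂ = h₂ * h₁ := by
  haveI : IsZGroup ↥(HH G a b) := isZGroup_HH hZ hab hodd
  have hcen := commutator_central hZ hab hodd hnil
  intro h₁ hh₁ h₂ hh₂
  have hker : (Abelianization.of : ↥(HH G a b) →* Abelianization ↥(HH G a b)).ker ≤
      Subgroup.center ↥(HH G a b) := by
    rw [Abelianization.ker_of]
    intro z hz
    rw [Subgroup.mem_center_iff]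
    intro g
    apply Subtype.ext
    have hz' : (z : G) ∈ (⁅HH G a b, HH G a b⁆ : Subgroup G) := by
      rw [← Subgroup.map_subtype_commutator]
      exact ⟨z, hz, rfl⟩
    exact hcen g g.2 z hz'
  have := commutative_of_cyclic_center_quotient Abelianization.of hker
    (⟨h₁, hh₁⟩ : ↥(HH G a b)) ⟨h₂, hh₂⟩
  exact congrArg Subtype.val this

theorem swap_inverts_all {s : G} (hsa : s • a = b) (hsb : s • b = a) :
    ∀ h ∈ HH G a b, s * h * s⁻¹ = h⁻¹ := by
  have hcomm := HH_comm hZ hab hodd hnil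
  let I : Subgroup G :=
    { carrier := {h | h ∈ HH G a b ∧ s * h * s⁻¹ = h⁻¹}
      one_mem' := ⟨one_mem _, by simp⟩
      mul_mem' := by
        rintro x y ⟨hx, hx'⟩ ⟨hy, hy'⟩
        refine ⟨mul_mem hx hy, ?_⟩
        have e : s * (x * y) * s⁻¹ = (s * x * s⁻¹) * (s * y * s⁻¹) := by group
        rw [e, hx', hy', mul_inv_rev]
        exact hcomm _ (inv_mem hx) _ (inv_mem hy)
      inv_mem' := by
        rintro x ⟨hx, hx'⟩
        refine ⟨inv_mem hx, ?_⟩
        have e : s * x⁻¹ * s⁻¹ = (s * x * s⁻¹)⁻¹ := by group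
        rw [e, hx'] }
  have hIle : I ≤ HH G a b := fun h hh => hh.1
  have hI : I = HH G a b := by
    apply eq_of_sylow_cover hIle
    intro q hq hdvd
    haveI : Fact q.Prime := ⟨hq⟩
    have hqH : q ∣ Nat.card ↥(HH G a b) := hdvd.trans (Subgroup.relIndex_dvd_card _ _)
    have hq2 : q ≠ 2 := by
      rintro rfl
      have := hodd
      rw [Nat.odd_iff] at this
      omega
    obtain ⟨P, hP, hP1⟩ := exists_sylow_le hZ hab hodd q hqH
    refine ⟨P, ?_⟩
    haveI := sylow_cyclic hZ hab hodd q P hP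
    obtain ⟨h, hh, hN⟩ := exists_mul_swap_normalizes hZ hab q P hP hsa hsb
    have hsN : ∀ y ∈ (P : Subgroup G), s * y * s⁻¹ ∈ (P : Subgroup G) := by
      intro y hy
      have h1 := hN y hy
      have h2 : (h * s) * y * (h * s)⁻¹ = h * (s * y * s⁻¹) * h⁻¹ := by group
      have h3 : s * y * s⁻¹ ∈ HH G a b := swap_conj_mem hsa hsb (hP hy)
      have h4 : h * (s * y * s⁻¹) * h⁻¹ = s * y * s⁻¹ := by
        rw [hcomm h hh _ h3]; group
      rw [h2, h4] at h1
      exact h1
    have hcent : ∀ g ∈ HH G a b, (∀ y ∈ (P : Subgroup G), g * y * g⁻¹ ∈ (P : Subgroup G)) →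
        ∀ y ∈ (P : Subgroup G), g * y * g⁻¹ = y := by
      intro g hg _ y hy
      rw [hcomm g hg y (hP hy)]; group
    have hinv := swap_inverts hZ hab q hq2 (hnil q hq hqH) P hP hP1 hcent hsa hsb hsN
    intro y hy
    exact ⟨hP hy, hinv y hy⟩
  intro h hh
  have : h ∈ I := by rw [hI]; exact hh
  exact this.2

theorem main : IsCyclic ↥(HH G a b) ∧
    Subgroup.centralizer ((HH G a b : Subgroup G) : Set G) = HH G a b ∧
    ∀ s : G, s • a = b → s • b = a → ∀ h ∈ HH G a b, s * h * s⁻¹ = h⁻¹ := by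
  have hcomm := HH_comm hZ hab hodd hnil
  refine ⟨?_, ?_, fun s hsa hsb => swap_inverts_all hZ hab hodd hnil hsa hsb⟩
  · haveI : IsZGroup ↥(HH G a b) := isZGroup_HH hZ hab hodd
    exact isCyclic_of_comm (fun x y => Subtype.ext (hcomm x x.2 y y.2))
  · apply le_antisymm
    · intro g hg
      rw [Subgroup.mem_centralizer_iff] at hg
      have hgc : ∀ h ∈ HH G a b, g * h * g⁻¹ = h := by
        intro h hh
        rw [← hg h hh]; group
      have hgN : ∀ h ∈ HH G a b, g * h * g⁻¹ ∈ HH G a b := by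
        intro h hh
        rw [hgc h hh]; exact hh
      rcases normalizer_cases hZ hab (HH G a b) le_rfl (HH_ne_bot hZ hab) hgN with
        ⟨h1, h2⟩ | ⟨h1, h2⟩
      · exact mem_HH.mpr ⟨h1, h2⟩
      · exfalso
        apply HH_ne_bot hZ hab
        rw [eq_bot_iff]
        intro h hh
        rw [Subgroup.mem_bot]
        have h3 := swap_inverts_all hZ hab hodd hnil h1 h2 h hh
        rw [hgc h hh] at h3
        exact eq_one_of_eq_inv hodd hh h3
    · intro h hh
      rw [Subgroup.mem_centralizer_iff]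
      intro h' hh'
      exact hcomm h' hh' h hh

end zas

end Cfsg.Agent.Helper2.ZasOdd
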