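import Mathlib
import Cfsg.Agent.Helper6.ZasClsD

/-!
# Zassenhaus groups of even degree with few classes: an involution commuting with many involutions
-/

set_option autoImplicit false
set_option linter.style.haveILetI false
set_option linter.unusedSectionVars false

namespace Cfsg.Agent.Helper2.FeitOdd

open MulAction Cfsg.Agent.Helper2 Cfsg.Agent.Helper6

variable {G Ω : Type*} [Group G] [MulAction G Ω]

/-- Pairs of distinct involutions whose product satisfies a conjugation-invariant predicate are at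
most the number of classes with the predicate times the group order. -/
theorem card_pairs_le_of_invariant [Fintype G] [DecidableEq G] [Fintype (ConjClasses G)]
    [DecidableEq (ConjClasses G)] (P : G → Prop) [DecidablePred P]
    [DecidablePred (fun C : ConjClasses G => ∃ g, ConjClasses.mk g = C ∧ P g)]
    (hP : ∀ g x : G, P g → P (x * g * x⁻¹)) :
    (((Finset.univ.filter (fun x : G => orderOf x = 2)).offDiag).filter
        (fun p => P (p.1 * p.2))).card ≤
      (Finset.univ.filter (fun C : ConjClasses G =>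
        ∃ g, ConjClasses.mk g = C ∧ P g)).card * Fintype.card G := by
  set inv := Finset.univ.filter (fun x : G => orderOf x = 2) with hinv
  rw [← sum_card_centralizer_filter P hP]
  set T := (Finset.univ.filter P).sigma
    (fun g => Finset.univ.filter (fun t : G => t * g * t⁻¹ = g⁻¹)) with hT
  have h1 : ((inv.offDiag).filter (fun p => P (p.1 * p.2))).card ≤ T.card := by
    apply Finset.card_le_card_of_injOn (fun p => ⟨p.1 * p.2, p.1⟩)
    · rintro ⟨t, s⟩ hp
      simp only [Finset.coe_filter, Finset.mem_offDiag, hinv, Finset.mem_filter, Finset.mem_univ,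
        true_and, Set.mem_ofPred_eq] at hp
      obtain ⟨⟨ht, hs, -⟩, hfpf⟩ := hp
      simp only [hT, Finset.coe_sigma, Set.mem_sigma_iff, Finset.coe_filter, Finset.mem_univ,
        true_and, Set.mem_ofPred_eq]
      refine ⟨hfpf, ?_⟩
      have ht2 := involution_mul_self ht
      have hs2 := involution_mul_self hs
      have htinv : t⁻¹ = t := inv_eq_of_mul_eq_one_left ht2
      have hsinv : s⁻¹ = s := inv_eq_of_mul_eq_one_left hs2
      rw [mul_inv_rev, htinv, hsinv]
      calc t * (t * s) * t = (t * t) * s * t := by group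
        _ = s * t := by rw [ht2, one_mul]
    · rintro ⟨t₁, s₁⟩ _ ⟨t₂, s₂⟩ _ h
      simp only [Sigma.mk.injEq, heq_eq_eq] at h
      obtain ⟨h1, h2⟩ := h
      rw [h2] at h1
      rw [h2, mul_left_cancel h1]
  refine h1.trans ?_
  rw [hT, Finset.card_sigma]
  apply Finset.sum_le_sum
  intro g _
  exact card_inverting_le g

theorem arith_odd (h e' I Pc PX P2 kX : ℕ) (hlt : 2 * (e' + 1) < h - 1)
    (hI : I * (h + 1) = (h + 1) * (h * (e' + 1)))
    (hcover : I * I - I ≤ Pc + PX + P2)
    (hPX : PX ≤ kX * ((h + 1) * (h * (e' + 1))))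
    (hP2 : 2 * P2 ≤ (h + 1) * (h * ((e' + 1) * (e' + 1) - (e' + 1))))
    (hk : 2 * kX ≤ e') :
    h * (e' + 1) * (h - (e' + 1)) ≤ Pc := by
  have hsub : (e' + 1) * (e' + 1) - (e' + 1) = (e' + 1) * e' := by
    apply Nat.sub_eq_of_eq_add
    ring
  rw [hsub] at hP2
  have hIB : I = h * (e' + 1) := by
    apply Nat.eq_of_mul_eq_mul_right (by omega : 0 < h + 1)
    rw [hI]
    ring
  obtain ⟨d, rfl⟩ : ∃ d, h = (e' + 1) + d := ⟨h - (e' + 1), by omega⟩
  have hd : (e' + 1 + d) - (e' + 1) = d := by omega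
  rw [hd]
  have hII : I * I - I + I = I * I := by
    apply Nat.sub_add_cancel
    exact Nat.le_mul_self I
  have hkM := Nat.mul_le_mul_right ((e' + 1 + d + 1) * ((e' + 1 + d) * (e' + 1))) hk
  subst hIB
  nlinarith [hcover, hPX, hP2, hkM, hII]

section

variable [Fintype G] [DecidableEq G] [Fintype Ω] [DecidableEq Ω]
  (hZ : Cfsg.IsZassenhausGroup G Ω) {a b : Ω} (hab : a ≠ b)
  [IsSimpleGroup G]
  (hodd : Odd (Nat.card ↥(stabilizer G a ⊓ stabilizer G b : Subgroup G)))

include hZ hab hodd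

open Classical in
/-- If at most `e` classes miss `H` and the degree is even, some involution commutes with at least
`h - e` further involutions. -/
theorem exists_many_commuting [Fintype (ConjClasses G)] [DecidableEq (ConjClasses G)]
    (h e : ℕ) (hh : Fintype.card Ω = h + 1)
    (he : Nat.card ↥(stabilizer G a ⊓ stabilizer G b : Subgroup G) = e) (hlt : 2 * e < h - 1)
    (hhodd : Odd h)
    (H : Subgroup G) (hHa : H ≤ stabilizer G a)
    (hHfix : ∀ u ∈ H, u ≠ 1 → ∀ c : Ω, u • c = c → c = a)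
    (hT1 : (Finset.univ.filter
      (fun C : ConjClasses G => ∀ g : G, ConjClasses.mk g = C → g ∉ H)).card ≤ e) :
    ∃ t : G, orderOf t = 2 ∧
      h - e ≤ (Finset.univ.filter (fun s : G => orderOf s = 2 ∧ s ≠ t ∧ t * s = s * t)).card := by
  set inv := Finset.univ.filter (fun x : G => orderOf x = 2) with hinv
  set 𝒯 := Finset.univ.filter
    (fun C : ConjClasses G => ∀ g : G, ConjClasses.mk g = C → g ∉ H) with h𝒯
  set 𝒞₀ := Finset.univ.filter (fun C : ConjClasses G =>
    ∃ g, ConjClasses.mk g = C ∧ ∀ c : Ω, g • c ≠ c) with h𝒞₀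
  set 𝒞X := Finset.univ.filter (fun C : ConjClasses G =>
    ∃ g, ConjClasses.mk g = C ∧ ((∀ c : Ω, g • c ≠ c) ∧ g * g ≠ 1)) with h𝒞X
  set 𝒞₂ := (Finset.univ.filter
    (fun x : G => x ∈ stabilizer G a ⊓ stabilizer G b ∧ x ≠ 1)).image ConjClasses.mk with h𝒞₂
  have hmod : (h + 1) % 2 = 0 := by
    obtain ⟨k, hk⟩ := hhodd
    omega
  have hsub0 : 𝒞₀ ⊆ 𝒯 := by
    intro C hC
    simp only [h𝒞₀, h𝒯, Finset.mem_filter, Finset.mem_univ, true_and] at hC ⊢
    obtain ⟨g₀, rfl, hg₀⟩ := hC
    intro g hg hgH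
    obtain ⟨x, hx⟩ := isConj_iff.mp (ConjClasses.mk_eq_mk_iff_isConj.mp hg)
    have hga : g • a = a := mem_stabilizer_iff.mp (hHa hgH)
    apply hg₀ (x • a)
    rw [← hx, mul_smul, mul_smul, inv_smul_smul, hga]
  have hsub2 : 𝒞₂ ⊆ 𝒯 := by
    intro C hC
    simp only [h𝒞₂, Finset.mem_image, Finset.mem_filter, Finset.mem_univ, true_and] at hC
    obtain ⟨x₀, ⟨hx₀E, hx₀1⟩, rfl⟩ := hC
    simp only [h𝒯, Finset.mem_filter, Finset.mem_univ, true_and]
    intro g hg hgH
    obtain ⟨y, hy⟩ := isConj_iff.mp (ConjClasses.mk_eq_mk_iff_isConj.mp hg)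
    have hx₀ := ZasOdd.mem_HH.mp hx₀E
    have hg1 : g ≠ 1 := by
      intro h
      apply hx₀1
      rw [← hy, h]
      group
    have hfix : ∀ c : Ω, x₀ • c = c → g • (y⁻¹ • c) = y⁻¹ • c := by
      intro c hc
      rw [← hy] at hc
      have h2 := congrArg (fun z => y⁻¹ • z) hc
      simp only [mul_smul, inv_smul_smul] at h2
      exact h2
    have h1 := hHfix g hgH hg1 _ (hfix a hx₀.1)
    have h2 := hHfix g hgH hg1 _ (hfix b hx₀.2)
    exact hab (smul_left_cancel _ (h1.trans h2.symm))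
  have hdisj : Disjoint 𝒞₀ 𝒞₂ := by
    rw [Finset.disjoint_left]
    intro C hC0 hC2
    simp only [h𝒞₀, Finset.mem_filter, Finset.mem_univ, true_and] at hC0
    simp only [h𝒞₂, Finset.mem_image, Finset.mem_filter, Finset.mem_univ, true_and] at hC2
    obtain ⟨g₀, rfl, hg₀⟩ := hC0
    obtain ⟨x₀, ⟨hx₀E, -⟩, hx₀⟩ := hC2
    obtain ⟨y, hy⟩ := isConj_iff.mp (ConjClasses.mk_eq_mk_iff_isConj.mp hx₀)
    have hx₀a := (ZasOdd.mem_HH.mp hx₀E).1
    apply hg₀ (y • a)
    rw [← hy, mul_smul, mul_smul, inv_smul_smul, hx₀a]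
  have hcard : 𝒞₀.card + 𝒞₂.card ≤ 𝒯.card := by
    rw [← Finset.card_union_of_disjoint hdisj]
    exact Finset.card_le_card (Finset.union_subset hsub0 hsub2)
  have h2 := zas_card_two_stab_classes hZ hab hodd
  rw [← h𝒞₂, he] at h2
  -- the number of involutions
  have hI := zas_card_involutions_mul hZ hab hodd
  rw [he, hh, hmod, Nat.sub_zero] at hI
  have h3 : h + 1 - 1 = h := by omega
  rw [h3, ← hinv] at hI
  have hodde : Odd e := he ▸ hodd
  have he1 : 1 ≤ e := by
    obtain ⟨k, hk⟩ := hodde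
    omega
  have hIB : inv.card = h * e := by
    apply Nat.eq_of_mul_eq_mul_right (by omega : 0 < h + 1)
    rw [hI]
    ring
  have hIpos : 0 < inv.card := by
    rw [hIB]
    have : 0 < h := by omega
    positivity
  obtain ⟨t₀, ht₀⟩ := Finset.card_pos.mp hIpos
  have ht₀2 : orderOf t₀ = 2 := (Finset.mem_filter.mp ht₀).2
  -- the class of involutions is fixed-point-free and not in `𝒞X`
  have hsubX : 𝒞X ⊆ 𝒞₀.erase (ConjClasses.mk t₀) := by
    intro C hC
    simp only [h𝒞X, Finset.mem_filter, Finset.mem_univ, true_and] at hC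
    obtain ⟨g, rfl, hg, hg2⟩ := hC
    rw [Finset.mem_erase]
    refine ⟨?_, ?_⟩
    · intro hgt
      obtain ⟨x, hx⟩ := isConj_iff.mp (ConjClasses.mk_eq_mk_iff_isConj.mp hgt)
      apply hg2
      have : g = x⁻¹ * t₀ * x := by
        rw [← hx]
        group
      rw [this]
      calc x⁻¹ * t₀ * x * (x⁻¹ * t₀ * x) = x⁻¹ * (t₀ * t₀) * x := by group
        _ = 1 := by rw [involution_mul_self ht₀2]; group
    · simp only [h𝒞₀, Finset.mem_filter, Finset.mem_univ, true_and]
      exact ⟨g, rfl, hg⟩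
  have ht₀mem : ConjClasses.mk t₀ ∈ 𝒞₀ := by
    simp only [h𝒞₀, Finset.mem_filter, Finset.mem_univ, true_and]
    exact ⟨t₀, rfl, zas_involution_no_fix hZ hab hodd (by rw [hh]; exact hmod) ht₀2⟩
  have hXcard : 𝒞X.card + 1 ≤ 𝒞₀.card := by
    have := Finset.card_le_card hsubX
    rw [Finset.card_erase_of_mem ht₀mem] at this
    have hpos : 0 < 𝒞₀.card := Finset.card_pos.mpr ⟨_, ht₀mem⟩
    omega
  -- the cover
  set Pc := (inv.offDiag).filter (fun p => p.1 * p.2 = p.2 * p.1) with hPc
  set PX := (inv.offDiag).filter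
    (fun p => (∀ c : Ω, (p.1 * p.2) • c ≠ c) ∧ (p.1 * p.2) * (p.1 * p.2) ≠ 1) with hPX
  set P2 := (inv.offDiag).filter (fun p => ∃ c : Ω, p.1 • c = p.2 • c ∧ p.1 • c ≠ c) with hP2
  have hcov : inv.offDiag ⊆ Pc ∪ PX ∪ P2 := by
    rintro ⟨t, s⟩ hp
    have hp' := hp
    simp only [Finset.mem_offDiag, hinv, Finset.mem_filter, Finset.mem_univ, true_and] at hp'
    obtain ⟨ht, hs, hts⟩ := hp'
    have hc := zas_pairs_cover hZ hab hodd hp
    simp only [Finset.mem_union] at hc ⊢
    rcases hc with hc | hc | hc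
    · by_cases hsq : (t * s) * (t * s) = 1
      · left; left
        simp only [hPc, Finset.mem_filter]
        refine ⟨hp, ?_⟩
        have ht2 := involution_mul_self ht
        have hs2 := involution_mul_self hs
        show t * s = s * t
        have htinv : t⁻¹ = t := inv_eq_of_mul_eq_one_left ht2
        have hsinv : s⁻¹ = s := inv_eq_of_mul_eq_one_left hs2
        have e1 : t * s = (t * s)⁻¹ := eq_inv_of_mul_eq_one_left hsq
        rw [mul_inv_rev, hsinv, htinv] at e1
        exact e1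
      · left; right
        simp only [hPX, Finset.mem_filter]
        exact ⟨hp, (Finset.mem_filter.mp hc).2, hsq⟩
    · exfalso
      obtain ⟨c, hc1, -⟩ := (Finset.mem_filter.mp hc).2
      exact zas_involution_no_fix hZ hab hodd (by rw [hh]; exact hmod) ht c hc1
    · right
      exact hc
  have hcover := Finset.card_le_card hcov
  rw [Finset.offDiag_card] at hcover
  have hcover' : inv.card * inv.card - inv.card ≤ Pc.card + PX.card + P2.card :=
    hcover.trans ((Finset.card_union_le _ _).trans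
      (Nat.add_le_add_right (Finset.card_union_le _ _) _))
  have hPXle : PX.card ≤ 𝒞X.card * Fintype.card G := by
    have hP : ∀ g x : G, ((∀ c : Ω, g • c ≠ c) ∧ g * g ≠ 1) →
        ((∀ c : Ω, (x * g * x⁻¹) • c ≠ c) ∧ (x * g * x⁻¹) * (x * g * x⁻¹) ≠ 1) := by
      rintro g x ⟨hg, hg2⟩
      refine ⟨?_, ?_⟩
      · intro c hc
        apply hg (x⁻¹ • c)
        have h2 := congrArg (fun z => x⁻¹ • z) hc
        simp only [mul_smul, inv_smul_smul] at h2
        exact h2
      · intro hc
        apply hg2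
        have : g * g = x⁻¹ * ((x * g * x⁻¹) * (x * g * x⁻¹)) * x := by group
        rw [this, hc]
        group
    exact card_pairs_le_of_invariant (fun g : G => (∀ c : Ω, g • c ≠ c) ∧ g * g ≠ 1) hP
  rw [zas_card_group hZ hab, he, hh, h3] at hPXle
  have hP2le := zas_two_mul_card_pairs_two hZ hab hodd
  rw [he, hh, h3, ← hinv, ← hP2] at hP2le
  obtain ⟨e', rfl⟩ : ∃ e', e = e' + 1 := ⟨e - 1, by omega⟩
  have hk : 2 * 𝒞X.card ≤ e' := by omega
  have hkey := arith_odd h e' inv.card Pc.card PX.card P2.card 𝒞X.card hlt hI hcover' hPXle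
    hP2le hk
  by_contra hcon
  push Not at hcon
  have hfib : Pc.card ≤ inv.card * (h - (e' + 1) - 1) := by
    have h4 : Pc.card ≤ (inv.sigma (fun t => Finset.univ.filter
        (fun s : G => orderOf s = 2 ∧ s ≠ t ∧ t * s = s * t))).card := by
      apply Finset.card_le_card_of_injOn (fun p => ⟨p.1, p.2⟩)
      · rintro ⟨t, s⟩ hp
        simp only [hPc, Finset.coe_filter, Finset.mem_offDiag, hinv, Finset.mem_filter,
          Finset.mem_univ, true_and, Set.mem_ofPred_eq] at hp
        obtain ⟨⟨ht, hs, hts⟩, hcomm⟩ := hp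
        simp only [Finset.coe_sigma, Set.mem_sigma_iff, Finset.coe_filter, Finset.mem_univ,
          true_and, Set.mem_ofPred_eq, hinv]
        exact ⟨ht, hs, Ne.symm hts, hcomm⟩
      · rintro ⟨t₁, s₁⟩ _ ⟨t₂, s₂⟩ _ h
        simp only [Sigma.mk.injEq, heq_eq_eq] at h
        rw [h.1, h.2]
    rw [Finset.card_sigma] at h4
    refine h4.trans ?_
    calc (∑ t ∈ inv, (Finset.univ.filter
          (fun s : G => orderOf s = 2 ∧ s ≠ t ∧ t * s = s * t)).card)
        ≤ ∑ _t ∈ inv, (h - (e' + 1) - 1) := by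
          apply Finset.sum_le_sum
          intro t ht
          exact Nat.le_sub_one_of_lt (hcon t (Finset.mem_filter.mp ht).2)
      _ = inv.card * (h - (e' + 1) - 1) := by rw [Finset.sum_const, smul_eq_mul]
  rw [hIB] at hfib
  obtain ⟨D, hD⟩ : ∃ D, h - (e' + 1) = D + 1 := ⟨h - (e' + 1) - 1, by omega⟩
  rw [hD] at hkey hfib
  have hM : 0 < h * (e' + 1) := by
    have : 0 < h := by omega
    positivity
  have e5 : h * (e' + 1) * (D + 1) = h * (e' + 1) * D + h * (e' + 1) := by ring
  have e6 : D + 1 - 1 = D := by omega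
  rw [e6] at hfib
  omega

end

end Cfsg.Agent.Helper2.FeitOdd
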