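import Mathlib
import Cfsg.Agent.Helper6.ZasClsD
import Cfsg.Agent.Helper6.ZasInvF

/-!
# Groups with many involutions; semiregularity of centralisers of fixed-point-free elements
-/

set_option autoImplicit false
set_option linter.style.haveILetI false
set_option linter.unusedSectionVars false

namespace Cfsg.Agent.Helper2.FeitOdd

open MulAction Cfsg.Agent.Helper2 Cfsg.Agent.Helper6

/-- A subgroup with more than half of the elements is everything. -/
theorem eq_top_of_card_gt_half {K : Type*} [Group K] [Finite K] (S : Subgroup K)
    (h : Nat.card K < 2 * Nat.card S) : S = ⊤ := by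
  rw [← Subgroup.index_eq_one]
  have h1 := S.card_mul_index
  have h2 : S.index ≠ 0 := Subgroup.index_ne_zero_of_finite
  by_contra h3
  have h4 : 2 ≤ S.index := by omega
  have h5 : Nat.card S * 2 ≤ Nat.card S * S.index := Nat.mul_le_mul_left _ h4
  omega

/-- A finite group in which more than three quarters of the elements square to the identity has
exponent two. -/
theorem sq_eq_one_of_three_quarters {K : Type*} [Group K] [Fintype K] [DecidableEq K]
    (hJ : 3 * Fintype.card K < 4 * (Finset.univ.filter (fun x : K => x * x = 1)).card) :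
    ∀ x : K, x * x = 1 := by
  classical
  set J := Finset.univ.filter (fun x : K => x * x = 1) with hJdef
  have hmemJ : ∀ x : K, x ∈ J ↔ x * x = 1 := by
    intro x
    simp only [hJdef, Finset.mem_filter, Finset.mem_univ, true_and]
  have hJle : J.card ≤ Fintype.card K := Finset.card_le_univ J
  -- elements of `J` are central
  have hcentral : ∀ a ∈ J, ∀ y : K, a * y = y * a := by
    intro a ha y
    have ha2 := (hmemJ a).1 ha
    set B := J.image (fun c => a⁻¹ * c) with hB
    have hBcard : B.card = J.card := by
      rw [hB]
      exact Finset.card_image_of_injective _ (mul_right_injective a⁻¹)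
    have h1 := Finset.card_inter_add_card_union J B
    have h2 : (J ∪ B).card ≤ Fintype.card K := Finset.card_le_univ _
    have hsub : J ∩ B ⊆ Finset.univ.filter (fun c : K => c ∈ Subgroup.centralizer ({a} : Set K)) := by
      intro c hc
      rw [Finset.mem_inter] at hc
      obtain ⟨hcJ, hcB⟩ := hc
      rw [hB, Finset.mem_image] at hcB
      obtain ⟨j, hj, hjc⟩ := hcB
      have hc2 := (hmemJ c).1 hcJ
      have hj2 := (hmemJ j).1 hj
      have hj' : j = a * c := by rw [← hjc]; group
      rw [hj'] at hj2
      simp only [Finset.mem_filter, Finset.mem_univ, true_and]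
      rw [Subgroup.mem_centralizer_iff]
      intro z hz
      rw [Set.mem_singleton_iff.mp hz]
      have hainv : a⁻¹ = a := inv_eq_of_mul_eq_one_left ha2
      have hcinv : c⁻¹ = c := inv_eq_of_mul_eq_one_left hc2
      have e1 : a * c = (a * c)⁻¹ := eq_inv_of_mul_eq_one_left hj2
      rw [mul_inv_rev, hcinv, hainv] at e1
      exact e1
    have h3 := Finset.card_le_card hsub
    have h4 : (Finset.univ.filter (fun c : K => c ∈ Subgroup.centralizer ({a} : Set K))).card =
        Nat.card (Subgroup.centralizer ({a} : Set K)) := by
      rw [Nat.card_eq_fintype_card, Fintype.card_subtype]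
    have h5 : Subgroup.centralizer ({a} : Set K) = ⊤ := by
      apply eq_top_of_card_gt_half
      rw [Nat.card_eq_fintype_card (α := K)]
      omega
    have h6 : y ∈ Subgroup.centralizer ({a} : Set K) := by rw [h5]; exact Subgroup.mem_top y
    rw [Subgroup.mem_centralizer_iff] at h6
    exact h6 a rfl
  -- `J` is a subgroup
  let S : Subgroup K :=
    { carrier := {x | x * x = 1}
      mul_mem' := by
        intro x y hx hy
        have hx' : x * x = 1 := hx
        have hy' : y * y = 1 := hy
        show x * y * (x * y) = 1
        have hc := hcentral x ((hmemJ x).2 hx') y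
        calc x * y * (x * y) = x * (y * x) * y := by group
          _ = x * (x * y) * y := by rw [hc]
          _ = (x * x) * (y * y) := by group
          _ = 1 := by rw [hx', hy', one_mul]
      one_mem' := by
        show (1 : K) * 1 = 1
        exact one_mul 1
      inv_mem' := by
        intro x hx
        have hx' : x * x = 1 := hx
        show x⁻¹ * x⁻¹ = 1
        rw [← mul_inv_rev, hx', inv_one] }
  have hScard : Nat.card S = J.card := by
    rw [Nat.card_eq_fintype_card, Fintype.card_subtype]
    congr 1
    ext x
    simp only [Finset.mem_filter, Finset.mem_univ, true_and, hmemJ]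
    exact Iff.rfl
  have hStop : S = ⊤ := by
    apply eq_top_of_card_gt_half
    rw [hScard, Nat.card_eq_fintype_card (α := K)]
    omega
  intro x
  have : x ∈ S := by rw [hStop]; exact Subgroup.mem_top x
  exact this

/-- A group acting freely has order dividing the number of points. -/
theorem card_dvd_of_free_action {K X : Type*} [Group K] [Fintype K] [MulAction K X] [Fintype X]
    (hfree : ∀ k : K, k ≠ 1 → ∀ c : X, k • c ≠ c) : Fintype.card K ∣ Fintype.card X := by
  classical
  haveI : Fintype (Quotient (MulAction.orbitRel K X)) := Fintype.ofFinite _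
  have h := MulAction.sum_card_fixedBy_eq_card_orbits_mul_card_group K X
  rw [Finset.sum_eq_single (1 : K)] at h
  · have h1 : Fintype.card (fixedBy X (1 : K)) = Fintype.card X := by
      apply Fintype.card_congr
      exact Equiv.subtypeUnivEquiv (fun c => by rw [MulAction.mem_fixedBy, one_smul])
    rw [h1] at h
    exact Dvd.intro_left _ h.symm
  · intro k _ hk
    rw [Fintype.card_eq_zero_iff]
    exact ⟨fun ⟨c, hc⟩ => hfree k hk c hc⟩
  · intro h'
    exact absurd (Finset.mem_univ _) h'

variable {G Ω : Type*} [Group G] [MulAction G Ω]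

section

variable [Fintype G] [DecidableEq G] [Fintype Ω] [DecidableEq Ω]
  (hZ : Cfsg.IsZassenhausGroup G Ω) {a b : Ω} (hab : a ≠ b)
  [IsSimpleGroup G]
  (hodd : Odd (Nat.card ↥(stabilizer G a ⊓ stabilizer G b : Subgroup G)))

include hZ hab hodd

/-- In even degree, the centraliser of an involution has order `|Ω|`. -/
theorem card_centralizer_involution_even (hn : Fintype.card Ω % 2 = 0) {x : G}
    (hx : orderOf x = 2) :
    Nat.card (Subgroup.centralizer ({x} : Set G)) = Fintype.card Ω := by
  have h1 := card_conj_mul_card_centralizer x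
  have h2 : Nat.card {x' : G // IsConj x x'} =
      (Finset.univ.filter (fun x : G => orderOf x = 2)).card := by
    rw [Nat.card_eq_fintype_card, Fintype.card_subtype]
    congr 1
    ext x'
    simp only [Finset.mem_filter, Finset.mem_univ, true_and]
    constructor
    · intro h
      obtain ⟨c, hc⟩ := isConj_iff.mp h
      have hsc : SemiconjBy c x x' := by
        show c * x = x' * c
        rw [← hc]
        group
      rw [← hsc.orderOf_eq]
      exact hx
    · intro h
      exact zas_involutions_isConj hZ hab hodd hx h
  have h3 := zas_card_involutions_mul hZ hab hodd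
  have h4 := zas_card_group hZ hab
  rw [hn, Nat.sub_zero] at h3
  rw [h2, Nat.card_eq_fintype_card (α := G), h4] at h1
  have hIpos : 0 < (Finset.univ.filter (fun x : G => orderOf x = 2)).card := by
    apply Finset.card_pos.mpr
    exact ⟨x, by simp only [Finset.mem_filter, Finset.mem_univ, true_and]; exact hx⟩
  have h5 : (Finset.univ.filter (fun x : G => orderOf x = 2)).card *
      Nat.card (Subgroup.centralizer ({x} : Set G)) =
      (Finset.univ.filter (fun x : G => orderOf x = 2)).card * Fintype.card Ω := by
    rw [h1, h3]
  exact Nat.eq_of_mul_eq_mul_left hIpos h5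

/-- A non-identity element commuting with a fixed-point-free element is fixed-point-free. -/
theorem fpf_of_commute {x k : G} (hx : ∀ c : Ω, x • c ≠ c) (hk : k ≠ 1) (hkx : k * x = x * k) :
    ∀ c : Ω, k • c ≠ c := by
  intro c hc
  have hp3 := hZ.2.2.1
  have h1 : k • x • c = x • c := by
    rw [← mul_smul, hkx, mul_smul, hc]
  have h2 : k • x • x • c = x • x • c := by
    rw [← mul_smul, hkx, mul_smul, h1]
  have hne1 : x • c ≠ c := hx c
  have hne2 : x • x • c ≠ x • c := hx (x • c)
  have h3 : x • x • c = c := by
    by_contra hne3
    exact hk (hp3 k c (x • c) (x • x • c) (Ne.symm hne1) (Ne.symm hne2) (Ne.symm hne3) hc h1 h2)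
  have hcd : c ≠ x • c := Ne.symm hne1
  have hkE : k ∈ stabilizer G c ⊓ stabilizer G (x • c) := ZasOdd.mem_HH.mpr ⟨hc, h1⟩
  have hinv := zas_swap_inverts hZ hab hodd hcd (s := x) rfl h3 hkE
  have hodd' := zas_odd_two_stab hZ hab hodd hcd
  have h4 : x * k * x⁻¹ = k := by
    rw [← hkx]
    group
  rw [h4] at hinv
  exact hk (ZasOdd.eq_one_of_eq_inv hodd' hkE hinv)

/-- The order of a fixed-point-free element divides the degree. -/
theorem orderOf_dvd_card_of_fpf {x : G} (hx : ∀ c : Ω, x • c ≠ c) :
    orderOf x ∣ Fintype.card Ω := by
  haveI : Fintype ↥(Subgroup.zpowers x) := Fintype.ofFinite _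
  have h1 : Fintype.card ↥(Subgroup.zpowers x) ∣ Fintype.card Ω := by
    apply card_dvd_of_free_action
    intro k hk c hc
    have hk1 : (k : G) ≠ 1 := fun h => hk (Subtype.ext h)
    have hcomm : (k : G) * x = x * (k : G) := by
      obtain ⟨i, hi⟩ := Subgroup.mem_zpowers_iff.mp k.2
      rw [← hi]
      exact ((Commute.refl x).zpow_left i).eq
    exact fpf_of_commute hZ hab hodd hx hk1 hcomm c hc
  rw [← Nat.card_eq_fintype_card, Nat.card_zpowers] at h1
  exact h1

end

end Cfsg.Agent.Helper2.FeitOdd
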