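import Mathlib
import Cfsg.Agent.S0880
import Cfsg.Agent.Helper2.FeitOddA
import Cfsg.Agent.Helper2.FeitOddB
import Cfsg.Agent.Helper7.TwoOrbits

/-!
# Simple Zassenhaus groups of even degree with two-point stabilisers of odd order `e`,
`2 e < h - 1`: at least `e + 1` classes miss the Frobenius kernel.
-/

set_option autoImplicit false
set_option linter.style.haveILetI false
set_option linter.unusedSectionVars false

namespace Cfsg.Agent.Helper2.FeitOdd

open MulAction Cfsg.Agent.Helper2 Cfsg.Agent.Helper6

variable {G Ω : Type*} [Group G] [MulAction G Ω]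

section

variable [Fintype G] [DecidableEq G] [Fintype Ω] [DecidableEq Ω]
  (hZ : Cfsg.IsZassenhausGroup G Ω) {a b : Ω} (hab : a ≠ b)
  [IsSimpleGroup G]
  (hodd : Odd (Nat.card ↥(stabilizer G a ⊓ stabilizer G b : Subgroup G)))

include hZ hab hodd

/-- The order of a two-point stabiliser divides `h - 1`. -/
theorem card_two_stab_dvd (h : ℕ) (hh : Fintype.card Ω = h + 1)
    (H : Subgroup G) (hHa : H ≤ stabilizer G a) (hHcard : Nat.card H + 1 = Fintype.card Ω)
    (hHfix : ∀ u ∈ H, u ≠ 1 → ∀ c : Ω, u • c = c → c = a) :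
    Nat.card ↥(stabilizer G a ⊓ stabilizer G b : Subgroup G) ∣ h - 1 := by
  classical
  have hp3 := hZ.2.2.1
  have hK := zas_card_kernel_filter hZ hab
  set K := Finset.univ.filter
    (fun g : G => g • a = a ∧ (g = 1 ∨ ∀ c : Ω, g • c = c → c = a)) with hKdef
  set HF := Finset.univ.filter (fun g : G => g ∈ H) with hHF
  have hHFcard : HF.card = Nat.card H := by
    rw [Nat.card_eq_fintype_card, Fintype.card_subtype]
  have hsub : HF ⊆ K := by
    intro g hg
    simp only [hHF, Finset.mem_filter, Finset.mem_univ, true_and] at hg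
    simp only [hKdef, Finset.mem_filter, Finset.mem_univ, true_and]
    refine ⟨mem_stabilizer_iff.mp (hHa hg), ?_⟩
    by_cases hg1 : g = 1
    · exact Or.inl hg1
    · exact Or.inr (hHfix g hg hg1)
  have heq : HF = K := Finset.eq_of_subset_of_card_le hsub (by rw [hK, hHFcard]; omega)
  have hmemH : ∀ g : G, g ∈ H ↔ g • a = a ∧ (g = 1 ∨ ∀ c : Ω, g • c = c → c = a) := by
    intro g
    have : g ∈ HF ↔ g ∈ K := by rw [heq]
    simpa only [hHF, hKdef, Finset.mem_filter, Finset.mem_univ, true_and] using this
  have hT := Cfsg.Agent.Helper7.TwoOrb.card_dvd_of_free_conj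
    (stabilizer G a ⊓ stabilizer G b : Subgroup G) ((H : Set G) \ {1}) (by
      rintro k hk x ⟨hxH, hx1⟩
      have hka := (ZasOdd.mem_HH.mp hk).1
      have hx1' : x ≠ 1 := fun e' => hx1 (Set.mem_singleton_iff.2 e')
      obtain ⟨hxa, hxfix⟩ := (hmemH x).1 hxH
      refine ⟨?_, ?_⟩
      · rw [SetLike.mem_coe, hmemH]
        refine ⟨?_, Or.inr ?_⟩
        · rw [mul_smul, mul_smul, inv_smul_eq_iff.2 hka.symm, hxa, hka]
        · intro c hc
          rcases hxfix with h1 | h1
          · exact absurd h1 hx1'
          · have h2 : x • (k⁻¹ • c) = k⁻¹ • c := by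
              have h3 := congrArg (fun z => k⁻¹ • z) hc
              simp only [mul_smul, inv_smul_smul] at h3
              exact h3
            have h4 := h1 _ h2
            rw [inv_smul_eq_iff, hka] at h4
            exact h4
      · intro e'
        apply hx1
        rw [Set.mem_singleton_iff] at e' ⊢
        have : x = k⁻¹ * (k * x * k⁻¹) * k := by group
        rw [this, e']
        group) (by
      rintro k hk x ⟨hxH, hx1⟩ e'
      have hx1' : x ≠ 1 := fun e'' => hx1 (Set.mem_singleton_iff.2 e'')
      have hka := (ZasOdd.mem_HH.mp hk).1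
      have hkb := (ZasOdd.mem_HH.mp hk).2
      obtain ⟨hxa, hxfix⟩ := (hmemH x).1 hxH
      have hxfix' : ∀ c : Ω, x • c = c → c = a := by
        rcases hxfix with h1 | h1
        · exact absurd h1 hx1'
        · exact h1
      have h1 : k • x • b = x • b := by
        have : k * x = x * k := by
          nth_rewrite 2 [← e']
          group
        rw [← mul_smul, this, mul_smul, hkb]
      have h2 : x • b ≠ b := fun e'' => hab (hxfix' b e'').symm
      have h3 : x • b ≠ a := by
        intro e''
        have h4 : x • b = x • a := by rw [e'', hxa]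
        exact hab (smul_left_cancel _ h4).symm
      exact hp3 k a b (x • b) hab (Ne.symm h2) (Ne.symm h3) hka hkb h1)
  have h1 : ((H : Set G) \ {1}).ncard = (H : Set G).ncard - 1 :=
    Set.ncard_diff_singleton_of_mem H.one_mem
  have h2 : (H : Set G).ncard = Nat.card H := (Nat.card_coe_set_eq (H : Set G)).symm
  rw [h1, h2] at hT
  have h3 : Nat.card H - 1 = h - 1 := by omega
  rwa [h3] at hT

open Classical in
/-- More than `e` classes miss the Frobenius kernel when the degree is even. -/
theorem odd_contra [Fintype (ConjClasses G)] [DecidableEq (ConjClasses G)]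
    (h e : ℕ) (hh : Fintype.card Ω = h + 1)
    (he : Nat.card ↥(stabilizer G a ⊓ stabilizer G b : Subgroup G) = e) (hlt : 2 * e < h - 1)
    (hhodd : Odd h)
    (H : Subgroup G) (hHa : H ≤ stabilizer G a) (hHcard : Nat.card H + 1 = Fintype.card Ω)
    (hHfix : ∀ u ∈ H, u ≠ 1 → ∀ c : Ω, u • c = c → c = a)
    (hT1 : (Finset.univ.filter
      (fun C : ConjClasses G => ∀ g : G, ConjClasses.mk g = C → g ∉ H)).card ≤ e) : False := by
  obtain ⟨t, ht, hcnt⟩ := exists_many_commuting hZ hab hodd h e hh he hlt hhodd H hHa hHfix hT1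
  have hmod : Fintype.card Ω % 2 = 0 := by
    rw [hh]
    obtain ⟨k, hk⟩ := hhodd
    omega
  have hC := card_centralizer_involution_even hZ hab hodd hmod ht
  have hdvd := card_two_stab_dvd hZ hab hodd h hh H hHa hHcard hHfix
  rw [he] at hdvd
  have hodde : Odd e := he ▸ hodd
  have he1 : 1 ≤ e := by
    obtain ⟨k, hk⟩ := hodde
    omega
  have h4e : 4 * e ≤ h - 1 := by
    obtain ⟨r, hr⟩ := hdvd
    have hev : Even (e * r) := by
      rw [← hr]
      obtain ⟨k, hk⟩ := hhodd
      exact ⟨k, by omega⟩
    have hrev : Even r := by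
      rcases Nat.even_mul.1 hev with h1 | h1
      · exact absurd h1 (Nat.not_even_iff_odd.2 hodde)
      · exact h1
    have hr2 : 2 < r := by
      rw [hr, mul_comm 2 e] at hlt
      exact Nat.lt_of_mul_lt_mul_left hlt
    have hr4 : 4 ≤ r := by
      obtain ⟨k, hk⟩ := hrev
      omega
    rw [hr, mul_comm 4 e]
    exact Nat.mul_le_mul_left e hr4
  -- the centraliser of `t` has exponent two
  haveI : Fintype ↥(Subgroup.centralizer ({t} : Set G)) := Fintype.ofFinite _
  have ht2 := involution_mul_self ht
  have ht1 : t ≠ 1 := by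
    intro h1
    rw [h1, orderOf_one] at ht
    omega
  set F := Finset.univ.filter (fun s : G => orderOf s = 2 ∧ s ≠ t ∧ t * s = s * t) with hF
  set A := insert (1 : G) (insert t F) with hA
  have hAcard : A.card = F.card + 2 := by
    rw [hA, Finset.card_insert_of_notMem, Finset.card_insert_of_notMem]
    · intro h1
      simp only [hF, Finset.mem_filter, Finset.mem_univ, true_and] at h1
      exact h1.2.1 rfl
    · intro h1
      rw [Finset.mem_insert] at h1
      rcases h1 with h1 | h1
      · exact ht1 h1.symm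
      · simp only [hF, Finset.mem_filter, Finset.mem_univ, true_and] at h1
        rw [orderOf_one] at h1
        omega
  set JG := Finset.univ.filter
    (fun x : G => x ∈ Subgroup.centralizer ({t} : Set G) ∧ x * x = 1) with hJG
  have hAsub : A ⊆ JG := by
    intro x hx
    simp only [hJG, Finset.mem_filter, Finset.mem_univ, true_and]
    rw [hA, Finset.mem_insert, Finset.mem_insert] at hx
    rcases hx with rfl | rfl | hx
    · exact ⟨Subgroup.one_mem _, one_mul 1⟩
    · refine ⟨?_, ht2⟩
      rw [Subgroup.mem_centralizer_iff]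
      intro z hz
      rw [Set.mem_singleton_iff.mp hz]
    · simp only [hF, Finset.mem_filter, Finset.mem_univ, true_and] at hx
      refine ⟨?_, involution_mul_self hx.1⟩
      rw [Subgroup.mem_centralizer_iff]
      intro z hz
      rw [Set.mem_singleton_iff.mp hz]
      exact hx.2.2
  have hJK : (Finset.univ.filter
      (fun x : ↥(Subgroup.centralizer ({t} : Set G)) => x * x = 1)).card = JG.card := by
    rw [← Finset.card_map ⟨Subtype.val, Subtype.val_injective⟩]
    congr 1
    ext x
    simp only [Finset.mem_map, Finset.mem_filter, Finset.mem_univ, true_and,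
      Function.Embedding.coeFn_mk, hJG]
    constructor
    · rintro ⟨y, hy, rfl⟩
      refine ⟨y.2, ?_⟩
      have := congrArg Subtype.val hy
      exact this
    · rintro ⟨hx1, hx2⟩
      exact ⟨⟨x, hx1⟩, Subtype.ext hx2, rfl⟩
  have hJle := Finset.card_le_card hAsub
  have hsq : ∀ x : ↥(Subgroup.centralizer ({t} : Set G)), x * x = 1 := by
    apply sq_eq_one_of_three_quarters
    rw [hJK, ← Nat.card_eq_fintype_card, hC, hh]
    omega
  -- the degree is a power of two
  haveI : Fact (Nat.Prime 2) := ⟨Nat.prime_two⟩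
  have hpg : IsPGroup 2 ↥(Subgroup.centralizer ({t} : Set G)) := by
    intro g
    refine ⟨1, ?_⟩
    rw [pow_one, pow_two]
    exact hsq g
  obtain ⟨m, hm⟩ := IsPGroup.iff_card.mp hpg
  rw [hC] at hm
  -- centralisers of all involutions have exponent two
  have hall : ∀ t' x : G, orderOf t' = 2 → t' * x = x * t' → x * x = 1 := by
    intro t' x ht' hcomm
    obtain ⟨g, hg⟩ := isConj_iff.mp (zas_involutions_isConj hZ hab hodd ht ht')
    have hy : g⁻¹ * x * g ∈ Subgroup.centralizer ({t} : Set G) := by
      rw [Subgroup.mem_centralizer_iff]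
      intro z hz
      rw [Set.mem_singleton_iff.mp hz]
      have e1 : t = g⁻¹ * t' * g := by
        rw [← hg]
        group
      rw [e1]
      calc g⁻¹ * t' * g * (g⁻¹ * x * g) = g⁻¹ * (t' * x) * g := by group
        _ = g⁻¹ * (x * t') * g := by rw [hcomm]
        _ = g⁻¹ * x * g * (g⁻¹ * t' * g) := by group
    have h1 := congrArg Subtype.val (hsq ⟨_, hy⟩)
    have h2 : g⁻¹ * x * g * (g⁻¹ * x * g) = 1 := h1
    have h3 : x * x = g * (g⁻¹ * x * g * (g⁻¹ * x * g)) * g⁻¹ := by group
    rw [h3, h2]
    group
  -- fixed-point-free elements are involutions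
  have hfpf : ∀ x : G, (∀ c : Ω, x • c ≠ c) → orderOf x = 2 := by
    intro x hx
    have hx1 : x ≠ 1 := by
      intro h1
      apply hx a
      rw [h1, one_smul]
    have h1 := orderOf_dvd_card_of_fpf hZ hab hodd hx
    rw [hm] at h1
    obtain ⟨j, -, hj⟩ := (Nat.dvd_prime_pow Nat.prime_two).1 h1
    have hxx : x * x = 1 := by
      rcases Nat.eq_zero_or_pos j with h0 | hpos
      · rw [h0, pow_zero, orderOf_eq_one_iff] at hj
        exact absurd hj hx1
      · obtain ⟨j', rfl⟩ : ∃ j', j = j' + 1 := ⟨j - 1, by omega⟩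
        have h2 : orderOf (x ^ (2 ^ j')) = 2 := by
          rw [orderOf_pow_of_dvd (pow_ne_zero _ (by norm_num)) (by rw [hj]; exact Dvd.intro _ (pow_succ 2 j').symm),
            hj, pow_succ]
          exact Nat.mul_div_cancel_left 2 (by positivity)
        exact hall _ x h2 (Commute.pow_self x _).eq
    apply orderOf_eq_prime
    · rw [pow_two]
      exact hxx
    · exact hx1
  obtain ⟨x, y, hx, hy, hxy⟩ := Cfsg.Agent.S0880.result hZ hab hodd (by rw [he, hh]; omega)
  exact hxy (zas_involutions_isConj hZ hab hodd (hfpf x hx) (hfpf y hy))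

end

end Cfsg.Agent.Helper2.FeitOdd
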