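import Mathlib
import Cfsg.Agent.S0339
import Cfsg.Agent.Helper2.FeitOddC
import Cfsg.Agent.Helper2.ZasPSLD
import Cfsg.Agent.Helper7.ZassCount

/-!
# Feit's bound for Zassenhaus groups with abelian Frobenius kernel: reduction to two
character-theoretic statements about simple groups.
-/

set_option autoImplicit false
set_option linter.style.haveILetI false
set_option linter.unusedSectionVars false

namespace Cfsg.Agent.Helper2.FeitAb

open MulAction Cfsg.Agent.Helper2 Cfsg.Agent.Helper6 Cfsg.Agent.Helper7.Zass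
  Cfsg.Agent.Helper2.ZasPSL

universe u v

/-- The class-count bound: at most `e` classes miss an abelian Frobenius kernel. -/
def ClassBound : Prop :=
  ∀ (G : Type u) (Ω : Type v) [Group G] [Finite G] [MulAction G Ω] [Fintype Ω],
    Cfsg.IsZassenhausGroup G Ω → ∀ (a b : Ω), a ≠ b → IsSimpleGroup G → ∀ (h e : ℕ),
    Fintype.card Ω = h + 1 →
    Nat.card ↥(stabilizer G a ⊓ stabilizer G b : Subgroup G) = e → Odd e → 2 * e < h - 1 →
    ∀ H : Subgroup G, H ≤ stabilizer G a → Nat.card H + 1 = Fintype.card Ω →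
    (∀ u ∈ H, u ≠ 1 → ∀ c : Ω, u • c = c → c = a) → (∀ u ∈ H, ∀ v ∈ H, u * v = v * u) →
    Nat.card {C : ConjClasses G // ∀ g : G, ConjClasses.mk g = C → g ∉ H} ≤ e

/-- The odd-degree case. -/
def EvenContra : Prop :=
  ∀ (G : Type u) (Ω : Type v) [Group G] [Finite G] [MulAction G Ω] [Fintype Ω],
    Cfsg.IsZassenhausGroup G Ω → ∀ (a b : Ω), a ≠ b → IsSimpleGroup G → ∀ (h e : ℕ),
    Fintype.card Ω = h + 1 →
    Nat.card ↥(stabilizer G a ⊓ stabilizer G b : Subgroup G) = e → Odd e → 2 * e < h - 1 →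
    ∀ H : Subgroup G, H ≤ stabilizer G a → Nat.card H + 1 = Fintype.card Ω →
    (∀ u ∈ H, u ≠ 1 → ∀ c : Ω, u • c = c → c = a) → (∀ u ∈ H, ∀ v ∈ H, u * v = v * u) →
    Even h → False

/-- Feit's bound for abelian Frobenius kernels. -/
def FeitHypAb : Prop :=
  ∀ (G : Type u) (Ω : Type v) [Group G] [Finite G] [MulAction G Ω] [Fintype Ω],
    Cfsg.IsZassenhausGroup G Ω → ∀ (a b : Ω), a ≠ b → ∀ (h e : ℕ), Fintype.card Ω = h + 1 →
    Nat.card ↥(stabilizer G a ⊓ stabilizer G b : Subgroup G) = e → Odd e →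
    ∀ H : Subgroup G, H ≤ stabilizer G a → Nat.card H + 1 = Fintype.card Ω →
    (∀ u ∈ H, u ≠ 1 → ∀ c : Ω, u • c = c → c = a) → (∀ u ∈ H, ∀ v ∈ H, u * v = v * u) →
    h - 1 ≤ 2 * e

theorem feit_simple (hT1 : ClassBound.{u, v}) (hT2 : EvenContra.{u, v}) {G : Type u} {Ω : Type v}
    [Group G] [Finite G] [MulAction G Ω] [Fintype Ω] (hZ : Cfsg.IsZassenhausGroup G Ω) {a b : Ω}
    (hab : a ≠ b) [hS : IsSimpleGroup G] (h e : ℕ) (hh : Fintype.card Ω = h + 1)
    (he : Nat.card ↥(stabilizer G a ⊓ stabilizer G b : Subgroup G) = e) (hodd : Odd e)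
    (H : Subgroup G) (hHa : H ≤ stabilizer G a) (hHcard : Nat.card H + 1 = Fintype.card Ω)
    (hHfix : ∀ u ∈ H, u ≠ 1 → ∀ c : Ω, u • c = c → c = a)
    (hHab : ∀ u ∈ H, ∀ v ∈ H, u * v = v * u) : h - 1 ≤ 2 * e := by
  classical
  by_contra hcon
  push Not at hcon
  rcases Nat.even_or_odd h with hev | hod
  · exact hT2 G Ω hZ a b hab hS h e hh he hodd hcon H hHa hHcard hHfix hHab hev
  · haveI : Fintype G := Fintype.ofFinite G
    haveI : Fintype (ConjClasses G) := Fintype.ofFinite _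
    have h1 := hT1 G Ω hZ a b hab hS h e hh he hodd hcon H hHa hHcard hHfix hHab
    rw [Nat.card_eq_fintype_card, Fintype.card_subtype] at h1
    have hodd' : Odd (Nat.card ↥(stabilizer G a ⊓ stabilizer G b : Subgroup G)) := by
      rw [he]; exact hodd
    refine Cfsg.Agent.Helper2.FeitOdd.odd_contra hZ hab hodd' h e hh he hcon hod H hHa hHcard
      hHfix ?_
    convert h1 using 2

end Cfsg.Agent.Helper2.FeitAb
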