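import Mathlib
import Cfsg.Agent.Helper2.FeitAbA

/-!
# Feit's bound for abelian Frobenius kernels: reduction to simple groups
-/

set_option autoImplicit false
set_option linter.style.haveILetI false
set_option linter.unusedSectionVars false

namespace Cfsg.Agent.Helper2.FeitAb

open MulAction Cfsg.Agent.Helper2 Cfsg.Agent.Helper6 Cfsg.Agent.Helper7.Zass
  Cfsg.Agent.Helper2.ZasPSL

universe u v

/-- The order of a two-point stabiliser divides `h - 1`. -/
theorem card_two_stab_dvd' {G : Type u} {Ω : Type v} [Group G] [Finite G] [MulAction G Ω]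
    [Fintype Ω] (hZ : Cfsg.IsZassenhausGroup G Ω) {a b : Ω} (hab : a ≠ b)
    (h : ℕ) (hh : Fintype.card Ω = h + 1)
    (H : Subgroup G) (hHa : H ≤ stabilizer G a) (hHcard : Nat.card H + 1 = Fintype.card Ω)
    (hHfix : ∀ u ∈ H, u ≠ 1 → ∀ c : Ω, u • c = c → c = a) :
    Nat.card ↥(stabilizer G a ⊓ stabilizer G b : Subgroup G) ∣ h - 1 := by
  classical
  haveI : Fintype G := Fintype.ofFinite G
  have hp3 := hZ.2.2.1
  have hK := zas_card_kernel_filter hZ hab
  set K := Finset.univ.filter
    (fun g : G => g • a = a ∧ (g = 1 ∨ ∀ c : Ω, g • c = c → c = a)) with hKdef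
  set HF := Finset.univ.filter (fun g : G => g ∈ H) with hHF
  have hHFcard : HF.card = Nat.card H := by
    rw [Nat.card_eq_fintype_card, Fintype.card_subtype]
  have hsub : HF ⊆ K := by
    intro g hg
    simp only [hHF, Finset.mem_filter, Finset.mem_univ, true_and] at hg
    simp only [hKdef, Finset.mem_filter, Finset.mem_univ, true_and]
    refine ⟨mem_stabilizer_iff.mp (hHa hg), ?_⟩
    by_cases hg1 : g = 1
    · exact Or.inl hg1
    · exact Or.inr (hHfix g hg hg1)
  have heq : HF = K := Finset.eq_of_subset_of_card_le hsub (by rw [hK, hHFcard]; omega)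
  have hmemH : ∀ g : G, g ∈ H ↔ g • a = a ∧ (g = 1 ∨ ∀ c : Ω, g • c = c → c = a) := by
    intro g
    have : g ∈ HF ↔ g ∈ K := by rw [heq]
    simpa only [hHF, hKdef, Finset.mem_filter, Finset.mem_univ, true_and] using this
  have hT := Cfsg.Agent.Helper7.TwoOrb.card_dvd_of_free_conj
    (stabilizer G a ⊓ stabilizer G b : Subgroup G) ((H : Set G) \ {1}) (by
      rintro k hk x ⟨hxH, hx1⟩
      have hka := (ZasOdd.mem_HH.mp hk).1
      have hx1' : x ≠ 1 := fun e' => hx1 (Set.mem_singleton_iff.2 e')
      obtain ⟨hxa, hxfix⟩ := (hmemH x).1 hxH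
      refine ⟨?_, ?_⟩
      · rw [SetLike.mem_coe, hmemH]
        refine ⟨?_, Or.inr ?_⟩
        · rw [mul_smul, mul_smul, inv_smul_eq_iff.2 hka.symm, hxa, hka]
        · intro c hc
          rcases hxfix with h1 | h1
          · exact absurd h1 hx1'
          · have h2 : x • (k⁻¹ • c) = k⁻¹ • c := by
              have h3 := congrArg (fun z => k⁻¹ • z) hc
              simp only [mul_smul, inv_smul_smul] at h3
              exact h3
            have h4 := h1 _ h2
            rw [inv_smul_eq_iff, hka] at h4
            exact h4
      · intro e'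
        apply hx1
        rw [Set.mem_singleton_iff] at e' ⊢
        have : x = k⁻¹ * (k * x * k⁻¹) * k := by group
        rw [this, e']
        group) (by
      rintro k hk x ⟨hxH, hx1⟩ e'
      have hx1' : x ≠ 1 := fun e'' => hx1 (Set.mem_singleton_iff.2 e'')
      have hka := (ZasOdd.mem_HH.mp hk).1
      have hkb := (ZasOdd.mem_HH.mp hk).2
      obtain ⟨hxa, hxfix⟩ := (hmemH x).1 hxH
      have hxfix' : ∀ c : Ω, x • c = c → c = a := by
        rcases hxfix with h1 | h1
        · exact absurd h1 hx1'
        · exact h1
      have h1 : k • x • b = x • b := by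
        have : k * x = x * k := by
          nth_rewrite 2 [← e']
          group
        rw [← mul_smul, this, mul_smul, hkb]
      have h2 : x • b ≠ b := fun e'' => hab (hxfix' b e'').symm
      have h3 : x • b ≠ a := by
        intro e''
        have h4 : x • b = x • a := by rw [e'', hxa]
        exact hab (smul_left_cancel _ h4).symm
      exact hp3 k a b (x • b) hab (Ne.symm h2) (Ne.symm h3) hka hkb h1)
  have h1 : ((H : Set G) \ {1}).ncard = (H : Set G).ncard - 1 :=
    Set.ncard_diff_singleton_of_mem H.one_mem
  have h2 : (H : Set G).ncard = Nat.card H := (Nat.card_coe_set_eq (H : Set G)).symm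
  rw [h1, h2] at hT
  have h3 : Nat.card H - 1 = h - 1 := by omega
  rwa [h3] at hT

set_option maxHeartbeats 800000 in
theorem feitHypAb_of (hT1 : ClassBound.{u, v}) (hT2 : EvenContra.{u, v}) : FeitHypAb.{u, v} := by
  have key : ∀ n : ℕ, ∀ (G : Type u) (Ω : Type v) [Group G] [Finite G] [MulAction G Ω]
      [Fintype Ω], Nat.card G = n → Cfsg.IsZassenhausGroup G Ω → ∀ (a b : Ω), a ≠ b →
      ∀ (h e : ℕ), Fintype.card Ω = h + 1 →
      Nat.card ↥(stabilizer G a ⊓ stabilizer G b : Subgroup G) = e → Odd e →
      ∀ H : Subgroup G, H ≤ stabilizer G a → Nat.card H + 1 = Fintype.card Ω →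
      (∀ u ∈ H, u ≠ 1 → ∀ c : Ω, u • c = c → c = a) → (∀ u ∈ H, ∀ v ∈ H, u * v = v * u) →
      h - 1 ≤ 2 * e := by
    intro n
    induction n using Nat.strong_induction_on with
    | _ n ih =>
      intro G Ω _ _ _ _ hn hZ a b hab h e hh he hodd H hHa hHcard hHfix hHab
      classical
      by_cases hS : IsSimpleGroup G
      · exact feit_simple hT1 hT2 hZ hab h e hh he hodd H hHa hHcard hHfix hHab
      · have hZH := zhyp_of hZ
        obtain ⟨g₀, hg₀, -⟩ := hZH.t2 a b b a hab (Ne.symm hab)
        have hnt : Nontrivial G := by
          refine ⟨⟨g₀, 1, ?_⟩⟩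
          intro h1
          rw [h1, one_smul] at hg₀
          exact hab hg₀
        obtain ⟨N, hNn, hN1, hNtop⟩ : ∃ N : Subgroup G, N.Normal ∧ N ≠ ⊥ ∧ N ≠ ⊤ := by
          by_contra hcon
          push Not at hcon
          apply hS
          exact
            { toNontrivial := hnt
              eq_bot_or_eq_top_of_normal := fun N hN => by
                by_cases h1 : N = ⊥
                · exact Or.inl h1
                · exact Or.inr (hcon N hN h1) }
        haveI := hNn
        haveI : Fintype G := Fintype.ofFinite G
        haveI : Fintype ↥N := Fintype.ofFinite _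
        have hZN := Cfsg.Agent.S0339.result hZ N hN1
        have hGcard := card_eq hZH.t2 hab
        have hNcard := card_eq (zhyp_of hZN).t2 hab
        obtain ⟨e', he'⟩ : ∃ e', e' = Nat.card ↥(stabilizer ↥N a ⊓ stabilizer ↥N b) := ⟨_, rfl⟩
        rw [he, hh] at hGcard
        rw [← he', hh] at hNcard
        have hM : (h + 1) * (h + 1) - (h + 1) = (h + 1) * h := by
          apply Nat.sub_eq_of_eq_add
          ring
        rw [hM] at hGcard hNcard
        have hh1 : 1 ≤ h := by
          have : 2 ≤ Fintype.card Ω := by
            rw [← Finset.card_univ]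
            exact Finset.one_lt_card.mpr ⟨a, Finset.mem_univ _, b, Finset.mem_univ _, hab⟩
          omega
        have hMpos : 0 < (h + 1) * h := by positivity
        have hidx := N.index_mul_card
        rw [Nat.card_eq_fintype_card, Nat.card_eq_fintype_card, hGcard, hNcard] at hidx
        have hidx' : N.index * e' = e := by
          apply Nat.eq_of_mul_eq_mul_right hMpos
          rw [mul_assoc]
          exact hidx
        have hepos : 0 < e := by
          obtain ⟨k, hk⟩ := hodd
          omega
        have he'pos : 0 < e' := by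
          rcases Nat.eq_zero_or_pos e' with h0 | h0
          · rw [h0, mul_zero] at hidx'
            omega
          · exact h0
        have hodd' : Odd e' := by
          rw [← hidx'] at hodd
          exact Nat.Odd.of_mul_right hodd
        have hdvd := card_two_stab_dvd' hZ hab h hh H hHa hHcard hHfix
        rw [he] at hdvd
        -- `H ≤ N`
        have hHc : Nat.card H = h := by omega
        have hcop : Nat.Coprime (Nat.card H) N.index := by
          rw [hHc]
          have h1 : N.index ∣ h - 1 := (Dvd.intro _ hidx').trans hdvd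
          have h2 : Nat.Coprime (h - 1) h := by
            have := (Nat.coprime_add_self_right (m := h - 1) (n := 1)).2 (Nat.coprime_one_right _)
            have e1 : 1 + (h - 1) = h := by omega
            rwa [e1] at this
          exact (Nat.Coprime.coprime_dvd_left h1 h2).symm
        have hHN : H ≤ N := by
          intro x hx
          have h1 : x ^ (Nat.card H) = 1 := by
            have := pow_card_eq_one' (G := ↥H) (x := ⟨x, hx⟩)
            exact congrArg Subtype.val this
          have h2 : (QuotientGroup.mk x : G ⧸ N) ^ (Nat.card H) = 1 := by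
            rw [← QuotientGroup.mk_pow, h1]
            rfl
          have h3 : (QuotientGroup.mk x : G ⧸ N) ^ N.index = 1 := by
            rw [Subgroup.index_eq_card]
            exact pow_card_eq_one'
          have h4 : orderOf (QuotientGroup.mk x : G ⧸ N) ∣ 1 := by
            rw [← Nat.Coprime.gcd_eq_one hcop]
            exact Nat.dvd_gcd (orderOf_dvd_of_pow_eq_one h2) (orderOf_dvd_of_pow_eq_one h3)
          have h5 : (QuotientGroup.mk x : G ⧸ N) = 1 := orderOf_eq_one_iff.1 (Nat.dvd_one.1 h4)
          exact (QuotientGroup.eq_one_iff x).1 h5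
        have hH'a : H.subgroupOf N ≤ stabilizer ↥N a := by
          intro x hx
          rw [mem_stabilizer_iff]
          have := hHa (Subgroup.mem_subgroupOf.1 hx)
          rw [mem_stabilizer_iff] at this
          exact this
        have hH'card : Nat.card ↥(H.subgroupOf N) + 1 = Fintype.card Ω := by
          rw [Nat.card_congr (Subgroup.subgroupOfEquivOfLe hHN).toEquiv]
          exact hHcard
        have hH'fix : ∀ x ∈ H.subgroupOf N, x ≠ 1 → ∀ c : Ω, x • c = c → c = a := by
          intro x hx hx1 c hc
          exact hHfix (x : G) (Subgroup.mem_subgroupOf.1 hx) (fun e1 => hx1 (Subtype.ext e1)) c hc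
        have hH'ab : ∀ x ∈ H.subgroupOf N, ∀ y ∈ H.subgroupOf N, x * y = y * x := by
          intro x hx y hy
          apply Subtype.ext
          rw [Subgroup.coe_mul, Subgroup.coe_mul]
          exact hHab _ (Subgroup.mem_subgroupOf.1 hx) _ (Subgroup.mem_subgroupOf.1 hy)
        have hlt : Nat.card ↥N < n := by
          rw [← hn]
          have h1 := N.card_mul_index
          have h2 : N.index ≠ 1 := fun h => hNtop (Subgroup.index_eq_one.1 h)
          have h3 : N.index ≠ 0 := Subgroup.index_ne_zero_of_finite
          have h4 : 2 ≤ N.index := by omega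
          have h5 : Nat.card ↥N * 2 ≤ Nat.card ↥N * N.index := Nat.mul_le_mul_left _ h4
          have h6 : 0 < Nat.card ↥N := Nat.card_pos
          omega
        have hres := ih (Nat.card ↥N) hlt ↥N Ω rfl hZN a b hab h e' hh he'.symm hodd'
          (H.subgroupOf N) hH'a hH'card hH'fix hH'ab
        have hle : e' ≤ e := by
          rw [← hidx']
          exact Nat.le_mul_of_pos_left e' (Nat.pos_of_ne_zero Subgroup.index_ne_zero_of_finite)
        omega
  intro G Ω _ _ _ _ hZ a b hab h e hh he hodd H hHa hHcard hHfix hHab
  exact key (Nat.card G) G Ω rfl hZ a b hab h e hh he hodd H hHa hHcard hHfix hHab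

end Cfsg.Agent.Helper2.FeitAb
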