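import Mathlib

/-!
# Transitive groups of degree `p + 1` and order `(p + 1) p d`, `d < p`: the regular subgroup of
order `p` of a point stabiliser.
-/

set_option autoImplicit false

namespace Cfsg.Agent.Helper2.PP1

open MulAction

variable {G : Type*} {Ω : Type*} [Group G] [Finite G] [MulAction G Ω] [Fintype Ω]

theorem card_stabilizer [IsPretransitive G Ω] {p d : ℕ} (hΩ : Fintype.card Ω = p + 1)
    (hG : Nat.card G = (p + 1) * p * d) (a : Ω) : Nat.card (stabilizer G a) = p * d := by
  have h1 : (stabilizer G a).index = Fintype.card Ω := by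
    rw [index_stabilizer, orbit_eq_univ, Set.ncard_univ, Nat.card_eq_fintype_card]
  have h2 := (stabilizer G a).card_mul_index
  rw [h1, hG, hΩ] at h2
  have h3 : Nat.card (stabilizer G a) * (p + 1) = p * d * (p + 1) := by
    rw [h2]
    ring
  exact Nat.eq_of_mul_eq_mul_right (by omega) h3

set_option maxHeartbeats 800000 in
theorem exists_kernel [FaithfulSMul G Ω] [IsPretransitive G Ω] {p d : ℕ} (hp : p.Prime)
    (hΩ : Fintype.card Ω = p + 1) (hG : Nat.card G = (p + 1) * p * d) (hd : d < p) (a : Ω) :
    ∃ P : Subgroup G, P ≤ stabilizer G a ∧ (P.subgroupOf (stabilizer G a)).Normal ∧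
      Nat.card P = p ∧ (∀ u ∈ P, u ≠ 1 → ∀ c : Ω, u • c = c → c = a) ∧
      (∀ y z : Ω, y ≠ a → z ≠ a → ∃! u : P, (u : G) • y = z) := by
  classical
  haveI : Fact p.Prime := ⟨hp⟩
  have hd0 : 0 < d := by
    rcases Nat.eq_zero_or_pos d with h0 | h0
    · rw [h0, mul_zero] at hG
      have : 0 < Nat.card G := Nat.card_pos
      omega
    · exact h0
  have hS := card_stabilizer hΩ hG a
  obtain ⟨Q⟩ : Nonempty (Sylow p (stabilizer G a)) := Sylow.nonempty
  have hpd : ¬ p ∣ d := Nat.not_dvd_of_pos_of_lt hd0 hd
  have hfac : (p * d).factorization p = 1 := by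
    rw [Nat.factorization_mul hp.ne_zero hd0.ne', Finsupp.add_apply, hp.factorization_self,
      Nat.factorization_eq_zero_of_not_dvd hpd]
  have hQcard : Nat.card Q = p := by
    rw [Sylow.card_eq_multiplicity, hS, hfac, pow_one]
  have hQidx : (Q : Subgroup (stabilizer G a)).index = d := by
    have h1 := (Q : Subgroup (stabilizer G a)).index_mul_card
    rw [hQcard, hS, mul_comm p d] at h1
    exact Nat.eq_of_mul_eq_mul_right hp.pos h1
  have hnp : Nat.card (Sylow p (stabilizer G a)) = 1 := by
    have h1 := Sylow.card_dvd_index Q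
    rw [hQidx] at h1
    have h2 := card_sylow_modEq_one p (stabilizer G a)
    have h3 : Nat.card (Sylow p (stabilizer G a)) ≤ d := Nat.le_of_dvd hd0 h1
    have h4 : Nat.card (Sylow p (stabilizer G a)) % p = 1 % p := h2
    rw [Nat.mod_eq_of_lt (lt_of_le_of_lt h3 hd), Nat.mod_eq_of_lt hp.one_lt] at h4
    exact h4
  haveI : Subsingleton (Sylow p (stabilizer G a)) :=
    (Nat.card_eq_one_iff_unique.1 hnp).1
  have hQn : (Q : Subgroup (stabilizer G a)).Normal := Sylow.normal_of_subsingleton Q
  set P : Subgroup G := (Q : Subgroup (stabilizer G a)).map (stabilizer G a).subtype with hP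
  have hPle : P ≤ stabilizer G a := Subgroup.map_subtype_le _
  have hPcard : Nat.card P = p := by
    rw [hP, Subgroup.card_map_of_injective (stabilizer G a).subtype_injective]
    exact hQcard
  have hPsub : P.subgroupOf (stabilizer G a) = (Q : Subgroup (stabilizer G a)) := by
    rw [hP]
    exact Subgroup.comap_map_eq_self_of_injective (stabilizer G a).subtype_injective _
  have hPa : ∀ u ∈ P, u • a = a := fun u hu => mem_stabilizer_iff.1 (hPle hu)
  have hfix : ∀ u ∈ P, u ≠ 1 → ∀ c : Ω, u • c = c → c = a := by
    intro u hu hu1 c hc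
    by_contra hca
    have hord : orderOf u = p := by
      have h1 : orderOf (⟨u, hu⟩ : P) ∣ Nat.card P := orderOf_dvd_natCard _
      rw [Subgroup.orderOf_mk, hPcard] at h1
      rcases (Nat.dvd_prime hp).1 h1 with h2 | h2
      · exact absurd (orderOf_eq_one_iff.1 h2) hu1
      · exact h2
    have hZcard : Nat.card (Subgroup.zpowers u) = p ^ 1 := by
      rw [Nat.card_zpowers, hord, pow_one]
    have hZp : IsPGroup p (Subgroup.zpowers u) := IsPGroup.of_card hZcard
    have hmod := hZp.card_modEq_card_fixedPoints Ω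
    have hmem : ∀ x : Ω, x ∈ fixedPoints (Subgroup.zpowers u) Ω ↔ u • x = x := by
      intro x
      rw [mem_fixedPoints]
      constructor
      · intro h
        exact h ⟨u, Subgroup.mem_zpowers u⟩
      · rintro h ⟨z, hz⟩
        obtain ⟨i, rfl⟩ := Subgroup.mem_zpowers_iff.1 hz
        exact mem_stabilizer_iff.1 ((stabilizer G x).zpow_mem (mem_stabilizer_iff.2 h) i)
    set F := Finset.univ.filter (fun x : Ω => u • x = x) with hF
    have hf : Nat.card (fixedPoints (Subgroup.zpowers u) Ω) = F.card := by
      rw [Nat.card_eq_fintype_card, Fintype.card_subtype]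
      congr 1
      ext x
      simp only [Finset.mem_filter, Finset.mem_univ, true_and, hF]
      exact hmem x
    rw [hf, Nat.card_eq_fintype_card, hΩ] at hmod
    have hF2 : 2 ≤ F.card := by
      have : 1 < F.card := by
        rw [Finset.one_lt_card]
        refine ⟨a, ?_, c, ?_, Ne.symm hca⟩
        · simp only [hF, Finset.mem_filter, Finset.mem_univ, true_and]
          exact hPa u hu
        · simp only [hF, Finset.mem_filter, Finset.mem_univ, true_and]
          exact hc
      omega
    have hFle : F.card ≤ p + 1 := by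
      rw [← hΩ]
      exact Finset.card_le_univ F
    have hdvd := (Nat.modEq_iff_dvd' hFle).1 hmod.symm
    have hzero : p + 1 - F.card = 0 := Nat.eq_zero_of_dvd_of_lt hdvd (by omega)
    have hFcard : F.card = Fintype.card Ω := by omega
    have hFuniv : F = Finset.univ := (Finset.card_eq_iff_eq_univ F).1 hFcard
    apply hu1
    apply FaithfulSMul.eq_of_smul_eq_smul (α := Ω)
    intro x
    rw [one_smul]
    have hx : x ∈ F := by rw [hFuniv]; exact Finset.mem_univ x
    simp only [hF, Finset.mem_filter, Finset.mem_univ, true_and] at hx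
    exact hx
  refine ⟨P, hPle, ?_, hPcard, hfix, ?_⟩
  · rw [hPsub]
    exact hQn
  · intro y z hy hz
    have hne : ∀ u : P, (u : G) • y ≠ a := by
      intro u e
      have h1 : (u : G) • y = (u : G) • a := by rw [e, hPa u u.2]
      exact hy (smul_left_cancel _ h1)
    have hinj : Function.Injective (fun u : P => (⟨(u : G) • y, hne u⟩ : {z : Ω // z ≠ a})) := by
      intro u v huv
      have h1 : (u : G) • y = (v : G) • y := congrArg Subtype.val huv
      have h2 : ((v : G)⁻¹ * (u : G)) • y = y := by
        rw [mul_smul, h1, inv_smul_smul]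
      have h3 : (v : G)⁻¹ * (u : G) ∈ P := P.mul_mem (P.inv_mem v.2) u.2
      have h4 : (v : G)⁻¹ * (u : G) = 1 := by
        by_contra h5
        exact hy (hfix _ h3 h5 y h2)
      apply Subtype.ext
      have : (u : G) = (v : G) * ((v : G)⁻¹ * (u : G)) := by group
      rw [this, h4, mul_one]
    have hcard : Nat.card {z : Ω // z ≠ a} = Nat.card P := by
      rw [Nat.card_eq_fintype_card, Fintype.card_subtype, Finset.filter_ne',
        Finset.card_erase_of_mem (Finset.mem_univ a), Finset.card_univ, hΩ, hPcard]
      omega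
    haveI : Finite {z : Ω // z ≠ a} := inferInstance
    have hbij := (Nat.bijective_iff_injective_and_card _).2 ⟨hinj, hcard.symm⟩
    obtain ⟨u, hu⟩ := hbij.2 ⟨z, hz⟩
    refine ⟨u, congrArg Subtype.val hu, ?_⟩
    intro v hv
    apply hbij.1
    rw [hu]
    exact Subtype.ext hv

end Cfsg.Agent.Helper2.PP1
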