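import Mathlib
import Cfsg.Agent.Helper2.PP1A
import Cfsg.Agent.Helper7.ZassCount

/-!
# Transitive groups of degree `p + 1` and order `(p + 1) p d`, `d < p`: double transitivity,
three-point stabilisers, two-point stabilisers.
-/

set_option autoImplicit false

namespace Cfsg.Agent.Helper2.PP1

open MulAction Cfsg.Agent.Helper7.Zass

variable {G : Type*} {Ω : Type*} [Group G] [Finite G] [MulAction G Ω] [Fintype Ω]

/-- A subgroup of prime order is commutative. -/
theorem comm_of_prime_card {p : ℕ} (hp : p.Prime) (P : Subgroup G) (hP : Nat.card P = p) :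
    ∀ u ∈ P, ∀ v ∈ P, u * v = v * u := by
  haveI : Fact p.Prime := ⟨hp⟩
  intro u hu v hv
  by_cases hu1 : u = 1
  · rw [hu1, one_mul, mul_one]
  · have hu1' : (⟨u, hu⟩ : P) ≠ 1 := fun h => hu1 (congrArg Subtype.val h)
    have h1 : (⟨v, hv⟩ : P) ∈ Subgroup.zpowers (⟨u, hu⟩ : P) := mem_zpowers_of_prime_card hP hu1'
    obtain ⟨i, hi⟩ := Subgroup.mem_zpowers_iff.1 h1
    have h2 : v = u ^ i := by
      have := congrArg Subtype.val hi
      rw [Subgroup.coe_zpow] at this
      exact this.symm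
    rw [h2]
    exact ((Commute.refl u).zpow_right i).eq

section

variable [FaithfulSMul G Ω] [IsPretransitive G Ω] {p d : ℕ} (hp : p.Prime)
    (hΩ : Fintype.card Ω = p + 1) (hG : Nat.card G = (p + 1) * p * d) (hd : d < p)

include hp hΩ hG hd

theorem t2 : T2 G Ω := by
  intro x y x' y' hxy hxy'
  obtain ⟨g₁, hg₁⟩ := exists_smul_eq G x x'
  obtain ⟨P, hPle, -, -, -, hreg⟩ := exists_kernel hp hΩ hG hd x'
  have h1 : g₁ • y ≠ x' := by
    intro e
    rw [← hg₁] at e
    exact hxy (smul_left_cancel _ e).symm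
  obtain ⟨u, hu, -⟩ := hreg (g₁ • y) y' h1 (Ne.symm hxy')
  refine ⟨(u : G) * g₁, ?_, ?_⟩
  · rw [mul_smul, hg₁]
    exact mem_stabilizer_iff.1 (hPle u.2)
  · rw [mul_smul, hu]

theorem p3 : P3 G Ω := by
  intro g x y z hxy hyz hxz hgx hgy hgz
  haveI : Fact p.Prime := ⟨hp⟩
  obtain ⟨P, hPle, hPn, hPcard, hPfix, hreg⟩ := exists_kernel hp hΩ hG hd x
  obtain ⟨u, hu, huniq⟩ := hreg y z (Ne.symm hxy) (Ne.symm hxz)
  have hgS : g ∈ stabilizer G x := mem_stabilizer_iff.2 hgx
  have hconj : g * (u : G) * g⁻¹ ∈ P := by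
    have h1 := hPn.conj_mem ⟨(u : G), hPle u.2⟩ (Subgroup.mem_subgroupOf.2 u.2) ⟨g, hgS⟩
    exact Subgroup.mem_subgroupOf.1 h1
  have hginv : g⁻¹ • y = y := by rw [inv_smul_eq_iff, hgy]
  have h2 : (g * (u : G) * g⁻¹) • y = z := by
    rw [mul_smul, mul_smul, hginv, hu, hgz]
  have h3 := huniq ⟨_, hconj⟩ h2
  have h4 : g * (u : G) * g⁻¹ = (u : G) := congrArg Subtype.val h3
  have hu1 : (u : G) ≠ 1 := by
    intro e
    rw [e, one_smul] at hu
    exact hyz hu
  have hcomm : ∀ v ∈ P, g * v = v * g := by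
    intro v hv
    have hu1' : u ≠ 1 := fun h => hu1 (congrArg Subtype.val h)
    have h5 : (⟨v, hv⟩ : P) ∈ Subgroup.zpowers u := mem_zpowers_of_prime_card hPcard hu1'
    obtain ⟨i, hi⟩ := Subgroup.mem_zpowers_iff.1 h5
    have h6 : v = (u : G) ^ i := by
      have := congrArg Subtype.val hi
      rw [Subgroup.coe_zpow] at this
      exact this.symm
    have h7 : Commute g (u : G) := by
      show g * (u : G) = (u : G) * g
      nth_rewrite 2 [← h4]
      group
    rw [h6]
    exact (h7.zpow_right i).eq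
  apply FaithfulSMul.eq_of_smul_eq_smul (α := Ω)
  intro w
  rw [one_smul]
  by_cases hw : w = x
  · rw [hw, hgx]
  · obtain ⟨v, hv, -⟩ := hreg y w (Ne.symm hxy) hw
    rw [← hv, ← mul_smul, hcomm v v.2, mul_smul, hgy]

theorem card_two_stab {a b : Ω} (hab : a ≠ b) :
    Nat.card ↥(stabilizer G a ⊓ stabilizer G b : Subgroup G) = d := by
  classical
  haveI : Fintype G := Fintype.ofFinite G
  have h1 := card_eq (t2 hp hΩ hG hd) hab
  rw [← Nat.card_eq_fintype_card, hG, hΩ] at h1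
  have hM : (p + 1) * (p + 1) - (p + 1) = (p + 1) * p := by
    apply Nat.sub_eq_of_eq_add
    ring
  rw [hM] at h1
  have h2 : d * ((p + 1) * p) =
      Nat.card ↥(stabilizer G a ⊓ stabilizer G b : Subgroup G) * ((p + 1) * p) := by
    rw [← h1]
    ring
  have hpos : 0 < (p + 1) * p := Nat.mul_pos (by omega) hp.pos
  exact (Nat.eq_of_mul_eq_mul_right hpos h2).symm

end

end Cfsg.Agent.Helper2.PP1
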