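import Mathlib
import Cfsg.Prelude.Def_CaseTheorems

set_option autoImplicit false

/-!
Block embedding `SL_m(F) → GL_{m+1}(F)` and the centralizer of the reflection `diag(-1,1,…,1)`.
-/

namespace Cfsg.Agent.Helper2.GLInv

open Matrix

variable {F : Type*} [Field F] {m : ℕ}

/-- The block matrix `diag(1, A)`. -/
def emb (A : Matrix (Fin m) (Fin m) F) : Matrix (Fin (m + 1)) (Fin (m + 1)) F :=
  Matrix.of fun i j =>
    Fin.cases (Fin.cases (1 : F) (fun _ => 0) j) (fun i' => Fin.cases (0 : F) (fun j' => A i' j') j) i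

@[simp] theorem emb_zero_zero (A : Matrix (Fin m) (Fin m) F) : emb A 0 0 = 1 := rfl
@[simp] theorem emb_zero_succ (A : Matrix (Fin m) (Fin m) F) (j : Fin m) : emb A 0 j.succ = 0 := by
  simp [emb]
@[simp] theorem emb_succ_zero (A : Matrix (Fin m) (Fin m) F) (i : Fin m) : emb A i.succ 0 = 0 := by
  simp [emb]
@[simp] theorem emb_succ_succ (A : Matrix (Fin m) (Fin m) F) (i j : Fin m) :
    emb A i.succ j.succ = A i j := by
  simp [emb]

theorem emb_mul (A B : Matrix (Fin m) (Fin m) F) : emb A * emb B = emb (A * B) := by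
  ext i j
  refine Fin.cases ?_ (fun i' => ?_) i <;> refine Fin.cases ?_ (fun j' => ?_) j <;>
    simp [Matrix.mul_apply, Fin.sum_univ_succ]

theorem emb_one : emb (1 : Matrix (Fin m) (Fin m) F) = 1 := by
  ext i j
  refine Fin.cases ?_ (fun i' => ?_) i <;> refine Fin.cases ?_ (fun j' => ?_) j <;>
    simp [Matrix.one_apply, Fin.succ_ne_zero, (Fin.succ_ne_zero _).symm]

theorem emb_injective : Function.Injective (emb : Matrix (Fin m) (Fin m) F → _) := by
  intro A B h
  ext i j
  have := congrFun (congrFun h i.succ) j.succ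
  simpa using this

/-- Laplace expansion when the first row is `(a, 0, …, 0)`. -/
theorem det_of_row_zero (g : Matrix (Fin (m + 1)) (Fin (m + 1)) F)
    (h : ∀ j : Fin m, g 0 j.succ = 0) :
    g.det = g 0 0 * (g.submatrix Fin.succ Fin.succ).det := by
  rw [Matrix.det_succ_row_zero, Fin.sum_univ_succ]
  simp [h, Fin.succAbove_zero]

theorem det_emb (A : Matrix (Fin m) (Fin m) F) : (emb A).det = A.det := by
  rw [det_of_row_zero _ (fun j => emb_zero_succ A j)]
  have : (emb A).submatrix Fin.succ Fin.succ = A := by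
    ext i j
    simp
  rw [this]
  simp

/-- The reflection matrix `diag(-1, 1, …, 1)`. -/
def tMat (F : Type*) [Field F] (m : ℕ) : Matrix (Fin (m + 1)) (Fin (m + 1)) F :=
  Matrix.diagonal fun i => if i = 0 then -1 else 1

theorem tMat_mul_self : tMat F m * tMat F m = 1 := by
  rw [tMat, Matrix.diagonal_mul_diagonal, ← Matrix.diagonal_one]
  congr 1
  ext i
  split_ifs <;> simp

/-- The reflection as an element of `GL`. -/
def tGL (F : Type*) [Field F] (m : ℕ) : GL (Fin (m + 1)) F :=
  ⟨tMat F m, tMat F m, tMat_mul_self, tMat_mul_self⟩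

theorem tMat_mul_emb (A : Matrix (Fin m) (Fin m) F) : tMat F m * emb A = emb A * tMat F m := by
  ext i j
  rw [tMat, Matrix.diagonal_mul, Matrix.mul_diagonal]
  refine Fin.cases ?_ (fun i' => ?_) i <;> refine Fin.cases ?_ (fun j' => ?_) j <;>
    simp [Fin.succ_ne_zero]

/-- A matrix commuting with the reflection is block diagonal. -/
theorem block_of_comm (h2 : (2 : F) ≠ 0) {g : Matrix (Fin (m + 1)) (Fin (m + 1)) F}
    (hg : tMat F m * g = g * tMat F m) (j : Fin m) : g 0 j.succ = 0 ∧ g j.succ 0 = 0 := by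
  constructor
  · have h1 := congrFun (congrFun hg 0) j.succ
    rw [tMat, Matrix.diagonal_mul, Matrix.mul_diagonal] at h1
    simp only [if_true, if_neg (Fin.succ_ne_zero j)] at h1
    have h3 : (2 : F) * g 0 j.succ = 0 := by linear_combination (-1 : F) * h1
    rcases mul_eq_zero.mp h3 with h | h
    · exact absurd h h2
    · exact h
  · have h1 := congrFun (congrFun hg j.succ) 0
    rw [tMat, Matrix.diagonal_mul, Matrix.mul_diagonal] at h1
    simp only [if_true, if_neg (Fin.succ_ne_zero j)] at h1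
    have h3 : (2 : F) * g j.succ 0 = 0 := by linear_combination (1 : F) * h1
    rcases mul_eq_zero.mp h3 with h | h
    · exact absurd h h2
    · exact h

theorem mul_zero_zero {g h : Matrix (Fin (m + 1)) (Fin (m + 1)) F}
    (hg : ∀ j : Fin m, g 0 j.succ = 0) : (g * h) 0 0 = g 0 0 * h 0 0 := by
  rw [Matrix.mul_apply, Fin.sum_univ_succ]
  simp [hg]

theorem eq_emb_of_block {g : Matrix (Fin (m + 1)) (Fin (m + 1)) F} (h00 : g 0 0 = 1)
    (hg : ∀ j : Fin m, g 0 j.succ = 0 ∧ g j.succ 0 = 0) :
    emb (g.submatrix Fin.succ Fin.succ) = g := by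
  ext i j
  refine Fin.cases ?_ (fun i' => ?_) i <;> refine Fin.cases ?_ (fun j' => ?_) j
  · simp [h00]
  · simp [(hg j').1]
  · simp [(hg i').2]
  · simp

end Cfsg.Agent.Helper2.GLInv
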