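import Mathlib
import Cfsg.Prelude.Def_CaseTheorems
import Cfsg.Agent.Helper2.GLInvA

set_option autoImplicit false

/-!
The centralizer of the reflection in `GL_{m+1}(F)` contains `SL_m(F)` as a normal subgroup.
-/

namespace Cfsg.Agent.Helper2.GLInv

open Matrix

variable {F : Type*} [Field F] {m : ℕ}

theorem tGL_sq : tGL F m * tGL F m = 1 := Units.ext tMat_mul_self

/-- The centralizer of the reflection. -/
abbrev Cent (F : Type*) [Field F] (m : ℕ) : Subgroup (GL (Fin (m + 1)) F) :=
  Subgroup.centralizer {tGL F m}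

theorem comm_of_mem {g : GL (Fin (m + 1)) F} (hg : g ∈ Cent F m) :
    tMat F m * (g : Matrix (Fin (m + 1)) (Fin (m + 1)) F) =
      (g : Matrix (Fin (m + 1)) (Fin (m + 1)) F) * tMat F m := by
  have h := Subgroup.mem_centralizer_iff.mp hg (tGL F m) rfl
  exact congrArg Units.val h

theorem coe_mul_inv (A : SpecialLinearGroup (Fin m) F) :
    (A : Matrix (Fin m) (Fin m) F) * ((A⁻¹ : SpecialLinearGroup (Fin m) F) : Matrix (Fin m) (Fin m) F) = 1 := by
  have h := congrArg (fun X : SpecialLinearGroup (Fin m) F => (X : Matrix (Fin m) (Fin m) F))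
    (mul_inv_cancel A)
  exact h

theorem coe_inv_mul (A : SpecialLinearGroup (Fin m) F) :
    ((A⁻¹ : SpecialLinearGroup (Fin m) F) : Matrix (Fin m) (Fin m) F) * (A : Matrix (Fin m) (Fin m) F) = 1 := by
  have h := congrArg (fun X : SpecialLinearGroup (Fin m) F => (X : Matrix (Fin m) (Fin m) F))
    (inv_mul_cancel A)
  exact h

/-- `diag(1, A)` as an element of `GL`. -/
def phiGL (A : SpecialLinearGroup (Fin m) F) : GL (Fin (m + 1)) F :=
  ⟨emb (A : Matrix (Fin m) (Fin m) F), emb ((A⁻¹ : SpecialLinearGroup (Fin m) F) : Matrix (Fin m) (Fin m) F),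
    by rw [emb_mul, coe_mul_inv, emb_one],
    by rw [emb_mul, coe_inv_mul, emb_one]⟩

theorem phiGL_val (A : SpecialLinearGroup (Fin m) F) :
    ((phiGL A : GL (Fin (m + 1)) F) : Matrix (Fin (m + 1)) (Fin (m + 1)) F) = emb (A : Matrix (Fin m) (Fin m) F) := rfl

theorem phiGL_mem (A : SpecialLinearGroup (Fin m) F) : phiGL A ∈ Cent F m := by
  rw [Subgroup.mem_centralizer_iff]
  intro h hh
  rw [Set.mem_singleton_iff] at hh
  subst hh
  apply Units.ext
  exact tMat_mul_emb (A : Matrix (Fin m) (Fin m) F)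

/-- The embedding `SL_m(F) → C(t)`. -/
def phi (F : Type*) [Field F] (m : ℕ) : SpecialLinearGroup (Fin m) F →* Cent F m :=
  MonoidHom.mk' (fun A => ⟨phiGL A, phiGL_mem A⟩) (by
    intro A B
    apply Subtype.ext
    apply Units.ext
    change emb ((A * B : SpecialLinearGroup (Fin m) F) : Matrix (Fin m) (Fin m) F) = emb (A : Matrix (Fin m) (Fin m) F) * emb (B : Matrix (Fin m) (Fin m) F)
    rw [emb_mul]
    rfl)

theorem phi_val (A : SpecialLinearGroup (Fin m) F) :
    (((phi F m A : Cent F m) : GL (Fin (m + 1)) F) : Matrix (Fin (m + 1)) (Fin (m + 1)) F) =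
      emb A.1 := rfl

theorem phi_injective : Function.Injective (phi F m) := by
  intro A B h
  apply Subtype.ext
  apply emb_injective
  have := congrArg (fun x : Cent F m =>
    ((x : GL (Fin (m + 1)) F) : Matrix (Fin (m + 1)) (Fin (m + 1)) F)) h
  simpa [phi_val] using this

/-- The `(0,0)`-entry, a homomorphism on the centralizer. -/
def chi (h2 : (2 : F) ≠ 0) : Cent F m →* F where
  toFun g := ((g : GL (Fin (m + 1)) F) : Matrix (Fin (m + 1)) (Fin (m + 1)) F) 0 0
  map_one' := by simp
  map_mul' g h := by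
    change (((g : GL (Fin (m + 1)) F) * (h : GL (Fin (m + 1)) F) : GL (Fin (m + 1)) F) :
      Matrix (Fin (m + 1)) (Fin (m + 1)) F) 0 0 = _
    rw [Units.val_mul]
    exact mul_zero_zero (fun j => (block_of_comm h2 (comm_of_mem g.2) j).1)

/-- The normal subgroup `{g ∈ C(t) : g₀₀ = 1, det g = 1}`. -/
def L (h2 : (2 : F) ≠ 0) : Subgroup (Cent F m) :=
  (Matrix.GeneralLinearGroup.det.comp (Cent F m).subtype).ker ⊓ (chi h2).ker

instance L_normal (h2 : (2 : F) ≠ 0) : (L (m := m) h2).Normal := by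
  unfold L
  infer_instance

theorem range_phi (h2 : (2 : F) ≠ 0) : (phi F m).range = L h2 := by
  apply le_antisymm
  · rintro _ ⟨A, rfl⟩
    refine Subgroup.mem_inf.mpr ⟨?_, ?_⟩
    · rw [MonoidHom.mem_ker]
      apply Units.ext
      change ((phiGL A : GL (Fin (m + 1)) F) : Matrix (Fin (m + 1)) (Fin (m + 1)) F).det = 1
      rw [phiGL_val, det_emb]
      exact A.2
    · rw [MonoidHom.mem_ker]
      change emb (A : Matrix (Fin m) (Fin m) F) 0 0 = 1
      simp
  · intro g hg
    obtain ⟨h1, h0⟩ := Subgroup.mem_inf.mp hg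
    rw [MonoidHom.mem_ker] at h1 h0
    have hdet : ((g : GL (Fin (m + 1)) F) : Matrix (Fin (m + 1)) (Fin (m + 1)) F).det = 1 := by
      have := congrArg Units.val h1
      simpa using this
    have h00 : ((g : GL (Fin (m + 1)) F) : Matrix (Fin (m + 1)) (Fin (m + 1)) F) 0 0 = 1 := h0
    have hblock := block_of_comm h2 (comm_of_mem g.2)
    have hsub : (((g : GL (Fin (m + 1)) F) : Matrix (Fin (m + 1)) (Fin (m + 1)) F).submatrix
        Fin.succ Fin.succ).det = 1 := by
      have := det_of_row_zero _ (fun j => (hblock j).1)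
      rw [hdet, h00, one_mul] at this
      exact this.symm
    refine ⟨⟨_, hsub⟩, ?_⟩
    apply Subtype.ext
    apply Units.ext
    exact eq_emb_of_block h00 hblock

end Cfsg.Agent.Helper2.GLInv
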