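import Mathlib
import Cfsg.Prelude.Def_CaseTheorems
import Cfsg.Agent.Helper2.GLInvB
import Cfsg.Agent.Helper2.Quasisimple2
import Cfsg.Agent.Helper7.PSLSimple
import Cfsg.Agent.Helper4.L2pPSL
import Cfsg.Agent.Helper1.Fitting

set_option autoImplicit false

/-!
`GL_{m+1}(F)`, `|F|` odd, has a non-central involution whose centralizer modulo its core has a
component (for `m ≥ 2`, `(m, |F|) ≠ (2, 3)`).
-/

namespace Cfsg.Agent.Helper2.GLInv

open Matrix

variable {F : Type*} [Field F] {m : ℕ}

theorem two_ne_zero_of_odd [Fintype F] (hF : Odd (Fintype.card F)) : (2 : F) ≠ 0 := by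
  apply Ring.two_ne_zero
  intro h
  have h1 := FiniteField.even_card_iff_char_two.mp h
  rcases hF with ⟨k, hk⟩
  omega

theorem isQuasisimple_SL [Fintype F] (hF : Odd (Fintype.card F)) (hm : 2 ≤ m)
    (h33 : ¬ (m = 2 ∧ Fintype.card F = 3)) :
    Cfsg.IsQuasisimple (SpecialLinearGroup (Fin m) F) := by
  classical
  rcases Nat.lt_or_ge m 3 with h | h
  · have hm2 : m = 2 := by omega
    subst hm2
    have hex : ∃ x : F, x ≠ 0 ∧ x ^ 2 ≠ 1 := by
      by_contra hne
      push Not at hne
      have hsub : (Finset.univ : Finset F) ⊆ {0, 1, -1} := by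
        intro x _
        by_cases hx : x = 0
        · simp [hx]
        · have h1 := hne x hx
          have h' : (x - 1) * (x + 1) = 0 := by linear_combination h1
          rcases mul_eq_zero.mp h' with h'' | h''
          · have : x = 1 := by linear_combination h''
            simp [this]
          · have : x = -1 := by linear_combination h''
            simp [this]
      have hcard : Fintype.card F ≤ 3 := by
        calc Fintype.card F = (Finset.univ : Finset F).card := Finset.card_univ.symm
          _ ≤ ({0, 1, -1} : Finset F).card := Finset.card_le_card hsub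
          _ ≤ 3 := Finset.card_le_three
      have h2 : 1 < Fintype.card F := Fintype.one_lt_card
      rcases hF with ⟨k, hk⟩
      have : Fintype.card F = 3 := by omega
      exact h33 ⟨rfl, this⟩
    exact ⟨⟨Cfsg.Agent.Helper4.L2p.commutator_SL2_eq_top hex⟩,
      Cfsg.Agent.Helper4.L2p.isSimpleGroup_PSL2 hex⟩
  · exact ⟨⟨Cfsg.Agent.Helper7.Transv.commutator_SL_eq_top h⟩,
      Cfsg.Agent.Helper7.Transv.isSimpleGroup_PSL h⟩

theorem exists_invol_SL (hm : 2 ≤ m) (h2 : (2 : F) ≠ 0) :
    ∃ A : SpecialLinearGroup (Fin m) F, A ≠ 1 ∧ A * A = 1 := by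
  obtain ⟨k, rfl⟩ : ∃ k, m = k + 2 := ⟨m - 2, by omega⟩
  let d : Fin (k + 2) → F := fun i => if i.val < 2 then -1 else 1
  have hdet : (Matrix.diagonal d).det = 1 := by
    rw [Matrix.det_diagonal, Fin.prod_univ_succ, Fin.prod_univ_succ]
    simp [d]
  refine ⟨⟨Matrix.diagonal d, hdet⟩, ?_, ?_⟩
  · intro h
    have h1 := congrArg (fun X : SpecialLinearGroup (Fin (k + 2)) F =>
      (X : Matrix (Fin (k + 2)) (Fin (k + 2)) F) 0 0) h
    simp [d] at h1
    apply h2
    linear_combination (-1 : F) * h1
  · apply Subtype.ext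
    change Matrix.diagonal d * Matrix.diagonal d = 1
    rw [Matrix.diagonal_mul_diagonal, ← Matrix.diagonal_one]
    congr 1
    ext i
    simp only [d]
    split_ifs <;> simp

theorem main [Fintype F] [DecidableEq F] (hF : Odd (Fintype.card F)) (hm : 2 ≤ m)
    (h33 : ¬ (m = 2 ∧ Fintype.card F = 3)) :
    ∃ t : GL (Fin (m + 1)) F, orderOf t = 2 ∧ t ∉ Subgroup.center (GL (Fin (m + 1)) F) ∧
      Cfsg.HasComponent (↥(Subgroup.centralizer ({t} : Set (GL (Fin (m + 1)) F))) ⧸
        Cfsg.oddCore ↥(Subgroup.centralizer ({t} : Set (GL (Fin (m + 1)) F)))) := by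
  have h2 := two_ne_zero_of_odd hF
  refine ⟨tGL F m, ?_, ?_, ?_⟩
  · apply orderOf_eq_prime
    · rw [pow_two]
      exact tGL_sq
    · intro h
      have h1 := congrArg (fun g : GL (Fin (m + 1)) F =>
        (g : Matrix (Fin (m + 1)) (Fin (m + 1)) F) 0 0) h
      simp [tGL, tMat] at h1
      apply h2
      linear_combination (-1 : F) * h1
  · intro hc
    let i₀ : Fin m := ⟨0, by omega⟩
    have hne : (0 : Fin (m + 1)) ≠ i₀.succ := (Fin.succ_ne_zero i₀).symm
    let s : GL (Fin (m + 1)) F :=
      ⟨Matrix.transvection 0 i₀.succ (1 : F), Matrix.transvection 0 i₀.succ (-1 : F),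
        by rw [Matrix.transvection_mul_transvection_same (h := hne), add_neg_cancel, Matrix.transvection_zero],
        by rw [Matrix.transvection_mul_transvection_same (h := hne), neg_add_cancel, Matrix.transvection_zero]⟩
    have hs : s ∈ Cent F m := by
      rw [Subgroup.mem_centralizer_iff]
      intro h hh
      rw [Set.mem_singleton_iff] at hh
      subst hh
      exact (Subgroup.mem_center_iff.mp hc s).symm
    have h1 := (block_of_comm h2 (comm_of_mem hs) i₀).1
    change Matrix.transvection 0 i₀.succ (1 : F) 0 i₀.succ = 0 at h1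
    simp [Matrix.transvection, hne] at h1
  · have hSL := isQuasisimple_SL hF hm h33
    have : Finite (GL (Fin (m + 1)) F) := inferInstance
    let ψ : SpecialLinearGroup (Fin m) F →* (Cent F m) ⧸ Cfsg.oddCore (Cent F m) :=
      (QuotientGroup.mk' (Cfsg.oddCore (Cent F m))).comp (phi F m)
    refine ⟨ψ.range, ?_, ?_⟩
    · have hr : ψ.range = (L h2).map (QuotientGroup.mk' (Cfsg.oddCore (Cent F m))) := by
        rw [← range_phi h2, MonoidHom.map_range]
      have hn : ψ.range.Normal := by
        rw [hr]
        exact Subgroup.Normal.map inferInstance _ (QuotientGroup.mk'_surjective _)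
      exact hn.isSubnormal
    · rcases isQuasisimple_or_of_surjective hSL ψ.rangeRestrict ψ.rangeRestrict_surjective with
        hsub | hq
      · exfalso
        obtain ⟨A, hA1, hAA⟩ := exists_invol_SL (F := F) hm h2
        have h1 : ψ A = 1 := by
          have h := Subsingleton.elim (ψ.rangeRestrict A) 1
          exact congrArg Subtype.val h
        have hmem : phi F m A ∈ Cfsg.oddCore (Cent F m) := by
          rwa [MonoidHom.comp_apply, QuotientGroup.mk'_apply, QuotientGroup.eq_one_iff] at h1
        have hord : orderOf (phi F m A) = 2 := by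
          rw [orderOf_injective (phi F m) phi_injective A]
          exact orderOf_eq_prime (by rw [pow_two]; exact hAA) hA1
        have hdvd : 2 ∣ Nat.card (Cfsg.oddCore (Cent F m)) := by
          have h := orderOf_dvd_natCard (⟨phi F m A, hmem⟩ : Cfsg.oddCore (Cent F m))
          rwa [Subgroup.orderOf_mk, hord] at h
        have hcop := Cfsg.Agent.Helper1.card_pPrimeCore_coprime (G := Cent F m) 2
        have := Nat.Coprime.eq_one_of_dvd hcop.symm hdvd
        omega
      · exact hq

end Cfsg.Agent.Helper2.GLInv
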