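import Mathlib
import Cfsg.Agent.Helper2.CyclicSylow2

set_option autoImplicit false

/-!
A finite group of even order with cyclic Sylow 2-subgroups has a subgroup of index 2 invariant
under all automorphisms (the kernel of the sign of the regular representation).
-/

namespace Cfsg.Agent.Helper2.Sh3Odd

open Equiv Equiv.Perm

variable {G : Type*} [Group G]

theorem exists_char_index_two [Finite G] (heven : Even (Nat.card G)) (T : Sylow 2 G)
    (hT : IsCyclic (T : Subgroup G)) :
    ∃ M : Subgroup G, M.index = 2 ∧ ∀ φ : G ≃* G, ∀ x : G, x ∈ M ↔ φ x ∈ M := by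
  classical
  have : Fact (Nat.Prime 2) := ⟨Nat.prime_two⟩
  have : Fintype G := Fintype.ofFinite G
  obtain ⟨⟨g, hgT⟩, hg⟩ := hT.exists_generator
  have hord : orderOf g = Nat.card (T : Subgroup G) := by
    rw [← Subgroup.orderOf_mk g hgT]
    exact orderOf_eq_card_of_forall_mem_zpowers hg
  have h2T : 2 ∣ Nat.card (T : Subgroup G) := T.dvd_card_of_dvd_card heven.two_dvd
  have hidx : Nat.card G / orderOf g = (T : Subgroup G).index := by
    rw [hord, ← (T : Subgroup G).card_mul_index, Nat.mul_div_cancel_left _ Nat.card_pos]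
  have hodd : Odd (Fintype.card G / orderOf g) := by
    rw [← Nat.card_eq_fintype_card, hidx, ← Nat.not_even_iff_odd, even_iff_two_dvd]
    exact T.not_dvd_index
  have hev : Even (orderOf g) := by rw [hord]; exact even_iff_two_dvd.mpr h2T
  let ψ : G →* ℤˣ := sign.comp (MulAction.toPermHom G G)
  have hψg : ψ g = -1 := sign_toPermHom_eq_neg_one g hev hodd
  refine ⟨ψ.ker, ?_, ?_⟩
  · rw [Subgroup.index_ker]
    have : ψ.range = ⊤ := by
      rw [eq_top_iff]; intro u _
      rcases Int.units_eq_one_or u with rfl | rfl
      · exact one_mem _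
      · exact ⟨g, hψg⟩
    rw [this]; simp
  · intro φ x
    have key : ψ (φ x) = ψ x := by
      have e : MulAction.toPermHom G G (φ x) =
          (φ.toEquiv.symm.trans (MulAction.toPermHom G G x)).trans φ.toEquiv := by
        ext y
        show φ x * y = φ (x * φ.symm y)
        rw [map_mul, MulEquiv.apply_symm_apply]
      show sign (MulAction.toPermHom G G (φ x)) = sign (MulAction.toPermHom G G x)
      rw [e, sign_symm_trans_trans]
    rw [MonoidHom.mem_ker, MonoidHom.mem_ker, key]

end Cfsg.Agent.Helper2.Sh3Odd
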