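import Mathlib
import Cfsg.Agent.Helper2.ZasRegF

set_option autoImplicit false

/-!
A `2`-group acting fixed-point-freely on an elementary abelian `p`-group of odd rank is cyclic:
the determinant is injective on it.
-/

namespace Cfsg.Agent.Helper2.Sh3Odd

open Cfsg.Agent.Helper2.ZasReg

/-- A fixed-point-free involutory automorphism of an abelian group inverts it. -/
theorem inverts_of_fpf_invol {A : Type*} [CommGroup A] (φ : MulAut A) (h2 : ∀ x, φ (φ x) = x)
    (hfpf : ∀ x : A, x ≠ 1 → φ x ≠ x) (x : A) : φ x = x⁻¹ := by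
  have h1 : φ (x * φ x) = x * φ x := by
    rw [map_mul, h2, mul_comm]
  have h3 : x * φ x = 1 := by
    by_contra hne
    exact hfpf _ hne h1
  exact eq_inv_of_mul_eq_one_right h3

/-- the `ZMod p`-module structure on an abelian group of exponent `p` -/
noncomputable def zmodMod {A : Type*} [CommGroup A] (p : ℕ) (hexp : ∀ x : A, x ^ p = 1) :
    Module (ZMod p) (Additive A) :=
  AddCommGroup.zmodModule (n := p) (fun v => by
    show Additive.ofMul (v.toMul ^ p) = 0
    rw [hexp]
    rfl)

theorem isCyclic_two_group_of_fpf {Γ A : Type*} [Group Γ] [CommGroup A] [Finite A] {p f : ℕ}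
    [hp : Fact p.Prime] (hp2 : p ≠ 2) (hexp : ∀ x : A, x ^ p = 1) (hcard : Nat.card A = p ^ f)
    (hf : Odd f) (c : Γ →* MulAut A) (T : Subgroup Γ) [Finite ↥T] (hT : IsPGroup 2 ↥T)
    (hfpf : ∀ t ∈ T, t ≠ 1 → ∀ x : A, x ≠ 1 → c t x ≠ x) : IsCyclic ↥T := by
  have : Fact (Nat.Prime 2) := ⟨Nat.prime_two⟩
  letI : Module (ZMod p) (Additive A) := zmodMod p hexp
  let L : Γ → (Additive A →ₗ[ZMod p] Additive A) :=
    fun γ => AddMonoidHom.toZModLinearMap p (linHom0 c γ : Additive A →+ Additive A)
  have hL : ∀ (γ : Γ) (v : Additive A), L γ v = Additive.ofMul (c γ v.toMul) := fun γ v => rfl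
  have hfin : Module.finrank (ZMod p) (Additive A) = f := by
    have h1 := Module.natCard_eq_pow_finrank (K := ZMod p) (V := Additive A)
    have h2 : Nat.card (Additive A) = p ^ f := hcard
    rw [h2, Nat.card_eq_fintype_card, ZMod.card] at h1
    exact (Nat.pow_right_injective hp.out.two_le h1).symm
  let δ : ↥T →* ZMod p :=
    { toFun := fun t => LinearMap.det (L (t : Γ))
      map_one' := by
        have : L ((1 : ↥T) : Γ) = LinearMap.id := by
          apply LinearMap.ext
          intro v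
          rw [hL, Subgroup.coe_one, map_one]
          rfl
        rw [this, LinearMap.det_id]
      map_mul' := by
        intro t t'
        have : L ((t * t' : ↥T) : Γ) = (L (t : Γ)).comp (L (t' : Γ)) := by
          apply LinearMap.ext
          intro v
          rw [LinearMap.comp_apply, hL, hL, hL, Subgroup.coe_mul, map_mul]
          rfl
        rw [this, LinearMap.det_comp] }
  have hδ : ∀ t : ↥T, δ t = LinearMap.det (L (t : Γ)) := fun t => rfl
  have hinj : Function.Injective δ := by
    rw [injective_iff_map_eq_one]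
    intro t ht
    by_contra ht1
    obtain ⟨k, hk⟩ := (IsPGroup.iff_orderOf.1 hT) t
    have hk0 : k ≠ 0 := by
      intro h0
      rw [h0, pow_zero, orderOf_eq_one_iff] at hk
      exact ht1 hk
    obtain ⟨m, rfl⟩ := Nat.exists_eq_succ_of_ne_zero hk0
    -- the involution
    have hzo : orderOf (t ^ 2 ^ m) = 2 := by
      have h1 : orderOf (t ^ (orderOf t / 2)) = 2 :=
        orderOf_pow_orderOf_div (orderOf_pos t).ne' (by rw [hk, pow_succ]; exact dvd_mul_left 2 _)
      have h2 : orderOf t / 2 = 2 ^ m := by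
        rw [hk, pow_succ, Nat.mul_div_cancel _ (by norm_num : 0 < 2)]
      rwa [h2] at h1
    have hz1 : t ^ 2 ^ m ≠ 1 := by
      intro e
      rw [e, orderOf_one] at hzo
      omega
    have hz2 : (t ^ 2 ^ m) * (t ^ 2 ^ m) = 1 := by
      have h1 := pow_orderOf_eq_one (t ^ 2 ^ m)
      rw [hzo, pow_two] at h1
      exact h1
    have hδz : δ (t ^ 2 ^ m) = 1 := by rw [map_pow, ht, one_pow]
    -- but the involution acts as `-1`
    have hz1' : ((t ^ 2 ^ m : ↥T) : Γ) ≠ 1 := fun e => hz1 (Subtype.ext e)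
    have hz2' : ((t ^ 2 ^ m : ↥T) : Γ) * ((t ^ 2 ^ m : ↥T) : Γ) = 1 := by
      have := congrArg Subtype.val hz2
      exact this
    have hneg : L ((t ^ 2 ^ m : ↥T) : Γ) = (-1 : ZMod p) • LinearMap.id := by
      apply LinearMap.ext
      intro v
      rw [hL, LinearMap.smul_apply, LinearMap.id_apply, neg_one_smul]
      have := inverts_of_fpf_invol (c ((t ^ 2 ^ m : ↥T) : Γ)) (by
        intro x
        have e : c ((t ^ 2 ^ m : ↥T) : Γ) (c ((t ^ 2 ^ m : ↥T) : Γ) x) =
            (c (((t ^ 2 ^ m : ↥T) : Γ) * ((t ^ 2 ^ m : ↥T) : Γ))) x := by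
          rw [map_mul]; rfl
        rw [e, hz2', map_one]
        rfl) (hfpf _ (t ^ 2 ^ m).2 hz1') v.toMul
      rw [this]
      rfl
    rw [hδ, hneg, LinearMap.det_smul, hfin, LinearMap.det_id, mul_one, hf.neg_one_pow] at hδz
    haveI : Fact (2 < p) := ⟨lt_of_le_of_ne hp.out.two_le (Ne.symm hp2)⟩
    exact ZMod.neg_one_ne_one hδz
  exact isCyclic_of_injective_ringHom δ hinj

end Cfsg.Agent.Helper2.Sh3Odd
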