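import Mathlib
import Cfsg.Agent.Helper2.ZasOddC

set_option autoImplicit false

/-!
Doubly transitive groups in which only the identity fixes three points and some non-identity
element fixes two: the point stabiliser is a Frobenius group, and its kernel is regular on the
remaining points.
-/

namespace Cfsg.Agent.Helper2.ZasReg

open MulAction
open scoped Pointwise
open Cfsg.Agent.Helper2.ZasOdd

variable {G Ω : Type*} [Group G] [MulAction G Ω]

theorem isFrobeniusComplement_H1' (h2 : IsMultiplyPretransitive G Ω 2)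
    (h3 : ∀ g : G, ∀ a b c : Ω, a ≠ b → b ≠ c → a ≠ c → g • a = a → g • b = b → g • c = c → g = 1)
    {a b c : Ω} (hab : a ≠ b) (hca : c ≠ a) (hcb : c ≠ b) {x : G} (hx1 : x ≠ 1)
    (hxa : x • a = a) (hxb : x • b = b) :
    Cfsg.IsFrobeniusComplement (H1 G a b) := by
  refine ⟨?_, ?_, ?_⟩
  · intro hbot
    have h1 : (⟨x, mem_stabilizer_iff.mpr hxa⟩ : ↥(stabilizer G a)) ∈ H1 G a b := mem_H1.mpr hxb
    rw [hbot, Subgroup.mem_bot] at h1
    apply hx1
    exact congrArg Subtype.val h1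
  · intro htop
    rw [is_two_pretransitive_iff] at h2
    obtain ⟨g, hga, hgb⟩ := h2 hab (Ne.symm hca)
    have hmem : (⟨g, mem_stabilizer_iff.mpr hga⟩ : ↥(stabilizer G a)) ∈ H1 G a b := by
      rw [htop]; trivial
    rw [mem_H1] at hmem
    exact hcb (hgb.symm.trans hmem)
  · intro g hg
    rw [eq_bot_iff]
    intro y hy
    obtain ⟨hy1, hy2⟩ := Subgroup.mem_inf.mp hy
    rw [Subgroup.mem_bot]
    rw [Subgroup.mem_pointwise_smul_iff_inv_smul_mem] at hy2
    have hconj : (MulAut.conj g)⁻¹ • y = g⁻¹ * y * g := by simp [MulAut.smul_def]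
    rw [hconj, mem_H1] at hy2
    rw [mem_H1] at hy1 hg
    have hga : (g : G) • a = a := mem_stabilizer_iff.mp g.2
    have hya : (y : G) • a = a := mem_stabilizer_iff.mp y.2
    have h3' : (y : G) • ((g : G) • b) = (g : G) • b := by
      have h4 : ((g : G)⁻¹ * (y : G) * (g : G)) • b = b := hy2
      rw [mul_smul, mul_smul] at h4
      have h5 := congrArg (fun z => (g : G) • z) h4
      simpa using h5
    have hne1 : (g : G) • b ≠ b := hg
    have hne2 : a ≠ (g : G) • b := by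
      intro h
      have : (g : G) • a = (g : G) • b := by rw [hga]; exact h
      exact hab (MulAction.injective (g : G) this)
    have := h3 (y : G) a b ((g : G) • b) hab (Ne.symm hne1) hne2 hya hy1 h3'
    exact Subtype.ext this

theorem exists_kernel [Finite G] (h2 : IsMultiplyPretransitive G Ω 2)
    (h3 : ∀ g : G, ∀ a b c : Ω, a ≠ b → b ≠ c → a ≠ c → g • a = a → g • b = b → g • c = c → g = 1)
    {a b c : Ω} (hab : a ≠ b) (hca : c ≠ a) (hcb : c ≠ b) {x : G} (hx1 : x ≠ 1)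
    (hxa : x • a = a) (hxb : x • b = b) :
    ∃ K : Subgroup G, K ≤ stabilizer G a ∧
      (∀ y ∈ stabilizer G a, ∀ k ∈ K, y * k * y⁻¹ ∈ K) ∧
      (∀ d, d ≠ a → ∃ k ∈ K, k • b = d) ∧ (∀ k ∈ K, k ≠ 1 → ∀ d, d ≠ a → k • d ≠ d) := by
  have hF := isFrobeniusComplement_H1' h2 h3 hab hca hcb hx1 hxa hxb
  obtain ⟨K', hKset, hKn, hKc⟩ := Cfsg.Agent.Helper6.frobenius_kernel_theorem (H1 G a b) hF
  rw [is_two_pretransitive_iff] at h2
  refine ⟨K'.map (stabilizer G a).subtype, ?_, ?_, ?_, ?_⟩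
  · rintro _ ⟨k, -, rfl⟩
    exact k.2
  · rintro y hy _ ⟨k, hk, rfl⟩
    exact ⟨⟨y, hy⟩ * k * ⟨y, hy⟩⁻¹, hKn.conj_mem k hk ⟨y, hy⟩, rfl⟩
  · intro d hda
    obtain ⟨y, hya, hyb⟩ := h2 hab (Ne.symm hda)
    obtain ⟨⟨k, h₀⟩, hkh⟩ := hKc.2 ⟨y, mem_stabilizer_iff.mpr hya⟩
    refine ⟨((k : ↥(stabilizer G a)) : G), ⟨k, k.2, rfl⟩, ?_⟩
    have h1 : ((k : ↥(stabilizer G a)) : G) * ((h₀ : ↥(stabilizer G a)) : G) = y :=
      congrArg Subtype.val hkh
    have h2' : ((h₀ : ↥(stabilizer G a)) : G) • b = b := mem_H1.mp h₀.2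
    rw [← hyb, ← h1, mul_smul, h2']
  · rintro _ ⟨k, hk, rfl⟩ hk1 d hda hkd
    have hk' : k ∈ Cfsg.frobeniusKernel (H1 G a b) := by
      rw [← hKset]; exact hk
    rcases hk' with rfl | hk'
    · exact hk1 rfl
    · obtain ⟨y, hya, hyb⟩ := h2 hab (Ne.symm hda)
      apply hk' ⟨y, mem_stabilizer_iff.mpr hya⟩
      rw [Subgroup.mem_pointwise_smul_iff_inv_smul_mem]
      have hconj : (MulAut.conj (⟨y, mem_stabilizer_iff.mpr hya⟩ : ↥(stabilizer G a)))⁻¹ • k =
          (⟨y, mem_stabilizer_iff.mpr hya⟩ : ↥(stabilizer G a))⁻¹ * k *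
            ⟨y, mem_stabilizer_iff.mpr hya⟩ := by simp [MulAut.smul_def]
      rw [hconj, mem_H1]
      show (y⁻¹ * (k : G) * y) • b = b
      have hkd' : (k : G) • d = d := hkd
      rw [mul_smul, mul_smul, hyb, hkd', ← hyb, inv_smul_smul]

end Cfsg.Agent.Helper2.ZasReg
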