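import Mathlib
import Cfsg.Agent.Helper2.Sharp3A
import Cfsg.Agent.Helper2.ZasRegE
import Cfsg.Agent.Helper7.TwoOrbits

set_option autoImplicit false

/-!
Sharply 3-transitive groups: the Frobenius kernel of a point stabiliser.
-/

namespace Cfsg.Agent.Helper2.Sh3Odd

open MulAction Cfsg.Agent.Helper2.Sharp3 Cfsg.Agent.Helper7.TwoOrb

variable {G Ω : Type*} [Group G] [MulAction G Ω] [Fintype Ω]

omit [Group G] [MulAction G Ω] in
theorem exists_ne_three (h4 : 4 ≤ Fintype.card Ω) (x y z : Ω) :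
    ∃ w : Ω, w ≠ x ∧ w ≠ y ∧ w ≠ z := by
  classical
  by_contra hcon
  push_neg at hcon
  have h1 : (Finset.univ : Finset Ω) ⊆ {x, y, z} := by
    intro w _
    by_cases hx : w = x
    · simp [hx]
    by_cases hy : w = y
    · simp [hy]
    · simp [hcon w hx hy]
  have h2 := Finset.card_le_card h1
  have h3 : ({x, y, z} : Finset Ω).card ≤ 3 := Finset.card_le_three
  rw [Finset.card_univ] at h2
  omega

theorem two_pretransitive_of_sharpThree (h : SharpThree G Ω) (h4 : 4 ≤ Fintype.card Ω) :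
    IsMultiplyPretransitive G Ω 2 := by
  rw [is_two_pretransitive_iff]
  intro x y x' y' hxy hxy'
  obtain ⟨z, hzx, hzy, -⟩ := exists_ne_three h4 x y y
  obtain ⟨z', hzx', hzy', -⟩ := exists_ne_three h4 x' y' y'
  obtain ⟨g, hg1, hg2, -⟩ := h.trans x y z x' y' z' hxy (Ne.symm hzx) (Ne.symm hzy) hxy'
    (Ne.symm hzx') (Ne.symm hzy')
  exact ⟨g, hg1, hg2⟩

theorem exists_kernel_sharp [Finite G] (h : SharpThree G Ω) {p f : ℕ} (hp : p.Prime)
    (hf : 1 ≤ f) (hp2 : p ≠ 2) (hΩ : Fintype.card Ω = p ^ f + 1) {a b : Ω} (hab : a ≠ b) :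
    ∃ N : Subgroup G, (∀ n ∈ N, n • a = a) ∧ (∀ n ∈ N, ∀ y : Ω, y ≠ a → n • y = y → n = 1) ∧
      (∀ y z : Ω, y ≠ a → z ≠ a → ∃ n ∈ N, n • y = z) ∧
      (∀ g : G, g • a = a → ∀ n ∈ N, g * n * g⁻¹ ∈ N) ∧
      (∀ n ∈ N, ∀ m ∈ N, n * m = m * n) ∧ Nat.card N = p ^ f ∧ (∀ n ∈ N, n ^ p = 1) ∧
      Nat.card ↥(stabilizer G a ⊓ stabilizer G b) = p ^ f - 1 ∧
      (∀ h' ∈ stabilizer G a ⊓ stabilizer G b, ∀ x ∈ N, x ≠ 1 → h' * x * h'⁻¹ = x → h' = 1) := by
  classical
  have hp3 : 3 ≤ p := by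
    have := hp.two_le
    omega
  have hpf : p ≤ p ^ f := by
    calc p = p ^ 1 := (pow_one p).symm
      _ ≤ p ^ f := Nat.pow_le_pow_right hp.pos hf
  have h4 : 4 ≤ Fintype.card Ω := by omega
  have h2t := two_pretransitive_of_sharpThree h h4
  have h3' : ∀ g : G, ∀ a b c : Ω, a ≠ b → b ≠ c → a ≠ c → g • a = a → g • b = b →
      g • c = c → g = 1 := fun g a b c hab hbc hac => h.sharp g a b c hab hac hbc
  obtain ⟨c, hca, hcb, -⟩ := exists_ne_three h4 a b b
  obtain ⟨d, hda, hdb, hdc⟩ := exists_ne_three h4 a b c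
  obtain ⟨x, hxa, hxb, hxc⟩ := h.trans a b c a b d hab (Ne.symm hca) (Ne.symm hcb) hab
    (Ne.symm hda) (Ne.symm hdb)
  have hx1 : x ≠ 1 := by
    rintro rfl
    rw [one_smul] at hxc
    exact hdc hxc.symm
  obtain ⟨N, hNle, hNnorm, hNtr, hNsemi⟩ :=
    Cfsg.Agent.Helper2.ZasReg.exists_kernel h2t h3' hab hca hcb hx1 hxa hxb
  have hNa : ∀ n ∈ N, n • a = a := fun n hn => mem_stabilizer_iff.mp (hNle hn)
  have hNfree : ∀ n ∈ N, ∀ y : Ω, y ≠ a → n • y = y → n = 1 := by
    intro n hn y hy hny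
    by_contra hn1
    exact hNsemi n hn hn1 y hy hny
  have hNtrans : ∀ y z : Ω, y ≠ a → z ≠ a → ∃ n ∈ N, n • y = z := by
    intro y z hy hz
    obtain ⟨k₁, hk₁, hk₁y⟩ := hNtr y hy
    obtain ⟨k₂, hk₂, hk₂z⟩ := hNtr z hz
    refine ⟨k₂ * k₁⁻¹, N.mul_mem hk₂ (N.inv_mem hk₁), ?_⟩
    rw [mul_smul, ← hk₁y, inv_smul_smul, hk₂z]
  have hNnorm' : ∀ g : G, g • a = a → ∀ n ∈ N, g * n * g⁻¹ ∈ N :=
    fun g hg n hn => hNnorm g (mem_stabilizer_iff.mpr hg) n hn
  set H : Subgroup G := stabilizer G a ⊓ stabilizer G b with hH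
  have hmemH : ∀ h' : G, h' ∈ H ↔ h' • a = a ∧ h' • b = b := by
    intro h'
    rw [hH, Subgroup.mem_inf, mem_stabilizer_iff, mem_stabilizer_iff]
  have hnorm : ∀ h' ∈ H, ∀ x ∈ N, h' * x * h'⁻¹ ∈ N :=
    fun h' hh => hNnorm' h' ((hmemH h').1 hh).1
  have hfree : ∀ h' ∈ H, ∀ x ∈ N, x ≠ 1 → h' * x * h'⁻¹ = x → h' = 1 := by
    intro h' hh x hx hx1 hconj
    obtain ⟨hha, hhb⟩ := (hmemH h').1 hh
    have hxa : x • a = a := hNa x hx
    have hcomm : h' * x = x * h' := by
      have : h' * x = (h' * x * h'⁻¹) * h' := by group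
      rw [this, hconj]
    have h3 : h' • (x • b) = x • b := by
      rw [← mul_smul, hcomm, mul_smul, hhb]
    have hxb : x • b ≠ b := fun e => hx1 (hNfree x hx b (Ne.symm hab) e)
    have hxba : x • b ≠ a := by
      intro e
      apply hab
      have : x • b = x • a := by rw [e, hxa]
      exact (smul_left_cancel _ this).symm
    exact h.sharp h' a b (x • b) hab (Ne.symm hxba) (Ne.symm hxb) hha hhb h3
  -- cardinalities
  have hcardN : Nat.card N + 1 = Fintype.card Ω := by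
    let φ : N → ({a}ᶜ : Set Ω) := fun u => ⟨(u : G) • b, by
      intro e
      have e' : (u : G) • b = a := e
      have hua : (u : G) • a = a := hNa u u.2
      have : (u : G) • b = (u : G) • a := by rw [e', hua]
      exact hab (smul_left_cancel _ this).symm⟩
    have hφ : Function.Bijective φ := by
      constructor
      · intro u v huv
        have huv' : (u : G) • b = (v : G) • b := congrArg Subtype.val huv
        have h1 : ((v : G)⁻¹ * (u : G)) • b = b := by rw [mul_smul, huv', inv_smul_smul]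
        have h2 := hNfree _ (N.mul_mem (N.inv_mem v.2) u.2) b (Ne.symm hab) h1
        exact Subtype.ext (inv_mul_eq_one.mp h2).symm
      · rintro ⟨z, hz⟩
        obtain ⟨u, hu, huz⟩ := hNtrans b z (Ne.symm hab) hz
        exact ⟨⟨u, hu⟩, Subtype.ext huz⟩
    rw [Nat.card_eq_of_bijective φ hφ, Nat.card_coe_set_eq, Set.ncard_compl, Set.ncard_singleton,
      Nat.card_eq_fintype_card]
    have : 0 < Fintype.card Ω := Fintype.card_pos_iff.2 ⟨a⟩
    omega
  have hcardH : Nat.card H + 2 = Fintype.card Ω := by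
    let φ : H → (({a, b} : Set Ω)ᶜ : Set Ω) := fun u => ⟨(u : G) • c, by
      intro e
      have hu := (hmemH u).1 u.2
      rcases e with e | e
      · have e' : (u : G) • c = a := e
        have : (u : G) • c = (u : G) • a := by rw [e', hu.1]
        exact hca (smul_left_cancel _ this)
      · have e' : (u : G) • c = b := e
        have : (u : G) • c = (u : G) • b := by rw [e', hu.2]
        exact hcb (smul_left_cancel _ this)⟩
    have hφ : Function.Bijective φ := by
      constructor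
      · intro u v huv
        have huv' : (u : G) • c = (v : G) • c := congrArg Subtype.val huv
        have hu := (hmemH u).1 u.2
        have hv := (hmemH v).1 v.2
        have h1 : ((v : G)⁻¹ * (u : G)) • c = c := by rw [mul_smul, huv', inv_smul_smul]
        have h2 : ((v : G)⁻¹ * (u : G)) • a = a := by
          rw [mul_smul, hu.1, inv_smul_eq_iff, hv.1]
        have h3 : ((v : G)⁻¹ * (u : G)) • b = b := by
          rw [mul_smul, hu.2, inv_smul_eq_iff, hv.2]
        have h4 := h.sharp _ a b c hab (Ne.symm hca) (Ne.symm hcb) h2 h3 h1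
        exact Subtype.ext (inv_mul_eq_one.mp h4).symm
      · rintro ⟨z, hz⟩
        have hza : z ≠ a := fun e => hz (Or.inl e)
        have hzb : z ≠ b := fun e => hz (Or.inr e)
        obtain ⟨u, hu1, hu2, hu3⟩ := h.trans a b c a b z hab (Ne.symm hca) (Ne.symm hcb) hab
          (Ne.symm hza) (Ne.symm hzb)
        exact ⟨⟨u, (hmemH u).2 ⟨hu1, hu2⟩⟩, Subtype.ext hu3⟩
    rw [Nat.card_eq_of_bijective φ hφ, Nat.card_coe_set_eq, Set.ncard_compl,
      Set.ncard_pair hab, Nat.card_eq_fintype_card]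
    have : 2 ≤ Fintype.card Ω := by omega
    omega
  have h2 : Nat.card N - 1 ≤ 2 * Nat.card H := by omega
  have hF2 : 2 ≤ Nat.card N := by omega
  obtain ⟨hcomm, p', f', hp', hexp', hf'⟩ := elementary_abelian N H hnorm hfree h2 hF2
  have hNpf : Nat.card N = p ^ f := by omega
  have hpp : p' = p := by
    have hf'0 : f' ≠ 0 := by
      rintro rfl
      rw [pow_zero] at hf'
      omega
    have h1 : p' ∣ p ^ f := by
      rw [← hNpf, hf']
      exact dvd_pow_self p' hf'0
    exact (Nat.prime_dvd_prime_iff_eq hp' hp).1 (hp'.dvd_of_dvd_pow h1)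
  rw [hpp] at hexp'
  exact ⟨N, hNa, hNfree, hNtrans, hNnorm', hcomm, hNpf, hexp', by omega, hfree⟩

end Cfsg.Agent.Helper2.Sh3Odd
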