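import Mathlib
import Cfsg.Agent.Helper2.Sh3OddA
import Cfsg.Agent.Helper2.Sh3OddB
import Cfsg.Agent.Helper2.Sh3OddD
import Cfsg.Agent.Helper2.ZasPSLF

set_option autoImplicit false

/-!
Sharply 3-transitive groups of degree `p ^ f + 1`, `f` odd: the two-point stabiliser has a subgroup
of index two inverted by the involution interchanging the two points.
-/

namespace Cfsg.Agent.Helper2.Sh3Odd

open MulAction Cfsg.Agent.Helper2.Sharp3 Cfsg.Agent.Helper2.ZasPSL

variable {G Ω : Type*} [Group G] [MulAction G Ω] [Fintype Ω]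

set_option maxHeartbeats 800000 in
theorem exists_index_two_inverted [Finite G] (h : SharpThree G Ω) {p f : ℕ} [hp : Fact p.Prime]
    (hp2 : p ≠ 2) (hfo : Odd f) (N : Subgroup G) (hNcomm : ∀ n ∈ N, ∀ m ∈ N, n * m = m * n)
    (hNcard : Nat.card N = p ^ f) (hNexp : ∀ n ∈ N, n ^ p = 1) {a b c : Ω} (hab : a ≠ b)
    (hac : a ≠ c) (hbc : b ≠ c)
    (hnorm : ∀ h' ∈ stabilizer G a ⊓ stabilizer G b, ∀ x ∈ N, h' * x * h'⁻¹ ∈ N)
    (hfree : ∀ h' ∈ stabilizer G a ⊓ stabilizer G b, ∀ x ∈ N, x ≠ 1 → h' * x * h'⁻¹ = x → h' = 1)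
    (hcardH : Nat.card ↥(stabilizer G a ⊓ stabilizer G b) = p ^ f - 1)
    (s : G) (hsa : s • a = b) (hsb : s • b = a) (hsc : s • c = c) :
    ∃ Hp : Subgroup G, Hp ≤ stabilizer G a ⊓ stabilizer G b ∧
      2 * Nat.card Hp = Nat.card ↥(stabilizer G a ⊓ stabilizer G b) ∧
      (∀ h' ∈ stabilizer G a ⊓ stabilizer G b, ∀ k ∈ Hp, h' * k * h'⁻¹ ∈ Hp) ∧
      (∀ h₁ ∈ stabilizer G a ⊓ stabilizer G b, ∀ h₂ ∈ stabilizer G a ⊓ stabilizer G b,
        h₁ ∉ Hp → h₂ ∉ Hp → h₁ * h₂ ∈ Hp) ∧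
      (∀ k ∈ Hp, s * k * s⁻¹ = k⁻¹) := by
  classical
  set H : Subgroup G := stabilizer G a ⊓ stabilizer G b with hH
  haveI : Fintype ↥H := Fintype.ofFinite _
  have hmemH : ∀ h' : G, h' ∈ H ↔ h' • a = a ∧ h' • b = b := by
    intro h'
    rw [hH, Subgroup.mem_inf, mem_stabilizer_iff, mem_stabilizer_iff]
  letI : CommGroup ↥N :=
    { (inferInstance : Group ↥N) with mul_comm := fun x y => Subtype.ext (hNcomm x x.2 y y.2) }
  have : Fact (Nat.Prime 2) := ⟨Nat.prime_two⟩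
  obtain ⟨T⟩ := (inferInstance : Nonempty (Sylow 2 ↥H))
  have hT : IsCyclic ↥(T : Subgroup ↥H) := by
    apply isCyclic_two_group_of_fpf hp2 (A := ↥N) (fun x => Subtype.ext (by
      rw [Subgroup.coe_pow]; exact hNexp x x.2)) hNcard hfo (conjAct N H hnorm)
      (T : Subgroup ↥H) T.isPGroup'
    intro t _ ht1 x hx1 e
    apply ht1
    have e' : (t : G) * x * (t : G)⁻¹ = x := congrArg Subtype.val e
    exact Subtype.ext (hfree t t.2 x x.2 (fun e1 => hx1 (Subtype.ext e1)) e')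
  have hpodd : Odd (p ^ f) := (hp.out.odd_of_ne_two hp2).pow
  have hpf1 : 1 ≤ p ^ f := Nat.one_le_pow _ _ hp.out.pos
  have heven : Even (Nat.card ↥H) := by
    rw [hcardH]
    obtain ⟨k, hk⟩ := hpodd
    exact ⟨k, by omega⟩
  obtain ⟨M', hidx, hchar⟩ := exists_char_index_two heven T hT
  -- `s` is an involution
  have hs2 : s * s = 1 := by
    apply h.sharp (s * s) a b c hab hac hbc
    · rw [mul_smul, hsa, hsb]
    · rw [mul_smul, hsb, hsa]
    · rw [mul_smul, hsc, hsc]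
  have hsinv : s⁻¹ = s := inv_eq_of_mul_eq_one_right hs2
  have hθmem : ∀ x ∈ H, s * x * s ∈ H := by
    intro x hx
    obtain ⟨hxa, hxb⟩ := (hmemH x).1 hx
    rw [hmemH]
    constructor
    · rw [mul_smul, mul_smul, hsa, hxb, hsb]
    · rw [mul_smul, mul_smul, hsb, hxa, hsa]
  let θ : ↥H ≃* ↥H :=
    { toFun := fun x => ⟨s * x * s, hθmem x x.2⟩
      invFun := fun x => ⟨s * x * s, hθmem x x.2⟩
      left_inv := fun x => Subtype.ext (by
        show s * (s * (x : G) * s) * s = x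
        calc s * (s * (x : G) * s) * s = (s * s) * x * (s * s) := by group
          _ = x := by rw [hs2, one_mul, mul_one])
      right_inv := fun x => Subtype.ext (by
        show s * (s * (x : G) * s) * s = x
        calc s * (s * (x : G) * s) * s = (s * s) * x * (s * s) := by group
          _ = x := by rw [hs2, one_mul, mul_one])
      map_mul' := fun x y => Subtype.ext (by
        show s * ((x : G) * (y : G)) * s = (s * x * s) * (s * y * s)
        calc s * ((x : G) * (y : G)) * s = s * x * 1 * y * s := by group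
          _ = s * x * (s * s) * y * s := by rw [hs2]
          _ = (s * x * s) * (s * y * s) := by group) }
  have hθ : ∀ x : ↥H, ((θ x : ↥H) : G) = s * x * s := fun x => rfl
  have hθθ : ∀ x : ↥H, θ (θ x) = x := fun x => θ.left_inv x
  let ψ : ↥H → ↥H := fun x => θ x * x⁻¹
  have hψM : ∀ x : ↥H, ψ x ∈ M' := by
    intro x
    by_cases hx : x ∈ M'
    · exact M'.mul_mem ((hchar θ x).1 hx) (M'.inv_mem hx)
    · rw [Subgroup.mul_mem_iff_of_index_two hidx]
      constructor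
      · intro h1
        exact absurd ((hchar θ x).2 h1) hx
      · intro h1
        exact absurd (by simpa using M'.inv_mem h1) hx
  have hψinv : ∀ x : ↥H, θ (ψ x) = (ψ x)⁻¹ := by
    intro x
    show θ (θ x * x⁻¹) = (θ x * x⁻¹)⁻¹
    rw [map_mul, hθθ, map_inv, mul_inv_rev, inv_inv]
  have hHinj : ∀ u v : ↥H, (u : G) • c = (v : G) • c → u = v := by
    intro u v huv
    have hu := (hmemH u).1 u.2
    have hv := (hmemH v).1 v.2
    have h1 : ((v : G)⁻¹ * (u : G)) • c = c := by rw [mul_smul, huv, inv_smul_smul]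
    have h2 : ((v : G)⁻¹ * (u : G)) • a = a := by
      rw [mul_smul, hu.1, inv_smul_eq_iff, hv.1]
    have h3 : ((v : G)⁻¹ * (u : G)) • b = b := by
      rw [mul_smul, hu.2, inv_smul_eq_iff, hv.2]
    have h4 := h.sharp _ a b c hab hac hbc h2 h3 h1
    exact Subtype.ext (inv_mul_eq_one.mp h4).symm
  have hfixpt : ∀ x y : ↥H, ψ x = ψ y →
      s • (((x : G)⁻¹ * (y : G)) • c) = ((x : G)⁻¹ * (y : G)) • c := by
    intro x y hxy
    have e : s * (x : G) * s * (x : G)⁻¹ = s * (y : G) * s * (y : G)⁻¹ := by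
      have := congrArg (fun t : ↥H => (t : G)) hxy
      exact this
    have e1 : (x : G) * s * (x : G)⁻¹ = (y : G) * s * (y : G)⁻¹ := by
      apply mul_left_cancel (a := s)
      calc s * ((x : G) * s * (x : G)⁻¹) = s * (x : G) * s * (x : G)⁻¹ := by group
        _ = s * (y : G) * s * (y : G)⁻¹ := e
        _ = s * ((y : G) * s * (y : G)⁻¹) := by group
    have e2 : s * ((x : G)⁻¹ * (y : G)) = ((x : G)⁻¹ * (y : G)) * s := by
      calc s * ((x : G)⁻¹ * (y : G)) = (x : G)⁻¹ * ((x : G) * s * (x : G)⁻¹) * (y : G) := by group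
        _ = (x : G)⁻¹ * ((y : G) * s * (y : G)⁻¹) * (y : G) := by rw [e1]
        _ = ((x : G)⁻¹ * (y : G)) * s := by group
    rw [← mul_smul, e2, mul_smul, hsc]
  have hfib : ∀ y ∈ (Finset.univ : Finset ↥H).image ψ,
      ((Finset.univ : Finset ↥H).filter (fun x => ψ x = y)).card ≤ 2 := by
    intro y _
    by_contra hcon
    rw [not_le, Finset.two_lt_card] at hcon
    obtain ⟨x₁, hx₁, x₂, hx₂, x₃, hx₃, h12, h13, h23⟩ := hcon
    rw [Finset.mem_filter] at hx₁ hx₂ hx₃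
    have f2 := hfixpt x₁ x₂ (hx₁.2.trans hx₂.2.symm)
    have f3 := hfixpt x₁ x₃ (hx₁.2.trans hx₃.2.symm)
    have d12 : c ≠ ((x₁ : G)⁻¹ * (x₂ : G)) • c := by
      intro e
      have := hHinj 1 (x₁⁻¹ * x₂) (by
        rw [Subgroup.coe_one, one_smul, Subgroup.coe_mul, Subgroup.coe_inv]; exact e)
      exact h12 (by rw [eq_comm, inv_mul_eq_one] at this; exact this)
    have d13 : c ≠ ((x₁ : G)⁻¹ * (x₃ : G)) • c := by
      intro e
      have := hHinj 1 (x₁⁻¹ * x₃) (by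
        rw [Subgroup.coe_one, one_smul, Subgroup.coe_mul, Subgroup.coe_inv]; exact e)
      exact h13 (by rw [eq_comm, inv_mul_eq_one] at this; exact this)
    have d23 : ((x₁ : G)⁻¹ * (x₂ : G)) • c ≠ ((x₁ : G)⁻¹ * (x₃ : G)) • c := by
      intro e
      have := hHinj (x₁⁻¹ * x₂) (x₁⁻¹ * x₃) (by
        rw [Subgroup.coe_mul, Subgroup.coe_mul, Subgroup.coe_inv]; exact e)
      exact h23 (mul_left_cancel this)
    have hs1 := h.sharp s c _ _ d12 d13 d23 hsc f2 f3
    rw [hs1, one_smul] at hsa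
    exact hab hsa
  have hcard1 : (Finset.univ : Finset ↥H).card ≤ 2 * ((Finset.univ : Finset ↥H).image ψ).card :=
    Finset.card_le_mul_card_image _ 2 hfib
  set MF : Finset ↥H := Finset.univ.filter (fun x => x ∈ M') with hMF
  have hMFcard : MF.card = Nat.card M' := by
    rw [hMF, ← Nat.card_eq_finsetCard]
    apply Nat.card_congr
    refine Equiv.subtypeEquivRight ?_
    intro g
    rw [Finset.mem_filter]
    simp
  have himg : (Finset.univ : Finset ↥H).image ψ ⊆ MF := by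
    intro y hy
    rw [Finset.mem_image] at hy
    obtain ⟨x, -, rfl⟩ := hy
    rw [hMF, Finset.mem_filter]
    exact ⟨Finset.mem_univ _, hψM x⟩
  have hM2 : 2 * Nat.card M' = Nat.card ↥H := by
    have := M'.index_mul_card
    rw [hidx] at this
    exact this
  have hunivcard : (Finset.univ : Finset ↥H).card = Nat.card ↥H := by
    rw [Finset.card_univ, Nat.card_eq_fintype_card]
  have himgeq : (Finset.univ : Finset ↥H).image ψ = MF := by
    apply Finset.eq_of_subset_of_card_le himg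
    rw [hMFcard]
    omega
  have hinvM : ∀ m ∈ M', θ m = m⁻¹ := by
    intro m hm
    have h1 : m ∈ MF := by
      rw [hMF, Finset.mem_filter]
      exact ⟨Finset.mem_univ _, hm⟩
    rw [← himgeq, Finset.mem_image] at h1
    obtain ⟨x, -, rfl⟩ := h1
    exact hψinv x
  refine ⟨M'.map H.subtype, Subgroup.map_subtype_le M', ?_, ?_, ?_, ?_⟩
  · rw [Subgroup.card_map_of_injective H.subtype_injective]
    exact hM2
  · rintro h' hh _ ⟨m, hm, rfl⟩
    refine ⟨MulAut.conj (⟨h', hh⟩ : ↥H) m, (hchar (MulAut.conj (⟨h', hh⟩ : ↥H)) m).1 hm, ?_⟩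
    rfl
  · intro h₁ hh₁ h₂ hh₂ hn₁ hn₂
    have k1 : (⟨h₁, hh₁⟩ : ↥H) ∉ M' := fun hm => hn₁ ⟨⟨h₁, hh₁⟩, hm, rfl⟩
    have k2 : (⟨h₂, hh₂⟩ : ↥H) ∉ M' := fun hm => hn₂ ⟨⟨h₂, hh₂⟩, hm, rfl⟩
    have k3 : (⟨h₁, hh₁⟩ : ↥H) * ⟨h₂, hh₂⟩ ∈ M' := by
      rw [Subgroup.mul_mem_iff_of_index_two hidx]
      exact ⟨fun hm => absurd hm k1, fun hm => absurd hm k2⟩
    exact ⟨_, k3, rfl⟩
  · rintro _ ⟨m, hm, rfl⟩
    have := congrArg (fun t : ↥H => (t : G)) (hinvM m hm)
    rw [hsinv]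
    exact this

end Cfsg.Agent.Helper2.Sh3Odd
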