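import Mathlib

set_option autoImplicit false

/-!
A finite field with a ring endomorphism of order two has square order; hence a finite field of
order `p ^ f` with `f` odd has no such endomorphism besides the identity.
-/

namespace Cfsg.Agent.Helper2.Sh3Odd

variable {K : Type*} [Field K] [Fintype K]

theorem card_eq_mul_self_of_invol (h2 : (2 : K) ≠ 0) (τ : K →+* K)
    (hτ2 : ∀ x, τ (τ x) = x) (hne : ∃ x, τ x ≠ x) : ∃ m : ℕ, Fintype.card K = m * m := by
  classical
  have hτ2' : τ 2 = 2 := map_ofNat τ 2
  obtain ⟨x₀, hx₀⟩ := hne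
  have hw0 : x₀ - τ x₀ ≠ 0 := fun h => hx₀ (sub_eq_zero.mp h).symm
  have hτw : τ (x₀ - τ x₀) = -(x₀ - τ x₀) := by
    rw [map_sub, hτ2]; ring
  generalize x₀ - τ x₀ = w at hw0 hτw
  let e₁ : K ≃ {x : K // τ x = x} × {x : K // τ x = -x} :=
    { toFun := fun x => (⟨(x + τ x) / 2, by
          rw [map_div₀, map_add, hτ2, hτ2', add_comm]⟩, ⟨(x - τ x) / 2, by
          rw [map_div₀, map_sub, hτ2, hτ2']; ring⟩)
      invFun := fun uv => (uv.1 : K) + (uv.2 : K)
      left_inv := by
        intro x
        show (x + τ x) / 2 + (x - τ x) / 2 = x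
        field_simp
        ring
      right_inv := by
        rintro ⟨⟨u, hu⟩, ⟨v, hv⟩⟩
        apply Prod.ext
        · apply Subtype.ext
          show (u + v + τ (u + v)) / 2 = u
          rw [map_add, hu, hv]
          field_simp
          ring
        · apply Subtype.ext
          show (u + v - τ (u + v)) / 2 = v
          rw [map_add, hu, hv]
          field_simp
          ring }
  let e₂ : {x : K // τ x = x} ≃ {x : K // τ x = -x} :=
    { toFun := fun u => ⟨w * u, by rw [map_mul, hτw, u.2]; ring⟩
      invFun := fun v => ⟨w⁻¹ * v, by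
        rw [map_mul, map_inv₀, hτw, v.2]
        field_simp⟩
      left_inv := by
        intro u
        apply Subtype.ext
        show w⁻¹ * (w * u) = u
        rw [← mul_assoc, inv_mul_cancel₀ hw0, one_mul]
      right_inv := by
        intro v
        apply Subtype.ext
        show w * (w⁻¹ * v) = v
        rw [← mul_assoc, mul_inv_cancel₀ hw0, one_mul] }
  refine ⟨Fintype.card {x : K // τ x = x}, ?_⟩
  rw [Fintype.card_congr e₁, Fintype.card_prod, ← Fintype.card_congr e₂]

theorem ringHom_eq_id_of_odd {p f : ℕ} (hp : p.Prime) (hp2 : p ≠ 2)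
    (hK : Fintype.card K = p ^ f) (hf : Odd f) (τ : K →+* K) (hτ2 : ∀ x, τ (τ x) = x) :
    ∀ x, τ x = x := by
  by_contra hcon
  push_neg at hcon
  have hodd : Fintype.card K % 2 = 1 := by
    rw [hK]
    have : Odd p := hp.odd_of_ne_two hp2
    exact Nat.odd_iff.mp this.pow
  have hchar : ringChar K ≠ 2 := by
    intro h
    have := FiniteField.even_card_of_char_two h
    omega
  have h2 : (2 : K) ≠ 0 := Ring.two_ne_zero hchar
  obtain ⟨m, hm⟩ := card_eq_mul_self_of_invol h2 τ hτ2 hcon
  rw [hK] at hm
  have h1 : (p ^ f).factorization p = (m * m).factorization p := by rw [hm]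
  have hm0 : m ≠ 0 := by
    rintro rfl
    rw [zero_mul] at hm
    exact (pow_pos hp.pos f).ne' hm
  rw [Nat.factorization_mul hm0 hm0, hp.factorization_pow, Finsupp.single_eq_same,
    Finsupp.add_apply] at h1
  obtain ⟨k, hk⟩ := hf
  omega

end Cfsg.Agent.Helper2.Sh3Odd
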