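import Mathlib
import Cfsg.Agent.Helper2.Sh3OddC
import Cfsg.Agent.Helper2.ZasPSLB

set_option autoImplicit false

/-!
Field lemmas for sharply 3-transitive groups of degree `p ^ f + 1`, `f` odd.
-/

namespace Cfsg.Agent.Helper2.Sh3Odd

open Polynomial Cfsg.Agent.Helper2.ZasPSL

theorem exists_sq_add_sq_of_odd {K : Type*} [Field K] [Fintype K]
    (hK : Fintype.card K % 2 = 1) (x : K) : ∃ a b : K, a ^ 2 + b ^ 2 = x := by
  let f : K[X] := X ^ 2
  let g : K[X] := X ^ 2 - C x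
  obtain ⟨a, b, hab⟩ : ∃ a b, f.eval a + g.eval b = 0 :=
    @FiniteField.exists_root_sum_quadratic _ _ _ _ f g (degree_X_pow 2)
      (degree_X_pow_sub_C (by decide) _) hK
  refine ⟨a, b, ?_⟩
  rw [← sub_eq_zero]
  simpa only [f, g, eval_C, eval_X, eval_pow, eval_sub, ← add_sub_assoc] using hab

theorem semilinear_eq_mul {K : Type*} [Field K] [Fintype K] {p f : ℕ} (hp : p.Prime) (hp2 : p ≠ 2)
    (hK : Fintype.card K = p ^ f) (hf : Odd f) (τ' : K → K)
    (hadd : ∀ x y, τ' (x + y) = τ' x + τ' y) (h1 : τ' 1 ≠ 0)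
    (hsq : ∀ u : K, u ≠ 0 → ∃ v : K, ∀ x, τ' (u ^ 2 * x) = v * τ' x)
    (hμ : ∃ μ : K, ∀ x, τ' (τ' x) = μ * x) : ∀ x, τ' x = τ' 1 * x := by
  obtain ⟨l, hl⟩ : ∃ l, l = τ' 1 := ⟨_, rfl⟩
  rw [← hl] at h1 ⊢
  have hodd : Fintype.card K % 2 = 1 := by
    rw [hK]
    have : Odd p := hp.odd_of_ne_two hp2
    exact Nat.odd_iff.mp this.pow
  have h0 : τ' 0 = 0 := by
    have := hadd 0 0
    rw [add_zero] at this
    linear_combination -this
  obtain ⟨τ, hτ⟩ : ∃ τ : K → K, ∀ x, τ x = l⁻¹ * τ' x := ⟨fun x => l⁻¹ * τ' x, fun x => rfl⟩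
  have hτ' : ∀ x, τ' x = l * τ x := by
    intro x
    rw [hτ, ← mul_assoc, mul_inv_cancel₀ h1, one_mul]
  have τadd : ∀ x y, τ (x + y) = τ x + τ y := by
    intro x y
    rw [hτ, hτ, hτ, hadd, mul_add]
  have τ0 : τ 0 = 0 := by rw [hτ, h0, mul_zero]
  have τ1 : τ 1 = 1 := by rw [hτ, ← hl, inv_mul_cancel₀ h1]
  have τsq : ∀ u : K, ∀ x, τ (u ^ 2 * x) = τ (u ^ 2) * τ x := by
    intro u x
    by_cases hu : u = 0
    · rw [hu]
      have : (0 : K) ^ 2 = 0 := by norm_num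
      rw [this, zero_mul, τ0, zero_mul]
    · obtain ⟨v, hv⟩ := hsq u hu
      have e1 : τ (u ^ 2) = v := by
        have := hv 1
        rw [mul_one, ← hl] at this
        rw [hτ, this, mul_comm v l, ← mul_assoc, inv_mul_cancel₀ h1, one_mul]
      rw [e1, hτ, hv, hτ x]
      ring
  have τmul : ∀ w x, τ (w * x) = τ w * τ x := by
    intro w x
    obtain ⟨a, b, hab⟩ := exists_sq_add_sq_of_odd hodd w
    rw [← hab, add_mul, τadd, τadd, τsq, τsq, add_mul]
  let τR : K →+* K :=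
    { toFun := τ
      map_one' := τ1
      map_mul' := τmul
      map_zero' := τ0
      map_add' := τadd }
  have hτR : ∀ x, τR x = τ x := fun x => rfl
  have hτl : τ l ≠ 0 := by
    rw [← hτR]
    exact (map_ne_zero τR).mpr h1
  obtain ⟨μ, hμ⟩ := hμ
  have hττ : ∀ x, τ (τ x) = x := by
    intro x
    have e1 : ∀ y, l * τ l * τ (τ y) = μ * y := by
      intro y
      rw [← hμ y, hτ' (τ' y), hτ' y, τmul]
      ring
    have e2 := e1 1
    rw [τ1, τ1, mul_one, mul_one] at e2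
    have e3 := e1 x
    rw [← e2] at e3
    exact mul_left_cancel₀ (mul_ne_zero h1 hτl) e3
  have hid := ringHom_eq_id_of_odd hp hp2 hK hf τR hττ
  intro x
  rw [hτ', ← hτR, hid]

theorem sigma_eq_inv {K : Type*} [Field K] (h2ne : (2 : K) ≠ 0) (P : K → Prop) (hP0 : ¬ P 0)
    (hP1 : P 1) (hPmul : ∀ x y, P x → P y → P (x * y)) (hPinv : ∀ x, P x → P x⁻¹)
    (hPnn : ∀ x y, x ≠ 0 → y ≠ 0 → ¬ P x → ¬ P y → P (x * y))
    (hPex : ∃ ν : K, ν ≠ 0 ∧ ¬ P ν)
    (σ : K → K)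
    (hmul : ∀ x y, x ≠ 0 → y ≠ 0 → σ (x * y) = σ x * σ y)
    (h2 : ∀ x, x ≠ 0 → σ x ≠ 0 ∧ σ (σ x) = x)
    (hP : ∀ u, P u → σ u = u⁻¹)
    (h4 : ∀ x, x ≠ 0 → x ≠ 1 → -σ (-σ x + 1) + 1 = -σ (x - 1)) :
    ∀ x, x ≠ 0 → σ x = x⁻¹ := by
  have hσ1 : σ 1 = 1 := by rw [hP 1 hP1, inv_one]
  have hm1 : (-1 : K) ≠ 0 := neg_ne_zero.mpr one_ne_zero
  have hm11 : (-1 : K) ≠ 1 := by
    intro e
    apply h2ne
    have : (2 : K) = 1 - (-1) := by ring
    rw [this, e, sub_self]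
  have hσm1 : σ (-1) = -1 := by
    have e1 : σ (-1) * σ (-1) = 1 := by
      rw [← hmul _ _ hm1 hm1, neg_mul_neg, one_mul, hσ1]
    rcases mul_self_eq_one_iff.mp e1 with e | e
    · exfalso
      have e2 : σ (σ (-1)) = σ (σ 1) := by rw [e, hσ1, hσ1]
      rw [(h2 _ hm1).2, (h2 _ one_ne_zero).2] at e2
      exact hm11 e2
    · exact e
  have hneg : ∀ x, x ≠ 0 → σ (-x) = -σ x := by
    intro x hx
    have : -x = (-1) * x := by ring
    rw [this, hmul _ _ hm1 hx, hσm1]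
    ring
  by_cases hPneg : P (-1)
  · have key := sigma_eq_neg_inv P hP0 hP1 hPneg hPmul hPinv hPnn hPex (fun x => -σ x)
      (by
        intro α hα x hx
        have hα0 : α ≠ 0 := by
          intro e
          rw [e] at hα
          exact hP0 hα
        show -σ (α * x) = α⁻¹ * -σ x
        rw [hmul _ _ hα0 hx, hP α hα]
        ring)
      (by
        intro x hx
        refine ⟨neg_ne_zero.mpr (h2 x hx).1, ?_⟩
        show -σ (-σ x) = x
        rw [hneg _ (h2 x hx).1, (h2 x hx).2, neg_neg])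
      (by
        show -σ 1 = -1
        rw [hσ1])
      (by
        intro x hx0 hx1
        show -σ (-σ x + 1) + 1 = -σ (x - 1)
        exact h4 x hx0 hx1)
    intro x hx
    have : -σ x = -x⁻¹ := key x hx
    exact neg_injective this
  · intro x hx
    by_cases hx' : P x
    · exact hP x hx'
    · have e1 : P (-x) := by
        have : -x = (-1) * x := by ring
        rw [this]
        exact hPnn _ _ hm1 hx hPneg hx'
      have e2 := hP _ e1
      rw [hneg x hx, inv_neg] at e2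
      exact neg_injective e2

end Cfsg.Agent.Helper2.Sh3Odd
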