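import Mathlib
import Cfsg.Agent.Helper2.Sh3OddF

set_option autoImplicit false

/-!
An element normalising the translation group and the index-two subgroup of the multiplier group
acts as a multiplication (degree `p ^ f + 1`, `f` odd).
-/

namespace Cfsg.Agent.Helper2.Sh3Odd

open MulAction

set_option maxHeartbeats 800000 in
theorem exists_mul_of_normalizes {G Ω : Type*} [Group G] [MulAction G Ω]
    {K : Type*} [Field K] [Fintype K] {p f : ℕ} (hp : p.Prime) (hp2 : p ≠ 2)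
    (hK : Fintype.card K = p ^ f) (hf : Odd f)
    (N Hp : Subgroup G) [Finite ↥Hp] {a : Ω} (pt : K → Ω) (χ : ↥Hp → K)
    (hfaith : ∀ g : G, (∀ y : Ω, g • y = y) → g = 1)
    (hNa : ∀ n ∈ N, n • a = a)
    (hNfree : ∀ n ∈ N, ∀ y : Ω, y ≠ a → n • y = y → n = 1)
    (hHpa : ∀ k ∈ Hp, k • a = a)
    (hptinj : Function.Injective pt) (hptsurj : ∀ y : Ω, y ≠ a → ∃ x, pt x = y)
    (hpta : ∀ x, pt x ≠ a)
    (hT : ∀ β : K, ∃ n ∈ N, ∀ x, n • pt x = pt (x + β))
    (hM : ∀ (k : ↥Hp) (x : K), (k : G) • pt x = pt (χ k * x))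
    (hHpcard : 2 * Nat.card ↥Hp = p ^ f - 1)
    (h : G) (hha : h • a = a) (hhb : h • pt 0 = pt 0)
    (hhN : ∀ n ∈ N, h * n * h⁻¹ ∈ N) (hhHp : ∀ k ∈ Hp, h * k * h⁻¹ ∈ Hp) (hh2 : h * h ∈ Hp) :
    ∃ l : K, ∀ x, h • pt x = pt (l * x) := by
  classical
  have hex : ∀ x : K, ∃ y : K, h • pt x = pt y := by
    intro x
    have hne : h • pt x ≠ a := by
      intro e
      rw [← hha] at e
      exact hpta x (smul_left_cancel _ e)
    obtain ⟨y, hy⟩ := hptsurj _ hne
    exact ⟨y, hy.symm⟩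
  choose τ' hτ' using hex
  have hτ'0 : τ' 0 = 0 := by
    have := hτ' 0
    rw [hhb] at this
    exact (hptinj this).symm
  have hτ'inj : Function.Injective τ' := by
    intro x y hxy
    have e : h • pt x = h • pt y := by rw [hτ', hτ', hxy]
    exact hptinj (smul_left_cancel _ e)
  have hhinv0 : h⁻¹ • pt 0 = pt 0 := by
    rw [inv_smul_eq_iff, hhb]
  -- every element of `N` is a translation
  have htrans : ∀ n ∈ N, ∃ β : K, ∀ x, n • pt x = pt (x + β) := by
    intro n hn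
    have hne : n • pt 0 ≠ a := by
      intro e
      rw [← hNa n hn] at e
      exact hpta 0 (smul_left_cancel _ e)
    obtain ⟨β, hβ⟩ := hptsurj _ hne
    obtain ⟨m, hmN, hm⟩ := hT β
    have e1 : (m⁻¹ * n) • pt 0 = pt 0 := by
      rw [mul_smul, ← hβ, inv_smul_eq_iff, hm, zero_add]
    have e2 := hNfree _ (N.mul_mem (N.inv_mem hmN) hn) _ (hpta 0) e1
    have e3 : n = m := (inv_mul_eq_one.mp e2).symm
    exact ⟨β, fun x => by rw [e3, hm]⟩
  have hadd : ∀ x y, τ' (x + y) = τ' x + τ' y := by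
    intro x β
    obtain ⟨n, hnN, hn⟩ := hT β
    obtain ⟨β', hβ'⟩ := htrans _ (hhN n hnN)
    have e1 : (h * n * h⁻¹) • pt 0 = pt (τ' β) := by
      rw [mul_smul, mul_smul, hhinv0, hn, zero_add, hτ']
    rw [hβ', zero_add] at e1
    have e2 : β' = τ' β := hptinj e1
    have e3 : h • pt (x + β) = (h * n * h⁻¹) • (h • pt x) := by
      rw [← hn, ← mul_smul, ← mul_smul]
      congr 1
      group
    rw [hτ', hτ', hβ', e2] at e3
    exact hptinj e3
  have hτ'1 : τ' 1 ≠ 0 := by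
    intro e
    rw [← hτ'0] at e
    exact one_ne_zero (hτ'inj e)
  have hsemi : ∀ (k : ↥Hp) (x : K), τ' (χ k * x) = χ ⟨h * k * h⁻¹, hhHp k k.2⟩ * τ' x := by
    intro k x
    have e1 : h • pt (χ k * x) = (h * k * h⁻¹) • (h • pt x) := by
      rw [← hM, ← mul_smul, ← mul_smul]
      congr 1
      group
    have e2 := hM ⟨h * k * h⁻¹, hhHp k k.2⟩ (τ' x)
    rw [hτ', hτ'] at e1
    exact hptinj (e1.trans e2)
  -- `χ` is an injective homomorphism into the units
  have hχ0 : ∀ k : ↥Hp, χ k ≠ 0 := by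
    intro k e
    have h1 := hM k 1
    have h0 := hM k 0
    rw [e, zero_mul] at h1
    rw [mul_zero] at h0
    have := hptinj (smul_left_cancel _ (h1.trans h0.symm))
    exact one_ne_zero this
  have hχmul : ∀ k k' : ↥Hp, χ (k * k') = χ k * χ k' := by
    intro k k'
    have h1 := hM (k * k') 1
    rw [Subgroup.coe_mul, mul_smul, hM k' 1, hM k] at h1
    have h2 := hptinj h1
    rw [mul_one, mul_one] at h2
    exact h2.symm
  have hχ1 : χ 1 = 1 := by
    have h1 := hM 1 1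
    rw [Subgroup.coe_one, one_smul] at h1
    have h2 := hptinj h1
    rw [mul_one] at h2
    exact h2.symm
  have hχinj : Function.Injective χ := by
    intro k k' hkk'
    apply Subtype.ext
    have e : (k : G)⁻¹ * (k' : G) = 1 := by
      apply hfaith
      intro y
      rw [mul_smul, inv_smul_eq_iff]
      by_cases hy : y = a
      · rw [hy, hHpa k k.2, hHpa k' k'.2]
      · obtain ⟨x, rfl⟩ := hptsurj y hy
        rw [hM k x, hM k' x, hkk']
    exact (inv_mul_eq_one.mp e)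
  let χu : ↥Hp →* Kˣ :=
    { toFun := fun k => Units.mk0 (χ k) (hχ0 k)
      map_one' := Units.ext hχ1
      map_mul' := fun k k' => Units.ext (hχmul k k') }
  have hχuinj : Function.Injective χu := fun k k' e => hχinj (congrArg Units.val e)
  have hQcard : Nat.card χu.range = Nat.card ↥Hp :=
    (Nat.card_congr (MonoidHom.ofInjective hχuinj).toEquiv).symm
  have hHppos : 0 < Nat.card ↥Hp := Nat.card_pos
  have hKu : Nat.card Kˣ = 2 * Nat.card ↥Hp := by
    rw [Nat.card_units, Nat.card_eq_fintype_card, hK, hHpcard]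
  have hidx : χu.range.index = 2 := by
    have h1 := χu.range.index_mul_card
    rw [hQcard, hKu] at h1
    exact Nat.eq_of_mul_eq_mul_right hHppos h1
  have hsqmem : ∀ u : K, u ≠ 0 → ∃ k : ↥Hp, χ k = u ^ 2 := by
    intro u hu
    obtain ⟨k, hk⟩ := Subgroup.sq_mem_of_index_two hidx (Units.mk0 u hu)
    refine ⟨k, ?_⟩
    have := congrArg Units.val hk
    rw [Units.val_pow_eq_pow_val] at this
    exact this
  have hsq : ∀ u : K, u ≠ 0 → ∃ v : K, ∀ x, τ' (u ^ 2 * x) = v * τ' x := by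
    intro u hu
    obtain ⟨k, hk⟩ := hsqmem u hu
    refine ⟨χ ⟨h * k * h⁻¹, hhHp k k.2⟩, fun x => ?_⟩
    rw [← hk]
    exact hsemi k x
  have hμ : ∃ μ : K, ∀ x, τ' (τ' x) = μ * x := by
    refine ⟨χ ⟨h * h, hh2⟩, fun x => ?_⟩
    have e1 := hM ⟨h * h, hh2⟩ x
    have e2 : (h * h) • pt x = pt (τ' (τ' x)) := by
      rw [mul_smul, hτ', hτ']
    rw [e2] at e1
    exact hptinj e1
  have key := semilinear_eq_mul hp hp2 hK hf τ' hadd hτ'1 hsq hμ
  exact ⟨τ' 1, fun x => by rw [hτ', key]⟩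

end Cfsg.Agent.Helper2.Sh3Odd
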