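import Mathlib
import Cfsg.Agent.Helper2.Sh3OddE
import Cfsg.Agent.Helper2.Sh3OddG
import Cfsg.Agent.Helper2.MobiusC
import Cfsg.Agent.Helper2.GLInvC

set_option autoImplicit false

/-!
A sharply 3-transitive group of degree `p ^ f + 1`, `p` and `f` odd, is `PGL(2, p ^ f)`.
-/

namespace Cfsg.Agent.Helper2.Sh3Odd

open MulAction OnePoint Cfsg.Agent.Helper2.Sharp3 Cfsg.Agent.Helper2.ZasPSL
  Cfsg.Agent.Helper7.TwoOrb

set_option maxHeartbeats 3200000 in
theorem main {G Ω : Type*} [Group G] [Finite G] [MulAction G Ω] [Fintype Ω]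
    (h : SharpThree G Ω) {p f : ℕ} (hp : p.Prime) (hp2 : p ≠ 2) (hfo : Odd f)
    (hΩ : Fintype.card Ω = p ^ f + 1) :
    ∃ (K : Type) (_ : Field K) (_ : Fintype K), Fintype.card K = p ^ f ∧
      Nonempty (G ≃* Matrix.ProjGenLinGroup (Fin 2) K) := by
  classical
  haveI : Fact p.Prime := ⟨hp⟩
  have hf1 : 1 ≤ f := by
    obtain ⟨k, hk⟩ := hfo
    omega
  have hp3 : 3 ≤ p := by
    have := hp.two_le
    omega
  have hpf : p ≤ p ^ f := by
    calc p = p ^ 1 := (pow_one p).symm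
      _ ≤ p ^ f := Nat.pow_le_pow_right hp.pos hf1
  have h4 : 4 ≤ Fintype.card Ω := by omega
  obtain ⟨a⟩ : Nonempty Ω := Fintype.card_pos_iff.mp (by omega)
  obtain ⟨b, hba, -, -⟩ := exists_ne_three h4 a a a
  have hab : a ≠ b := Ne.symm hba
  obtain ⟨c, hca, hcb, -⟩ := exists_ne_three h4 a b b
  have hac : a ≠ c := Ne.symm hca
  have hbc : b ≠ c := Ne.symm hcb
  obtain ⟨N, hNa, hNfree, hNtrans, hNnorm, hNcomm, hNcard, hNexp, hcardH, hfree⟩ :=
    exists_kernel_sharp h hp hf1 hp2 hΩ hab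
  obtain ⟨s, hsa, hsb, hsc⟩ := h.trans a b c b a c hab hac hbc hba hbc hac
  set H : Subgroup G := stabilizer G a ⊓ stabilizer G b with hH
  have hmemH : ∀ h' : G, h' ∈ H ↔ h' • a = a ∧ h' • b = b := by
    intro h'
    rw [hH, Subgroup.mem_inf, mem_stabilizer_iff, mem_stabilizer_iff]
  have hnormH : ∀ h' ∈ H, ∀ x ∈ N, h' * x * h'⁻¹ ∈ N :=
    fun h' hh' => hNnorm h' ((hmemH h').1 hh').1
  obtain ⟨Hp, hHpH, hHpcard, hHpnorm, hHpnn, hHpinv⟩ :=
    exists_index_two_inverted h hp2 hfo N hNcomm hNcard hNexp hab hac hbc hnormH hfree hcardH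
      s hsa hsb hsc
  have hs2 : s * s = 1 := by
    apply h.sharp (s * s) a b c hab hac hbc
    · rw [mul_smul, hsa, hsb]
    · rw [mul_smul, hsb, hsa]
    · rw [mul_smul, hsc, hsc]
  have hsinv : s⁻¹ = s := inv_eq_of_mul_eq_one_right hs2
  have hfaith : ∀ g : G, (∀ y : Ω, g • y = y) → g = 1 :=
    fun g hg => h.sharp g a b c hab hac hbc (hg a) (hg b) (hg c)
  have hHpa : ∀ k ∈ Hp, k • a = a := fun k hk => ((hmemH k).1 (hHpH hk)).1
  have hHpb : ∀ k ∈ Hp, k • b = b := fun k hk => ((hmemH k).1 (hHpH hk)).2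
  have hHpcomm : ∀ k ∈ Hp, ∀ k' ∈ Hp, k * k' = k' * k := by
    intro k hk k' hk'
    have e1 := hHpinv (k * k') (Hp.mul_mem hk hk')
    have e2 : s * (k * k') * s⁻¹ = (s * k * s⁻¹) * (s * k' * s⁻¹) := by group
    rw [e2, hHpinv k hk, hHpinv k' hk'] at e1
    have e3 : (k' * k)⁻¹ = (k * k')⁻¹ := by rw [mul_inv_rev, e1]
    exact (inv_injective e3).symm
  have hpf1 : 1 ≤ p ^ f := Nat.one_le_pow _ _ hp.pos
  have hHpcard' : 2 * Nat.card ↥Hp = p ^ f - 1 := by rw [hHpcard, hcardH]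
  -- irreducibility
  have hnormHp : ∀ k ∈ Hp, ∀ x ∈ N, k * x * k⁻¹ ∈ N := fun k hk => hnormH k (hHpH hk)
  have hfreeHp : ∀ k ∈ Hp, ∀ x ∈ N, x ≠ 1 → k * x * k⁻¹ = x → k = 1 :=
    fun k hk => hfree k (hHpH hk)
  have h2' : Nat.card N - 1 ≤ 2 * Nat.card ↥Hp := by rw [hNcard, hHpcard']
  have hF2 : 2 ≤ Nat.card N := by rw [hNcard]; omega
  have hirr : ∀ M : Subgroup G, M ≤ N → (∀ k ∈ Hp, ∀ m ∈ M, k * m * k⁻¹ ∈ M) →
      M = ⊥ ∨ M = N := by
    intro M hMN hMinv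
    by_cases hM : M = ⊥
    · exact Or.inl hM
    right
    have hTF : ((M : Set G) \ {1}) ⊆ (N : Set G) \ {1} := fun x hx => ⟨hMN hx.1, hx.2⟩
    have hTinv : ∀ k ∈ Hp, ∀ x ∈ ((M : Set G) \ {1}), k * x * k⁻¹ ∈ ((M : Set G) \ {1}) := by
      intro k hk x hx
      refine ⟨hMinv k hk x hx.1, ?_⟩
      intro e
      apply hx.2
      rw [Set.mem_singleton_iff] at e ⊢
      have : x = k⁻¹ * (k * x * k⁻¹) * k := by group
      rw [this, e]
      group
    have hTcard : ((M : Set G) \ {1}).ncard + 1 = Nat.card M := by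
      rw [Set.ncard_sdiff_singleton_add_one (show (1 : G) ∈ (M : Set G) from M.one_mem)
        (Set.toFinite _), ← Nat.card_coe_set_eq]
      rfl
    have hT := diff_one_eq_of_gcd N Hp hnormHp hfreeHp h2' hF2 _ hTF hTinv (by
      rw [hTcard, Nat.gcd_eq_left (Subgroup.card_dvd_of_le hMN)]
      intro e
      exact hM (Subgroup.card_eq_one.mp e))
    apply le_antisymm hMN
    intro n hn
    by_cases hn1 : n = 1
    · rw [hn1]; exact M.one_mem
    · have : n ∈ ((M : Set G) \ {1}) := by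
        rw [hT]
        exact ⟨hn, hn1⟩
      exact this.1
  obtain ⟨K, instF, instFin, pt, χ, hptinj, hptsurj, hpta, hpt0, hpt1, hT, hM, hKcard⟩ :=
    exists_coordinates N Hp hNa hNfree hNtrans hnormHp hNcomm hHpcomm hHpb hirr hab hca hcb
  have hK : Fintype.card K = p ^ f := by rw [hKcard, hNcard]
  refine ⟨K, instF, instFin, hK, ?_⟩
  -- every element of `H` is a multiplication
  have hmulH : ∀ h' : G, h' • a = a → h' • b = b → ∃ l : K, ∀ x, h' • pt x = pt (l * x) := by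
    intro h' hha hhb
    have hh' : h' ∈ H := (hmemH h').2 ⟨hha, hhb⟩
    have hh2 : h' * h' ∈ Hp := by
      by_cases hm : h' ∈ Hp
      · exact Hp.mul_mem hm hm
      · exact hHpnn h' hh' h' hh' hm hm
    exact exists_mul_of_normalizes hp hp2 hK hfo N Hp pt χ hfaith hNa hNfree hHpa hptinj hptsurj
      hpta hT hM hHpcard' h' hha (by rw [hpt0]; exact hhb) (hnormH h' hh') (hHpnorm h' hh') hh2
  have heq_of : ∀ g₁ g₂ : G, g₁ • a = a → g₂ • a = a → (∀ x, g₁ • pt x = g₂ • pt x) →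
      g₁ = g₂ := by
    intro g₁ g₂ h1 h2 h12
    have e : g₂⁻¹ * g₁ = 1 := by
      apply hfaith
      intro y
      rw [mul_smul, inv_smul_eq_iff]
      by_cases hy : y = a
      · rw [hy, h1, h2]
      · obtain ⟨x, rfl⟩ := hptsurj y hy
        exact h12 x
    exact (inv_mul_eq_one.mp e).symm
  have hpt1b : pt 1 ≠ b := by rw [hpt1]; exact hcb
  have hptb : ∀ x : K, x ≠ 0 → pt x ≠ b := by
    intro x hx e
    rw [← hpt0] at e
    exact hx (hptinj e)
  have hexH : ∀ x : K, x ≠ 0 → ∃ h' : G, h' • a = a ∧ h' • b = b ∧ ∀ y, h' • pt y = pt (x * y) := by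
    intro x hx
    obtain ⟨h', h1, h2, h3⟩ := h.trans a b c a b (pt x) hab hac hbc hab (Ne.symm (hpta x))
      (Ne.symm (hptb x hx))
    obtain ⟨l, hl⟩ := hmulH h' h1 h2
    have e := hl 1
    rw [hpt1, h3, mul_one] at e
    have e' : x = l := hptinj e
    refine ⟨h', h1, h2, fun y => ?_⟩
    rw [e', hl]
  -- properties of `χ`
  have hχ0 : ∀ k : ↥Hp, χ k ≠ 0 := by
    intro k e
    have h1 := hM k 1
    rw [e, zero_mul, hpt0, hpt1] at h1
    have h2 : (k : G) • c = (k : G) • b := by rw [h1, hHpb k k.2]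
    exact hcb (smul_left_cancel _ h2)
  have hχmul : ∀ k k' : ↥Hp, χ (k * k') = χ k * χ k' := by
    intro k k'
    have h1 := hM (k * k') 1
    rw [Subgroup.coe_mul, mul_smul, hM k' 1, hM k] at h1
    have h2 := hptinj h1
    rw [mul_one, mul_one] at h2
    exact h2.symm
  have hχ1 : χ 1 = 1 := by
    have h1 := hM 1 1
    rw [Subgroup.coe_one, one_smul] at h1
    have h2 := hptinj h1
    rw [mul_one] at h2
    exact h2.symm
  have hχinv : ∀ k : ↥Hp, χ k⁻¹ = (χ k)⁻¹ := by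
    intro k
    have h1 := hχmul k⁻¹ k
    rw [inv_mul_cancel, hχ1] at h1
    exact eq_inv_of_mul_eq_one_left h1.symm
  -- membership in `Hp` through multipliers
  have hmemHp : ∀ (h' : G) (k : ↥Hp), h' • a = a → (∀ y, h' • pt y = pt (χ k * y)) → h' ∈ Hp := by
    intro h' k h1 h2
    have : h' = (k : G) := heq_of h' k h1 (hHpa k k.2) (fun x => by rw [h2, hM])
    rw [this]
    exact k.2
  let P : K → Prop := fun x => ∃ k : ↥Hp, χ k = x
  have hP0 : ¬ P 0 := fun ⟨k, hk⟩ => hχ0 k hk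
  have hP1 : P 1 := ⟨1, hχ1⟩
  have hPmul : ∀ x y, P x → P y → P (x * y) := by
    rintro _ _ ⟨k, rfl⟩ ⟨k', rfl⟩
    exact ⟨k * k', hχmul k k'⟩
  have hPinv : ∀ x, P x → P x⁻¹ := by
    rintro _ ⟨k, rfl⟩
    exact ⟨k⁻¹, hχinv k⟩
  have hPnn : ∀ x y, x ≠ 0 → y ≠ 0 → ¬ P x → ¬ P y → P (x * y) := by
    intro x y hx hy hxP hyP
    obtain ⟨h₁, h1a, h1b, h1⟩ := hexH x hx
    obtain ⟨h₂, h2a, h2b, h2⟩ := hexH y hy
    have hn1 : h₁ ∉ Hp := by
      intro hm
      apply hxP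
      refine ⟨⟨h₁, hm⟩, ?_⟩
      have e := hM ⟨h₁, hm⟩ 1
      have e' : h₁ • pt 1 = pt (χ ⟨h₁, hm⟩ * 1) := e
      rw [h1, mul_one, mul_one] at e'
      exact (hptinj e').symm
    have hn2 : h₂ ∉ Hp := by
      intro hm
      apply hyP
      refine ⟨⟨h₂, hm⟩, ?_⟩
      have e := hM ⟨h₂, hm⟩ 1
      have e' : h₂ • pt 1 = pt (χ ⟨h₂, hm⟩ * 1) := e
      rw [h2, mul_one, mul_one] at e'
      exact (hptinj e').symm
    have hm := hHpnn h₁ ((hmemH h₁).2 ⟨h1a, h1b⟩) h₂ ((hmemH h₂).2 ⟨h2a, h2b⟩) hn1 hn2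
    refine ⟨⟨h₁ * h₂, hm⟩, ?_⟩
    have e := hM ⟨h₁ * h₂, hm⟩ 1
    have e' : (h₁ * h₂) • pt 1 = pt (χ ⟨h₁ * h₂, hm⟩ * 1) := e
    rw [mul_smul, h2, h1, mul_one, mul_one] at e'
    exact (hptinj e').symm
  have hPex : ∃ ν : K, ν ≠ 0 ∧ ¬ P ν := by
    have hex0 : ∃ h₀ ∈ H, h₀ ∉ Hp := by
      by_contra hcon
      push_neg at hcon
      have hle : H ≤ Hp := hcon
      have h1 := Subgroup.card_le_of_le hle
      have h2 : 0 < Nat.card ↥Hp := Nat.card_pos
      omega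
    obtain ⟨h₀, hh₀, hh₀n⟩ := hex0
    obtain ⟨h0a, h0b⟩ := (hmemH h₀).1 hh₀
    obtain ⟨ν, hν⟩ := hmulH h₀ h0a h0b
    have hν0 : ν ≠ 0 := by
      intro e
      have e1 := hν 1
      rw [e, zero_mul, hpt0, ← h0b] at e1
      exact hpt1b (smul_left_cancel _ e1)
    refine ⟨ν, hν0, ?_⟩
    rintro ⟨k, hk⟩
    exact hh₀n (hmemHp h₀ k h0a (fun y => by rw [hk, hν]))
  -- the map `σ`
  have hex : ∀ x : K, ∃ y : K, x ≠ 0 → s • pt x = pt y := by
    intro x
    by_cases hx : x = 0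
    · exact ⟨0, fun h => absurd hx h⟩
    · have hne : s • pt x ≠ a := by
        intro e
        rw [← hsb] at e
        exact hptb x hx (smul_left_cancel _ e)
      obtain ⟨y, hy⟩ := hptsurj _ hne
      exact ⟨y, fun _ => hy.symm⟩
  choose σ hσ using hex
  have hσ0 : ∀ x, x ≠ 0 → σ x ≠ 0 := by
    intro x hx e
    have h1 := hσ x hx
    rw [e, hpt0, ← hsa] at h1
    exact hpta x (smul_left_cancel _ h1)
  have hσσ : ∀ x, x ≠ 0 → σ (σ x) = x := by
    intro x hx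
    have h1 := hσ (σ x) (hσ0 x hx)
    rw [← hσ x hx, ← mul_smul, hs2, one_smul] at h1
    exact (hptinj h1).symm
  have hσ1 : σ 1 = 1 := by
    have h1 := hσ 1 one_ne_zero
    rw [hpt1, hsc, ← hpt1] at h1
    exact (hptinj h1).symm
  have hσmul : ∀ x y, x ≠ 0 → y ≠ 0 → σ (x * y) = σ x * σ y := by
    intro x y hx hy
    obtain ⟨h₁, h1a, h1b, h1⟩ := hexH x hx
    have hca' : (s * h₁ * s⁻¹) • a = a := by
      rw [hsinv, mul_smul, mul_smul, hsa, h1b, hsb]
    have hcb' : (s * h₁ * s⁻¹) • b = b := by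
      rw [hsinv, mul_smul, mul_smul, hsb, h1a, hsa]
    obtain ⟨l', hl'⟩ := hmulH _ hca' hcb'
    have key : ∀ y, y ≠ 0 → σ (x * y) = l' * σ y := by
      intro y hy
      have e1 : s • pt (x * y) = (s * h₁ * s⁻¹) • (s • pt y) := by
        rw [← h1, ← mul_smul, ← mul_smul]
        congr 1
        group
      rw [hσ _ (mul_ne_zero hx hy), hσ y hy, hl'] at e1
      exact hptinj e1
    have e2 := key 1 one_ne_zero
    rw [mul_one, hσ1, mul_one] at e2
    rw [key y hy, e2]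
  have hσP : ∀ u, P u → σ u = u⁻¹ := by
    rintro _ ⟨k, rfl⟩
    have e1 : s • pt (χ k * 1) = (s * (k : G) * s⁻¹) • (s • pt 1) := by
      rw [← hM, ← mul_smul, ← mul_smul]
      congr 1
      group
    rw [hHpinv k k.2, mul_one, hσ _ (hχ0 k), hpt1, hsc, ← hpt1] at e1
    have e2 := hM k⁻¹ 1
    rw [Subgroup.coe_inv] at e2
    rw [e2, hχinv, mul_one] at e1
    exact hptinj e1
  have h2ne : (2 : K) ≠ 0 := by
    apply Cfsg.Agent.Helper2.GLInv.two_ne_zero_of_odd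
    rw [hK]
    exact (hp.odd_of_ne_two hp2).pow
  have hm1 : (-1 : K) ≠ 0 := neg_ne_zero.mpr one_ne_zero
  have hm11 : (-1 : K) ≠ 1 := by
    intro e
    apply h2ne
    have : (2 : K) = 1 - (-1) := by ring
    rw [this, e, sub_self]
  have hσm1 : σ (-1) = -1 := by
    have e1 : σ (-1) * σ (-1) = 1 := by
      rw [← hσmul _ _ hm1 hm1, neg_mul_neg, one_mul, hσ1]
    rcases mul_self_eq_one_iff.mp e1 with e | e
    · exfalso
      have e2 : σ (σ (-1)) = σ (σ 1) := by rw [e, hσ1, hσ1]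
      rw [hσσ _ hm1, hσσ _ one_ne_zero] at e2
      exact hm11 e2
    · exact e
  have hneg : ∀ x, x ≠ 0 → σ (-x) = -σ x := by
    intro x hx
    have : -x = (-1) * x := by ring
    rw [this, hσmul _ _ hm1 hx, hσm1]
    ring
  -- the element of order three
  obtain ⟨z, hza, hzb, hz⟩ := hexH (-1) hm1
  obtain ⟨t₁, ht₁N, ht₁⟩ := hT 1
  have ht₁a : t₁ • a = a := hNa t₁ ht₁N
  obtain ⟨g, hg⟩ : ∃ g : G, g = t₁ * s * z := ⟨_, rfl⟩
  obtain ⟨σ', hσ'⟩ : ∃ σ' : K → K, ∀ x, σ' x = -σ x := ⟨fun x => -σ x, fun x => rfl⟩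
  have hσ'0 : ∀ x, x ≠ 0 → σ' x ≠ 0 := by
    intro x hx
    rw [hσ']
    exact neg_ne_zero.mpr (hσ0 x hx)
  have hσ'σ' : ∀ x, x ≠ 0 → σ' (σ' x) = x := by
    intro x hx
    rw [hσ', hσ', hneg _ (hσ0 x hx), hσσ x hx, neg_neg]
  have h3σ : σ' 1 = -1 := by rw [hσ', hσ1]
  have hga : g • a = pt 1 := by
    rw [hg, mul_smul, mul_smul, hza, hsa, ← hpt0, ht₁, zero_add]
  have hg1 : g • pt 1 = b := by
    rw [hg, mul_smul, mul_smul, hz, mul_one, hσ _ hm1, hσm1, ht₁, neg_add_cancel, hpt0]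
  have hgb : g • b = a := by
    rw [hg, mul_smul, mul_smul, hzb, hsb, ht₁a]
  have hgx : ∀ x, x ≠ 0 → g • pt x = pt (σ' x + 1) := by
    intro x hx
    have hnx : -1 * x ≠ 0 := mul_ne_zero hm1 hx
    rw [hg, mul_smul, mul_smul, hz, hσ _ hnx, ht₁, hσ', hσmul _ _ hm1 hx, hσm1]
    congr 1
    ring
  have hg3 : g * g * g = 1 := by
    apply h.sharp (g * g * g) a (pt 1) b (Ne.symm (hpta 1)) hab hpt1b
    · rw [mul_smul, mul_smul, hga, hg1, hgb]
    · rw [mul_smul, mul_smul, hg1, hgb, hga]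
    · rw [mul_smul, mul_smul, hgb, hga, hg1]
  have h4σ' : ∀ x, x ≠ 0 → x ≠ 1 → σ' (σ' x + 1) + 1 = σ' (x - 1) := by
    intro x hx0 hx1
    have hx10 : x - 1 ≠ 0 := sub_ne_zero.mpr hx1
    have hne : σ' x + 1 ≠ 0 := by
      intro e
      have e1 : σ' x = -1 := eq_neg_of_add_eq_zero_left e
      have e2 : σ' (σ' x) = σ' (-1) := by rw [e1]
      rw [hσ'σ' x hx0, ← h3σ, hσ'σ' 1 one_ne_zero] at e2
      exact hx1 e2
    have e1 : g • pt (σ' (x - 1)) = pt x := by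
      rw [hgx _ (hσ'0 _ hx10), hσ'σ' _ hx10, sub_add_cancel]
    have e2 : g • (g • pt x) = pt (σ' (σ' x + 1) + 1) := by
      rw [hgx x hx0, hgx _ hne]
    have e3 : g • (g • (g • pt (σ' (x - 1)))) = pt (σ' (x - 1)) := by
      rw [← mul_smul, ← mul_smul, hg3, one_smul]
    rw [e1, e2] at e3
    exact hptinj e3
  have h4σ : ∀ x, x ≠ 0 → x ≠ 1 → -σ (-σ x + 1) + 1 = -σ (x - 1) := by
    intro x hx0 hx1
    have := h4σ' x hx0 hx1
    rw [hσ', hσ', hσ'] at this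
    exact this
  have hσeq := sigma_eq_inv h2ne P hP0 hP1 hPmul hPinv hPnn hPex σ hσmul
    (fun x hx => ⟨hσ0 x hx, hσσ x hx⟩) hσP h4σ
  -- the projective line
  let fΩ : OnePoint K → Ω := fun z => OnePoint.elim z a pt
  have hfinf : fΩ ∞ = a := rfl
  have hfc : ∀ x : K, fΩ (x : OnePoint K) = pt x := fun x => rfl
  have hfbij : Function.Bijective fΩ := by
    constructor
    · intro z w hzw
      cases z with
      | infty =>
        cases w with
        | infty => rfl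
        | coe y =>
          rw [hfinf, hfc] at hzw
          exact absurd hzw.symm (hpta y)
      | coe x =>
        cases w with
        | infty =>
          rw [hfinf, hfc] at hzw
          exact absurd hzw (hpta x)
        | coe y =>
          rw [hfc, hfc] at hzw
          rw [hptinj hzw]
    · intro y
      by_cases hy : y = a
      · exact ⟨∞, hy.symm⟩
      · obtain ⟨x, hx⟩ := hptsurj y hy
        exact ⟨(x : OnePoint K), hx⟩
  let e : Ω ≃ OnePoint K := (Equiv.ofBijective fΩ hfbij).symm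
  have he1 : e.symm ∞ = a := rfl
  have he2 : ∀ x : K, e.symm (x : OnePoint K) = pt x := fun x => rfl
  apply Mobius.nonempty_mulEquiv_pgl e hfaith
  · intro g' hg'
    rw [he1] at hg'
    have hne : g' • b ≠ a := by
      intro e'
      rw [← hg'] at e'
      exact hab (smul_left_cancel _ e').symm
    obtain ⟨β, hβ⟩ := hptsurj _ hne
    obtain ⟨n, hnN, hn⟩ := hT β
    have hna : n • a = a := hNa n hnN
    have h1a : (n⁻¹ * g') • a = a := by
      rw [mul_smul, hg', inv_smul_eq_iff, hna]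
    have h1b : (n⁻¹ * g') • b = b := by
      rw [mul_smul, ← hβ, inv_smul_eq_iff, ← hpt0, hn, zero_add]
    obtain ⟨α, hα⟩ := hmulH _ h1a h1b
    have hα0 : α ≠ 0 := by
      intro e'
      have e1 := hα 1
      rw [e', zero_mul, hpt0, ← h1b] at e1
      exact hpt1b (smul_left_cancel _ e1)
    refine ⟨α, β, hα0, fun x => ?_⟩
    rw [he2, he2, ← hn, ← hα, ← mul_smul]
    congr 1
    group
  · refine ⟨s, ?_, ?_, ?_⟩
    · rw [he1, he2, hpt0]; exact hsa
    · rw [he1, he2, hpt0]; exact hsb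
    · intro x hx
      rw [he2, he2, hσ x hx, hσeq x hx]
  · intro p' q' r' hpq hpr hqr
    obtain ⟨g', hg1', hg2', hg3'⟩ := h.trans a b c p' q' r' hab hac hbc hpq hpr hqr
    refine ⟨g', ?_, ?_, ?_⟩
    · rw [he1]; exact hg1'
    · rw [he2, hpt0]; exact hg2'
    · rw [he2, hpt1]; exact hg3'

end Cfsg.Agent.Helper2.Sh3Odd
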