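import Mathlib
import Cfsg.Prelude.Def_Perm

set_option autoImplicit false

namespace Cfsg.Agent.Helper2.ThreeTrans

open MulAction
open scoped Pointwise

variable {G : Type*} [Group G] {Ω : Type*} [MulAction G Ω]

/-- A criterion for triple transitivity. -/
theorem three_trans_of
    (h : ∀ a b c a' b' c' : Ω, a ≠ b → a ≠ c → b ≠ c → a' ≠ b' → a' ≠ c' → b' ≠ c' →
      ∃ g : G, g • a = a' ∧ g • b = b' ∧ g • c = c') : IsMultiplyPretransitive G Ω 3 := by
  rw [MulAction.isMultiplyPretransitive_iff]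
  intro x y
  have hx : ∀ i j : Fin 3, i ≠ j → x i ≠ x j := fun i j hij h => hij (x.injective h)
  have hy : ∀ i j : Fin 3, i ≠ j → y i ≠ y j := fun i j hij h => hij (y.injective h)
  obtain ⟨g, h0, h1, h2⟩ := h (x 0) (x 1) (x 2) (y 0) (y 1) (y 2) (hx 0 1 (by decide))
    (hx 0 2 (by decide)) (hx 1 2 (by decide)) (hy 0 1 (by decide)) (hy 0 2 (by decide))
    (hy 1 2 (by decide))
  refine ⟨g, ?_⟩
  ext i
  rw [Function.Embedding.smul_apply]
  fin_cases i
  · exact h0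
  · exact h1
  · exact h2

variable [DecidableEq Ω]

/-- If a doubly transitive faithful action with even point stabilisers is not triply transitive,
there is an invariant relation between points and pairs separating the points off a pair. -/
theorem exists_invariant_rel [Finite G] [FaithfulSMul G Ω]
    (h2 : IsMultiplyPretransitive G Ω 2)
    (heven : ∀ a : Ω, Even (Nat.card (stabilizer G a)))
    (h3 : ¬ IsMultiplyPretransitive G Ω 3) :
    ∃ (R : Ω → Finset Ω → Prop) (b c x₁ x₂ : Ω),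
      (∀ (u : G) (x : Ω) (P : Finset Ω), R (u • x) (u • P) ↔ R x P) ∧ b ≠ c ∧
      R x₁ {b, c} ∧ x₂ ≠ b ∧ x₂ ≠ c ∧ ¬ R x₂ {b, c} ∧ (∀ x, R x {b, c} → x ≠ b ∧ x ≠ c) := by
  classical
  have h3' : ∃ a₁ b₁ c₁ a₂ b₂ c₂ : Ω, a₁ ≠ b₁ ∧ a₁ ≠ c₁ ∧ b₁ ≠ c₁ ∧ a₂ ≠ b₂ ∧ a₂ ≠ c₂ ∧ b₂ ≠ c₂ ∧
      ∀ g : G, ¬ (g • a₁ = a₂ ∧ g • b₁ = b₂ ∧ g • c₁ = c₂) := by
    by_contra hcon
    push_neg at hcon
    refine h3 (three_trans_of fun a b c a' b' c' h1 h2 h3 h4 h5 h6 => ?_)
    exact hcon a b c a' b' c' h1 h2 h3 h4 h5 h6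
  obtain ⟨a₁, b₁, c₁, a₂, b, c, h11, h12, h13, h21, h22, hbc, hno⟩ := h3'
  rw [is_two_pretransitive_iff] at h2
  obtain ⟨g₁, hg₁b, hg₁c⟩ := h2 h13 hbc
  have hab : g₁ • a₁ ≠ b := by
    rw [← hg₁b]; exact fun h => h11 (MulAction.injective g₁ h)
  have hac : g₁ • a₁ ≠ c := by
    rw [← hg₁c]; exact fun h => h12 (MulAction.injective g₁ h)
  have hno' : ∀ g : G, g • b = b → g • c = c → g • (g₁ • a₁) ≠ a₂ := by
    intro g hb hc ha
    exact hno (g * g₁) ⟨by rw [mul_smul]; exact ha, by rw [mul_smul, hg₁b, hb],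
      by rw [mul_smul, hg₁c, hc]⟩
  obtain ⟨s, hs⟩ := exists_prime_orderOf_dvd_card' (G := stabilizer G (g₁ • a₁)) 2
    (heven (g₁ • a₁)).two_dvd
  have hso : orderOf (s : G) = 2 := by rw [Subgroup.orderOf_coe]; exact hs
  have hs1 : (s : G) ≠ 1 := by
    intro h
    rw [h, orderOf_one] at hso
    omega
  have hs2 : (s : G) * (s : G) = 1 := by rw [← pow_two, ← hso, pow_orderOf_eq_one]
  obtain ⟨b₀, hb₀⟩ : ∃ b₀ : Ω, (s : G) • b₀ ≠ b₀ := by
    by_contra hcon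
    push_neg at hcon
    exact hs1 (FaithfulSMul.eq_of_smul_eq_smul (α := Ω) (fun x => by rw [hcon x, one_smul]))
  have hsc₀ : (s : G) • ((s : G) • b₀) = b₀ := by rw [← mul_smul, hs2, one_smul]
  have hsa : (s : G) • (g₁ • a₁) = g₁ • a₁ := s.2
  obtain ⟨g₂, hg₂b, hg₂c⟩ := h2 (Ne.symm hb₀) hbc
  have hs'b : (g₂ * s * g₂⁻¹ : G) • b = c := by
    rw [← hg₂b, mul_smul, mul_smul, inv_smul_smul, hg₂c]
  have hs'c : (g₂ * s * g₂⁻¹ : G) • c = b := by
    rw [← hg₂c, mul_smul, mul_smul, inv_smul_smul, hsc₀, hg₂b]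
  have hs'a : (g₂ * s * g₂⁻¹ : G) • (g₂ • (g₁ • a₁)) = g₂ • (g₁ • a₁) := by
    rw [mul_smul, mul_smul, inv_smul_smul, hsa]
  have ha'b : g₂ • (g₁ • a₁) ≠ b := by
    rw [← hg₂b]
    intro h
    have := MulAction.injective g₂ h
    rw [← this] at hb₀
    exact hb₀ hsa
  have ha'c : g₂ • (g₁ • a₁) ≠ c := by
    rw [← hg₂c]
    intro h
    have := MulAction.injective g₂ h
    have h4 : (s : G) • ((s : G) • b₀) = (s : G) • b₀ := by rw [← this]; exact hsa
    rw [hsc₀] at h4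
    exact hb₀ h4.symm
  let O₁ : Set Ω := {x | ∃ g : G, g • b = b ∧ g • c = c ∧ g • (g₂ • (g₁ • a₁)) = x}
  have hO₁bc : ∀ x ∈ O₁, x ≠ b ∧ x ≠ c := by
    rintro x ⟨g, hgb, hgc, rfl⟩
    constructor
    · intro h
      rw [← hgb] at h
      exact ha'b (MulAction.injective g h)
    · intro h
      rw [← hgc] at h
      exact ha'c (MulAction.injective g h)
  have hO₁L : ∀ u : G, u • ({b, c} : Finset Ω) = {b, c} → ∀ x, x ∈ O₁ → u • x ∈ O₁ := by
    rintro u hu x ⟨g, hgb, hgc, hgx⟩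
    have hub : u • b = b ∨ u • b = c := by
      have : u • b ∈ u • ({b, c} : Finset Ω) := Finset.smul_mem_smul_finset (by simp)
      rw [hu] at this
      simpa using this
    have huc : u • c = b ∨ u • c = c := by
      have : u • c ∈ u • ({b, c} : Finset Ω) := Finset.smul_mem_smul_finset (by simp)
      rw [hu] at this
      simpa using this
    rcases hub with hub | hub
    · have huc' : u • c = c := by
        rcases huc with h | h
        · exfalso
          exact hbc (MulAction.injective u (hub.trans h.symm))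
        · exact h
      exact ⟨u * g, by rw [mul_smul, hgb, hub], by rw [mul_smul, hgc, huc'],
        by rw [mul_smul, hgx]⟩
    · have huc' : u • c = b := by
        rcases huc with h | h
        · exact h
        · exfalso
          exact hbc (MulAction.injective u (hub.trans h.symm))
      refine ⟨u * g * (g₂ * s * g₂⁻¹), ?_, ?_, ?_⟩
      · rw [mul_smul, mul_smul, hs'b, hgc, huc']
      · rw [mul_smul, mul_smul, hs'c, hgb, hub]
      · rw [mul_smul, mul_smul, hs'a, hgx]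
  obtain ⟨x₂, hx₂b, hx₂c, hx₂O⟩ : ∃ x₂, x₂ ≠ b ∧ x₂ ≠ c ∧ x₂ ∉ O₁ := by
    by_contra hcon
    push_neg at hcon
    obtain ⟨g₃, h3b, h3c, h3a⟩ := hcon (g₁ • a₁) hab hac
    obtain ⟨g₄, h4b, h4c, h4a⟩ := hcon a₂ h21 h22
    refine hno' (g₄ * g₃⁻¹) ?_ ?_ ?_
    · rw [mul_smul]
      conv_lhs => rw [← h3b]
      rw [inv_smul_smul, h4b]
    · rw [mul_smul]
      conv_lhs => rw [← h3c]
      rw [inv_smul_smul, h4c]
    · rw [mul_smul]
      conv_lhs => rw [← h3a]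
      rw [inv_smul_smul, h4a]
  refine ⟨fun x P => ∃ g : G, g • ({b, c} : Finset Ω) = P ∧ g⁻¹ • x ∈ O₁, b, c,
    g₂ • (g₁ • a₁), x₂, ?_, hbc, ?_, hx₂b, hx₂c, ?_, ?_⟩
  · intro u x P
    constructor
    · rintro ⟨g, hgP, hgx⟩
      refine ⟨u⁻¹ * g, by rw [mul_smul, hgP, inv_smul_smul], ?_⟩
      rwa [mul_inv_rev, inv_inv, mul_smul]
    · rintro ⟨g, hgP, hgx⟩
      refine ⟨u * g, by rw [mul_smul, hgP], ?_⟩
      rwa [mul_inv_rev, mul_smul, inv_smul_smul]
  · exact ⟨1, one_smul _ _, by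
      rw [inv_one, one_smul]; exact ⟨1, one_smul _ _, one_smul _ _, one_smul _ _⟩⟩
  · rintro ⟨g, hgP, hgx⟩
    have := hO₁L g hgP _ hgx
    rw [smul_inv_smul] at this
    exact hx₂O this
  · rintro x ⟨g, hgP, hgx⟩
    have := hO₁L g hgP _ hgx
    rw [smul_inv_smul] at this
    exact hO₁bc x this

end Cfsg.Agent.Helper2.ThreeTrans
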