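import Mathlib
import Cfsg.Agent.Helper2.ZasPSLC
import Cfsg.Agent.Helper2.ZasPSLE
import Cfsg.Agent.Helper2.ZasPSLF
import Cfsg.Agent.Helper2.GLInvC
import Cfsg.Agent.Helper7.ZassCount
import Cfsg.Agent.Helper4.L2pInst

set_option autoImplicit false

/-!
A Zassenhaus group of degree `n + 1` whose two-point stabiliser has odd order `e` with
`2 e = n - 1`, inverted by the elements interchanging the two points, is `PSL(2, n)`.
-/

namespace Cfsg.Agent.Helper2.ZasAb

open MulAction OnePoint Cfsg.Agent.Helper7.Zass Cfsg.Agent.Helper2.ZasPSL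

set_option maxHeartbeats 3200000 in
theorem main_odd {G Ω : Type*} [Group G] [Finite G] [MulAction G Ω] [Fintype Ω]
    (hZ : Cfsg.IsZassenhausGroup G Ω) {a b : Ω} (hab : a ≠ b)
    (hodd : Odd (Nat.card ↥(stabilizer G a ⊓ stabilizer G b)))
    (hd : 2 * Nat.card ↥(stabilizer G a ⊓ stabilizer G b) = Fintype.card Ω - 2)
    (hinv : ∀ s : G, s • a = b → s • b = a →
      ∀ h ∈ stabilizer G a ⊓ stabilizer G b, s * h * s⁻¹ = h⁻¹) :
    ∃ (K : Type) (_ : Field K) (_ : Fintype K), ringChar K ≠ 2 ∧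
      Nonempty (G ≃* Matrix.ProjectiveSpecialLinearGroup (Fin 2) K) := by
  classical
  haveI : Fintype G := Fintype.ofFinite G
  have hZH := zhyp_of hZ
  have hfaith : FaithfulSMul G Ω := hZ.1
  have hp3 := hZ.2.2.1
  set H : Subgroup G := stabilizer G a ⊓ stabilizer G b with hH
  have hmemH : ∀ h : G, h ∈ H ↔ h • a = a ∧ h • b = b := by
    intro h
    rw [hH, Subgroup.mem_inf, mem_stabilizer_iff, mem_stabilizer_iff]
  have hHpos : 0 < Nat.card H := Nat.card_pos
  have hΩ : Fintype.card Ω = 2 * Nat.card H + 2 := by omega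
  have hd1 : 4 ≤ Fintype.card Ω := by omega
  have hd2 : Fintype.card Ω - 2 ≤ 2 * Nat.card H := by omega
  obtain ⟨N, hNa, hNfree, hNtrans, hNnorm, hNcomm, hNcard, hirr⟩ :=
    exists_kernel_data hZ hab hd2 hd1
  have hGcard := card_eq hZH.t2 hab
  have hMM : (2 * Nat.card H + 2) * (2 * Nat.card H + 2) - (2 * Nat.card H + 2) =
      (2 * Nat.card H + 2) * (2 * Nat.card H + 1) := by
    apply Nat.sub_eq_of_eq_add
    ring
  -- no involution fixes a point
  haveI : IsPretransitive G Ω := ⟨fun x y => by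
    by_cases hxy : x = y
    · exact ⟨1, by rw [one_smul, hxy]⟩
    · obtain ⟨g, hg, -⟩ := hZH.t2 x y y x hxy (Ne.symm hxy)
      exact ⟨g, hg⟩⟩
  haveI : Fact (Nat.Prime 2) := ⟨Nat.prime_two⟩
  have hnofix : ∀ t : G, t * t = 1 → t ≠ 1 → ∀ c : Ω, t • c ≠ c := by
    intro t ht2 ht1 c hc
    have h1 : (stabilizer G c).index = Fintype.card Ω := by
      rw [index_stabilizer, orbit_eq_univ, Set.ncard_univ, Nat.card_eq_fintype_card]
    have h2 := (stabilizer G c).card_mul_index
    rw [h1, Nat.card_eq_fintype_card (α := G), hGcard, hΩ, hMM] at h2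
    have h3 : Nat.card (stabilizer G c) = Nat.card H * (2 * Nat.card H + 1) := by
      have h2' : Nat.card (stabilizer G c) * (2 * Nat.card H + 2) =
          Nat.card H * (2 * Nat.card H + 1) * (2 * Nat.card H + 2) := by
        rw [h2]
        ring
      exact Nat.eq_of_mul_eq_mul_right (by omega) h2'
    have h4 : orderOf (⟨t, mem_stabilizer_iff.2 hc⟩ : stabilizer G c) = 2 := by
      apply orderOf_eq_prime
      · apply Subtype.ext
        show t ^ 2 = 1
        rw [pow_two]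
        exact ht2
      · intro e
        exact ht1 (congrArg Subtype.val e)
    have h5 := orderOf_dvd_natCard (⟨t, mem_stabilizer_iff.2 hc⟩ : stabilizer G c)
    rw [h4, h3] at h5
    obtain ⟨k, hk⟩ := hodd
    rw [hk] at h5
    rcases (Nat.Prime.dvd_mul Nat.prime_two).1 h5 with h | h <;> omega
  -- a swap
  obtain ⟨s, hsa, hsb⟩ := hZH.t2 a b b a hab (Ne.symm hab)
  have hswapinv : ∀ s' : G, s' • a = b → s' • b = a → ∀ h ∈ H, s' * h = h⁻¹ * s' := by
    intro s' h1 h2 h hh
    have := hinv s' h1 h2 h hh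
    rw [← this]
    group
  have hswap2 : ∀ s' : G, s' • a = b → s' • b = a → s' * s' = 1 := by
    intro s' h1 h2
    have hssH : s' * s' ∈ H := by
      rw [hmemH]
      constructor
      · rw [mul_smul, h1, h2]
      · rw [mul_smul, h2, h1]
    have e1 := hinv s' h1 h2 (s' * s') hssH
    have e2 : s' * (s' * s') * s'⁻¹ = s' * s' := by group
    rw [e2] at e1
    have e3 : (s' * s') ^ 2 = 1 := by
      rw [pow_two]
      nth_rewrite 2 [e1]
      exact mul_inv_cancel _
    have e4 : orderOf (s' * s') ∣ 2 := orderOf_dvd_of_pow_eq_one e3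
    have e5 : orderOf (s' * s') ∣ Nat.card H := by
      have := orderOf_dvd_natCard (⟨s' * s', hssH⟩ : ↥H)
      rwa [Subgroup.orderOf_mk] at this
    rcases (Nat.dvd_prime Nat.prime_two).1 e4 with h | h
    · exact orderOf_eq_one_iff.1 h
    · exfalso
      rw [h] at e5
      obtain ⟨k, hk⟩ := hodd
      omega
  have hsh := hswapinv s hsa hsb
  have hs2 := hswap2 s hsa hsb
  have hHcomm : ∀ h ∈ H, ∀ k ∈ H, h * k = k * h := by
    intro h hh k hk
    have e1 := hsh (h * k) (H.mul_mem hh hk)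
    have e2 : s * (h * k) = h⁻¹ * k⁻¹ * s := by
      rw [← mul_assoc, hsh h hh, mul_assoc, hsh k hk, mul_assoc]
    have e3 : (h * k)⁻¹ = h⁻¹ * k⁻¹ := mul_right_cancel (e1.symm.trans e2)
    have e4 : (h * k)⁻¹ = (k * h)⁻¹ := by rw [e3, mul_inv_rev]
    exact inv_injective e4
  obtain ⟨c₀, hc₀a, hc₀b⟩ : ∃ c₀ : Ω, c₀ ≠ a ∧ c₀ ≠ b := by
    by_contra hcon
    push_neg at hcon
    have h1 : (Finset.univ : Finset Ω) ⊆ {a, b} := by
      intro w _
      by_cases hw : w = a
      · simp [hw]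
      · simp [hcon w hw]
    have h2 := Finset.card_le_card h1
    have h3 : ({a, b} : Finset Ω).card ≤ 2 := Finset.card_le_two
    rw [Finset.card_univ] at h2
    omega
  obtain ⟨K, instF, instFin, pt, χ, hptinj, hptsurj, hpta, hpt0, hpt1, hT, hM, hKcard⟩ :=
    exists_coordinates N H hNa hNfree hNtrans (fun h hh => hNnorm h ((hmemH h).1 hh).1) hNcomm
      hHcomm (fun h hh => ((hmemH h).1 hh).2) hirr hab hc₀a hc₀b
  have hcardK : Fintype.card K = 2 * Nat.card H + 1 := by omega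
  have hHa : ∀ h : ↥H, (h : G) • a = a := fun h => ((hmemH h).1 h.2).1
  have hHb : ∀ h : ↥H, (h : G) • b = b := fun h => ((hmemH h).1 h.2).2
  have hχ0 : ∀ h : ↥H, χ h ≠ 0 := by
    intro h e
    have h1 := hM h 1
    rw [e, zero_mul, hpt0, hpt1] at h1
    have h2 : (h : G) • c₀ = (h : G) • b := by rw [h1, hHb h]
    exact hc₀b (smul_left_cancel _ h2)
  have hχmul : ∀ h k : ↥H, χ (h * k) = χ h * χ k := by
    intro h k
    have h1 := hM (h * k) 1
    rw [Subgroup.coe_mul, mul_smul, hM k 1, hM h] at h1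
    have h2 := hptinj h1
    rw [mul_one, mul_one] at h2
    exact h2.symm
  have hχ1 : χ 1 = 1 := by
    have h1 := hM 1 1
    rw [Subgroup.coe_one, one_smul] at h1
    have h2 := hptinj h1
    rw [mul_one] at h2
    exact h2.symm
  have hχinv : ∀ h : ↥H, χ h⁻¹ = (χ h)⁻¹ := by
    intro h
    have h1 := hχmul h⁻¹ h
    rw [inv_mul_cancel, hχ1] at h1
    exact eq_inv_of_mul_eq_one_left h1.symm
  have hχinj : Function.Injective χ := by
    intro h k hhk
    apply Subtype.ext
    apply hfaith.eq_of_smul_eq_smul (α := Ω)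
    intro y
    by_cases hy : y = a
    · rw [hy, hHa h, hHa k]
    · obtain ⟨x, rfl⟩ := hptsurj y hy
      rw [hM h x, hM k x, hhk]
  -- the subgroup of index two
  let P : K → Prop := fun x => ∃ h : ↥H, χ h = x
  have hP0 : ¬ P 0 := fun ⟨h, hh⟩ => hχ0 h hh
  have hPmul : ∀ x y, P x → P y → P (x * y) := by
    rintro _ _ ⟨h, rfl⟩ ⟨k, rfl⟩
    exact ⟨h * k, hχmul h k⟩
  let χu : ↥H →* Kˣ :=
    { toFun := fun h => Units.mk0 (χ h) (hχ0 h)
      map_one' := Units.ext hχ1
      map_mul' := fun h k => Units.ext (hχmul h k) }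
  have hχuinj : Function.Injective χu := fun h k e => hχinj (congrArg Units.val e)
  have hQcard : Nat.card χu.range = Nat.card H :=
    (Nat.card_congr (MonoidHom.ofInjective hχuinj).toEquiv).symm
  have hKu : Nat.card Kˣ = 2 * Nat.card H := by
    rw [Nat.card_units, Nat.card_eq_fintype_card, hcardK]
    omega
  have hidx : χu.range.index = 2 := by
    have h1 := χu.range.index_mul_card
    rw [hQcard, hKu] at h1
    exact Nat.eq_of_mul_eq_mul_right hHpos h1
  have hPiff : ∀ (x : K) (hx : x ≠ 0), P x ↔ Units.mk0 x hx ∈ χu.range := by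
    intro x hx
    constructor
    · rintro ⟨h, hh⟩
      exact ⟨h, Units.ext hh⟩
    · rintro ⟨h, hh⟩
      exact ⟨h, congrArg Units.val hh⟩
  have hPnn : ∀ x y, x ≠ 0 → y ≠ 0 → ¬ P x → ¬ P y → P (x * y) := by
    intro x y hx hy hxP hyP
    rw [hPiff _ (mul_ne_zero hx hy)]
    have e : Units.mk0 (x * y) (mul_ne_zero hx hy) = Units.mk0 x hx * Units.mk0 y hy :=
      Units.ext rfl
    rw [e, Subgroup.mul_mem_iff_of_index_two hidx, ← hPiff, ← hPiff]
    exact ⟨fun h => absurd h hxP, fun h => absurd h hyP⟩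
  have h2ne : (2 : K) ≠ 0 := by
    apply Cfsg.Agent.Helper2.GLInv.two_ne_zero_of_odd
    rw [hcardK]
    exact ⟨_, rfl⟩
  have hPpow : ∀ x, P x → x ^ Nat.card H = 1 := by
    rintro _ ⟨h, rfl⟩
    have hpow : ∀ n : ℕ, χ (h ^ n) = χ h ^ n := by
      intro n
      induction n with
      | zero => rw [pow_zero, pow_zero, hχ1]
      | succ n ih => rw [pow_succ, pow_succ, hχmul, ih]
    rw [← hpow, pow_card_eq_one', hχ1]
  have hPneg : ¬ P (-1) := by
    intro h
    have h1 := hPpow _ h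
    rw [Odd.neg_one_pow hodd] at h1
    apply h2ne
    have : (2 : K) = 1 - (-1) := by ring
    rw [this, h1, sub_self]
  have hm1 : (-1 : K) ≠ 0 := neg_ne_zero.mpr one_ne_zero
  have hPor : ∀ x : K, x ≠ 0 → ¬ P x → P (-x) := by
    intro x hx hxP
    have : -x = (-1) * x := by ring
    rw [this]
    exact hPnn _ _ hm1 hx hPneg hxP
  -- normalising the swap
  have hpt1b : pt 1 ≠ b := by rw [hpt1]; exact hc₀b
  have hne1 : s • pt 1 ≠ a := by
    intro e
    rw [← hsb] at e
    exact hpt1b (smul_left_cancel _ e)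
  obtain ⟨β, hβ⟩ := hptsurj _ hne1
  have hβ0 : β ≠ 0 := by
    intro e
    rw [e, hpt0, ← hsa] at hβ
    exact hpta 1 (smul_left_cancel _ hβ).symm
  have hsβ : s • pt β = pt 1 := by
    rw [hβ, ← mul_smul, hs2, one_smul]
  have hPβ : ¬ P β := by
    rintro ⟨h, hh⟩
    have ha' : (s * (h : G)) • a = b := by rw [mul_smul, hHa h, hsa]
    have hb' : (s * (h : G)) • b = a := by rw [mul_smul, hHb h, hsb]
    have ht2 := hswap2 _ ha' hb'
    have ht1 : s * (h : G) ≠ 1 := by
      intro e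
      rw [e, one_smul] at ha'
      exact hab ha'
    apply hnofix _ ht2 ht1 (pt 1)
    rw [mul_smul, hM h 1, hh, mul_one, hsβ]
  obtain ⟨h₀, hh₀⟩ := hPor β hβ0 hPβ
  obtain ⟨s₁, hs₁⟩ : ∃ s₁ : G, s₁ = s * (h₀ : G) := ⟨_, rfl⟩
  have hs₁a : s₁ • a = b := by rw [hs₁, mul_smul, hHa h₀, hsa]
  have hs₁b : s₁ • b = a := by rw [hs₁, mul_smul, hHb h₀, hsb]
  have hs₁2 := hswap2 s₁ hs₁a hs₁b
  have hs₁h := hswapinv s₁ hs₁a hs₁b
  have hs₁1 : s₁ • pt 1 = pt (-1) := by
    rw [hs₁, hsh h₀ h₀.2, mul_smul, ← hβ]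
    have h1 := hM h₀⁻¹ β
    rw [Subgroup.coe_inv] at h1
    rw [h1, hχinv, hh₀, inv_neg, neg_mul, inv_mul_cancel₀ hβ0]
  have hex : ∀ x : K, ∃ y : K, x ≠ 0 → s₁ • pt x = pt y := by
    intro x
    by_cases hx : x = 0
    · exact ⟨0, fun h => absurd hx h⟩
    · have hne : s₁ • pt x ≠ a := by
        intro e
        rw [← hs₁b] at e
        have h1 := smul_left_cancel _ e
        rw [← hpt0] at h1
        exact hx (hptinj h1)
      obtain ⟨y, hy⟩ := hptsurj _ hne
      exact ⟨y, fun _ => hy.symm⟩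
  choose σ hσ using hex
  have hσ0 : ∀ x, x ≠ 0 → σ x ≠ 0 := by
    intro x hx e
    have h1 := hσ x hx
    rw [e, hpt0, ← hs₁a] at h1
    exact hpta x (smul_left_cancel _ h1)
  have hσσ : ∀ x, x ≠ 0 → σ (σ x) = x := by
    intro x hx
    have h1 := hσ (σ x) (hσ0 x hx)
    rw [← hσ x hx, ← mul_smul, hs₁2, one_smul] at h1
    exact (hptinj h1).symm
  have h1σ : ∀ α, P α → ∀ x, x ≠ 0 → σ (α * x) = α⁻¹ * σ x := by
    rintro _ ⟨h, rfl⟩ x hx
    have hne : χ h * x ≠ 0 := mul_ne_zero (hχ0 h) hx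
    have e1 := hσ _ hne
    rw [← hM h x, ← mul_smul, hs₁h h h.2, mul_smul, hσ x hx] at e1
    have e2 := hM h⁻¹ (σ x)
    rw [Subgroup.coe_inv] at e2
    rw [e2, hχinv] at e1
    exact (hptinj e1).symm
  have h3σ : σ 1 = -1 := by
    have h1 := hσ 1 one_ne_zero
    rw [hs₁1] at h1
    exact (hptinj h1).symm
  have hσm1 : σ (-1) = 1 := by
    have := hσσ 1 one_ne_zero
    rwa [h3σ] at this
  have hσeq : ∀ x, x ≠ 0 → σ x = -x⁻¹ := by
    intro x hx
    by_cases hxP : P x
    · have := h1σ x hxP 1 one_ne_zero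
      rw [mul_one, h3σ] at this
      rw [this]
      ring
    · have hP' := hPor x hx hxP
      have := h1σ (-x) hP' (-1) hm1
      rw [neg_mul_neg, mul_one, hσm1, mul_one] at this
      rw [this, inv_neg]
  -- the projective line
  let f : OnePoint K → Ω := fun z => OnePoint.elim z a pt
  have hfinf : f ∞ = a := rfl
  have hfc : ∀ x : K, f (x : OnePoint K) = pt x := fun x => rfl
  have hfbij : Function.Bijective f := by
    constructor
    · intro z w hzw
      cases z with
      | infty =>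
        cases w with
        | infty => rfl
        | coe y =>
          rw [hfinf, hfc] at hzw
          exact absurd hzw.symm (hpta y)
      | coe x =>
        cases w with
        | infty =>
          rw [hfinf, hfc] at hzw
          exact absurd hzw (hpta x)
        | coe y =>
          rw [hfc, hfc] at hzw
          rw [hptinj hzw]
    · intro y
      by_cases hy : y = a
      · exact ⟨∞, hy.symm⟩
      · obtain ⟨x, hx⟩ := hptsurj y hy
        exact ⟨(x : OnePoint K), hx⟩
  have hB : ∀ α : K, α ≠ 0 → ∀ β : K, ∃ g : G, g • f ∞ = f ∞ ∧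
      ∀ x : K, g • f (x : OnePoint K) = f ((α ^ 2 * x + β : K) : OnePoint K) := by
    intro α hα β'
    have hPα : P (α ^ 2) := by
      rw [pow_two]
      by_cases h : P α
      · exact hPmul _ _ h h
      · exact hPnn _ _ hα hα h h
    obtain ⟨h, hh⟩ := hPα
    obtain ⟨n, hnN, hn⟩ := hT β'
    refine ⟨n * (h : G), ?_, fun x => ?_⟩
    · rw [hfinf, mul_smul, hHa h, hNa n hnN]
    · rw [hfc, hfc, mul_smul, hM h x, hn, hh]
  have hS : ∃ s : G, s • f ∞ = f ((0 : K) : OnePoint K) ∧ s • f ((0 : K) : OnePoint K) = f ∞ ∧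
      ∀ x : K, x ≠ 0 → s • f (x : OnePoint K) = f ((-x⁻¹ : K) : OnePoint K) := by
    refine ⟨s₁, ?_, ?_, ?_⟩
    · rw [hfinf, hfc, hpt0]; exact hs₁a
    · rw [hfinf, hfc, hpt0]; exact hs₁b
    · intro x hx
      rw [hfc, hfc, hσ x hx, hσeq x hx]
  have hfaith' : ∀ g : G, (∀ x : Ω, g • x = x) → g = 1 :=
    fun g hg => hfaith.eq_of_smul_eq_smul (fun x => by rw [hg x, one_smul])
  have hcard : Nat.card G = Nat.card (Matrix.ProjectiveSpecialLinearGroup (Fin 2) K) := by
    rw [Cfsg.Agent.Helper4.L2p.card_PSL2 (F := K) (p := Fintype.card K) (m := Nat.card H) hcardK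
      hHpos rfl, Nat.card_eq_fintype_card, hGcard, hΩ, hcardK, hMM]
    ring
  obtain ⟨e⟩ := nonempty_mulEquiv_psl f hfbij hfaith' hB hS hcard
  refine ⟨K, instF, instFin, ?_, ⟨e⟩⟩
  intro hch
  haveI : CharP K 2 := by
    rw [← hch]
    exact ringChar.charP K
  apply h2ne
  have := CharP.cast_eq_zero K 2
  exact_mod_cast this

end Cfsg.Agent.Helper2.ZasAb
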