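import Mathlib
import Cfsg.Agent.S0739
import Cfsg.Agent.S0741
import Cfsg.Agent.Helper2.ZasAbD
import Cfsg.Agent.Helper2.FeitAbA
import Cfsg.Agent.Helper4.L2pInst
import Cfsg.Agent.Helper2.ZasAbB
import Cfsg.Agent.Helper2.ZasPSLG
import Cfsg.Agent.Helper2.ThreeTransHom
import Cfsg.Agent.Helper2.GLInvC
import Cfsg.Agent.Helper7.TwoOrbits

set_option autoImplicit false

/-!
Zassenhaus groups whose point stabilisers have an abelian regular normal subgroup are sharply
triply transitive or `PSL(2, q)` with `q` odd, assuming Feit's bound.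
-/

namespace Cfsg.Agent.Helper2.ZasAb

open MulAction Cfsg.Agent.Helper7.Zass Cfsg.Agent.Helper2.ZasPSL Cfsg.Agent.Helper2.FeitAb

universe u v

theorem cubic_inj {m e : ℕ} (h : (2 * m + 1) * m * (2 * m + 1 + 1) = e * ((2 * e + 2) * (2 * e + 1))) :
    m = e := by
  have hmono : StrictMono (fun x : ℕ => (2 * x + 1) * x * (2 * x + 1 + 1)) := by
    apply strictMono_nat_of_lt_succ
    intro x
    show (2 * x + 1) * x * (2 * x + 1 + 1) < (2 * (x + 1) + 1) * (x + 1) * (2 * (x + 1) + 1 + 1)
    nlinarith [sq_nonneg x]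
  apply hmono.injective
  show (2 * m + 1) * m * (2 * m + 1 + 1) = (2 * e + 1) * e * (2 * e + 1 + 1)
  rw [h]
  ring

set_option maxHeartbeats 1600000 in
theorem main_abelian' (hFeit : FeitHypAb.{u, v}) {G : Type u} {Ω : Type v} [Group G] [Finite G]
    [MulAction G Ω] [Fintype Ω] (hZ : Cfsg.IsZassenhausGroup G Ω) (a : Ω) (F : Subgroup G)
    (hFle : F ≤ stabilizer G a) (hFn : (F.subgroupOf (stabilizer G a)).Normal)
    (hFab : ∀ u ∈ F, ∀ v ∈ F, u * v = v * u)
    (hreg : ∀ y z : Ω, y ≠ a → z ≠ a → ∃! u : F, (u : G) • y = z) :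
    (IsMultiplyPretransitive G Ω 3 ∧ (∀ t : Fin 3 ↪ Ω, stabilizer G t = ⊥) ∧
        Nat.card G = (Fintype.card Ω - 2) * (Fintype.card Ω * Fintype.card Ω - Fintype.card Ω)) ∨
      ∃ (K : Type) (_ : Field K) (_ : Fintype K), ringChar K ≠ 2 ∧
        Fintype.card K + 1 = Fintype.card Ω ∧
        2 * Nat.card G = (Fintype.card Ω - 2) * (Fintype.card Ω * Fintype.card Ω - Fintype.card Ω) ∧
        Nonempty (G ≃* Matrix.ProjectiveSpecialLinearGroup (Fin 2) K) := by
  classical
  haveI : Fintype G := Fintype.ofFinite G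
  have hZH := zhyp_of hZ
  have hfaith : FaithfulSMul G Ω := hZ.1
  have hp3 := hZ.2.2.1
  obtain ⟨b, hba⟩ := hZH.exists_ne a
  have hab : a ≠ b := Ne.symm hba
  have hFa : ∀ u ∈ F, u • a = a := fun u hu => mem_stabilizer_iff.1 (hFle hu)
  -- semiregularity
  have hFfix : ∀ u ∈ F, u ≠ 1 → ∀ c : Ω, u • c = c → c = a := by
    intro u hu hu1 c hc
    by_contra hca
    obtain ⟨w, -, hw⟩ := hreg c c hca hca
    have h1 := hw ⟨u, hu⟩ hc
    have h2 := hw 1 (by show ((1 : F) : G) • c = c; rw [Subgroup.coe_one, one_smul])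
    apply hu1
    exact congrArg Subtype.val (h1.trans h2.symm)
  -- the order of `F`
  have hFcard : Nat.card F + 1 = Fintype.card Ω := by
    have hne : ∀ u : F, (u : G) • b ≠ a := by
      intro u e
      have h1 : (u : G) • b = (u : G) • a := by rw [e, hFa u u.2]
      exact hba (smul_left_cancel _ h1)
    have hbij : Function.Bijective (fun u : F => (⟨(u : G) • b, hne u⟩ : {z : Ω // z ≠ a})) := by
      constructor
      · intro u v huv
        have h1 : (u : G) • b = (v : G) • b := congrArg Subtype.val huv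
        obtain ⟨w, -, hw⟩ := hreg b ((v : G) • b) hba (hne v)
        exact (hw u h1).trans (hw v rfl).symm
      · rintro ⟨z, hz⟩
        obtain ⟨w, hw, -⟩ := hreg b z hba hz
        exact ⟨w, Subtype.ext hw⟩
    have h1 : Nat.card F = Nat.card {z : Ω // z ≠ a} := Nat.card_congr (Equiv.ofBijective _ hbij)
    have h2 : Nat.card {z : Ω // z ≠ a} = Fintype.card Ω - 1 := by
      rw [Nat.card_eq_fintype_card, Fintype.card_subtype, Finset.filter_ne',
        Finset.card_erase_of_mem (Finset.mem_univ a), Finset.card_univ]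
    have h3 : 0 < Fintype.card Ω := Fintype.card_pos_iff.2 ⟨a⟩
    omega
  set H : Subgroup G := stabilizer G a ⊓ stabilizer G b with hH
  have hmemH : ∀ h : G, h ∈ H ↔ h • a = a ∧ h • b = b := by
    intro h
    rw [hH, Subgroup.mem_inf, mem_stabilizer_iff, mem_stabilizer_iff]
  have hHpos : 0 < Nat.card H := Nat.card_pos
  -- a third point
  obtain ⟨c₀, hc₀a, hc₀b⟩ : ∃ c₀ : Ω, c₀ ≠ a ∧ c₀ ≠ b := by
    obtain ⟨g, hg1, hga, hgb⟩ := hZH.exists_fix hab
    by_contra hcon
    push_neg at hcon
    apply hg1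
    apply hfaith.eq_of_smul_eq_smul (α := Ω)
    intro w
    rw [one_smul]
    by_cases hw : w = a
    · rw [hw, hga]
    · rw [hcon w hw, hgb]
  have hΩ3 : 3 ≤ Fintype.card Ω := by
    have h1 : ({a, b, c₀} : Finset Ω).card = 3 := by
      rw [Finset.card_insert_of_notMem, Finset.card_insert_of_notMem, Finset.card_singleton]
      · simpa using Ne.symm hc₀b
      · simp only [Finset.mem_insert, Finset.mem_singleton, not_or]
        exact ⟨hab, Ne.symm hc₀a⟩
    have h2 := Finset.card_le_univ ({a, b, c₀} : Finset Ω)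
    omega
  -- the order of `H` divides `n - 1`
  have hdvd : Nat.card H ∣ Fintype.card Ω - 2 := by
    have hT := Cfsg.Agent.Helper7.TwoOrb.card_dvd_of_free_conj H ((F : Set G) \ {1}) (by
      rintro h hh x ⟨hxF, hx1⟩
      refine ⟨?_, ?_⟩
      · have hha : h ∈ stabilizer G a := mem_stabilizer_iff.2 ((hmemH h).1 hh).1
        have hxa : x ∈ stabilizer G a := hFle hxF
        have h1 := hFn.conj_mem ⟨x, hxa⟩ (Subgroup.mem_subgroupOf.2 hxF) ⟨h, hha⟩
        exact Subgroup.mem_subgroupOf.1 h1
      · intro e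
        apply hx1
        rw [Set.mem_singleton_iff] at e ⊢
        have : x = h⁻¹ * (h * x * h⁻¹) * h := by group
        rw [this, e]
        group) (by
      rintro h hh x ⟨hxF, hx1⟩ e
      have hx1' : x ≠ 1 := fun e' => hx1 (Set.mem_singleton_iff.2 e')
      have hha := ((hmemH h).1 hh).1
      have hhb := ((hmemH h).1 hh).2
      have h1 : h • x • b = x • b := by
        have : h * x = x * h := by
          nth_rewrite 2 [← e]
          group
        rw [← mul_smul, this, mul_smul, hhb]
      have h2 : x • b ≠ b := fun e' => hba (hFfix x hxF hx1' b e')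
      have h3 : x • b ≠ a := by
        intro e'
        have h4 : x • b = x • a := by rw [e', hFa x hxF]
        exact hba (smul_left_cancel _ h4)
      exact hp3 h a b (x • b) hab (Ne.symm h2) (Ne.symm h3) hha hhb h1)
    have h1 : ((F : Set G) \ {1}).ncard = (F : Set G).ncard - 1 :=
      Set.ncard_diff_singleton_of_mem F.one_mem
    have h2 : (F : Set G).ncard = Nat.card F := (Nat.card_coe_set_eq (F : Set G)).symm
    rw [h1, h2] at hT
    have h3 : Nat.card F - 1 = Fintype.card Ω - 2 := by omega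
    rwa [h3] at hT
  -- the bound
  have hbound : Fintype.card Ω - 2 ≤ 2 * Nat.card H := by
    rcases Nat.even_or_odd (Nat.card H) with heven | hodd
    · exact Cfsg.Agent.S0741.result hZ hab heven
    · have h1 := hFeit G Ω hZ a b hab (Fintype.card Ω - 1) (Nat.card H) (by omega) rfl hodd F hFle
        hFcard hFfix hFab
      omega
  have hGcard := card_eq hZH.t2 hab
  rw [← Nat.card_eq_fintype_card, ← hH] at hGcard
  obtain ⟨k, hk⟩ := hdvd
  have hk2 : k ≤ 2 := by
    by_contra hcon
    push_neg at hcon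
    have : Nat.card H * 3 ≤ Nat.card H * k := Nat.mul_le_mul_left _ hcon
    omega
  have hk0 : k ≠ 0 := by
    rintro rfl
    omega
  have hk12 : k = 1 ∨ k = 2 := by omega
  rcases hk12 with rfl | rfl
  · -- sharply triply transitive
    left
    rw [mul_one] at hk
    have htrans : ∀ c : Ω, c ≠ a → c ≠ b → ∃ h ∈ H, h • c₀ = c := by
      have hne : ∀ h : H, (h : G) • c₀ ≠ a ∧ (h : G) • c₀ ≠ b := by
        intro h
        constructor
        · intro e
          have h1 : (h : G) • c₀ = (h : G) • a := by rw [e, ((hmemH h).1 h.2).1]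
          exact hc₀a (smul_left_cancel _ h1)
        · intro e
          have h1 : (h : G) • c₀ = (h : G) • b := by rw [e, ((hmemH h).1 h.2).2]
          exact hc₀b (smul_left_cancel _ h1)
      have hinj : Function.Injective
          (fun h : H => (⟨(h : G) • c₀, hne h⟩ : {z : Ω // z ≠ a ∧ z ≠ b})) := by
        intro h k hhk
        have h1 : (h : G) • c₀ = (k : G) • c₀ := congrArg Subtype.val hhk
        have h2 : ((k : G)⁻¹ * (h : G)) • c₀ = c₀ := by
          rw [mul_smul, h1, inv_smul_smul]
        have h3 : ((k : G)⁻¹ * (h : G)) ∈ H := H.mul_mem (H.inv_mem k.2) h.2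
        have h4 := hp3 _ a b c₀ hab (Ne.symm hc₀b) (Ne.symm hc₀a) ((hmemH _).1 h3).1
          ((hmemH _).1 h3).2 h2
        apply Subtype.ext
        have : (h : G) = (k : G) * ((k : G)⁻¹ * (h : G)) := by group
        rw [this, h4, mul_one]
      have hcard : Nat.card {z : Ω // z ≠ a ∧ z ≠ b} = Nat.card H := by
        rw [Nat.card_eq_fintype_card, Fintype.card_subtype]
        have h1 : (Finset.univ.filter fun z : Ω => z ≠ a ∧ z ≠ b) =
            (Finset.univ.erase a).erase b := by
          ext z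
          simp only [Finset.mem_filter, Finset.mem_univ, true_and, Finset.mem_erase, and_true]
          tauto
        rw [h1, Finset.card_erase_of_mem, Finset.card_erase_of_mem (Finset.mem_univ a),
          Finset.card_univ]
        · omega
        · rw [Finset.mem_erase]
          exact ⟨hba, Finset.mem_univ b⟩
      haveI : Finite {z : Ω // z ≠ a ∧ z ≠ b} := inferInstance
      have hbij := (Nat.bijective_iff_injective_and_card _).2 ⟨hinj, hcard.symm⟩
      intro c hca hcb
      obtain ⟨h, hh⟩ := hbij.2 ⟨c, hca, hcb⟩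
      exact ⟨h, h.2, congrArg Subtype.val hh⟩
    have hcanon : ∀ p q r : Ω, p ≠ q → p ≠ r → q ≠ r →
        ∃ g : G, g • a = p ∧ g • b = q ∧ g • c₀ = r := by
      intro p q r hpq hpr hqr
      obtain ⟨g, hga, hgb⟩ := hZH.t2 a b p q hab hpq
      have h1 : g⁻¹ • r ≠ a := by
        intro e
        apply hpr
        rw [← hga, ← e, smul_inv_smul]
      have h2 : g⁻¹ • r ≠ b := by
        intro e
        apply hqr
        rw [← hgb, ← e, smul_inv_smul]
      obtain ⟨h, hh, hhc⟩ := htrans _ h1 h2
      refine ⟨g * h, ?_, ?_, ?_⟩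
      · rw [mul_smul, ((hmemH h).1 hh).1, hga]
      · rw [mul_smul, ((hmemH h).1 hh).2, hgb]
      · rw [mul_smul, hhc, smul_inv_smul]
    refine ⟨?_, ?_, ?_⟩
    · apply Cfsg.Agent.Helper2.ThreeTrans.three_trans_of
      intro p q r p' q' r' hpq hpr hqr hpq' hpr' hqr'
      obtain ⟨g, hg1, hg2, hg3⟩ := hcanon p q r hpq hpr hqr
      obtain ⟨g', hg1', hg2', hg3'⟩ := hcanon p' q' r' hpq' hpr' hqr'
      refine ⟨g' * g⁻¹, ?_, ?_, ?_⟩
      · rw [mul_smul, ← hg1, inv_smul_smul, hg1']
      · rw [mul_smul, ← hg2, inv_smul_smul, hg2']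
      · rw [mul_smul, ← hg3, inv_smul_smul, hg3']
    · intro t
      rw [eq_bot_iff]
      intro g hg
      rw [mem_stabilizer_iff] at hg
      rw [Subgroup.mem_bot]
      have ht : ∀ i : Fin 3, g • t i = t i := by
        intro i
        have := congrArg (fun s : Fin 3 ↪ Ω => s i) hg
        simpa [Function.Embedding.smul_apply] using this
      have hne : ∀ i j : Fin 3, i ≠ j → t i ≠ t j := fun i j hij h => hij (t.injective h)
      exact hp3 g (t 0) (t 1) (t 2) (hne 0 1 (by decide)) (hne 1 2 (by decide))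
        (hne 0 2 (by decide)) (ht 0) (ht 1) (ht 2)
    · rw [hGcard, ← hk]
  · right
    have hG2 : 2 * Nat.card G =
        (Fintype.card Ω - 2) * (Fintype.card Ω * Fintype.card Ω - Fintype.card Ω) := by
      rw [hGcard, hk]
      ring
    have hd : 2 * Nat.card ↥(stabilizer G a ⊓ stabilizer G b) = Fintype.card Ω - 2 := by
      rw [← hH]
      omega
    rcases Nat.even_or_odd (Nat.card H) with heven | hodd
    · obtain ⟨p, f, K, instF, instFin, hp, hp2, hKcard, hΩcard, hiso⟩ :=
        Cfsg.Agent.Helper2.ZasPSL.main hZ hab heven hd.le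
      refine ⟨K, instF, instFin, ?_, by rw [hKcard, hΩcard], hG2, hiso⟩
      intro hchar
      have h2 : (2 : K) ≠ 0 := by
        apply Cfsg.Agent.Helper2.GLInv.two_ne_zero_of_odd
        rw [hKcard]
        exact Odd.pow (hp.odd_of_ne_two hp2)
      apply h2
      have := ringChar.Nat.cast_ringChar (R := K)
      rw [hchar] at this
      exact_mod_cast this
    · have hnil := no_complement' hFeit hZ hab hodd hd F hFle hFcard hFfix hFab
      have h739 := Cfsg.Agent.S0739.result hZ hab hodd hnil
      obtain ⟨K, instF, instFin, hchar, ⟨φ⟩⟩ := main_odd hZ hab hodd hd h739.2.2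
      refine ⟨K, instF, instFin, hchar, ?_, hG2, ⟨φ⟩⟩
      have hKodd : Fintype.card K % 2 = 1 := by
        have h1 := FiniteField.even_card_iff_char_two (F := K)
        rcases Nat.mod_two_eq_zero_or_one (Fintype.card K) with h0 | h0
        · exact absurd (h1.2 h0) hchar
        · exact h0
      have hK1 : 1 < Fintype.card K := Fintype.one_lt_card
      obtain ⟨m, hm⟩ : ∃ m, Fintype.card K = 2 * m + 1 := ⟨Fintype.card K / 2, by omega⟩
      have hmpos : 0 < m := by omega
      have hpsl := Cfsg.Agent.Helper4.L2p.card_PSL2 hm hmpos rfl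
      have hcong : Nat.card G = Nat.card (Matrix.ProjectiveSpecialLinearGroup (Fin 2) K) :=
        Nat.card_congr φ.toEquiv
      rw [hpsl, hGcard, hm] at hcong
      have hΩ : Fintype.card Ω = 2 * Nat.card H + 2 := by omega
      rw [hΩ] at hcong
      have hMM : (2 * Nat.card H + 2) * (2 * Nat.card H + 2) - (2 * Nat.card H + 2) =
          (2 * Nat.card H + 2) * (2 * Nat.card H + 1) := by
        apply Nat.sub_eq_of_eq_add
        ring
      rw [hMM] at hcong
      have hme := cubic_inj hcong.symm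
      rw [hm, hΩ, hme]

end Cfsg.Agent.Helper2.ZasAb
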