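import Mathlib
import Cfsg.Agent.Helper2.PP1B
import Cfsg.Agent.Helper2.ZasAbE
import Cfsg.Agent.Helper2.Sh3OddH
import Cfsg.Agent.Helper2.Sharp3D
import Cfsg.Agent.Helper2.MobiusC
import Cfsg.Agent.Helper7.SLTransfer

/-!
# Transitive groups of degree `p + 1` and order `(p + 1) p d`, `d < p`: the case without a
regular normal subgroup.
-/

set_option autoImplicit false

namespace Cfsg.Agent.Helper2.PP1

open MulAction Cfsg.Agent.Helper7.Zass Cfsg.Agent.Helper2.FeitAb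

universe u v

set_option maxHeartbeats 800000 in
theorem nonaffine (hFeit : FeitHypAb.{u, v}) {G : Type u} {Ω : Type v} [Group G] [Finite G]
    [MulAction G Ω] [Fintype Ω] [FaithfulSMul G Ω] [IsPretransitive G Ω] {p d : ℕ}
    (hp : p.Prime) (hΩ : Fintype.card Ω = p + 1) (hG : Nat.card G = (p + 1) * p * d)
    (hd : d < p) (hp2 : p ≠ 2) (hd1 : 1 < d)
    (hnoreg : ∀ N : Subgroup G, N.Normal → IsPretransitive N Ω →
      ∃ a : Ω, stabilizer N a ≠ ⊥) :
    (d = p - 1 ∧ Nonempty (G ≃* Matrix.ProjGenLinGroup (Fin 2) (ZMod p))) ∨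
      (2 * d = p - 1 ∧ Nonempty (G ≃* Matrix.ProjectiveSpecialLinearGroup (Fin 2) (ZMod p))) := by
  classical
  haveI : Fact p.Prime := ⟨hp⟩
  have ht2 := t2 hp hΩ hG hd
  have hp3 := p3 hp hΩ hG hd
  obtain ⟨a, b, hab⟩ : ∃ a b : Ω, a ≠ b := by
    have h1 : 1 < Fintype.card Ω := by
      rw [hΩ]
      have := hp.two_le
      omega
    exact Fintype.exists_pair_of_one_lt_card h1
  have hE := card_two_stab hp hΩ hG hd hab
  have hfix2 : ∃ g : G, g ≠ 1 ∧ ∃ a b : Ω, a ≠ b ∧ g • a = a ∧ g • b = b := by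
    haveI : Nontrivial ↥(stabilizer G a ⊓ stabilizer G b : Subgroup G) := by
      rw [← Finite.one_lt_card_iff_nontrivial, hE]
      exact hd1
    obtain ⟨x, hx⟩ := exists_ne (1 : ↥(stabilizer G a ⊓ stabilizer G b : Subgroup G))
    refine ⟨(x : G), fun h => hx (Subtype.ext h), a, b, hab, ?_, ?_⟩
    · exact mem_stabilizer_iff.1 (Subgroup.mem_inf.1 x.2).1
    · exact mem_stabilizer_iff.1 (Subgroup.mem_inf.1 x.2).2
  have hZ : Cfsg.IsZassenhausGroup G Ω :=
    ⟨inferInstance, MulAction.is_two_pretransitive_iff.2 (fun {x y x' y'} hxy hxy' =>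
      ht2 x y x' y' hxy hxy'), hp3, hfix2, hnoreg⟩
  obtain ⟨P, hPle, hPn, hPcard, hPfix, hreg⟩ := exists_kernel hp hΩ hG hd a
  have hM : (p + 1) * (p + 1) - (p + 1) = (p + 1) * p := by
    apply Nat.sub_eq_of_eq_add
    ring
  have hpos : 0 < (p + 1) * p := Nat.mul_pos (by omega) hp.pos
  have h2le := hp.two_le
  rcases Cfsg.Agent.Helper2.ZasAb.main_abelian' hFeit hZ a P hPle hPn
    (comm_of_prime_card hp P hPcard) hreg with ⟨h3, hs, hcard⟩ | ⟨K, iF, iFin, hchar, hK, hcard, ⟨φ⟩⟩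
  · left
    rw [hG, hΩ, hM] at hcard
    have hdp : d = p - 1 := by
      have h1 : d * ((p + 1) * p) = (p + 1 - 2) * ((p + 1) * p) := by
        rw [← hcard]
        ring
      have := Nat.eq_of_mul_eq_mul_right hpos h1
      omega
    refine ⟨hdp, ?_⟩
    have hS : Cfsg.Agent.Helper2.Sharp3.SharpThree G Ω :=
      Cfsg.Agent.Helper2.Sharp3.sharpThree_of h3 hs
    obtain ⟨K, iF, iFin, hKcard, ⟨φ⟩⟩ :=
      Cfsg.Agent.Helper2.Sh3Odd.main hS hp hp2 (⟨0, rfl⟩ : Odd 1) (by rw [hΩ, pow_one])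
    rw [pow_one] at hKcard
    exact ⟨φ.trans (Cfsg.Agent.Helper2.Mobius.pglCongr (ZMod.ringEquivOfPrime K hp hKcard).symm)⟩
  · right
    rw [hG, hΩ, hM] at hcard
    have hdp : 2 * d = p - 1 := by
      have h1 : (2 * d) * ((p + 1) * p) = (p + 1 - 2) * ((p + 1) * p) := by
        rw [← hcard]
        ring
      have := Nat.eq_of_mul_eq_mul_right hpos h1
      omega
    refine ⟨hdp, ?_⟩
    have hKcard : Fintype.card K = p := by omega
    exact ⟨φ.trans (Cfsg.Agent.Helper7.SLTransfer.pslEquiv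
      (ZMod.ringEquivOfPrime K hp hKcard).symm)⟩

end Cfsg.Agent.Helper2.PP1
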