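import Mathlib
import Cfsg.Agent.Helper2.PP1B
import Cfsg.Agent.Helper2.ZasPSLA
import Cfsg.Agent.Helper2.ZasPSLF

/-!
# Transitive groups of degree `p + 1` and order `(p + 1) p d`, `d < p`, with a regular normal
subgroup: semi-affine coordinates.
-/

set_option autoImplicit false

namespace Cfsg.Agent.Helper2.PP1

open MulAction Cfsg.Agent.Helper7.Zass Cfsg.Agent.Helper2.ZasPSL

/-- An injective additive map of a finite field normalising the multiplications is a
multiplication composed with a field automorphism. -/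
theorem semilinear_ringEquiv {K : Type*} [Field K] [Finite K] (ψ : K → K)
    (hadd : ∀ x y, ψ (x + y) = ψ x + ψ y) (hinj : Function.Injective ψ)
    (hsemi : ∀ u : K, u ≠ 0 → ∃ u' : K, ∀ x, ψ (u * x) = u' * ψ x) :
    ∃ (α : Kˣ) (φ : K ≃+* K), ∀ x, ψ x = (α : K) * φ x := by
  have h0 : ψ 0 = 0 := by
    have := hadd 0 0
    rw [add_zero] at this
    exact left_eq_add.mp this
  have h1 : ψ 1 ≠ 0 := by
    intro e
    rw [← h0] at e
    exact one_ne_zero (hinj e)
  have hmul : ∀ u x : K, (ψ 1)⁻¹ * ψ (u * x) = ((ψ 1)⁻¹ * ψ u) * ((ψ 1)⁻¹ * ψ x) := by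
    intro u x
    by_cases hu : u = 0
    · rw [hu, zero_mul, h0, mul_zero, zero_mul]
    · obtain ⟨u', hu'⟩ := hsemi u hu
      have e1 : ψ u = u' * ψ 1 := by
        have := hu' 1
        rwa [mul_one] at this
      rw [hu' x, e1]
      field_simp
  let φ₀ : K →+* K :=
    { toFun := fun x => (ψ 1)⁻¹ * ψ x
      map_one' := inv_mul_cancel₀ h1
      map_mul' := hmul
      map_zero' := by rw [h0, mul_zero]
      map_add' := fun x y => by rw [hadd, mul_add] }
  have hφinj : Function.Injective φ₀ := φ₀.injective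
  have hφbij : Function.Bijective φ₀ := Finite.injective_iff_bijective.mp hφinj
  refine ⟨Units.mk0 (ψ 1) h1, RingEquiv.ofBijective φ₀ hφbij, fun x => ?_⟩
  show ψ x = ψ 1 * ((ψ 1)⁻¹ * ψ x)
  rw [← mul_assoc, mul_inv_cancel₀ h1, one_mul]

universe u v

set_option maxHeartbeats 1600000 in
theorem exists_semiaffine_coordinates {G : Type u} {Ω : Type v} [Group G] [Finite G]
    [MulAction G Ω] [Fintype Ω] [FaithfulSMul G Ω] [IsPretransitive G Ω] {p d : ℕ}
    (hp : p.Prime) (hΩ : Fintype.card Ω = p + 1) (hG : Nat.card G = (p + 1) * p * d)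
    (hd : d < p) (hp2 : p ≠ 2)
    (N : Subgroup G) (hNn : N.Normal) (hNt : IsPretransitive N Ω)
    (hNfree : ∀ a : Ω, stabilizer N a = ⊥) (a : Ω) :
    ∃ (K : Type) (_ : Field K) (_ : Fintype K) (pt : K → Ω), Function.Bijective pt ∧
      pt 0 = a ∧ Fintype.card K = p + 1 ∧ (2 : K) = 0 ∧
      ∀ g : G, ∃ (α : Kˣ) (β : K) (φ : K ≃+* K), ∀ x, g • pt x = pt ((α : K) * φ x + β) := by
  classical
  haveI : Fact p.Prime := ⟨hp⟩
  obtain ⟨P, hPle, hPn, hPcard, hPfix, hreg⟩ := exists_kernel hp hΩ hG hd a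
  have hPa : ∀ u ∈ P, u • a = a := fun u hu => mem_stabilizer_iff.1 (hPle hu)
  have hPcomm := comm_of_prime_card hp P hPcard
  have hNfree' : ∀ n ∈ N, ∀ c : Ω, n • c = c → n = 1 := by
    intro n hn c hc
    have h1 : (⟨n, hn⟩ : N) ∈ stabilizer N c := by
      rw [mem_stabilizer_iff]
      exact hc
    rw [hNfree c, Subgroup.mem_bot] at h1
    exact congrArg Subtype.val h1
  have hNtrans' : ∀ y z : Ω, ∃ n ∈ N, n • y = z := by
    intro y z
    obtain ⟨n, hn⟩ := hNt.exists_smul_eq y z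
    exact ⟨(n : G), n.2, hn⟩
  have hNcard : Nat.card N = p + 1 := by
    rw [← hΩ, ← Nat.card_eq_fintype_card]
    apply Nat.card_congr
    apply Equiv.ofBijective (fun n : N => (n : G) • a)
    constructor
    · intro n m hnm
      have h1 : ((m : G)⁻¹ * (n : G)) • a = a := by
        rw [mul_smul]
        rw [show (n : G) • a = (m : G) • a from hnm, inv_smul_smul]
      have h2 := hNfree' _ (N.mul_mem (N.inv_mem m.2) n.2) a h1
      apply Subtype.ext
      have : (n : G) = (m : G) * ((m : G)⁻¹ * (n : G)) := by group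
      rw [this, h2, mul_one]
    · intro z
      obtain ⟨n, hn, hnz⟩ := hNtrans' a z
      exact ⟨⟨n, hn⟩, hnz⟩
  have hnorm : ∀ u ∈ P, ∀ x ∈ N, u * x * u⁻¹ ∈ N := fun u _ x hx => hNn.conj_mem x hx u
  have hconj : ∀ n ∈ N, n ≠ 1 → ∀ m ∈ N, m ≠ 1 → ∃ u ∈ P, u * n * u⁻¹ = m := by
    intro n hn hn1 m hm hm1
    have hna : n • a ≠ a := fun e => hn1 (hNfree' n hn a e)
    have hma : m • a ≠ a := fun e => hm1 (hNfree' m hm a e)
    obtain ⟨u, hu, -⟩ := hreg (n • a) (m • a) hna hma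
    refine ⟨(u : G), u.2, ?_⟩
    have huinv : (u : G)⁻¹ • a = a := by rw [inv_smul_eq_iff, hPa u u.2]
    have h1 : (m⁻¹ * ((u : G) * n * (u : G)⁻¹)) • a = a := by
      rw [mul_smul, mul_smul, mul_smul, huinv, hu, inv_smul_smul]
    have h2 := hNfree' _ (N.mul_mem (N.inv_mem hm) (hnorm u u.2 n hn)) a h1
    have : (u : G) * n * (u : G)⁻¹ = m * (m⁻¹ * ((u : G) * n * (u : G)⁻¹)) := by group
    rw [this, h2, mul_one]
  -- an involution in `N`
  have hpodd : Odd p := hp.odd_of_ne_two hp2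
  have h2N : 2 ∣ Nat.card N := by
    rw [hNcard]
    obtain ⟨k, hk⟩ := hpodd
    exact ⟨k + 1, by omega⟩
  haveI : Fact (Nat.Prime 2) := ⟨Nat.prime_two⟩
  obtain ⟨t, ht⟩ := exists_prime_orderOf_dvd_card' (G := N) 2 h2N
  have ht1 : (t : G) ≠ 1 := by
    intro e
    have : t = 1 := Subtype.ext e
    rw [this, orderOf_one] at ht
    omega
  have ht2 : (t : G) * (t : G) = 1 := by
    have h1 : t ^ 2 = 1 := by rw [← ht]; exact pow_orderOf_eq_one t
    have h2 := congrArg Subtype.val h1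
    rw [Subgroup.coe_pow, pow_two] at h2
    exact h2
  have hexp : ∀ n ∈ N, n * n = 1 := by
    intro n hn
    by_cases hn1 : n = 1
    · rw [hn1, one_mul]
    · obtain ⟨u, -, hu⟩ := hconj (t : G) t.2 ht1 n hn hn1
      rw [← hu]
      calc u * (t : G) * u⁻¹ * (u * (t : G) * u⁻¹) = u * ((t : G) * (t : G)) * u⁻¹ := by group
        _ = 1 := by rw [ht2]; group
  have hNcomm : ∀ n ∈ N, ∀ m ∈ N, n * m = m * n := by
    intro n hn m hm
    have h1 := hexp n hn
    have h2 := hexp m hm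
    have h3 := hexp (n * m) (N.mul_mem hn hm)
    have hninv : n⁻¹ = n := inv_eq_of_mul_eq_one_left h1
    have hminv : m⁻¹ = m := inv_eq_of_mul_eq_one_left h2
    have e1 : n * m = (n * m)⁻¹ := eq_inv_of_mul_eq_one_left h3
    rw [mul_inv_rev, hminv, hninv] at e1
    exact e1
  letI : CommGroup ↥N :=
    { (inferInstance : Group ↥N) with mul_comm := fun x y => Subtype.ext (hNcomm x x.2 y y.2) }
  have hcomm' : ∀ γ δ : ↥P, ∀ x : ↥N,
      conjAct N P hnorm γ (conjAct N P hnorm δ x) = conjAct N P hnorm δ (conjAct N P hnorm γ x) := by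
    intro γ δ x
    apply Subtype.ext
    rw [conjAct_apply, conjAct_apply, conjAct_apply, conjAct_apply]
    have e := hPcomm γ γ.2 δ δ.2
    calc (γ : G) * ((δ : G) * x * (δ : G)⁻¹) * (γ : G)⁻¹
        = ((γ : G) * δ) * x * ((γ : G) * δ)⁻¹ := by group
      _ = ((δ : G) * γ) * x * ((δ : G) * γ)⁻¹ := by rw [e]
      _ = (δ : G) * ((γ : G) * x * (γ : G)⁻¹) * (δ : G)⁻¹ := by group
  have hirr' : ∀ M : Subgroup ↥N, (∀ γ : ↥P, ∀ m ∈ M, conjAct N P hnorm γ m ∈ M) →
      M = ⊥ ∨ M = ⊤ := by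
    intro M hM
    by_cases hbot : M = ⊥
    · exact Or.inl hbot
    · right
      obtain ⟨m, hm1⟩ := (Subgroup.ne_bot_iff_exists_ne_one).1 hbot
      rw [eq_top_iff]
      intro x _
      by_cases hx1 : x = 1
      · rw [hx1]
        exact M.one_mem
      · have hm1' : ((m : ↥N) : G) ≠ 1 := fun e => hm1 (Subtype.ext (Subtype.ext e))
        have hx1' : (x : G) ≠ 1 := fun e => hx1 (Subtype.ext e)
        obtain ⟨u, hu, hux⟩ := hconj ((m : ↥N) : G) (m : ↥N).2 hm1' (x : G) x.2 hx1'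
        have h1 := hM ⟨u, hu⟩ (m : ↥N) m.2
        have e : conjAct N P hnorm ⟨u, hu⟩ (m : ↥N) = x := Subtype.ext hux
        rwa [e] at h1
  have ha₀ : t ≠ 1 := fun e => ht1 (congrArg Subtype.val e)
  obtain ⟨K, instF, instFin, ε, χ, hεbij, hεadd, hε1, hεχ⟩ :=
    exists_field_of_irr (conjAct N P hnorm) hcomm' hirr' ha₀
  have hε0 : ε 0 = 1 := by
    have := hεadd 0 0
    rw [add_zero] at this
    exact (mul_eq_left.mp this.symm)
  have hχsurj : ∀ x : K, x ≠ 0 → ∃ γ : ↥P, χ γ = x := by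
    intro x hx
    have hx1 : ε x ≠ 1 := by
      intro e
      rw [← hε0] at e
      exact hx (hεbij.1 e)
    have hx1' : ((ε x : ↥N) : G) ≠ 1 := fun e => hx1 (Subtype.ext e)
    obtain ⟨u, hu, hux⟩ := hconj (t : G) t.2 ht1 (ε x : G) (ε x).2 hx1'
    refine ⟨⟨u, hu⟩, ?_⟩
    apply hεbij.1
    have h1 := hεχ ⟨u, hu⟩ 1
    rw [mul_one, hε1] at h1
    rw [h1]
    exact Subtype.ext hux
  refine ⟨K, instF, instFin, fun x => ((ε x : ↥N) : G) • a, ?_, ?_, ?_, ?_, ?_⟩
  · constructor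
    · intro x y hxy
      have hxy' : ((ε x : ↥N) : G) • a = ((ε y : ↥N) : G) • a := hxy
      have h1 : (((ε y : ↥N) : G)⁻¹ * ((ε x : ↥N) : G)) • a = a := by
        rw [mul_smul, hxy', inv_smul_smul]
      have h2 := hNfree' _ (N.mul_mem (N.inv_mem (ε y).2) (ε x).2) a h1
      apply hεbij.1
      apply Subtype.ext
      have : ((ε x : ↥N) : G) = ((ε y : ↥N) : G) * (((ε y : ↥N) : G)⁻¹ * ((ε x : ↥N) : G)) := by
        group
      rw [this, h2, mul_one]
    · intro z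
      obtain ⟨n, hn, hnz⟩ := hNtrans' a z
      obtain ⟨x, hx⟩ := hεbij.2 ⟨n, hn⟩
      refine ⟨x, ?_⟩
      show ((ε x : ↥N) : G) • a = z
      rw [hx]
      exact hnz
  · show ((ε 0 : ↥N) : G) • a = a
    rw [hε0, Subgroup.coe_one, one_smul]
  · rw [← hNcard, ← Nat.card_eq_fintype_card]
    exact Nat.card_congr (Equiv.ofBijective ε hεbij)
  · apply hεbij.1
    rw [hε0]
    have : (2 : K) = 1 + 1 := by norm_num
    rw [this, hεadd, hε1]
    exact Subtype.ext ht2
  · intro g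
    obtain ⟨n, hn, hna⟩ := hNtrans' a (g • a)
    obtain ⟨g₀, hg₀def⟩ : ∃ g₀ : G, g₀ = n⁻¹ * g := ⟨_, rfl⟩
    have hg₀ : g₀ • a = a := by rw [hg₀def, mul_smul, ← hna, inv_smul_smul]
    have hg₀S : g₀ ∈ stabilizer G a := mem_stabilizer_iff.2 hg₀
    obtain ⟨β, hβ⟩ := hεbij.2 ⟨n, hn⟩
    have hex : ∀ x : K, ∃ y : K, ε y = ⟨g₀ * (ε x : G) * g₀⁻¹, hNn.conj_mem _ (ε x).2 g₀⟩ :=
      fun x => hεbij.2 _
    choose ψ hψ using hex
    have hψ' : ∀ x, ((ε (ψ x) : ↥N) : G) = g₀ * (ε x : G) * g₀⁻¹ :=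
      fun x => congrArg Subtype.val (hψ x)
    have hψadd : ∀ x y, ψ (x + y) = ψ x + ψ y := by
      intro x y
      apply hεbij.1
      apply Subtype.ext
      rw [hψ', hεadd, hεadd, Subgroup.coe_mul, Subgroup.coe_mul, hψ', hψ']
      group
    have hψinj : Function.Injective ψ := by
      intro x y hxy
      apply hεbij.1
      apply Subtype.ext
      have h1 := hψ' x
      rw [hxy, hψ' y] at h1
      exact (mul_left_cancel (mul_right_cancel h1)).symm
    have hψsemi : ∀ u : K, u ≠ 0 → ∃ u' : K, ∀ x, ψ (u * x) = u' * ψ x := by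
      intro u hu
      obtain ⟨γ, rfl⟩ := hχsurj u hu
      have hγ' : g₀ * (γ : G) * g₀⁻¹ ∈ P := by
        have h1 := hPn.conj_mem ⟨(γ : G), hPle γ.2⟩ (Subgroup.mem_subgroupOf.2 γ.2) ⟨g₀, hg₀S⟩
        exact Subgroup.mem_subgroupOf.1 h1
      refine ⟨χ ⟨_, hγ'⟩, fun x => ?_⟩
      apply hεbij.1
      apply Subtype.ext
      rw [hψ', hεχ, hεχ, conjAct_apply, conjAct_apply, hψ']
      group
    obtain ⟨α, φ, hαφ⟩ := semilinear_ringEquiv ψ hψadd hψinj hψsemi
    refine ⟨α, β, φ, fun x => ?_⟩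
    show g • ((ε x : ↥N) : G) • a = ((ε ((α : K) * φ x + β) : ↥N) : G) • a
    have hinv : g₀⁻¹ • a = a := by rw [inv_smul_eq_iff, hg₀]
    rw [← hαφ, add_comm, hεadd, hβ, Subgroup.coe_mul, mul_smul, hψ', mul_smul, mul_smul, hinv,
      ← mul_smul g₀, ← mul_smul n, ← mul_smul g, hg₀def]
    congr 1
    group

end Cfsg.Agent.Helper2.PP1
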