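import Mathlib
import Cfsg.Agent.Helper2.PP1D

/-!
# Transitive groups of degree `p + 1` and order `(p + 1) p d`, `d < p`, with a regular normal
subgroup: the semi-affine conclusion.
-/

set_option autoImplicit false

namespace Cfsg.Agent.Helper2.PP1

open MulAction Cfsg.Agent.Helper7.Zass

/-- The automorphism group of the field with `2 ^ q` elements has order `q`. -/
theorem card_ringAut {K : Type*} [Field K] [Fintype K] {q : ℕ} (hK : Fintype.card K = 2 ^ q)
    (h2 : (2 : K) = 0) : Nat.card (K ≃+* K) = q := by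
  haveI : CharP K 2 := CharTwo.of_one_ne_zero_of_two_eq_zero one_ne_zero h2
  letI := ZMod.algebra K 2
  let e : (K ≃ₐ[ZMod 2] K) ≃ (K ≃+* K) :=
    { toFun := fun σ => σ.toRingEquiv
      invFun := fun σ => AlgEquiv.ofRingEquiv (f := σ) (fun x =>
        RingHom.congr_fun (Subsingleton.elim ((σ : K →+* K).comp (algebraMap (ZMod 2) K))
          (algebraMap (ZMod 2) K)) x)
      left_inv := fun σ => by ext x; rfl
      right_inv := fun σ => by ext x; rfl }
  rw [← Nat.card_congr e]
  have hb := FiniteField.bijective_frobeniusAlgEquivOfAlgebraic_pow (ZMod 2) K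
  rw [← Nat.card_congr (Equiv.ofBijective _ hb), Nat.card_eq_fintype_card, Fintype.card_fin]
  have h3 := Module.card_eq_pow_finrank (K := ZMod 2) (V := K)
  rw [hK, ZMod.card] at h3
  exact (Nat.pow_right_injective (le_refl 2) h3).symm

universe u v

set_option maxHeartbeats 1600000 in
theorem affine {G : Type u} {Ω : Type v} [Group G] [Finite G]
    [MulAction G Ω] [Fintype Ω] [FaithfulSMul G Ω] [IsPretransitive G Ω] {p d : ℕ}
    (hp : p.Prime) (hΩ : Fintype.card Ω = p + 1) (hG : Nat.card G = (p + 1) * p * d)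
    (hd : d < p) (hp2 : p ≠ 2)
    (N : Subgroup G) (hNn : N.Normal) (hNt : IsPretransitive N Ω)
    (hNfree : ∀ a : Ω, stabilizer N a = ⊥) :
    ∃ q : ℕ, q.Prime ∧ p + 1 = 2 ^ q ∧ (d = 1 ∨ d = q) ∧ ∃ e : Ω ≃ GaloisField 2 q, ∀ g : G,
      ∃ (α : (GaloisField 2 q)ˣ) (β : GaloisField 2 q)
        (φ : GaloisField 2 q ≃+* GaloisField 2 q), ∀ x, e (g • e.symm x) = (α : GaloisField 2 q) * φ x + β := by
  classical
  haveI : Nonempty Ω := by
    rw [← Fintype.card_pos_iff, hΩ]
    omega
  obtain ⟨a⟩ := ‹Nonempty Ω›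
  obtain ⟨K, iF, iFin, pt, hbij, hpt0, hKcard, h2, hsemi⟩ :=
    exists_semiaffine_coordinates hp hΩ hG hd hp2 N hNn hNt hNfree a
  haveI : CharP K 2 := CharTwo.of_one_ne_zero_of_two_eq_zero one_ne_zero h2
  obtain ⟨m, -, hm⟩ := FiniteField.card K 2
  obtain ⟨q, hq⟩ : ∃ q : ℕ, q = (m : ℕ) := ⟨_, rfl⟩
  rw [← hq] at hm
  have hpq : p + 1 = 2 ^ q := by rw [← hKcard, hm]
  have hq1 : q ≠ 1 := by
    intro e
    rw [e, pow_one] at hpq
    have := hp.two_le
    omega
  have hqprime : q.Prime := by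
    have h1 : (2 ^ q - 1).Prime := by
      have : 2 ^ q - 1 = p := by omega
      rw [this]
      exact hp
    exact (Nat.prime_of_pow_sub_one_prime hq1 h1).2
  -- the two-point stabiliser embeds in the automorphism group of `K`
  have hab : pt 0 ≠ pt 1 := fun e => zero_ne_one (hbij.1 e)
  have hE := card_two_stab hp hΩ hG hd hab
  have hex : ∀ g : ↥(stabilizer G (pt 0) ⊓ stabilizer G (pt 1) : Subgroup G),
      ∃ φ : K ≃+* K, ∀ x, (g : G) • pt x = pt (φ x) := by
    intro g
    obtain ⟨α, β, φ, h⟩ := hsemi g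
    have hg0 : (g : G) • pt 0 = pt 0 := mem_stabilizer_iff.1 (Subgroup.mem_inf.1 g.2).1
    have hg1 : (g : G) • pt 1 = pt 1 := mem_stabilizer_iff.1 (Subgroup.mem_inf.1 g.2).2
    have hβ : β = 0 := by
      have := h 0
      rw [hg0, map_zero, mul_zero, zero_add] at this
      exact (hbij.1 this).symm
    have hα : (α : K) = 1 := by
      have := h 1
      rw [hg1, map_one, mul_one, hβ, add_zero] at this
      exact (hbij.1 this).symm
    refine ⟨φ, fun x => ?_⟩
    rw [h x, hα, hβ, one_mul, add_zero]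
  choose Φ hΦ using hex
  let Φhom : ↥(stabilizer G (pt 0) ⊓ stabilizer G (pt 1) : Subgroup G) →* (K ≃+* K) :=
    { toFun := Φ
      map_one' := by
        ext x
        apply hbij.1
        rw [← hΦ, Subgroup.coe_one, one_smul]
        rfl
      map_mul' := by
        intro g g'
        ext x
        apply hbij.1
        rw [← hΦ, Subgroup.coe_mul, mul_smul, hΦ g', hΦ g]
        rfl }
  have hΦinj : Function.Injective Φhom := by
    intro g g' hgg'
    apply Subtype.ext
    apply FaithfulSMul.eq_of_smul_eq_smul (α := Ω)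
    intro y
    obtain ⟨x, rfl⟩ := hbij.2 y
    rw [hΦ g, hΦ g']
    have : Φ g = Φ g' := hgg'
    rw [this]
  have hdvd : d ∣ q := by
    have h1 := Subgroup.card_dvd_of_injective Φhom hΦinj
    rw [hE, card_ringAut hm h2] at h1
    exact h1
  have hdq : d = 1 ∨ d = q := (Nat.dvd_prime hqprime).1 hdvd
  -- the isomorphism with the Galois field
  haveI : Fintype (GaloisField 2 q) := Fintype.ofFinite _
  have hGF : Fintype.card (GaloisField 2 q) = 2 ^ q := by
    rw [← Nat.card_eq_fintype_card]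
    exact GaloisField.card 2 q hqprime.ne_zero
  let ι : K ≃+* GaloisField 2 q := FiniteField.ringEquivOfCardEq (by rw [hm, hGF])
  let e : Ω ≃ GaloisField 2 q := (Equiv.ofBijective pt hbij).symm.trans ι.toEquiv
  have he : ∀ x : K, e (pt x) = ι x := by
    intro x
    show ι.toEquiv ((Equiv.ofBijective pt hbij).symm (pt x)) = ι x
    have : (Equiv.ofBijective pt hbij).symm (pt x) = x :=
      (Equiv.ofBijective pt hbij).symm_apply_apply x
    rw [this]
    rfl
  have hesymm : ∀ y : GaloisField 2 q, e.symm y = pt (ι.symm y) := by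
    intro y
    rw [Equiv.symm_apply_eq, he, RingEquiv.apply_symm_apply]
  refine ⟨q, hqprime, hpq, hdq, e, fun g => ?_⟩
  obtain ⟨α, β, φ, h⟩ := hsemi g
  refine ⟨Units.map (ι : K →* GaloisField 2 q) α, ι β, ι.symm.trans (φ.trans ι), fun y => ?_⟩
  rw [hesymm, h, he, map_add, map_mul]
  rfl

end Cfsg.Agent.Helper2.PP1
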