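import Mathlib
import Cfsg.Agent.Helper2.PP1C
import Cfsg.Agent.Helper2.PP1E
import Cfsg.Agent.Helper2.Sharp3C
import Cfsg.Agent.Helper4.SharpTwoC

/-!
# Transitive groups of degree `p + 1` and order `(p + 1) p d`, `d < p`: the main theorem.
-/

set_option autoImplicit false

namespace Cfsg.Agent.Helper2.PP1

open MulAction Cfsg.Agent.Helper7.Zass Cfsg.Agent.Helper2.FeitAb Cfsg.Agent.Helper4

universe u v

/-- If `d = 1` there is a regular normal subgroup. -/
theorem exists_regular_normal {G : Type u} {Ω : Type v} [Group G] [Finite G]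
    [MulAction G Ω] [Fintype Ω] [FaithfulSMul G Ω] [IsPretransitive G Ω] {p : ℕ}
    (hp : p.Prime) (hΩ : Fintype.card Ω = p + 1) (hG : Nat.card G = (p + 1) * p * 1)
    (hd : 1 < p) :
    ∃ N : Subgroup G, N.Normal ∧ IsPretransitive N Ω ∧ ∀ a : Ω, stabilizer N a = ⊥ := by
  classical
  have ht2 := t2 hp hΩ hG hd
  have hS : SharpTwo G Ω := by
    refine ⟨ht2, ?_⟩
    intro g a b hab hga hgb
    have hE := card_two_stab hp hΩ hG hd hab
    haveI : Subsingleton ↥(stabilizer G a ⊓ stabilizer G b : Subgroup G) :=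
      (Nat.card_eq_one_iff_unique.1 hE).1
    have hg : g ∈ (stabilizer G a ⊓ stabilizer G b : Subgroup G) :=
      Subgroup.mem_inf.2 ⟨mem_stabilizer_iff.2 hga, mem_stabilizer_iff.2 hgb⟩
    have := Subsingleton.elim (⟨g, hg⟩ : ↥(stabilizer G a ⊓ stabilizer G b : Subgroup G)) 1
    exact congrArg Subtype.val this
  obtain ⟨a, b, hab⟩ : ∃ a b : Ω, a ≠ b := by
    have h1 : 1 < Fintype.card Ω := by
      rw [hΩ]
      omega
    exact Fintype.exists_pair_of_one_lt_card h1
  obtain ⟨N, x₀, -, -, hNset, hNn, -, hNcard, -⟩ := hS.exists_kernel a b hab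
  have hNfree : ∀ n ∈ N, ∀ c : Ω, n • c = c → n = 1 := by
    intro n hn c hc
    have h1 : n ∈ fpfSet G Ω := by
      rw [← hNset]
      exact hn
    rcases h1 with h1 | h1
    · exact h1
    · exact absurd hc (h1 c)
  refine ⟨N, hNn, ?_, ?_⟩
  · constructor
    intro y z
    have hinj : Function.Injective (fun n : N => (n : G) • y) := by
      intro n m hnm
      have hnm' : (n : G) • y = (m : G) • y := hnm
      have h1 : ((m : G)⁻¹ * (n : G)) • y = y := by
        rw [mul_smul, hnm', inv_smul_smul]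
      have h2 := hNfree _ (N.mul_mem (N.inv_mem m.2) n.2) y h1
      apply Subtype.ext
      have : (n : G) = (m : G) * ((m : G)⁻¹ * (n : G)) := by group
      rw [this, h2, mul_one]
    have hbij := (Nat.bijective_iff_injective_and_card _).2
      ⟨hinj, by rw [hNcard, Nat.card_eq_fintype_card]⟩
    obtain ⟨n, hn⟩ := hbij.2 z
    exact ⟨n, hn⟩
  · intro c
    rw [eq_bot_iff]
    intro n hn
    rw [mem_stabilizer_iff] at hn
    rw [Subgroup.mem_bot]
    apply Subtype.ext
    exact hNfree (n : G) n.2 c hn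

/-- The case `p = 2`. -/
theorem case_two {G : Type u} {Ω : Type v} [Group G] [Finite G]
    [MulAction G Ω] [Fintype Ω] [FaithfulSMul G Ω] [IsPretransitive G Ω] {d : ℕ}
    (hΩ : Fintype.card Ω = 2 + 1) (hG : Nat.card G = (2 + 1) * 2 * d) (hd : d < 2) :
    Nonempty (G ≃* Matrix.ProjGenLinGroup (Fin 2) (ZMod 2)) := by
  classical
  have ht2 := t2 Nat.prime_two hΩ hG hd
  have hp3 := p3 Nat.prime_two hΩ hG hd
  have hS : Cfsg.Agent.Helper2.Sharp3.SharpThree G Ω := by
    refine ⟨?_, ?_⟩
    · intro a b c a' b' c' hab hac hbc hab' hac' hbc'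
      obtain ⟨g, hga, hgb⟩ := ht2 a b a' b' hab hab'
      refine ⟨g, hga, hgb, ?_⟩
      have hcov : ∀ x : Ω, x = a' ∨ x = b' ∨ x = c' := by
        intro x
        have h1 : ({a', b', c'} : Finset Ω).card = 3 := by
          rw [Finset.card_insert_of_notMem, Finset.card_insert_of_notMem, Finset.card_singleton]
          · simpa using hbc'
          · simp only [Finset.mem_insert, Finset.mem_singleton, not_or]
            exact ⟨hab', hac'⟩
        have h2 : ({a', b', c'} : Finset Ω) = Finset.univ := by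
          rw [← Finset.card_eq_iff_eq_univ, h1, hΩ]
        have h3 : x ∈ ({a', b', c'} : Finset Ω) := by rw [h2]; exact Finset.mem_univ x
        simpa using h3
      rcases hcov (g • c) with h | h | h
      · exfalso
        rw [← hga] at h
        exact hac (smul_left_cancel _ h).symm
      · exfalso
        rw [← hgb] at h
        exact hbc (smul_left_cancel _ h).symm
      · exact h
    · intro g a b c hab hac hbc hga hgb hgc
      exact hp3 g a b c hab hbc hac hga hgb hgc
  have hcard : Nat.card Ω = 3 := by rw [Nat.card_eq_fintype_card, hΩ]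
  obtain ⟨β, iF, iFin, hβ, ⟨φ⟩⟩ := hS.exists_pgl (by rw [hcard]; exact ⟨1, rfl⟩) (by rw [hcard])
  have hβ2 : Fintype.card β = 2 := by omega
  exact ⟨φ.trans (Cfsg.Agent.Helper2.Mobius.pglCongr
    (ZMod.ringEquivOfPrime β Nat.prime_two hβ2).symm)⟩

set_option maxHeartbeats 800000 in
theorem main (hFeit : FeitHypAb.{u, v}) {G : Type u} {Ω : Type v} [Group G] [Finite G]
    [MulAction G Ω] [Fintype Ω] [FaithfulSMul G Ω] [IsPretransitive G Ω] {p d : ℕ}
    (hp : p.Prime) (hΩ : Fintype.card Ω = p + 1) (hG : Nat.card G = (p + 1) * p * d)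
    (hd : d < p) :
    (d = p - 1 ∧ Nonempty (G ≃* Matrix.ProjGenLinGroup (Fin 2) (ZMod p))) ∨
    (2 * d = p - 1 ∧ Nonempty (G ≃* Matrix.ProjectiveSpecialLinearGroup (Fin 2) (ZMod p))) ∨
    (∃ q : ℕ, q.Prime ∧ p + 1 = 2 ^ q ∧ (d = 1 ∨ d = q) ∧ ∃ e : Ω ≃ GaloisField 2 q, ∀ g : G,
      ∃ (α : (GaloisField 2 q)ˣ) (β : GaloisField 2 q)
        (φ : GaloisField 2 q ≃+* GaloisField 2 q),
        ∀ x, e (g • e.symm x) = (α : GaloisField 2 q) * φ x + β) := by
  classical
  have hd0 : 0 < d := by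
    rcases Nat.eq_zero_or_pos d with h0 | h0
    · rw [h0, mul_zero] at hG
      have : 0 < Nat.card G := Nat.card_pos
      omega
    · exact h0
  by_cases hp2 : p = 2
  · subst hp2
    left
    exact ⟨by omega, case_two hΩ hG hd⟩
  by_cases hreg : ∃ N : Subgroup G, N.Normal ∧ IsPretransitive N Ω ∧ ∀ a : Ω, stabilizer N a = ⊥
  · obtain ⟨N, hNn, hNt, hNfree⟩ := hreg
    right; right
    exact affine hp hΩ hG hd hp2 N hNn hNt hNfree
  · have hd1 : 1 < d := by
      by_contra hcon
      have hd1 : d = 1 := by omega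
      subst hd1
      exact hreg (exists_regular_normal hp hΩ hG hd)
    have hnoreg : ∀ N : Subgroup G, N.Normal → IsPretransitive N Ω →
        ∃ a : Ω, stabilizer N a ≠ ⊥ := by
      intro N hNn hNt
      by_contra hcon
      push Not at hcon
      exact hreg ⟨N, hNn, hNt, hcon⟩
    rcases nonaffine hFeit hp hΩ hG hd hp2 hd1 hnoreg with h | h
    · exact Or.inl h
    · exact Or.inr (Or.inl h)

end Cfsg.Agent.Helper2.PP1
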