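import Mathlib
import Cfsg.Prelude.Def_Perm
import Cfsg.Agent.Helper2.PP1F

/-!
# Transitive groups of degree `p + 1` and order `(p + 1) p d`, `d < p`: permutation group form.
-/

set_option autoImplicit false

namespace Cfsg.Agent.Helper2.PP1

open MulAction Cfsg.Agent.Helper2.FeitAb

universe u

theorem main_perm (hFeit : FeitHypAb.{u, u}) {α : Type u} [Fintype α] [DecidableEq α] {p d : ℕ}
    (hp : p.Prime) (hα : Fintype.card α = p + 1) (G : Subgroup (Equiv.Perm α))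
    [MulAction.IsPretransitive G α] (hG : Nat.card G = (p + 1) * p * d) (hd : d < p) :
    (d = p - 1 ∧ Nonempty (G ≃* Matrix.ProjGenLinGroup (Fin 2) (ZMod p))) ∨
    (2 * d = p - 1 ∧ Nonempty (G ≃* Matrix.ProjectiveSpecialLinearGroup (Fin 2) (ZMod p))) ∨
    (∃ q : ℕ, q.Prime ∧ p + 1 = 2 ^ q ∧ (d = 1 ∨ d = q) ∧ ∃ e : α ≃ GaloisField 2 q,
      ∀ g : G, (e.symm.trans (((g : Equiv.Perm α)).trans e)) ∈
        Cfsg.semiaffineGroup (GaloisField 2 q)) := by
  rcases main hFeit (G := ↥G) (Ω := α) hp hα hG hd with h | h | ⟨q, hq, hpq, hdq, e, he⟩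
  · exact Or.inl h
  · exact Or.inr (Or.inl h)
  · refine Or.inr (Or.inr ⟨q, hq, hpq, hdq, e, fun g => ?_⟩)
    obtain ⟨a, b, φ, h⟩ := he g
    exact ⟨a, b, φ, fun x => h x⟩

end Cfsg.Agent.Helper2.PP1
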