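import Mathlib
import Cfsg.Agent.Helper2.ZasAbE
import Cfsg.Agent.Helper2.FeitAbB
import Cfsg.Agent.Helper2.PP1G

/-!
# Zassenhaus groups with an abelian Frobenius kernel, and groups of degree `p + 1`: final forms,
assuming the two character-theoretic statements about simple groups.
-/

set_option autoImplicit false

namespace Cfsg.Agent.Helper2.ZasAb

open MulAction Cfsg.Agent.Helper2.FeitAb

universe u v

theorem main_of (hT1 : ClassBound.{u, v}) (hT2 : EvenContra.{u, v}) {G : Type u} {Ω : Type v}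
    [Group G] [Finite G] [MulAction G Ω] [Finite Ω] (hZ : Cfsg.IsZassenhausGroup G Ω) (x : Ω)
    (F : Subgroup G) (hFle : F ≤ MulAction.stabilizer G x)
    (hFn : (F.subgroupOf (MulAction.stabilizer G x)).Normal) (hFab : IsMulCommutative F)
    (hreg : ∀ y z : Ω, y ≠ x → z ≠ x → ∃! u : F, (u : G) • y = z) :
    (MulAction.IsMultiplyPretransitive G Ω 3 ∧
      ∀ t : Fin 3 ↪ Ω, MulAction.stabilizer G t = ⊥) ∨
    ∃ (K : Type) (_ : Field K) (_ : Fintype K), ringChar K ≠ 2 ∧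
      Nonempty (G ≃* Matrix.ProjectiveSpecialLinearGroup (Fin 2) K) := by
  classical
  haveI : Fintype Ω := Fintype.ofFinite Ω
  have hFeit := feitHypAb_of hT1 hT2
  have hFab' : ∀ u ∈ F, ∀ v ∈ F, u * v = v * u := by
    intro u hu v hv
    have := hFab.is_comm.comm (⟨u, hu⟩ : F) ⟨v, hv⟩
    exact congrArg Subtype.val this
  rcases main_abelian' hFeit hZ x F hFle hFn hFab' hreg with
    ⟨h3, hs, -⟩ | ⟨K, iF, iFin, hchar, -, -, hiso⟩
  · exact Or.inl ⟨h3, hs⟩
  · exact Or.inr ⟨K, iF, iFin, hchar, hiso⟩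

theorem main_perm_of (hT1 : ClassBound.{u, u}) (hT2 : EvenContra.{u, u}) {α : Type u} [Fintype α]
    [DecidableEq α] {p d : ℕ}
    (hp : p.Prime) (hα : Fintype.card α = p + 1) (G : Subgroup (Equiv.Perm α))
    [MulAction.IsPretransitive G α] (hG : Nat.card G = (p + 1) * p * d) (hd : d < p) :
    (d = p - 1 ∧ Nonempty (G ≃* Matrix.ProjGenLinGroup (Fin 2) (ZMod p))) ∨
    (2 * d = p - 1 ∧ Nonempty (G ≃* Matrix.ProjectiveSpecialLinearGroup (Fin 2) (ZMod p))) ∨
    (∃ q : ℕ, q.Prime ∧ p + 1 = 2 ^ q ∧ (d = 1 ∨ d = q) ∧ ∃ e : α ≃ GaloisField 2 q,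
      ∀ g : G, (e.symm.trans (((g : Equiv.Perm α)).trans e)) ∈
        Cfsg.semiaffineGroup (GaloisField 2 q)) :=
  Cfsg.Agent.Helper2.PP1.main_perm (feitHypAb_of hT1 hT2) hp hα G hG hd

end Cfsg.Agent.Helper2.ZasAb
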