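import Mathlib

/-!
# Integrality of traces of integral matrices, and idempotents
-/

set_option autoImplicit false

namespace Cfsg.Agent.Helper2.CentAlg

open Matrix Polynomial

variable {ι : Type*} [Fintype ι] [DecidableEq ι]

/-- The trace of a complex matrix that is integral over `ℤ` is an algebraic integer. -/
theorem isIntegral_trace (T : Matrix ι ι ℂ) (hT : IsIntegral ℤ T) : IsIntegral ℤ T.trace := by
  rw [Matrix.trace_eq_sum_roots_charpoly]
  apply (integralClosure ℤ ℂ).multiset_sum_mem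
  intro μ hμ
  have hroot : T.charpoly.IsRoot μ := (Polynomial.mem_roots (T.charpoly_monic.ne_zero)).1 hμ
  have hspec := Matrix.mem_spectrum_of_isRoot_charpoly hroot
  obtain ⟨q, hqm, hq⟩ := hT
  refine ⟨q, hqm, ?_⟩
  have h1 : Polynomial.aeval T (q.map (algebraMap ℤ ℂ)) = 0 := by
    rw [Polynomial.aeval_map_algebraMap, Polynomial.aeval_def]
    exact hq
  have h2 := spectrum.subset_polynomial_aeval T (q.map (algebraMap ℤ ℂ)) ⟨μ, hspec, rfl⟩
  rw [h1] at h2
  by_contra hne
  rw [← Polynomial.eval_map] at hne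
  rw [spectrum.mem_iff, sub_zero] at h2
  apply h2
  exact (IsUnit.mk0 _ hne).map (algebraMap ℂ (Matrix ι ι ℂ))

theorem mul_idem_pow {A : Type*} [Ring A] (X Φ : A) (hΦ : Φ * Φ = Φ) (hc : X * Φ = Φ * X)
    (i : ℕ) : (X * Φ) ^ (i + 1) = X ^ (i + 1) * Φ := by
  induction i with
  | zero => simp
  | succ i ih =>
    rw [pow_succ, ih, pow_succ X (i + 1)]
    calc X ^ (i + 1) * Φ * (X * Φ) = X ^ (i + 1) * (Φ * X) * Φ := by
          simp only [mul_assoc]
      _ = X ^ (i + 1) * (X * Φ) * Φ := by rw [hc]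
      _ = X ^ (i + 1) * X * (Φ * Φ) := by simp only [mul_assoc]
      _ = X ^ (i + 1) * X * Φ := by rw [hΦ]

/-- The product of an integral element with a commuting idempotent is integral. -/
theorem isIntegral_mul_idem {A : Type*} [Ring A] [Algebra ℤ A] (X Φ : A) (hX : IsIntegral ℤ X)
    (hΦ : Φ * Φ = Φ) (hc : X * Φ = Φ * X) : IsIntegral ℤ (X * Φ) := by
  obtain ⟨q, hqm, hq⟩ := hX
  refine ⟨q * Polynomial.X, hqm.mul Polynomial.monic_X, ?_⟩
  rw [Polynomial.eval₂_mul_X, Polynomial.eval₂_eq_sum_range, Finset.sum_mul]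
  have : ∀ i ∈ Finset.range (q.natDegree + 1),
      (algebraMap ℤ A) (q.coeff i) * (X * Φ) ^ i * (X * Φ) =
        ((algebraMap ℤ A) (q.coeff i) * X ^ i) * (X * Φ) := by
    intro i _
    rw [mul_assoc, ← pow_succ, mul_idem_pow X Φ hΦ hc, pow_succ, mul_assoc, mul_assoc]
  rw [Finset.sum_congr rfl this, ← Finset.sum_mul, ← Polynomial.eval₂_eq_sum_range, hq, zero_mul]

/-- An idempotent complex matrix of trace zero vanishes. -/
theorem eq_zero_of_idem_of_trace (Φ : Matrix ι ι ℂ) (hΦ : Φ * Φ = Φ) (ht : Φ.trace = 0) :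
    Φ = 0 := by
  have h1 : IsIdempotentElem (Matrix.toLin' Φ) := by
    show Matrix.toLin' Φ * Matrix.toLin' Φ = Matrix.toLin' Φ
    rw [Module.End.mul_eq_comp, ← Matrix.toLin'_mul, hΦ]
  have h2 : LinearMap.trace ℂ _ (Matrix.toLin' Φ) = 0 := by
    rw [Matrix.trace_toLin'_eq, ht]
  have h3 := LinearMap.IsIdempotentElem.eq_zero_of_trace_eq_zero h1 h2
  have : Matrix.toLin' Φ = Matrix.toLin' (0 : Matrix ι ι ℂ) := by rw [h3, map_zero]
  exact Matrix.toLin'.injective this

end Cfsg.Agent.Helper2.CentAlg
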