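import Mathlib
import Cfsg.Agent.Helper2.CentAlgA

/-!
# The Kronecker projector onto intertwiners: integrality of "orbital multiplicities"
-/

set_option autoImplicit false

namespace Cfsg.Agent.Helper2.CentAlg

open Matrix
open scoped Kronecker

variable {G : Type*} [Group G] {Ω : Type*} [Fintype Ω] [DecidableEq Ω] [MulAction G Ω]

/-- the permutation matrix of `g` -/
def permMat (g : G) : Matrix Ω Ω ℂ := fun x y => if x = g • y then 1 else 0

theorem permMat_mul (g h : G) : (permMat g : Matrix Ω Ω ℂ) * permMat h = permMat (g * h) := by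
  ext x z
  rw [Matrix.mul_apply]
  unfold permMat
  rw [Finset.sum_eq_single (h • z)]
  · rw [if_pos rfl, mul_one, mul_smul]
  · intro y _ hy
    rw [if_neg hy, mul_zero]
  · intro hh
    exact absurd (Finset.mem_univ _) hh

theorem trace_permMat (g : G) :
    (permMat g : Matrix Ω Ω ℂ).trace = ∑ x : Ω, if x = g • x then (1 : ℂ) else 0 := rfl

variable (A : Matrix Ω Ω ℤ)

theorem map_mul_permMat_apply (g : G) (x z : Ω) :
    ((A.map (Int.cast : ℤ → ℂ) * (permMat g : Matrix Ω Ω ℂ) : Matrix Ω Ω ℂ)) x z =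
      (A x (g • z) : ℂ) := by
  rw [Matrix.mul_apply]
  unfold permMat
  rw [Finset.sum_eq_single (g • z)]
  · rw [if_pos rfl, mul_one, Matrix.map_apply]
  · intro y _ hy
    rw [if_neg hy, mul_zero]
  · intro hh
    exact absurd (Finset.mem_univ _) hh

theorem permMat_mul_map_apply (g : G) (x z : Ω) :
    (((permMat g : Matrix Ω Ω ℂ) * A.map (Int.cast : ℤ → ℂ) : Matrix Ω Ω ℂ)) x z =
      (A (g⁻¹ • x) z : ℂ) := by
  rw [Matrix.mul_apply]
  unfold permMat
  rw [Finset.sum_eq_single (g⁻¹ • x)]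
  · rw [if_pos (smul_inv_smul g x).symm, one_mul, Matrix.map_apply]
  · intro y _ hy
    rw [if_neg, zero_mul]
    intro h
    apply hy
    rw [h, inv_smul_smul]
  · intro hh
    exact absurd (Finset.mem_univ _) hh

theorem map_mul_permMat_comm (hA : ∀ (g : G) (x y : Ω), A (g • x) (g • y) = A x y) (g : G) :
    A.map (Int.cast : ℤ → ℂ) * permMat g = permMat g * A.map (Int.cast : ℤ → ℂ) := by
  ext x z
  rw [map_mul_permMat_apply, permMat_mul_map_apply]
  have := hA g (g⁻¹ • x) z
  rw [smul_inv_smul] at this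
  rw [this]

theorem trace_map_mul_permMat (g : G) :
    (A.map (Int.cast : ℤ → ℂ) * permMat g).trace = ∑ x : Ω, (A x (g • x) : ℂ) := by
  unfold Matrix.trace
  apply Finset.sum_congr rfl
  intro x _
  rw [Matrix.diag_apply, map_mul_permMat_apply]

variable {n : ℕ} (ρ : Representation ℂ G (Fin n → ℂ))

/-- the contragredient matrix representation -/
noncomputable def dualMat (g : G) : Matrix (Fin n) (Fin n) ℂ :=
  (LinearMap.toMatrix' (ρ g⁻¹))ᵀ

theorem dualMat_mul (g h : G) : dualMat ρ g * dualMat ρ h = dualMat ρ (g * h) := by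
  unfold dualMat
  rw [← Matrix.transpose_mul, ← LinearMap.toMatrix'_mul, ← map_mul, _root_.mul_inv_rev]

theorem trace_dualMat (g : G) : (dualMat ρ g).trace = ρ.character g⁻¹ := by
  unfold dualMat Representation.character
  rw [Matrix.trace_transpose, LinearMap.trace_eq_matrix_trace ℂ (Pi.basisFun ℂ (Fin n)),
    LinearMap.toMatrix_eq_toMatrix']

/-- the tensor matrices `P(g) ⊗ D'(g)` -/
noncomputable def kronMat (g : G) : Matrix (Ω × Fin n) (Ω × Fin n) ℂ :=
  (permMat g : Matrix Ω Ω ℂ) ⊗ₖ dualMat ρ g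

theorem kronMat_mul (g h : G) : kronMat (Ω := Ω) ρ g * kronMat ρ h = kronMat ρ (g * h) := by
  unfold kronMat
  rw [← Matrix.mul_kronecker_mul, permMat_mul, dualMat_mul]

/-- the operator `A ⊗ 1` -/
noncomputable def kronLeft : Matrix (Ω × Fin n) (Ω × Fin n) ℂ :=
  A.map (Int.cast : ℤ → ℂ) ⊗ₖ (1 : Matrix (Fin n) (Fin n) ℂ)

theorem kronLeft_isIntegral : IsIntegral ℤ (kronLeft (n := n) A) := by
  have h1 : IsIntegral ℤ (A ⊗ₖ (1 : Matrix (Fin n) (Fin n) ℤ)) := Matrix.isIntegral _
  have h2 := h1.map ((Int.castRingHom ℂ).mapMatrix (m := Ω × Fin n)).toIntAlgHom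
  convert h2 using 1
  ext ⟨x, i⟩ ⟨y, j⟩
  unfold kronLeft
  simp only [Matrix.kroneckerMap_apply, Matrix.map_apply, Matrix.one_apply, RingHom.toIntAlgHom_apply,
    RingHom.mapMatrix_apply, Int.coe_castRingHom]
  split_ifs <;> simp

theorem kronLeft_mul_kronMat (g : G) :
    kronLeft (n := n) A * kronMat ρ g =
      (A.map (Int.cast : ℤ → ℂ) * permMat g) ⊗ₖ dualMat ρ g := by
  unfold kronLeft kronMat
  rw [← Matrix.mul_kronecker_mul, Matrix.one_mul]

theorem kronMat_mul_kronLeft (g : G) :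
    kronMat ρ g * kronLeft (n := n) A =
      (permMat g * A.map (Int.cast : ℤ → ℂ)) ⊗ₖ dualMat ρ g := by
  unfold kronLeft kronMat
  rw [← Matrix.mul_kronecker_mul, Matrix.mul_one]

variable [Fintype G]

/-- the averaging projector -/
noncomputable def kronProj : Matrix (Ω × Fin n) (Ω × Fin n) ℂ :=
  (Fintype.card G : ℂ)⁻¹ • ∑ g : G, kronMat (Ω := Ω) ρ g

theorem sum_kronMat_mul_sum :
    (∑ g : G, kronMat (Ω := Ω) ρ g) * (∑ g : G, kronMat (Ω := Ω) ρ g) =
      (Fintype.card G : ℂ) • ∑ g : G, kronMat (Ω := Ω) ρ g := by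
  rw [Finset.sum_mul]
  have : ∀ g ∈ (Finset.univ : Finset G), kronMat (Ω := Ω) ρ g * ∑ h : G, kronMat (Ω := Ω) ρ h =
      ∑ k : G, kronMat (Ω := Ω) ρ k := by
    intro g _
    rw [Finset.mul_sum]
    simp_rw [kronMat_mul]
    exact Fintype.sum_equiv (Equiv.mulLeft g) _ _ (fun h => rfl)
  rw [Finset.sum_congr rfl this, Finset.sum_const, Finset.card_univ, Nat.cast_smul_eq_nsmul]

theorem kronProj_idem : kronProj (Ω := Ω) ρ * kronProj (Ω := Ω) ρ = kronProj (Ω := Ω) ρ := by
  have hG0 : (Fintype.card G : ℂ) ≠ 0 := by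
    exact_mod_cast Fintype.card_ne_zero
  unfold kronProj
  rw [smul_mul_smul_comm, sum_kronMat_mul_sum, smul_smul, mul_assoc, inv_mul_cancel₀ hG0, mul_one]

theorem trace_kronProj :
    (kronProj (Ω := Ω) ρ).trace = (Fintype.card G : ℂ)⁻¹ *
      ∑ g : G, (∑ x : Ω, if x = g • x then (1 : ℂ) else 0) * ρ.character g⁻¹ := by
  unfold kronProj
  rw [Matrix.trace_smul, Matrix.trace_sum, smul_eq_mul]
  congr 1
  apply Finset.sum_congr rfl
  intro g _
  unfold kronMat
  rw [Matrix.trace_kronecker, trace_permMat, trace_dualMat]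

theorem kronLeft_comm (hA : ∀ (g : G) (x y : Ω), A (g • x) (g • y) = A x y) :
    kronLeft (n := n) A * kronProj ρ = kronProj ρ * kronLeft (n := n) A := by
  unfold kronProj
  rw [Matrix.mul_smul, Matrix.smul_mul, Finset.mul_sum, Finset.sum_mul]
  congr 1
  apply Finset.sum_congr rfl
  intro g _
  rw [kronLeft_mul_kronMat, kronMat_mul_kronLeft, map_mul_permMat_comm A hA]

theorem trace_kronLeft_mul_kronProj :
    (kronLeft (n := n) A * kronProj ρ).trace = (Fintype.card G : ℂ)⁻¹ *
      ∑ g : G, (∑ x : Ω, (A x (g • x) : ℂ)) * ρ.character g⁻¹ := by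
  unfold kronProj
  rw [Matrix.mul_smul, Matrix.trace_smul, Finset.mul_sum, Matrix.trace_sum, smul_eq_mul]
  congr 1
  apply Finset.sum_congr rfl
  intro g _
  rw [kronLeft_mul_kronMat, Matrix.trace_kronecker, trace_map_mul_permMat, trace_dualMat]

/-- **Integrality.** For an integer matrix `A` commuting with the action, the "multiplicity"
of a character in the class function `g ↦ tr(A P(g))` is an algebraic integer. -/
theorem isIntegral_inner (hA : ∀ (g : G) (x y : Ω), A (g • x) (g • y) = A x y) :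
    IsIntegral ℤ ((Fintype.card G : ℂ)⁻¹ *
      ∑ g : G, (∑ x : Ω, (A x (g • x) : ℂ)) * ρ.character g⁻¹) := by
  rw [← trace_kronLeft_mul_kronProj]
  apply isIntegral_trace
  exact isIntegral_mul_idem _ _ (kronLeft_isIntegral A) (kronProj_idem ρ) (kronLeft_comm A ρ hA)

/-- If the character does not occur in the permutation character, the multiplicity vanishes. -/
theorem inner_eq_zero
    (h0 : ∑ g : G, (∑ x : Ω, if x = g • x then (1 : ℂ) else 0) * ρ.character g⁻¹ = 0) :
    (Fintype.card G : ℂ)⁻¹ * ∑ g : G, (∑ x : Ω, (A x (g • x) : ℂ)) * ρ.character g⁻¹ = 0 := by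
  rw [← trace_kronLeft_mul_kronProj]
  have h1 : kronProj (Ω := Ω) ρ = 0 := by
    apply eq_zero_of_idem_of_trace _ (kronProj_idem ρ)
    rw [trace_kronProj, h0, mul_zero]
  rw [h1, Matrix.mul_zero, Matrix.trace_zero]

end Cfsg.Agent.Helper2.CentAlg
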