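import Mathlib
import Cfsg.Prelude.Def_Characters
import Cfsg.Agent.Helper2.CentAlgB
import Cfsg.Agent.Helper6.CharBasic
import Cfsg.Agent.Helper6.PermChar

/-!
# The class function attached to an orbital
-/

set_option autoImplicit false

namespace Cfsg.Agent.Helper2.CentAlg

open Matrix MulAction Cfsg.Agent.Helper6
open scoped ComplexConjugate

variable (G : Type*) [Group G] {Ω : Type*} [Fintype Ω] [DecidableEq Ω] [MulAction G Ω]

/-- the orbital matrix of the orbital through `(a, b)` -/
noncomputable def orbMat (a b : Ω) : Matrix Ω Ω ℤ := by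
  classical
  exact fun x y => if ∃ h : G, h • a = x ∧ h • b = y then 1 else 0

theorem orbMat_apply (a b x y : Ω) [Decidable (∃ h : G, h • a = x ∧ h • b = y)] :
    orbMat G a b x y = if ∃ h : G, h • a = x ∧ h • b = y then 1 else 0 := by
  unfold orbMat
  congr

theorem orbMat_smul (a b : Ω) (g : G) (x y : Ω) :
    orbMat G a b (g • x) (g • y) = orbMat G a b x y := by
  classical
  rw [orbMat_apply, orbMat_apply]
  have : (∃ h : G, h • a = g • x ∧ h • b = g • y) ↔ ∃ h : G, h • a = x ∧ h • b = y := by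
    constructor
    · rintro ⟨h, h1, h2⟩
      refine ⟨g⁻¹ * h, ?_, ?_⟩
      · rw [mul_smul, h1, inv_smul_smul]
      · rw [mul_smul, h2, inv_smul_smul]
    · rintro ⟨h, h1, h2⟩
      refine ⟨g * h, ?_, ?_⟩
      · rw [mul_smul, h1]
      · rw [mul_smul, h2]
  simp only [this]

theorem orbMat_diag (a b : Ω) (hab : a ≠ b) (x : Ω) : orbMat G a b x x = 0 := by
  classical
  rw [orbMat_apply, if_neg]
  rintro ⟨h, h1, h2⟩
  exact hab (MulAction.injective h (h1.trans h2.symm))

/-- the class function `g ↦ tr (A P(g))` -/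
noncomputable def orbFun (a b : Ω) : G → ℂ := fun g => ∑ x : Ω, (orbMat G a b x (g • x) : ℂ)

theorem orbFun_isClassFunction (a b : Ω) : Cfsg.IsClassFunction G (orbFun G a b) := by
  intro g h
  unfold orbFun
  rw [← Equiv.sum_comp (MulAction.toPerm h : Equiv.Perm Ω)]
  apply Finset.sum_congr rfl
  intro y _
  rw [MulAction.toPerm_apply, ← mul_smul, inv_mul_cancel_right, mul_smul, orbMat_smul]

theorem orbFun_one (a b : Ω) (hab : a ≠ b) : orbFun G a b 1 = 0 := by
  unfold orbFun
  apply Finset.sum_eq_zero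
  intro x _
  rw [one_smul, orbMat_diag G a b hab, Int.cast_zero]

variable [Fintype G]

theorem sum_orbMat_base [DecidableEq G] [IsPretransitive G Ω] (a b : Ω) :
    ∑ g : G, (orbMat G a b a (g • a) : ℂ) =
      (Nat.card (stabilizer G a) : ℂ) * (Nat.card (orbit (stabilizer G a) b) : ℂ) := by
  classical
  have h1 := Finset.sum_comp (s := (Finset.univ : Finset G))
    (f := fun y : Ω => (orbMat G a b a y : ℂ)) (g := fun g : G => g • a)
  rw [h1]
  have himg : (Finset.univ : Finset G).image (fun g : G => g • a) = Finset.univ := by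
    apply Finset.eq_univ_of_forall
    intro y
    obtain ⟨g, hg⟩ := MulAction.exists_smul_eq G a y
    exact Finset.mem_image.2 ⟨g, Finset.mem_univ _, hg⟩
  rw [himg]
  have h2 : ∀ y ∈ (Finset.univ : Finset Ω),
      ((Finset.univ : Finset G).filter (fun g : G => g • a = y)).card • (orbMat G a b a y : ℂ) =
        (Nat.card (stabilizer G a) : ℂ) * (orbMat G a b a y : ℂ) := by
    intro y _
    rw [card_fiber_smul, nsmul_eq_mul]
  rw [Finset.sum_congr rfl h2, ← Finset.mul_sum]
  congr 1
  have h3 : ∀ y : Ω, (orbMat G a b a y : ℂ) =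
      if y ∈ orbit (stabilizer G a) b then (1 : ℂ) else 0 := by
    intro y
    rw [orbMat_apply]
    have : (∃ h : G, h • a = a ∧ h • b = y) ↔ y ∈ orbit (stabilizer G a) b := by
      constructor
      · rintro ⟨h, h1, h2⟩
        exact ⟨⟨h, h1⟩, h2⟩
      · rintro ⟨⟨h, h1⟩, h2⟩
        exact ⟨h, h1, h2⟩
    simp only [this]
    split_ifs <;> simp
  simp_rw [h3]
  rw [Finset.sum_ite, Finset.sum_const_zero, add_zero, Finset.sum_const, nsmul_eq_mul, mul_one,
    Nat.card_eq_fintype_card, Fintype.card_subtype]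

theorem sum_orbFun [IsPretransitive G Ω] (a b : Ω) :
    ∑ g : G, orbFun G a b g =
      (Fintype.card G : ℂ) * (Nat.card (orbit (stabilizer G a) b) : ℂ) := by
  classical
  unfold orbFun
  rw [Finset.sum_comm]
  have h1 : ∀ x ∈ (Finset.univ : Finset Ω), ∑ g : G, (orbMat G a b x (g • x) : ℂ) =
      (Nat.card (stabilizer G a) : ℂ) * (Nat.card (orbit (stabilizer G a) b) : ℂ) := by
    intro x _
    obtain ⟨h₀, hh₀⟩ := MulAction.exists_smul_eq G a x
    rw [← sum_orbMat_base G a b, ← Equiv.sum_comp (MulAut.conj h₀).toEquiv]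
    apply Finset.sum_congr rfl
    intro g _
    have := orbMat_smul G a b h₀ a (g • a)
    rw [← this, hh₀]
    congr 2
    simp only [MulEquiv.toEquiv_eq_coe, MulEquiv.coe_toEquiv, MulAut.conj_apply]
    rw [mul_smul, mul_smul, ← hh₀, inv_smul_smul]
  rw [Finset.sum_congr rfl h1, Finset.sum_const, Finset.card_univ, nsmul_eq_mul, ← mul_assoc]
  congr 1
  have h2 := MulAction.card_orbit_mul_card_stabilizer_eq_card_group G a
  have h3 : Fintype.card (orbit G a) = Fintype.card Ω := by
    apply Fintype.card_congr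
    rw [MulAction.orbit_eq_univ G a]
    exact Equiv.Set.univ Ω
  rw [h3] at h2
  rw [Nat.card_eq_fintype_card]
  exact_mod_cast h2

/-- fixed-point count as a sum -/
theorem permChar_eq_sum (g : G) :
    (Nat.card (fixedBy Ω g) : ℂ) = ∑ x : Ω, if x = g • x then (1 : ℂ) else 0 := by
  classical
  rw [Finset.sum_ite, Finset.sum_const_zero, add_zero, Finset.sum_const, nsmul_eq_mul, mul_one,
    Nat.card_eq_fintype_card, Fintype.card_subtype]
  congr 2
  ext x
  simp only [mem_fixedBy, Finset.mem_filter, Finset.mem_univ, true_and]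
  exact eq_comm

theorem classInner_orbFun_eq (a b : Ω) {χ : G → ℂ} (hχ : Cfsg.IsCharacter G χ) :
    Cfsg.classInner (orbFun G a b) χ =
      (Fintype.card G : ℂ)⁻¹ * ∑ g : G, (∑ x : Ω, (orbMat G a b x (g • x) : ℂ)) * χ g⁻¹ := by
  unfold Cfsg.classInner
  rw [Nat.card_eq_fintype_card]
  congr 1
  apply Finset.sum_congr rfl
  intro g _
  rw [IsCharacter.inv_eq_conj hχ]
  rfl

/-- integrality of the coefficients of the orbital class function -/
theorem classInner_orbFun_isIntegral (a b : Ω) {χ : G → ℂ} (hχ : Cfsg.IsCharacter G χ) :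
    IsIntegral ℤ (Cfsg.classInner (orbFun G a b) χ) := by
  rw [classInner_orbFun_eq G a b hχ]
  obtain ⟨n, ρ, rfl⟩ := hχ
  exact isIntegral_inner (orbMat G a b) ρ (orbMat_smul G a b)

theorem classInner_orbFun_eq_zero (a b : Ω) {χ : G → ℂ} (hχ : Cfsg.IsCharacter G χ)
    (h0 : Cfsg.classInner (fun g : G => (Nat.card (fixedBy Ω g) : ℂ)) χ = 0) :
    Cfsg.classInner (orbFun G a b) χ = 0 := by
  rw [classInner_orbFun_eq G a b hχ]
  have hG0 : (Nat.card G : ℂ) ≠ 0 := by
    have : 0 < Nat.card G := Nat.card_pos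
    exact_mod_cast this.ne'
  have h1 : ∑ g : G, (∑ x : Ω, if x = g • x then (1 : ℂ) else 0) * χ g⁻¹ = 0 := by
    unfold Cfsg.classInner at h0
    rcases mul_eq_zero.1 h0 with h | h
    · exact absurd (inv_eq_zero.1 h) hG0
    · refine Eq.trans ?_ h
      apply Finset.sum_congr rfl
      intro g _
      show _ = (Nat.card (fixedBy Ω g) : ℂ) * conj (χ g)
      rw [IsCharacter.inv_eq_conj hχ, permChar_eq_sum]
  obtain ⟨n, ρ, rfl⟩ := hχ
  exact inner_eq_zero (orbMat G a b) ρ h1

end Cfsg.Agent.Helper2.CentAlg
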