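import Mathlib
import Cfsg.Prelude.Def_Characters
import Cfsg.Agent.Helper2.CentAlgC
import Cfsg.Agent.Helper6.Expansion
import Cfsg.Agent.Helper6.IrrBasis
import Cfsg.Agent.Helper6.OddReal
import Cfsg.Agent.Helper6.DegreeDvd

/-!
# Frame-type divisibility of subdegrees
-/

set_option autoImplicit false

namespace Cfsg.Agent.Helper2.CentAlg

open Matrix MulAction Cfsg.Agent.Helper6
open scoped ComplexConjugate

variable {G : Type*} [Group G] [Fintype G] {Ω : Type*} [Fintype Ω] [MulAction G Ω]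

theorem classInner_orbFun_one [DecidableEq Ω] [IsPretransitive G Ω] (a b : Ω) :
    Cfsg.classInner (orbFun G a b) (fun _ => (1 : ℂ)) =
      (Nat.card (orbit (stabilizer G a) b) : ℂ) := by
  have hG0 : (Fintype.card G : ℂ) ≠ 0 := by
    exact_mod_cast Fintype.card_ne_zero
  unfold Cfsg.classInner
  simp only [map_one, mul_one]
  rw [sum_orbFun, Nat.card_eq_fintype_card, ← mul_assoc, inv_mul_cancel₀ hG0, one_mul]

/-- If `f` divides the degree of every non-principal irreducible constituent of the permutation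
character of a transitive group, then `f` divides every non-trivial subdegree. -/
theorem dvd_subdegree [IsPretransitive G Ω] (f : ℕ)
    (hf : ∀ χ : G → ℂ, Cfsg.IsIrrCharacter G χ → χ ≠ (fun _ => 1) →
      Cfsg.classInner (fun g : G => (Nat.card (fixedBy Ω g) : ℂ)) χ ≠ 0 →
      ∃ m : ℕ, χ 1 = (f : ℂ) * m) (a b : Ω) (hab : b ≠ a) :
    f ∣ Nat.card (orbit (stabilizer G a) b) := by
  classical
  haveI : Finite (Cfsg.IrrCharacter G) := irr_finite
  haveI : Fintype (Cfsg.IrrCharacter G) := Fintype.ofFinite _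
  have hexp := classFunction_expansion (orbFun G a b) (orbFun_isClassFunction G a b)
  have h1 : orbFun G a b 1 = ∑ χ : Cfsg.IrrCharacter G,
      Cfsg.classInner (orbFun G a b) (χ : G → ℂ) * (χ : G → ℂ) 1 := by
    conv_lhs => rw [hexp]
    rw [Finset.sum_apply]
    apply Finset.sum_congr rfl
    intro χ _
    rfl
  rw [orbFun_one G a b hab.symm] at h1
  have hterm : ∀ χ : Cfsg.IrrCharacter G, (χ : G → ℂ) ≠ (fun _ => 1) →
      ∃ β : ℂ, IsIntegral ℤ β ∧
        Cfsg.classInner (orbFun G a b) (χ : G → ℂ) * (χ : G → ℂ) 1 = (f : ℂ) * β := by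
    intro χ hne
    by_cases h0 : Cfsg.classInner (fun g : G => (Nat.card (fixedBy Ω g) : ℂ)) (χ : G → ℂ) = 0
    · refine ⟨0, isIntegral_zero, ?_⟩
      rw [classInner_orbFun_eq_zero G a b (IsIrrCharacter.isCharacter χ.2) h0, zero_mul, mul_zero]
    · obtain ⟨m, hm⟩ := hf χ χ.2 hne h0
      refine ⟨Cfsg.classInner (orbFun G a b) (χ : G → ℂ) * (m : ℂ), ?_, ?_⟩
      · apply IsIntegral.mul (classInner_orbFun_isIntegral G a b (IsIrrCharacter.isCharacter χ.2))
        have : IsIntegral ℤ (algebraMap ℤ ℂ (m : ℤ)) := isIntegral_algebraMap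
        simpa using this
      · rw [hm]; ring
  choose! β hβ using hterm
  let χ₀ : Cfsg.IrrCharacter G := ⟨fun _ => 1, isIrrCharacter_one⟩
  rw [← Finset.add_sum_erase _ _ (Finset.mem_univ χ₀)] at h1
  have h2 : ∑ χ ∈ (Finset.univ : Finset (Cfsg.IrrCharacter G)).erase χ₀,
      Cfsg.classInner (orbFun G a b) (χ : G → ℂ) * (χ : G → ℂ) 1 =
      (f : ℂ) * ∑ χ ∈ (Finset.univ : Finset (Cfsg.IrrCharacter G)).erase χ₀, β χ := by
    rw [Finset.mul_sum]
    apply Finset.sum_congr rfl
    intro χ hχ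
    have hne : (χ : G → ℂ) ≠ (fun _ => 1) := by
      intro h
      exact (Finset.ne_of_mem_erase hχ) (Subtype.ext h)
    exact (hβ χ hne).2
  rw [h2] at h1
  have h3 : Cfsg.classInner (orbFun G a b) ((χ₀ : Cfsg.IrrCharacter G) : G → ℂ) * (χ₀ : G → ℂ) 1 =
      (Nat.card (orbit (stabilizer G a) b) : ℂ) := by
    show Cfsg.classInner (orbFun G a b) (fun _ => (1 : ℂ)) * 1 = _
    rw [mul_one, classInner_orbFun_one]
  rw [h3] at h1
  have h4 : (Nat.card (orbit (stabilizer G a) b) : ℂ) =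
      (f : ℂ) * (-∑ χ ∈ (Finset.univ : Finset (Cfsg.IrrCharacter G)).erase χ₀, β χ) := by
    rw [mul_neg, ← sub_eq_zero, sub_neg_eq_add]
    exact h1.symm
  by_cases hf0 : f = 0
  · rw [hf0, Nat.cast_zero, zero_mul] at h4
    have : Nat.card (orbit (stabilizer G a) b) = 0 := by exact_mod_cast h4
    rw [this, hf0]
  · apply nat_dvd_of_isIntegral _ f hf0 _ _ h4
    apply IsIntegral.neg
    apply IsIntegral.sum
    intro χ hχ
    have hne : (χ : G → ℂ) ≠ (fun _ => 1) := by
      intro h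
      exact (Finset.ne_of_mem_erase hχ) (Subtype.ext h)
    exact (hβ χ hne).1

end Cfsg.Agent.Helper2.CentAlg
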