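import Mathlib
import Cfsg.Prelude.Def_Characters
import Cfsg.Agent.Helper2.CentAlgD
import Cfsg.Agent.Helper4.PermCharOrbits
import Cfsg.Agent.Helper4.RankFormula
import Cfsg.Agent.Helper6.Regular
import Cfsg.Agent.Helper6.Induced
import Cfsg.Agent.Helper6.IrrCrit
import Cfsg.Agent.S0669

/-!
# Counting with the permutation character: rank, degree, suborbits
-/

set_option autoImplicit false

namespace Cfsg.Agent.Helper2.CentAlg

open MulAction Cfsg.Agent.Helper6
open scoped ComplexConjugate

/-- The sum over all points of the reciprocal orbit lengths is the number of orbits. -/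
theorem sum_inv_card_orbit {H X : Type*} [Group H] [MulAction H X] [Fintype X] :
    ∑ x : X, (1 / (Nat.card (orbit H x) : ℚ)) = (Nat.card (orbitRel.Quotient H X) : ℚ) := by
  classical
  haveI : Fintype (orbitRel.Quotient H X) := Fintype.ofFinite _
  rw [← Finset.sum_fiberwise (Finset.univ)
    (fun x : X => (Quotient.mk'' x : orbitRel.Quotient H X))]
  have hω : ∀ ω : orbitRel.Quotient H X,
      ∑ x ∈ Finset.univ.filter (fun x : X => (Quotient.mk'' x : orbitRel.Quotient H X) = ω),
        (1 / (Nat.card (orbit H x) : ℚ)) = 1 := by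
    intro ω
    induction ω using Quotient.inductionOn' with
    | _ y =>
      have h1 : ∀ x ∈ Finset.univ.filter
          (fun x : X => (Quotient.mk'' x : orbitRel.Quotient H X) = Quotient.mk'' y),
          (1 / (Nat.card (orbit H x) : ℚ)) = 1 / (Nat.card (orbit H y) : ℚ) := by
        intro x hx
        rw [Finset.mem_filter] at hx
        have h2 := hx.2
        rw [Quotient.eq''] at h2
        have h3 : x ∈ orbit H y := h2
        rw [MulAction.orbit_eq_iff.2 h3]
      rw [Finset.sum_congr rfl h1, Finset.sum_const, nsmul_eq_mul]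
      have h2 : (Finset.univ.filter
          (fun x : X => (Quotient.mk'' x : orbitRel.Quotient H X) = Quotient.mk'' y)).card =
          Nat.card (orbit H y) := by
        rw [Nat.card_eq_fintype_card, ← Set.toFinset_card]
        congr 1
        ext x
        simp only [Finset.mem_filter, Finset.mem_univ, true_and, Set.mem_toFinset]
        rw [Quotient.eq'']
        rfl
      rw [h2]
      have h3 : (Nat.card (orbit H y) : ℚ) ≠ 0 := by
        have : 0 < Nat.card (orbit H y) := by
          rw [Nat.card_pos_iff]
          exact ⟨⟨⟨y, mem_orbit_self y⟩⟩, inferInstance⟩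
        exact_mod_cast this.ne'
      field_simp
  rw [Finset.sum_congr rfl (fun ω _ => hω ω), Finset.sum_const, Finset.card_univ, nsmul_eq_mul,
    mul_one, Nat.card_eq_fintype_card]

variable {G : Type*} [Group G] [Fintype G] {Ω : Type*} [Fintype Ω] [MulAction G Ω]

theorem permChar_isCharacter :
    Cfsg.IsCharacter G (fun g : G => (Nat.card (fixedBy Ω g) : ℂ)) := by
  classical
  have h := isCharacter_of_rep (Representation.ofMulAction ℂ G Ω)
  convert h using 1
  ext g
  rw [ofMulAction_character, Nat.card_eq_fintype_card]
  rfl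

theorem classInner_permChar_one [IsPretransitive G Ω] [Nonempty Ω] :
    Cfsg.classInner (fun g : G => (Nat.card (fixedBy Ω g) : ℂ)) (fun _ => (1 : ℂ)) = 1 := by
  rw [classInner_conj_symm, Cfsg.Agent.Helper4.classInner_one_permChar]
  have : Nat.card (orbitRel.Quotient G Ω) = 1 := by
    rw [Nat.card_eq_one_iff_unique]
    refine ⟨?_, ⟨Quotient.mk'' (Classical.arbitrary Ω)⟩⟩
    constructor
    intro x y
    induction x using Quotient.inductionOn' with
    | _ x =>
      induction y using Quotient.inductionOn' with
      | _ y =>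
        rw [Quotient.eq'']
        exact MulAction.exists_smul_eq G y x
  rw [this]
  simp

theorem classInner_permChar_self [IsPretransitive G Ω] (a : Ω) :
    Cfsg.classInner (fun g : G => (Nat.card (fixedBy Ω g) : ℂ))
      (fun g : G => (Nat.card (fixedBy Ω g) : ℂ)) =
      (Nat.card (orbitRel.Quotient (stabilizer G a) Ω) : ℂ) := by
  rw [← Cfsg.Agent.S0669.result a, ← Cfsg.Agent.Helper4.classInner_one_permChar (K := G) (Ω × Ω)]
  unfold Cfsg.classInner
  congr 1
  apply Finset.sum_congr rfl
  intro g _
  show (Nat.card (fixedBy Ω g) : ℂ) * conj ((Nat.card (fixedBy Ω g) : ℂ)) =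
    1 * conj ((Nat.card (fixedBy (Ω × Ω) g) : ℂ))
  rw [Cfsg.Agent.Helper4.card_fixedBy_prod, Complex.conj_natCast, Complex.conj_natCast, one_mul]
  push_cast
  ring

end Cfsg.Agent.Helper2.CentAlg
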