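import Mathlib
import Cfsg.Agent.Helper2.CentAlgE

/-!
# Equal degrees of the non-principal constituents: multiplicity-freeness and equal subdegrees
-/

set_option autoImplicit false

namespace Cfsg.Agent.Helper2.CentAlg

open MulAction Cfsg.Agent.Helper6
open scoped ComplexConjugate

/-- the purely combinatorial part of the argument -/
theorem comb_lemma {I X : Type*} [Fintype I] [DecidableEq I] [Fintype X] [DecidableEq X]
    (m : I → ℕ) (i₀ : I) (hm0 : m i₀ = 1) (a : X) (k : X → ℕ) (hka : k a = 1)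
    (hk : ∀ b, 1 ≤ k b) (f r : ℕ)
    (h1 : 1 + f * ∑ i ∈ Finset.univ.erase i₀, m i = Fintype.card X)
    (h2 : ∑ i, (m i) ^ 2 = r) (h2' : ∑ b : X, (1 / (k b : ℚ)) = r)
    (h3 : ∀ b, b ≠ a → f ∣ k b) : (∀ i, m i ≤ 1) ∧ ∀ b, b ≠ a → k b = f := by
  have hr : r = 1 + ∑ i ∈ Finset.univ.erase i₀, (m i) ^ 2 := by
    rw [← h2, ← Finset.add_sum_erase _ _ (Finset.mem_univ i₀), hm0, one_pow]
  have hsumk : ∑ b ∈ Finset.univ.erase a, (1 / (k b : ℚ)) =
      ((∑ i ∈ Finset.univ.erase i₀, (m i) ^ 2 : ℕ) : ℚ) := by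
    have := h2'
    rw [← Finset.add_sum_erase _ _ (Finset.mem_univ a), hka, hr] at this
    push_cast at this ⊢
    linarith
  have hcard : (Finset.univ.erase a).card = f * ∑ i ∈ Finset.univ.erase i₀, m i := by
    rw [Finset.card_erase_of_mem (Finset.mem_univ a), Finset.card_univ]
    omega
  have hM12 : ∑ i ∈ Finset.univ.erase i₀, m i ≤ ∑ i ∈ Finset.univ.erase i₀, (m i) ^ 2 := by
    apply Finset.sum_le_sum
    intro i _
    nlinarith [Nat.zero_le (m i)]
  rcases Finset.eq_empty_or_nonempty (Finset.univ.erase a) with hemp | hne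
  · -- only one point
    rw [hemp, Finset.sum_empty] at hsumk
    have h0 : ∑ i ∈ Finset.univ.erase i₀, (m i) ^ 2 = 0 := by exact_mod_cast hsumk.symm
    refine ⟨?_, ?_⟩
    · intro i
      by_cases hi : i = i₀
      · rw [hi, hm0]
      · have := (Finset.sum_eq_zero_iff.1 h0) i (Finset.mem_erase.2 ⟨hi, Finset.mem_univ i⟩)
        have : m i = 0 := by
          rcases Nat.eq_zero_or_pos (m i) with h | h
          · exact h
          · exfalso; nlinarith
        omega
    · intro b hb
      exfalso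
      have : b ∈ Finset.univ.erase a := Finset.mem_erase.2 ⟨hb, Finset.mem_univ b⟩
      rw [hemp] at this
      exact absurd this (Finset.notMem_empty b)
  · have hcpos : 0 < (Finset.univ.erase a).card := Finset.card_pos.2 hne
    have hfpos : 0 < f := by
      rcases Nat.eq_zero_or_pos f with h | h
      · rw [h, zero_mul] at hcard; omega
      · exact h
    have hfq : (0 : ℚ) < f := by exact_mod_cast hfpos
    have hterm : ∀ b ∈ Finset.univ.erase a, (1 / (k b : ℚ)) ≤ 1 / (f : ℚ) := by
      intro b hb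
      have hba : b ≠ a := (Finset.mem_erase.1 hb).1
      have hle : f ≤ k b := Nat.le_of_dvd (hk b) (h3 b hba)
      have : (f : ℚ) ≤ k b := by exact_mod_cast hle
      exact one_div_le_one_div_of_le hfq this
    have hsumf : ∑ _b ∈ Finset.univ.erase a, (1 / (f : ℚ)) =
        ((∑ i ∈ Finset.univ.erase i₀, m i : ℕ) : ℚ) := by
      rw [Finset.sum_const, hcard, nsmul_eq_mul]
      push_cast
      field_simp
    have hle := Finset.sum_le_sum hterm
    rw [hsumk, hsumf] at hle
    have hle' : ∑ i ∈ Finset.univ.erase i₀, (m i) ^ 2 ≤ ∑ i ∈ Finset.univ.erase i₀, m i := by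
      exact_mod_cast hle
    have heq : ∑ i ∈ Finset.univ.erase i₀, m i = ∑ i ∈ Finset.univ.erase i₀, (m i) ^ 2 :=
      le_antisymm hM12 hle'
    refine ⟨?_, ?_⟩
    · intro i
      by_cases hi : i = i₀
      · rw [hi, hm0]
      · have hterm2 : ∀ j ∈ Finset.univ.erase i₀, m j ≤ (m j) ^ 2 := by
          intro j _
          nlinarith [Nat.zero_le (m j)]
        have := (Finset.sum_eq_sum_iff_of_le hterm2).1 heq i
          (Finset.mem_erase.2 ⟨hi, Finset.mem_univ i⟩)
        by_contra hgt
        push_neg at hgt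
        nlinarith
    · intro b hb
      have hbm : b ∈ Finset.univ.erase a := Finset.mem_erase.2 ⟨hb, Finset.mem_univ b⟩
      have heq2 : ∑ b ∈ Finset.univ.erase a, (1 / (k b : ℚ)) =
          ∑ _b ∈ Finset.univ.erase a, (1 / (f : ℚ)) := by
        rw [hsumk, hsumf, heq]
      have := (Finset.sum_eq_sum_iff_of_le hterm).1 heq2 b hbm
      have hkq : (0 : ℚ) < k b := by
        have := hk b
        exact_mod_cast this
      have h5 : (k b : ℚ) = f := by
        field_simp at this
        linarith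
      exact_mod_cast h5

variable {G : Type*} [Group G] [Fintype G] {Ω : Type*} [Fintype Ω] [MulAction G Ω]

/-- multiplicities of the permutation character, with the degree and rank formulas -/
theorem exists_mult_data [IsPretransitive G Ω] [Fintype (Cfsg.IrrCharacter G)] (a : Ω) :
    ∃ m : Cfsg.IrrCharacter G → ℕ,
      (∀ χ : Cfsg.IrrCharacter G,
        Cfsg.classInner (fun g : G => (Nat.card (fixedBy Ω g) : ℂ)) (χ : G → ℂ) = m χ) ∧
      (∑ χ : Cfsg.IrrCharacter G, (m χ : ℂ) * (χ : G → ℂ) 1 = (Fintype.card Ω : ℂ)) ∧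
      (∑ χ : Cfsg.IrrCharacter G, (m χ) ^ 2 =
        Nat.card (orbitRel.Quotient (stabilizer G a) Ω)) := by
  classical
  have hπ : Cfsg.IsCharacter G (fun g : G => (Nat.card (fixedBy Ω g) : ℂ)) := permChar_isCharacter
  have hn : ∀ χ : Cfsg.IrrCharacter G, ∃ n : ℕ,
      Cfsg.classInner (fun g : G => (Nat.card (fixedBy Ω g) : ℂ)) (χ : G → ℂ) = n := fun χ =>
    classInner_char_char_nat hπ (IsIrrCharacter.isCharacter χ.2)
  choose m hm using hn
  refine ⟨m, hm, ?_, ?_⟩
  · have hexp := classFunction_expansion _ (IsCharacter.isClassFunction hπ)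
    have h1 := congrFun hexp 1
    rw [Finset.sum_apply] at h1
    have h2 : (Nat.card (fixedBy Ω (1 : G)) : ℂ) = (Fintype.card Ω : ℂ) := by
      rw [← Nat.card_eq_fintype_card]
      congr 1
      apply Nat.card_congr
      refine ⟨fun x => x.1, fun x => ⟨x, by rw [mem_fixedBy, one_smul]⟩, fun x => rfl, fun x => rfl⟩
    rw [← h2]
    refine Eq.trans ?_ h1.symm
    apply Finset.sum_congr rfl
    intro χ _
    rw [hm]
    rfl
  · have h1 := classInner_self_expansion _ (IsCharacter.isClassFunction hπ)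
      (fun g : G => (Nat.card (fixedBy Ω g) : ℂ))
    rw [classInner_permChar_self a] at h1
    have h2 : ∀ χ : Cfsg.IrrCharacter G,
        Cfsg.classInner (fun g : G => (Nat.card (fixedBy Ω g) : ℂ)) (χ : G → ℂ) *
          Cfsg.classInner (χ : G → ℂ) (fun g : G => (Nat.card (fixedBy Ω g) : ℂ)) =
          ((m χ ^ 2 : ℕ) : ℂ) := by
      intro χ
      rw [classInner_conj_symm (fun g : G => (Nat.card (fixedBy Ω g) : ℂ)) (χ : G → ℂ), hm,
        Complex.conj_natCast]
      push_cast
      ring
    rw [Finset.sum_congr rfl (fun χ _ => h2 χ), ← Nat.cast_sum] at h1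
    exact_mod_cast h1.symm

end Cfsg.Agent.Helper2.CentAlg
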