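import Mathlib
import Cfsg.Agent.Helper2.CentAlgF

/-!
# S0716: equal degrees, and rank at most five
-/

set_option autoImplicit false

namespace Cfsg.Agent.Helper2.CentAlg

open MulAction Cfsg.Agent.Helper6
open scoped ComplexConjugate

variable {G : Type*} [Group G] [Fintype G] {Ω : Type*} [Fintype Ω] [MulAction G Ω]

theorem card_orbit_stabilizer_self (a : Ω) : Nat.card (orbit (stabilizer G a) a) = 1 := by
  rw [Nat.card_eq_one_iff_unique]
  refine ⟨⟨?_⟩, ⟨⟨a, mem_orbit_self a⟩⟩⟩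
  rintro ⟨x, ⟨h, rfl⟩⟩ ⟨y, ⟨h', rfl⟩⟩
  apply Subtype.ext
  show (h : G) • a = (h' : G) • a
  rw [mem_stabilizer_iff.1 h.2, mem_stabilizer_iff.1 h'.2]

theorem card_orbit_pos {H X : Type*} [Group H] [MulAction H X] [Finite X] (x : X) :
    1 ≤ Nat.card (orbit H x) := by
  have : 0 < Nat.card (orbit H x) := by
    rw [Nat.card_pos_iff]
    exact ⟨⟨⟨x, mem_orbit_self x⟩⟩, inferInstance⟩
  exact this

/-- If all non-principal constituents have the same degree `f`, the permutation character is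
multiplicity-free and all non-trivial subdegrees equal `f`. -/
theorem mult_free_of_degree_eq [IsPretransitive G Ω] (a : Ω) (f : ℕ)
    (hf : ∀ χ : G → ℂ, Cfsg.IsIrrCharacter G χ → χ ≠ (fun _ => 1) →
      Cfsg.classInner (fun g : G => (Nat.card (fixedBy Ω g) : ℂ)) χ ≠ 0 → χ 1 = f) :
    (∀ χ : G → ℂ, Cfsg.IsIrrCharacter G χ →
      Cfsg.classInner (fun g : G => (Nat.card (fixedBy Ω g) : ℂ)) χ = 0 ∨
      Cfsg.classInner (fun g : G => (Nat.card (fixedBy Ω g) : ℂ)) χ = 1) ∧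
    ∀ b : Ω, b ≠ a → Nat.card (orbit (stabilizer G a) b) = f := by
  classical
  haveI : Finite (Cfsg.IrrCharacter G) := irr_finite
  haveI : Fintype (Cfsg.IrrCharacter G) := Fintype.ofFinite _
  haveI : Nonempty Ω := ⟨a⟩
  obtain ⟨m, hm, hdeg, hrank⟩ := exists_mult_data (G := G) a
  let χ₀ : Cfsg.IrrCharacter G := ⟨fun _ => 1, isIrrCharacter_one⟩
  have hm0 : m χ₀ = 1 := by
    have h1 := hm χ₀
    have h2 : Cfsg.classInner (fun g : G => (Nat.card (fixedBy Ω g) : ℂ))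
        ((χ₀ : Cfsg.IrrCharacter G) : G → ℂ) = 1 := classInner_permChar_one
    rw [h2] at h1
    exact_mod_cast h1.symm
  have hterm : ∀ χ ∈ (Finset.univ : Finset (Cfsg.IrrCharacter G)).erase χ₀,
      (m χ : ℂ) * (χ : G → ℂ) 1 = ((f * m χ : ℕ) : ℂ) := by
    intro χ hχ
    have hne : (χ : G → ℂ) ≠ (fun _ => 1) := by
      intro h
      exact (Finset.ne_of_mem_erase hχ) (Subtype.ext h)
    by_cases h0 : m χ = 0
    · rw [h0]; simp
    · have h1 : Cfsg.classInner (fun g : G => (Nat.card (fixedBy Ω g) : ℂ)) (χ : G → ℂ) ≠ 0 := by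
        rw [hm]
        exact_mod_cast h0
      rw [hf χ χ.2 hne h1]
      push_cast
      ring
  have h1 : 1 + f * ∑ χ ∈ (Finset.univ : Finset (Cfsg.IrrCharacter G)).erase χ₀, m χ =
      Fintype.card Ω := by
    rw [← Finset.add_sum_erase _ _ (Finset.mem_univ χ₀), Finset.sum_congr rfl hterm, hm0] at hdeg
    have h2 : ((χ₀ : Cfsg.IrrCharacter G) : G → ℂ) 1 = 1 := rfl
    rw [h2, ← Nat.cast_sum, ← Finset.mul_sum] at hdeg
    exact_mod_cast hdeg
  have h3 : ∀ b : Ω, b ≠ a → f ∣ Nat.card (orbit (stabilizer G a) b) := by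
    intro b hb
    apply dvd_subdegree f _ a b hb
    intro χ hχ hne h0
    exact ⟨1, by rw [hf χ hχ hne h0]; simp⟩
  have hcomb := comb_lemma m χ₀ hm0 a (fun b => Nat.card (orbit (stabilizer G a) b))
    (card_orbit_stabilizer_self a) (fun b => card_orbit_pos b) f
    (Nat.card (orbitRel.Quotient (stabilizer G a) Ω)) h1 hrank
    (sum_inv_card_orbit (H := stabilizer G a) (X := Ω)) h3
  refine ⟨?_, hcomb.2⟩
  intro χ hχ
  have h4 := hm ⟨χ, hχ⟩
  have h5 := hcomb.1 ⟨χ, hχ⟩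
  have h6 : m ⟨χ, hχ⟩ = 0 ∨ m ⟨χ, hχ⟩ = 1 := by omega
  rcases h6 with h | h
  · left
    show Cfsg.classInner _ ((⟨χ, hχ⟩ : Cfsg.IrrCharacter G) : G → ℂ) = 0
    rw [h4, h, Nat.cast_zero]
  · right
    show Cfsg.classInner _ ((⟨χ, hχ⟩ : Cfsg.IrrCharacter G) : G → ℂ) = 1
    rw [h4, h, Nat.cast_one]

/-- A transitive group of rank at most five has multiplicity-free permutation character. -/
theorem mult_free_of_rank_le_five [IsPretransitive G Ω] (a : Ω)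
    (hr : Nat.card (orbitRel.Quotient (stabilizer G a) Ω) ≤ 5) :
    ∀ χ : G → ℂ, Cfsg.IsIrrCharacter G χ →
      Cfsg.classInner (fun g : G => (Nat.card (fixedBy Ω g) : ℂ)) χ = 0 ∨
      Cfsg.classInner (fun g : G => (Nat.card (fixedBy Ω g) : ℂ)) χ = 1 := by
  classical
  haveI : Finite (Cfsg.IrrCharacter G) := irr_finite
  haveI : Fintype (Cfsg.IrrCharacter G) := Fintype.ofFinite _
  haveI : Nonempty Ω := ⟨a⟩
  obtain ⟨m, hm, hdeg, hrank⟩ := exists_mult_data (G := G) a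
  let χ₀ : Cfsg.IrrCharacter G := ⟨fun _ => 1, isIrrCharacter_one⟩
  have hm0 : m χ₀ = 1 := by
    have h1 := hm χ₀
    have h2 : Cfsg.classInner (fun g : G => (Nat.card (fixedBy Ω g) : ℂ))
        ((χ₀ : Cfsg.IrrCharacter G) : G → ℂ) = 1 := classInner_permChar_one
    rw [h2] at h1
    exact_mod_cast h1.symm
  by_contra hcon
  push_neg at hcon
  obtain ⟨χ₁f, hχ₁, hne0, hne1⟩ := hcon
  obtain ⟨χ₁, rfl⟩ : ∃ χ₁ : Cfsg.IrrCharacter G, (χ₁ : G → ℂ) = χ₁f := ⟨⟨χ₁f, hχ₁⟩, rfl⟩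
  have hm1 : 2 ≤ m χ₁ := by
    rw [hm] at hne0 hne1
    have h0 : m χ₁ ≠ 0 := by exact_mod_cast hne0
    have h1 : m χ₁ ≠ 1 := by exact_mod_cast hne1
    omega
  have hχ01 : χ₁ ≠ χ₀ := by
    intro h
    rw [h, hm0] at hm1
    omega
  have hsplit : (m χ₀) ^ 2 + ((m χ₁) ^ 2 +
      ∑ χ ∈ ((Finset.univ : Finset (Cfsg.IrrCharacter G)).erase χ₀).erase χ₁, (m χ) ^ 2) =
      Nat.card (orbitRel.Quotient (stabilizer G a) Ω) := by
    rw [← hrank, ← Finset.add_sum_erase _ _ (Finset.mem_univ χ₀),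
      ← Finset.add_sum_erase _ _ (Finset.mem_erase.2 ⟨hχ01, Finset.mem_univ χ₁⟩)]
  have hsq : 4 ≤ (m χ₁) ^ 2 := by nlinarith
  have hrest : ∑ χ ∈ ((Finset.univ : Finset (Cfsg.IrrCharacter G)).erase χ₀).erase χ₁,
      (m χ) ^ 2 = 0 := by
    rw [hm0] at hsplit
    omega
  have hzero : ∀ χ : Cfsg.IrrCharacter G, χ ≠ χ₀ → χ ≠ χ₁ → m χ = 0 := by
    intro χ h0 h1
    have := (Finset.sum_eq_zero_iff.1 hrest) χ
      (Finset.mem_erase.2 ⟨h1, Finset.mem_erase.2 ⟨h0, Finset.mem_univ χ⟩⟩)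
    exact pow_eq_zero_iff (two_ne_zero) |>.1 this
  obtain ⟨d, hd⟩ := IsCharacter.apply_one (IsIrrCharacter.isCharacter χ₁.2)
  have hA := mult_free_of_degree_eq (G := G) a d (by
    intro χ hχ hne h0
    by_cases h1 : (⟨χ, hχ⟩ : Cfsg.IrrCharacter G) = χ₁
    · rw [← hd, ← h1]
    · exfalso
      apply h0
      have h2 : (⟨χ, hχ⟩ : Cfsg.IrrCharacter G) ≠ χ₀ := by
        intro h
        exact hne (congrArg Subtype.val h)
      have := hm ⟨χ, hχ⟩
      rw [hzero _ h2 h1, Nat.cast_zero] at this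
      exact this)
  rcases hA.1 χ₁ χ₁.2 with h | h
  · exact hne0 h
  · exact hne1 h

end Cfsg.Agent.Helper2.CentAlg
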