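import Mathlib
import Cfsg.Prelude.Def_Characters
import Cfsg.Agent.Helper2.CentAlgE
import Cfsg.Agent.Helper4.RankFormula
import Cfsg.Agent.Helper4.Burnside

/-!
# Counting self-paired orbitals
-/

set_option autoImplicit false
set_option linter.style.haveILetI false

namespace Cfsg.Agent.Helper2.GenTrans

open MulAction

variable {G : Type*} [Group G] [Fintype G]

open Classical in
/-- Number of group elements carrying `p` to `q`. -/
theorem card_transporter {X : Type*} [MulAction G X] (p q : X) :
    ((Finset.univ.filter (fun s : G => s • p = q)).card : ℚ) =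
      if ∃ s : G, s • p = q then (Nat.card G : ℚ) / (Nat.card (orbit G p) : ℚ) else 0 := by
  split_ifs with h
  · obtain ⟨s₀, hs₀⟩ := h
    have h1 : (Finset.univ.filter (fun s : G => s • p = q)).card = Nat.card (stabilizer G p) := by
      rw [Nat.card_eq_fintype_card, ← Fintype.card_subtype]
      apply Fintype.card_congr
      refine
        { toFun := fun y => ⟨s₀⁻¹ * y.1, ?_⟩
          invFun := fun s => ⟨s₀ * s.1, ?_⟩
          left_inv := ?_
          right_inv := ?_ }
      · rw [MulAction.mem_stabilizer_iff, mul_smul, y.2, ← hs₀, inv_smul_smul]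
      · rw [mul_smul, MulAction.mem_stabilizer_iff.mp s.2, hs₀]
      · intro y
        apply Subtype.ext
        simp
      · intro s
        apply Subtype.ext
        simp
    have h2 : Nat.card (stabilizer G p) * Nat.card (orbit G p) = Nat.card G := by
      rw [Nat.card_coe_set_eq, ← MulAction.index_stabilizer, Subgroup.card_mul_index]
    have h3 : (Nat.card (orbit G p) : ℚ) ≠ 0 := by
      intro h0
      have h0' : Nat.card (orbit G p) = 0 := by exact_mod_cast h0
      rw [h0', mul_zero] at h2
      exact Nat.card_pos.ne' h2.symm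
    rw [h1, ← h2]
    push_cast
    field_simp
  · rw [Finset.card_eq_zero.mpr, Nat.cast_zero]
    rw [Finset.filter_eq_empty_iff]
    intro s _ hs
    exact h ⟨s, hs⟩

open Classical in
/-- Double counting of pairs `(s, p)` with `s • p = τ p`. -/
theorem sum_card_twisted_fixed {X : Type*} [Fintype X] [MulAction G X]
    (τ : X → X) :
    (∑ s : G, ((Finset.univ.filter (fun p : X => s • p = τ p)).card : ℚ)) =
      (Nat.card G : ℚ) *
        ∑ p : X, (if ∃ s : G, s • p = τ p then 1 / (Nat.card (orbit G p) : ℚ) else 0) := by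
  have h1 : ∀ s : G, ((Finset.univ.filter (fun p : X => s • p = τ p)).card : ℚ) =
      ∑ p : X, if s • p = τ p then (1 : ℚ) else 0 := by
    intro s
    rw [Finset.sum_boole]
  simp_rw [h1]
  rw [Finset.sum_comm, Finset.mul_sum]
  apply Finset.sum_congr rfl
  intro p _
  rw [Finset.sum_boole, card_transporter p (τ p)]
  split_ifs with h
  · rw [mul_one_div]
  · rw [mul_zero]

variable {Ω : Type*} [Fintype Ω] [MulAction G Ω]

open Classical in
/-- Pairs interchanged by `s` correspond to fixed points of `s * s`. -/
theorem card_swapped_eq (s : G) :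
    (Finset.univ.filter (fun p : Ω × Ω => s • p = p.swap)).card =
      Nat.card (fixedBy Ω (s * s)) := by
  rw [Nat.card_eq_fintype_card, ← Fintype.card_subtype]
  apply Fintype.card_congr
  refine
    { toFun := fun p => ⟨p.1.1, ?_⟩
      invFun := fun x => ⟨(x.1, s • x.1), ?_⟩
      left_inv := ?_
      right_inv := ?_ }
  · have hp := p.2
    rw [Prod.ext_iff] at hp
    have h1 : s • p.1.1 = p.1.2 := hp.1
    have h2 : s • p.1.2 = p.1.1 := hp.2
    rw [mem_fixedBy, mul_smul, h1, h2]
  · have hx : (s * s) • x.1 = x.1 := x.2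
    rw [mul_smul] at hx
    rw [Prod.ext_iff]
    exact ⟨rfl, hx⟩
  · intro p
    apply Subtype.ext
    have hp := p.2
    rw [Prod.ext_iff] at hp
    have h1 : s • p.1.1 = p.1.2 := hp.1
    apply Prod.ext
    · rfl
    · exact h1
  · intro x
    rfl

open Classical in
/-- The sum of the numbers of fixed points of squares counts self-paired orbitals. -/
theorem sum_fixed_sq :
    (∑ s : G, (Nat.card (fixedBy Ω (s * s)) : ℚ)) =
      (Nat.card G : ℚ) *
        ∑ p : Ω × Ω, (if ∃ s : G, s • p = p.swap then 1 / (Nat.card (orbit G p) : ℚ)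
          else 0) := by
  rw [show (∑ s : G, (Nat.card (fixedBy Ω (s * s)) : ℚ)) =
    ∑ s : G, ((Finset.univ.filter (fun p : Ω × Ω => s • p = p.swap)).card : ℚ) from
    Finset.sum_congr rfl (fun s _ => by rw [card_swapped_eq])]
  convert sum_card_twisted_fixed (G := G) (X := Ω × Ω) Prod.swap

/-- The sum of squares of the numbers of fixed points counts all orbitals. -/
theorem sum_fixed_mul_self :
    (∑ s : G, (Nat.card (fixedBy Ω s) : ℚ) * (Nat.card (fixedBy Ω s) : ℚ)) =
      (Nat.card G : ℚ) * ∑ p : Ω × Ω, 1 / (Nat.card (orbit G p) : ℚ) := by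
  rw [Cfsg.Agent.Helper2.CentAlg.sum_inv_card_orbit]
  have h := Cfsg.Agent.Helper4.burnside_natCard (G := G) (X := Ω × Ω)
  have h' : (∑ g : G, (Nat.card (fixedBy (Ω × Ω) g) : ℚ)) =
      (Nat.card (orbitRel.Quotient G (Ω × Ω)) : ℚ) * (Nat.card G : ℚ) := by
    exact_mod_cast h
  rw [mul_comm, ← h']
  apply Finset.sum_congr rfl
  intro s _
  rw [Cfsg.Agent.Helper4.card_fixedBy_prod]
  push_cast
  ring

end Cfsg.Agent.Helper2.GenTrans
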