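import Mathlib
import Cfsg.Prelude.Def_Characters
import Cfsg.Prelude.Def_Perm
import Cfsg.Agent.Helper6.EquivOfChar
import Cfsg.Agent.Helper6.RepInduction
import Cfsg.Agent.Helper6.CharBasic

/-!
# Multiplicity-freeness and commutativity of the algebra of intertwiners
-/

set_option autoImplicit false
set_option linter.style.haveILetI false

namespace Cfsg.Agent.Helper2.CommEnd

open Module Representation Cfsg.Agent.Helper6

universe u v w

variable {G : Type u} [Group G]

/-- The character of the permutation representation `Cfsg.permRep` counts fixed points. -/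
theorem permRep_character {Ω : Type w} [Fintype Ω] [MulAction G Ω] (g : G) :
    (Cfsg.permRep ℂ G Ω).character g = (Nat.card (MulAction.fixedBy Ω g) : ℂ) := by
  classical
  unfold Representation.character
  rw [LinearMap.trace_eq_matrix_trace ℂ (Pi.basisFun ℂ Ω)]
  unfold Matrix.trace
  simp only [Matrix.diag_apply, LinearMap.toMatrix_apply, Pi.basisFun_apply, Pi.basisFun_repr]
  have key : ∀ x : Ω, (Cfsg.permRep ℂ G Ω g (Pi.single x (1:ℂ))) x = if g • x = x then 1 else 0 := by
    intro x
    change (Pi.single x (1:ℂ) : Ω → ℂ) (g⁻¹ • x) = _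
    rw [Pi.single_apply]
    by_cases hx : g • x = x
    · rw [if_pos hx, if_pos]
      rw [inv_smul_eq_iff, hx]
    · rw [if_neg hx, if_neg]
      intro h
      apply hx
      rw [inv_smul_eq_iff] at h
      exact h.symm
  simp_rw [key]
  rw [Finset.sum_boole, Nat.card_eq_fintype_card]
  congr 1
  rw [← Fintype.card_subtype]
  apply Fintype.card_congr
  exact Equiv.subtypeEquivRight (fun x => Iff.rfl)

section multfree

variable [Fintype G] {V : Type v} [AddCommGroup V] [Module ℂ V] [FiniteDimensional ℂ V]
  (ρ : Representation ℂ G V)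

/-- On an irreducible subrepresentation occurring with multiplicity one, every intertwiner
acts as a scalar. -/
theorem atom_scalar
    (h : ∀ χ : G → ℂ, Cfsg.IsIrrCharacter G χ →
      Cfsg.classInner ρ.character χ = 0 ∨ Cfsg.classInner ρ.character χ = 1)
    (M : Subrepresentation ρ) (hM : IsAtom M) (X : IntertwiningMap ρ ρ) :
    ∃ c : ℂ, ∀ v ∈ M, X v = c • v := by
  have hirr := isIrreducible_of_isAtom M hM
  have hχ := isIrrCharacter_of_rep M.toRepresentation hirr
  have hfin := classInner_eq_finrank_intertwining M.toRepresentation ρ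
  let ι : IntertwiningMap M.toRepresentation ρ :=
    M.toSubmodule.subtype.intertwiningMap_of_isIntertwiningMap M.toRepresentation ρ
      (fun g v => rfl)
  have hι : ι ≠ 0 := by
    intro h0
    apply hM.1
    apply Subrepresentation.toSubmodule_injective
    show M.toSubmodule = (⊥ : Submodule ℂ V)
    rw [eq_bot_iff]
    intro v hv
    have : ι ⟨v, hv⟩ = (0 : IntertwiningMap M.toRepresentation ρ) ⟨v, hv⟩ := by rw [h0]
    have h1 : v = 0 := this
    rw [h1]
    exact Submodule.zero_mem _
  have h1 : finrank ℂ (IntertwiningMap M.toRepresentation ρ) = 1 := by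
    rcases h _ hχ with h0 | h1
    · exfalso
      rw [hfin] at h0
      have h0' : finrank ℂ (IntertwiningMap M.toRepresentation ρ) = 0 := by exact_mod_cast h0
      rw [Module.finrank_zero_iff] at h0'
      exact hι (Subsingleton.elim _ _)
    · rw [hfin] at h1
      exact_mod_cast h1
  obtain ⟨c, hc⟩ := (finrank_eq_one_iff_of_nonzero' ι hι).mp h1 (X.comp ι)
  refine ⟨c, fun v hv => ?_⟩
  have := congrArg (fun f : IntertwiningMap M.toRepresentation ρ => f ⟨v, hv⟩) hc
  exact this.symm

omit [FiniteDimensional ℂ V] in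
/-- A subrepresentation containing all irreducible subrepresentations is everything. -/
theorem eq_top_of_atoms_le [FiniteDimensional ℂ V] (K : Subrepresentation ρ)
    (hK : ∀ M : Subrepresentation ρ, IsAtom M → M ≤ K) : K = ⊤ := by
  haveI : NeZero (Nat.card G : ℂ) := ⟨by exact_mod_cast Nat.card_pos.ne'⟩
  haveI : IsAtomic (Subrepresentation ρ) :=
    (Subrepresentation.subrepresentationSubmoduleOrderIso (ρ := ρ)).isAtomic_iff.mpr
      inferInstance
  obtain ⟨K', hK'⟩ := exists_isCompl K
  rcases IsAtomic.eq_bot_or_exists_atom_le K' with hb | ⟨M, hM, hMK'⟩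
  · rw [← hK'.sup_eq_top, hb, sup_bot_eq]
  · exfalso
    have hle : M ≤ K ⊓ K' := le_inf (hK M hM) hMK'
    rw [hK'.inf_eq_bot] at hle
    exact hM.1 (le_bot_iff.mp hle)

/-- If every irreducible character occurs at most once in the character of `ρ`, any two
intertwiners of `ρ` commute. -/
theorem comm_of_multfree
    (h : ∀ χ : G → ℂ, Cfsg.IsIrrCharacter G χ →
      Cfsg.classInner ρ.character χ = 0 ∨ Cfsg.classInner ρ.character χ = 1)
    (S T : IntertwiningMap ρ ρ) (v : V) : S (T v) = T (S v) := by
  let C : IntertwiningMap ρ ρ := S.comp T - T.comp S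
  have hC : C.ker = ⊤ := eq_top_of_atoms_le ρ C.ker (fun M hM => by
    intro w hw
    obtain ⟨c, hc⟩ := atom_scalar ρ h M hM S
    obtain ⟨d, hd⟩ := atom_scalar ρ h M hM T
    rw [IntertwiningMap.mem_ker]
    show S (T w) - T (S w) = 0
    rw [hd w hw, hc w hw, map_smul, map_smul, hd w hw, hc w hw, smul_comm, sub_self])
  have hv : v ∈ C.ker := by rw [hC]; exact Submodule.mem_top (R := ℂ)
  rw [IntertwiningMap.mem_ker] at hv
  have hv' : S (T v) - T (S v) = 0 := hv
  exact sub_eq_zero.mp hv'

end multfree

end Cfsg.Agent.Helper2.CommEnd
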