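import Mathlib
import Cfsg.Agent.Helper2.CommEndA

/-!
# Commutative intertwiner algebra implies multiplicity-freeness
-/

set_option autoImplicit false
set_option linter.style.haveILetI false

namespace Cfsg.Agent.Helper2.CommEnd

open Module Representation Cfsg.Agent.Helper6
open scoped MonoidAlgebra

universe u v w

variable {G : Type u} [Group G] [Fintype G]
  {V : Type v} [AddCommGroup V] [Module ℂ V]
  {W : Type w} [AddCommGroup W] [Module ℂ W]

/-- Maschke: an injective intertwiner has an equivariant left inverse. -/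
theorem exists_left_inverse (ρ : Representation ℂ G V) (σ : Representation ℂ G W)
    (F : IntertwiningMap σ ρ) (hF : Function.Injective F) :
    ∃ L : IntertwiningMap ρ σ, ∀ w : W, L (F w) = w := by
  haveI : NeZero (Nat.card G : ℂ) := ⟨by exact_mod_cast Nat.card_pos.ne'⟩
  let f : σ.asModule →ₗ[ℂ[G]] ρ.asModule := IntertwiningMap.equivLinearMapAsModule σ ρ F
  have hf : LinearMap.ker f = ⊥ := by
    rw [LinearMap.ker_eq_bot]
    exact hF
  obtain ⟨g, hg⟩ := MonoidAlgebra.exists_leftInverse_of_injective f hf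
  refine ⟨(IntertwiningMap.equivLinearMapAsModule ρ σ).symm g, fun w => ?_⟩
  exact DFunLike.congr_fun hg w

/-- If the intertwiner algebra of `ρ` is commutative, any two intertwiners from an irreducible
representation into `ρ` are proportional. -/
theorem proportional_of_comm [FiniteDimensional ℂ W]
    (ρ : Representation ℂ G V) (σ : Representation ℂ G W)
    (hσ : σ.IsIrreducible)
    (hcomm : ∀ (S T : IntertwiningMap ρ ρ) (v : V), S (T v) = T (S v))
    (F₁ F₂ : IntertwiningMap σ ρ) (h₁ : F₁ ≠ 0) : ∃ c : ℂ, c • F₁ = F₂ := by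
  haveI := hσ
  have hinj : Function.Injective F₁ := (IsIrreducible.injective_or_eq_zero F₁).resolve_right h₁
  obtain ⟨L, hL⟩ := exists_left_inverse ρ σ F₁ hinj
  obtain ⟨c, hc⟩ := (IsIrreducible.algebraMap_intertwiningMap_bijective_of_isAlgClosed
    (ρ := σ)).2 (L.comp F₂)
  refine ⟨c, ?_⟩
  apply IntertwiningMap.ext
  apply LinearMap.ext
  intro w
  have h := hcomm (F₁.comp L) (F₂.comp L) (F₁ w)
  -- F₁ (L (F₂ (L (F₁ w)))) = F₂ (L (F₁ (L (F₁ w))))
  have h' : F₁ (L (F₂ (L (F₁ w)))) = F₂ (L (F₁ (L (F₁ w)))) := h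
  rw [hL, hL] at h'
  have hc' : (algebraMap ℂ (IntertwiningMap σ σ) c) w = (L.comp F₂) w := by rw [hc]
  have hc'' : c • w = L (F₂ w) := hc'
  rw [← hc'', map_smul] at h'
  exact h'

/-- Commutativity of the intertwiner algebra bounds the multiplicities by one. -/
theorem finrank_le_one_of_comm [FiniteDimensional ℂ V] [FiniteDimensional ℂ W]
    (ρ : Representation ℂ G V) (σ : Representation ℂ G W)
    (hσ : σ.IsIrreducible)
    (hcomm : ∀ (S T : IntertwiningMap ρ ρ) (v : V), S (T v) = T (S v)) :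
    finrank ℂ (IntertwiningMap σ ρ) = 0 ∨ finrank ℂ (IntertwiningMap σ ρ) = 1 := by
  by_cases hall : ∀ F : IntertwiningMap σ ρ, F = 0
  · left
    rw [Module.finrank_zero_iff]
    exact ⟨fun a b => by rw [hall a, hall b]⟩
  · right
    push Not at hall
    obtain ⟨F₁, h₁⟩ := hall
    rw [finrank_eq_one_iff_of_nonzero' F₁ h₁]
    intro F₂
    exact proportional_of_comm ρ σ hσ hcomm F₁ F₂ h₁

end Cfsg.Agent.Helper2.CommEnd
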