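import Mathlib
import Cfsg.Agent.Helper2.CommEndB
import Cfsg.Agent.Helper6.FrobSchur
import Cfsg.Agent.Helper6.Involutions

/-!
# A real constituent of multiplicity one of a permutation character has indicator one
-/

set_option autoImplicit false
set_option linter.style.haveILetI false

namespace Cfsg.Agent.Helper2.GenTrans

open Module Representation Matrix Cfsg.Agent.Helper6
open scoped ComplexConjugate

universe u w

variable {G : Type u} [Group G] {Ω : Type w} [Fintype Ω] [DecidableEq Ω] [MulAction G Ω]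

/-- The matrix of the permutation representation. -/
noncomputable def pMat (Ω : Type w) [Fintype Ω] [DecidableEq Ω] [MulAction G Ω] (g : G) :
    Matrix Ω Ω ℂ := LinearMap.toMatrix' (Cfsg.permRep ℂ G Ω g)

theorem pMat_apply (g : G) (x y : Ω) :
    pMat Ω g x y = if g⁻¹ • x = y then (1 : ℂ) else 0 := by
  unfold pMat
  rw [LinearMap.toMatrix'_apply]
  change (Pi.single y (1:ℂ) : Ω → ℂ) (g⁻¹ • x) = _
  rw [Pi.single_apply]

theorem toLin'_pMat (g : G) : Matrix.toLin' (pMat Ω g) = Cfsg.permRep ℂ G Ω g :=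
  Matrix.toLin'_toMatrix' _

theorem pMat_transpose (g : G) : (pMat Ω g)ᵀ = pMat Ω g⁻¹ := by
  ext x y
  rw [Matrix.transpose_apply, pMat_apply, pMat_apply, inv_inv]
  by_cases h : g⁻¹ • y = x
  · rw [if_pos h, if_pos]
    rw [← h, smul_inv_smul]
  · rw [if_neg h, if_neg]
    intro h'
    apply h
    rw [← h', inv_smul_smul]

theorem pMat_inv_mul (g : G) : pMat Ω g⁻¹ * pMat Ω g = 1 := by
  unfold pMat
  rw [← LinearMap.toMatrix'_comp, ← Module.End.mul_eq_comp, ← map_mul, inv_mul_cancel, map_one]
  exact LinearMap.toMatrix'_one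

section main

variable [Fintype G] {n : ℕ} (σ : Representation ℂ G (Fin n → ℂ))

/-- The matrix of an intertwiner intertwines the matrices. -/
theorem toMatrix'_intertwine (F : IntertwiningMap σ (Cfsg.permRep ℂ G Ω)) (g : G) :
    LinearMap.toMatrix' F.toLinearMap * repMat σ g =
      pMat Ω g * LinearMap.toMatrix' F.toLinearMap := by
  unfold repMat pMat
  rw [← LinearMap.toMatrix'_comp, ← LinearMap.toMatrix'_comp, F.isIntertwining' g]

/-- The Gram matrix of an intertwiner is an invariant form. -/
theorem gram_isInvForm (F : IntertwiningMap σ (Cfsg.permRep ℂ G Ω)) :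
    IsInvForm σ ((LinearMap.toMatrix' F.toLinearMap)ᵀ * LinearMap.toMatrix' F.toLinearMap) := by
  intro g
  have h := toMatrix'_intertwine σ F g
  set A := LinearMap.toMatrix' F.toLinearMap with hA
  calc (repMat σ g)ᵀ * (Aᵀ * A) * repMat σ g
      = (A * repMat σ g)ᵀ * (A * repMat σ g) := by
        rw [Matrix.transpose_mul]
        simp only [Matrix.mul_assoc]
    _ = (pMat Ω g * A)ᵀ * (pMat Ω g * A) := by rw [h]
    _ = Aᵀ * ((pMat Ω g)ᵀ * pMat Ω g) * A := by
        rw [Matrix.transpose_mul]
        simp only [Matrix.mul_assoc]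
    _ = Aᵀ * A := by rw [pMat_transpose, pMat_inv_mul, Matrix.mul_one]

theorem fsInd_eq_one_of_mult_one [hirr : σ.IsIrreducible]
    (hm : Cfsg.classInner (Cfsg.permRep ℂ G Ω).character σ.character = 1)
    (hreal : ∀ g, σ.character g⁻¹ = σ.character g) : fsInd σ = 1 := by
  set ρ := Cfsg.permRep ℂ G Ω with hρ
  have hfr1 : finrank ℂ (IntertwiningMap σ ρ) = 1 := by
    have h := classInner_eq_finrank_intertwining σ ρ
    rw [hm] at h
    exact_mod_cast h.symm
  have hfr2 : finrank ℂ (IntertwiningMap ρ σ) = 1 := by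
    have h := classInner_eq_finrank_intertwining ρ σ
    rw [classInner_conj_symm, hm, map_one] at h
    exact_mod_cast h.symm
  -- a non-zero intertwiner
  haveI : Nontrivial (IntertwiningMap σ ρ) := by
    apply Module.nontrivial_of_finrank_pos (R := ℂ)
    rw [hfr1]
    exact Nat.one_pos
  obtain ⟨F, hF⟩ := exists_ne (0 : IntertwiningMap σ ρ)
  have hinj : Function.Injective F := (IsIrreducible.injective_or_eq_zero F).resolve_right hF
  obtain ⟨w, hw⟩ : ∃ w, F w ≠ 0 := by
    by_contra hcon
    push Not at hcon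
    apply hF
    apply IntertwiningMap.ext
    apply LinearMap.ext
    intro w
    exact hcon w
  set A := LinearMap.toMatrix' F.toLinearMap with hA
  have hAF : ∀ v, Matrix.toLin' A v = F v := by
    intro v
    rw [hA, Matrix.toLin'_toMatrix']
    rfl
  have hinter := toMatrix'_intertwine σ F
  rw [← hA] at hinter
  have hform := gram_isInvForm σ F
  rw [← hA] at hform
  have hM : Aᵀ * A ≠ 0 := by
    intro hM0
    obtain ⟨N, hN0, hN⟩ := exists_invForm_of_real σ hreal
    have hu := hN.isUnit_of_ne_zero hN0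
    have hdet : IsUnit N.det := (Matrix.isUnit_iff_isUnit_det N).mp hu
    have hNi : N⁻¹ * N = 1 := Matrix.nonsing_inv_mul N hdet
    have hNi' : N * N⁻¹ = 1 := Matrix.mul_nonsing_inv N hdet
    set B : Matrix (Fin n) Ω ℂ := N⁻¹ * Aᵀ with hB
    have hBP : ∀ g : G, B * pMat Ω g = repMat σ g * B := by
      intro g
      have h1 : Aᵀ * pMat Ω g = (repMat σ g⁻¹)ᵀ * Aᵀ := by
        have h2 := congrArg Matrix.transpose (hinter g⁻¹)
        rw [Matrix.transpose_mul, Matrix.transpose_mul, pMat_transpose, inv_inv] at h2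
        exact h2.symm
      have h3 : N⁻¹ * (repMat σ g⁻¹)ᵀ = repMat σ g * N⁻¹ := by
        have h4 := hN.mul_repMat g
        calc N⁻¹ * (repMat σ g⁻¹)ᵀ = N⁻¹ * ((repMat σ g⁻¹)ᵀ * N) * N⁻¹ := by
              rw [Matrix.mul_assoc, Matrix.mul_assoc, hNi', Matrix.mul_one]
          _ = N⁻¹ * (N * repMat σ g) * N⁻¹ := by rw [h4]
          _ = repMat σ g * N⁻¹ := by
              rw [← Matrix.mul_assoc N⁻¹, hNi, Matrix.one_mul]
      rw [hB, Matrix.mul_assoc, h1, ← Matrix.mul_assoc, h3, Matrix.mul_assoc]
    let F' : IntertwiningMap ρ σ :=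
      (Matrix.toLin' B).intertwiningMap_of_isIntertwiningMap ρ σ (by
        intro g v
        rw [hρ, ← toLin'_pMat, ← toLin'_repMat σ g, ← Matrix.toLin'_mul_apply,
          ← Matrix.toLin'_mul_apply, hBP g])
    have hF'v : ∀ v, F' v = Matrix.toLin' B v := fun v => rfl
    have hF'F : ∀ v, F' (F v) = 0 := by
      intro v
      rw [hF'v, ← hAF, ← Matrix.toLin'_mul_apply, hB, Matrix.mul_assoc, hM0, Matrix.mul_zero,
        map_zero, LinearMap.zero_apply]
    have hF'0 : F' ≠ 0 := by
      intro h0
      apply hF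
      have hB0 : B = 0 := by
        have : Matrix.toLin' B = 0 := by
          apply LinearMap.ext
          intro v
          rw [← hF'v, h0]
          rfl
        have h5 := congrArg LinearMap.toMatrix' this
        rwa [LinearMap.toMatrix'_toLin', map_zero] at h5
      have hAt : Aᵀ = 0 := by
        calc Aᵀ = N * (N⁻¹ * Aᵀ) := by rw [← Matrix.mul_assoc, hNi', Matrix.one_mul]
          _ = 0 := by rw [← hB, hB0, Matrix.mul_zero]
      have hA0 : A = 0 := by
        have := congrArg Matrix.transpose hAt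
        rwa [Matrix.transpose_transpose, Matrix.transpose_zero] at this
      apply IntertwiningMap.ext
      apply LinearMap.ext
      intro v
      have : F v = 0 := by rw [← hAF, hA0, map_zero, LinearMap.zero_apply]
      exact this
    obtain ⟨L, hL⟩ := CommEnd.exists_left_inverse ρ σ F hinj
    obtain ⟨c, hc⟩ := (finrank_eq_one_iff_of_nonzero' F' hF'0).mp hfr2 L
    have h6 : w = 0 := by
      rw [← hL w, ← hc]
      show c • F' (F w) = 0
      rw [hF'F, smul_zero]
    apply hw
    rw [h6, map_zero]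
  have h7 := hform.transpose_eq
  rw [Matrix.transpose_mul, Matrix.transpose_transpose] at h7
  have h8 : ((1 : ℂ) - fsInd σ) • (Aᵀ * A) = 0 := by
    rw [sub_smul, one_smul, ← h7, sub_self]
  rcases smul_eq_zero.mp h8 with h9 | h9
  · exact (sub_eq_zero.mp h9).symm
  · exact absurd h9 hM

end main

end Cfsg.Agent.Helper2.GenTrans
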