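import Mathlib
import Cfsg.Agent.Helper2.GenTransA
import Cfsg.Agent.Helper2.GenTransB
import Cfsg.Agent.Helper6.IrrCrit
import Cfsg.Agent.Helper6.IrrBasis
import Cfsg.Agent.Helper6.Induced
import Cfsg.Agent.Helper6.Expansion

/-!
# Generous transitivity and real multiplicity-free permutation characters
-/

set_option autoImplicit false
set_option linter.style.haveILetI false

namespace Cfsg.Agent.Helper2.GenTrans

open MulAction Cfsg.Agent.Helper6
open scoped ComplexConjugate

universe u w

variable {G : Type u} [Group G] [Fintype G] {Ω : Type w} [Fintype Ω] [MulAction G Ω]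

open Classical in
/-- The rational number counting self-paired orbitals. -/
noncomputable def spQ (G : Type u) [Group G] (Ω : Type w) [MulAction G Ω] [Fintype Ω] : ℚ :=
  ∑ p : Ω × Ω, (if ∃ s : G, s • p = p.swap then 1 / (Nat.card (orbit G p) : ℚ) else 0)

/-- The rational number counting all orbitals. -/
noncomputable def rkQ (G : Type u) [Group G] (Ω : Type w) [MulAction G Ω] [Fintype Ω] : ℚ :=
  ∑ p : Ω × Ω, 1 / (Nat.card (orbit G p) : ℚ)

theorem card_ne_zero : (Nat.card G : ℂ) ≠ 0 := by
  have : 0 < Nat.card G := Nat.card_pos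
  exact_mod_cast this.ne'

theorem fsIndFun_permChar :
    fsIndFun (fun g : G => (Nat.card (fixedBy Ω g) : ℂ)) = ((spQ G Ω : ℚ) : ℂ) := by
  unfold fsIndFun
  have h := congrArg (fun q : ℚ => (q : ℂ)) (sum_fixed_sq (G := G) (Ω := Ω))
  simp only [Rat.cast_sum, Rat.cast_natCast, Rat.cast_mul] at h
  rw [h]
  unfold spQ
  rw [← mul_assoc, inv_mul_cancel₀ card_ne_zero, one_mul]
  push_cast
  congr!

theorem classInner_permChar_self_eq :
    Cfsg.classInner (fun g : G => (Nat.card (fixedBy Ω g) : ℂ))
      (fun g : G => (Nat.card (fixedBy Ω g) : ℂ)) = ((rkQ G Ω : ℚ) : ℂ) := by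
  rw [classInner_def]
  have h := congrArg (fun q : ℚ => (q : ℂ)) (sum_fixed_mul_self (G := G) (Ω := Ω))
  simp only [Rat.cast_sum, Rat.cast_natCast, Rat.cast_mul] at h
  simp only [Complex.conj_natCast]
  rw [h]
  unfold rkQ
  rw [← mul_assoc, inv_mul_cancel₀ card_ne_zero, one_mul]
  push_cast
  rfl

theorem spQ_le_rkQ : spQ G Ω ≤ rkQ G Ω := by
  classical
  unfold spQ rkQ
  apply Finset.sum_le_sum
  intro p _
  split_ifs
  · exact le_rfl
  · positivity

theorem spQ_eq_rkQ_iff : spQ G Ω = rkQ G Ω ↔ ∀ p : Ω × Ω, ∃ s : G, s • p = p.swap := by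
  classical
  constructor
  · intro h p
    by_contra hp
    have hlt : spQ G Ω < rkQ G Ω := by
      unfold spQ rkQ
      apply Finset.sum_lt_sum
      · intro q _
        split_ifs
        · exact le_rfl
        · positivity
      · refine ⟨p, Finset.mem_univ _, ?_⟩
        rw [if_neg hp]
        have h2 : Nat.card (stabilizer G p) * Nat.card (orbit G p) = Nat.card G := by
          rw [Nat.card_coe_set_eq, ← MulAction.index_stabilizer, Subgroup.card_mul_index]
        have h3 : 0 < Nat.card (orbit G p) := by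
          rcases Nat.eq_zero_or_pos (Nat.card (orbit G p)) with h0 | h0
          · rw [h0, mul_zero] at h2
            exact absurd h2.symm Nat.card_pos.ne'
          · exact h0
        have h4 : (0 : ℚ) < (Nat.card (orbit G p) : ℚ) := by exact_mod_cast h3
        positivity
    exact hlt.ne h
  · intro h
    unfold spQ rkQ
    apply Finset.sum_congr rfl
    intro p _
    rw [if_pos (h p)]

section expansion

variable [Fintype (Cfsg.IrrCharacter G)]

theorem fsIndFun_expansion (ψ : G → ℂ) (hψ : Cfsg.IsClassFunction G ψ) :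
    fsIndFun ψ = ∑ χ : Cfsg.IrrCharacter G,
      Cfsg.classInner ψ (χ : G → ℂ) * fsIndFun (χ : G → ℂ) := by
  unfold fsIndFun
  have h : ∀ s : G, ψ (s * s) =
      ∑ χ : Cfsg.IrrCharacter G, Cfsg.classInner ψ (χ : G → ℂ) * (χ : G → ℂ) (s * s) := by
    intro s
    have h1 := congrFun (classFunction_expansion ψ hψ) (s * s)
    rw [Finset.sum_apply] at h1
    rw [h1]
    apply Finset.sum_congr rfl
    intro χ _
    rfl
  simp_rw [h]
  rw [Finset.sum_comm, Finset.mul_sum]
  apply Finset.sum_congr rfl
  intro χ _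
  rw [← Finset.mul_sum]
  ring

end expansion

end Cfsg.Agent.Helper2.GenTrans
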