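import Mathlib
import Cfsg.Agent.Helper2.GenTransC

/-!
# Generous transitivity and real multiplicity-free permutation characters: main theorems
-/

set_option autoImplicit false
set_option linter.style.haveILetI false

namespace Cfsg.Agent.Helper2.GenTrans

open MulAction Cfsg.Agent.Helper6
open scoped ComplexConjugate

universe u w

variable {G : Type u} [Group G] [Fintype G] {Ω : Type w} [Fintype Ω] [MulAction G Ω]

/-- Integer-valued indicator data of an irreducible character. -/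
theorem exists_int_indicator (χ : Cfsg.IrrCharacter G) :
    ∃ z : ℤ, fsIndFun (χ : G → ℂ) = (z : ℂ) ∧ (z = 1 ∨ z = -1 ∨ z = 0) ∧
      (z = 1 → ∀ g, ((χ : G → ℂ) g).im = 0) := by
  rcases irr_fs_cases χ with ⟨hreal, h1 | h1⟩ | ⟨hnr, h0⟩
  · exact ⟨1, by rw [h1]; norm_num, Or.inl rfl, fun _ => hreal⟩
  · refine ⟨-1, by rw [h1]; norm_num, Or.inr (Or.inl rfl), fun h => ?_⟩
    norm_num at h
  · refine ⟨0, by rw [h0]; norm_num, Or.inr (Or.inr rfl), fun h => ?_⟩
    norm_num at h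

/-- Natural-number multiplicities. -/
theorem exists_nat_mult (χ : Cfsg.IrrCharacter G) :
    ∃ m : ℕ, Cfsg.classInner (fun g : G => (Nat.card (fixedBy Ω g) : ℂ)) (χ : G → ℂ) = (m : ℂ) :=
  classInner_char_char_nat Cfsg.Agent.Helper2.CentAlg.permChar_isCharacter
    (IsIrrCharacter.isCharacter χ.2)

/-- The indicator of a real constituent of multiplicity one is one. -/
theorem fsIndFun_eq_one_of_mult_one (χ : G → ℂ) (hχ : Cfsg.IsIrrCharacter G χ)
    (hm : Cfsg.classInner (fun g : G => (Nat.card (fixedBy Ω g) : ℂ)) χ = 1)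
    (hreal : ∀ g : G, (starRingEnd ℂ) (χ g) = χ g) : fsIndFun χ = 1 := by
  classical
  obtain ⟨n, σ, hirr, rfl⟩ := hχ
  haveI := hirr
  have hchar : (Cfsg.permRep ℂ G Ω).character =
      (fun g : G => (Nat.card (MulAction.fixedBy Ω g) : ℂ)) := funext CommEnd.permRep_character
  have h := fsInd_eq_one_of_mult_one (Ω := Ω) σ (by rw [hchar]; exact hm) (by
    intro g
    rw [char_inv_eq_conj]
    exact hreal g)
  rw [← h]
  rfl

variable [Fintype (Cfsg.IrrCharacter G)]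

/-- Key identity: the two counts in terms of multiplicities and indicators. -/
theorem counts_eq (m : Cfsg.IrrCharacter G → ℕ) (z : Cfsg.IrrCharacter G → ℤ)
    (hm : ∀ χ : Cfsg.IrrCharacter G,
      Cfsg.classInner (fun g : G => (Nat.card (fixedBy Ω g) : ℂ)) (χ : G → ℂ) = (m χ : ℂ))
    (hz : ∀ χ : Cfsg.IrrCharacter G, fsIndFun (χ : G → ℂ) = (z χ : ℂ)) :
    ((spQ G Ω : ℚ) : ℂ) = ((∑ χ, (m χ : ℤ) * z χ : ℤ) : ℂ) ∧
    ((rkQ G Ω : ℚ) : ℂ) = ((∑ χ, (m χ : ℤ) * (m χ : ℤ) : ℤ) : ℂ) := by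
  have hcf : Cfsg.IsClassFunction G (fun g : G => (Nat.card (fixedBy Ω g) : ℂ)) :=
    IsCharacter.isClassFunction Cfsg.Agent.Helper2.CentAlg.permChar_isCharacter
  constructor
  · rw [← fsIndFun_permChar, fsIndFun_expansion _ hcf]
    push_cast
    apply Finset.sum_congr rfl
    intro χ _
    rw [hm χ, hz χ]
  · rw [← classInner_permChar_self_eq, classInner_self_expansion _ hcf]
    push_cast
    apply Finset.sum_congr rfl
    intro χ _
    rw [classInner_conj_symm (fun g : G => (Nat.card (fixedBy Ω g) : ℂ)) (χ : G → ℂ), hm χ,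
      Complex.conj_natCast]

/-- Generous transitivity implies a multiplicity-free permutation character with real
constituents. -/
theorem mult_free_real_of_swap (h : ∀ p : Ω × Ω, ∃ s : G, s • p = p.swap)
    (χ : G → ℂ) (hχ : Cfsg.IsIrrCharacter G χ)
    (hne : Cfsg.classInner (fun g : G => (Nat.card (fixedBy Ω g) : ℂ)) χ ≠ 0) :
    Cfsg.classInner (fun g : G => (Nat.card (fixedBy Ω g) : ℂ)) χ = 1 ∧
      ∀ g : G, (starRingEnd ℂ) (χ g) = χ g := by
  classical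
  choose m hm using (exists_nat_mult (G := G) (Ω := Ω))
  choose z hz hz3 hzreal using (exists_int_indicator (G := G))
  obtain ⟨h1, h2⟩ := counts_eq (Ω := Ω) m z hm hz
  have heq : spQ G Ω = rkQ G Ω := spQ_eq_rkQ_iff.mpr h
  rw [heq, h2] at h1
  have h3 : (∑ χ, (m χ : ℤ) * (m χ : ℤ) : ℤ) = ∑ χ, (m χ : ℤ) * z χ := by exact_mod_cast h1
  have h4 : ∑ χ, ((m χ : ℤ) * (m χ : ℤ) - (m χ : ℤ) * z χ) = 0 := by
    rw [Finset.sum_sub_distrib, h3, sub_self]
  have hnonneg : ∀ χ ∈ (Finset.univ : Finset (Cfsg.IrrCharacter G)),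
      0 ≤ (m χ : ℤ) * (m χ : ℤ) - (m χ : ℤ) * z χ := by
    intro χ _
    have hmn : (0 : ℤ) ≤ (m χ : ℤ) := Int.natCast_nonneg _
    rcases hz3 χ with hz1 | hz1 | hz1
    · rw [hz1]
      rcases Nat.eq_zero_or_pos (m χ) with h0 | h0
      · rw [h0]; norm_num
      · have : (1 : ℤ) ≤ (m χ : ℤ) := by exact_mod_cast h0
        nlinarith
    · rw [hz1]; nlinarith
    · rw [hz1]; nlinarith
  have h5 := (Finset.sum_eq_zero_iff_of_nonneg hnonneg).mp h4
  have h6 := h5 ⟨χ, hχ⟩ (Finset.mem_univ _)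
  have hmχ := hm ⟨χ, hχ⟩
  have hmχ' : Cfsg.classInner (fun g : G => (Nat.card (fixedBy Ω g) : ℂ)) χ =
      (m ⟨χ, hχ⟩ : ℂ) := hmχ
  have hm0 : m ⟨χ, hχ⟩ ≠ 0 := by
    intro h0
    apply hne
    rw [hmχ', h0, Nat.cast_zero]
  have hmpos : (1 : ℤ) ≤ (m ⟨χ, hχ⟩ : ℤ) := by
    have : 0 < m ⟨χ, hχ⟩ := Nat.pos_of_ne_zero hm0
    exact_mod_cast this
  have h7 : (m ⟨χ, hχ⟩ : ℤ) * ((m ⟨χ, hχ⟩ : ℤ) - z ⟨χ, hχ⟩) = 0 := by
    rw [mul_sub]; exact h6
  have h8 : (m ⟨χ, hχ⟩ : ℤ) = z ⟨χ, hχ⟩ := by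
    rcases mul_eq_zero.mp h7 with h9 | h9
    · omega
    · omega
  have hz1 : z ⟨χ, hχ⟩ = 1 := by
    rcases hz3 ⟨χ, hχ⟩ with h9 | h9 | h9
    · exact h9
    · omega
    · omega
  constructor
  · rw [hmχ']
    have : (m ⟨χ, hχ⟩ : ℤ) = 1 := by rw [h8, hz1]
    have h10 : m ⟨χ, hχ⟩ = 1 := by exact_mod_cast this
    rw [h10, Nat.cast_one]
  · intro g
    exact Complex.conj_eq_iff_im.mpr (hzreal ⟨χ, hχ⟩ hz1 g)

/-- A multiplicity-free permutation character with real constituents forces generous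
transitivity. -/
theorem swap_of_mult_free_real
    (H : ∀ χ : G → ℂ, Cfsg.IsIrrCharacter G χ →
      Cfsg.classInner (fun g : G => (Nat.card (fixedBy Ω g) : ℂ)) χ ≠ 0 →
      Cfsg.classInner (fun g : G => (Nat.card (fixedBy Ω g) : ℂ)) χ = 1 ∧
        ∀ g : G, (starRingEnd ℂ) (χ g) = χ g)
    (p : Ω × Ω) : ∃ s : G, s • p = p.swap := by
  classical
  choose m hm using (exists_nat_mult (G := G) (Ω := Ω))
  choose z hz hz3 hzreal using (exists_int_indicator (G := G))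
  obtain ⟨h1, h2⟩ := counts_eq (Ω := Ω) m z hm hz
  have hterm : ∀ χ : Cfsg.IrrCharacter G, (m χ : ℤ) * z χ = (m χ : ℤ) * (m χ : ℤ) := by
    intro χ
    by_cases h0 : m χ = 0
    · rw [h0]; norm_num
    · have hne : Cfsg.classInner (fun g : G => (Nat.card (fixedBy Ω g) : ℂ)) (χ : G → ℂ) ≠ 0 := by
        rw [hm χ]
        exact_mod_cast h0
      obtain ⟨hone, hreal⟩ := H χ.1 χ.2 hne
      have hfs := fsIndFun_eq_one_of_mult_one (Ω := Ω) χ.1 χ.2 hone hreal
      have hz1 : z χ = 1 := by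
        have h3 := hz χ
        rw [hfs] at h3
        exact_mod_cast h3.symm
      have hm1 : m χ = 1 := by
        have h3 := hm χ
        rw [hone] at h3
        exact_mod_cast h3.symm
      rw [hz1, hm1]
      norm_num
  have h3 : ((spQ G Ω : ℚ) : ℂ) = ((rkQ G Ω : ℚ) : ℂ) := by
    rw [h1, h2]
    congr 1
    apply Finset.sum_congr rfl
    intro χ _
    exact hterm χ
  have h4 : spQ G Ω = rkQ G Ω := by exact_mod_cast h3
  exact spQ_eq_rkQ_iff.mp h4 p

end Cfsg.Agent.Helper2.GenTrans
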