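import Mathlib

/-!
# The arithmetic of Wielandt's rank three parameters
-/

set_option autoImplicit false

namespace Cfsg.Agent.Helper2.Rank3

theorem wielandt_arith_int (m k r s : ℤ) (hm : 2 ≤ m) (hk2 : 2 ≤ k) (hk3 : k + 3 ≤ 2 * m)
    (h1 : k + (m - 1) * r + m * s = 0)
    (h2 : k ^ 2 + (m - 1) * r ^ 2 + m * s ^ 2 = 2 * m * k) :
    ∃ a : ℤ, 0 < a ∧ m = 2 * a ^ 2 + 2 * a + 1 ∧
      (k = a * (2 * a + 1) ∨ k = (a + 1) * (2 * a + 1)) := by
  obtain ⟨c, hc⟩ : ∃ c : ℤ, c = r + s := ⟨_, rfl⟩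
  have hs : s = c - r := by rw [hc]; ring
  have hr : k = r - m * c := by
    rw [hs] at h1
    linarith
  -- the key identity
  have hkey : m * (m * (c * (c + 2)) - (-2 * r ^ 2 + (4 * c + 2) * r - c ^ 2)) = 0 := by
    rw [hs, hr] at h2
    linear_combination h2
  have hm0 : m ≠ 0 := by omega
  have hkey2 : m * (c * (c + 2)) = -2 * r ^ 2 + (4 * c + 2) * r - c ^ 2 := by
    rcases mul_eq_zero.mp hkey with h | h
    · exact absurd h hm0
    · linarith
  have hodd : 1 ≤ (2 * r - 2 * c - 1) ^ 2 := by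
    have : (2 * r - 2 * c - 1) ≠ 0 := by omega
    have h3 : 0 < (2 * r - 2 * c - 1) ^ 2 := by positivity
    omega
  have hc1 : c < 1 := by
    by_contra hcon
    push Not at hcon
    have h4 : 3 ≤ c * (c + 2) := by nlinarith
    nlinarith
  have hc2 : -3 < c := by
    by_contra hcon
    push Not at hcon
    have h4 : 3 ≤ c * (c + 2) := by nlinarith
    nlinarith
  have hcases : c = -2 ∨ c = -1 ∨ c = 0 := by omega
  rcases hcases with rfl | rfl | rfl
  · -- c = -2
    exfalso
    have h5 : (r + 1) * (r + 2) = 0 := by linarith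
    rcases mul_eq_zero.mp h5 with h | h
    · have : r = -1 := by linarith
      rw [this] at hr
      omega
    · have : r = -2 := by linarith
      rw [this] at hr
      omega
  · -- c = -1
    have h5 : m = 2 * r ^ 2 + 2 * r + 1 := by linarith
    have h6 : k = r + m := by linarith
    rcases le_or_gt 0 r with hr0 | hr0
    · refine ⟨r, ?_, h5, Or.inr ?_⟩
      · rcases eq_or_lt_of_le hr0 with h | h
        · exfalso
          rw [← h] at h5
          omega
        · exact h
      · rw [h6, h5]; ring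
    · refine ⟨-r - 1, ?_, ?_, Or.inl ?_⟩
      · by_contra hcon
        push Not at hcon
        have : r = -1 := by omega
        rw [this] at h5
        omega
      · rw [h5]; ring
      · rw [h6, h5]; ring
  · -- c = 0
    exfalso
    have h5 : r * (r - 1) = 0 := by linarith
    rcases mul_eq_zero.mp h5 with h | h
    · rw [h] at hr
      omega
    · have : r = 1 := by linarith
      rw [this] at hr
      omega

theorem wielandt_arith (m k : ℕ) (r s : ℤ) (hm : 2 ≤ m) (hk2 : 2 ≤ k) (hk3 : k + 3 ≤ 2 * m)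
    (h1 : (k : ℤ) + ((m : ℤ) - 1) * r + (m : ℤ) * s = 0)
    (h2 : (k : ℤ) ^ 2 + ((m : ℤ) - 1) * r ^ 2 + (m : ℤ) * s ^ 2 = 2 * (m : ℤ) * (k : ℤ)) :
    ∃ a : ℕ, 0 < a ∧ m = 2 * a ^ 2 + 2 * a + 1 ∧
      (k = a * (2 * a + 1) ∨ k = (a + 1) * (2 * a + 1)) := by
  obtain ⟨a, ha, hma, hka⟩ := wielandt_arith_int (m : ℤ) (k : ℤ) r s (by exact_mod_cast hm)
    (by exact_mod_cast hk2) (by exact_mod_cast hk3) h1 h2
  lift a to ℕ using ha.le
  refine ⟨a, by exact_mod_cast ha, by exact_mod_cast hma, ?_⟩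
  rcases hka with h | h
  · left; exact_mod_cast h
  · right; exact_mod_cast h

/-- Uniqueness of the parameter `a`. -/
theorem wielandt_param_unique (a a' : ℕ) (h : 2 * a ^ 2 + 2 * a + 1 = 2 * a' ^ 2 + 2 * a' + 1) :
    a = a' := by
  rcases lt_trichotomy a a' with hlt | heq | hgt
  · exfalso
    have : a ^ 2 < a' ^ 2 := by nlinarith
    omega
  · exact heq
  · exfalso
    have : a' ^ 2 < a ^ 2 := by nlinarith
    omega

end Cfsg.Agent.Helper2.Rank3
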