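import Mathlib
import Cfsg.Agent.Helper2.CommEndB

/-!
# Projections onto irreducible constituents of a representation
-/

set_option autoImplicit false
set_option linter.style.haveILetI false

namespace Cfsg.Agent.Helper2.Rank3

open Module Representation Cfsg.Agent.Helper6

universe u v

variable {G : Type u} [Group G] [Fintype G] {V : Type v} [AddCommGroup V] [Module ℂ V]
  (ρ : Representation ℂ G V)

/-- An irreducible matrix representation embedded in `ρ`, with an equivariant retraction. -/
structure Emb where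
  /-- the degree -/
  n : ℕ
  /-- the irreducible representation -/
  σ : Representation ℂ G (Fin n → ℂ)
  /-- irreducibility -/
  irr : σ.IsIrreducible
  /-- the embedding -/
  F : IntertwiningMap σ ρ
  /-- the retraction -/
  L : IntertwiningMap ρ σ
  /-- the retraction property -/
  hLF : ∀ w, L (F w) = w

variable {ρ}

/-- The projection attached to an embedded irreducible representation. -/
noncomputable def Emb.proj (e : Emb ρ) : V →ₗ[ℂ] V := e.F.toLinearMap ∘ₗ e.L.toLinearMap

theorem Emb.proj_apply (e : Emb ρ) (v : V) : e.proj v = e.F (e.L v) := rfl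

theorem Emb.proj_idem (e : Emb ρ) : e.proj ∘ₗ e.proj = e.proj := by
  apply LinearMap.ext
  intro v
  simp only [LinearMap.comp_apply, Emb.proj_apply, e.hLF]

theorem Emb.trace_proj_comp [FiniteDimensional ℂ V] (e : Emb ρ) (g : G) :
    LinearMap.trace ℂ V (e.proj ∘ₗ ρ g) = e.σ.character g := by
  unfold Emb.proj
  rw [LinearMap.comp_assoc, LinearMap.trace_comp_comm']
  have h1 : (e.L.toLinearMap ∘ₗ ρ g) ∘ₗ e.F.toLinearMap = e.σ g := by
    apply LinearMap.ext
    intro w
    simp only [LinearMap.comp_apply, IntertwiningMap.toLinearMap_apply]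
    rw [e.L.isIntertwining, e.hLF]
  rw [h1]
  rfl

theorem Emb.proj_comp_proj_of_ne [FiniteDimensional ℂ V] (e e' : Emb ρ)
    (h : e.σ.character ≠ e'.σ.character) : e.proj ∘ₗ e'.proj = 0 := by
  have hirr := e.irr
  have hirr' := e'.irr
  have h1 := classInner_eq_finrank_intertwining e'.σ e.σ
  rw [classInner_irr_ne ⟨e.n, e.σ, e.irr, rfl⟩ ⟨e'.n, e'.σ, e'.irr, rfl⟩ h] at h1
  have h2 : finrank ℂ (IntertwiningMap e'.σ e.σ) = 0 := by exact_mod_cast h1.symm
  rw [Module.finrank_zero_iff] at h2
  have h3 : e.L.comp e'.F = 0 := Subsingleton.elim _ _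
  apply LinearMap.ext
  intro v
  simp only [LinearMap.comp_apply, Emb.proj_apply, LinearMap.zero_apply]
  have h4 : e.L (e'.F (e'.L v)) = (e.L.comp e'.F) (e'.L v) := rfl
  rw [h4, h3]
  simp

theorem Emb.comp_proj [FiniteDimensional ℂ V] (e : Emb ρ)
    (hone : finrank ℂ (IntertwiningMap e.σ ρ) = 1) (X : IntertwiningMap ρ ρ) :
    ∃ c : ℂ, X.toLinearMap ∘ₗ e.proj = c • e.proj := by
  have hF : e.F ≠ 0 := by
    intro h0
    have hirr := e.irr
    obtain ⟨a, b, hab⟩ := (inferInstance : Nontrivial (Subrepresentation e.σ))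
    -- the space is non-zero
    have hex : ∃ w : Fin e.n → ℂ, w ≠ 0 := by
      by_contra hcon
      push Not at hcon
      apply hab
      apply Subrepresentation.toSubmodule_injective
      ext w
      rw [hcon w]
      simp
    obtain ⟨w, hw⟩ := hex
    apply hw
    rw [← e.hLF w, h0]
    simp
  obtain ⟨c, hc⟩ := (finrank_eq_one_iff_of_nonzero' e.F hF).mp hone (X.comp e.F)
  refine ⟨c, ?_⟩
  apply LinearMap.ext
  intro v
  simp only [LinearMap.comp_apply, Emb.proj_apply, LinearMap.smul_apply,
    IntertwiningMap.toLinearMap_apply]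
  have := congrArg (fun f : IntertwiningMap e.σ ρ => f (e.L v)) hc
  exact this.symm

variable (ρ)

/-- Every irreducible constituent gives an embedded irreducible representation. -/
theorem exists_emb [FiniteDimensional ℂ V] (χ : G → ℂ) (hχ : Cfsg.IsIrrCharacter G χ)
    (hne : Cfsg.classInner ρ.character χ ≠ 0) : ∃ e : Emb ρ, e.σ.character = χ := by
  obtain ⟨n, σ, hirr, rfl⟩ := hχ
  haveI := hirr
  have h1 := classInner_eq_finrank_intertwining σ ρ
  have h2 : finrank ℂ (IntertwiningMap σ ρ) ≠ 0 := by
    intro h0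
    apply hne
    rw [h1, h0, Nat.cast_zero]
  haveI : Nontrivial (IntertwiningMap σ ρ) :=
    Module.nontrivial_of_finrank_pos (R := ℂ) (Nat.pos_of_ne_zero h2)
  obtain ⟨F, hF⟩ := exists_ne (0 : IntertwiningMap σ ρ)
  have hinj : Function.Injective F := (IsIrreducible.injective_or_eq_zero F).resolve_right hF
  obtain ⟨L, hL⟩ := CommEnd.exists_left_inverse ρ σ F hinj
  exact ⟨⟨n, σ, hirr, F, L, hL⟩, rfl⟩

end Cfsg.Agent.Helper2.Rank3
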