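import Mathlib
import Cfsg.Agent.Helper2.Rank3A
import Cfsg.Agent.Helper6.Expansion
import Cfsg.Agent.Helper6.IrrBasis

/-!
# Spectral decomposition of intertwiners of a multiplicity-free representation
-/

set_option autoImplicit false
set_option linter.style.haveILetI false

namespace Cfsg.Agent.Helper2.Rank3

open Module Representation Cfsg.Agent.Helper6

universe u v

variable {G : Type u} [Group G] [Fintype G] {V : Type v} [AddCommGroup V] [Module ℂ V]
  [FiniteDimensional ℂ V] (ρ : Representation ℂ G V)

theorem spectral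
    (hmf : ∀ χ : G → ℂ, Cfsg.IsIrrCharacter G χ →
      Cfsg.classInner ρ.character χ = 0 ∨ Cfsg.classInner ρ.character χ = 1)
    (X : IntertwiningMap ρ ρ) :
    ∃ (ι : Type u) (_ : Fintype ι) (χ : ι → G → ℂ) (c : ι → ℂ),
      (∀ i, Cfsg.IsIrrCharacter G (χ i)) ∧ Function.Injective χ ∧
      (∀ g, LinearMap.trace ℂ V (X.toLinearMap ∘ₗ ρ g) = ∑ i, c i * χ i g) ∧
      (∀ g, LinearMap.trace ℂ V (X.toLinearMap ∘ₗ X.toLinearMap ∘ₗ ρ g) =
        ∑ i, c i ^ 2 * χ i g) := by
  classical
  haveI : Finite (Cfsg.IrrCharacter G) := irr_finite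
  haveI : Fintype (Cfsg.IrrCharacter G) := Fintype.ofFinite _
  let ι := {χ : Cfsg.IrrCharacter G // Cfsg.classInner ρ.character (χ : G → ℂ) ≠ 0}
  haveI : Fintype ι := Fintype.ofFinite _
  have hex : ∀ i : ι, ∃ e : Emb ρ, e.σ.character = (i.1 : G → ℂ) :=
    fun i => exists_emb ρ i.1.1 i.1.2 i.2
  choose e he using hex
  have hone : ∀ i : ι, finrank ℂ (IntertwiningMap (e i).σ ρ) = 1 := by
    intro i
    have h1 := classInner_eq_finrank_intertwining (e i).σ ρ
    rw [he i] at h1
    rcases hmf i.1.1 i.1.2 with h0 | h0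
    · exact absurd h0 i.2
    · rw [h0] at h1
      exact_mod_cast h1.symm
  have horth : ∀ i j : ι, i ≠ j → (e i).proj ∘ₗ (e j).proj = 0 := by
    intro i j hij
    apply Emb.proj_comp_proj_of_ne
    rw [he i, he j]
    intro h
    apply hij
    apply Subtype.ext
    apply Subtype.ext
    exact h
  set S : V →ₗ[ℂ] V := ∑ i, (e i).proj with hS
  have hSS : S ∘ₗ S = S := by
    rw [hS]
    apply LinearMap.ext
    intro v
    simp only [LinearMap.comp_apply, LinearMap.sum_apply, map_sum]
    apply Finset.sum_congr rfl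
    intro i _
    rw [Finset.sum_eq_single i]
    · have := LinearMap.congr_fun ((e i).proj_idem) v
      exact this
    · intro j _ hji
      have := LinearMap.congr_fun (horth j i hji) v
      exact this
    · intro h
      exact absurd (Finset.mem_univ i) h
  have htrS : LinearMap.trace ℂ V S = ∑ i : ι, (i.1 : G → ℂ) 1 := by
    rw [hS, map_sum]
    apply Finset.sum_congr rfl
    intro i _
    have h1 := (e i).trace_proj_comp (1 : G)
    rw [map_one, he i] at h1
    exact h1
  have hdeg : (finrank ℂ V : ℂ) = ∑ i : ι, (i.1 : G → ℂ) 1 := by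
    rw [← Representation.char_one ρ]
    have h1 := congrFun (classFunction_expansion ρ.character
      (IsCharacter.isClassFunction (isCharacter_of_rep ρ))) 1
    rw [Finset.sum_apply] at h1
    rw [h1]
    have h2 : ∀ χ : Cfsg.IrrCharacter G,
        (Cfsg.classInner ρ.character (χ : G → ℂ) • (χ : G → ℂ)) 1 =
          if Cfsg.classInner ρ.character (χ : G → ℂ) ≠ 0 then (χ : G → ℂ) 1 else 0 := by
      intro χ
      rw [Pi.smul_apply, smul_eq_mul]
      rcases hmf χ.1 χ.2 with h0 | h0
      · rw [h0, if_neg (by simp), zero_mul]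
      · rw [h0, if_pos (by simp), one_mul]
    simp_rw [h2]
    rw [← Finset.sum_filter]
    rw [← Finset.sum_subtype (Finset.univ.filter
      (fun χ : Cfsg.IrrCharacter G => Cfsg.classInner ρ.character (χ : G → ℂ) ≠ 0))
      (fun χ => by simp) (fun χ : Cfsg.IrrCharacter G => (χ : G → ℂ) 1)]
  have hS1 : S = LinearMap.id := by
    have hE : IsIdempotentElem (LinearMap.id - S : V →ₗ[ℂ] V) := by
      show (LinearMap.id - S) * (LinearMap.id - S) = LinearMap.id - S
      rw [Module.End.mul_eq_comp]
      apply LinearMap.ext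
      intro v
      have h3 := LinearMap.congr_fun hSS v
      simp only [LinearMap.comp_apply, LinearMap.sub_apply, LinearMap.id_apply, map_sub] at h3 ⊢
      rw [h3]
      abel
    have htr : LinearMap.trace ℂ V (LinearMap.id - S) = 0 := by
      rw [map_sub, LinearMap.trace_id, htrS, hdeg, sub_self]
    have := LinearMap.IsIdempotentElem.eq_zero_of_trace_eq_zero hE htr
    exact (sub_eq_zero.mp this).symm
  have hc : ∀ i : ι, ∃ c : ℂ, X.toLinearMap ∘ₗ (e i).proj = c • (e i).proj :=
    fun i => (e i).comp_proj (hone i) X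
  choose c hc using hc
  have hX : X.toLinearMap = ∑ i, c i • (e i).proj := by
    calc X.toLinearMap = X.toLinearMap ∘ₗ S := by rw [hS1, LinearMap.comp_id]
      _ = ∑ i, X.toLinearMap ∘ₗ (e i).proj := by
        rw [hS]
        apply LinearMap.ext
        intro v
        simp only [LinearMap.comp_apply, LinearMap.sum_apply, map_sum]
      _ = ∑ i, c i • (e i).proj := Finset.sum_congr rfl (fun i _ => hc i)
  have hXX : X.toLinearMap ∘ₗ X.toLinearMap = ∑ i, (c i ^ 2) • (e i).proj := by
    conv_lhs => rhs; rw [hX]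
    apply LinearMap.ext
    intro v
    simp only [LinearMap.comp_apply, LinearMap.sum_apply, map_sum, LinearMap.smul_apply, map_smul]
    apply Finset.sum_congr rfl
    intro i _
    have h4 := LinearMap.congr_fun (hc i) v
    simp only [LinearMap.comp_apply, LinearMap.smul_apply] at h4
    rw [h4, smul_smul, sq]
  refine ⟨ι, inferInstance, fun i => (i.1 : G → ℂ), c, fun i => i.1.2, ?_, ?_, ?_⟩
  · intro i j hij
    apply Subtype.ext
    apply Subtype.ext
    exact hij
  · intro g
    rw [hX]
    have hcomp : (∑ i, c i • (e i).proj) ∘ₗ ρ g = ∑ i, c i • ((e i).proj ∘ₗ ρ g) := by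
      apply LinearMap.ext
      intro v
      simp only [LinearMap.comp_apply, LinearMap.sum_apply, LinearMap.smul_apply]
    rw [hcomp, map_sum]
    apply Finset.sum_congr rfl
    intro i _
    rw [map_smul, smul_eq_mul, (e i).trace_proj_comp g, he i]
  · intro g
    rw [← LinearMap.comp_assoc, hXX]
    have hcomp : (∑ i, (c i ^ 2) • (e i).proj) ∘ₗ ρ g =
        ∑ i, (c i ^ 2) • ((e i).proj ∘ₗ ρ g) := by
      apply LinearMap.ext
      intro v
      simp only [LinearMap.comp_apply, LinearMap.sum_apply, LinearMap.smul_apply]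
    rw [hcomp, map_sum]
    apply Finset.sum_congr rfl
    intro i _
    rw [map_smul, smul_eq_mul, (e i).trace_proj_comp g, he i]

end Cfsg.Agent.Helper2.Rank3
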