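import Mathlib
import Cfsg.Agent.Helper2.Rank3B

/-!
# Multiplicativity of the central functionals on the intertwiner algebra
-/

set_option autoImplicit false
set_option linter.style.haveILetI false

namespace Cfsg.Agent.Helper2.Rank3

open Module Representation Cfsg.Agent.Helper6

universe u v

variable {G : Type u} [Group G] [Fintype G] {V : Type v} [AddCommGroup V] [Module ℂ V]
  [FiniteDimensional ℂ V] (ρ : Representation ℂ G V)

theorem classInner_sum_smul_irr {ι : Type*} [Fintype ι] (χ : ι → G → ℂ) (c : ι → ℂ)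
    (hirr : ∀ i, Cfsg.IsIrrCharacter G (χ i)) (hinj : Function.Injective χ)
    (ψ : G → ℂ) (hψ : Cfsg.IsIrrCharacter G ψ) :
    (∀ j, χ j = ψ → Cfsg.classInner (fun g => ∑ i, c i * χ i g) ψ = c j) ∧
    ((∀ j, χ j ≠ ψ) → Cfsg.classInner (fun g => ∑ i, c i * χ i g) ψ = 0) := by
  classical
  have e1 : (fun g => ∑ i, c i * χ i g) = ∑ i, c i • χ i := by
    funext g
    rw [Finset.sum_apply]
    rfl
  rw [e1, classInner_sum_left]
  simp_rw [classInner_smul_left]
  constructor
  · intro j hj
    rw [Finset.sum_eq_single j]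
    · rw [hj, classInner_irr_self hψ, mul_one]
    · intro i _ hij
      rw [classInner_irr_ne (hirr i) hψ, mul_zero]
      intro h
      apply hij
      apply hinj
      rw [h, hj]
    · intro h
      exact absurd (Finset.mem_univ j) h
  · intro hall
    apply Finset.sum_eq_zero
    intro i _
    rw [classInner_irr_ne (hirr i) hψ (hall i), mul_zero]

/-- For a multiplicity-free representation, the functional `X ↦ ⟨g ↦ tr (X ρ(g)), ψ⟩` is
compatible with squaring. -/
theorem classInner_trace_sq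
    (hmf : ∀ χ : G → ℂ, Cfsg.IsIrrCharacter G χ →
      Cfsg.classInner ρ.character χ = 0 ∨ Cfsg.classInner ρ.character χ = 1)
    (X : IntertwiningMap ρ ρ) (ψ : G → ℂ) (hψ : Cfsg.IsIrrCharacter G ψ) :
    Cfsg.classInner (fun g => LinearMap.trace ℂ V (X.toLinearMap ∘ₗ X.toLinearMap ∘ₗ ρ g)) ψ =
      (Cfsg.classInner (fun g => LinearMap.trace ℂ V (X.toLinearMap ∘ₗ ρ g)) ψ) ^ 2 := by
  obtain ⟨ι, _, χ, c, hirr, hinj, h1, h2⟩ := spectral ρ hmf X
  rw [funext h1, funext h2]
  obtain ⟨ha1, hb1⟩ := classInner_sum_smul_irr χ c hirr hinj ψ hψ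
  obtain ⟨ha2, hb2⟩ := classInner_sum_smul_irr χ (fun i => c i ^ 2) hirr hinj ψ hψ
  by_cases hex : ∃ j, χ j = ψ
  · obtain ⟨j, hj⟩ := hex
    rw [ha1 j hj, ha2 j hj]
  · push Not at hex
    rw [hb1 hex, hb2 hex]
    norm_num

/-- The function `g ↦ tr (X X ρ(g))` is a class function. -/
theorem isClassFunction_trace_sq
    (hmf : ∀ χ : G → ℂ, Cfsg.IsIrrCharacter G χ →
      Cfsg.classInner ρ.character χ = 0 ∨ Cfsg.classInner ρ.character χ = 1)
    (X : IntertwiningMap ρ ρ) :
    Cfsg.IsClassFunction G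
      (fun g => LinearMap.trace ℂ V (X.toLinearMap ∘ₗ X.toLinearMap ∘ₗ ρ g)) := by
  obtain ⟨ι, _, χ, c, hirr, hinj, h1, h2⟩ := spectral ρ hmf X
  rw [funext h2]
  intro g h
  apply Finset.sum_congr rfl
  intro i _
  rw [(IsCharacter.isClassFunction (IsIrrCharacter.isCharacter (hirr i))) g h]

/-- A sum over a finite type supported on three distinct points. -/
theorem sum_eq_three {α M : Type*} [Fintype α] [AddCommMonoid M] (f : α → M)
    (x y z : α) (hxy : x ≠ y) (hxz : x ≠ z) (hyz : y ≠ z)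
    (h0 : ∀ w, w ≠ x → w ≠ y → w ≠ z → f w = 0) : ∑ w, f w = f x + f y + f z := by
  classical
  rw [← Finset.sum_subset (Finset.subset_univ ({x, y, z} : Finset α))]
  · rw [Finset.sum_insert, Finset.sum_insert, Finset.sum_singleton, add_assoc]
    · simpa using hyz
    · simp only [Finset.mem_insert, Finset.mem_singleton, not_or]
      exact ⟨hxy, hxz⟩
  · intro w _ hw
    simp only [Finset.mem_insert, Finset.mem_singleton, not_or] at hw
    exact h0 w hw.1 hw.2.1 hw.2.2

end Cfsg.Agent.Helper2.Rank3
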