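import Mathlib
import Cfsg.Agent.Helper2.CentAlgC
import Cfsg.Agent.Helper2.GenTransB

/-!
# The adjacency operator of an orbital
-/

set_option autoImplicit false
set_option linter.style.haveILetI false

namespace Cfsg.Agent.Helper2.Rank3

open Module Representation Matrix MulAction Cfsg.Agent.Helper6 Cfsg.Agent.Helper2.CentAlg
  Cfsg.Agent.Helper2.GenTrans

universe u w

variable (G : Type u) [Group G] {Ω : Type w} [Fintype Ω] [DecidableEq Ω] [MulAction G Ω]

/-- The complex orbital matrix. -/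
noncomputable def adjMat (a b : Ω) : Matrix Ω Ω ℂ := (orbMat G a b).map (Int.cast : ℤ → ℂ)

theorem adjMat_apply (a b x y : Ω) : adjMat G a b x y = (orbMat G a b x y : ℂ) := rfl

theorem pMat_eq_permMat (g : G) : pMat Ω g = (permMat g : Matrix Ω Ω ℂ) := by
  ext x y
  rw [pMat_apply]
  unfold permMat
  by_cases h : g⁻¹ • x = y
  · rw [if_pos h, if_pos]
    rw [← h, smul_inv_smul]
  · rw [if_neg h, if_neg]
    intro h'
    apply h
    rw [h', inv_smul_smul]

theorem adjMat_mul_pMat (a b : Ω) (g : G) :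
    adjMat G a b * pMat Ω g = pMat Ω g * adjMat G a b := by
  rw [pMat_eq_permMat]
  exact map_mul_permMat_comm (orbMat G a b) (fun h x y => orbMat_smul G a b h x y) g

/-- The adjacency operator as an intertwiner of the permutation representation. -/
noncomputable def adjInt (a b : Ω) :
    IntertwiningMap (Cfsg.permRep ℂ G Ω) (Cfsg.permRep ℂ G Ω) :=
  (Matrix.toLin' (adjMat G a b)).intertwiningMap_of_isIntertwiningMap _ _ (by
    intro g v
    rw [← toLin'_pMat, ← Matrix.toLin'_mul_apply, ← Matrix.toLin'_mul_apply, adjMat_mul_pMat])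

theorem adjInt_toLinearMap (a b : Ω) :
    (adjInt G a b).toLinearMap = Matrix.toLin' (adjMat G a b) := rfl

theorem trace_adjInt_comp (a b : Ω) (g : G) :
    LinearMap.trace ℂ (Ω → ℂ) ((adjInt G a b).toLinearMap ∘ₗ Cfsg.permRep ℂ G Ω g) =
      orbFun G a b g := by
  rw [adjInt_toLinearMap, ← toLin'_pMat, ← Matrix.toLin'_mul, Matrix.trace_toLin'_eq,
    pMat_eq_permMat]
  unfold adjMat
  rw [trace_map_mul_permMat]
  rfl

theorem trace_adjInt_sq_comp (a b : Ω) (g : G) :
    LinearMap.trace ℂ (Ω → ℂ)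
      ((adjInt G a b).toLinearMap ∘ₗ (adjInt G a b).toLinearMap ∘ₗ Cfsg.permRep ℂ G Ω g) =
      (adjMat G a b * (adjMat G a b * pMat Ω g)).trace := by
  rw [adjInt_toLinearMap, ← toLin'_pMat, ← Matrix.toLin'_mul, ← Matrix.toLin'_mul,
    Matrix.trace_toLin'_eq]

/-- Row sums of the orbital matrix. -/
theorem sum_orbMat_row [IsPretransitive G Ω] (a b x : Ω) :
    ∑ y : Ω, orbMat G a b x y = (Nat.card (orbit (stabilizer G a) b) : ℤ) := by
  classical
  obtain ⟨g, rfl⟩ := exists_smul_eq G a x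
  have h1 : ∑ y : Ω, orbMat G a b (g • a) y = ∑ y : Ω, orbMat G a b a y := by
    rw [← Equiv.sum_comp (MulAction.toPerm g : Equiv.Perm Ω)]
    apply Finset.sum_congr rfl
    intro y _
    exact orbMat_smul G a b g a y
  rw [h1]
  have h2 : ∀ y : Ω, orbMat G a b a y = if y ∈ orbit (stabilizer G a) b then 1 else 0 := by
    intro y
    rw [orbMat_apply]
    congr 1
    apply propext
    constructor
    · rintro ⟨h, h1, h2⟩
      exact ⟨⟨h, h1⟩, h2⟩
    · rintro ⟨⟨h, hh⟩, h2⟩
      exact ⟨h, hh, h2⟩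
  simp_rw [h2]
  rw [Finset.sum_boole, Nat.card_eq_fintype_card, ← Fintype.card_subtype]

/-- The orbital matrix is symmetric when every pair of points is interchanged. -/
theorem orbMat_symm (hsw : ∀ p : Ω × Ω, ∃ s : G, s • p = p.swap) (a b x y : Ω) :
    orbMat G a b y x = orbMat G a b x y := by
  classical
  rw [orbMat_apply, orbMat_apply]
  congr 1
  apply propext
  constructor
  · rintro ⟨h, h1, h2⟩
    obtain ⟨s, hs⟩ := hsw (y, x)
    rw [Prod.ext_iff] at hs
    have hs1 : s • y = x := hs.1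
    have hs2 : s • x = y := hs.2
    exact ⟨s * h, by rw [mul_smul, h1, hs1], by rw [mul_smul, h2, hs2]⟩
  · rintro ⟨h, h1, h2⟩
    obtain ⟨s, hs⟩ := hsw (x, y)
    rw [Prod.ext_iff] at hs
    have hs1 : s • x = y := hs.1
    have hs2 : s • y = x := hs.2
    exact ⟨s * h, by rw [mul_smul, h1, hs1], by rw [mul_smul, h2, hs2]⟩

theorem orbMat_mul_self (a b x y : Ω) :
    orbMat G a b x y * orbMat G a b x y = orbMat G a b x y := by
  classical
  rw [orbMat_apply]
  split_ifs <;> norm_num

/-- The trace of the square of a symmetric orbital matrix. -/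
theorem trace_adjMat_sq [IsPretransitive G Ω]
    (hsw : ∀ p : Ω × Ω, ∃ s : G, s • p = p.swap) (a b : Ω) :
    (adjMat G a b * adjMat G a b).trace =
      (Fintype.card Ω : ℂ) * (Nat.card (orbit (stabilizer G a) b) : ℂ) := by
  unfold Matrix.trace
  simp only [Matrix.diag_apply, Matrix.mul_apply, adjMat_apply]
  have h1 : ∀ x : Ω, ∑ y : Ω, (orbMat G a b x y : ℂ) * (orbMat G a b y x : ℂ) =
      (Nat.card (orbit (stabilizer G a) b) : ℂ) := by
    intro x
    have h2 : ∀ y : Ω, (orbMat G a b x y : ℂ) * (orbMat G a b y x : ℂ) =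
        ((orbMat G a b x y : ℤ) : ℂ) := by
      intro y
      rw [orbMat_symm G hsw a b x y, ← Int.cast_mul, orbMat_mul_self]
    simp_rw [h2]
    rw [← Int.cast_sum, sum_orbMat_row]
    norm_cast
  simp_rw [h1]
  rw [Finset.sum_const, Finset.card_univ, nsmul_eq_mul]

end Cfsg.Agent.Helper2.Rank3
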