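import Mathlib
import Cfsg.Agent.Helper2.Rank3C
import Cfsg.Agent.Helper2.Rank3D
import Cfsg.Agent.Helper2.CentAlgD
import Cfsg.Agent.Helper6.IrrCrit
import Cfsg.Agent.Helper6.OddReal

/-!
# The eigenvalue equations of a rank three group of Wielandt type
-/

set_option autoImplicit false
set_option linter.style.haveILetI false

namespace Cfsg.Agent.Helper2.Rank3

open Module Representation Matrix MulAction Cfsg.Agent.Helper6 Cfsg.Agent.Helper2.CentAlg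
  Cfsg.Agent.Helper2.GenTrans
open scoped ComplexConjugate

universe u w

/-- A rational algebraic integer is an integer. -/
theorem exists_int_of_rat_isIntegral (q : ℚ) (h : IsIntegral ℤ ((q : ℚ) : ℂ)) :
    ∃ z : ℤ, (q : ℂ) = (z : ℂ) := by
  have h' : IsIntegral ℤ q := (isIntegral_algebraMap_iff (algebraMap ℚ ℂ).injective).mp h
  obtain ⟨n, hn⟩ := IsIntegrallyClosed.isIntegral_iff.mp h'
  refine ⟨n, ?_⟩
  have : (n : ℚ) = q := hn
  rw [← this]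
  push_cast
  rfl

variable {G : Type u} [Group G] [Fintype G] {Ω : Type w} [Fintype Ω] [DecidableEq Ω]
  [MulAction G Ω] [IsPretransitive G Ω]

theorem eigen_equations {m : ℕ} (hm : Fintype.card Ω = 2 * m) (a₀ : Ω)
    (hmf : ∀ χ : G → ℂ, Cfsg.IsIrrCharacter G χ →
      Cfsg.classInner (fun g : G => (Nat.card (fixedBy Ω g) : ℂ)) χ = 0 ∨
      Cfsg.classInner (fun g : G => (Nat.card (fixedBy Ω g) : ℂ)) χ = 1)
    (hsw : ∀ p : Ω × Ω, ∃ s : G, s • p = p.swap)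
    (χ₁ χ₂ : G → ℂ) (h₁ : Cfsg.IsIrrCharacter G χ₁) (h₂ : Cfsg.IsIrrCharacter G χ₂)
    (hπ : (fun g : G => (Nat.card (fixedBy Ω g) : ℂ)) = fun g => 1 + χ₁ g + χ₂ g)
    (hd₁ : χ₁ 1 = (m : ℂ) - 1) (hd₂ : χ₂ 1 = m)
    (h1ne : χ₁ ≠ fun _ => 1) (h2ne : χ₂ ≠ fun _ => 1) (h12 : χ₁ ≠ χ₂)
    (b : Ω) (hb : b ≠ a₀) :
    ∃ r s : ℤ,
      (Nat.card (orbit (stabilizer G a₀) b) : ℤ) + ((m : ℤ) - 1) * r + (m : ℤ) * s = 0 ∧
      (Nat.card (orbit (stabilizer G a₀) b) : ℤ) ^ 2 + ((m : ℤ) - 1) * r ^ 2 + (m : ℤ) * s ^ 2 =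
        2 * (m : ℤ) * (Nat.card (orbit (stabilizer G a₀) b) : ℤ) := by
  classical
  haveI : Finite (Cfsg.IrrCharacter G) := irr_finite
  haveI : Fintype (Cfsg.IrrCharacter G) := Fintype.ofFinite _
  set k := Nat.card (orbit (stabilizer G a₀) b) with hk
  set πc : G → ℂ := fun g : G => (Nat.card (fixedBy Ω g) : ℂ) with hπc
  set ρ := Cfsg.permRep ℂ G Ω with hρ
  have hchar : ρ.character = πc := funext CommEnd.permRep_character
  set θ := orbFun G a₀ b with hθ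
  have hθcf := orbFun_isClassFunction G a₀ b
  have h0irr : Cfsg.IsIrrCharacter G (fun _ : G => (1 : ℂ)) := isIrrCharacter_one
  let ψ₀ : Cfsg.IrrCharacter G := ⟨fun _ => 1, h0irr⟩
  let ψ₁ : Cfsg.IrrCharacter G := ⟨χ₁, h₁⟩
  let ψ₂ : Cfsg.IrrCharacter G := ⟨χ₂, h₂⟩
  have h01 : ψ₀ ≠ ψ₁ := fun h => h1ne (congrArg Subtype.val h).symm
  have h02 : ψ₀ ≠ ψ₂ := fun h => h2ne (congrArg Subtype.val h).symm
  have h12' : ψ₁ ≠ ψ₂ := fun h => h12 (congrArg Subtype.val h)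
  -- decomposition of inner products with π
  have hpi : ∀ ψ : G → ℂ, Cfsg.classInner πc ψ =
      Cfsg.classInner (fun _ : G => (1 : ℂ)) ψ + Cfsg.classInner χ₁ ψ + Cfsg.classInner χ₂ ψ := by
    intro ψ
    have : πc = (fun _ : G => (1 : ℂ)) + χ₁ + χ₂ := by
      rw [hπ]
      rfl
    rw [this, classInner_add_left, classInner_add_left]
  have hpi0 : Cfsg.classInner πc (fun _ : G => (1 : ℂ)) = 1 := by
    rw [hpi, classInner_irr_self h0irr, classInner_irr_ne h₁ h0irr h1ne,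
      classInner_irr_ne h₂ h0irr h2ne]
    ring
  have hpi1 : Cfsg.classInner πc χ₁ = 1 := by
    rw [hpi, classInner_irr_self h₁, classInner_irr_ne h0irr h₁ (Ne.symm h1ne),
      classInner_irr_ne h₂ h₁ (Ne.symm h12)]
    ring
  have hpi2 : Cfsg.classInner πc χ₂ = 1 := by
    rw [hpi, classInner_irr_self h₂, classInner_irr_ne h0irr h₂ (Ne.symm h2ne),
      classInner_irr_ne h₁ h₂ h12]
    ring
  have hpiz : ∀ ψ : Cfsg.IrrCharacter G, ψ ≠ ψ₀ → ψ ≠ ψ₁ → ψ ≠ ψ₂ →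
      Cfsg.classInner πc (ψ : G → ℂ) = 0 := by
    intro ψ n0 n1 n2
    rw [hpi, classInner_irr_ne h0irr ψ.2 (fun h => n0 (Subtype.ext h.symm)),
      classInner_irr_ne h₁ ψ.2 (fun h => n1 (Subtype.ext h.symm)),
      classInner_irr_ne h₂ ψ.2 (fun h => n2 (Subtype.ext h.symm))]
    ring
  have hez : ∀ ψ : Cfsg.IrrCharacter G, ψ ≠ ψ₀ → ψ ≠ ψ₁ → ψ ≠ ψ₂ →
      Cfsg.classInner θ (ψ : G → ℂ) = 0 := by
    intro ψ n0 n1 n2
    exact classInner_orbFun_eq_zero G a₀ b (IsIrrCharacter.isCharacter ψ.2) (hpiz ψ n0 n1 n2)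
  have he0 : Cfsg.classInner θ (fun _ : G => (1 : ℂ)) = (k : ℂ) := classInner_orbFun_one a₀ b
  set R := Cfsg.classInner θ χ₁ with hR
  set S := Cfsg.classInner θ χ₂ with hS
  have hRint : IsIntegral ℤ R := classInner_orbFun_isIntegral G a₀ b (IsIrrCharacter.isCharacter h₁)
  have hSint : IsIntegral ℤ S := classInner_orbFun_isIntegral G a₀ b (IsIrrCharacter.isCharacter h₂)
  -- equation (1)
  have eq1 : (k : ℂ) + ((m : ℂ) - 1) * R + (m : ℂ) * S = 0 := by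
    have hexp := classFunction_expansion θ hθcf
    have h1 : θ 1 = ∑ ψ : Cfsg.IrrCharacter G,
        Cfsg.classInner θ (ψ : G → ℂ) * (ψ : G → ℂ) 1 := by
      conv_lhs => rw [hexp]
      rw [Finset.sum_apply]
      apply Finset.sum_congr rfl
      intro ψ _
      rfl
    rw [hθ, orbFun_one G a₀ b hb.symm] at h1
    rw [sum_eq_three _ ψ₀ ψ₁ ψ₂ h01 h02 h12' (fun ψ n0 n1 n2 => by
      rw [hez ψ n0 n1 n2, zero_mul])] at h1
    have h2 : Cfsg.classInner (orbFun G a₀ b) (ψ₀ : G → ℂ) * (ψ₀ : G → ℂ) 1 = (k : ℂ) := by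
      show Cfsg.classInner θ (fun _ : G => (1 : ℂ)) * 1 = _
      rw [mul_one, he0]
    have h3 : Cfsg.classInner (orbFun G a₀ b) (ψ₁ : G → ℂ) * (ψ₁ : G → ℂ) 1 =
        R * ((m : ℂ) - 1) := by
      show Cfsg.classInner θ χ₁ * χ₁ 1 = _
      rw [hd₁]
    have h4 : Cfsg.classInner (orbFun G a₀ b) (ψ₂ : G → ℂ) * (ψ₂ : G → ℂ) 1 = S * (m : ℂ) := by
      show Cfsg.classInner θ χ₂ * χ₂ 1 = _
      rw [hd₂]
    rw [h2, h3, h4] at h1
    linear_combination -h1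
  -- equation (2)
  have hmf' : ∀ χ : G → ℂ, Cfsg.IsIrrCharacter G χ →
      Cfsg.classInner ρ.character χ = 0 ∨ Cfsg.classInner ρ.character χ = 1 := by
    rw [hchar]
    exact hmf
  set X := adjInt G a₀ b with hX
  set θ₂ : G → ℂ := fun g => LinearMap.trace ℂ (Ω → ℂ) (X.toLinearMap ∘ₗ X.toLinearMap ∘ₗ ρ g)
    with hθ₂
  have hθ₂cf : Cfsg.IsClassFunction G θ₂ := isClassFunction_trace_sq ρ hmf' X
  have hθeq : (fun g => LinearMap.trace ℂ (Ω → ℂ) (X.toLinearMap ∘ₗ ρ g)) = θ :=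
    funext (fun g => trace_adjInt_comp G a₀ b g)
  have hsq : ∀ ψ : Cfsg.IrrCharacter G,
      Cfsg.classInner θ₂ (ψ : G → ℂ) = (Cfsg.classInner θ (ψ : G → ℂ)) ^ 2 := by
    intro ψ
    have := classInner_trace_sq ρ hmf' X ψ.1 ψ.2
    rw [hθeq] at this
    exact this
  have hθ₂one : θ₂ 1 = (Fintype.card Ω : ℂ) * (k : ℂ) := by
    rw [hθ₂]
    show LinearMap.trace ℂ (Ω → ℂ) (X.toLinearMap ∘ₗ X.toLinearMap ∘ₗ ρ 1) = _
    rw [hX, hρ, trace_adjInt_sq_comp]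
    have hp1 : pMat Ω (1 : G) = 1 := by
      unfold pMat
      rw [map_one]
      exact LinearMap.toMatrix'_one
    rw [hp1, Matrix.mul_one, trace_adjMat_sq G hsw]
  have eq2 : (k : ℂ) ^ 2 + ((m : ℂ) - 1) * R ^ 2 + (m : ℂ) * S ^ 2 = 2 * (m : ℂ) * (k : ℂ) := by
    have hexp := classFunction_expansion θ₂ hθ₂cf
    have h1 : θ₂ 1 = ∑ ψ : Cfsg.IrrCharacter G,
        Cfsg.classInner θ₂ (ψ : G → ℂ) * (ψ : G → ℂ) 1 := by
      conv_lhs => rw [hexp]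
      rw [Finset.sum_apply]
      apply Finset.sum_congr rfl
      intro ψ _
      rfl
    rw [hθ₂one] at h1
    simp_rw [hsq] at h1
    rw [sum_eq_three _ ψ₀ ψ₁ ψ₂ h01 h02 h12' (fun ψ n0 n1 n2 => by
      rw [hez ψ n0 n1 n2]; ring)] at h1
    have h2 : Cfsg.classInner θ (ψ₀ : G → ℂ) ^ 2 * (ψ₀ : G → ℂ) 1 = (k : ℂ) ^ 2 := by
      show Cfsg.classInner θ (fun _ : G => (1 : ℂ)) ^ 2 * 1 = _
      rw [mul_one, he0]
    have h3 : Cfsg.classInner θ (ψ₁ : G → ℂ) ^ 2 * (ψ₁ : G → ℂ) 1 = R ^ 2 * ((m : ℂ) - 1) := by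
      show Cfsg.classInner θ χ₁ ^ 2 * χ₁ 1 = _
      rw [hd₁]
    have h4 : Cfsg.classInner θ (ψ₂ : G → ℂ) ^ 2 * (ψ₂ : G → ℂ) 1 = S ^ 2 * (m : ℂ) := by
      show Cfsg.classInner θ χ₂ ^ 2 * χ₂ 1 = _
      rw [hd₂]
    rw [h2, h3, h4, hm] at h1
    push_cast at h1
    linear_combination -h1
  -- equation (3): `k + R + S` is rational
  have eq3 : ∃ q : ℚ, (k : ℂ) + R + S = (q : ℂ) := by
    have h1 := classInner_self_expansion θ hθcf πc
    rw [sum_eq_three _ ψ₀ ψ₁ ψ₂ h01 h02 h12' (fun ψ n0 n1 n2 => by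
      rw [hez ψ n0 n1 n2, zero_mul])] at h1
    have h2 : Cfsg.classInner (ψ₀ : G → ℂ) πc = 1 := by
      rw [classInner_conj_symm πc (ψ₀ : G → ℂ)]
      show conj (Cfsg.classInner πc (fun _ : G => (1 : ℂ))) = 1
      rw [hpi0, map_one]
    have h3 : Cfsg.classInner (ψ₁ : G → ℂ) πc = 1 := by
      rw [classInner_conj_symm πc (ψ₁ : G → ℂ)]
      show conj (Cfsg.classInner πc χ₁) = 1
      rw [hpi1, map_one]
    have h4 : Cfsg.classInner (ψ₂ : G → ℂ) πc = 1 := by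
      rw [classInner_conj_symm πc (ψ₂ : G → ℂ)]
      show conj (Cfsg.classInner πc χ₂) = 1
      rw [hpi2, map_one]
    rw [h2, h3, h4] at h1
    have h5 : Cfsg.classInner θ (ψ₀ : G → ℂ) = (k : ℂ) := he0
    have h6 : Cfsg.classInner θ (ψ₁ : G → ℂ) = R := rfl
    have h7 : Cfsg.classInner θ (ψ₂ : G → ℂ) = S := rfl
    rw [h5, h6, h7, mul_one, mul_one, mul_one] at h1
    refine ⟨(Nat.card G : ℚ)⁻¹ * ∑ g : G,
      ((∑ x : Ω, orbMat G a₀ b x (g • x) : ℤ) : ℚ) * (Nat.card (fixedBy Ω g) : ℚ), ?_⟩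
    rw [← h1, classInner_def]
    push_cast
    congr 1
    apply Finset.sum_congr rfl
    intro g _
    rw [hπc]
    simp only [Complex.conj_natCast]
    rfl
  obtain ⟨q, hq⟩ := eq3
  -- `R + S` is an integer
  have hRS : ∃ c : ℤ, R + S = (c : ℂ) := by
    have h1 : R + S = (((q - (k : ℚ) : ℚ)) : ℂ) := by
      push_cast
      rw [← hq]
      ring
    have h2 : IsIntegral ℤ (((q - (k : ℚ) : ℚ)) : ℂ) := by
      rw [← h1]
      exact hRint.add hSint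
    obtain ⟨c, hc⟩ := exists_int_of_rat_isIntegral _ h2
    exact ⟨c, by rw [h1, hc]⟩
  obtain ⟨c, hc⟩ := hRS
  -- hence so are `R` and `S`
  have hSz : S = ((-(k : ℤ) - ((m : ℤ) - 1) * c : ℤ) : ℂ) := by
    push_cast
    have : R = (c : ℂ) - S := by rw [← hc]; ring
    rw [this] at eq1
    linear_combination eq1
  have hRz : R = ((c - (-(k : ℤ) - ((m : ℤ) - 1) * c) : ℤ) : ℂ) := by
    have : R = (c : ℂ) - S := by rw [← hc]; ring
    rw [this, hSz]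
    push_cast
    ring
  refine ⟨c - (-(k : ℤ) - ((m : ℤ) - 1) * c), -(k : ℤ) - ((m : ℤ) - 1) * c, ?_, ?_⟩
  · have h := eq1
    rw [hRz, hSz] at h
    exact_mod_cast h
  · have h := eq2
    rw [hRz, hSz] at h
    exact_mod_cast h

end Cfsg.Agent.Helper2.Rank3
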