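import Mathlib

/-!
# Suborbits of primitive groups
-/

set_option autoImplicit false
set_option linter.style.haveILetI false

namespace Cfsg.Agent.Helper2.Rank3

open MulAction

variable {G : Type*} [Group G] [Finite G] {Ω : Type*} [MulAction G Ω]

/-- In a primitive action of a finite group, a point stabiliser fixing a second point fixes
every point. -/
theorem stabilizer_fixes_all (hprim : IsPreprimitive G Ω) (a c : Ω) (hac : a ≠ c)
    (hfix : stabilizer G a ≤ stabilizer G c) (x : Ω) : stabilizer G a ≤ stabilizer G x := by
  haveI := hprim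
  haveI : Nontrivial Ω := ⟨⟨a, c, hac⟩⟩
  haveI : IsPretransitive G Ω := hprim.toIsPretransitive
  set H := stabilizer G a with hH
  have hco : IsCoatom H := IsPreprimitive.isCoatom_stabilizer_of_isPreprimitive (G := G) a
  have hconj : ∀ t : G, stabilizer G (t • a) = H.map (MulAut.conj t).toMonoidHom :=
    fun t => stabilizer_smul_eq_stabilizer_map_conj t a
  have hcard : ∀ t : G, Nat.card (stabilizer G (t • a)) = Nat.card H := by
    intro t
    rw [hconj t]
    exact Subgroup.card_map_of_injective (MulAut.conj t).injective
  obtain ⟨g, hg⟩ := exists_smul_eq G a c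
  have hHc : H = stabilizer G c := by
    apply Subgroup.eq_of_le_of_card_ge hfix
    rw [← hg, hcard g]
  have hgH : H.map (MulAut.conj g).toMonoidHom = H := by
    rw [← hconj g, hg, ← hHc]
  have hgN : g ∈ Subgroup.normalizer (H : Set G) := by
    rw [Subgroup.mem_normalizer_iff]
    intro y
    constructor
    · intro hy
      rw [← hgH]
      exact ⟨y, hy, rfl⟩
    · intro hy
      rw [← hgH] at hy
      obtain ⟨z, hz, hzy⟩ := hy
      have : z = y := by
        have h1 : g * z * g⁻¹ = g * y * g⁻¹ := hzy
        exact mul_left_cancel (mul_right_cancel h1)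
      rw [← this]
      exact hz
  have hgnot : g ∉ H := by
    intro hgH'
    apply hac
    rw [← hg]
    exact (mem_stabilizer_iff.mp hgH').symm
  have hlt : H < Subgroup.normalizer (H : Set G) := by
    refine lt_of_le_of_ne Subgroup.le_normalizer ?_
    intro heq
    apply hgnot
    rw [heq]
    exact hgN
  have htop := hco.2 _ hlt
  obtain ⟨t, ht⟩ := exists_smul_eq G a x
  rw [← ht, hconj t]
  have htN : t ∈ Subgroup.normalizer (H : Set G) := by
    rw [htop]
    trivial
  intro y hy
  refine ⟨t⁻¹ * y * t, ?_, ?_⟩
  · have := (Subgroup.mem_normalizer_iff.mp (inv_mem htN) y).mp hy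
    rwa [inv_inv] at this
  · show t * (t⁻¹ * y * t) * t⁻¹ = y
    group

/-- If a group acts trivially, the orbit space is the set itself. -/
theorem card_quotient_of_trivial {H : Type*} [Group H] {X : Type*} [MulAction H X]
    (htriv : ∀ (h : H) (x : X), h • x = x) :
    Nat.card (orbitRel.Quotient H X) = Nat.card X := by
  apply Nat.card_congr
  refine (Equiv.ofBijective (fun x : X => (Quotient.mk'' x : orbitRel.Quotient H X))
    ⟨?_, ?_⟩).symm
  · intro x y hxy
    have h1 : x ∈ orbit H y := by
      have := Quotient.exact' hxy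
      exact this
    obtain ⟨h, hh⟩ := h1
    rw [← hh]
    exact htriv h y
  · intro q
    induction q using Quotient.inductionOn' with
    | h x => exact ⟨x, rfl⟩

/-- A non-trivial suborbit of a primitive group of rank different from the degree has at
least two points. -/
theorem two_le_suborbit (hprim : IsPreprimitive G Ω) (a b : Ω) (hab : b ≠ a)
    (hrank : Nat.card (orbitRel.Quotient (stabilizer G a) Ω) ≠ Nat.card Ω) :
    2 ≤ Nat.card (orbit (stabilizer G a) b) := by
  by_contra hlt
  push Not at hlt
  apply hrank
  apply card_quotient_of_trivial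
  -- the orbit of `b` is `{b}`
  have hsub : ∀ h : stabilizer G a, h • b = b := by
    intro h
    by_contra hne
    haveI : Finite (orbit (stabilizer G a) b) := Set.finite_range _ |>.to_subtype
    have h2 : 1 < Nat.card (orbit (stabilizer G a) b) := by
      rw [Finite.one_lt_card_iff_nontrivial]
      exact ⟨⟨⟨h • b, mem_orbit _ _⟩, ⟨b, mem_orbit_self _⟩, fun heq => hne (congrArg Subtype.val heq)⟩⟩
    omega
  have hfix : stabilizer G a ≤ stabilizer G b := by
    intro h hh
    rw [mem_stabilizer_iff]
    exact hsub ⟨h, hh⟩
  intro h x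
  have := stabilizer_fixes_all hprim a b (Ne.symm hab) hfix x h.2
  exact mem_stabilizer_iff.mp this

/-- In rank at least three there is a point outside `{a} ∪ orbit b`. -/
theorem exists_third (a b : Ω)
    (hrank : 3 ≤ Nat.card (orbitRel.Quotient (stabilizer G a) Ω)) [Finite Ω] :
    ∃ c : Ω, c ≠ a ∧ c ∉ orbit (stabilizer G a) b := by
  by_contra hcon
  push Not at hcon
  have hsurj : Function.Surjective (fun i : Bool =>
      (if i then (Quotient.mk'' a : orbitRel.Quotient (stabilizer G a) Ω)
        else Quotient.mk'' b)) := by
    intro q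
    induction q using Quotient.inductionOn' with
    | h x =>
      by_cases hx : x = a
      · exact ⟨true, by rw [hx]; rfl⟩
      · refine ⟨false, ?_⟩
        have := hcon x hx
        show Quotient.mk'' b = Quotient.mk'' x
        exact (Quotient.sound' this).symm
  have := Nat.card_le_card_of_surjective _ hsurj
  have h2 : Nat.card Bool = 2 := by simp
  rw [h2] at this
  have h3 : Nat.card (Quotient (orbitRel (stabilizer G a) Ω)) =
      Nat.card (orbitRel.Quotient (stabilizer G a) Ω) := rfl
  omega

/-- The degree is at least `1 + |orbit b| + |orbit c|` for points in distinct non-trivial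
suborbits. -/
theorem card_ge_of_three [Finite Ω] (a b c : Ω) (hb : b ≠ a) (hc : c ≠ a)
    (hcb : c ∉ orbit (stabilizer G a) b) :
    1 + Nat.card (orbit (stabilizer G a) b) + Nat.card (orbit (stabilizer G a) c) ≤
      Nat.card Ω := by
  classical
  set H := stabilizer G a with hH
  have hdisj1 : Disjoint ({a} : Set Ω) (orbit H b) := by
    rw [Set.disjoint_singleton_left]
    rintro ⟨h, hh⟩
    apply hb
    have h1 : (h : G) • b = a := hh
    have h2 : (h : G)⁻¹ • a = a := by
      have := (inv_mem h.2 : (h : G)⁻¹ ∈ H)
      exact mem_stabilizer_iff.mp this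
    rw [← inv_smul_smul (h : G) b, h1]
    exact h2
  have hdisj2 : Disjoint (({a} : Set Ω) ∪ orbit H b) (orbit H c) := by
    rw [Set.disjoint_union_left]
    constructor
    · rw [Set.disjoint_singleton_left]
      rintro ⟨h, hh⟩
      apply hc
      have h1 : (h : G) • c = a := hh
      have h2 : (h : G)⁻¹ • a = a := by
        have := (inv_mem h.2 : (h : G)⁻¹ ∈ H)
        exact mem_stabilizer_iff.mp this
      rw [← inv_smul_smul (h : G) c, h1]
      exact h2
    · rw [Set.disjoint_left]
      intro x hxb hxc
      apply hcb
      have h3 : orbit H x = orbit H b := orbit_eq_iff.mpr hxb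
      have h4 : orbit H x = orbit H c := orbit_eq_iff.mpr hxc
      rw [← h3, h4]
      exact mem_orbit_self c
  have h5 := Set.ncard_union_eq hdisj2 (Set.toFinite _) (Set.toFinite _)
  have h6 := Set.ncard_union_eq hdisj1 (Set.toFinite _) (Set.toFinite _)
  rw [h6, Set.ncard_singleton] at h5
  have h7 : (({a} : Set Ω) ∪ orbit H b ∪ orbit H c).ncard ≤ Nat.card Ω := Set.ncard_le_card _
  rw [Nat.card_coe_set_eq, Nat.card_coe_set_eq]
  omega

end Cfsg.Agent.Helper2.Rank3
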