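import Mathlib
import Cfsg.Agent.Helper2.Rank3E
import Cfsg.Agent.Helper2.Rank3F
import Cfsg.Agent.Helper2.Rank3G
import Cfsg.Agent.Helper2.GenTransD
import Cfsg.Agent.Helper2.CentAlgG
import Cfsg.Agent.Helper6.NormalInd

/-!
# Rank three groups of Wielandt type
-/

set_option autoImplicit false
set_option linter.style.haveILetI false

namespace Cfsg.Agent.Helper2.Rank3

open MulAction Cfsg.Agent.Helper6 Cfsg.Agent.Helper2.CentAlg Cfsg.Agent.Helper2.GenTrans
open scoped ComplexConjugate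

universe u w

variable {G : Type u} [Group G] [Fintype G] {Ω : Type w} [Fintype Ω] [MulAction G Ω]

theorem wielandt_type (hprim : IsPreprimitive G Ω) {m : ℕ} (hm : Fintype.card Ω = 2 * m)
    (a₀ : Ω) (hrank : Nat.card (orbitRel.Quotient (stabilizer G a₀) Ω) = 3)
    (χ₁ χ₂ : G → ℂ) (h₁ : Cfsg.IsIrrCharacter G χ₁) (h₂ : Cfsg.IsIrrCharacter G χ₂)
    (hπ : (fun g : G => (Nat.card (fixedBy Ω g) : ℂ)) = fun g => 1 + χ₁ g + χ₂ g)
    (hd₁ : χ₁ 1 = (m : ℂ) - 1) (hd₂ : χ₂ 1 = m) :
    ∃ a : ℕ, 0 < a ∧ m = 2 * a ^ 2 + 2 * a + 1 ∧ ∀ b : Ω, b ≠ a₀ →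
      Nat.card (orbit (stabilizer G a₀) b) = a * (2 * a + 1) ∨
      Nat.card (orbit (stabilizer G a₀) b) = (a + 1) * (2 * a + 1) := by
  classical
  haveI : IsPretransitive G Ω := hprim.toIsPretransitive
  haveI : Nonempty Ω := ⟨a₀⟩
  haveI : Finite (Cfsg.IrrCharacter G) := irr_finite
  haveI : Fintype (Cfsg.IrrCharacter G) := Fintype.ofFinite _
  set πc : G → ℂ := fun g : G => (Nat.card (fixedBy Ω g) : ℂ) with hπc
  have h0irr : Cfsg.IsIrrCharacter G (fun _ : G => (1 : ℂ)) := isIrrCharacter_one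
  have hmf := mult_free_of_rank_le_five (G := G) (Ω := Ω) a₀ (by rw [hrank]; norm_num)
  have hpi : ∀ ψ : G → ℂ, Cfsg.classInner πc ψ =
      Cfsg.classInner (fun _ : G => (1 : ℂ)) ψ + Cfsg.classInner χ₁ ψ + Cfsg.classInner χ₂ ψ := by
    intro ψ
    have : πc = (fun _ : G => (1 : ℂ)) + χ₁ + χ₂ := by
      rw [hπ]
      rfl
    rw [this, classInner_add_left, classInner_add_left]
  have hpione : Cfsg.classInner πc (fun _ : G => (1 : ℂ)) = 1 := classInner_permChar_one
  have hirr01 : ∀ {φ ψ : G → ℂ}, Cfsg.IsIrrCharacter G φ → Cfsg.IsIrrCharacter G ψ →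
      Cfsg.classInner φ ψ = 0 ∨ Cfsg.classInner φ ψ = 1 := by
    intro φ ψ hφ hψ
    by_cases h : φ = ψ
    · right; rw [h]; exact classInner_irr_self hψ
    · left; exact classInner_irr_ne hφ hψ h
  -- the three constituents are distinct
  have h1ne : χ₁ ≠ fun _ => 1 := by
    intro h
    have h3 := hpi (fun _ : G => (1 : ℂ))
    rw [hpione, h, classInner_irr_self h0irr] at h3
    rcases hirr01 h₂ h0irr with h4 | h4
    · rw [h4] at h3; norm_num at h3
    · rw [h4] at h3; norm_num at h3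
  have h2ne : χ₂ ≠ fun _ => 1 := by
    intro h
    have h3 := hpi (fun _ : G => (1 : ℂ))
    rw [hpione, h, classInner_irr_self h0irr] at h3
    rcases hirr01 h₁ h0irr with h4 | h4
    · rw [h4] at h3; norm_num at h3
    · rw [h4] at h3; norm_num at h3
  have h12 : χ₁ ≠ χ₂ := by
    intro h
    rw [h, hd₂] at hd₁
    have : (m : ℂ) - 1 = m := hd₁.symm
    have h3 : (-1 : ℂ) = 0 := by linear_combination this
    norm_num at h3
  -- constituents
  have hconst : ∀ ψ : G → ℂ, Cfsg.IsIrrCharacter G ψ → Cfsg.classInner πc ψ ≠ 0 →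
      ψ = (fun _ => 1) ∨ ψ = χ₁ ∨ ψ = χ₂ := by
    intro ψ hψ hne
    by_contra hcon
    push Not at hcon
    apply hne
    rw [hpi, classInner_irr_ne h0irr hψ (Ne.symm hcon.1), classInner_irr_ne h₁ hψ (Ne.symm hcon.2.1),
      classInner_irr_ne h₂ hψ (Ne.symm hcon.2.2)]
    ring
  -- reality
  have hconjπ : ∀ ψ : G → ℂ, Cfsg.classInner πc (fun g => conj (ψ g)) =
      conj (Cfsg.classInner πc ψ) := by
    intro ψ
    rw [classInner_def, classInner_def, map_mul, map_inv₀, Complex.conj_natCast, map_sum]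
    congr 1
    apply Finset.sum_congr rfl
    intro g _
    simp only [map_mul, Complex.conj_conj, hπc, Complex.conj_natCast]
  have hpi1 : Cfsg.classInner πc χ₁ = 1 := by
    rw [hpi, classInner_irr_self h₁, classInner_irr_ne h0irr h₁ (Ne.symm h1ne),
      classInner_irr_ne h₂ h₁ (Ne.symm h12)]
    ring
  have hpi2 : Cfsg.classInner πc χ₂ = 1 := by
    rw [hpi, classInner_irr_self h₂, classInner_irr_ne h0irr h₂ (Ne.symm h2ne),
      classInner_irr_ne h₁ h₂ h12]
    ring
  have hreal1 : ∀ g : G, conj (χ₁ g) = χ₁ g := by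
    have hc := conj_isIrr h₁
    have hne : Cfsg.classInner πc (fun g => conj (χ₁ g)) ≠ 0 := by
      rw [hconjπ, hpi1, map_one]
      exact one_ne_zero
    rcases hconst _ hc hne with h | h | h
    · exfalso
      apply h1ne
      funext g
      have := congrFun h g
      have h3 := congrArg conj this
      rw [Complex.conj_conj, map_one] at h3
      exact h3
    · intro g
      exact congrFun h g
    · exfalso
      have := congrFun h 1
      rw [hd₁, hd₂, map_sub, Complex.conj_natCast, map_one] at this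
      have h3 : (-1 : ℂ) = 0 := by linear_combination this
      norm_num at h3
  have hreal2 : ∀ g : G, conj (χ₂ g) = χ₂ g := by
    have hc := conj_isIrr h₂
    have hne : Cfsg.classInner πc (fun g => conj (χ₂ g)) ≠ 0 := by
      rw [hconjπ, hpi2, map_one]
      exact one_ne_zero
    rcases hconst _ hc hne with h | h | h
    · exfalso
      apply h2ne
      funext g
      have := congrFun h g
      have h3 := congrArg conj this
      rw [Complex.conj_conj, map_one] at h3
      exact h3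
    · exfalso
      have := congrFun h 1
      rw [hd₁, hd₂, Complex.conj_natCast] at this
      have h3 : (1 : ℂ) = 0 := by linear_combination this
      norm_num at h3
    · intro g
      exact congrFun h g
  -- generous transitivity
  have hsw : ∀ p : Ω × Ω, ∃ s : G, s • p = p.swap := by
    apply swap_of_mult_free_real
    intro χ hχ hne
    refine ⟨(hmf χ hχ).resolve_left hne, ?_⟩
    rcases hconst χ hχ hne with h | h | h
    · intro g
      rw [h, map_one]
    · rw [h]; exact hreal1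
    · rw [h]; exact hreal2
  -- sizes of suborbits
  have hcardΩ : Nat.card Ω = 2 * m := by rw [Nat.card_eq_fintype_card, hm]
  have hrank' : Nat.card (orbitRel.Quotient (stabilizer G a₀) Ω) ≠ Nat.card Ω := by
    rw [hrank, hcardΩ]
    omega
  have hsize : ∀ b : Ω, b ≠ a₀ → 2 ≤ Nat.card (orbit (stabilizer G a₀) b) ∧
      Nat.card (orbit (stabilizer G a₀) b) + 3 ≤ 2 * m := by
    intro b hb
    have h2 := two_le_suborbit hprim a₀ b hb hrank'
    obtain ⟨c, hc, hcb⟩ := exists_third (G := G) a₀ b (by rw [hrank])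
    have h3 := two_le_suborbit hprim a₀ c hc hrank'
    have h4 := card_ge_of_three (G := G) a₀ b c hb hc hcb
    rw [hcardΩ] at h4
    exact ⟨h2, by omega⟩
  have hdata : ∀ b : Ω, b ≠ a₀ → ∃ a : ℕ, 0 < a ∧ m = 2 * a ^ 2 + 2 * a + 1 ∧
      (Nat.card (orbit (stabilizer G a₀) b) = a * (2 * a + 1) ∨
        Nat.card (orbit (stabilizer G a₀) b) = (a + 1) * (2 * a + 1)) := by
    intro b hb
    obtain ⟨r, s, e1, e2⟩ := eigen_equations hm a₀ hmf hsw χ₁ χ₂ h₁ h₂ hπ hd₁ hd₂ h1ne h2ne h12 b hb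
    obtain ⟨hk2, hk3⟩ := hsize b hb
    have hm2 : 2 ≤ m := by omega
    exact wielandt_arith m _ r s hm2 hk2 hk3 e1 e2
  -- a point different from `a₀`
  obtain ⟨b₁, hb₁⟩ : ∃ b : Ω, b ≠ a₀ := by
    by_contra hcon
    push Not at hcon
    have : Nat.card Ω = 1 := by
      rw [Nat.card_eq_one_iff_unique]
      exact ⟨⟨fun x y => by rw [hcon x, hcon y]⟩, ⟨a₀⟩⟩
    have h5 : Nat.card (orbitRel.Quotient (stabilizer G a₀) Ω) ≤ Nat.card Ω :=
      Nat.card_le_card_of_surjective _ (Quotient.mk''_surjective)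
    omega
  obtain ⟨a, ha, hma, -⟩ := hdata b₁ hb₁
  refine ⟨a, ha, hma, ?_⟩
  intro b hb
  obtain ⟨a', ha', hma', hka'⟩ := hdata b hb
  have : a = a' := wielandt_param_unique a a' (by rw [← hma, ← hma'])
  rw [this]
  exact hka'

end Cfsg.Agent.Helper2.Rank3
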