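import Mathlib
import Cfsg.Prelude.Def_Characters
import Cfsg.Prelude.Def_Blocks
import Cfsg.Agent.Helper6.ZasChE
import Cfsg.Agent.Helper6.IrrDegree
import Cfsg.Agent.Helper6.BlockPart

/-!
# Multiplicities of irreducible constituents: characters of norm two, degree bounds
-/

set_option autoImplicit false
set_option linter.style.haveILetI false
set_option linter.unusedSectionVars false

namespace Cfsg.Agent.Helper2.Sh3Sim

open Cfsg.Agent.Helper6
open scoped ComplexConjugate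

universe u

variable {X : Type u} [Group X] [Fintype X] [Fintype (Cfsg.IrrCharacter X)]

/-- multiplicity data of a character -/
theorem exists_mult {Ψ : X → ℂ} (hΨ : Cfsg.IsCharacter X Ψ) :
    ∃ n : Cfsg.IrrCharacter X → ℕ,
      (∀ χ : Cfsg.IrrCharacter X, Cfsg.classInner Ψ (χ : X → ℂ) = n χ) ∧
      Ψ = ∑ χ : Cfsg.IrrCharacter X, (n χ : ℂ) • (χ : X → ℂ) ∧
      Cfsg.charDegree Ψ = ∑ χ : Cfsg.IrrCharacter X, n χ * Cfsg.charDegree (χ : X → ℂ) ∧
      Cfsg.classInner Ψ Ψ = ((∑ χ : Cfsg.IrrCharacter X, n χ * n χ : ℕ) : ℂ) := by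
  classical
  have hn : ∀ Ξ : Cfsg.IrrCharacter X, ∃ n : ℕ, Cfsg.classInner Ψ (Ξ : X → ℂ) = n := fun Ξ =>
    classInner_char_char_nat hΨ (IsIrrCharacter.isCharacter Ξ.2)
  choose n hn using hn
  have hexp : Ψ = ∑ χ : Cfsg.IrrCharacter X, (n χ : ℂ) • (χ : X → ℂ) := by
    have := classFunction_expansion Ψ (IsCharacter.isClassFunction hΨ)
    simp_rw [hn] at this
    exact this
  refine ⟨n, hn, hexp, ?_, ?_⟩
  · have h1 : (Cfsg.charDegree Ψ : ℂ) =
        ((∑ χ : Cfsg.IrrCharacter X, n χ * Cfsg.charDegree (χ : X → ℂ) : ℕ) : ℂ) := by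
      rw [charDegree_cast_of_isCharacter hΨ]
      conv_lhs => rw [hexp]
      rw [Finset.sum_apply]
      push_cast
      apply Finset.sum_congr rfl
      intro χ _
      rw [charDegree_cast_of_isCharacter (IsIrrCharacter.isCharacter χ.2)]
      rfl
    exact_mod_cast h1
  · rw [classInner_self_eq_sum_irr Ψ (IsCharacter.isClassFunction hΨ)]
    push_cast
    apply Finset.sum_congr rfl
    intro Ξ _
    rw [hn Ξ, Complex.conj_natCast]

omit [Group X] [Fintype X] [Fintype (Cfsg.IrrCharacter X)] in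
theorem sum_sq_eq_two {ι : Type*} [Fintype ι] [DecidableEq ι] (f : ι → ℕ)
    (h : ∑ i, f i * f i = 2) :
    ∃ i j : ι, i ≠ j ∧ f i = 1 ∧ f j = 1 ∧ ∀ k : ι, k ≠ i → k ≠ j → f k = 0 := by
  have hle : ∀ i : ι, f i * f i ≤ 2 := by
    intro i
    rw [← h]
    exact Finset.single_le_sum (f := fun i => f i * f i) (fun _ _ => Nat.zero_le _)
      (Finset.mem_univ i)
  have hle1 : ∀ i : ι, f i ≤ 1 := by
    intro i
    have := hle i
    by_contra hcon
    have h2 : 2 ≤ f i := by omega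
    nlinarith
  have hsq : ∀ i : ι, f i * f i = f i := by
    intro i
    have := hle1 i
    interval_cases f i <;> rfl
  simp_rw [hsq] at h
  have hex : ∃ i : ι, f i ≠ 0 := by
    by_contra hcon
    push_neg at hcon
    rw [Finset.sum_eq_zero (fun i _ => hcon i)] at h
    omega
  obtain ⟨i, hi⟩ := hex
  have hi1 : f i = 1 := by
    have := hle1 i
    omega
  rw [← Finset.add_sum_erase Finset.univ f (Finset.mem_univ i), hi1] at h
  have h' : ∑ x ∈ Finset.univ.erase i, f x = 1 := by omega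
  have hex2 : ∃ j ∈ Finset.univ.erase i, f j ≠ 0 := by
    by_contra hcon
    push_neg at hcon
    rw [Finset.sum_eq_zero hcon] at h'
    omega
  obtain ⟨j, hj, hjf⟩ := hex2
  have hj1 : f j = 1 := by
    have := hle1 j
    omega
  rw [← Finset.add_sum_erase _ f hj, hj1] at h'
  have h'' : ∑ x ∈ (Finset.univ.erase i).erase j, f x = 0 := by omega
  refine ⟨i, j, ?_, hi1, hj1, ?_⟩
  · intro hij
    rw [← hij] at hj
    exact (Finset.notMem_erase i _) hj
  · intro k hki hkj
    have hk : k ∈ (Finset.univ.erase i).erase j := by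
      rw [Finset.mem_erase, Finset.mem_erase]
      exact ⟨hkj, hki, Finset.mem_univ _⟩
    exact (Finset.sum_eq_zero_iff.mp h'') k hk

/-- a character of norm two is the sum of two distinct irreducible characters -/
theorem exists_two_irr_of_norm_two {Ψ : X → ℂ} (hΨ : Cfsg.IsCharacter X Ψ)
    (h2 : Cfsg.classInner Ψ Ψ = 2) :
    ∃ χ₁ χ₂ : Cfsg.IrrCharacter X, χ₁ ≠ χ₂ ∧ Ψ = (χ₁ : X → ℂ) + (χ₂ : X → ℂ) ∧
      Cfsg.classInner Ψ (χ₁ : X → ℂ) = 1 ∧ Cfsg.classInner Ψ (χ₂ : X → ℂ) = 1 := by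
  classical
  obtain ⟨n, hn, hexp, -, hnorm⟩ := exists_mult hΨ
  rw [h2] at hnorm
  have hnat : ∑ χ : Cfsg.IrrCharacter X, n χ * n χ = 2 := by exact_mod_cast hnorm.symm
  obtain ⟨i, j, hij, hi, hj, hk⟩ := sum_sq_eq_two n hnat
  refine ⟨i, j, hij, ?_, by rw [hn i, hi, Nat.cast_one], by rw [hn j, hj, Nat.cast_one]⟩
  conv_lhs => rw [hexp]
  rw [← Finset.add_sum_erase Finset.univ _ (Finset.mem_univ i)]
  have hj' : j ∈ Finset.univ.erase i := by
    rw [Finset.mem_erase]
    exact ⟨Ne.symm hij, Finset.mem_univ _⟩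
  rw [← Finset.add_sum_erase _ _ hj', hi, hj, Nat.cast_one, one_smul, one_smul]
  rw [Finset.sum_eq_zero, add_zero]
  intro k hk'
  rw [Finset.mem_erase, Finset.mem_erase] at hk'
  rw [hk k hk'.2.1 hk'.1, Nat.cast_zero, zero_smul]

/-- the degree of a character is at least the sum of the contributions of two distinct
irreducible constituents -/
theorem degree_ge_two_constituents {Ψ : X → ℂ} (hΨ : Cfsg.IsCharacter X Ψ)
    (φ θ : Cfsg.IrrCharacter X) (hne : φ ≠ θ) (m₁ m₂ : ℕ)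
    (h1 : Cfsg.classInner Ψ (φ : X → ℂ) = m₁) (h2 : Cfsg.classInner Ψ (θ : X → ℂ) = m₂) :
    m₁ * Cfsg.charDegree (φ : X → ℂ) + m₂ * Cfsg.charDegree (θ : X → ℂ) ≤ Cfsg.charDegree Ψ := by
  classical
  obtain ⟨n, hn, -, hdeg, -⟩ := exists_mult hΨ
  have e1 : n φ = m₁ := by
    have := (hn φ).symm.trans h1
    exact_mod_cast this
  have e2 : n θ = m₂ := by
    have := (hn θ).symm.trans h2
    exact_mod_cast this
  rw [hdeg, ← Finset.add_sum_erase Finset.univ _ (Finset.mem_univ φ)]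
  have hθ' : θ ∈ Finset.univ.erase φ := by
    rw [Finset.mem_erase]
    exact ⟨Ne.symm hne, Finset.mem_univ _⟩
  rw [← Finset.add_sum_erase _ _ hθ', e1, e2]
  omega

/-- a character whose degree is that of an irreducible constituent is that constituent -/
theorem eq_of_degree_eq {Ψ : X → ℂ} (hΨ : Cfsg.IsCharacter X Ψ)
    (φ : Cfsg.IrrCharacter X) (h1 : Cfsg.classInner Ψ (φ : X → ℂ) = 1)
    (hdeg : Cfsg.charDegree Ψ = Cfsg.charDegree (φ : X → ℂ)) : Ψ = (φ : X → ℂ) := by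
  classical
  obtain ⟨n, hn, hexp, hd, -⟩ := exists_mult hΨ
  have e1 : n φ = 1 := by
    have := (hn φ).symm.trans h1
    exact_mod_cast this
  rw [← Finset.add_sum_erase Finset.univ _ (Finset.mem_univ φ), e1, one_mul, hdeg] at hd
  have h0 : ∑ χ ∈ Finset.univ.erase φ, n χ * Cfsg.charDegree (χ : X → ℂ) = 0 := by omega
  have hz : ∀ χ ∈ Finset.univ.erase φ, n χ = 0 := by
    intro χ hχ
    have h3 := (Finset.sum_eq_zero_iff.mp h0) χ hχ
    rcases Nat.mul_eq_zero.mp h3 with h4 | h4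
    · exact h4
    · exfalso
      obtain ⟨k, hk, hk1⟩ := IsIrrCharacter.apply_one_pos χ.2
      have h5 : (Cfsg.charDegree (χ : X → ℂ) : ℂ) = k := by
        rw [charDegree_cast_of_isCharacter (IsIrrCharacter.isCharacter χ.2), hk1]
      have h6 : Cfsg.charDegree (χ : X → ℂ) = k := by exact_mod_cast h5
      omega
  conv_lhs => rw [hexp]
  rw [← Finset.add_sum_erase Finset.univ _ (Finset.mem_univ φ), e1, Nat.cast_one, one_smul]
  rw [Finset.sum_eq_zero, add_zero]
  intro χ hχ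
  rw [hz χ hχ, Nat.cast_zero, zero_smul]

end Cfsg.Agent.Helper2.Sh3Sim
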