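import Mathlib
import Cfsg.Agent.Lead.PrimeIdxD
import Cfsg.Agent.Lead.FusionAutSys
import Cfsg.Agent.Lead.FusionCentric
import Cfsg.Agent.Lead.FusionSubsys
import Cfsg.Agent.Helper6.BcgloK

set_option autoImplicit false

/-!
# The `p'`-residual subsystem `O^{p'}(F)`, part A

Following AKO I.7.7: `E0` is the least subsystem of `F` over `S` of index prime to `p` (not necessarily
saturated), `E1` its largest `Aut_F(S)`-invariant subsystem, `A0` the subgroup of `Aut_F(S)` generated by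
the automorphisms restricting to a map of `E1` on some `F`-centric subgroup, `bigSys` the system of the
maps `α ∘ φ₀` with `α ∈ A0` and `φ₀` in `E1`, and `resSys` the subsystem of `bigSys` generated by its
maps on `F`-centric subgroups.
-/

namespace Cfsg.Agent.Helper2.PPrimeRes

open Cfsg Cfsg.FusionSystem Cfsg.Agent.Lead Cfsg.Agent.Lead.StrongInv Cfsg.Agent.Lead.PrimeIdx
open Cfsg.Agent.Lead.AutSys

variable {Ω : Type*} [Group Ω] {S : Subgroup Ω}

/-- The intersection of `F` with a family of fusion systems over `S`. -/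
def interSys (F : FusionSystem S) (𝒟 : Set (FusionSystem S)) : FusionSystem S where
  Hom P := {φ | φ ∈ F.Hom P ∧ ∀ D ∈ 𝒟, φ ∈ D.Hom P}
  le_of_mem h := F.le_of_mem h.1
  injective_of_mem h := F.injective_of_mem h.1
  conj_mem hP hg := ⟨F.conj_mem hP hg, fun D _ => D.conj_mem hP hg⟩
  comp_mem hφ hψ h := ⟨F.comp_mem hφ.1 hψ.1 h, fun D hD => D.comp_mem (hφ.2 D hD) (hψ.2 D hD) h⟩
  inv_mem := by
    intro P φ hφ
    obtain ⟨ψ, hψ, hinv⟩ := F.inv_mem hφ.1
    refine ⟨ψ, ⟨hψ, fun D hD => ?_⟩, hinv⟩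
    obtain ⟨ψ', hψ', hinv'⟩ := D.inv_mem (hφ.2 D hD)
    have : ψ = ψ' := by
      apply MonoidHom.ext
      rintro ⟨_, x, rfl⟩
      exact (hinv x).trans (hinv' x).symm
    rw [this]; exact hψ'

theorem interSys_le (F : FusionSystem S) (𝒟 : Set (FusionSystem S)) :
    (interSys F 𝒟).IsSubsystemOf F := fun _ _ h => h.1

theorem interSys_le_of_mem (F : FusionSystem S) {𝒟 : Set (FusionSystem S)} {D : FusionSystem S}
    (hD : D ∈ 𝒟) : (interSys F 𝒟).IsSubsystemOf D := fun _ _ h => h.2 D hD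

/-- The least subsystem of `F` over `S` of index prime to `p`. -/
def E0 (p : ℕ) (F : FusionSystem S) : FusionSystem S :=
  interSys F {D | D.HasPrimeToPIndexIn F p}

theorem E0_le (p : ℕ) (F : FusionSystem S) : (E0 p F).IsSubsystemOf F := interSys_le F _

theorem E0_le_of (p : ℕ) (F : FusionSystem S) {D : FusionSystem S} (hD : D.HasPrimeToPIndexIn F p) :
    (E0 p F).IsSubsystemOf D := interSys_le_of_mem F hD

theorem pElement_mem_E0 (p : ℕ) (F : FusionSystem S) {P : Subgroup Ω} (hPS : P ≤ S) (α : MulAut P)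
    (hα : α ∈ F.autGroup P) (k : ℕ) (hk : orderOf α = p ^ k) : α ∈ (E0 p F).autGroup P := by
  rw [Fusion.mem_autGroup_iff _ hPS]
  refine ⟨(Fusion.mem_autGroup_iff F hPS α).mp hα, fun D hD => ?_⟩
  rw [← Fusion.mem_autGroup_iff D hPS]
  apply hD.2 P hPS
  refine ⟨⟨α, hα⟩, Subgroup.subset_closure ⟨k, ?_⟩, rfl⟩
  rw [Subgroup.orderOf_mk, hk]

theorem closure_le_E0 (p : ℕ) (F : FusionSystem S) {P : Subgroup Ω} (hPS : P ≤ S) :
    (Subgroup.closure {α : ↥(F.autGroup P) | ∃ k : ℕ, orderOf α = p ^ k}).map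
        (F.autGroup P).subtype ≤ (E0 p F).autGroup P := by
  rw [Subgroup.map_le_iff_le_comap, Subgroup.closure_le]
  rintro ⟨α, hα⟩ ⟨k, hk⟩
  show α ∈ (E0 p F).autGroup P
  apply pElement_mem_E0 p F hPS α hα k
  rw [← hk, Subgroup.orderOf_mk]

/-- The largest `Aut_F(S)`-invariant subsystem of `E0`. -/
def E1 (p : ℕ) (F : FusionSystem S) : FusionSystem S := coreSys F (E0 p F)

theorem E1_le_E0 (p : ℕ) (F : FusionSystem S) (P : Subgroup Ω) :
    (E1 p F).Hom P ⊆ (E0 p F).Hom P := coreSys_sub F _ P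

theorem E1_le (p : ℕ) (F : FusionSystem S) : (E1 p F).IsSubsystemOf F := coreSys_sub_F F _

theorem SItop_E1 (p : ℕ) (F : FusionSystem S) : SItop F (E1 p F) :=
  SItop_coreSys F _ (E0_le p F)

theorem closure_le_E1 (p : ℕ) (F : FusionSystem S) {P : Subgroup Ω} (hP : F.IsCentric P) :
    (Subgroup.closure {α : ↥(F.autGroup P) | ∃ k : ℕ, orderOf α = p ^ k}).map
        (F.autGroup P).subtype ≤ (E1 p F).autGroup P :=
  closure_le_coreSys p F (E0 p F) (fun _ hQ => closure_le_E0 p F hQ.1) hP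

theorem E1_main [Finite S] (p : ℕ) [Fact p.Prime] (hS : IsPGroup p S) (F : FusionSystem S)
    (hF : F.IsSaturated p) :
    (E1 p F).HasPrimeToPIndexIn F p ∧
    (∀ (P : Subgroup Ω) (φ : P →* Ω), φ ∈ F.Hom P → ∃ α ∈ F.autGroup S, ∃ φ₀ ∈ (E1 p F).Hom P,
      ∀ (x : P) (hx : φ₀ x ∈ S), φ x = ((α ⟨φ₀ x, hx⟩ : S) : Ω)) ∧
    ∀ P : Subgroup Ω, (E1 p F).IsCentric P ↔ F.IsCentric P :=
  main p hS F hF (E1 p F) (E1_le p F) (fun _ hP => closure_le_E1 p F hP)

/-- The restriction of an automorphism of `S` to `P ≤ S`, as a map into the ambient group. -/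
def resAutS {P : Subgroup Ω} (hPS : P ≤ S) (α : MulAut S) : P →* Ω :=
  (S.subtype.comp α.toMonoidHom).comp (Subgroup.inclusion hPS)

theorem resAutS_apply {P : Subgroup Ω} (hPS : P ≤ S) (α : MulAut S) (x : P) :
    resAutS hPS α x = ((α ⟨x.1, hPS x.2⟩ : S) : Ω) := rfl

/-- The generators of `A0`. -/
def A0gen (p : ℕ) (F : FusionSystem S) : Set (MulAut S) :=
  {α | α ∈ F.autGroup S ∧ ∃ (P : Subgroup Ω) (hP : F.IsCentric P),
    resAutS hP.1 α ∈ (E1 p F).Hom P}

/-- `Aut_F^0(S)`. -/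
def A0 (p : ℕ) (F : FusionSystem S) : Subgroup (MulAut S) := Subgroup.closure (A0gen p F)

theorem A0_le (p : ℕ) (F : FusionSystem S) : A0 p F ≤ F.autGroup S :=
  (Subgroup.closure_le _).mpr (fun _ h => h.1)

theorem inn_le_A0 [Finite S] (p : ℕ) (F : FusionSystem S) : Inn S ≤ A0 p F := by
  rintro _ ⟨g, rfl⟩
  apply Subgroup.subset_closure
  refine ⟨?_, S, Fusion.top_isCentric F, ?_⟩
  · rw [Fusion.mem_autGroup_iff F le_rfl]
    have := F.conj_mem (P := S) (g := (g : Ω)) le_rfl g.2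
    convert this using 1
    ext x
    rfl
  · have := (E1 p F).conj_mem (P := S) (g := (g : Ω)) le_rfl g.2
    convert this using 1
    ext x
    rfl

/-- The system of restrictions of elements of `A0`. -/
def FA [Finite S] (p : ℕ) (F : FusionSystem S) : FusionSystem S :=
  autSys S (A0 p F) (inn_le_A0 p F)

theorem FA_le [Finite S] (p : ℕ) (F : FusionSystem S) : (FA p F).IsSubsystemOf F :=
  autSys_isSubsystemOf F S le_rfl _ _ (A0_le p F)

theorem SItop_FA [Finite S] (p : ℕ) (F : FusionSystem S) : SItop (FA p F) (E1 p F) := by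
  intro P hPT φ hφ hφT ψ hψ
  exact SItop_E1 p F P hPT φ hφ hφT ψ (FA_le p F S hψ)

theorem mem_FA_top [Finite S] (p : ℕ) (F : FusionSystem S) (γ : S →* Ω) :
    γ ∈ (FA p F).Hom S ↔ ∃ α ∈ A0 p F, ∀ s : S, γ s = ((α s : S) : Ω) := by
  unfold FA
  rw [mem_autSys]
  constructor
  · rintro ⟨_, α, hα, h⟩
    exact ⟨α, hα, fun s => h s⟩
  · rintro ⟨α, hα, h⟩
    exact ⟨le_rfl, α, hα, fun s => h s⟩

/-- The system of the maps `α ∘ φ₀` with `α ∈ A0` and `φ₀` in `E1`. -/
def bigSys [Finite S] (p : ℕ) (F : FusionSystem S) : FusionSystem S where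
  Hom P := {φ | φ ∈ F.Hom P ∧ Good (FA p F) (E1 p F) P φ}
  le_of_mem h := F.le_of_mem h.1
  injective_of_mem h := F.injective_of_mem h.1
  conj_mem hP hg := ⟨F.conj_mem hP hg, good_of_mem (FA p F) (E1 p F) le_rfl ((E1 p F).conj_mem hP hg)⟩
  comp_mem hφ hψ h := ⟨F.comp_mem hφ.1 hψ.1 h,
    good_comp_top (FA p F) (E1 p F) (SItop_FA p F) (stronglyClosed_top (FA p F))
      (F.le_of_mem hψ.1).1 hφ.2 hψ.2 h⟩
  inv_mem := by
    intro P φ hφ
    obtain ⟨ψ, hψ, hinv⟩ := F.inv_mem hφ.1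
    exact ⟨ψ, ⟨hψ, good_inv_top (FA p F) (E1 p F) (SItop_FA p F) (stronglyClosed_top (FA p F))
      (F.le_of_mem hφ.1).1 hφ.2 rfl (fun x _ => hinv x)⟩, hinv⟩

theorem bigSys_le [Finite S] (p : ℕ) (F : FusionSystem S) : (bigSys p F).IsSubsystemOf F :=
  fun _ _ h => h.1

theorem E1_le_bigSys [Finite S] (p : ℕ) (F : FusionSystem S) (P : Subgroup Ω) :
    (E1 p F).Hom P ⊆ (bigSys p F).Hom P :=
  fun _ h => ⟨E1_le p F P h, good_of_mem (FA p F) (E1 p F) le_rfl h⟩

/-- The subsystem of `bigSys` generated by its maps on `F`-centric subgroups: this is `O^{p'}(F)`. -/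
def resSys [Finite S] (p : ℕ) (F : FusionSystem S) : FusionSystem S :=
  interSys F {D | ∀ P : Subgroup Ω, F.IsCentric P → (bigSys p F).Hom P ⊆ D.Hom P}

theorem resSys_le [Finite S] (p : ℕ) (F : FusionSystem S) : (resSys p F).IsSubsystemOf F :=
  interSys_le F _

theorem resSys_le_bigSys [Finite S] (p : ℕ) (F : FusionSystem S) :
    (resSys p F).IsSubsystemOf (bigSys p F) :=
  interSys_le_of_mem F (fun _ _ => subset_rfl)

theorem bigSys_le_resSys_of_centric [Finite S] (p : ℕ) (F : FusionSystem S) {P : Subgroup Ω}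
    (hP : F.IsCentric P) : (bigSys p F).Hom P ⊆ (resSys p F).Hom P :=
  fun _ h => ⟨h.1, fun _ hD => hD P hP h⟩

theorem resSys_le_of [Finite S] (p : ℕ) (F : FusionSystem S) {D : FusionSystem S}
    (hD : ∀ P : Subgroup Ω, F.IsCentric P → (bigSys p F).Hom P ⊆ D.Hom P) :
    (resSys p F).IsSubsystemOf D :=
  interSys_le_of_mem F hD

end Cfsg.Agent.Helper2.PPrimeRes
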