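import Mathlib
import Cfsg.Agent.Helper2.PPrimeResA

set_option autoImplicit false

/-!
# The `p'`-residual subsystem `O^{p'}(F)`, part B: saturation of `resSys`
-/

namespace Cfsg.Agent.Helper2.PPrimeRes

open Cfsg Cfsg.FusionSystem Cfsg.Agent.Lead Cfsg.Agent.Lead.StrongInv Cfsg.Agent.Lead.PrimeIdx
open Cfsg.Agent.Lead.AutSys

variable {Ω : Type*} [Group Ω] {S : Subgroup Ω}

/-- A map of `F` whose restriction to a centric subgroup is of the form `α ∘ φ₀` is of this form. -/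
theorem good_of_restrict [Finite S] (p : ℕ) [Fact p.Prime] (hS : IsPGroup p S) (F : FusionSystem S)
    (hF : F.IsSaturated p) {N R : Subgroup Ω} (hRN : R ≤ N) (hR : F.IsCentric R) {ψ : N →* Ω}
    (hψ : ψ ∈ F.Hom N)
    (hres : Good (FA p F) (E1 p F) R (ψ.comp (Subgroup.inclusion hRN))) :
    Good (FA p F) (E1 p F) N ψ := by
  obtain ⟨-, hfrat, -⟩ := E1_main p hS F hF
  obtain ⟨β, hβ, ψ₀, hψ₀, hv⟩ := hfrat N ψ hψ
  obtain ⟨α', hα', φ₀, hφ₀, hw⟩ := hres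
  obtain ⟨α, hα, hαeq⟩ := (mem_FA_top p F α').mp hα'
  have hψ₀S : ∀ x : N, ψ₀ x ∈ S := (( E1 p F).le_of_mem hψ₀).2
  have hφ₀S : ∀ x : R, φ₀ x ∈ S := ((E1 p F).le_of_mem hφ₀).2
  -- the restriction of `ψ₀` to `R` and its inverse
  have hθ : ψ₀.comp (Subgroup.inclusion hRN) ∈ (E1 p F).Hom R := Fusion.restrict_mem _ hψ₀ hRN
  set θ : R →* Ω := ψ₀.comp (Subgroup.inclusion hRN) with hθdef
  obtain ⟨θi, hθi, hinv⟩ := (E1 p F).inv_mem hθ
  have hθiR : ∀ y : θ.range, θi y ∈ R := by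
    rintro ⟨_, x, rfl⟩
    rw [hinv x]
    exact x.2
  have hcomp := (E1 p F).comp_mem hθi hφ₀ hθiR
  have hP'c : F.IsCentric θ.range := Fusion.isCentric_of_isConj F hR ⟨θ, E1_le p F R hθ, rfl⟩
  -- the key equation
  have hkey : ∀ x : R, β ⟨ψ₀ ⟨x.1, hRN x.2⟩, hψ₀S _⟩ = α ⟨φ₀ x, hφ₀S x⟩ := by
    intro x
    apply Subtype.ext
    rw [← hv ⟨x.1, hRN x.2⟩ (hψ₀S _), ← hαeq]
    exact hw x
  have hγgen : α⁻¹ * β ∈ A0gen p F := by
    refine ⟨(F.autGroup S).mul_mem ((F.autGroup S).inv_mem (A0_le p F hα)) hβ, θ.range, hP'c, ?_⟩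
    convert hcomp using 1
    apply MonoidHom.ext
    rintro ⟨_, x, rfl⟩
    rw [resAutS_apply]
    show (((α⁻¹ * β) ⟨θ x, _⟩ : S) : Ω) = φ₀ (θi.codRestrict R hθiR ⟨θ x, ⟨x, rfl⟩⟩)
    have h1 : θi.codRestrict R hθiR ⟨θ x, ⟨x, rfl⟩⟩ = x := Subtype.ext (hinv x)
    rw [h1, MulAut.mul_apply]
    have h2 : β ⟨θ x, hP'c.1 ⟨x, rfl⟩⟩ = α ⟨φ₀ x, hφ₀S x⟩ := hkey x
    rw [h2, MulAut.inv_apply_self]
  have hβA : β ∈ A0 p F := by
    have h1 : β = α * (α⁻¹ * β) := by group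
    rw [h1]
    exact (A0 p F).mul_mem hα (Subgroup.subset_closure hγgen)
  refine ⟨S.subtype.comp β.toMonoidHom, (mem_FA_top p F _).mpr ⟨β, hβA, fun _ => rfl⟩, ψ₀, hψ₀,
    fun x => ?_⟩
  exact hv x (hψ₀S x)

/-- On centric subgroups `resSys` and `bigSys` have the same maps. -/
theorem resSys_hom_centric [Finite S] (p : ℕ) (F : FusionSystem S) {P : Subgroup Ω}
    (hP : F.IsCentric P) : (resSys p F).Hom P = (bigSys p F).Hom P :=
  Set.Subset.antisymm (resSys_le_bigSys p F P) (bigSys_le_resSys_of_centric p F hP)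

theorem closure_le_resSys [Finite S] (p : ℕ) (F : FusionSystem S) {P : Subgroup Ω}
    (hP : F.IsCentric P) :
    (Subgroup.closure {α : ↥(F.autGroup P) | ∃ k : ℕ, orderOf α = p ^ k}).map
        (F.autGroup P).subtype ≤ (resSys p F).autGroup P := by
  refine (closure_le_E1 p F hP).trans ?_
  intro α hα
  rw [Fusion.mem_autGroup_iff _ hP.1] at hα ⊢
  exact bigSys_le_resSys_of_centric p F hP (E1_le_bigSys p F P hα)

theorem resSys_main [Finite S] (p : ℕ) [Fact p.Prime] (hS : IsPGroup p S) (F : FusionSystem S)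
    (hF : F.IsSaturated p) :
    (resSys p F).HasPrimeToPIndexIn F p ∧
    (∀ (P : Subgroup Ω) (φ : P →* Ω), φ ∈ F.Hom P → ∃ α ∈ F.autGroup S, ∃ φ₀ ∈ (resSys p F).Hom P,
      ∀ (x : P) (hx : φ₀ x ∈ S), φ x = ((α ⟨φ₀ x, hx⟩ : S) : Ω)) ∧
    ∀ P : Subgroup Ω, (resSys p F).IsCentric P ↔ F.IsCentric P :=
  main p hS F hF (resSys p F) (resSys_le p F) (fun _ hP => closure_le_resSys p F hP)

/-- An automorphism of `S` carrying `R` onto `R'` carries `N_S(R)` into `N_S(R')`. -/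
theorem card_normalizerIn_le_of_aut [Finite S] (α : MulAut S) {R R' : Subgroup Ω} (hR : R ≤ S)
    (h : ∀ z, z ∈ R' ↔ ∃ (r : Ω) (hr : r ∈ R), ((α ⟨r, hR hr⟩ : S) : Ω) = z) :
    Nat.card (normalizerIn S R) ≤ Nat.card (normalizerIn S R') := by
  have hN : ∀ g : normalizerIn S R, (g : Ω) ∈ S := fun g => (Subgroup.mem_inf.mp g.2).1
  have hmem : ∀ g : normalizerIn S R, ((α ⟨g.1, hN g⟩ : S) : Ω) ∈ normalizerIn S R' := by
    intro g
    have hgn := (Subgroup.mem_inf.mp g.2).2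
    refine Subgroup.mem_inf.mpr ⟨(α _).2, ?_⟩
    rw [Subgroup.mem_normalizer_iff]
    intro z
    constructor
    · intro hz
      obtain ⟨r, hr, rfl⟩ := (h z).mp hz
      have hr' : (g : Ω) * r * (g : Ω)⁻¹ ∈ R := (Subgroup.mem_normalizer_iff.mp hgn r).mp hr
      refine (h _).mpr ⟨_, hr', ?_⟩
      have : (⟨(g : Ω) * r * (g : Ω)⁻¹, hR hr'⟩ : S) = ⟨g.1, hN g⟩ * ⟨r, hR hr⟩ * ⟨g.1, hN g⟩⁻¹ :=
        rfl
      rw [this, map_mul, map_mul, map_inv]
      rfl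
    · intro hz
      obtain ⟨r, hr, hrz⟩ := (h _).mp hz
      have hr' : (g : Ω)⁻¹ * r * (g : Ω) ∈ R := by
        have := (Subgroup.mem_normalizer_iff.mp hgn ((g : Ω)⁻¹ * r * (g : Ω))).mpr
        apply this
        have e : (g : Ω) * ((g : Ω)⁻¹ * r * (g : Ω)) * (g : Ω)⁻¹ = r := by group
        rw [e]
        exact hr
      refine (h _).mpr ⟨_, hr', ?_⟩
      have e1 : (⟨(g : Ω)⁻¹ * r * (g : Ω), hR hr'⟩ : S) =
          ⟨g.1, hN g⟩⁻¹ * ⟨r, hR hr⟩ * ⟨g.1, hN g⟩ := rfl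
      rw [e1, map_mul, map_mul, map_inv]
      show ((α ⟨g.1, hN g⟩ : S) : Ω)⁻¹ * ((α ⟨r, hR hr⟩ : S) : Ω) * ((α ⟨g.1, hN g⟩ : S) : Ω) = z
      rw [hrz]
      group
  have : Finite (normalizerIn S R') := Fusion.finite_of_le (inf_le_left : normalizerIn S R' ≤ S)
  apply Nat.card_le_card_of_injective
    (fun g : normalizerIn S R => (⟨((α ⟨g.1, hN g⟩ : S) : Ω), hmem g⟩ : normalizerIn S R'))
  intro a b hab
  have h1 : ((α ⟨a.1, hN a⟩ : S) : Ω) = ((α ⟨b.1, hN b⟩ : S) : Ω) :=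
    congrArg (fun z : normalizerIn S R' => (z : Ω)) hab
  have h2 : (⟨a.1, hN a⟩ : S) = ⟨b.1, hN b⟩ := α.injective (Subtype.ext h1)
  exact Subtype.ext (congrArg (fun z : S => (z : Ω)) h2)

/-- Full automization passes to subsystems over the same group. -/
theorem fullyAutomized_of_subsystem [Finite S] (p : ℕ) [Fact p.Prime] (hS : IsPGroup p S)
    (F E : FusionSystem S) (hEF : E.IsSubsystemOf F) {Q : Subgroup Ω}
    (hfa : F.IsFullyAutomized p Q) : E.IsFullyAutomized p Q := by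
  obtain ⟨hQS, R, hR⟩ := hfa
  have : Finite Q := Fusion.finite_of_le hQS
  have hEFa : E.autGroup Q ≤ F.autGroup Q := autGroup_le_of_subsystem F E hEF Q
  have hSE : autInducedBy S Q ≤ E.autGroup Q := Fusion.autInducedBy_le_autGroup E hQS
  have h1 : ¬ p ∣ ((autInducedBy S Q).subgroupOf (F.autGroup Q)).index := by
    rw [← hR]
    exact R.not_dvd_index
  have h2 : ¬ p ∣ ((autInducedBy S Q).subgroupOf (E.autGroup Q)).index := by
    intro hdvd
    apply h1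
    have h3 := Subgroup.relIndex_mul_relIndex (autInducedBy S Q) (E.autGroup Q) (F.autGroup Q)
      hSE hEFa
    show p ∣ (autInducedBy S Q).relIndex (F.autGroup Q)
    rw [← h3]
    exact Dvd.dvd.mul_right hdvd _
  have h4 : IsPGroup p ((autInducedBy S Q).subgroupOf (E.autGroup Q)) :=
    (Fusion.isPGroup_autInducedBy p hS Q).comap_subtype
  exact ⟨hQS, h4.toSylow h2, IsPGroup.toSylow_coe h4 h2⟩

end Cfsg.Agent.Helper2.PPrimeRes
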