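import Mathlib
import Cfsg.Agent.Helper2.PPrimeResB

set_option autoImplicit false

/-!
# The `p'`-residual subsystem `O^{p'}(F)`, part C: saturation, minimality, existence
-/

namespace Cfsg.Agent.Helper2.PPrimeRes

open Cfsg Cfsg.FusionSystem Cfsg.Agent.Lead Cfsg.Agent.Lead.StrongInv Cfsg.Agent.Lead.PrimeIdx
open Cfsg.Agent.Lead.AutSys

variable {Ω : Type*} [Group Ω] {S : Subgroup Ω}

theorem resSys_isSaturated [Finite S] (p : ℕ) [Fact p.Prime] (hS : IsPGroup p S)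
    (F : FusionSystem S) (hF : F.IsSaturated p) : (resSys p F).IsSaturated p := by
  obtain ⟨hidx, -, hcen⟩ := resSys_main p hS F hF
  obtain ⟨-, hfrat, -⟩ := E1_main p hS F hF
  apply Cfsg.Agent.Helper6.Bcglo.saturated_of_generated p hS (resSys p F) {P | F.IsCentric P}
  · exact fun P hP => hP.1
  · intro P hP Q hPQ
    obtain ⟨φ, hφ, hr⟩ := hPQ
    exact Fusion.isCentric_of_isConj F hP ⟨φ, resSys_le p F P hφ, hr⟩
  · intro P hP
    obtain ⟨Q0, ⟨φ, hφ, hr⟩, hQ0fn⟩ := Fusion.exists_isConj_fullyNormalized F hP.1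
    obtain ⟨α, hα, φ₀, hφ₀, hv⟩ := hfrat P φ hφ
    have hφ₀S : ∀ x : P, φ₀ x ∈ S := ((E1 p F).le_of_mem hφ₀).2
    have hφ₀F : φ₀ ∈ F.Hom P := E1_le p F P hφ₀
    have hφ₀R : φ₀ ∈ (resSys p F).Hom P :=
      bigSys_le_resSys_of_centric p F hP (E1_le_bigSys p F P hφ₀)
    have hPQ : F.IsConj P φ₀.range := ⟨φ₀, hφ₀F, rfl⟩
    have hQS : φ₀.range ≤ S := Fusion.isConj_tgt_le F hPQ
    have hQc : F.IsCentric φ₀.range := Fusion.isCentric_of_isConj F hP hPQ
    have hφS : ∀ x : P, φ x ∈ S := fun x => Fusion.map_mem F hφ x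
    have hkey : ∀ x : P, α⁻¹ ⟨φ x, hφS x⟩ = ⟨φ₀ x, hφ₀S x⟩ := by
      intro x
      have : (⟨φ x, hφS x⟩ : S) = α ⟨φ₀ x, hφ₀S x⟩ := Subtype.ext (hv x (hφ₀S x))
      rw [this, MulAut.inv_apply_self]
    have hQfn : F.IsFullyNormalized φ₀.range := by
      refine ⟨hQS, fun Q' hQQ' => ?_⟩
      have h1 : F.IsConj Q0 Q' :=
        Fusion.isConj_trans F (Fusion.isConj_symm F ⟨φ, hφ, hr⟩) (Fusion.isConj_trans F hPQ hQQ')
      refine (hQ0fn.2 Q' h1).trans ?_
      apply card_normalizerIn_le_of_aut α⁻¹ hQ0fn.1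
      intro z
      constructor
      · rintro ⟨x, rfl⟩
        exact ⟨φ x, hr ▸ ⟨x, rfl⟩, congrArg Subtype.val (hkey x)⟩
      · rintro ⟨r, hr', rfl⟩
        rw [← hr] at hr'
        obtain ⟨x, rfl⟩ := hr'
        exact ⟨x, (congrArg Subtype.val (hkey x)).symm⟩
    obtain ⟨hfc, hfa⟩ := Fusion.fullyCentralized_fullyAutomized_of_fullyNormalized p hS F hF hQfn
    have hrec := Fusion.receptive_of_fullyCentralized p hS F hF hfc
    refine ⟨φ₀.range, ⟨φ₀, hφ₀R, rfl⟩,
      fullyAutomized_of_subsystem p hS F _ (resSys_le p F) hfa, hQS, ?_⟩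
    intro R φ' hφ' hr'
    have hφ'F := resSys_le p F R hφ'
    obtain ⟨ψ, hψ, hext⟩ := hrec.2 R φ' hφ'F hr'
    have hRS : R ≤ S := Fusion.src_le F hφ'F
    have hRc : F.IsCentric R :=
      Fusion.isCentric_of_isConj F hQc (Fusion.isConj_symm F ⟨φ', hφ'F, hr'⟩)
    have hRN : R ≤ extender S R φ' :=
      Fusion.le_extender R hRS φ' (fun x => Fusion.map_mem F hφ'F x)
    have hNS : extender S R φ' ≤ S := Fusion.src_le F hψ
    have hNc : F.IsCentric (extender S R φ') := Fusion.isCentric_of_le F hRN hNS hRc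
    have hgood : Good (FA p F) (E1 p F) R (ψ.comp (Subgroup.inclusion hRN)) := by
      apply good_congr _ _ (resSys_le_bigSys p F R hφ').2
      intro x
      exact hext x.1 x.2 (hRN x.2)
    have hg := good_of_restrict p hS F hF hRN hRc hψ hgood
    exact ⟨ψ, bigSys_le_resSys_of_centric p F hNc ⟨hψ, hg⟩, hext⟩
  · intro D hD P φ hφ
    have hfam : ∀ P : Subgroup Ω, F.IsCentric P →
        (bigSys p F).Hom P ⊆ (interSys F {D}).Hom P := by
      intro P hP φ hφ
      refine ⟨hφ.1, fun D' hD' => ?_⟩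
      rw [Set.mem_singleton_iff] at hD'
      subst hD'
      exact hD P hP (bigSys_le_resSys_of_centric p F hP hφ)
    exact (resSys_le_of p F hfam P hφ).2 D rfl
  · intro P hPc hPn
    exact absurd ((hcen P).mp hPc) hPn

theorem A0_le_of_saturated [Finite S] (p : ℕ) [Fact p.Prime] (hS : IsPGroup p S)
    (F : FusionSystem S) (hF : F.IsSaturated p) (D : FusionSystem S) (hD : D.IsSaturated p)
    (hDidx : D.HasPrimeToPIndexIn F p) : A0 p F ≤ D.autGroup S := by
  unfold A0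
  rw [Subgroup.closure_le]
  rintro α ⟨hα, P, hP, hres⟩
  have hDF : D ≤ F := hDidx.1
  have hαF := (Fusion.mem_autGroup_iff F le_rfl α).mp hα
  have hresD : (S.subtype.comp α.toMonoidHom).comp (Subgroup.inclusion hP.1) ∈ D.Hom P :=
    E0_le_of p F hDidx P (E1_le_E0 p F P hres)
  have := Fusion.mem_of_restrict_centric_mem p hS F hF D hD hDF S _ hαF _ P hP.1 hP hresD rfl
  exact (Fusion.mem_autGroup_iff D le_rfl α).mpr this

theorem resSys_le_of_saturated [Finite S] (p : ℕ) [Fact p.Prime] (hS : IsPGroup p S)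
    (F : FusionSystem S) (hF : F.IsSaturated p) (D : FusionSystem S) (hD : D.IsSaturated p)
    (hDidx : D.HasPrimeToPIndexIn F p) : (resSys p F).IsSubsystemOf D := by
  apply resSys_le_of
  rintro P hP φ ⟨hφF, α', hα', φ₀, hφ₀, hw⟩
  obtain ⟨α, hα, hαeq⟩ := (mem_FA_top p F α').mp hα'
  have hαD := A0_le_of_saturated p hS F hF D hD hDidx hα
  have h1 := (Fusion.mem_autGroup_iff D le_rfl α).mp hαD
  have h2 : φ₀ ∈ D.Hom P := E0_le_of p F hDidx P (E1_le_E0 p F P hφ₀)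
  have h3 := D.comp_mem h2 h1 (fun x => (D.le_of_mem h2).2 x)
  convert h3 using 1
  ext x
  rw [hw x, hαeq]
  rfl

/-- Existence of the `p'`-residual subsystem (AKO I.7.7). -/
theorem exists_isPPrimeResidual [Finite S] (p : ℕ) [Fact p.Prime] (hS : IsPGroup p S)
    (F : FusionSystem S) (hF : F.IsSaturated p) : ∃ E : FusionSystem S, F.IsPPrimeResidual p E :=
  ⟨resSys p F, resSys_isSaturated p hS F hF, (resSys_main p hS F hF).1,
    fun D hD hDidx => resSys_le_of_saturated p hS F hF D hD hDidx⟩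

end Cfsg.Agent.Helper2.PPrimeRes
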