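import Mathlib
import Cfsg.Agent.Lead.FusionSeries
import Cfsg.Agent.Lead.FusionCentric
import Cfsg.Agent.Lead.FusionNormal
import Cfsg.Agent.Lead.FusionFactor
import Cfsg.Agent.Lead.FusionInvariant
import Cfsg.Agent.Lead.FusionMorph

set_option autoImplicit false
set_option linter.style.haveILetI false

/-!
# Factor systems of constrained fusion systems modulo central subgroups

If `F` is a constrained saturated fusion system over a finite `p`-group `S` and `Z₀` is a strongly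
closed subgroup of `S` contained in the centre of `S`, then the factor system of `F` modulo `Z₀` has a
normal centric subgroup, namely the image of `O_p(F)`.
-/

namespace Cfsg.Agent.Helper2.ConstrQuot

open Cfsg Cfsg.FusionSystem Cfsg.Agent.Lead
open scoped commutatorElement

variable {Ω : Type*} [Group Ω] {S : Subgroup Ω}

theorem inf_stronglyClosed (F : FusionSystem S) {A B : Subgroup Ω}
    (hA : F.StronglyClosed A) (hB : F.StronglyClosed B) : F.StronglyClosed (A ⊓ B) :=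
  ⟨inf_le_left.trans hA.1, fun R hR φ hφ x =>
    ⟨hA.2 R (hR.trans inf_le_left) φ hφ x, hB.2 R (hR.trans inf_le_right) φ hφ x⟩⟩

/-- The elements of `S` centralizing `Q` modulo `Z₀` (a subgroup when `Z₀` is central in `S`). -/
def cmod (S Q Z0 : Subgroup Ω) (hZc : ∀ s ∈ S, ∀ z ∈ Z0, s * z = z * s) : Subgroup Ω where
  carrier := {s | s ∈ S ∧ ∀ q ∈ Q, ⁅s, q⁆ ∈ Z0}
  one_mem' := ⟨S.one_mem, fun q _ => by rw [commutatorElement_one_left]; exact Z0.one_mem⟩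
  mul_mem' := by
    rintro a b ⟨ha, hqa⟩ ⟨hb, hqb⟩
    refine ⟨S.mul_mem ha hb, fun q hq => ?_⟩
    have h1 : ⁅a * b, q⁆ = a * ⁅b, q⁆ * a⁻¹ * ⁅a, q⁆ := by
      simp only [commutatorElement_def]; group
    have h2 : a * ⁅b, q⁆ * a⁻¹ = ⁅b, q⁆ := by
      rw [hZc a ha _ (hqb q hq)]; group
    rw [h1, h2]
    exact Z0.mul_mem (hqb q hq) (hqa q hq)
  inv_mem' := by
    rintro a ⟨ha, hqa⟩
    refine ⟨S.inv_mem ha, fun q hq => ?_⟩
    have h1 : ⁅a⁻¹, q⁆ = a⁻¹ * (⁅a, q⁆)⁻¹ * a := by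
      simp only [commutatorElement_def]; group
    have h2 : a⁻¹ * (⁅a, q⁆)⁻¹ * a = (⁅a, q⁆)⁻¹ := by
      have := hZc a ha _ (Z0.inv_mem (hqa q hq))
      calc a⁻¹ * (⁅a, q⁆)⁻¹ * a = a⁻¹ * (a * (⁅a, q⁆)⁻¹) := by rw [this]; group
        _ = (⁅a, q⁆)⁻¹ := by group
    rw [h1, h2]
    exact Z0.inv_mem (hqa q hq)

theorem mem_cmod {S Q Z0 : Subgroup Ω} (hZc : ∀ s ∈ S, ∀ z ∈ Z0, s * z = z * s) (s : Ω) :
    s ∈ cmod S Q Z0 hZc ↔ s ∈ S ∧ ∀ q ∈ Q, ⁅s, q⁆ ∈ Z0 := Iff.rfl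

theorem cmod_le {S Q Z0 : Subgroup Ω} (hZc : ∀ s ∈ S, ∀ z ∈ Z0, s * z = z * s) :
    cmod S Q Z0 hZc ≤ S := fun _ h => h.1

/-- `C_S(Q mod Z₀)` is strongly closed when `Q` is normal in the system and `Z₀` is strongly closed. -/
theorem cmod_stronglyClosed (F : FusionSystem S) {Q Z0 : Subgroup Ω} (hQ : F.IsNormal Q)
    (hZ : F.StronglyClosed Z0) (hZc : ∀ s ∈ S, ∀ z ∈ Z0, s * z = z * s) :
    F.StronglyClosed (cmod S Q Z0 hZc) := by
  refine ⟨cmod_le hZc, fun R hR φ hφ x => ?_⟩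
  obtain ⟨ψ, hψ, hext, hmap⟩ := hQ.2 R φ hφ
  refine ⟨Fusion.map_mem F hφ x, fun q hq => ?_⟩
  have hq' : q ∈ (Q.subgroupOf (R ⊔ Q)).map ψ := by rw [hmap]; exact hq
  obtain ⟨q', hq'Q, rfl⟩ := hq'
  rw [SetLike.mem_coe, Subgroup.mem_subgroupOf] at hq'Q
  rw [← hext x, ← map_commutatorElement]
  -- the commutator lies in `Z0 ⊓ (R ⊔ Q)`
  set c : ↥(R ⊔ Q) := ⁅(Subgroup.inclusion (le_sup_left : R ≤ R ⊔ Q) x : ↥(R ⊔ Q)), q'⁆ with hcdef
  have hc : (c : Ω) ∈ Z0 := (hR x.2).2 _ hq'Q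
  have hle : Z0 ⊓ (R ⊔ Q) ≤ R ⊔ Q := inf_le_right
  have hres := Fusion.restrict_mem F hψ hle
  exact hZ.2 (Z0 ⊓ (R ⊔ Q)) inf_le_left _ hres ⟨c.1, ⟨hc, c.2⟩⟩

/-- If `O_p(F)` is centric, then the centralizer of `O_p(F)` modulo a central strongly closed subgroup
lies in `O_p(F)`. -/
theorem cmod_le_core [Finite S] (p : ℕ) [Fact p.Prime] (hS : IsPGroup p S) (F : FusionSystem S)
    (hF : F.IsSaturated p) (hc : F.IsCentric F.core) {Z0 : Subgroup Ω} (hZ : F.StronglyClosed Z0)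
    (hZc : ∀ s ∈ S, ∀ z ∈ Z0, s * z = z * s) : cmod S F.core Z0 hZc ≤ F.core := by
  have hQn : F.IsNormal F.core := Fusion.core_isNormal F
  set Q := F.core with hQdef
  have hCsc := cmod_stronglyClosed F hQn hZ hZc
  set C := cmod S Q Z0 hZc with hCdef
  have hCS : C ≤ S := cmod_le hZc
  have hCQ : ⁅C, Q⁆ ≤ Z0 := by
    rw [Subgroup.commutator_le]
    intro g hg q hq
    exact hg.2 q hq
  have hZC : ⁅Z0, C⁆ = ⊥ := by
    rw [eq_bot_iff, Subgroup.commutator_le]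
    intro z hz g hg
    rw [Subgroup.mem_bot, commutatorElement_eq_one_iff_mul_comm]
    exact (hZc g (hCS hg) z hz).symm
  have hCC : ⁅C, C⁆ ≤ C := by
    rw [Subgroup.commutator_le]
    intro a ha b hb
    rw [commutatorElement_def]
    exact C.mul_mem (C.mul_mem (C.mul_mem ha hb) (C.inv_mem ha)) (C.inv_mem hb)
  have hCCQ : ⁅C, C⁆ ≤ Q := by
    have h1 : ⁅⁅C, Q⁆, C⁆ = ⊥ := by
      rw [eq_bot_iff, ← hZC]
      exact Subgroup.commutator_mono hCQ le_rfl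
    have h2 : ⁅⁅Q, C⁆, C⁆ = ⊥ := by
      rw [Subgroup.commutator_comm Q C]; exact h1
    have h3 : ⁅⁅C, C⁆, Q⁆ = ⊥ := Subgroup.commutator_commutator_eq_bot_of_rotate h1 h2
    have h4 : ⁅C, C⁆ ≤ Subgroup.centralizer (Q : Set Ω) :=
      Subgroup.commutator_eq_bot_iff_le_centralizer.mp h3
    intro g hg
    apply hc.2 Q (Fusion.isConj_refl F hQn.1)
    exact Subgroup.mem_inf.mpr ⟨hCS (hCC hg), h4 hg⟩
  have hCn : F.IsNormal C := by
    apply Fusion.isNormal_of_fin_chain p hS F hF C 3 ![⊥, Z0, C ⊓ Q, C] rfl rfl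
    intro i
    fin_cases i
    · refine ⟨hZ, ?_⟩
      show ⁅C, Z0⁆ ≤ ⊥
      rw [Subgroup.commutator_comm, hZC]
    · refine ⟨inf_stronglyClosed F hCsc (Fusion.stronglyClosed_of_isNormal F hQn), ?_⟩
      show ⁅C, C ⊓ Q⁆ ≤ Z0
      exact (Subgroup.commutator_mono le_rfl inf_le_right).trans hCQ
    · refine ⟨hCsc, ?_⟩
      show ⁅C, C⁆ ≤ C ⊓ Q
      exact le_inf hCC hCCQ
  exact le_sSup hCn

section factor

variable {Ω' : Type*} [Group Ω'] {S' : Subgroup Ω'}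

theorem imageAlong_sup_eq (θ : S →* Ω') {A B : Subgroup Ω} (hA : A ≤ S) (hB : B ≤ S) :
    imageAlong θ (A ⊔ B) = imageAlong θ A ⊔ imageAlong θ B := by
  unfold imageAlong
  rw [Subgroup.subgroupOf_sup hA hB, Subgroup.map_sup]

/-- The image of a subgroup normal in the system is normal in a factor system. -/
theorem imageAlong_isNormal [Finite S] (p : ℕ) [Fact p.Prime] (hS : IsPGroup p S)
    (F : FusionSystem S) (hF : F.IsSaturated p) {Z0 Q : Subgroup Ω} (hZ : F.StronglyClosed Z0)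
    (hQ : F.IsNormal Q) (θ : S →* Ω') (E : FusionSystem S') (hE : F.IsFactorSystem Z0 θ E) :
    E.IsNormal (imageAlong θ Q) := by
  have hθ := Fusion.isSurjectiveMorphism_of_isFactorSystem p hS F hF Z0 hZ θ E hE
  obtain ⟨hZS, hker, hrange, hHom⟩ := hE
  have hQS := hQ.1
  refine ⟨?_, ?_⟩
  · intro y hy
    obtain ⟨x, hx, hxS, rfl⟩ := (Fusion.mem_imageAlong θ Q y).mp hy
    exact hθ.1.1 _
  · intro P' φ' hφ'
    obtain ⟨hP'S', φ, hφ, hPS, hφS, hPP', hind⟩ := (hHom P' φ').mp hφ'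
    obtain ⟨ψ, hψ, hext, hmap⟩ := hQ.2 _ φ hφ
    obtain ⟨ψ', hψ', hPQS, hψS, hPQ', hindψ⟩ := hθ.1.2 _ ψ hψ
    have himg : imageAlong θ (preimageAlong θ P' ⊔ Q) = P' ⊔ imageAlong θ Q := by
      rw [imageAlong_sup_eq θ hPS hQS, Fusion.imageAlong_preimageAlong θ hrange hP'S']
    obtain ⟨χ, hχ, hχψ'⟩ := Fusion.exists_hom_of_eq E himg hψ'
    refine ⟨χ, hχ, ?_, ?_⟩
    · rintro ⟨y, hy⟩
      have hy' : y ∈ imageAlong θ (preimageAlong θ P') := by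
        rw [Fusion.imageAlong_preimageAlong θ hrange hP'S']; exact hy
      obtain ⟨x, hx, hxS, hxy⟩ := (Fusion.mem_imageAlong θ _ _).mp hy'
      subst hxy
      have h1 := hind ⟨x, hx⟩
      have h2 := hindψ ⟨x, (le_sup_left : preimageAlong θ P' ≤ preimageAlong θ P' ⊔ Q) hx⟩
      have h3 := hext ⟨x, hx⟩
      have h4 := hχψ' (θ ⟨x, hxS⟩) (hPQ' ⟨x, (le_sup_left : preimageAlong θ P' ≤ _) hx⟩)
        ((le_sup_left : P' ≤ P' ⊔ imageAlong θ Q) hy)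
      calc χ (Subgroup.inclusion le_sup_left ⟨θ ⟨x, hxS⟩, hy⟩)
          = ψ' ⟨θ ⟨x, hxS⟩, hPQ' ⟨x, (le_sup_left : preimageAlong θ P' ≤ _) hx⟩⟩ := h4
        _ = θ ⟨ψ ⟨x, (le_sup_left : preimageAlong θ P' ≤ _) hx⟩, hψS _⟩ := h2
        _ = θ ⟨φ ⟨x, hx⟩, hφS _⟩ := by
          congr 1
          exact Subtype.ext h3
        _ = φ' ⟨θ ⟨x, hxS⟩, hy⟩ := h1.symm
    · ext y
      constructor
      · rintro ⟨w, hw, rfl⟩
        rw [SetLike.mem_coe, Subgroup.mem_subgroupOf] at hw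
        obtain ⟨q, hq, hqS, hqw⟩ := (Fusion.mem_imageAlong θ Q _).mp hw
        have hqPQ : q ∈ preimageAlong θ P' ⊔ Q := (le_sup_right : Q ≤ _) hq
        have h2 := hindψ ⟨q, hqPQ⟩
        have h4 := hχψ' (θ ⟨q, hqS⟩) (hPQ' ⟨q, hqPQ⟩) (hqw ▸ w.2)
        have hw' : w = ⟨θ ⟨q, hqS⟩, hqw ▸ w.2⟩ := Subtype.ext hqw.symm
        rw [hw', h4]
        have : ψ' ⟨θ ⟨q, hqS⟩, hPQ' ⟨q, hqPQ⟩⟩ = θ ⟨ψ ⟨q, hqPQ⟩, hψS _⟩ := h2
        rw [this, Fusion.mem_imageAlong]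
        refine ⟨ψ ⟨q, hqPQ⟩, ?_, hψS _, rfl⟩
        apply hmap.le
        refine ⟨⟨q, hqPQ⟩, ?_, rfl⟩
        rw [SetLike.mem_coe, Subgroup.mem_subgroupOf]
        exact hq
      · intro hy
        obtain ⟨q, hq, hqS, rfl⟩ := (Fusion.mem_imageAlong θ Q _).mp hy
        have hq' : q ∈ (Q.subgroupOf (preimageAlong θ P' ⊔ Q)).map ψ := by rw [hmap]; exact hq
        obtain ⟨q0, hq0, hq0q⟩ := hq'
        rw [SetLike.mem_coe, Subgroup.mem_subgroupOf] at hq0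
        have hq0S : (q0 : Ω) ∈ S := hPQS q0.2
        have hq0img : θ ⟨q0.1, hq0S⟩ ∈ imageAlong θ Q :=
          (Fusion.mem_imageAlong θ Q _).mpr ⟨q0.1, hq0, hq0S, rfl⟩
        have hmem : θ ⟨q0.1, hq0S⟩ ∈ P' ⊔ imageAlong θ Q :=
          (le_sup_right : imageAlong θ Q ≤ P' ⊔ imageAlong θ Q) hq0img
        refine ⟨⟨θ ⟨q0.1, hq0S⟩, hmem⟩, ?_, ?_⟩
        · rw [SetLike.mem_coe, Subgroup.mem_subgroupOf]
          exact hq0img
        · have h2 := hindψ q0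
          have h4 := hχψ' (θ ⟨q0.1, hq0S⟩) (hPQ' q0) hmem
          rw [h4]
          have : ψ' ⟨θ ⟨q0.1, hq0S⟩, hPQ' q0⟩ = θ ⟨ψ q0, hψS _⟩ := h2
          rw [this]
          congr 1
          exact Subtype.ext hq0q

/-- The image of `O_p(F)` is centric in the factor system modulo a central strongly closed subgroup,
provided `O_p(F)` is centric. -/
theorem imageAlong_core_isCentric [Finite S] (p : ℕ) [Fact p.Prime] (hS : IsPGroup p S)
    (F : FusionSystem S) (hF : F.IsSaturated p) (hc : F.IsCentric F.core) {Z0 : Subgroup Ω}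
    (hZ : F.StronglyClosed Z0) (hZc : ∀ s ∈ S, ∀ z ∈ Z0, s * z = z * s)
    (θ : S →* Ω') (E : FusionSystem S') (hE : F.IsFactorSystem Z0 θ E) :
    E.IsCentric (imageAlong θ F.core) := by
  have hQn : F.IsNormal F.core := Fusion.core_isNormal F
  have hn := imageAlong_isNormal p hS F hF hZ hQn θ E hE
  have hle := cmod_le_core p hS F hF hc hZ hZc
  obtain ⟨hZS, hker, hrange, hHom⟩ := hE
  refine ⟨hn.1, ?_⟩
  rintro R' ⟨φ', hφ', hr⟩
  obtain ⟨ψ, hψ, hext, hmap⟩ := hn.2 _ φ' hφ'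
  have hQR : imageAlong θ F.core ≤ R' := by
    intro y hy
    have hy' : y ∈ ((imageAlong θ F.core).subgroupOf
        (imageAlong θ F.core ⊔ imageAlong θ F.core)).map ψ := by rw [hmap]; exact hy
    obtain ⟨w, hw, rfl⟩ := hy'
    rw [SetLike.mem_coe, Subgroup.mem_subgroupOf] at hw
    rw [← hr]
    refine ⟨⟨w.1, hw⟩, ?_⟩
    exact (hext ⟨w.1, hw⟩).symm
  intro c hc'
  obtain ⟨hcS', hcC⟩ := Subgroup.mem_inf.mp hc'
  have hcr : c ∈ θ.range := by rw [hrange]; exact hcS'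
  obtain ⟨s, rfl⟩ := hcr
  apply hQR
  rw [Fusion.mem_imageAlong]
  refine ⟨s.1, ?_, s.2, rfl⟩
  apply hle
  refine ⟨s.2, fun q hq => ?_⟩
  have hqS : q ∈ S := hQn.1 hq
  have h1 : θ (⁅s, ⟨q, hqS⟩⁆) = 1 := by
    rw [map_commutatorElement, commutatorElement_eq_one_iff_mul_comm]
    have hθq : θ ⟨q, hqS⟩ ∈ R' := hQR ((Fusion.mem_imageAlong θ _ _).mpr ⟨q, hq, hqS, rfl⟩)
    exact ((Subgroup.mem_centralizer_iff.mp hcC) _ hθq).symm
  exact (hker _).mp h1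

/-- A factor system of a constrained system modulo a central strongly closed subgroup has a normal
centric subgroup. -/
theorem exists_normal_centric_factor [Finite S] (p : ℕ) [Fact p.Prime] (hS : IsPGroup p S)
    (F : FusionSystem S) (hF : F.IsConstrained p) {Z0 : Subgroup Ω}
    (hZ : F.StronglyClosed Z0) (hZc : ∀ s ∈ S, ∀ z ∈ Z0, s * z = z * s)
    (θ : S →* Ω') (E : FusionSystem S') (hE : F.IsFactorSystem Z0 θ E) :
    ∃ Q' : Subgroup Ω', E.IsNormal Q' ∧ E.IsCentric Q' := by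
  obtain ⟨hsat, Q0, hQ0n, hQ0c⟩ := hF
  have hQn := Fusion.core_isNormal F
  have hc : F.IsCentric F.core := Fusion.isCentric_of_le F (le_sSup hQ0n) hQn.1 hQ0c
  exact ⟨imageAlong θ F.core, imageAlong_isNormal p hS F hsat hZ hQn θ E hE,
    imageAlong_core_isCentric p hS F hsat hc hZ hZc θ E hE⟩

end factor

end Cfsg.Agent.Helper2.ConstrQuot
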