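import Mathlib
import Cfsg.Prelude.Def_Balance
import Cfsg.Agent.Helper1.Coprime
import Cfsg.Agent.Helper1.Fitting
import Cfsg.Agent.Helper2.Conj

set_option autoImplicit false

namespace Cfsg.Agent.Helper2

open Cfsg.Agent.Helper1

variable {G : Type*} [Group G]

theorem le_normalizer_of_conj_mem {A K : Subgroup G}
    (h : ∀ b ∈ A, ∀ x ∈ K, b * x * b⁻¹ ∈ K) : A ≤ Subgroup.normalizer (K : Set G) := by
  intro b hb
  rw [Subgroup.mem_normalizer_iff]
  intro x
  constructor
  · exact h b hb x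
  · intro hx
    have := h b⁻¹ (A.inv_mem hb) _ hx
    have e : b⁻¹ * (b * x * b⁻¹) * b⁻¹⁻¹ = x := by group
    rwa [e] at this

theorem conj_mem_of_le_normalizer {A K : Subgroup G}
    (h : A ≤ Subgroup.normalizer (K : Set G)) : ∀ b ∈ A, ∀ x ∈ K, b * x * b⁻¹ ∈ K :=
  fun b hb x hx => (Subgroup.mem_normalizer_iff.mp (h hb) x).mp hx

/-- If `Y` normalizes `X` then `|XY|` divides `|X| |Y|`. -/
theorem card_sup_dvd_of_le_normalizer [Finite G] {X Y : Subgroup G}
    (hn : Y ≤ Subgroup.normalizer (X : Set G)) :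
    Nat.card ↥(X ⊔ Y) ∣ Nat.card X * Nat.card Y := by
  set L := X ⊔ Y with hL
  have hXL : X ≤ L := le_sup_left
  have hYL : Y ≤ L := le_sup_right
  have hnorm : (X.subgroupOf L).Normal :=
    (Subgroup.normal_subgroupOf_iff_le_normalizer hXL).2 (sup_le Subgroup.le_normalizer hn)
  have h2 : Y.subgroupOf L ⊔ X.subgroupOf L = ⊤ := by
    rw [← Subgroup.subgroupOf_sup hYL hXL, sup_comm, Subgroup.subgroupOf_self]
  have h3 := card_sup_dvd (Y.subgroupOf L) (X.subgroupOf L)
  rw [h2, Subgroup.card_top, card_subgroupOf_of_le hYL, card_subgroupOf_of_le hXL, mul_comm] at h3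
  exact h3

/-- If `Y` normalizes `X` and both are solvable then so is `XY`. -/
theorem isSolvable_sup_of_le_normalizer {X Y : Subgroup G} (hX : Group.IsSolvable ↥X)
    (hY : Group.IsSolvable ↥Y) (hn : Y ≤ Subgroup.normalizer (X : Set G)) :
    Group.IsSolvable ↥(X ⊔ Y) := by
  set L := X ⊔ Y with hL
  have hXL : X ≤ L := le_sup_left
  have hYL : Y ≤ L := le_sup_right
  have hnorm : (X.subgroupOf L).Normal :=
    (Subgroup.normal_subgroupOf_iff_le_normalizer hXL).2 (sup_le Subgroup.le_normalizer hn)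
  let g := QuotientGroup.mk' (X.subgroupOf L)
  have hsurj : Function.Surjective (g.comp (Subgroup.inclusion hYL)) := by
    intro q
    obtain ⟨l, rfl⟩ := QuotientGroup.mk'_surjective _ q
    obtain ⟨x, hx, y, hy, hxy⟩ := mem_sup_of_le_normalizer hn l.2
    refine ⟨⟨y, hy⟩, ?_⟩
    change g (Subgroup.inclusion hYL ⟨y, hy⟩) = g l
    have hl : l = (⟨x, hXL hx⟩ : ↥L) * ⟨y, hYL hy⟩ := Subtype.ext hxy
    have h1 : g (⟨x, hXL hx⟩ : ↥L) = 1 := by
      rw [QuotientGroup.mk'_apply, QuotientGroup.eq_one_iff, Subgroup.mem_subgroupOf]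
      exact hx
    rw [hl, map_mul, h1, one_mul]
    rfl
  have hq : Group.IsSolvable (↥L ⧸ X.subgroupOf L) := Group.isSolvable_of_surjective hsurj
  apply Group.isSolvable_of_ker_le_range (Subgroup.inclusion hXL) g
  rw [QuotientGroup.ker_mk']
  intro l hl
  rw [Subgroup.mem_subgroupOf] at hl
  exact ⟨⟨l, hl⟩, Subtype.ext rfl⟩

theorem orderOf_eq_of_elementary {p : ℕ} [hp : Fact p.Prime] {A : Subgroup G}
    (hA : Cfsg.IsElementaryAbelian p A) {a : G} (ha : a ∈ A) (ha1 : a ≠ 1) : orderOf a = p :=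
  orderOf_eq_prime (hA.2 a ha) ha1

theorem card_zpowers_coprime {p : ℕ} [hp : Fact p.Prime] {A : Subgroup G}
    (hA : Cfsg.IsElementaryAbelian p A) {a : G} (ha : a ∈ A) (ha1 : a ≠ 1) {K : Subgroup G}
    (hK : ¬ p ∣ Nat.card K) : (Nat.card (Subgroup.zpowers a)).Coprime (Nat.card K) := by
  rw [Nat.card_zpowers, orderOf_eq_of_elementary hA ha ha1]
  exact (Nat.Prime.coprime_iff_not_dvd hp.out).mpr hK

theorem centralizer_zpowers_eq (a : G) :
    Subgroup.centralizer ((Subgroup.zpowers a : Subgroup G) : Set G) =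
      Subgroup.centralizer ({a} : Set G) := by
  rw [Subgroup.zpowers_eq_closure, Subgroup.centralizer_closure]

end Cfsg.Agent.Helper2
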