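import Mathlib
import Cfsg.Agent.Helper5.LTCH
import Cfsg.Agent.Helper5.LTCF
import Cfsg.Agent.Helper5.LTCI
import Cfsg.Agent.Helper5.StemPI

/-!
# Towers of covering presentations: the generic stage

A *stage* is a number `d` of generators `g 0, …, g (d - 1)` of a group `P`, of orders dividing
`mm i`, with a list `C` of words in the letters `g i ^ ±1` which are trivial in `P`.  The covering
presentation of exponent `e` of the stage maps to `P` (`Stage.pi`); when its order is bounded by the
order of the image, the map is injective, and then every word of the stage which is trivial in `P` is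
trivial in the covering group.  A lower stage maps to an upper one (`Stage.up`), so the words of the
lower stage that are trivial in `P` are trivial in the covering group of the upper stage, and so are
the words `y⁻¹ v y u⁻¹` of the upper stage where `v, u` are words of the lower stage whose order is
prime to `e`.
-/

set_option autoImplicit false

namespace Cfsg.Agent.Helper2.Tw

open Cfsg Cfsg.Agent.Helper5 Cfsg.Agent.Helper5.StemP Cfsg.Agent.Helper5.LP
  Cfsg.Agent.Helper5.LTC

universe u

section stage
variable {P : Type u} [Group P]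

/-- a stage: `d` generators of orders dividing `mm i`, words `C` trivial in `P`. -/
structure Stage (g : ℕ → P) (mm : ℕ → ℕ) (d : ℕ) (C : List (List ℕ)) : Prop where
  /-- the letters are those of the first `d` generators -/
  lt : ∀ r ∈ C, ∀ c ∈ r, c < 2 * d
  /-- the words are trivial -/
  rel : ∀ r ∈ C, (r.map (lval g)).prod = 1
  /-- the orders -/
  pow : ∀ i, i < d → g i ^ mm i = 1

namespace Stage
variable {g : ℕ → P} {mm : ℕ → ℕ} {d : ℕ} {C : List (List ℕ)} (S : Stage g mm d C) (e : ℕ)

include S in
theorem lt2 : ∀ r ∈ C ++ C, ∀ c ∈ r, c < 2 * d := by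
  intro r hr
  rcases List.mem_append.mp hr with h | h <;> exact S.lt r h

include S in
theorem rel2 : ∀ r ∈ C ++ C, (r.map (lval g)).prod = 1 := by
  intro r hr
  rcases List.mem_append.mp hr with h | h <;> exact S.rel r h

/-- the covering homomorphism of the stage. -/
noncomputable def pi : CovG d mm C C e →* P :=
  coverHomU d mm C C e S.lt2 g S.pow S.rel2

theorem pi_ev (l : List ℕ) (hl : ∀ c ∈ l, c < 2 * d) :
    S.pi e (ev (2 * d) (coverRels d mm C C e) l) = (l.map (lval g)).prod :=
  coverHomU_ev d mm C C e S.lt2 g S.pow S.rel2 l hl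

theorem pi_surj (hgen : Subgroup.closure {y | ∃ i, i < d ∧ y = g i} = ⊤) :
    Function.Surjective (S.pi e) :=
  coverHomU_surjective d mm C C e S.lt2 g S.pow S.rel2 hgen

theorem zC_ker : ∀ i, zC d mm C C e i ∈ (S.pi e).ker := by
  intro i
  unfold zC
  by_cases hi : i < C.length
  · rw [List.getD_eq_getElem C [] hi]
    exact coverHomU_ker d mm C C e S.lt2 g S.pow S.rel2 (List.getElem_mem hi)
  · rw [List.getD_eq_default C [] (by omega), ev_nil]
    exact Subgroup.one_mem _

/-- the order bound: the covering group has at most `M` elements, and its image at least `M`. -/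
def Bound (M : ℕ) : Prop :=
  Finite (CovG d mm C C e) ∧ Nat.card (CovG d mm C C e) ≤ M ∧ M ≤ Nat.card (S.pi e).range

variable {e}

theorem pi_injective {M : ℕ} (hB : S.Bound e M) : Function.Injective (S.pi e) := by
  have := hB.1
  have hs := (S.pi e).rangeRestrict_surjective
  have hb := hs.bijective_of_nat_card_le (hB.2.1.trans hB.2.2)
  intro x y hxy
  apply hb.1
  exact Subtype.ext hxy

/-- a word of the stage which is trivial in `P` is trivial in the covering group. -/
theorem ev_eq_one {M : ℕ} (hB : S.Bound e M) (r : List ℕ) (hr : ∀ c ∈ r, c < 2 * d)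
    (h1 : (r.map (lval g)).prod = 1) : ev (2 * d) (coverRels d mm C C e) r = 1 := by
  apply S.pi_injective hB
  rw [map_one, S.pi_ev e r hr, h1]

/-- a word of the stage whose power is trivial in `P` has that power trivial in the covering
group. -/
theorem ev_pow_eq_one {M : ℕ} (hB : S.Bound e M) (r : List ℕ) (hr : ∀ c ∈ r, c < 2 * d) (n : ℕ)
    (h1 : (r.map (lval g)).prod ^ n = 1) : ev (2 * d) (coverRels d mm C C e) r ^ n = 1 := by
  apply S.pi_injective hB
  rw [map_one, map_pow, S.pi_ev e r hr, h1]

theorem card_eq {M : ℕ} (hB : S.Bound e M) : Nat.card (CovG d mm C C e) = Nat.card (S.pi e).range := by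
  have := hB.1
  exact Nat.card_congr (Equiv.ofBijective (S.pi e).rangeRestrict
    ⟨fun x y hxy => S.pi_injective hB (congrArg Subtype.val hxy),
      (S.pi e).rangeRestrict_surjective⟩)

end Stage

/-! ### a lower stage inside an upper stage -/

section up
variable {g : ℕ → P} {mm : ℕ → ℕ} {d' d : ℕ} {C' C : List (List ℕ)}
  (S' : Stage g mm d' C') (S : Stage g mm d C) (hd : d' ≤ d) (hsub : ∀ r ∈ C', r ∈ C) (e : ℕ)

include hd in
theorem lt_up {l : List ℕ} (hl : ∀ c ∈ l, c < 2 * d') : ∀ c ∈ l, c < 2 * d :=
  fun c hc => by have := hl c hc; omega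

include hd in
theorem ev_up_eq (l : List ℕ) (hl : ∀ c ∈ l, c < 2 * d') :
    (l.map (lval (cgen d mm C C e))).prod = ev (2 * d) (coverRels d mm C C e) l :=
  (ev_eq_prod d mm C C e l (lt_up hd hl)).symm

include S' S hd hsub in
theorem rels_up : ∀ l ∈ coverRels d' mm C' C' e,
    (l.map (lval (cgen d mm C C e))).prod = 1 := by
  apply coverRels_hold
  · intro i hi
    exact cgen_pow d mm C C e (i := i) (by omega)
  · intro r hr
    rw [ev_up_eq hd e r (S'.lt r hr)]
    exact cover_center d mm C C e (hsub r hr) (S.lt r (hsub r hr))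
  · intro r hr
    rw [ev_up_eq hd e r (S'.lt r hr), ev_pow]
    exact ev_rel (mem_coverRels_T d mm C C e (hsub r hr))

/-- the natural map from the covering group of the lower stage. -/
noncomputable def up : CovG d' mm C' C' e →* CovG d mm C C e :=
  lift (lval (cgen d mm C C e)) (coverRels_lt d' mm C' C' e S'.lt2) (rels_up S' S hd hsub e)

theorem up_ev (l : List ℕ) (hl : ∀ c ∈ l, c < 2 * d') :
    up S' S hd hsub e (ev (2 * d') (coverRels d' mm C' C' e) l) =
      ev (2 * d) (coverRels d mm C C e) l := by
  unfold up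
  rw [lift_ev _ _ _ l hl, ev_up_eq hd e l hl]

/-- the image of the covering group of the lower stage. -/
noncomputable def kS : Subgroup (CovG d mm C C e) := (up S' S hd hsub e).range

theorem comp_up : (S.pi e).comp (up S' S hd hsub e) = S'.pi e := by
  apply covG_hom_ext
  intro c hc
  have hl : ∀ c' ∈ [c], c' < 2 * d' := by
    intro c' hc'
    rw [List.mem_singleton] at hc'
    omega
  rw [MonoidHom.comp_apply, up_ev S' S hd hsub e [c] hl, S.pi_ev e [c] (lt_up hd hl),
    S'.pi_ev e [c] hl]

theorem letter_mem_kS (c : ℕ) (hc : c < 2 * d') :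
    ev (2 * d) (coverRels d mm C C e) [c] ∈ kS S' S hd hsub e := by
  refine ⟨ev (2 * d') (coverRels d' mm C' C' e) [c], ?_⟩
  apply up_ev
  intro c' hc'
  rw [List.mem_singleton] at hc'
  omega

variable {e}

theorem kS_fin {M' : ℕ} (hB' : S'.Bound e M') : Finite (kS S' S hd hsub e) := by
  have := hB'.1
  exact Finite.of_surjective (up S' S hd hsub e).rangeRestrict
    (up S' S hd hsub e).rangeRestrict_surjective

theorem kS_card {M' : ℕ} (hB' : S'.Bound e M') : Nat.card (kS S' S hd hsub e) ≤ M' := by
  have := hB'.1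
  exact (Nat.card_le_card_of_surjective (up S' S hd hsub e).rangeRestrict
    (up S' S hd hsub e).rangeRestrict_surjective).trans hB'.2.1

theorem kS_map_card {M' : ℕ} (hB' : S'.Bound e M') :
    M' ≤ Nat.card ((kS S' S hd hsub e).map (S.pi e)) := by
  have h : (kS S' S hd hsub e).map (S.pi e) = (S'.pi e).range := by
    unfold kS
    rw [← MonoidHom.range_comp, comp_up]
  rw [h]
  exact hB'.2.2

theorem kS_inj {M' : ℕ} (hB' : S'.Bound e M') :
    ∀ l, phi (zC d mm C C e) l ∈ kS S' S hd hsub e → phi (zC d mm C C e) l = 1 := by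
  intro l hl
  have := kS_fin S' S hd hsub hB'
  apply eq_one_of_map_card (kS S' S hd hsub e) (S.pi e) M' (kS_card S' S hd hsub hB')
    (kS_map_card S' S hd hsub hB') _ hl
  exact MonoidHom.mem_ker.mp (phi_mem _ (S.zC_ker e) l)

include S hd hsub in
/-- a word of the lower stage which is trivial in `P` is trivial in the covering group of the
upper stage. -/
theorem ev_low_eq_one {M' : ℕ} (hB' : S'.Bound e M') (r : List ℕ) (hr : ∀ c ∈ r, c < 2 * d')
    (h1 : (r.map (lval g)).prod = 1) : ev (2 * d) (coverRels d mm C C e) r = 1 := by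
  rw [← up_ev S' S hd hsub e r hr, S'.ev_eq_one hB' r hr h1, map_one]

include S hd hsub in
theorem ev_low_pow_eq_one {M' : ℕ} (hB' : S'.Bound e M') (r : List ℕ)
    (hr : ∀ c ∈ r, c < 2 * d') (n : ℕ) (h1 : (r.map (lval g)).prod ^ n = 1) :
    ev (2 * d) (coverRels d mm C C e) r ^ n = 1 := by
  rw [← up_ev S' S hd hsub e r hr, ← map_pow, S'.ev_pow_eq_one hB' r hr n h1, map_one]

end up

end stage

end Cfsg.Agent.Helper2.Tw
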