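import Mathlib
import Cfsg.Agent.Helper2.TwA

/-!
# Towers of covering presentations: words known to be trivial, and the order bound

* `ev_conj_eq_one`: a central word `y⁻¹ v y u⁻¹` of exponent `e`, where `v` and `u` are words of a
  lower stage (whose covering group is known) of order prime to `e`, is trivial.
* `zC_tail`: the words of `C` after the first `n` ones are trivial when they pass the test `freeB`.
* `wordOK3`, `covG_card_le_free`: the variant of `Helper5.LTC.covG_card_le_tail` where the number of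
  words of `C` that a certificate may use is 256 instead of 16.
* `stage_bound`: the order bound of the upper stage from a labelled Todd–Coxeter certificate.
* `base_bound`: the stage of one generator.
-/

set_option autoImplicit false

namespace Cfsg.Agent.Helper2.Tw

open Cfsg Cfsg.Agent.Helper5 Cfsg.Agent.Helper5.StemP Cfsg.Agent.Helper5.LP
  Cfsg.Agent.Helper5.LTC

universe u

/-- the conjugation word `y⁻¹ v y u⁻¹`. -/
def conjWord (y v u : List ℕ) : List ℕ := winv y ++ v ++ y ++ winv u

/-- is the word `r` known to be trivial in the covering group: a word of the lower stage, or a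
conjugation word from the list `FD`? -/
def freeB (d' d e : ℕ) (FD : List (List ℕ × List ℕ × List ℕ × ℕ)) (r : List ℕ) : Bool :=
  r.all (fun c => Nat.blt c (2 * d')) ||
  FD.any (fun q => decide (r = conjWord q.1 q.2.1 q.2.2.1) &&
    q.1.all (fun c => Nat.blt c (2 * d)) && q.2.1.all (fun c => Nat.blt c (2 * d')) &&
    q.2.2.1.all (fun c => Nat.blt c (2 * d')) && Nat.beq (Nat.gcd q.2.2.2 e) 1)

theorem all_blt {l : List ℕ} {n : ℕ} (h : l.all (fun c => Nat.blt c n) = true) :
    ∀ c ∈ l, c < n := by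
  intro c hc
  have := List.all_eq_true.mp h c hc
  rwa [Nat.blt_eq] at this

section stage
variable {P : Type u} [Group P]
variable {g : ℕ → P} {mm : ℕ → ℕ} {d' d : ℕ} {C' C : List (List ℕ)}
  (S' : Stage g mm d' C') (S : Stage g mm d C) (hd : d' ≤ d) (hsub : ∀ r ∈ C', r ∈ C) {e : ℕ}

include S' S hd hsub in
/-- a central word `y⁻¹ v y u⁻¹` of exponent `e`, with `v, u` words of the lower stage of order prime
to `e`, is trivial in the covering group of the upper stage. -/
theorem ev_conj_eq_one {M' : ℕ} (hB' : S'.Bound e M') (y v u : List ℕ) (m : ℕ)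
    (hm : Nat.gcd m e = 1) (hy : ∀ c ∈ y, c < 2 * d) (hv : ∀ c ∈ v, c < 2 * d')
    (hu : ∀ c ∈ u, c < 2 * d') (hvm : (v.map (lval g)).prod ^ m = 1)
    (hmem : conjWord y v u ∈ C) :
    ev (2 * d) (coverRels d mm C C e) (conjWord y v u) = 1 := by
  have hcen := cover_center d mm C C e hmem (S.lt _ hmem)
  have hze : ev (2 * d) (coverRels d mm C C e) (conjWord y v u) ^ e = 1 := by
    rw [ev_pow]
    exact ev_rel (mem_coverRels_T d mm C C e hmem)
  have hr : ev (2 * d) (coverRels d mm C C e) (conjWord y v u) =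
      (ev (2 * d) (coverRels d mm C C e) y)⁻¹ * ev (2 * d) (coverRels d mm C C e) v *
        ev (2 * d) (coverRels d mm C C e) y * (ev (2 * d) (coverRels d mm C C e) u)⁻¹ := by
    unfold conjWord
    rw [ev_append, ev_append, ev_append, ev_winv d mm C C e hy,
      ev_winv d mm C C e (lt_up hd hu)]
  -- in `P`
  have hP := S.rel _ hmem
  unfold conjWord at hP
  rw [List.map_append, List.map_append, List.map_append, List.prod_append, List.prod_append,
    List.prod_append, prod_winv, prod_winv] at hP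
  have hu1 : (u.map (lval g)).prod =
      ((y.map (lval g)).prod)⁻¹ * (v.map (lval g)).prod * (y.map (lval g)).prod :=
    (mul_inv_eq_one.mp hP).symm
  have hum : (u.map (lval g)).prod ^ m = 1 := by
    rw [hu1]
    have := conj_pow (a := ((y.map (lval g)).prod)⁻¹) (b := (v.map (lval g)).prod) (i := m)
    rw [inv_inv] at this
    rw [this, hvm, mul_one, inv_mul_cancel]
  have hv' := ev_low_pow_eq_one S' S hd hsub hB' v hv m hvm
  have hu' := ev_low_pow_eq_one S' S hd hsub hB' u hu m hum
  set z := ev (2 * d) (coverRels d mm C C e) (conjWord y v u) with hz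
  set a := ev (2 * d) (coverRels d mm C C e) y
  set b := ev (2 * d) (coverRels d mm C C e) v
  set c := ev (2 * d) (coverRels d mm C C e) u
  have h1 : a⁻¹ * b * a = z * c := by
    rw [hr]
    group
  have h2 : (a⁻¹ * b * a) ^ m = 1 := by
    have := conj_pow (a := a⁻¹) (b := b) (i := m)
    rw [inv_inv] at this
    rw [this, hv', mul_one, inv_mul_cancel]
  have h3 : (z * c) ^ m = z ^ m := by
    have hcomm : Commute z c := (Subgroup.mem_center_iff.mp hcen c).symm
    rw [hcomm.mul_pow, hu', mul_one]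
  rw [h1, h3] at h2
  have h4 : z ^ Nat.gcd m e = 1 := pow_gcd_eq_one.mpr ⟨h2, hze⟩
  rwa [hm, pow_one] at h4

include S' S hd hsub in
/-- the words of `C` after the first `n` ones are trivial in the covering group. -/
theorem zC_tail {M' : ℕ} (hB' : S'.Bound e M') (n : ℕ)
    (FD : List (List ℕ × List ℕ × List ℕ × ℕ))
    (hFD : ∀ q ∈ FD, (q.2.1.map (lval g)).prod ^ q.2.2.2 = 1)
    (hfree : ∀ r ∈ C.drop n, freeB d' d e FD r = true) :
    ∀ i, n ≤ i → zC d mm C C e i = 1 := by
  intro i hi
  unfold zC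
  by_cases hlt : i < C.length
  · rw [List.getD_eq_getElem C [] hlt]
    have hmemC : C[i] ∈ C := List.getElem_mem hlt
    have hmem : C[i] ∈ C.drop n := by
      have h1 : i - n < (C.drop n).length := by
        rw [List.length_drop]
        omega
      have h2 : (C.drop n)[i - n] = C[i] := by
        rw [List.getElem_drop]
        congr 1
        omega
      rw [← h2]
      exact List.getElem_mem h1
    have hf := hfree _ hmem
    unfold freeB at hf
    rw [Bool.or_eq_true] at hf
    rcases hf with hf | hf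
    · exact ev_low_eq_one S' S hd hsub hB' _ (all_blt hf) (S.rel _ hmemC)
    · obtain ⟨q, hq, hq2⟩ := List.any_eq_true.mp hf
      simp only [Bool.and_eq_true, decide_eq_true_eq] at hq2
      obtain ⟨⟨⟨⟨h1, h2⟩, h3⟩, h4⟩, h5⟩ := hq2
      have hm : Nat.gcd q.2.2.2 e = 1 := Nat.eq_of_beq_eq_true h5
      rw [h1]
      apply ev_conj_eq_one S' S hd hsub hB' q.1 q.2.1 q.2.2.1 q.2.2.2 hm (all_blt h2) (all_blt h3)
        (all_blt h4) (hFD q hq)
      rw [← h1]
      exact hmemC
  · rw [List.getD_eq_default C [] (by omega), ev_nil]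

end stage

/-! ### the certificates -/

section cov
variable (d : ℕ) (m : ℕ → ℕ) (CC TT : List (List ℕ)) (e : ℕ)

/-- is `(w, δ)` a valid relator word with its label, when only the first `n` words of `CC` carry
labels?  The origin `o` is even for a relator of the covering presentation or the empty word, and
`2 * (i + 256 * p) + 1` for the rotation by `p` of the word `i` of `CC`. -/
def wordOK3 (R CC : List (List ℕ)) (n : ℕ) (w : List ℕ) (δ : L8) (o : ℕ) : Bool :=
  bif Nat.beq (o % 2) 0 then (w.isEmpty || R.contains w) && L8.beq δ L8.zero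
  else Nat.blt (o / 2 % 256) CC.length &&
    decide ((CC.getD (o / 2 % 256) []).rotate (o / 512) = w) &&
    (bif Nat.blt (o / 2 % 256) n then
      Nat.blt (o / 2 % 256) 8 && L8.beq δ (L8.unit (o / 2 % 256))
    else L8.beq δ L8.zero)

theorem wordOK3_sound (hlt : ∀ r ∈ CC, ∀ c ∈ r, c < 2 * d) (n : ℕ)
    (hzn : ∀ i, n ≤ i → zC d m CC TT e i = 1) {w : List ℕ} {δ : L8} {o : ℕ}
    (h : wordOK3 (coverRels d m CC TT e) CC n w δ o = true) :
    ev (2 * d) (coverRels d m CC TT e) w = phi (zC d m CC TT e) δ := by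
  unfold wordOK3 at h
  cases ho : Nat.beq (o % 2) 0 with
  | true =>
    rw [ho, cond_true, Bool.and_eq_true, Bool.or_eq_true] at h
    rw [L8.eq_of_beq h.2, phi_zero]
    rcases h.1 with h1 | h1
    · rw [List.isEmpty_iff] at h1
      rw [h1, ev_nil]
    · exact ev_rel (List.contains_iff_mem.mp h1)
  | false =>
    rw [ho, cond_false, Bool.and_eq_true, Bool.and_eq_true] at h
    obtain ⟨⟨h1, h3⟩, h4⟩ := h
    have hrot : ev (2 * d) (coverRels d m CC TT e) w = zC d m CC TT e (o / 2 % 256) := by
      rw [← of_decide_eq_true h3]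
      unfold zC
      apply ev_rotate
      have := zC_center d m CC TT e hlt (o / 2 % 256)
      exact this
    rw [hrot]
    cases hn : Nat.blt (o / 2 % 256) n with
    | true =>
      rw [hn, cond_true, Bool.and_eq_true] at h4
      have h2 : o / 2 % 256 < 8 := by
        have := h4.1
        rwa [Nat.blt_eq] at this
      rw [L8.eq_of_beq h4.2, phi_unit h2]
    | false =>
      rw [hn, cond_false] at h4
      rw [L8.eq_of_beq h4, phi_zero]
      apply hzn
      by_contra hcon
      rw [not_le] at hcon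
      have : Nat.blt (o / 2 % 256) n = true := by rwa [Nat.blt_eq]
      rw [this] at hn
      exact Bool.noConfusion hn

/-- **the order bound for covering groups from a labelled certificate**, the words of `CC` after
the first `n` ones being known to have trivial value (up to 256 words). -/
theorem covG_card_le_free (C : Cert) (hk : C.k = 2 * d) (hι : C.ι = linv) (hE : C.E = e)
    (he0 : 0 < e) (hCT : ∀ r ∈ CC, r ∈ TT) (hlt : ∀ r ∈ CC, ∀ c ∈ r, c < 2 * d)
    (n : ℕ) (hn : n ≤ 8) (hzn : ∀ i, n ≤ i → zC d m CC TT e i = 1)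
    (hWlt : ∀ wi, ∀ c ∈ C.W wi, c < 2 * d) (orig : ℕ → ℕ)
    (hwordOK : ∀ wi, wi < C.nrel →
      wordOK3 (coverRels d m CC TT e) CC n (C.W wi) (C.δ wi) (orig wi) = true)
    (K : Subgroup (CovG d m CC TT e))
    (hsubs : ∀ wi, C.nrel ≤ wi → wi < C.nw →
      ev (2 * d) (coverRels d m CC TT e) (C.W wi) ∈ K)
    [Finite K] (hK : ∀ l, phi (zC d m CC TT e) l ∈ K → phi (zC d m CC TT e) l = 1)
    (hchk : ∀ j, j < C.nf → ∃ r, checkFact C j r = true)
    (T : Tab) (hT0 : T.LV 0 = 0) (h0N : 0 < T.N)
    (hT : ∀ n, n < T.N → ∀ x, x < C.k → tabEntryOK C T n x = true)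
    (js : List ℕ) (hjs : ∀ j ∈ js, relFactOK C j = true)
    (i0 a : ℕ) (hi0 : i0 < 8) (ha : 0 < a) (cs0 : List ℕ) (h0 : ordOK C js cs0 i0 a = true)
    (as : ℕ → ℕ) (css : ℕ → List ℕ)
    (hgs : ∀ i, i < n → genOK C js (css i) i i0 (as i) = true) :
    Finite (CovG d m CC TT e) ∧ Nat.card (CovG d m CC TT e) ≤ Nat.card K * T.N * a := by
  have hH : Hyp C K (gC d m CC TT e) (zC d m CC TT e) := by
    refine ⟨zC_center d m CC TT e hlt, by rw [hE]; exact he0, ?_, ?_, ?_, ?_, ?_⟩
    · intro i
      rw [hE]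
      exact zC_pow d m CC TT e hCT i
    · intro x _
      rw [hι]
      exact lval_linv _ x
    · intro wi c hc
      rw [hk]
      exact hWlt wi c hc
    · intro wi hwi
      rw [lprod_gC d m CC TT e _ (hWlt wi)]
      exact wordOK3_sound d m CC TT e hlt n hzn (hwordOK wi hwi)
    · intro wi h1 h2
      rw [lprod_gC d m CC TT e _ (hWlt wi)]
      exact hsubs wi h1 h2
  refine ltc_main hH hchk T hT0 h0N hT ?_ hK n hn hzn js hjs i0 a hi0 ha cs0 h0 as css hgs
  intro p
  obtain ⟨l, hl, hp⟩ := exists_word d m CC TT e p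
  exact ⟨l, by rw [hk]; exact hl, hp⟩

end cov

section bound
variable {P : Type u} [Group P]
variable {g : ℕ → P} {mm : ℕ → ℕ} {d' d : ℕ} {C' C : List (List ℕ)}
  (S' : Stage g mm d' C') (S : Stage g mm d C) (hd : d' ≤ d) (hsub : ∀ r ∈ C', r ∈ C) {e : ℕ}

include S hd hsub in
/-- **the order bound of the upper stage** from a labelled Todd–Coxeter certificate over the image
of the covering group of the lower stage, whose subgroup words are letters of the lower stage. -/
theorem stage_bound {M' : ℕ} (hB' : S'.Bound e M') (he0 : 0 < e) (n : ℕ) (hn : n ≤ 8)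
    (FD : List (List ℕ × List ℕ × List ℕ × ℕ))
    (hFD : ∀ q ∈ FD, (q.2.1.map (lval g)).prod ^ q.2.2.2 = 1)
    (hfree : ∀ r ∈ C.drop n, freeB d' d e FD r = true)
    (Ct : Cert) (hk : Ct.k = 2 * d) (hι : Ct.ι = linv) (hE : Ct.E = e)
    (hWlt : ∀ wi, ∀ c ∈ Ct.W wi, c < 2 * d) (orig : ℕ → ℕ)
    (hwordOK : ∀ wi, wi < Ct.nrel →
      wordOK3 (coverRels d mm C C e) C n (Ct.W wi) (Ct.δ wi) (orig wi) = true)
    (hsubs : ∀ wi, Ct.nrel ≤ wi → wi < Ct.nw → ∃ c, c < 2 * d' ∧ Ct.W wi = [c])
    (hchk : ∀ j, j < Ct.nf → ∃ r, checkFact Ct j r = true)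
    (T : Tab) (hT0 : T.LV 0 = 0) (h0N : 0 < T.N)
    (hT : ∀ n, n < T.N → ∀ x, x < Ct.k → tabEntryOK Ct T n x = true)
    (js : List ℕ) (hjs : ∀ j ∈ js, relFactOK Ct j = true)
    (i0 a : ℕ) (hi0 : i0 < 8) (ha : 0 < a) (cs0 : List ℕ) (h0 : ordOK Ct js cs0 i0 a = true)
    (as : ℕ → ℕ) (css : ℕ → List ℕ)
    (hgs : ∀ i, i < n → genOK Ct js (css i) i i0 (as i) = true) :
    Finite (CovG d mm C C e) ∧ Nat.card (CovG d mm C C e) ≤ M' * T.N * a := by
  have := kS_fin S' S hd hsub hB'
  have h := covG_card_le_free d mm C C e Ct hk hι hE he0 (fun r hr => hr) S.lt n hn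
    (zC_tail S' S hd hsub hB' n FD hFD hfree) hWlt orig hwordOK (kS S' S hd hsub e)
    (by
      intro wi h1 h2
      obtain ⟨c, hc, hw⟩ := hsubs wi h1 h2
      rw [hw]
      exact letter_mem_kS S' S hd hsub e c hc)
    (kS_inj S' S hd hsub hB') hchk T hT0 h0N hT js hjs i0 a hi0 ha cs0 h0 as css hgs
  refine ⟨h.1, h.2.trans ?_⟩
  exact Nat.mul_le_mul_right _ (Nat.mul_le_mul_right _ (kS_card S' S hd hsub hB'))

end bound

/-! ### the stage of one generator -/

section base
variable {P : Type u} [Group P] {g : ℕ → P} {mm : ℕ → ℕ}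

theorem base_stage (h : g 0 ^ mm 0 = 1) : Stage g mm 1 [] where
  lt := fun r hr => absurd hr (List.not_mem_nil)
  rel := fun r hr => absurd hr (List.not_mem_nil)
  pow := fun i hi => by
    have : i = 0 := by omega
    rw [this]
    exact h

theorem base_bound (S0 : Stage g mm 1 []) (e : ℕ) (h0 : 0 < mm 0) (hord : orderOf (g 0) = mm 0) :
    S0.Bound e (mm 0) := by
  have hx : cgen 1 mm [] [] e 0 ^ mm 0 = 1 := cgen_pow 1 mm [] [] e (i := 0) (by norm_num)
  have htop : Subgroup.zpowers (cgen 1 mm [] [] e 0) = ⊤ := by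
    rw [eq_top_iff, ← closure_cgen 1 mm [] [] e, Subgroup.closure_le]
    rintro x ⟨i, hi, rfl⟩
    have : i = 0 := by omega
    rw [this]
    exact Subgroup.mem_zpowers _
  have hfo : IsOfFinOrder (cgen 1 mm [] [] e 0) := isOfFinOrder_iff_pow_eq_one.mpr ⟨mm 0, h0, hx⟩
  have hfin : Finite (CovG 1 mm [] [] e) := by
    have h1 : Finite (Subgroup.zpowers (cgen 1 mm [] [] e 0)) :=
      Nat.finite_of_card_ne_zero (by
        rw [Nat.card_zpowers]
        exact (orderOf_pos_iff.mpr hfo).ne')
    rw [htop] at h1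
    exact Finite.of_equiv _ Subgroup.topEquiv.toEquiv
  have hcard : Nat.card (CovG 1 mm [] [] e) ≤ mm 0 := by
    have h1 : Nat.card (CovG 1 mm [] [] e) = orderOf (cgen 1 mm [] [] e 0) := by
      rw [← Nat.card_zpowers, htop, Subgroup.card_top]
    rw [h1]
    exact Nat.le_of_dvd h0 (orderOf_dvd_of_pow_eq_one hx)
  refine ⟨hfin, hcard, ?_⟩
  have hmem : g 0 ∈ (S0.pi e).range := by
    refine ⟨cgen 1 mm [] [] e 0, ?_⟩
    unfold cgen
    rw [S0.pi_ev e [2 * 0] (by
      intro c hc
      rw [List.mem_singleton] at hc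
      omega)]
    simp only [List.map_cons, List.map_nil, List.prod_cons, List.prod_nil, mul_one, lval_even]
  have : Finite (S0.pi e).range :=
    Finite.of_surjective (S0.pi e).rangeRestrict (S0.pi e).rangeRestrict_surjective
  have hd : mm 0 ∣ Nat.card (S0.pi e).range := by
    rw [← hord, ← Subgroup.orderOf_mk (g 0) hmem]
    exact orderOf_dvd_natCard _
  exact Nat.le_of_dvd Nat.card_pos hd

end base

end Cfsg.Agent.Helper2.Tw
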