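import Mathlib
import Cfsg.Agent.Helper9.Co2O.Final
import Cfsg.Agent.Helper5.LPC
import Cfsg.Agent.Helper5.LPX
import Cfsg.Agent.Helper2.TwB

/-!
# The second Conway group as a permutation group on 4600 points, for the Schur multiplier

The permutation group `GS core` of `Cfsg.Agent.Helper9.Co2O` (isomorphic to the second Conway group,
of order 42305421312000), and the generic facts about systems of generators given by words in its
four letters.
-/

set_option autoImplicit false

namespace Cfsg.Agent.Helper2.Co2M

open Cfsg Cfsg.Agent.Helper5.LP Cfsg.Agent.Helper5.StemP Cfsg.Agent.Helper9.OutG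
  Cfsg.Agent.Helper9.Co2O Cfsg.Agent.Helper9.Golay Cfsg.Agent.Helper9.Leech
  Cfsg.Agent.Helper9.LeechAct

/-- the permutation group on 4600 points. -/
abbrev P : Type := ↥(GS core)

/-- the group is the second Conway group. -/
theorem model : Nonempty (↥Spor.Co2 ≃* P) ∧ Nat.card P = 42305421312000 := by
  have := co2_fin.1
  have hx0 : ((rootL : ↥leechLattice) : GolayPt → ℤ) = toVec (dBr.pt dBr.rt) := by
    have e : dBr.pt dBr.rt = [0, 4, 0, 0, 0, 0, 0, 0, 0, 0, 0, 0, 0, 0, 0, 0, 0, 0, 0, 0, 0,
      0, 0, 4] := by decide +kernel
    rw [e]
    funext p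
    revert p
    decide
  exact bridgeL core brOK Spor.Co2 co2_fin.2
    [(Spor.leechU, dFix.getD 0 [])]
    (by
      intro f hf
      simp only [List.mem_cons, List.not_mem_nil, or_false] at hf
      rcases hf with rfl
      exact coeU)
    (by decide)
    (by
      intro g hg hfx
      rw [mem_Co2_iff]
      exact ⟨hg, hfx (Spor.leechU, dFix.getD 0 []) List.mem_cons_self⟩)
    rootL hx0

instance finP : Finite P := inferInstance

theorem card_P : Nat.card P = 42305421312000 := model.2

/-- the inclusion in the permutations of the 4600 points. -/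
noncomputable def rho : P →* Equiv.Perm (Fin 4600) := (GS core).subtype

theorem rho_inj : Function.Injective rho := Subtype.val_injective

/-- the action of a word in the four letters, as `Helper5` computes it. -/
theorem evalT_eq_actL (w : List ℕ) (x : ℕ) : evalT dD w x = actL (T dD) w x := by
  induction w with
  | nil => rfl
  | cons k w ih => rw [evalT_cons, ih, actL]

theorem letters_closure : Subgroup.closure {y : P | ∃ l, l < 4 ∧ y = gE core l} = ⊤ := by
  have h := Subgroup.closure_closure_coe_preimage
    (k := Set.range fun l : Fin dD.L => El dD core.tab l.val)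
  rw [eq_top_iff]
  intro y _
  have hy := (le_of_eq h.symm) (Subgroup.mem_top y)
  refine Subgroup.closure_mono ?_ hy
  rintro z ⟨l, hl⟩
  exact ⟨l.val, l.isLt, Subtype.ext hl.symm⟩

end Cfsg.Agent.Helper2.Co2M
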