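import Mathlib
import Cfsg.Agent.Helper2.Co2MXDat
import Cfsg.Agent.Helper2.Co2MBase
import Cfsg.Agent.Helper5.LPX
import Cfsg.Agent.Helper5.LPS
import Cfsg.Agent.Helper5.LPV

/-!
# Checks for the Schur multiplier of the second Conway group, tower X: the letters

The tables of the letters agree with their words in the four tables of `Cfsg.Agent.Helper9.Co2O`.
-/

set_option autoImplicit false

namespace Cfsg.Agent.Helper2.Co2M.X

open Cfsg.Agent.Helper5 Cfsg.Agent.Helper5.LP Cfsg.Agent.Helper5.StemP Cfsg.Agent.Helper9.OutG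
  Cfsg.Agent.Helper9.Co2O Cfsg.Agent.Helper2.Tw

/-- the action of the letters on the 4600 points. -/
def tabF (c v : ℕ) : ℕ := pLook 128 (tabB c) v

theorem W_inv : invW dD (W 0) = W 1 ∧ invW dD (W 2) = W 3 ∧ invW dD (W 4) = W 5 ∧ invW dD (W 6) = W 7 := by
  decide +kernel

theorem letW_lt : ∀ l, l < 4 → ∀ x ∈ letW l, x < 8 := by decide

set_option maxRecDepth 1000000 in
theorem tab_agree0 : agreeRangeF (T dD) (W 0) (tabF 0) 4600 0 = true := by decide +kernel

set_option maxRecDepth 1000000 in
theorem tab_agree1 : agreeRangeF (T dD) (W 1) (tabF 1) 4600 0 = true := by decide +kernel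

set_option maxRecDepth 1000000 in
theorem tab_agree2 : agreeRangeF (T dD) (W 2) (tabF 2) 4600 0 = true := by decide +kernel

set_option maxRecDepth 1000000 in
theorem tab_agree3 : agreeRangeF (T dD) (W 3) (tabF 3) 4600 0 = true := by decide +kernel

set_option maxRecDepth 1000000 in
theorem tab_agree4 : agreeRangeF (T dD) (W 4) (tabF 4) 4600 0 = true := by decide +kernel

set_option maxRecDepth 1000000 in
theorem tab_agree5 : agreeRangeF (T dD) (W 5) (tabF 5) 4600 0 = true := by decide +kernel

set_option maxRecDepth 1000000 in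
theorem tab_agree6 : agreeRangeF (T dD) (W 6) (tabF 6) 4600 0 = true := by decide +kernel

set_option maxRecDepth 1000000 in
theorem tab_agree7 : agreeRangeF (T dD) (W 7) (tabF 7) 4600 0 = true := by decide +kernel

theorem tab_agree : ∀ c, c < 8 → agreeRangeF (T dD) (W c) (tabF c) 4600 0 = true := by
  intro c hc
  interval_cases c
  · exact tab_agree0
  · exact tab_agree1
  · exact tab_agree2
  · exact tab_agree3
  · exact tab_agree4
  · exact tab_agree5
  · exact tab_agree6
  · exact tab_agree7

set_option maxRecDepth 1000000 in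
theorem chk_move : tabF 0 0 ≠ 0 := by decide +kernel


end Cfsg.Agent.Helper2.Co2M.X
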