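import Mathlib
import Cfsg.Agent.Helper5.LTCG

/-!
# Labelled Todd–Coxeter certificates: checking ranges of table rows by parts
-/

set_option autoImplicit false

namespace Cfsg.Agent.Helper2.Tw

open Cfsg.Agent.Helper5.LTC

/-- consecutive ranges of table rows may be checked in two parts. -/
theorem tabRowsOK_app (C : Cert) (T : Tab) : ∀ (a b lo : ℕ), tabRowsOK C T a lo = true →
    tabRowsOK C T b (lo + a) = true → tabRowsOK C T (a + b) lo = true
  | 0, b, lo, _, hb => by
    rw [Nat.zero_add]
    rwa [Nat.add_zero] at hb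
  | a + 1, b, lo, ha, hb => by
    have e : a + 1 + b = (a + b) + 1 := by omega
    rw [e]
    unfold tabRowsOK at ha ⊢
    rw [Bool.and_eq_true] at ha ⊢
    refine ⟨ha.1, tabRowsOK_app C T a b (Nat.succ lo) ha.2 ?_⟩
    have e2 : Nat.succ lo + a = lo + (a + 1) := by omega
    rw [e2]
    exact hb

end Cfsg.Agent.Helper2.Tw
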