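import Cfsg.Agent.Helper2.CoXADat
import Cfsg.Agent.Helper2.TwD

/-! generated labelled Todd-Coxeter certificate: CoXA -/

set_option autoImplicit false
set_option Elab.async false
set_option maxRecDepth 1000000

namespace Cfsg.Agent.Helper2.CoXA
open Cfsg.Agent.Helper5.LTC Cfsg.Agent.Helper2.Tw

theorem rows_2_0 : tabRowsOK cert tab 1000 8000 = true := by decide +kernel

theorem rows_2_1 : tabRowsOK cert tab 1000 9000 = true := by decide +kernel

theorem rows_2_2 : tabRowsOK cert tab 1000 10000 = true := by decide +kernel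

theorem rows_2_3 : tabRowsOK cert tab 1000 11000 = true := by decide +kernel

theorem rows_2_t2 : tabRowsOK cert tab 2000 10000 = true :=
  tabRowsOK_app cert tab 1000 1000 10000 rows_2_2 rows_2_3

theorem rows_2_t1 : tabRowsOK cert tab 3000 9000 = true :=
  tabRowsOK_app cert tab 1000 2000 9000 rows_2_1 rows_2_t2

theorem rows_2 : tabRowsOK cert tab 4000 8000 = true :=
  tabRowsOK_app cert tab 1000 3000 8000 rows_2_0 rows_2_t1

end Cfsg.Agent.Helper2.CoXA
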