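import Cfsg.Agent.Helper2.CoXADat
import Cfsg.Agent.Helper2.TwD

/-! generated labelled Todd-Coxeter certificate: CoXA -/

set_option autoImplicit false
set_option Elab.async false
set_option maxRecDepth 1000000

namespace Cfsg.Agent.Helper2.CoXA
open Cfsg.Agent.Helper5.LTC Cfsg.Agent.Helper2.Tw

theorem rows_4_0 : tabRowsOK cert tab 1000 16000 = true := by decide +kernel

theorem rows_4_1 : tabRowsOK cert tab 1000 17000 = true := by decide +kernel

theorem rows_4 : tabRowsOK cert tab 2000 16000 = true :=
  tabRowsOK_app cert tab 1000 1000 16000 rows_4_0 rows_4_1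

end Cfsg.Agent.Helper2.CoXA
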