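import Cfsg.Agent.Helper2.CoXBJu0
import Cfsg.Agent.Helper2.CoXBJu1
import Cfsg.Agent.Helper2.CoXBJu2
import Cfsg.Agent.Helper2.CoXBJu3
import Cfsg.Agent.Helper2.CoXBJu4
import Cfsg.Agent.Helper2.CoXBJu5
import Cfsg.Agent.Helper2.CoXBJu6
import Cfsg.Agent.Helper2.CoXBJu7
import Cfsg.Agent.Helper2.CoXBTb0
import Cfsg.Agent.Helper2.CoXBTb1

/-! generated labelled Todd-Coxeter certificate, summary: CoXB -/

set_option autoImplicit false
set_option maxRecDepth 1000000

namespace Cfsg.Agent.Helper2.CoXB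
open Cfsg.Agent.Helper5.LTC

theorem upto_0 : ∀ j, j < 0 → ∃ r, checkFact cert j r = true := fun j hj => absurd hj (by omega)

theorem upto_1 : ∀ j, j < 4000 → ∃ r, checkFact cert j r = true :=
  upto_step cert upto_0 ju_0 4000 len_0 chk_0

theorem upto_2 : ∀ j, j < 8000 → ∃ r, checkFact cert j r = true :=
  upto_step cert upto_1 ju_1 4000 len_1 chk_1

theorem upto_3 : ∀ j, j < 12000 → ∃ r, checkFact cert j r = true :=
  upto_step cert upto_2 ju_2 4000 len_2 chk_2

theorem upto_4 : ∀ j, j < 16000 → ∃ r, checkFact cert j r = true :=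
  upto_step cert upto_3 ju_3 4000 len_3 chk_3

theorem upto_5 : ∀ j, j < 20000 → ∃ r, checkFact cert j r = true :=
  upto_step cert upto_4 ju_4 4000 len_4 chk_4

theorem upto_6 : ∀ j, j < 24000 → ∃ r, checkFact cert j r = true :=
  upto_step cert upto_5 ju_5 4000 len_5 chk_5

theorem upto_7 : ∀ j, j < 28000 → ∃ r, checkFact cert j r = true :=
  upto_step cert upto_6 ju_6 4000 len_6 chk_6

theorem upto_8 : ∀ j, j < 31206 → ∃ r, checkFact cert j r = true :=
  upto_step cert upto_7 ju_7 3206 len_7 chk_7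

theorem hchk : ∀ j, j < cert.nf → ∃ r, checkFact cert j r = true := upto_8

theorem rowsto_0 : ∀ n, n < 0 → ∀ x, x < cert.k → tabEntryOK cert tab n x = true :=
  fun n hn => absurd hn (by omega)

theorem rowsto_1 : ∀ n, n < 4000 → ∀ x, x < cert.k → tabEntryOK cert tab n x = true :=
  rows_step cert tab rowsto_0 4000 rows_0

theorem rowsto_2 : ∀ n, n < 7128 → ∀ x, x < cert.k → tabEntryOK cert tab n x = true :=
  rows_step cert tab rowsto_1 3128 rows_1

theorem hT : ∀ n, n < tab.N → ∀ x, x < cert.k → tabEntryOK cert tab n x = true := rowsto_2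

theorem hjs : ∀ j ∈ js, relFactOK cert j = true := by decide +kernel

theorem h0 : ordOK cert js cs0 0 1 = true := by decide +kernel

theorem hgs : ∀ i, i < 8 → genOK cert js (css.getD i []) i 0 (as_.getD i 0) = true := by decide +kernel

end Cfsg.Agent.Helper2.CoXB
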