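import Cfsg.Agent.Helper2.CoXCDat
import Cfsg.Agent.Helper2.TwD

/-! generated labelled Todd-Coxeter certificate: CoXC -/

set_option autoImplicit false
set_option Elab.async false
set_option maxRecDepth 1000000

namespace Cfsg.Agent.Helper2.CoXC
open Cfsg.Agent.Helper5.LTC Cfsg.Agent.Helper2.Tw

theorem rows_10_0 : tabRowsOK cert tab 1000 40000 = true := by decide +kernel

theorem rows_10_1 : tabRowsOK cert tab 1000 41000 = true := by decide +kernel

theorem rows_10_2 : tabRowsOK cert tab 1000 42000 = true := by decide +kernel

theorem rows_10_3 : tabRowsOK cert tab 1000 43000 = true := by decide +kernel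

theorem rows_10_t2 : tabRowsOK cert tab 2000 42000 = true :=
  tabRowsOK_app cert tab 1000 1000 42000 rows_10_2 rows_10_3

theorem rows_10_t1 : tabRowsOK cert tab 3000 41000 = true :=
  tabRowsOK_app cert tab 1000 2000 41000 rows_10_1 rows_10_t2

theorem rows_10 : tabRowsOK cert tab 4000 40000 = true :=
  tabRowsOK_app cert tab 1000 3000 40000 rows_10_0 rows_10_t1

end Cfsg.Agent.Helper2.CoXC
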