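import Mathlib
import Cfsg.Agent.Helper2.Co2MXGen
import Cfsg.Agent.Helper2.CoXASum
import Cfsg.Agent.Helper2.CoXBSum
import Cfsg.Agent.Helper2.CoXCSum

/-!
# The covering groups of exponent 10 of the stages of tower X of the second Conway group

Labelled Todd–Coxeter over the image of the covering group of the previous stage.
-/

set_option autoImplicit false

namespace Cfsg.Agent.Helper2.Co2M.X

open Cfsg Cfsg.Agent.Helper5 Cfsg.Agent.Helper5.LP Cfsg.Agent.Helper5.StemP Cfsg.Agent.Helper5.LTC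
  Cfsg.Agent.Helper2.Tw Cfsg.Agent.Helper2.Co2M

theorem bound0 : stage0.Bound 10 7 := base_bound stage0 10 (by decide) order_g0

theorem words_lt_A : ∀ wi, ∀ c ∈ CoXA.cert.W wi, c < 2 * 2 := by
  intro wi
  have h : ∀ g ∈ CoXA.words2, ∀ w ∈ g, ∀ c ∈ w, c < 4 := by decide +kernel
  exact getD2_lt h (Nat.div wi 32) (Nat.mod wi 32)

set_option maxRecDepth 1000000 in
theorem wordOK_A : ∀ wi, wi < CoXA.cert.nrel →
    wordOK3 (coverRels 2 mm CA CA 10) CA 4 (CoXA.cert.W wi) (CoXA.cert.δ wi)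
      (CoXA.origs.getD wi 0) = true := by decide +kernel

theorem subW0_A : CoXA.cert.W 62 = [0] := by decide +kernel

theorem hsubs_A : ∀ wi, CoXA.cert.nrel ≤ wi → wi < CoXA.cert.nw →
    ∃ c, c < 2 * 1 ∧ CoXA.cert.W wi = [c] := by
  intro wi h1 h2
  have h1' : 62 ≤ wi := h1
  have h2' : wi < 63 := h2
  interval_cases wi
  · exact ⟨0, by norm_num, subW0_A⟩

theorem boundA : stageA.Bound 10 126000 := by
  have h := stage_bound stage0 stageA (by norm_num) (fun r hr => absurd hr List.not_mem_nil) bound0 (by norm_num) 4 (by norm_num)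
    FDA FDA_pow CA_free CoXA.cert rfl rfl rfl words_lt_A (fun wi => CoXA.origs.getD wi 0)
    wordOK_A hsubs_A CoXA.hchk CoXA.tab (by decide +kernel) (by decide)
    CoXA.hT CoXA.js CoXA.hjs 0 1 (by norm_num) (by norm_num) CoXA.cs0 CoXA.h0
    (fun i => CoXA.as_.getD i 0) (fun i => CoXA.css.getD i []) CoXA.hgs
  have hN : CoXA.tab.N = 18000 := rfl
  rw [hN] at h
  refine ⟨h.1, h.2.trans (by norm_num), ?_⟩
  have h2 := card_range_ge stageA (by norm_num) 10 levelAs chainA_ok
  rwa [chainA_prod] at h2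

theorem words_lt_B : ∀ wi, ∀ c ∈ CoXB.cert.W wi, c < 2 * 3 := by
  intro wi
  have h : ∀ g ∈ CoXB.words2, ∀ w ∈ g, ∀ c ∈ w, c < 6 := by decide +kernel
  exact getD2_lt h (Nat.div wi 32) (Nat.mod wi 32)

set_option maxRecDepth 1000000 in
theorem wordOK_B : ∀ wi, wi < CoXB.cert.nrel →
    wordOK3 (coverRels 3 mm CB CB 10) CB 8 (CoXB.cert.W wi) (CoXB.cert.δ wi)
      (CoXB.origs.getD wi 0) = true := by decide +kernel

theorem subW0_B : CoXB.cert.W 231 = [0] := by decide +kernel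

theorem subW1_B : CoXB.cert.W 232 = [2] := by decide +kernel

theorem hsubs_B : ∀ wi, CoXB.cert.nrel ≤ wi → wi < CoXB.cert.nw →
    ∃ c, c < 2 * 2 ∧ CoXB.cert.W wi = [c] := by
  intro wi h1 h2
  have h1' : 231 ≤ wi := h1
  have h2' : wi < 233 := h2
  interval_cases wi
  · exact ⟨0, by norm_num, subW0_B⟩
  · exact ⟨2, by norm_num, subW1_B⟩

theorem boundB : stageB.Bound 10 898128000 := by
  have h := stage_bound stageA stageB (by norm_num) CA_sub boundA (by norm_num) 8 (by norm_num)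
    FDB FDB_pow CB_free CoXB.cert rfl rfl rfl words_lt_B (fun wi => CoXB.origs.getD wi 0)
    wordOK_B hsubs_B CoXB.hchk CoXB.tab (by decide +kernel) (by decide)
    CoXB.hT CoXB.js CoXB.hjs 0 1 (by norm_num) (by norm_num) CoXB.cs0 CoXB.h0
    (fun i => CoXB.as_.getD i 0) (fun i => CoXB.css.getD i []) CoXB.hgs
  have hN : CoXB.tab.N = 7128 := rfl
  rw [hN] at h
  refine ⟨h.1, h.2.trans (by norm_num), ?_⟩
  have h2 := card_range_ge stageB (by norm_num) 10 levelBs chainB_ok
  rwa [chainB_prod] at h2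

theorem words_lt_C : ∀ wi, ∀ c ∈ CoXC.cert.W wi, c < 2 * 4 := by
  intro wi
  have h : ∀ g ∈ CoXC.words2, ∀ w ∈ g, ∀ c ∈ w, c < 8 := by decide +kernel
  exact getD2_lt h (Nat.div wi 32) (Nat.mod wi 32)

set_option maxRecDepth 1000000 in
theorem wordOK_C : ∀ wi, wi < CoXC.cert.nrel →
    wordOK3 (coverRels 4 mm CC CC 10) CC 4 (CoXC.cert.W wi) (CoXC.cert.δ wi)
      (CoXC.origs.getD wi 0) = true := by decide +kernel

theorem subW0_C : CoXC.cert.W 996 = [0] := by decide +kernel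

theorem subW1_C : CoXC.cert.W 997 = [2] := by decide +kernel

theorem subW2_C : CoXC.cert.W 998 = [4] := by decide +kernel

theorem hsubs_C : ∀ wi, CoXC.cert.nrel ≤ wi → wi < CoXC.cert.nw →
    ∃ c, c < 2 * 3 ∧ CoXC.cert.W wi = [c] := by
  intro wi h1 h2
  have h1' : 996 ≤ wi := h1
  have h2' : wi < 999 := h2
  interval_cases wi
  · exact ⟨0, by norm_num, subW0_C⟩
  · exact ⟨2, by norm_num, subW1_C⟩
  · exact ⟨4, by norm_num, subW2_C⟩

theorem boundC : stageC.Bound 10 42305421312000 := by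
  have h := stage_bound stageB stageC (by norm_num) CB_sub boundB (by norm_num) 4 (by norm_num)
    FDC FDC_pow CC_free CoXC.cert rfl rfl rfl words_lt_C (fun wi => CoXC.origs.getD wi 0)
    wordOK_C hsubs_C CoXC.hchk CoXC.tab (by decide +kernel) (by decide)
    CoXC.hT CoXC.js CoXC.hjs 0 1 (by norm_num) (by norm_num) CoXC.cs0 CoXC.h0
    (fun i => CoXC.as_.getD i 0) (fun i => CoXC.css.getD i []) CoXC.hgs
  have hN : CoXC.tab.N = 47104 := rfl
  rw [hN] at h
  refine ⟨h.1, h.2.trans (by norm_num), ?_⟩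
  rw [card_range_top]

/-- **the covering group of exponent 10 has the order of the group.** -/
theorem card_cov : Finite (CovG 4 mm CC CC 10) ∧
    Nat.card (CovG 4 mm CC CC 10) = Nat.card P := by
  refine ⟨boundC.1, ?_⟩
  rw [stageC.card_eq boundC, card_range_top, card_P]

end Cfsg.Agent.Helper2.Co2M.X
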