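import Mathlib
import Cfsg.Agent.Helper2.Co2MYChk

/-!
# Checks for the Schur multiplier of the second Conway group, tower Y: words, orders, chains

The words are trivial (it is enough to check that they fix the base of the chain of
`Cfsg.Agent.Helper9.Co2O`), the orders of the generators, the powers of the conjugation words, the
four tables as words in the letters, the stabiliser chains of the subgroups.
-/

set_option autoImplicit false

namespace Cfsg.Agent.Helper2.Co2M.Y

open Cfsg.Agent.Helper5 Cfsg.Agent.Helper5.LP Cfsg.Agent.Helper5.StemP Cfsg.Agent.Helper9.OutG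
  Cfsg.Agent.Helper9.Co2O Cfsg.Agent.Helper2.Tw

/-- the power words of a list of conjugation data. -/
def fdPow (FD : List (List ℕ × List ℕ × List ℕ × ℕ)) : List (List ℕ) :=
  FD.map fun q => (List.replicate q.2.2.2 q.2.1).flatten

set_option maxRecDepth 1000000 in
theorem chk_rels : ∀ r ∈ CD, agreeL dC.bs (actL tabF r) (fun x => x) = true := by decide +kernel

set_option maxRecDepth 1000000 in
theorem chk_pow : ∀ i, i < 5 →
    agreeL dC.bs (actL tabF (List.replicate (mm i) (2 * i))) (fun x => x) = true := by
  decide +kernel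

set_option maxRecDepth 1000000 in
theorem chk_let : ∀ l, l < 4 → agreeL dC.bs (T dD l) (actL tabF (letW l)) = true := by
  decide +kernel

set_option maxRecDepth 1000000 in
theorem chk_fdD : ∀ r ∈ fdPow FDD, agreeL dC.bs (actL tabF r) (fun x => x) = true := by
  decide +kernel

set_option maxRecDepth 1000000 in
theorem chainA_ok : chainOK tabF (2 * 2) 4600 [] levelAs = true := chainOK_of_F (by decide +kernel)

theorem chainA_prod : chainProd levelAs = 6048 := by decide +kernel

set_option maxRecDepth 1000000 in
theorem chainB_ok : chainOK tabF (2 * 3) 4600 [] levelBs = true := chainOK_of_F (by decide +kernel)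

theorem chainB_prod : chainProd levelBs = 1451520 := by decide +kernel

set_option maxRecDepth 1000000 in
theorem chainC_ok : chainOK tabF (2 * 4) 4600 [] levelCs = true := chainOK_of_F (by decide +kernel)

theorem chainC_prod : chainProd levelCs = 743178240 := by decide +kernel

theorem CA_lt : ∀ r ∈ CA, ∀ c ∈ r, c < 2 * 2 := by decide

theorem CB_lt : ∀ r ∈ CB, ∀ c ∈ r, c < 2 * 3 := by decide

theorem CC_lt : ∀ r ∈ CC, ∀ c ∈ r, c < 2 * 4 := by decide

theorem CD_lt : ∀ r ∈ CD, ∀ c ∈ r, c < 2 * 5 := by decide

theorem CA_sub : ∀ r ∈ CA, r ∈ CB := by decide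

theorem CB_sub : ∀ r ∈ CB, r ∈ CC := by decide

theorem CC_sub : ∀ r ∈ CC, r ∈ CD := by decide

set_option maxRecDepth 1000000 in
theorem CA_free : ∀ r ∈ CA.drop 2, freeB 1 2 3 FDA r = true := by decide +kernel

set_option maxRecDepth 1000000 in
theorem CB_free : ∀ r ∈ CB.drop 3, freeB 2 3 3 FDB r = true := by decide +kernel

set_option maxRecDepth 1000000 in
theorem CC_free : ∀ r ∈ CC.drop 4, freeB 3 4 3 FDC r = true := by decide +kernel

set_option maxRecDepth 1000000 in
theorem CD_free : ∀ r ∈ CD.drop 6, freeB 4 5 3 FDD r = true := by decide +kernel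

end Cfsg.Agent.Helper2.Co2M.Y
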