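import Mathlib
import Cfsg.Agent.Helper2.Co2MYChkP
import Cfsg.Agent.Helper5.LPL
import Cfsg.Agent.Helper5.LPE

/-!
# Generators of the second Conway group for the Schur multiplier, tower Y

In the permutation group on 4600 points of `Cfsg.Agent.Helper9.Co2O`: the generators `g i` given by the
words `W (2 * i)`, their orders, the words that are trivial, generation, the stages of the tower and
the orders of the subgroups generated by the first generators.
-/

set_option autoImplicit false

namespace Cfsg.Agent.Helper2.Co2M.Y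

open Cfsg Cfsg.Agent.Helper5 Cfsg.Agent.Helper5.LP Cfsg.Agent.Helper5.StemP Cfsg.Agent.Helper9.OutG
  Cfsg.Agent.Helper9.Co2O Cfsg.Agent.Helper2.Tw Cfsg.Agent.Helper2.Co2M

/-- the generators. -/
noncomputable def g (i : ℕ) : P := gW core (W (2 * i))

theorem lval_g : ∀ c, c < 10 → lval g c = gW core (W c) := by
  intro c hc
  obtain ⟨h1, h3, h5, h7, h9⟩ := W_inv
  interval_cases c
  · rfl
  · change (gW core (W 0))⁻¹ = _
    rw [gW_inv, h1]
  · rfl
  · change (gW core (W 2))⁻¹ = _
    rw [gW_inv, h3]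
  · rfl
  · change (gW core (W 4))⁻¹ = _
    rw [gW_inv, h5]
  · rfl
  · change (gW core (W 6))⁻¹ = _
    rw [gW_inv, h7]
  · rfl
  · change (gW core (W 8))⁻¹ = _
    rw [gW_inv, h9]

theorem tabF_eq (c : ℕ) (hc : c < 10) (v : ℕ) (hv : v < 4600) : tabF c v = evalT dD (W c) v := by
  rw [evalT_eq_actL]
  exact agreeRangeF_spec _ _ _ 4600 0 (tab_agree c hc) v (Nat.zero_le _) (by omega)

theorem rho_lval (c : ℕ) (hc : c < 10) (v : Fin 4600) : (rho (lval g c) v).val = tabF c v.val := by
  rw [lval_g c hc, tabF_eq c hc v.val v.isLt]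
  exact comp_gW core (W c) v

theorem rho_word : ∀ l : List ℕ, (∀ c ∈ l, c < 10) → ∀ v : Fin 4600,
    (rho ((l.map (lval g)).prod) v).val = actL tabF l v.val
  | [], _, v => by
    rw [List.map_nil, List.prod_nil, map_one]
    rfl
  | c :: l, h, v => by
    rw [List.map_cons, List.prod_cons, map_mul, Equiv.Perm.mul_apply,
      rho_lval c (h c List.mem_cons_self),
      rho_word l (fun c hc => h c (List.mem_cons_of_mem _ hc)) v]
    rfl

theorem comp_word (l : List ℕ) (hl : ∀ c ∈ l, c < 10) :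
    Comp ((l.map (lval g)).prod : P).1 (actL tabF l) := fun v => rho_word l hl v

/-- a word that fixes the base of the chain is trivial. -/
theorem word_eq_one (l : List ℕ) (hl : ∀ c ∈ l, c < 10)
    (h : agreeL dC.bs (actL tabF l) (fun x => x) = true) : (l.map (lval g)).prod = 1 :=
  eq_of_agreeL core card_P (comp_word l hl) (Comp.one (n := 4600)) h

theorem CD_rel : ∀ r ∈ CD, (r.map (lval g)).prod = 1 := fun r hr =>
  word_eq_one r (CD_lt r hr) (chk_rels r hr)

theorem CC_rel : ∀ r ∈ CC, (r.map (lval g)).prod = 1 := fun r hr => CD_rel r (CC_sub r hr)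

theorem CB_rel : ∀ r ∈ CB, (r.map (lval g)).prod = 1 := fun r hr => CC_rel r (CB_sub r hr)

theorem CA_rel : ∀ r ∈ CA, (r.map (lval g)).prod = 1 := fun r hr => CB_rel r (CA_sub r hr)

theorem g_pow : ∀ i, i < 5 → g i ^ mm i = 1 := by
  intro i hi
  have h1 : ((List.replicate (mm i) (2 * i)).map (lval g)).prod = 1 := by
    apply word_eq_one _ _ (chk_pow i hi)
    intro c hc
    rw [List.eq_of_mem_replicate hc]
    omega
  rwa [List.map_replicate, List.prod_replicate, lval_even] at h1

theorem g0_ne : g 0 ≠ 1 := by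
  intro h
  apply chk_move
  have h1 := rho_lval 0 (by norm_num) ⟨0, by norm_num⟩
  have h2 : lval g 0 = 1 := h
  rw [h2, map_one] at h1
  exact h1.symm

theorem order_g0 : orderOf (g 0) = 7 := by
  have : Fact (Nat.Prime 7) := ⟨by norm_num⟩
  have h7 : g 0 ^ 7 = 1 := g_pow 0 (by norm_num)
  exact orderOf_eq_prime h7 g0_ne

/-- a group whose words act on the table as prescribed by a homomorphism to the group. -/
theorem actsOn_of_hom {Q : Type*} [Group Q] (π : Q →* P) (e : List ℕ → Q) (k : ℕ) (hk : k ≤ 10)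
    (he : ∀ l : List ℕ, (∀ c ∈ l, c < k) → π (e l) = (l.map (lval g)).prod) :
    ActsOn (rho.comp π) e k tabF := by
  constructor
  intro l hl v
  rw [MonoidHom.comp_apply, he l hl]
  exact rho_word l (fun c hc => lt_of_lt_of_le (hl c hc) hk) v

/-! ### generation -/

theorem word_mem (l : List ℕ) (hl : ∀ c ∈ l, c < 10) :
    (l.map (lval g)).prod ∈ Subgroup.closure {y : P | ∃ i, i < 5 ∧ y = g i} := by
  apply Subgroup.list_prod_mem
  intro y hy
  obtain ⟨c, hc, rfl⟩ := List.mem_map.mp hy
  have hi : c / 2 < 5 := by have := hl c hc; omega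
  unfold lval
  split_ifs
  · exact Subgroup.subset_closure ⟨c / 2, hi, rfl⟩
  · exact inv_mem (Subgroup.subset_closure ⟨c / 2, hi, rfl⟩)

theorem letter_eq (l : ℕ) (hl : l < 4) : gE core l = ((letW l).map (lval g)).prod :=
  eq_of_agreeL core card_P (comp_gE core l) (comp_word _ (letW_lt l hl)) (chk_let l hl)

/-- the generators generate the group. -/
theorem g_closure : Subgroup.closure {y : P | ∃ i, i < 5 ∧ y = g i} = ⊤ := by
  rw [eq_top_iff, ← letters_closure, Subgroup.closure_le]
  rintro x ⟨l, hl, rfl⟩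
  rw [letter_eq l hl]
  exact word_mem _ (letW_lt l hl)

/-! ### the stages -/

theorem stage0 : Stage g mm 1 [] := base_stage (g_pow 0 (by norm_num))

theorem stageA : Stage g mm 2 CA :=
  ⟨CA_lt, CA_rel, fun i hi => g_pow i (by omega)⟩

theorem stageB : Stage g mm 3 CB :=
  ⟨CB_lt, CB_rel, fun i hi => g_pow i (by omega)⟩

theorem stageC : Stage g mm 4 CC :=
  ⟨CC_lt, CC_rel, fun i hi => g_pow i (by omega)⟩

theorem stageD : Stage g mm 5 CD :=
  ⟨CD_lt, CD_rel, fun i hi => g_pow i (by omega)⟩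

theorem fd_pow (FD : List (List ℕ × List ℕ × List ℕ × ℕ))
    (hlt : ∀ q ∈ FD, ∀ c ∈ q.2.1, c < 10)
    (h : ∀ r ∈ fdPow FD, agreeL dC.bs (actL tabF r) (fun x => x) = true) :
    ∀ q ∈ FD, (q.2.1.map (lval g)).prod ^ q.2.2.2 = 1 := by
  intro q hq
  rw [← prod_replicate_flatten]
  apply word_eq_one
  · intro c hc
    obtain ⟨l, hl, hcl⟩ := List.mem_flatten.mp hc
    rw [List.eq_of_mem_replicate hl] at hcl
    exact hlt q hq c hcl
  · apply h
    unfold fdPow
    exact List.mem_map.mpr ⟨q, hq, rfl⟩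

theorem FDA_pow : ∀ q ∈ FDA, (q.2.1.map (lval g)).prod ^ q.2.2.2 = 1 :=
  fun q hq => absurd hq List.not_mem_nil

theorem FDB_pow : ∀ q ∈ FDB, (q.2.1.map (lval g)).prod ^ q.2.2.2 = 1 :=
  fun q hq => absurd hq List.not_mem_nil

theorem FDC_pow : ∀ q ∈ FDC, (q.2.1.map (lval g)).prod ^ q.2.2.2 = 1 :=
  fun q hq => absurd hq List.not_mem_nil

theorem FDD_lt : ∀ q ∈ FDD, ∀ c ∈ q.2.1, c < 10 := by decide

theorem FDD_pow : ∀ q ∈ FDD, (q.2.1.map (lval g)).prod ^ q.2.2.2 = 1 :=
  fd_pow FDD FDD_lt chk_fdD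

/-- the order of the image of the covering group of a stage, from a stabiliser chain. -/
theorem card_range_ge {d : ℕ} {C : List (List ℕ)} (S : Stage g mm d C) (hd : 2 * d ≤ 10) (e : ℕ)
    (levels : List Level) (hok : chainOK tabF (2 * d) 4600 [] levels = true) :
    chainProd levels ≤ Nat.card (S.pi e).range := by
  have hA : ActsOn (rho.comp (S.pi e)) (ev (2 * d) (coverRels d mm C C e)) (2 * d) tabF :=
    actsOn_of_hom (S.pi e) _ (2 * d) hd (S.pi_ev e)
  have h1 := chain_lower hA levels [] hok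
  have h2 : Nat.card (rho.comp (S.pi e)).range ≤ Nat.card (S.pi e).range := by
    rw [MonoidHom.range_comp]
    exact Nat.le_of_dvd Nat.card_pos (Subgroup.card_map_dvd _ rho)
  exact (h1.trans (Subgroup.card_le_of_le inf_le_left)).trans h2

/-- the order of the image of the covering group of the last stage. -/
theorem card_range_top (e : ℕ) : Nat.card (stageD.pi e).range = 42305421312000 := by
  have h : (stageD.pi e).range = ⊤ := MonoidHom.range_eq_top.mpr (stageD.pi_surj e g_closure)
  rw [h, Subgroup.card_top, card_P]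

end Cfsg.Agent.Helper2.Co2M.Y
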