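import Cfsg.Agent.Helper2.CoYBJu0
import Cfsg.Agent.Helper2.CoYBTb0

/-! generated labelled Todd-Coxeter certificate, summary: CoYB -/

set_option autoImplicit false
set_option maxRecDepth 1000000

namespace Cfsg.Agent.Helper2.CoYB
open Cfsg.Agent.Helper5.LTC

theorem upto_0 : ∀ j, j < 0 → ∃ r, checkFact cert j r = true := fun j hj => absurd hj (by omega)

theorem upto_1 : ∀ j, j < 1063 → ∃ r, checkFact cert j r = true :=
  upto_step cert upto_0 ju_0 1063 len_0 chk_0

theorem hchk : ∀ j, j < cert.nf → ∃ r, checkFact cert j r = true := upto_1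

theorem rowsto_0 : ∀ n, n < 0 → ∀ x, x < cert.k → tabEntryOK cert tab n x = true :=
  fun n hn => absurd hn (by omega)

theorem rowsto_1 : ∀ n, n < 240 → ∀ x, x < cert.k → tabEntryOK cert tab n x = true :=
  rows_step cert tab rowsto_0 240 rows_0

theorem hT : ∀ n, n < tab.N → ∀ x, x < cert.k → tabEntryOK cert tab n x = true := rowsto_1

theorem hjs : ∀ j ∈ js, relFactOK cert j = true := by decide +kernel

theorem h0 : ordOK cert js cs0 0 1 = true := by decide +kernel

theorem hgs : ∀ i, i < 3 → genOK cert js (css.getD i []) i 0 (as_.getD i 0) = true := by decide +kernel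

end Cfsg.Agent.Helper2.CoYB
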