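import Cfsg.Agent.Helper2.CoYDJu0
import Cfsg.Agent.Helper2.CoYDJu1
import Cfsg.Agent.Helper2.CoYDJu2
import Cfsg.Agent.Helper2.CoYDJu3
import Cfsg.Agent.Helper2.CoYDJu4
import Cfsg.Agent.Helper2.CoYDJu5
import Cfsg.Agent.Helper2.CoYDJu6
import Cfsg.Agent.Helper2.CoYDJu7
import Cfsg.Agent.Helper2.CoYDJu8
import Cfsg.Agent.Helper2.CoYDJu9
import Cfsg.Agent.Helper2.CoYDJu10
import Cfsg.Agent.Helper2.CoYDJu11
import Cfsg.Agent.Helper2.CoYDJu12
import Cfsg.Agent.Helper2.CoYDJu13
import Cfsg.Agent.Helper2.CoYDJu14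
import Cfsg.Agent.Helper2.CoYDJu15
import Cfsg.Agent.Helper2.CoYDJu16
import Cfsg.Agent.Helper2.CoYDJu17
import Cfsg.Agent.Helper2.CoYDJu18
import Cfsg.Agent.Helper2.CoYDJu19
import Cfsg.Agent.Helper2.CoYDJu20
import Cfsg.Agent.Helper2.CoYDJu21
import Cfsg.Agent.Helper2.CoYDJu22
import Cfsg.Agent.Helper2.CoYDJu23
import Cfsg.Agent.Helper2.CoYDJu24
import Cfsg.Agent.Helper2.CoYDJu25
import Cfsg.Agent.Helper2.CoYDJu26
import Cfsg.Agent.Helper2.CoYDJu27
import Cfsg.Agent.Helper2.CoYDJu28
import Cfsg.Agent.Helper2.CoYDJu29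
import Cfsg.Agent.Helper2.CoYDJu30
import Cfsg.Agent.Helper2.CoYDJu31
import Cfsg.Agent.Helper2.CoYDJu32
import Cfsg.Agent.Helper2.CoYDJu33
import Cfsg.Agent.Helper2.CoYDJu34
import Cfsg.Agent.Helper2.CoYDJu35
import Cfsg.Agent.Helper2.CoYDJu36
import Cfsg.Agent.Helper2.CoYDJu37
import Cfsg.Agent.Helper2.CoYDJu38
import Cfsg.Agent.Helper2.CoYDJu39
import Cfsg.Agent.Helper2.CoYDJu40
import Cfsg.Agent.Helper2.CoYDJu41
import Cfsg.Agent.Helper2.CoYDJu42
import Cfsg.Agent.Helper2.CoYDJu43
import Cfsg.Agent.Helper2.CoYDJu44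
import Cfsg.Agent.Helper2.CoYDJu45
import Cfsg.Agent.Helper2.CoYDJu46
import Cfsg.Agent.Helper2.CoYDJu47
import Cfsg.Agent.Helper2.CoYDJu48
import Cfsg.Agent.Helper2.CoYDJu49
import Cfsg.Agent.Helper2.CoYDJu50
import Cfsg.Agent.Helper2.CoYDJu51
import Cfsg.Agent.Helper2.CoYDJu52
import Cfsg.Agent.Helper2.CoYDJu53
import Cfsg.Agent.Helper2.CoYDJu54
import Cfsg.Agent.Helper2.CoYDJu55
import Cfsg.Agent.Helper2.CoYDJu56
import Cfsg.Agent.Helper2.CoYDJu57
import Cfsg.Agent.Helper2.CoYDJu58
import Cfsg.Agent.Helper2.CoYDJu59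
import Cfsg.Agent.Helper2.CoYDJu60
import Cfsg.Agent.Helper2.CoYDJu61
import Cfsg.Agent.Helper2.CoYDJu62
import Cfsg.Agent.Helper2.CoYDJu63
import Cfsg.Agent.Helper2.CoYDJu64
import Cfsg.Agent.Helper2.CoYDJu65
import Cfsg.Agent.Helper2.CoYDJu66
import Cfsg.Agent.Helper2.CoYDJu67
import Cfsg.Agent.Helper2.CoYDJu68
import Cfsg.Agent.Helper2.CoYDJu69
import Cfsg.Agent.Helper2.CoYDJu70
import Cfsg.Agent.Helper2.CoYDJu71
import Cfsg.Agent.Helper2.CoYDJu72
import Cfsg.Agent.Helper2.CoYDJu73
import Cfsg.Agent.Helper2.CoYDJu74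
import Cfsg.Agent.Helper2.CoYDJu75
import Cfsg.Agent.Helper2.CoYDJu76
import Cfsg.Agent.Helper2.CoYDJu77
import Cfsg.Agent.Helper2.CoYDJu78
import Cfsg.Agent.Helper2.CoYDJu79
import Cfsg.Agent.Helper2.CoYDJu80
import Cfsg.Agent.Helper2.CoYDJu81
import Cfsg.Agent.Helper2.CoYDTb0
import Cfsg.Agent.Helper2.CoYDTb1
import Cfsg.Agent.Helper2.CoYDTb2
import Cfsg.Agent.Helper2.CoYDTb3
import Cfsg.Agent.Helper2.CoYDTb4
import Cfsg.Agent.Helper2.CoYDTb5
import Cfsg.Agent.Helper2.CoYDTb6
import Cfsg.Agent.Helper2.CoYDTb7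
import Cfsg.Agent.Helper2.CoYDTb8
import Cfsg.Agent.Helper2.CoYDTb9
import Cfsg.Agent.Helper2.CoYDTb10
import Cfsg.Agent.Helper2.CoYDTb11
import Cfsg.Agent.Helper2.CoYDTb12
import Cfsg.Agent.Helper2.CoYDTb13
import Cfsg.Agent.Helper2.CoYDTb14

/-! generated labelled Todd-Coxeter certificate, summary: CoYD -/

set_option autoImplicit false
set_option maxRecDepth 1000000

namespace Cfsg.Agent.Helper2.CoYD
open Cfsg.Agent.Helper5.LTC

theorem upto_0 : ∀ j, j < 0 → ∃ r, checkFact cert j r = true := fun j hj => absurd hj (by omega)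

theorem upto_1 : ∀ j, j < 4000 → ∃ r, checkFact cert j r = true :=
  upto_step cert upto_0 ju_0 4000 len_0 chk_0

theorem upto_2 : ∀ j, j < 8000 → ∃ r, checkFact cert j r = true :=
  upto_step cert upto_1 ju_1 4000 len_1 chk_1

theorem upto_3 : ∀ j, j < 12000 → ∃ r, checkFact cert j r = true :=
  upto_step cert upto_2 ju_2 4000 len_2 chk_2

theorem upto_4 : ∀ j, j < 16000 → ∃ r, checkFact cert j r = true :=
  upto_step cert upto_3 ju_3 4000 len_3 chk_3

theorem upto_5 : ∀ j, j < 20000 → ∃ r, checkFact cert j r = true :=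
  upto_step cert upto_4 ju_4 4000 len_4 chk_4

theorem upto_6 : ∀ j, j < 24000 → ∃ r, checkFact cert j r = true :=
  upto_step cert upto_5 ju_5 4000 len_5 chk_5

theorem upto_7 : ∀ j, j < 28000 → ∃ r, checkFact cert j r = true :=
  upto_step cert upto_6 ju_6 4000 len_6 chk_6

theorem upto_8 : ∀ j, j < 32000 → ∃ r, checkFact cert j r = true :=
  upto_step cert upto_7 ju_7 4000 len_7 chk_7

theorem upto_9 : ∀ j, j < 36000 → ∃ r, checkFact cert j r = true :=
  upto_step cert upto_8 ju_8 4000 len_8 chk_8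

theorem upto_10 : ∀ j, j < 40000 → ∃ r, checkFact cert j r = true :=
  upto_step cert upto_9 ju_9 4000 len_9 chk_9

theorem upto_11 : ∀ j, j < 44000 → ∃ r, checkFact cert j r = true :=
  upto_step cert upto_10 ju_10 4000 len_10 chk_10

theorem upto_12 : ∀ j, j < 48000 → ∃ r, checkFact cert j r = true :=
  upto_step cert upto_11 ju_11 4000 len_11 chk_11

theorem upto_13 : ∀ j, j < 52000 → ∃ r, checkFact cert j r = true :=
  upto_step cert upto_12 ju_12 4000 len_12 chk_12

theorem upto_14 : ∀ j, j < 56000 → ∃ r, checkFact cert j r = true :=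
  upto_step cert upto_13 ju_13 4000 len_13 chk_13

theorem upto_15 : ∀ j, j < 60000 → ∃ r, checkFact cert j r = true :=
  upto_step cert upto_14 ju_14 4000 len_14 chk_14

theorem upto_16 : ∀ j, j < 64000 → ∃ r, checkFact cert j r = true :=
  upto_step cert upto_15 ju_15 4000 len_15 chk_15

theorem upto_17 : ∀ j, j < 68000 → ∃ r, checkFact cert j r = true :=
  upto_step cert upto_16 ju_16 4000 len_16 chk_16

theorem upto_18 : ∀ j, j < 72000 → ∃ r, checkFact cert j r = true :=
  upto_step cert upto_17 ju_17 4000 len_17 chk_17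

theorem upto_19 : ∀ j, j < 76000 → ∃ r, checkFact cert j r = true :=
  upto_step cert upto_18 ju_18 4000 len_18 chk_18

theorem upto_20 : ∀ j, j < 80000 → ∃ r, checkFact cert j r = true :=
  upto_step cert upto_19 ju_19 4000 len_19 chk_19

theorem upto_21 : ∀ j, j < 84000 → ∃ r, checkFact cert j r = true :=
  upto_step cert upto_20 ju_20 4000 len_20 chk_20

theorem upto_22 : ∀ j, j < 88000 → ∃ r, checkFact cert j r = true :=
  upto_step cert upto_21 ju_21 4000 len_21 chk_21

theorem upto_23 : ∀ j, j < 92000 → ∃ r, checkFact cert j r = true :=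
  upto_step cert upto_22 ju_22 4000 len_22 chk_22

theorem upto_24 : ∀ j, j < 96000 → ∃ r, checkFact cert j r = true :=
  upto_step cert upto_23 ju_23 4000 len_23 chk_23

theorem upto_25 : ∀ j, j < 100000 → ∃ r, checkFact cert j r = true :=
  upto_step cert upto_24 ju_24 4000 len_24 chk_24

theorem upto_26 : ∀ j, j < 104000 → ∃ r, checkFact cert j r = true :=
  upto_step cert upto_25 ju_25 4000 len_25 chk_25

theorem upto_27 : ∀ j, j < 108000 → ∃ r, checkFact cert j r = true :=
  upto_step cert upto_26 ju_26 4000 len_26 chk_26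

theorem upto_28 : ∀ j, j < 112000 → ∃ r, checkFact cert j r = true :=
  upto_step cert upto_27 ju_27 4000 len_27 chk_27

theorem upto_29 : ∀ j, j < 116000 → ∃ r, checkFact cert j r = true :=
  upto_step cert upto_28 ju_28 4000 len_28 chk_28

theorem upto_30 : ∀ j, j < 120000 → ∃ r, checkFact cert j r = true :=
  upto_step cert upto_29 ju_29 4000 len_29 chk_29

theorem upto_31 : ∀ j, j < 124000 → ∃ r, checkFact cert j r = true :=
  upto_step cert upto_30 ju_30 4000 len_30 chk_30

theorem upto_32 : ∀ j, j < 128000 → ∃ r, checkFact cert j r = true :=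
  upto_step cert upto_31 ju_31 4000 len_31 chk_31

theorem upto_33 : ∀ j, j < 132000 → ∃ r, checkFact cert j r = true :=
  upto_step cert upto_32 ju_32 4000 len_32 chk_32

theorem upto_34 : ∀ j, j < 136000 → ∃ r, checkFact cert j r = true :=
  upto_step cert upto_33 ju_33 4000 len_33 chk_33

theorem upto_35 : ∀ j, j < 140000 → ∃ r, checkFact cert j r = true :=
  upto_step cert upto_34 ju_34 4000 len_34 chk_34

theorem upto_36 : ∀ j, j < 144000 → ∃ r, checkFact cert j r = true :=
  upto_step cert upto_35 ju_35 4000 len_35 chk_35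

theorem upto_37 : ∀ j, j < 148000 → ∃ r, checkFact cert j r = true :=
  upto_step cert upto_36 ju_36 4000 len_36 chk_36

theorem upto_38 : ∀ j, j < 152000 → ∃ r, checkFact cert j r = true :=
  upto_step cert upto_37 ju_37 4000 len_37 chk_37

theorem upto_39 : ∀ j, j < 156000 → ∃ r, checkFact cert j r = true :=
  upto_step cert upto_38 ju_38 4000 len_38 chk_38

theorem upto_40 : ∀ j, j < 160000 → ∃ r, checkFact cert j r = true :=
  upto_step cert upto_39 ju_39 4000 len_39 chk_39

theorem upto_41 : ∀ j, j < 164000 → ∃ r, checkFact cert j r = true :=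
  upto_step cert upto_40 ju_40 4000 len_40 chk_40

theorem upto_42 : ∀ j, j < 168000 → ∃ r, checkFact cert j r = true :=
  upto_step cert upto_41 ju_41 4000 len_41 chk_41

theorem upto_43 : ∀ j, j < 172000 → ∃ r, checkFact cert j r = true :=
  upto_step cert upto_42 ju_42 4000 len_42 chk_42

theorem upto_44 : ∀ j, j < 176000 → ∃ r, checkFact cert j r = true :=
  upto_step cert upto_43 ju_43 4000 len_43 chk_43

theorem upto_45 : ∀ j, j < 180000 → ∃ r, checkFact cert j r = true :=
  upto_step cert upto_44 ju_44 4000 len_44 chk_44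

theorem upto_46 : ∀ j, j < 184000 → ∃ r, checkFact cert j r = true :=
  upto_step cert upto_45 ju_45 4000 len_45 chk_45

theorem upto_47 : ∀ j, j < 188000 → ∃ r, checkFact cert j r = true :=
  upto_step cert upto_46 ju_46 4000 len_46 chk_46

theorem upto_48 : ∀ j, j < 192000 → ∃ r, checkFact cert j r = true :=
  upto_step cert upto_47 ju_47 4000 len_47 chk_47

theorem upto_49 : ∀ j, j < 196000 → ∃ r, checkFact cert j r = true :=
  upto_step cert upto_48 ju_48 4000 len_48 chk_48

theorem upto_50 : ∀ j, j < 200000 → ∃ r, checkFact cert j r = true :=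
  upto_step cert upto_49 ju_49 4000 len_49 chk_49

theorem upto_51 : ∀ j, j < 204000 → ∃ r, checkFact cert j r = true :=
  upto_step cert upto_50 ju_50 4000 len_50 chk_50

theorem upto_52 : ∀ j, j < 208000 → ∃ r, checkFact cert j r = true :=
  upto_step cert upto_51 ju_51 4000 len_51 chk_51

theorem upto_53 : ∀ j, j < 212000 → ∃ r, checkFact cert j r = true :=
  upto_step cert upto_52 ju_52 4000 len_52 chk_52

theorem upto_54 : ∀ j, j < 216000 → ∃ r, checkFact cert j r = true :=
  upto_step cert upto_53 ju_53 4000 len_53 chk_53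

theorem upto_55 : ∀ j, j < 220000 → ∃ r, checkFact cert j r = true :=
  upto_step cert upto_54 ju_54 4000 len_54 chk_54

theorem upto_56 : ∀ j, j < 224000 → ∃ r, checkFact cert j r = true :=
  upto_step cert upto_55 ju_55 4000 len_55 chk_55

theorem upto_57 : ∀ j, j < 228000 → ∃ r, checkFact cert j r = true :=
  upto_step cert upto_56 ju_56 4000 len_56 chk_56

theorem upto_58 : ∀ j, j < 232000 → ∃ r, checkFact cert j r = true :=
  upto_step cert upto_57 ju_57 4000 len_57 chk_57

theorem upto_59 : ∀ j, j < 236000 → ∃ r, checkFact cert j r = true :=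
  upto_step cert upto_58 ju_58 4000 len_58 chk_58

theorem upto_60 : ∀ j, j < 240000 → ∃ r, checkFact cert j r = true :=
  upto_step cert upto_59 ju_59 4000 len_59 chk_59

theorem upto_61 : ∀ j, j < 244000 → ∃ r, checkFact cert j r = true :=
  upto_step cert upto_60 ju_60 4000 len_60 chk_60

theorem upto_62 : ∀ j, j < 248000 → ∃ r, checkFact cert j r = true :=
  upto_step cert upto_61 ju_61 4000 len_61 chk_61

theorem upto_63 : ∀ j, j < 252000 → ∃ r, checkFact cert j r = true :=
  upto_step cert upto_62 ju_62 4000 len_62 chk_62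

theorem upto_64 : ∀ j, j < 256000 → ∃ r, checkFact cert j r = true :=
  upto_step cert upto_63 ju_63 4000 len_63 chk_63

theorem upto_65 : ∀ j, j < 260000 → ∃ r, checkFact cert j r = true :=
  upto_step cert upto_64 ju_64 4000 len_64 chk_64

theorem upto_66 : ∀ j, j < 264000 → ∃ r, checkFact cert j r = true :=
  upto_step cert upto_65 ju_65 4000 len_65 chk_65

theorem upto_67 : ∀ j, j < 268000 → ∃ r, checkFact cert j r = true :=
  upto_step cert upto_66 ju_66 4000 len_66 chk_66

theorem upto_68 : ∀ j, j < 272000 → ∃ r, checkFact cert j r = true :=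
  upto_step cert upto_67 ju_67 4000 len_67 chk_67

theorem upto_69 : ∀ j, j < 276000 → ∃ r, checkFact cert j r = true :=
  upto_step cert upto_68 ju_68 4000 len_68 chk_68

theorem upto_70 : ∀ j, j < 280000 → ∃ r, checkFact cert j r = true :=
  upto_step cert upto_69 ju_69 4000 len_69 chk_69

theorem upto_71 : ∀ j, j < 284000 → ∃ r, checkFact cert j r = true :=
  upto_step cert upto_70 ju_70 4000 len_70 chk_70

theorem upto_72 : ∀ j, j < 288000 → ∃ r, checkFact cert j r = true :=
  upto_step cert upto_71 ju_71 4000 len_71 chk_71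

theorem upto_73 : ∀ j, j < 292000 → ∃ r, checkFact cert j r = true :=
  upto_step cert upto_72 ju_72 4000 len_72 chk_72

theorem upto_74 : ∀ j, j < 296000 → ∃ r, checkFact cert j r = true :=
  upto_step cert upto_73 ju_73 4000 len_73 chk_73

theorem upto_75 : ∀ j, j < 300000 → ∃ r, checkFact cert j r = true :=
  upto_step cert upto_74 ju_74 4000 len_74 chk_74

theorem upto_76 : ∀ j, j < 304000 → ∃ r, checkFact cert j r = true :=
  upto_step cert upto_75 ju_75 4000 len_75 chk_75

theorem upto_77 : ∀ j, j < 308000 → ∃ r, checkFact cert j r = true :=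
  upto_step cert upto_76 ju_76 4000 len_76 chk_76

theorem upto_78 : ∀ j, j < 312000 → ∃ r, checkFact cert j r = true :=
  upto_step cert upto_77 ju_77 4000 len_77 chk_77

theorem upto_79 : ∀ j, j < 316000 → ∃ r, checkFact cert j r = true :=
  upto_step cert upto_78 ju_78 4000 len_78 chk_78

theorem upto_80 : ∀ j, j < 320000 → ∃ r, checkFact cert j r = true :=
  upto_step cert upto_79 ju_79 4000 len_79 chk_79

theorem upto_81 : ∀ j, j < 324000 → ∃ r, checkFact cert j r = true :=
  upto_step cert upto_80 ju_80 4000 len_80 chk_80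

theorem upto_82 : ∀ j, j < 325605 → ∃ r, checkFact cert j r = true :=
  upto_step cert upto_81 ju_81 1605 len_81 chk_81

theorem hchk : ∀ j, j < cert.nf → ∃ r, checkFact cert j r = true := upto_82

theorem rowsto_0 : ∀ n, n < 0 → ∀ x, x < cert.k → tabEntryOK cert tab n x = true :=
  fun n hn => absurd hn (by omega)

theorem rowsto_1 : ∀ n, n < 4000 → ∀ x, x < cert.k → tabEntryOK cert tab n x = true :=
  rows_step cert tab rowsto_0 4000 rows_0

theorem rowsto_2 : ∀ n, n < 8000 → ∀ x, x < cert.k → tabEntryOK cert tab n x = true :=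
  rows_step cert tab rowsto_1 4000 rows_1

theorem rowsto_3 : ∀ n, n < 12000 → ∀ x, x < cert.k → tabEntryOK cert tab n x = true :=
  rows_step cert tab rowsto_2 4000 rows_2

theorem rowsto_4 : ∀ n, n < 16000 → ∀ x, x < cert.k → tabEntryOK cert tab n x = true :=
  rows_step cert tab rowsto_3 4000 rows_3

theorem rowsto_5 : ∀ n, n < 20000 → ∀ x, x < cert.k → tabEntryOK cert tab n x = true :=
  rows_step cert tab rowsto_4 4000 rows_4

theorem rowsto_6 : ∀ n, n < 24000 → ∀ x, x < cert.k → tabEntryOK cert tab n x = true :=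
  rows_step cert tab rowsto_5 4000 rows_5

theorem rowsto_7 : ∀ n, n < 28000 → ∀ x, x < cert.k → tabEntryOK cert tab n x = true :=
  rows_step cert tab rowsto_6 4000 rows_6

theorem rowsto_8 : ∀ n, n < 32000 → ∀ x, x < cert.k → tabEntryOK cert tab n x = true :=
  rows_step cert tab rowsto_7 4000 rows_7

theorem rowsto_9 : ∀ n, n < 36000 → ∀ x, x < cert.k → tabEntryOK cert tab n x = true :=
  rows_step cert tab rowsto_8 4000 rows_8

theorem rowsto_10 : ∀ n, n < 40000 → ∀ x, x < cert.k → tabEntryOK cert tab n x = true :=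
  rows_step cert tab rowsto_9 4000 rows_9

theorem rowsto_11 : ∀ n, n < 44000 → ∀ x, x < cert.k → tabEntryOK cert tab n x = true :=
  rows_step cert tab rowsto_10 4000 rows_10

theorem rowsto_12 : ∀ n, n < 48000 → ∀ x, x < cert.k → tabEntryOK cert tab n x = true :=
  rows_step cert tab rowsto_11 4000 rows_11

theorem rowsto_13 : ∀ n, n < 52000 → ∀ x, x < cert.k → tabEntryOK cert tab n x = true :=
  rows_step cert tab rowsto_12 4000 rows_12

theorem rowsto_14 : ∀ n, n < 56000 → ∀ x, x < cert.k → tabEntryOK cert tab n x = true :=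
  rows_step cert tab rowsto_13 4000 rows_13

theorem rowsto_15 : ∀ n, n < 56925 → ∀ x, x < cert.k → tabEntryOK cert tab n x = true :=
  rows_step cert tab rowsto_14 925 rows_14

theorem hT : ∀ n, n < tab.N → ∀ x, x < cert.k → tabEntryOK cert tab n x = true := rowsto_15

theorem hjs : ∀ j ∈ js, relFactOK cert j = true := by decide +kernel

theorem h0 : ordOK cert js cs0 0 1 = true := by decide +kernel

theorem hgs : ∀ i, i < 6 → genOK cert js (css.getD i []) i 0 (as_.getD i 0) = true := by decide +kernel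

end Cfsg.Agent.Helper2.CoYD
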