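import Mathlib
import Cfsg.Agent.Helper2.Co2MYGen
import Cfsg.Agent.Helper2.CoYASum
import Cfsg.Agent.Helper2.CoYBSum
import Cfsg.Agent.Helper2.CoYCSum
import Cfsg.Agent.Helper2.CoYDSum

/-!
# The covering groups of exponent 3 of the stages of tower Y of the second Conway group

Labelled Todd–Coxeter over the image of the covering group of the previous stage.
-/

set_option autoImplicit false

namespace Cfsg.Agent.Helper2.Co2M.Y

open Cfsg Cfsg.Agent.Helper5 Cfsg.Agent.Helper5.LP Cfsg.Agent.Helper5.StemP Cfsg.Agent.Helper5.LTC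
  Cfsg.Agent.Helper2.Tw Cfsg.Agent.Helper2.Co2M

theorem bound0 : stage0.Bound 3 7 := base_bound stage0 3 (by decide) order_g0

theorem words_lt_A : ∀ wi, ∀ c ∈ CoYA.cert.W wi, c < 2 * 2 := by
  intro wi
  have h : ∀ g ∈ CoYA.words2, ∀ w ∈ g, ∀ c ∈ w, c < 4 := by decide +kernel
  exact getD2_lt h (Nat.div wi 32) (Nat.mod wi 32)

set_option maxRecDepth 1000000 in
theorem wordOK_A : ∀ wi, wi < CoYA.cert.nrel →
    wordOK3 (coverRels 2 mm CA CA 3) CA 2 (CoYA.cert.W wi) (CoYA.cert.δ wi)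
      (CoYA.origs.getD wi 0) = true := by decide +kernel

theorem subW0_A : CoYA.cert.W 18 = [0] := by decide +kernel

theorem hsubs_A : ∀ wi, CoYA.cert.nrel ≤ wi → wi < CoYA.cert.nw →
    ∃ c, c < 2 * 1 ∧ CoYA.cert.W wi = [c] := by
  intro wi h1 h2
  have h1' : 18 ≤ wi := h1
  have h2' : wi < 19 := h2
  interval_cases wi
  · exact ⟨0, by norm_num, subW0_A⟩

theorem boundA : stageA.Bound 3 6048 := by
  have h := stage_bound stage0 stageA (by norm_num) (fun r hr => absurd hr List.not_mem_nil) bound0 (by norm_num) 2 (by norm_num)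
    FDA FDA_pow CA_free CoYA.cert rfl rfl rfl words_lt_A (fun wi => CoYA.origs.getD wi 0)
    wordOK_A hsubs_A CoYA.hchk CoYA.tab (by decide +kernel) (by decide)
    CoYA.hT CoYA.js CoYA.hjs 0 1 (by norm_num) (by norm_num) CoYA.cs0 CoYA.h0
    (fun i => CoYA.as_.getD i 0) (fun i => CoYA.css.getD i []) CoYA.hgs
  have hN : CoYA.tab.N = 864 := rfl
  rw [hN] at h
  refine ⟨h.1, h.2.trans (by norm_num), ?_⟩
  have h2 := card_range_ge stageA (by norm_num) 3 levelAs chainA_ok
  rwa [chainA_prod] at h2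

theorem words_lt_B : ∀ wi, ∀ c ∈ CoYB.cert.W wi, c < 2 * 3 := by
  intro wi
  have h : ∀ g ∈ CoYB.words2, ∀ w ∈ g, ∀ c ∈ w, c < 6 := by decide +kernel
  exact getD2_lt h (Nat.div wi 32) (Nat.mod wi 32)

set_option maxRecDepth 1000000 in
theorem wordOK_B : ∀ wi, wi < CoYB.cert.nrel →
    wordOK3 (coverRels 3 mm CB CB 3) CB 3 (CoYB.cert.W wi) (CoYB.cert.δ wi)
      (CoYB.origs.getD wi 0) = true := by decide +kernel

theorem subW0_B : CoYB.cert.W 57 = [0] := by decide +kernel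

theorem subW1_B : CoYB.cert.W 58 = [2] := by decide +kernel

theorem hsubs_B : ∀ wi, CoYB.cert.nrel ≤ wi → wi < CoYB.cert.nw →
    ∃ c, c < 2 * 2 ∧ CoYB.cert.W wi = [c] := by
  intro wi h1 h2
  have h1' : 57 ≤ wi := h1
  have h2' : wi < 59 := h2
  interval_cases wi
  · exact ⟨0, by norm_num, subW0_B⟩
  · exact ⟨2, by norm_num, subW1_B⟩

theorem boundB : stageB.Bound 3 1451520 := by
  have h := stage_bound stageA stageB (by norm_num) CA_sub boundA (by norm_num) 3 (by norm_num)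
    FDB FDB_pow CB_free CoYB.cert rfl rfl rfl words_lt_B (fun wi => CoYB.origs.getD wi 0)
    wordOK_B hsubs_B CoYB.hchk CoYB.tab (by decide +kernel) (by decide)
    CoYB.hT CoYB.js CoYB.hjs 0 1 (by norm_num) (by norm_num) CoYB.cs0 CoYB.h0
    (fun i => CoYB.as_.getD i 0) (fun i => CoYB.css.getD i []) CoYB.hgs
  have hN : CoYB.tab.N = 240 := rfl
  rw [hN] at h
  refine ⟨h.1, h.2.trans (by norm_num), ?_⟩
  have h2 := card_range_ge stageB (by norm_num) 3 levelBs chainB_ok
  rwa [chainB_prod] at h2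

theorem words_lt_C : ∀ wi, ∀ c ∈ CoYC.cert.W wi, c < 2 * 4 := by
  intro wi
  have h : ∀ g ∈ CoYC.words2, ∀ w ∈ g, ∀ c ∈ w, c < 8 := by decide +kernel
  exact getD2_lt h (Nat.div wi 32) (Nat.mod wi 32)

set_option maxRecDepth 1000000 in
theorem wordOK_C : ∀ wi, wi < CoYC.cert.nrel →
    wordOK3 (coverRels 4 mm CC CC 3) CC 4 (CoYC.cert.W wi) (CoYC.cert.δ wi)
      (CoYC.origs.getD wi 0) = true := by decide +kernel

theorem subW0_C : CoYC.cert.W 120 = [0] := by decide +kernel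

theorem subW1_C : CoYC.cert.W 121 = [2] := by decide +kernel

theorem subW2_C : CoYC.cert.W 122 = [4] := by decide +kernel

theorem hsubs_C : ∀ wi, CoYC.cert.nrel ≤ wi → wi < CoYC.cert.nw →
    ∃ c, c < 2 * 3 ∧ CoYC.cert.W wi = [c] := by
  intro wi h1 h2
  have h1' : 120 ≤ wi := h1
  have h2' : wi < 123 := h2
  interval_cases wi
  · exact ⟨0, by norm_num, subW0_C⟩
  · exact ⟨2, by norm_num, subW1_C⟩
  · exact ⟨4, by norm_num, subW2_C⟩

theorem boundC : stageC.Bound 3 743178240 := by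
  have h := stage_bound stageB stageC (by norm_num) CB_sub boundB (by norm_num) 4 (by norm_num)
    FDC FDC_pow CC_free CoYC.cert rfl rfl rfl words_lt_C (fun wi => CoYC.origs.getD wi 0)
    wordOK_C hsubs_C CoYC.hchk CoYC.tab (by decide +kernel) (by decide)
    CoYC.hT CoYC.js CoYC.hjs 0 1 (by norm_num) (by norm_num) CoYC.cs0 CoYC.h0
    (fun i => CoYC.as_.getD i 0) (fun i => CoYC.css.getD i []) CoYC.hgs
  have hN : CoYC.tab.N = 512 := rfl
  rw [hN] at h
  refine ⟨h.1, h.2.trans (by norm_num), ?_⟩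
  have h2 := card_range_ge stageC (by norm_num) 3 levelCs chainC_ok
  rwa [chainC_prod] at h2

theorem words_lt_D : ∀ wi, ∀ c ∈ CoYD.cert.W wi, c < 2 * 5 := by
  intro wi
  have h : ∀ g ∈ CoYD.words2, ∀ w ∈ g, ∀ c ∈ w, c < 10 := by decide +kernel
  exact getD2_lt h (Nat.div wi 32) (Nat.mod wi 32)

set_option maxRecDepth 1000000 in
theorem wordOK_D : ∀ wi, wi < CoYD.cert.nrel →
    wordOK3 (coverRels 5 mm CD CD 3) CD 6 (CoYD.cert.W wi) (CoYD.cert.δ wi)
      (CoYD.origs.getD wi 0) = true := by decide +kernel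

theorem subW0_D : CoYD.cert.W 981 = [0] := by decide +kernel

theorem subW1_D : CoYD.cert.W 982 = [2] := by decide +kernel

theorem subW2_D : CoYD.cert.W 983 = [4] := by decide +kernel

theorem subW3_D : CoYD.cert.W 984 = [6] := by decide +kernel

theorem hsubs_D : ∀ wi, CoYD.cert.nrel ≤ wi → wi < CoYD.cert.nw →
    ∃ c, c < 2 * 4 ∧ CoYD.cert.W wi = [c] := by
  intro wi h1 h2
  have h1' : 981 ≤ wi := h1
  have h2' : wi < 985 := h2
  interval_cases wi
  · exact ⟨0, by norm_num, subW0_D⟩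
  · exact ⟨2, by norm_num, subW1_D⟩
  · exact ⟨4, by norm_num, subW2_D⟩
  · exact ⟨6, by norm_num, subW3_D⟩

theorem boundD : stageD.Bound 3 42305421312000 := by
  have h := stage_bound stageC stageD (by norm_num) CC_sub boundC (by norm_num) 6 (by norm_num)
    FDD FDD_pow CD_free CoYD.cert rfl rfl rfl words_lt_D (fun wi => CoYD.origs.getD wi 0)
    wordOK_D hsubs_D CoYD.hchk CoYD.tab (by decide +kernel) (by decide)
    CoYD.hT CoYD.js CoYD.hjs 0 1 (by norm_num) (by norm_num) CoYD.cs0 CoYD.h0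
    (fun i => CoYD.as_.getD i 0) (fun i => CoYD.css.getD i []) CoYD.hgs
  have hN : CoYD.tab.N = 56925 := rfl
  rw [hN] at h
  refine ⟨h.1, h.2.trans (by norm_num), ?_⟩
  rw [card_range_top]

/-- **the covering group of exponent 3 has the order of the group.** -/
theorem card_cov : Finite (CovG 5 mm CD CD 3) ∧
    Nat.card (CovG 5 mm CD CD 3) = Nat.card P := by
  refine ⟨boundD.1, ?_⟩
  rw [stageD.card_eq boundD, card_range_top, card_P]

end Cfsg.Agent.Helper2.Co2M.Y
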