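import Mathlib
import Cfsg.Agent.Helper2.Co2MXCov
import Cfsg.Agent.Helper2.Co2MYCov
import Cfsg.Agent.Helper5.StemPL
import Cfsg.Agent.Helper5.StemPK
import Cfsg.Agent.Helper3.Schur

/-!
# The Schur multiplier of the second Conway group is trivial

The covering group of exponent 10 on four generators of orders 7, 7, 11, 11 and the covering group
of exponent 3 on five generators of orders 7, 7, 7, 8, 11 have the order of the group; so the kernel
of a finite stem extension has no element of order 2, 3 or 5, and it has no element of order 7, 11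
or 23 since the squares of these primes do not divide the order of the group.
-/

set_option autoImplicit false

namespace Cfsg.Agent.Helper2.Co2M

open Cfsg Cfsg.Agent.Helper5 Cfsg.Agent.Helper5.StemP Cfsg.Agent.Helper5.LP
  Cfsg.Agent.Helper5.LTC Cfsg.Agent.Helper2.Tw

universe u v

/-- the order of the kernel of a stem extension is at most the product of the orders of the kernels
of three quotients. -/
theorem card_ker_le_mul3 {Γ : Type u} {G : Type v} [Group Γ] [Group G] [Finite Γ] (σ : Γ →* G)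
    (hc : σ.ker ≤ Subgroup.center Γ) (t1 t2 t3 : ℕ)
    (h : ∀ z ∈ σ.ker, z ^ Nat.gcd (Nat.gcd t1 t2) t3 = 1 → z = 1) :
    Nat.card σ.ker ≤ Nat.card (qmap σ hc t1).ker * Nat.card (qmap σ hc t2).ker *
      Nat.card (qmap σ hc t3).ker := by
  rw [← Nat.card_prod, ← Nat.card_prod]
  apply Nat.card_le_card_of_injective
    (fun z : σ.ker => (((⟨QuotientGroup.mk z.1, z.2⟩ : (qmap σ hc t1).ker),
      (⟨QuotientGroup.mk z.1, z.2⟩ : (qmap σ hc t2).ker)),
      (⟨QuotientGroup.mk z.1, z.2⟩ : (qmap σ hc t3).ker)))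
  intro a b hab
  have h1 : (QuotientGroup.mk a.1 : Γ ⧸ torPart σ hc t1) = QuotientGroup.mk b.1 :=
    congrArg (fun p => (p.1.1 : Γ ⧸ torPart σ hc t1)) hab
  have h2 : (QuotientGroup.mk a.1 : Γ ⧸ torPart σ hc t2) = QuotientGroup.mk b.1 :=
    congrArg (fun p => (p.1.2 : Γ ⧸ torPart σ hc t2)) hab
  have h3 : (QuotientGroup.mk a.1 : Γ ⧸ torPart σ hc t3) = QuotientGroup.mk b.1 :=
    congrArg (fun p => (p.2 : Γ ⧸ torPart σ hc t3)) hab
  rw [QuotientGroup.eq] at h1 h2 h3
  have h5 : (a.1⁻¹ * b.1) ^ Nat.gcd t1 t2 = 1 := pow_gcd_eq_one.mpr ⟨h1.2, h2.2⟩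
  have h6 : (a.1⁻¹ * b.1) ^ Nat.gcd (Nat.gcd t1 t2) t3 = 1 := pow_gcd_eq_one.mpr ⟨h5, h3.2⟩
  have h8 := h _ h1.1 h6
  apply Subtype.ext
  exact inv_mul_eq_one.mp h8

theorem mmX_cop (n : ℕ) (h7 : Nat.Coprime 7 n) (h11 : Nat.Coprime 11 n) :
    ∀ i, i < 4 → X.g i ^ X.mm i = 1 ∧ (X.mm i).Coprime n := by
  intro i hi
  refine ⟨X.g_pow i hi, ?_⟩
  interval_cases i
  · exact h7
  · exact h7
  · exact h11
  · exact h11

theorem mmY_cop (n : ℕ) (h7 : Nat.Coprime 7 n) (h8 : Nat.Coprime 8 n) (h11 : Nat.Coprime 11 n) :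
    ∀ i, i < 5 → Y.g i ^ Y.mm i = 1 ∧ (Y.mm i).Coprime n := by
  intro i hi
  refine ⟨Y.g_pow i hi, ?_⟩
  interval_cases i
  · exact h7
  · exact h7
  · exact h7
  · exact h8
  · exact h11

theorem bound (Γ : Type) [Group Γ] [Finite Γ] (σ : Γ →* P)
    (hσ : Cfsg.IsStemExtension σ) : Nat.card σ.ker ≤ 1 := by
  have hc := hσ.2.1
  have fX : Finite (LPG (2 * 4) (coverRels 4 X.mm X.CC X.CC 10)) := X.card_cov.1
  have fY : Finite (LPG (2 * 5) (coverRels 5 Y.mm Y.CD Y.CD 3)) := Y.card_cov.1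
  have hcardX : Nat.card (LPG (2 * 4) (coverRels 4 X.mm X.CC X.CC 10)) ∣ Nat.card P * 1 := by
    show Nat.card (CovG 4 X.mm X.CC X.CC 10) ∣ _
    rw [X.card_cov.2, mul_one]
  have hcardY : Nat.card (LPG (2 * 5) (coverRels 5 Y.mm Y.CD Y.CD 3)) ∣ Nat.card P * 1 := by
    show Nat.card (CovG 5 Y.mm Y.CD Y.CD 3) ∣ _
    rw [Y.card_cov.2, mul_one]
  have h2 : Nat.card (qmap σ hc 161382375).ker ∣ 1 :=
    card_qmap_ker_dvd_of_pow_dvd σ hσ hc 2 Nat.prime_two 18 1 161382375 10 (by norm_num)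
      (by rw [card_P]; norm_num)
      4 X.mm X.CC X.CC X.stageC.lt2 X.g X.g_closure
      (mmX_cop (2 ^ 18) (by decide) (by decide)) X.stageC.rel2 1 hcardX (by decide)
  have h5 : Nat.card (qmap σ hc 338443370496).ker ∣ 1 :=
    card_qmap_ker_dvd_of_pow_dvd σ hσ hc 5 Nat.prime_five 3 1 338443370496 10 (by norm_num)
      (by rw [card_P]; norm_num)
      4 X.mm X.CC X.CC X.stageC.lt2 X.g X.g_closure
      (mmX_cop (5 ^ 3) (by decide) (by decide)) X.stageC.rel2 1 hcardX (by decide)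
  have h3 : Nat.card (qmap σ hc 58032128000).ker ∣ 1 :=
    card_qmap_ker_dvd_of_pow_dvd σ hσ hc 3 Nat.prime_three 6 1 58032128000 3 (by norm_num)
      (by rw [card_P]; norm_num)
      5 Y.mm Y.CD Y.CD Y.stageD.lt2 Y.g Y.g_closure
      (mmY_cop (3 ^ 6) (by decide) (by decide) (by decide)) Y.stageD.rel2 1 hcardY (by decide)
  have hrest : ∀ z ∈ σ.ker,
      z ^ Nat.gcd (Nat.gcd 161382375 338443370496) 58032128000 = 1 → z = 1 := by
    intro z hz hz1
    have e1 : Nat.gcd (Nat.gcd 161382375 338443370496) 58032128000 = 1771 := by decide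
    rw [e1] at hz1
    refine eq_one_of_pow_eq_one σ hσ 1771 ?_ z hz hz1
    intro q hq hqd
    rw [card_P]
    have hq' : q ∣ 7 * 11 * 23 := hqd
    have h7 : Nat.Prime 7 := by norm_num
    have h11 : Nat.Prime 11 := by norm_num
    have h23 : Nat.Prime 23 := by norm_num
    rcases (Nat.Prime.dvd_mul hq).mp hq' with h | h
    · rcases (Nat.Prime.dvd_mul hq).mp h with h | h
      · rw [(Nat.prime_dvd_prime_iff_eq hq h7).mp h]
        decide
      · rw [(Nat.prime_dvd_prime_iff_eq hq h11).mp h]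
        decide
    · rw [(Nat.prime_dvd_prime_iff_eq hq h23).mp h]
      decide
  have h8 := card_ker_le_mul3 σ hc 161382375 338443370496 58032128000 hrest
  calc Nat.card σ.ker ≤ Nat.card (qmap σ hc 161382375).ker *
        Nat.card (qmap σ hc 338443370496).ker * Nat.card (qmap σ hc 58032128000).ker := h8
    _ ≤ 1 * 1 * 1 :=
        Nat.mul_le_mul (Nat.mul_le_mul (Nat.le_of_dvd (by norm_num) h2)
          (Nat.le_of_dvd (by norm_num) h5)) (Nat.le_of_dvd (by norm_num) h3)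
    _ = 1 := by norm_num

/-- **The Schur multiplier of the permutation group is trivial.** -/
theorem main : Cfsg.HasCyclicSchurMultiplier P 1 := by
  apply Cfsg.Agent.Helper3.hasCyclicSchurMultiplier_one_of
  intro Γ _ _ σ hσ
  have h := bound Γ σ hσ
  rw [Subgroup.eq_bot_iff_card]
  have hpos : 0 < Nat.card σ.ker := Nat.card_pos
  omega

end Cfsg.Agent.Helper2.Co2M
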