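import Mathlib

set_option autoImplicit false

namespace Cfsg.Agent.Helper2

open MulAction Subgroup

variable {G : Type*} [Group G]

/-- The sign character of a subgroup `M` of index 2 in `S`. -/
noncomputable def signHom (S M : Subgroup G) (hM : M.relIndex S = 2) : ↥S →* ℤˣ where
  toFun s := by
    classical
    exact if (s : G) ∈ M then 1 else -1
  map_one' := by simp [M.one_mem]
  map_mul' a b := by
    classical
    have h := Subgroup.mul_mem_iff_of_index_two (H := M.subgroupOf S) hM (a := a) (b := b)
    simp only [Subgroup.mem_subgroupOf, Subgroup.coe_mul] at h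
    by_cases ha : (a : G) ∈ M <;> by_cases hb : (b : G) ∈ M <;> simp [ha, hb, h]

theorem signHom_apply_of_mem (S M : Subgroup G) (hM : M.relIndex S = 2) (s : ↥S)
    (hs : (s : G) ∈ M) : signHom S M hM s = 1 := by
  classical
  simp [signHom, hs]

theorem signHom_apply_of_notMem (S M : Subgroup G) (hM : M.relIndex S = 2) (s : ↥S)
    (hs : (s : G) ∉ M) : signHom S M hM s = -1 := by
  classical
  simp [signHom, hs]

/-- Generalized Thompson transfer lemma. -/
theorem thompson_transfer_general [Finite G]
    (hG : ∀ H : Subgroup G, H.index ≠ 2) (S : Sylow 2 G) (M : Subgroup G)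
    (hM : M.relIndex (S : Subgroup G) = 2)
    (n : ℕ) (hn : 1 ≤ n) (hord : ∀ y ∈ (S : Subgroup G), y ∉ M → 2 ^ (n - 1) < orderOf y)
    (x : G) (hxn : orderOf x = 2 ^ n) :
    ∃ g : G, g * x * g⁻¹ ∈ M := by
  classical
  by_contra hcon
  push Not at hcon
  have hp : Fact (Nat.Prime 2) := ⟨Nat.prime_two⟩
  let ϕ := signHom (S : Subgroup G) M hM
  have : Fintype (Quotient (orbitRel (zpowers x) (G ⧸ (S : Subgroup G)))) := Fintype.ofFinite _
  have htr := MonoidHom.transfer_eq_prod_quotient_orbitRel_zpowers_quot ϕ x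
  -- each factor equals `(-1) ^ period`
  have hfac : ∀ q : Quotient (orbitRel (zpowers x) (G ⧸ (S : Subgroup G))),
      ϕ ⟨q.out.out⁻¹ * x ^ Function.minimalPeriod (x • ·) q.out * q.out.out,
        QuotientGroup.out_conj_pow_minimalPeriod_mem (S : Subgroup G) x q.out⟩ =
      (-1 : ℤˣ) ^ Function.minimalPeriod (x • ·) q.out := by
    intro q
    set k := Function.minimalPeriod (x • ·) q.out with hk
    set g := q.out.out with hg
    have hkd : k ∣ 2 ^ n := by
      rw [← hxn]
      exact MulAction.period_dvd_orderOf x q.out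
    obtain ⟨j, hjn, hkj⟩ := (Nat.dvd_prime_pow Nat.prime_two).mp hkd
    have hmemS : g⁻¹ * x ^ k * g ∈ (S : Subgroup G) :=
      QuotientGroup.out_conj_pow_minimalPeriod_mem (S : Subgroup G) x q.out
    by_cases hj : j = 0
    · -- `k = 1`
      have hk1 : k = 1 := by rw [hkj, hj, pow_zero]
      have hnot : g⁻¹ * x ^ k * g ∉ M := by
        rw [hk1, pow_one]
        have := hcon g⁻¹
        rwa [inv_inv] at this
      rw [signHom_apply_of_notMem _ _ _ _ hnot, ← hk, hk1, pow_one]
    · -- `k` even
      have hmem : g⁻¹ * x ^ k * g ∈ M := by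
        by_contra hnot
        have h1 := hord _ hmemS hnot
        have h2 : orderOf (g⁻¹ * x ^ k * g) = orderOf (x ^ k) := by
          have : g⁻¹ * x ^ k * g = MulAut.conj g⁻¹ (x ^ k) := by simp
          rw [this, MulEquiv.orderOf_eq]
        have h3 : orderOf (x ^ k) = 2 ^ (n - j) := by
          rw [orderOf_pow_of_dvd (by rw [hkj]; positivity) (by rw [hxn]; exact hkd), hxn, hkj,
            Nat.pow_div hjn (by norm_num)]
        rw [h2, h3] at h1
        have : n - j ≤ n - 1 := by omega
        have := Nat.pow_le_pow_right (show 0 < 2 by norm_num) this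
        omega
      rw [signHom_apply_of_mem _ _ _ _ hmem, ← hk, hkj]
      have : Even (2 ^ j) := (Nat.even_pow' hj).mpr even_two
      rw [Even.neg_one_pow this]
  have hprod : MonoidHom.transfer ϕ x = -1 := by
    rw [htr, Finset.prod_congr rfl (fun q _ => hfac q), Finset.prod_pow_eq_pow_sum,
      ← Subgroup.index_eq_sum_minimalPeriod]
    have hodd : Odd (S : Subgroup G).index := by
      rw [← Nat.not_even_iff_odd, even_iff_two_dvd]
      exact S.not_dvd_index
    exact Odd.neg_one_pow hodd
  -- the kernel has index 2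
  apply hG (MonoidHom.transfer ϕ).ker
  rw [Subgroup.index_ker]
  have hdvd : Nat.card ↥(MonoidHom.transfer ϕ).range ∣ 2 := by
    have := Subgroup.card_subgroup_dvd_card (MonoidHom.transfer ϕ).range
    rwa [Nat.card_eq_fintype_card (α := ℤˣ), Fintype.card_units_int] at this
  have hne : Nat.card ↥(MonoidHom.transfer ϕ).range ≠ 1 := by
    intro h1
    have hbot := Subgroup.card_eq_one.mp h1
    have hmem : (-1 : ℤˣ) ∈ (MonoidHom.transfer ϕ).range := ⟨x, hprod⟩
    rw [hbot, Subgroup.mem_bot] at hmem
    exact absurd hmem (by decide)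
  rcases (Nat.dvd_prime Nat.prime_two).mp hdvd with h | h
  · exact absurd h hne
  · exact h

end Cfsg.Agent.Helper2
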