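import Mathlib
import Cfsg.Agent.Helper2.ThompsonTransfer

set_option autoImplicit false

namespace Cfsg.Agent.Helper2

open MulAction Subgroup

variable {G : Type*} [Group G]

/-- Core computation for the (generalized) Thompson transfer lemma: if no conjugate of `x`
lies in `M`, the transfer of `x` into `S / M` is nontrivial. -/
theorem transfer_signHom_eq_neg_one [Finite G] (S : Sylow 2 G) (M : Subgroup G)
    (hM : M.relIndex (S : Subgroup G) = 2)
    (n : ℕ) (hord : ∀ y ∈ (S : Subgroup G), y ∉ M → 2 ^ (n - 1) < orderOf y)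
    (x : G) (hxn : orderOf x = 2 ^ n) (hcon : ∀ g : G, g * x * g⁻¹ ∉ M) :
    MonoidHom.transfer (signHom (S : Subgroup G) M hM) x = -1 := by
  classical
  have hp : Fact (Nat.Prime 2) := ⟨Nat.prime_two⟩
  let ϕ := signHom (S : Subgroup G) M hM
  have : Fintype (Quotient (orbitRel (zpowers x) (G ⧸ (S : Subgroup G)))) := Fintype.ofFinite _
  have htr := MonoidHom.transfer_eq_prod_quotient_orbitRel_zpowers_quot ϕ x
  -- each factor equals `(-1) ^ period`
  have hfac : ∀ q : Quotient (orbitRel (zpowers x) (G ⧸ (S : Subgroup G))),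
      ϕ ⟨q.out.out⁻¹ * x ^ Function.minimalPeriod (x • ·) q.out * q.out.out,
        QuotientGroup.out_conj_pow_minimalPeriod_mem (S : Subgroup G) x q.out⟩ =
      (-1 : ℤˣ) ^ Function.minimalPeriod (x • ·) q.out := by
    intro q
    set k := Function.minimalPeriod (x • ·) q.out with hk
    set g := q.out.out with hg
    have hkd : k ∣ 2 ^ n := by
      rw [← hxn]
      exact MulAction.period_dvd_orderOf x q.out
    obtain ⟨j, hjn, hkj⟩ := (Nat.dvd_prime_pow Nat.prime_two).mp hkd
    have hmemS : g⁻¹ * x ^ k * g ∈ (S : Subgroup G) :=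
      QuotientGroup.out_conj_pow_minimalPeriod_mem (S : Subgroup G) x q.out
    by_cases hj : j = 0
    · -- `k = 1`
      have hk1 : k = 1 := by rw [hkj, hj, pow_zero]
      have hnot : g⁻¹ * x ^ k * g ∉ M := by
        rw [hk1, pow_one]
        have := hcon g⁻¹
        rwa [inv_inv] at this
      rw [signHom_apply_of_notMem _ _ _ _ hnot, ← hk, hk1, pow_one]
    · -- `k` even
      have hmem : g⁻¹ * x ^ k * g ∈ M := by
        by_contra hnot
        have h1 := hord _ hmemS hnot
        have h2 : orderOf (g⁻¹ * x ^ k * g) = orderOf (x ^ k) := by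
          have : g⁻¹ * x ^ k * g = MulAut.conj g⁻¹ (x ^ k) := by simp
          rw [this, MulEquiv.orderOf_eq]
        have h3 : orderOf (x ^ k) = 2 ^ (n - j) := by
          rw [orderOf_pow_of_dvd (by rw [hkj]; positivity) (by rw [hxn]; exact hkd), hxn, hkj,
            Nat.pow_div hjn (by norm_num)]
        rw [h2, h3] at h1
        have : n - j ≤ n - 1 := by omega
        have := Nat.pow_le_pow_right (show 0 < 2 by norm_num) this
        omega
      rw [signHom_apply_of_mem _ _ _ _ hmem, ← hk, hkj]
      have : Even (2 ^ j) := (Nat.even_pow' hj).mpr even_two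
      rw [Even.neg_one_pow this]
  show MonoidHom.transfer ϕ x = -1
  rw [htr, Finset.prod_congr rfl (fun q _ => hfac q), Finset.prod_pow_eq_pow_sum,
    ← Subgroup.index_eq_sum_minimalPeriod]
  have hodd : Odd (S : Subgroup G).index := by
    rw [← Nat.not_even_iff_odd, even_iff_two_dvd]
    exact S.not_dvd_index
  exact Odd.neg_one_pow hodd

/-- The classical Thompson transfer lemma (with a normal subgroup of index 2 as alternative). -/
theorem thompson_transfer_classical [Finite G] (P : Sylow 2 G) (Q : Subgroup G)
    (hQi : Q.relIndex (P : Subgroup G) = 2) (u : G) (hu : orderOf u = 2) :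
    (∃ M : Subgroup G, M.Normal ∧ M.index = 2 ∧ u ∉ M) ∨ ∃ g : G, g * u * g⁻¹ ∈ Q := by
  by_cases hcon : ∃ g : G, g * u * g⁻¹ ∈ Q
  · exact Or.inr hcon
  · left
    push Not at hcon
    have htr := transfer_signHom_eq_neg_one P Q hQi 1
      (fun y _ hyQ => by
        rw [Nat.sub_self, pow_zero]
        have h1 : orderOf y ≠ 1 := by
          intro h
          apply hyQ
          rw [orderOf_eq_one_iff.mp h]
          exact Q.one_mem
        have := orderOf_pos y
        omega) u (by rw [hu, pow_one]) hcon
    set f := MonoidHom.transfer (signHom (P : Subgroup G) Q hQi) with hf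
    refine ⟨f.ker, inferInstance, ?_, ?_⟩
    · rw [Subgroup.index_ker]
      have hdvd : Nat.card ↥f.range ∣ 2 := by
        have := Subgroup.card_subgroup_dvd_card f.range
        rwa [Nat.card_eq_fintype_card (α := ℤˣ), Fintype.card_units_int] at this
      have hne : Nat.card ↥f.range ≠ 1 := by
        intro h1
        have hbot := Subgroup.card_eq_one.mp h1
        have hmem : (-1 : ℤˣ) ∈ f.range := ⟨u, htr⟩
        rw [hbot, Subgroup.mem_bot] at hmem
        exact absurd hmem (by decide)
      rcases (Nat.dvd_prime Nat.prime_two).mp hdvd with h | h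
      · exact absurd h hne
      · exact h
    · intro hmem
      rw [MonoidHom.mem_ker, htr] at hmem
      exact absurd hmem (by decide)

end Cfsg.Agent.Helper2
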