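import Mathlib
import Cfsg.Agent.Helper5.HupDefs

set_option autoImplicit false
set_option linter.unusedVariables false
set_option linter.unusedSectionVars false

/-!
Helper2: S3360 (Huppert), piece P0 (base): orbit counting for a linear group transitive on the
nonzero vectors.
-/

open Cfsg.Agent.Helper5.Hup
open scoped commutatorElement

namespace Cfsg.Agent.Helper2.Hup

universe u w

variable {q : ℕ} [hq : Fact q.Prime] {V : Type u} [AddCommGroup V] [Module (ZMod q) V] [Finite V]
variable {G : Type w} [Group G] [Finite G]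

theorem map_inv_apply_self (ι : G →* Module.End (ZMod q) V) (g : G) (v : V) :
    ι g⁻¹ (ι g v) = v := by
  have h : ι g⁻¹ * ι g = 1 := by rw [← map_mul, inv_mul_cancel, map_one]
  have := congrArg (fun f : Module.End (ZMod q) V => f v) h
  simpa using this

theorem map_apply_inv_self (ι : G →* Module.End (ZMod q) V) (g : G) (v : V) :
    ι g (ι g⁻¹ v) = v := by
  have := map_inv_apply_self ι g⁻¹ v
  rwa [inv_inv] at this

theorem map_apply_ne_zero (ι : G →* Module.End (ZMod q) V) (g : G) {v : V} (hv : v ≠ 0) :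
    ι g v ≠ 0 := by
  intro h
  apply hv
  have := map_inv_apply_self ι g v
  rw [h, map_zero] at this
  exact this.symm

theorem map_mul_apply (ι : G →* Module.End (ZMod q) V) (g h : G) (v : V) :
    ι (g * h) v = ι g (ι h v) := by
  rw [map_mul]
  rfl

theorem card_dvd_of_trans (ι : G →* Module.End (ZMod q) V) (htr : Trans ι) {n : ℕ} (hn : 0 < n)
    (hV : Nat.card V = q ^ n) : q ^ n - 1 ∣ Nat.card G := by
  classical
  let _ : MulAction G V := MulAction.compHom V ι
  have hsmul : ∀ (g : G) (v : V), g • v = ι g v := fun g v => rfl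
  -- a nonzero vector
  have hcard : 1 < Nat.card V := by
    rw [hV]
    exact Nat.one_lt_pow hn.ne' hq.out.one_lt
  have : Nontrivial V := (Finite.one_lt_card_iff_nontrivial).1 hcard
  obtain ⟨v, hv⟩ := exists_ne (0 : V)
  have horb : MulAction.orbit G v = {w : V | w ≠ 0} := by
    ext w
    constructor
    · rintro ⟨g, rfl⟩
      exact map_apply_ne_zero ι g hv
    · intro hw
      obtain ⟨g, hg⟩ := htr v w hv hw
      exact ⟨g, hg⟩
  have h1 : (MulAction.stabilizer G v).index = q ^ n - 1 := by
    rw [MulAction.index_stabilizer, horb]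
    have : ({w : V | w ≠ 0} : Set V) = ({0} : Set V)ᶜ := by
      ext w
      simp
    rw [this, Set.ncard_compl, Set.ncard_singleton, hV]
  rw [← h1]
  exact Subgroup.index_dvd_card _

theorem fixed_eq_zero_of_normal (ι : G →* Module.End (ZMod q) V) (hι : Function.Injective ι)
    (htr : Trans ι) (N : Subgroup G) [hNn : N.Normal] (hN : N ≠ ⊥) (v : V)
    (hv : ∀ a ∈ N, ι a v = v) : v = 0 := by
  by_contra hv0
  apply hN
  rw [Subgroup.eq_bot_iff_forall]
  intro a ha
  apply hι
  rw [map_one]
  apply LinearMap.ext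
  intro w
  show ι a w = w
  by_cases hw : w = 0
  · rw [hw, map_zero]
  · obtain ⟨g, rfl⟩ := htr v w hv0 hw
    have h1 : g⁻¹ * a * g ∈ N := by
      have := hNn.conj_mem a ha g⁻¹
      simpa using this
    have h2 : a * g = g * (g⁻¹ * a * g) := by group
    rw [← map_mul_apply, h2, map_mul_apply, hv _ h1]

theorem eq_bot_of_isPGroup (ι : G →* Module.End (ZMod q) V) (hι : Function.Injective ι)
    (htr : Trans ι) {n : ℕ} (hV : Nat.card V = q ^ n) {s : ℕ} [hs' : Fact s.Prime]
    (N : Subgroup G) [N.Normal] (hN : IsPGroup s N) (hs : ¬ s ∣ q ^ n - 1) : N = ⊥ := by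
  classical
  by_contra hne
  apply hs
  -- `N` acts on `V`; the fixed points are `{0}` only
  let _ : MulAction N V := MulAction.compHom V (ι.comp N.subtype)
  have hsmul : ∀ (g : N) (v : V), g • v = ι (g : G) v := fun g v => rfl
  have h1 := hN.card_modEq_card_fixedPoints V
  have hfix : MulAction.fixedPoints N V = {0} := by
    ext v
    rw [MulAction.mem_fixedPoints, Set.mem_singleton_iff]
    constructor
    · intro h
      exact fixed_eq_zero_of_normal ι hι htr N hne v (fun a ha => h ⟨a, ha⟩)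
    · rintro rfl g
      rw [hsmul, map_zero]
  have h2 : Nat.card (MulAction.fixedPoints N V) = 1 := by
    rw [hfix]
    simp
  rw [h2, hV] at h1
  have h3 : 1 ≤ q ^ n := Nat.one_le_pow _ _ hq.out.pos
  exact (Nat.modEq_iff_dvd' h3).1 h1.symm

theorem irrOn_top (ι : G →* Module.End (ZMod q) V) (htr : Trans ι) :
    IrrOn ι (⊤ : Subgroup G) := by
  intro W hW
  by_cases h : W = ⊥
  · exact Or.inl h
  · right
    obtain ⟨v, hvW, hv0⟩ := (Submodule.ne_bot_iff W).1 h
    rw [eq_top_iff]
    intro w _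
    by_cases hw : w = 0
    · rw [hw]
      exact W.zero_mem
    · obtain ⟨g, rfl⟩ := htr v w hv0 hw
      exact hW g (Subgroup.mem_top g) v hvW

theorem irrOn_mono (ι : G →* Module.End (ZMod q) V) {A B : Subgroup G} (h : A ≤ B)
    (hA : IrrOn ι A) : IrrOn ι B := by
  intro W hW
  exact hA W (fun a ha v hv => hW a (h ha) v hv)

/-- all point stabilizers in a normal subgroup have the same order -/
theorem card_stab_eq (ι : G →* Module.End (ZMod q) V) (htr : Trans ι) (N : Subgroup G)
    [hNn : N.Normal] (v w : V) (hv : v ≠ 0) (hw : w ≠ 0) :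
    Nat.card {a : N // ι (a : G) v = v} = Nat.card {a : N // ι (a : G) w = w} := by
  obtain ⟨g, rfl⟩ := htr v w hv hw
  apply Nat.card_congr
  refine
    { toFun := fun a => ⟨⟨g * (a.1 : G) * g⁻¹, hNn.conj_mem _ a.1.2 g⟩, ?_⟩
      invFun := fun a => ⟨⟨g⁻¹ * (a.1 : G) * g, ?_⟩, ?_⟩
      left_inv := ?_
      right_inv := ?_ }
  · show ι (g * (a.1 : G) * g⁻¹) (ι g v) = ι g v
    rw [← map_mul_apply]
    have : g * (a.1 : G) * g⁻¹ * g = g * (a.1 : G) := by group
    rw [this, map_mul_apply, a.2]
  · have := hNn.conj_mem _ a.1.2 g⁻¹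
    simpa using this
  · show ι (g⁻¹ * (a.1 : G) * g) v = v
    have h1 : ι (a.1 : G) (ι g v) = ι g v := a.2
    have h2 : g⁻¹ * (a.1 : G) * g = g⁻¹ * ((a.1 : G) * g) := by group
    rw [h2, map_mul_apply, map_mul_apply, h1, map_inv_apply_self]
  · intro a
    apply Subtype.ext
    apply Subtype.ext
    show g⁻¹ * (g * (a.1 : G) * g⁻¹) * g = (a.1 : G)
    group
  · intro a
    apply Subtype.ext
    apply Subtype.ext
    show g * (g⁻¹ * (a.1 : G) * g) * g⁻¹ = (a.1 : G)
    group

/-- conjugation action of an `r`-subgroup `Q` normalizing `L`: `|L| ≡ |C_L(Q)|` mod `r` -/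
theorem card_modEq_of_normalizes {r : ℕ} [Fact r.Prime] (L Q : Subgroup G) (hQ : IsPGroup r Q)
    (hQL : ∀ x ∈ Q, ∀ l ∈ L, x * l * x⁻¹ ∈ L) :
    Nat.card L ≡ Nat.card ↥(L ⊓ Subgroup.centralizer (Q : Set G)) [MOD r] := by
  let _ : MulAction Q L :=
    { smul := fun x l => ⟨(x : G) * l * (x : G)⁻¹, hQL x x.2 l l.2⟩
      one_smul := fun l => by
        apply Subtype.ext
        show ((1 : Q) : G) * l * ((1 : Q) : G)⁻¹ = l
        simp
      mul_smul := fun x y l => by
        apply Subtype.ext
        show ((x * y : Q) : G) * l * ((x * y : Q) : G)⁻¹ = (x : G) * ((y : G) * l * (y : G)⁻¹) * (x : G)⁻¹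
        rw [Subgroup.coe_mul]
        group }
  have hsmul : ∀ (x : Q) (l : L), ((x • l : L) : G) = (x : G) * l * (x : G)⁻¹ := fun x l => rfl
  have h1 := hQ.card_modEq_card_fixedPoints L
  have h2 : Nat.card (MulAction.fixedPoints Q L)
      = Nat.card ↥(L ⊓ Subgroup.centralizer (Q : Set G)) := by
    apply Nat.card_congr
    refine
      { toFun := fun l => ⟨(l.1 : G), Subgroup.mem_inf.2 ⟨l.1.2, ?_⟩⟩
        invFun := fun c => ⟨⟨c.1, (Subgroup.mem_inf.1 c.2).1⟩, ?_⟩
        left_inv := fun l => rfl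
        right_inv := fun c => rfl }
    · rw [Subgroup.mem_centralizer_iff]
      intro x hx
      have := l.2 ⟨x, hx⟩
      have h3 := congrArg Subtype.val this
      rw [hsmul] at h3
      simp only at h3
      calc x * (l.1 : G) = x * l.1 * x⁻¹ * x := by group
        _ = l.1 * x := by rw [h3]
    · intro x
      apply Subtype.ext
      rw [hsmul]
      have hc := (Subgroup.mem_centralizer_iff.1 (Subgroup.mem_inf.1 c.2).2) (x : G) x.2
      show (x : G) * c.1 * (x : G)⁻¹ = c.1
      rw [hc, mul_inv_cancel_right]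
  rw [h2] at h1
  exact h1

end Cfsg.Agent.Helper2.Hup
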