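import Mathlib
import Cfsg.Agent.Helper5.HupDefs
import Cfsg.Agent.Helper2.HupBase

set_option autoImplicit false
set_option linter.unusedVariables false
set_option linter.unusedSectionVars false
set_option linter.style.haveILetI false

/-!
Helper2: S3360 (Huppert), piece N1: the one-dimensional case.
-/

open Cfsg.Agent.Helper5.Hup
open scoped commutatorElement

namespace Cfsg.Agent.Helper2.Hup

universe u w

variable {q : ℕ} [hq : Fact q.Prime] {V : Type u} [AddCommGroup V] [Module (ZMod q) V] [Finite V]
variable {G : Type w} [Group G] [Finite G]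

/-- endomorphisms of a space with `q` elements commute -/
theorem end_comm_of_card (hV : Nat.card V = q ^ 1) (f g : Module.End (ZMod q) V) :
    f * g = g * f := by
  have h1 : Nat.card V = Nat.card (ZMod q) ^ Module.finrank (ZMod q) V :=
    Module.natCard_eq_pow_finrank
  rw [Nat.card_zmod, hV] at h1
  have hfr : Module.finrank (ZMod q) V = 1 :=
    (Nat.pow_right_injective hq.out.two_le h1).symm
  have hcard : 1 < Nat.card V := by
    rw [hV, pow_one]
    exact hq.out.one_lt
  have : Nontrivial V := (Finite.one_lt_card_iff_nontrivial).1 hcard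
  obtain ⟨v, hv⟩ := exists_ne (0 : V)
  have hspan := (finrank_eq_one_iff_of_nonzero' v hv).1 hfr
  obtain ⟨c, hc⟩ := hspan (f v)
  obtain ⟨d, hd⟩ := hspan (g v)
  apply LinearMap.ext
  intro w
  obtain ⟨e, rfl⟩ := hspan w
  simp only [Module.End.mul_apply, map_smul, ← hc, ← hd]
  rw [smul_comm c d]

theorem case_one (ι : G →* Module.End (ZMod q) V) (hι : Function.Injective ι) (htr : Trans ι)
    (hV : Nat.card V = q ^ 1) :
    ∃ A : Subgroup G, A.Normal ∧ (∀ a ∈ A, ∀ b ∈ A, a * b = b * a) ∧ IrrOn ι A := by
  refine ⟨⊤, inferInstance, ?_, irrOn_top ι htr⟩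
  intro a _ b _
  apply hι
  rw [map_mul, map_mul]
  exact end_comm_of_card hV _ _

end Cfsg.Agent.Helper2.Hup
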