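import Mathlib
import Cfsg.Agent.Helper5.HupDefs

set_option autoImplicit false
set_option linter.unusedVariables false
set_option linter.unusedSectionVars false
set_option linter.style.haveILetI false

/-!
Helper2: S3360 (Huppert), piece A: elements whose order is a primitive prime divisor of
`q ^ n - 1` are fixed-point-free and irreducible.
-/

open Cfsg.Agent.Helper5.Hup
open scoped commutatorElement

namespace Cfsg.Agent.Helper2.Hup

universe u w

variable {q : ℕ} [hq : Fact q.Prime] {V : Type u} [AddCommGroup V] [Module (ZMod q) V] [Finite V]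
variable {G : Type w} [Group G] [Finite G]

/-- a primitive prime divisor does not divide `q` -/
theorem ppd_not_dvd {n r : ℕ} (hn : 0 < n) (hr : r.Prime) (hrn : r ∣ q ^ n - 1) : ¬ r ∣ q := by
  intro h
  have h1 : r ∣ q ^ n := dvd_pow h hn.ne'
  have h2 : 1 ≤ q ^ n := Nat.one_le_pow _ _ hq.out.pos
  have h3 : r ∣ q ^ n - (q ^ n - 1) := Nat.dvd_sub h1 hrn
  have h4 : q ^ n - (q ^ n - 1) = 1 := by omega
  rw [h4] at h3
  exact hr.one_lt.ne' (Nat.dvd_one.1 h3)

/-- the arithmetic core of the primitive prime divisor arguments -/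
theorem ppd_arith {n r a c : ℕ} (hn : 0 < n) (hr : r.Prime) (hrn : r ∣ q ^ n - 1)
    (hppd : ∀ k, 0 < k → k < n → ¬ r ∣ q ^ k - 1) (hc : c ≤ a) (ha : a ≤ n)
    (hmod : q ^ a ≡ q ^ c [MOD r]) : a = c ∨ (a = n ∧ c = 0) := by
  have hrq : ¬ r ∣ q := ppd_not_dvd hn hr hrn
  have hcop : Nat.Coprime r q := (Nat.Prime.coprime_iff_not_dvd hr).2 hrq
  obtain ⟨k, rfl⟩ := Nat.exists_eq_add_of_le hc
  have h1 : q ^ c * q ^ k ≡ q ^ c * 1 [MOD r] := by
    rw [mul_one, ← pow_add]
    exact hmod
  have h2 : q ^ k ≡ 1 [MOD r] := by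
    refine Nat.ModEq.cancel_left_of_coprime ?_ h1
    rw [Nat.coprime_comm] at hcop
    exact (Nat.Coprime.pow_left c hcop).symm.gcd_eq_one
  have h3 : r ∣ q ^ k - 1 :=
    (Nat.modEq_iff_dvd' (Nat.one_le_pow _ _ hq.out.pos)).1 h2.symm
  rcases Nat.eq_zero_or_pos k with hk | hk
  · left
    omega
  · right
    by_cases hkn : k < n
    · exact absurd h3 (hppd k hk hkn)
    · omega

theorem le_of_ppd {n r : ℕ} (hn : 0 < n) (hr : r.Prime) (hrn : r ∣ q ^ n - 1)
    (hppd : ∀ k, 0 < k → k < n → ¬ r ∣ q ^ k - 1) : n + 1 ≤ r := by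
  haveI : Fact r.Prime := ⟨hr⟩
  have hrq : ¬ r ∣ q := ppd_not_dvd hn hr hrn
  have hq0 : (q : ZMod r) ≠ 0 := by
    rw [Ne, ZMod.natCast_eq_zero_iff]
    exact hrq
  have h1 : (q : ZMod r) ^ (r - 1) = 1 := ZMod.pow_card_sub_one_eq_one hq0
  -- `q ^ (r - 1) ≡ q ^ 0`
  by_contra hlt
  have hlt' : r - 1 < n := by
    have := hr.two_le
    omega
  have hpos : 0 < r - 1 := by
    have := hr.two_le
    omega
  apply hppd (r - 1) hpos hlt'
  have h2 : ((q ^ (r - 1) : ℕ) : ZMod r) = ((1 : ℕ) : ZMod r) := by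
    push_cast
    exact h1
  have h3 : q ^ (r - 1) ≡ 1 [MOD r] := (ZMod.natCast_eq_natCast_iff _ _ _).1 h2
  exact (Nat.modEq_iff_dvd' (Nat.one_le_pow _ _ hq.out.pos)).1 h3.symm

/-- the cardinality of a subspace is a power of `q` with exponent at most `n` -/
theorem exists_card_submodule {n : ℕ} (hV : Nat.card V = q ^ n) (U : Submodule (ZMod q) V) :
    ∃ c, c ≤ n ∧ Nat.card U = q ^ c := by
  have h1 : Nat.card U = Nat.card (ZMod q) ^ Module.finrank (ZMod q) U :=
    Module.natCard_eq_pow_finrank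
  rw [Nat.card_zmod] at h1
  refine ⟨Module.finrank (ZMod q) U, ?_, h1⟩
  have h2 : Nat.card U ∣ Nat.card V := AddSubgroup.card_addSubgroup_dvd_card U.toAddSubgroup
  rw [h1, hV] at h2
  exact (Nat.pow_dvd_pow_iff_le_right hq.out.one_lt).1 h2

/-- a subspace with as many elements as the whole space is everything -/
theorem eq_top_of_card_eq (W : Submodule (ZMod q) V) (h : Nat.card W = Nat.card V) : W = ⊤ := by
  have h1 : W.toAddSubgroup = ⊤ := (AddSubgroup.card_eq_iff_eq_top W.toAddSubgroup).1 h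
  rw [eq_top_iff]
  intro v _
  have : v ∈ W.toAddSubgroup := by
    rw [h1]
    exact AddSubgroup.mem_top v
  exact this

/-- counting fixed points of an endomorphism of prime order `r` on an invariant subspace -/
theorem card_modEq_fixed {r : ℕ} [Fact r.Prime] (f : Module.End (ZMod q) V) (hf : f ^ r = 1)
    (W : Submodule (ZMod q) V) (hW : ∀ v ∈ W, f v ∈ W) :
    Nat.card W ≡ Nat.card ↥(W ⊓ LinearMap.ker (f - 1)) [MOD r] := by
  classical
  haveI : Fintype W := Fintype.ofFinite W
  let g : Function.End W := fun w => ⟨f w, hW w w.2⟩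
  have hg : ∀ (k : ℕ) (w : W), (((g ^ k) w : W) : V) = (f ^ k) w := by
    intro k
    induction k with
    | zero => intro w; rfl
    | succ k ih =>
      intro w
      rw [pow_succ', pow_succ']
      show (g ((g ^ k) w) : V) = f ((f ^ k) w)
      show f (((g ^ k) w : W) : V) = f ((f ^ k) w)
      rw [ih]
  have hgr : g ^ r ^ 1 = 1 := by
    rw [pow_one]
    funext w
    apply Subtype.ext
    rw [hg, hf]
    rfl
  have h1 := Equiv.Perm.card_fixedPoints_modEq (p := r) (n := 1) hgr
  rw [Fintype.card_eq_nat_card, Fintype.card_eq_nat_card] at h1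
  have h2 : Nat.card (Function.fixedPoints g) = Nat.card ↥(W ⊓ LinearMap.ker (f - 1)) := by
    apply Nat.card_congr
    refine
      { toFun := fun w => ⟨(w.1 : V), Submodule.mem_inf.2 ⟨w.1.2, ?_⟩⟩
        invFun := fun c => ⟨⟨c.1, (Submodule.mem_inf.1 c.2).1⟩, ?_⟩
        left_inv := fun w => rfl
        right_inv := fun c => rfl }
    · rw [LinearMap.mem_ker, LinearMap.sub_apply, sub_eq_zero]
      have := w.2
      have h3 : g w.1 = w.1 := this
      exact congrArg Subtype.val h3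
    · show g _ = _
      apply Subtype.ext
      show f c.1 = c.1
      have := (Submodule.mem_inf.1 c.2).2
      rw [LinearMap.mem_ker, LinearMap.sub_apply, sub_eq_zero] at this
      exact this
  rw [h2] at h1
  exact h1

theorem no_fixed_of_ppd {n r : ℕ} (hV : Nat.card V = q ^ n) (hr : r.Prime) (hrn : r ∣ q ^ n - 1)
    (hppd : ∀ k, 0 < k → k < n → ¬ r ∣ q ^ k - 1) (f : Module.End (ZMod q) V) (hf : f ^ r = 1)
    (hf1 : f ≠ 1) (v : V) (hv : f v = v) : v = 0 := by
  haveI : Fact r.Prime := ⟨hr⟩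
  rcases Nat.eq_zero_or_pos n with hn | hn
  · rw [hn, pow_zero] at hV
    haveI : Subsingleton V := (Nat.card_eq_one_iff_unique.1 hV).1
    exact Subsingleton.elim _ _
  have h1 := card_modEq_fixed f hf ⊤ (fun v _ => Submodule.mem_top)
  rw [top_inf_eq] at h1
  have htop : Nat.card (⊤ : Submodule (ZMod q) V) = q ^ n := by
    rw [← hV]
    exact Nat.card_congr (Equiv.Set.univ V)
  obtain ⟨c, hcn, hc⟩ := exists_card_submodule hV (LinearMap.ker (f - 1))
  rw [htop, hc] at h1
  rcases ppd_arith hn hr hrn hppd hcn le_rfl h1 with h | ⟨_, h⟩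
  · -- the kernel is everything
    exfalso
    apply hf1
    have hker : LinearMap.ker (f - 1) = ⊤ := by
      have h2 : Nat.card (LinearMap.ker (f - 1)) = Nat.card V := by rw [hc, hV, h]
      exact eq_top_of_card_eq _ h2
    rw [LinearMap.ker_eq_top] at hker
    exact sub_eq_zero.1 hker
  · rw [h, pow_zero] at hc
    haveI : Subsingleton (LinearMap.ker (f - 1)) := (Nat.card_eq_one_iff_unique.1 hc).1
    have hvk : v ∈ LinearMap.ker (f - 1) := by
      rw [LinearMap.mem_ker, LinearMap.sub_apply, sub_eq_zero]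
      exact hv
    have := Subsingleton.elim (⟨v, hvk⟩ : LinearMap.ker (f - 1)) 0
    exact congrArg Subtype.val this

theorem irr_of_ppd {n r : ℕ} (hV : Nat.card V = q ^ n) (hr : r.Prime) (hrn : r ∣ q ^ n - 1)
    (hppd : ∀ k, 0 < k → k < n → ¬ r ∣ q ^ k - 1) (f : Module.End (ZMod q) V) (hf : f ^ r = 1)
    (hf1 : f ≠ 1) (W : Submodule (ZMod q) V) (hW : ∀ v ∈ W, f v ∈ W) : W = ⊥ ∨ W = ⊤ := by
  haveI : Fact r.Prime := ⟨hr⟩
  rcases Nat.eq_zero_or_pos n with hn | hn
  · rw [hn, pow_zero] at hV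
    haveI : Subsingleton V := (Nat.card_eq_one_iff_unique.1 hV).1
    left
    exact Subsingleton.elim _ _
  have h1 := card_modEq_fixed f hf W hW
  have hfix : Nat.card ↥(W ⊓ LinearMap.ker (f - 1)) = q ^ 0 := by
    rw [pow_zero, Nat.card_eq_one_iff_unique]
    refine ⟨⟨fun a b => ?_⟩, ⟨0⟩⟩
    have key : ∀ a : ↥(W ⊓ LinearMap.ker (f - 1)), (a : V) = 0 := by
      intro a
      have := (Submodule.mem_inf.1 a.2).2
      rw [LinearMap.mem_ker, LinearMap.sub_apply, sub_eq_zero] at this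
      exact no_fixed_of_ppd hV hr hrn hppd f hf hf1 _ this
    apply Subtype.ext
    rw [key a, key b]
  obtain ⟨a, han, ha⟩ := exists_card_submodule hV W
  rw [ha, hfix] at h1
  rcases ppd_arith hn hr hrn hppd (Nat.zero_le a) han h1 with h | ⟨h, _⟩
  · left
    rw [h, pow_zero] at ha
    haveI : Subsingleton W := (Nat.card_eq_one_iff_unique.1 ha).1
    exact Submodule.eq_bot_of_subsingleton
  · right
    have h2 : Nat.card W = Nat.card V := by rw [ha, hV, h]
    exact eq_top_of_card_eq _ h2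

theorem sum_pow_eq_zero (f : Module.End (ZMod q) V) (r : ℕ) (hf : f ^ r = 1)
    (hfix : ∀ v, f v = v → v = 0) : ∑ i ∈ Finset.range r, f ^ i = 0 := by
  have h1 : (f - 1) * ∑ i ∈ Finset.range r, f ^ i = 0 := by
    rw [mul_geom_sum, hf, sub_self]
  apply LinearMap.ext
  intro v
  rw [LinearMap.zero_apply]
  apply hfix
  have h2 := congrArg (fun g : Module.End (ZMod q) V => g v) h1
  simp only [Module.End.mul_apply, LinearMap.sub_apply, LinearMap.zero_apply, sub_eq_zero] at h2
  simpa using h2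

end Cfsg.Agent.Helper2.Hup
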