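import Mathlib
import Cfsg.Agent.Helper5.HupDefs

set_option autoImplicit false
set_option linter.unusedVariables false
set_option linter.unusedSectionVars false
set_option linter.style.haveILetI false

/-!
Helper2: S3360 (Huppert), piece C: an abelian `q'`-subgroup normalized by an element `x` of prime
order with `∑ (ι x) ^ i = 0` is centralized by `x` (averaging argument in `End V`).
-/

open Cfsg.Agent.Helper5.Hup
open scoped commutatorElement

namespace Cfsg.Agent.Helper2.Hup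

universe u w

variable {q : ℕ} [hq : Fact q.Prime] {V : Type u} [AddCommGroup V] [Module (ZMod q) V] [Finite V]
variable {G : Type w} [Group G] [Finite G]

/-- `δ_y(b) = b⁻¹ · y b y⁻¹` -/
def dl (y b : G) : G := b⁻¹ * (y * b * y⁻¹)

omit [Finite G] in
theorem dl_mem {B : Subgroup G} {y b : G} (hy : ∀ b ∈ B, y * b * y⁻¹ ∈ B) (hb : b ∈ B) :
    dl y b ∈ B :=
  B.mul_mem (B.inv_mem hb) (hy b hb)

omit [Finite G] in
theorem dl_mul {B : Subgroup G} (hB : ∀ a ∈ B, ∀ b ∈ B, a * b = b * a) {y a b : G}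
    (hy : ∀ b ∈ B, y * b * y⁻¹ ∈ B) (ha : a ∈ B) (hb : b ∈ B) :
    dl y (a * b) = dl y a * dl y b := by
  unfold dl
  have hc : b⁻¹ * (a⁻¹ * (y * a * y⁻¹)) = (a⁻¹ * (y * a * y⁻¹)) * b⁻¹ :=
    hB _ (B.inv_mem hb) _ (B.mul_mem (B.inv_mem ha) (hy a ha))
  calc (a * b)⁻¹ * (y * (a * b) * y⁻¹)
      = (b⁻¹ * (a⁻¹ * (y * a * y⁻¹))) * (y * b * y⁻¹) := by group
    _ = (a⁻¹ * (y * a * y⁻¹)) * b⁻¹ * (y * b * y⁻¹) := by rw [hc]
    _ = a⁻¹ * (y * a * y⁻¹) * (b⁻¹ * (y * b * y⁻¹)) := by group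

omit [Finite G] in
theorem conj_pow_mem {B : Subgroup G} {y : G} (hy : ∀ b ∈ B, y * b * y⁻¹ ∈ B) (i : ℕ) :
    ∀ b ∈ B, y ^ i * b * (y ^ i)⁻¹ ∈ B := by
  induction i with
  | zero =>
    intro b hb
    simpa using hb
  | succ i ih =>
    intro b hb
    have h := hy _ (ih b hb)
    have : y ^ (i + 1) * b * (y ^ (i + 1))⁻¹ = y * (y ^ i * b * (y ^ i)⁻¹) * y⁻¹ := by
      rw [pow_succ']
      group
    rw [this]
    exact h

omit [Finite G] in
/-- the image of `δ_{y^j}` lies in the image of `δ_y` -/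
theorem exists_dl_pow {B : Subgroup G} (hB : ∀ a ∈ B, ∀ b ∈ B, a * b = b * a) {y : G}
    (hy : ∀ b ∈ B, y * b * y⁻¹ ∈ B) (j : ℕ) :
    ∀ a ∈ B, ∃ a' ∈ B, dl (y ^ j) a = dl y a' := by
  induction j with
  | zero =>
    intro a ha
    refine ⟨1, B.one_mem, ?_⟩
    unfold dl
    simp
  | succ j ih =>
    intro a ha
    obtain ⟨a', ha', h⟩ := ih a ha
    have ha₁ : y ^ j * a * (y ^ j)⁻¹ ∈ B := conj_pow_mem hy j a ha
    refine ⟨a' * (y ^ j * a * (y ^ j)⁻¹), B.mul_mem ha' ha₁, ?_⟩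
    rw [dl_mul hB hy ha' ha₁, ← h]
    unfold dl
    rw [pow_succ']
    group

theorem comm_of_abelian_normalized (ι : G →* Module.End (ZMod q) V) (hι : Function.Injective ι)
    {r : ℕ} (hr : r.Prime) (x : G) (hx : orderOf x = r)
    (hsum : ∑ i ∈ Finset.range r, (ι x) ^ i = 0) (B : Subgroup G)
    (hB : ∀ a ∈ B, ∀ b ∈ B, a * b = b * a) (hxB : ∀ b ∈ B, x * b * x⁻¹ ∈ B)
    (hcop : (Nat.card B).Coprime q) : ∀ b ∈ B, x * b = b * x := by
  classical
  haveI : Fintype B := Fintype.ofFinite B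
  have hxi : ∀ i : ℕ, ∀ b ∈ B, x ^ i * b * (x ^ i)⁻¹ ∈ B := fun i => conj_pow_mem hxB i
  -- Step 2
  have h2 : ∀ b ∈ B, ∑ i ∈ Finset.range r, ι (dl (x ^ i) b) * (ι x) ^ i = 0 := by
    intro b hb
    have h : ι b⁻¹ * (∑ i ∈ Finset.range r, (ι x) ^ i) * ι b = 0 := by
      rw [hsum, mul_zero, zero_mul]
    rw [Finset.mul_sum, Finset.sum_mul] at h
    rw [← h]
    apply Finset.sum_congr rfl
    intro i _
    rw [← map_pow, ← map_mul, ← map_mul, ← map_mul]
    congr 1
    unfold dl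
    group
  -- the coefficients
  set W : ℕ → Module.End (ZMod q) V := fun i => ∑ b : B, ι (dl (x ^ i) (b : G)) with hW
  have h3 : ∑ i ∈ Finset.range r, W i * (ι x) ^ i = 0 := by
    simp only [hW, Finset.sum_mul]
    rw [Finset.sum_comm]
    apply Finset.sum_eq_zero
    intro b _
    exact h2 b b.2
  have hW0 : W 0 = (Fintype.card B) • (1 : Module.End (ZMod q) V) := by
    simp only [hW]
    have : ∀ b : B, ι (dl (x ^ 0) (b : G)) = 1 := by
      intro b
      unfold dl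
      simp
    simp only [this]
    rw [Finset.sum_const, Finset.card_univ]
  -- Step 4
  have h4 : ∀ (i : ℕ), ∀ a' ∈ B, ι (dl (x ^ i) a') * W i = W i := by
    intro i a' ha'
    simp only [hW]
    rw [Finset.mul_sum]
    have hterm : ∀ b : B, ι (dl (x ^ i) a') * ι (dl (x ^ i) (b : G))
        = ι (dl (x ^ i) (((Equiv.mulLeft (⟨a', ha'⟩ : B)) b : B) : G)) := by
      intro b
      rw [← map_mul, ← dl_mul hB (hxi i) ha' b.2]
      rfl
    simp only [hterm]
    exact Fintype.sum_equiv (Equiv.mulLeft (⟨a', ha'⟩ : B)) _ _ (fun b => rfl)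
  -- main
  intro a ha
  have hr0 : 0 < r := hr.pos
  set c := dl x a with hc
  have h6 : ∀ i ∈ Finset.range r, i ≠ 0 → (ι c - 1) * (W i * (ι x) ^ i) = 0 := by
    intro i hi hi0
    rw [Finset.mem_range] at hi
    -- `x = (x ^ i) ^ j`
    have hcop' : Nat.Coprime i r := by
      rw [Nat.coprime_comm]
      exact (Nat.Prime.coprime_iff_not_dvd hr).2 (fun h => by
        have := Nat.le_of_dvd (Nat.pos_of_ne_zero hi0) h
        omega)
    obtain ⟨j, -, hj⟩ := Nat.exists_mul_mod_eq_one_of_coprime hcop' hr.one_lt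
    have hxj : (x ^ i) ^ j = x := by
      rw [← pow_mul, ← pow_mod_orderOf, hx, hj, pow_one]
    obtain ⟨a', ha', h⟩ := exists_dl_pow hB (hxi i) j a ha
    rw [hxj] at h
    have h5 : ι c * W i = W i := by
      rw [hc, h]
      exact h4 i a' ha'
    rw [← mul_assoc, sub_mul, one_mul, h5, sub_self, zero_mul]
  have h7 : (ι c - 1) * ∑ i ∈ Finset.range r, W i * (ι x) ^ i = 0 := by
    rw [h3, mul_zero]
  rw [Finset.mul_sum, Finset.sum_eq_single 0 h6
    (fun h => absurd (Finset.mem_range.2 hr0) h)] at h7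
  rw [pow_zero, mul_one, hW0, mul_smul_comm, mul_one,
    ← Nat.cast_smul_eq_nsmul (ZMod q)] at h7
  have hne : ((Fintype.card B : ℕ) : ZMod q) ≠ 0 := by
    rw [Ne, ZMod.natCast_eq_zero_iff, Fintype.card_eq_nat_card]
    intro hdvd
    have := Nat.Coprime.eq_one_of_dvd hcop.symm hdvd
    exact hq.out.one_lt.ne' this
  have h8 : ι c - 1 = 0 := by
    rcases smul_eq_zero.1 h7 with h | h
    · exact absurd h hne
    · exact h
  have h9 : c = 1 := by
    apply hι
    rw [map_one]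
    exact sub_eq_zero.1 h8
  rw [hc] at h9
  unfold dl at h9
  have h10 : x * a * x⁻¹ = a := by
    have := congrArg (fun g => a * g) h9
    simpa using this
  calc x * a = x * a * x⁻¹ * x := by group
    _ = a * x := by rw [h10]

end Cfsg.Agent.Helper2.Hup
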