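import Mathlib
import Cfsg.Agent.S0058
import Cfsg.Agent.Helper2.Signalizer1

set_option autoImplicit false

namespace Cfsg.Agent.Helper2

open Cfsg.Agent.Helper1

variable {H : Type*} [Group H] [Finite H]

/-- In a group of prime order generated by `x`, any nontrivial element generates. -/
theorem mem_zpowers_of_mem_zpowers_prime {p : ℕ} [hp : Fact p.Prime] {x y : H} (hx : x ^ p = 1)
    (hy : y ∈ Subgroup.zpowers x) (hy1 : y ≠ 1) : x ∈ Subgroup.zpowers y := by
  have hle : Subgroup.zpowers y ≤ Subgroup.zpowers x := Subgroup.zpowers_le.mpr hy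
  have hyp : y ^ p = 1 := by
    obtain ⟨k, rfl⟩ := Subgroup.mem_zpowers_iff.mp hy
    rw [← zpow_natCast, ← zpow_mul, mul_comm, zpow_mul, zpow_natCast, hx, one_zpow]
  have hx1 : x ≠ 1 := by
    rintro rfl
    rw [Subgroup.zpowers_one_eq_bot, Subgroup.mem_bot] at hy
    exact hy1 hy
  have heq : Subgroup.zpowers y = Subgroup.zpowers x := by
    apply Subgroup.eq_of_le_of_card_ge hle
    rw [Nat.card_zpowers, Nat.card_zpowers, orderOf_eq_prime hx hx1, orderOf_eq_prime hyp hy1]
  rw [heq]
  exact Subgroup.mem_zpowers x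

/-- Complements of cyclic subgroups in elementary abelian groups. -/
theorem exists_complement_zpowers {p : ℕ} [hp : Fact p.Prime] {A : Subgroup H}
    (hA : Cfsg.IsElementaryAbelian p A) {a : H} (ha : a ∈ A) (ha1 : a ≠ 1) :
    ∃ A' : Subgroup H, A' ≤ A ∧ Subgroup.zpowers a ⊓ A' = ⊥ ∧ Subgroup.zpowers a ⊔ A' = A := by
  have hcomm : ∀ x ∈ A, ∀ y ∈ A, x * y = y * x := by
    intro x hx y hy
    have := hA.1.is_comm.comm ⟨x, hx⟩ ⟨y, hy⟩
    exact congrArg Subtype.val this
  have hfin : {D : Subgroup H | D ≤ A ∧ a ∉ D}.Finite := Set.toFinite _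
  have hbot : (⊥ : Subgroup H) ∈ {D : Subgroup H | D ≤ A ∧ a ∉ D} :=
    ⟨bot_le, fun h => ha1 (Subgroup.mem_bot.mp h)⟩
  obtain ⟨A', -, hmax⟩ := hfin.exists_le_maximal hbot
  obtain ⟨⟨hA'A, haA'⟩, hmax'⟩ := hmax
  have hap : a ^ p = 1 := hA.2 a ha
  refine ⟨A', hA'A, ?_, ?_⟩
  · rw [eq_bot_iff]
    rintro x ⟨hxa, hxA'⟩
    rw [Subgroup.mem_bot]
    by_contra hx1
    exact haA' (Subgroup.zpowers_le.mpr hxA' (mem_zpowers_of_mem_zpowers_prime hap hxa hx1))
  · apply le_antisymm (sup_le (Subgroup.zpowers_le.mpr ha) hA'A)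
    intro b hb
    by_cases hbA' : b ∈ A'
    · exact Subgroup.mem_sup_right hbA'
    · have hD : ¬ (A' ⊔ Subgroup.zpowers b ≤ A ∧ a ∉ A' ⊔ Subgroup.zpowers b) := by
        intro hD
        have := hmax' hD le_sup_left
        exact hbA' (this (Subgroup.mem_sup_right (Subgroup.mem_zpowers b)))
      have haD : a ∈ A' ⊔ Subgroup.zpowers b := by
        by_contra h
        exact hD ⟨sup_le hA'A (Subgroup.zpowers_le.mpr hb), h⟩
      have hn : Subgroup.zpowers b ≤ Subgroup.normalizer (A' : Set H) := by
        intro z hz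
        have hzA : z ∈ A := Subgroup.zpowers_le.mpr hb hz
        rw [Subgroup.mem_normalizer_iff]
        intro x
        constructor
        · intro hx
          have : z * x * z⁻¹ = x := by
            rw [hcomm z hzA x (hA'A hx)]; group
          rwa [this]
        · intro hx
          have hx' : z * x * z⁻¹ ∈ A := hA'A hx
          have hxA : x ∈ A := by
            have := A.mul_mem (A.mul_mem (A.inv_mem hzA) hx') hzA
            have e : z⁻¹ * (z * x * z⁻¹) * z = x := by group
            rwa [e] at this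
          have : z * x * z⁻¹ = x := by
            rw [hcomm z hzA x hxA]; group
          rwa [this] at hx
      obtain ⟨a', ha', c, hc, hac⟩ := mem_sup_of_le_normalizer hn haD
      have hc1 : c ≠ 1 := by
        rintro rfl
        rw [mul_one] at hac
        exact haA' (hac ▸ ha')
      have hbc : b ∈ Subgroup.zpowers c := mem_zpowers_of_mem_zpowers_prime (hA.2 b hb) hc hc1
      have hc' : c = a'⁻¹ * a := by rw [hac]; group
      have hcm : c ∈ Subgroup.zpowers a ⊔ A' := by
        rw [hc']
        have h1 : a'⁻¹ * a = a * a'⁻¹ := (hcomm a ha a'⁻¹ (A.inv_mem (hA'A ha'))).symm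
        rw [h1]
        exact Subgroup.mul_mem _ (Subgroup.mem_sup_left (Subgroup.mem_zpowers a))
          (Subgroup.mem_sup_right (A'.inv_mem ha'))
      exact Subgroup.zpowers_le.mpr hcm hbc

end Cfsg.Agent.Helper2

namespace Cfsg.Agent.Helper2

open Cfsg.Agent.Helper1

variable {H : Type*} [Group H] [Finite H]

omit [Finite H] in
theorem le_normalizer_of_comm {A D E : Subgroup H} (hcomm : ∀ x ∈ A, ∀ y ∈ A, x * y = y * x)
    (hD : D ≤ A) (hE : E ≤ A) : D ≤ Subgroup.normalizer (E : Set H) := by
  apply le_normalizer_of_conj_mem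
  intro z hz x hx
  have : z * x * z⁻¹ = x := by
    rw [hcomm z (hD hz) x (hE hx)]; group
  rwa [this]

omit [Finite H] in
theorem inf_centralizer_le_centralizer_sup (D E : Subgroup H) :
    Subgroup.centralizer (D : Set H) ⊓ Subgroup.centralizer (E : Set H) ≤
      Subgroup.centralizer ((D ⊔ E : Subgroup H) : Set H) := by
  rintro x ⟨hxD, hxE⟩
  have h1 : D ≤ Subgroup.centralizer ((Subgroup.zpowers x : Subgroup H) : Set H) := by
    rw [Subgroup.le_centralizer_iff, Subgroup.zpowers_le]; exact hxD
  have h2 : E ≤ Subgroup.centralizer ((Subgroup.zpowers x : Subgroup H) : Set H) := by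
    rw [Subgroup.le_centralizer_iff, Subgroup.zpowers_le]; exact hxE
  have h3 := sup_le h1 h2
  rw [Subgroup.le_centralizer_iff, Subgroup.zpowers_le] at h3
  exact h3

omit [Finite H] in
theorem isPGroup_of_elementary {p : ℕ} {A : Subgroup H} (hA : Cfsg.IsElementaryAbelian p A) :
    IsPGroup p A := by
  intro a
  refine ⟨1, ?_⟩
  rw [pow_one]
  apply Subtype.ext
  rw [Subgroup.coe_pow, Subgroup.coe_one]
  exact hA.2 a a.2

omit [Finite H] in
theorem isElementaryAbelian_of_le {p : ℕ} {A B : Subgroup H} (hA : Cfsg.IsElementaryAbelian p A)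
    (hBA : B ≤ A) : Cfsg.IsElementaryAbelian p B := by
  refine ⟨⟨⟨fun x y => ?_⟩⟩, fun b hb => hA.2 b (hBA hb)⟩
  have := hA.1.is_comm.comm ⟨x, hBA x.2⟩ ⟨y, hBA y.2⟩
  apply Subtype.ext
  have h2 := congrArg Subtype.val this
  simpa using h2

/-- Generation by centralizers of hyperplanes: coprime action of an elementary abelian group. -/
theorem le_iSup_hyperplane_centralizers (p : ℕ) [hp : Fact p.Prime] :
    ∀ (n : ℕ) (A X : Subgroup H), Nat.card A = n → Cfsg.IsElementaryAbelian p A →
      ¬ p ∣ Nat.card X → A ≤ Subgroup.normalizer (X : Set H) →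
      X ≤ ⨆ B : {B : Subgroup H // B ≤ A ∧ B.relIndex A ≤ p},
        X ⊓ Subgroup.centralizer ((B : Subgroup H) : Set H) := by
  intro n
  induction n using Nat.strong_induction_on with
  | _ n ih =>
  intro A X hn hA hX hAX
  have hAc : IsMulCommutative A := hA.1
  have hcomm : ∀ x ∈ A, ∀ y ∈ A, x * y = y * x := by
    intro x hx y hy
    have := hA.1.is_comm.comm ⟨x, hx⟩ ⟨y, hy⟩
    exact congrArg Subtype.val this
  have hApg : IsPGroup p A := isPGroup_of_elementary hA
  obtain ⟨k, hk⟩ := IsPGroup.iff_card.mp hApg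
  by_cases hsmall : Nat.card A ≤ p
  · -- take `B = ⊥`
    have hmem : (⊥ : Subgroup H) ≤ A ∧ (⊥ : Subgroup H).relIndex A ≤ p := by
      refine ⟨bot_le, ?_⟩
      rw [Subgroup.relIndex_bot_left]; exact hsmall
    refine le_trans ?_ (le_iSup (fun B : {B : Subgroup H // B ≤ A ∧ B.relIndex A ≤ p} =>
      X ⊓ Subgroup.centralizer ((B : Subgroup H) : Set H)) ⟨⊥, hmem⟩)
    intro x hx
    refine ⟨hx, ?_⟩
    change x ∈ Subgroup.centralizer ((⊥ : Subgroup H) : Set H)
    rw [Subgroup.mem_centralizer_iff]
    intro y hy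
    have : y = 1 := Subgroup.mem_bot.mp hy
    rw [this, one_mul, mul_one]
  · have hcop : (Nat.card A).Coprime (Nat.card X) := by
      rw [hk]; exact Nat.Coprime.pow_left k ((Nat.Prime.coprime_iff_not_dvd hp.out).mpr hX)
    have hncyc : ¬ IsCyclic A := by
      intro hcyc
      obtain ⟨g, hg⟩ := hcyc.exists_generator
      have h1 : orderOf g = Nat.card A := orderOf_eq_card_of_forall_mem_zpowers hg
      have h2 : orderOf g ∣ p := by
        apply orderOf_dvd_of_pow_eq_one
        apply Subtype.ext
        rw [Subgroup.coe_pow, Subgroup.coe_one]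
        exact hA.2 g g.2
      have h3 : Nat.card A ≤ p := h1 ▸ Nat.le_of_dvd hp.out.pos h2
      exact hsmall h3
    have hgen := Cfsg.Agent.S0058.result A X hncyc hAX hcop
    have hgoal : (⨆ a ∈ {a : H | a ∈ A ∧ a ≠ 1}, X ⊓ Subgroup.centralizer {a}) ≤
        ⨆ B : {B : Subgroup H // B ≤ A ∧ B.relIndex A ≤ p},
          X ⊓ Subgroup.centralizer ((B : Subgroup H) : Set H) := by
      apply iSup₂_le
      rintro a ⟨haA, ha1⟩
      obtain ⟨A', hA'A, hdisj, hsup⟩ := exists_complement_zpowers hA haA ha1
      have hza : Subgroup.zpowers a ≤ A := Subgroup.zpowers_le.mpr haA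
      have hcardza : Nat.card (Subgroup.zpowers a) = p := by
        rw [Nat.card_zpowers, orderOf_eq_of_elementary hA haA ha1]
      have hcardA : Nat.card A = Nat.card A' * p := by
        have := card_sup_of_le_normalizer (N := Subgroup.zpowers a) (A := A')
          (le_normalizer_of_comm hcomm hA'A hza) (by rw [inf_comm]; exact hdisj)
        rw [hsup, hcardza] at this
        exact this
      have hlt : Nat.card A' < n := by
        rw [← hn, hcardA]
        have : 0 < Nat.card A' := Nat.card_pos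
        nlinarith [hp.out.one_lt]
      set Y := X ⊓ Subgroup.centralizer ({a} : Set H) with hY
      have hYp : ¬ p ∣ Nat.card Y := fun h => hX (h.trans (Subgroup.card_dvd_of_le inf_le_left))
      have hA'Y : A' ≤ Subgroup.normalizer (Y : Set H) := by
        apply le_normalizer_inf (hA'A.trans hAX)
        refine le_trans ?_ Subgroup.le_normalizer
        intro z hz
        rw [Subgroup.mem_centralizer_singleton_iff]
        exact hcomm z (hA'A hz) a haA
      have hih := ih (Nat.card A') hlt A' Y rfl (isElementaryAbelian_of_le hA hA'A) hYp hA'Y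
      refine hih.trans ?_
      apply iSup_le
      rintro ⟨B', hB'A', hB'idx⟩
      have hB'A : B' ≤ A := hB'A'.trans hA'A
      have hBA : Subgroup.zpowers a ⊔ B' ≤ A := sup_le hza hB'A
      have hcardB : Nat.card ↥(Subgroup.zpowers a ⊔ B') = Nat.card B' * p := by
        have := card_sup_of_le_normalizer (N := Subgroup.zpowers a) (A := B')
          (le_normalizer_of_comm hcomm hB'A hza) (by
            rw [eq_bot_iff, ← hdisj, inf_comm]
            exact inf_le_inf_left _ hB'A')
        rw [hcardza] at this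
        exact this
      have hidx : (Subgroup.zpowers a ⊔ B').relIndex A ≤ p := by
        have h1 := relIndex_mul_card_of_le hBA
        have h2 := relIndex_mul_card_of_le hB'A'
        rw [hcardB, hcardA, ← h2] at h1
        have hpos : 0 < Nat.card B' * p := Nat.mul_pos Nat.card_pos hp.out.pos
        have h3 : (Subgroup.zpowers a ⊔ B').relIndex A * (Nat.card B' * p) =
            B'.relIndex A' * (Nat.card B' * p) := by rw [h1]; ring
        rw [Nat.eq_of_mul_eq_mul_right hpos h3]
        exact hB'idx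
      refine le_trans ?_ (le_iSup (fun B : {B : Subgroup H // B ≤ A ∧ B.relIndex A ≤ p} =>
        X ⊓ Subgroup.centralizer ((B : Subgroup H) : Set H)) ⟨Subgroup.zpowers a ⊔ B', hBA, hidx⟩)
      rintro x ⟨⟨hxX, hxa⟩, hxB'⟩
      refine ⟨hxX, ?_⟩
      apply inf_centralizer_le_centralizer_sup
      refine ⟨?_, hxB'⟩
      rw [centralizer_zpowers_eq]
      exact hxa
    rw [hgen] at hgoal
    exact hgoal

end Cfsg.Agent.Helper2
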