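import Mathlib

set_option autoImplicit false

/-!
Normal form for groups with a cyclic subgroup `⟨x⟩` of index two and an involution `y ∉ ⟨x⟩`
with `y x y⁻¹ = x ^ e` (dihedral, quasi-dihedral, ...).  Exponents live in `ZMod m`.
-/

namespace Cfsg.Agent.Helper2.QD

variable {S : Type*} [Group S]

/-- `X x m i = x ^ i.val`. -/
def X (x : S) (m : ℕ) (i : ZMod m) : S := x ^ i.val

section basic

variable (x : S) (m : ℕ) [NeZero m] (hx : orderOf x = m)

include hx

theorem X_natCast (k : ℕ) : X x m (k : ZMod m) = x ^ k := by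
  unfold X
  rw [ZMod.val_natCast]
  have h := pow_mod_orderOf x k
  rw [hx] at h
  exact h

theorem X_add (i j : ZMod m) : X x m (i + j) = X x m i * X x m j := by
  unfold X
  rw [ZMod.val_add, ← pow_add]
  have h := pow_mod_orderOf x (i.val + j.val)
  rw [hx] at h
  exact h

theorem X_zero : X x m 0 = 1 := by
  unfold X
  rw [ZMod.val_zero, pow_zero]

theorem X_neg (i : ZMod m) : X x m (-i) = (X x m i)⁻¹ := by
  rw [eq_inv_iff_mul_eq_one, ← X_add x m hx, neg_add_cancel, X_zero x m hx]

theorem X_sub (i j : ZMod m) : X x m (i - j) = X x m i * (X x m j)⁻¹ := by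
  rw [sub_eq_add_neg, X_add x m hx, X_neg x m hx]

theorem X_one : X x m 1 = x := by
  have := X_natCast x m hx 1
  simpa using this

theorem X_inj {i j : ZMod m} (h : X x m i = X x m j) : i = j := by
  unfold X at h
  rw [pow_eq_pow_iff_modEq, hx] at h
  apply ZMod.val_injective m
  have h1 := Nat.mod_eq_of_lt (ZMod.val_lt i)
  have h2 := Nat.mod_eq_of_lt (ZMod.val_lt j)
  unfold Nat.ModEq at h
  omega

theorem X_eq_one_iff {i : ZMod m} : X x m i = 1 ↔ i = 0 := by
  constructor
  · intro h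
    apply X_inj x m hx
    rw [h, X_zero x m hx]
  · rintro rfl
    exact X_zero x m hx

theorem X_pow (i : ZMod m) (k : ℕ) : (X x m i) ^ k = X x m ((k : ZMod m) * i) := by
  induction k with
  | zero => simp [X_zero x m hx]
  | succ k ih =>
    rw [pow_succ, ih, ← X_add x m hx]
    congr 1
    push_cast
    ring

theorem mem_zpowers_iff (s : S) : s ∈ Subgroup.zpowers x ↔ ∃ i : ZMod m, s = X x m i := by
  constructor
  · intro h
    obtain ⟨k, hk⟩ := Subgroup.mem_zpowers_iff.mp h
    have hm0 : (0 : ℤ) < (m : ℤ) := by exact_mod_cast Nat.pos_of_ne_zero (NeZero.ne m)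
    have h1 : x ^ (k % (m : ℤ)) = x ^ k := by
      have := zpow_mod_orderOf x k
      rw [hx] at this
      exact this
    have h2 : ((k % (m : ℤ)).toNat : ℤ) = k % (m : ℤ) := Int.toNat_of_nonneg (Int.emod_nonneg _ hm0.ne')
    refine ⟨((k % (m : ℤ)).toNat : ZMod m), ?_⟩
    rw [X_natCast x m hx, ← zpow_natCast, h2, h1, hk]
  · rintro ⟨i, rfl⟩
    exact Subgroup.pow_mem _ (Subgroup.mem_zpowers x) _

theorem X_mem (i : ZMod m) : X x m i ∈ Subgroup.zpowers x :=
  (mem_zpowers_iff x m hx _).mpr ⟨i, rfl⟩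

theorem X_comm (i j : ZMod m) : X x m i * X x m j = X x m j * X x m i := by
  rw [← X_add x m hx, ← X_add x m hx, add_comm]

end basic

section twisted

variable (x y : S) (m : ℕ) [NeZero m] (hx : orderOf x = m) (e : ℕ)
  (hrel : y * x * y⁻¹ = x ^ e)

include hx hrel

theorem conj_X (i : ZMod m) : y * X x m i * y⁻¹ = X x m ((e : ZMod m) * i) := by
  have h1 : ∀ k : ℕ, y * x ^ k * y⁻¹ = (x ^ e) ^ k := by
    intro k
    rw [← hrel, conj_pow]
  unfold X
  rw [h1, ← pow_mul]
  have h2 := X_natCast x m hx (e * i.val)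
  rw [← h2]
  unfold X
  congr 2
  push_cast
  rw [ZMod.natCast_zmod_val]

theorem y_mul_X (i : ZMod m) : y * X x m i = X x m ((e : ZMod m) * i) * y := by
  rw [← conj_X x y m hx e hrel]
  group

end twisted

end Cfsg.Agent.Helper2.QD
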