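import Mathlib
import Cfsg.Agent.Helper2.QD1

set_option autoImplicit false

/-! Recognition of generalized quaternion groups. -/

namespace Cfsg.Agent.Helper2.QuatIso

open Cfsg.Agent.Helper2.QD QuaternionGroup

variable {G : Type*} [Group G]

/-- the candidate map -/
def quatFun (A B : G) (k : ℕ) : QuaternionGroup k → G
  | a i => X A (2 * k) i
  | xa i => B * X A (2 * k) i

theorem quatFun_a (A B : G) (k : ℕ) (i : ZMod (2 * k)) :
    quatFun A B k (a i) = X A (2 * k) i := rfl

theorem quatFun_xa (A B : G) (k : ℕ) (i : ZMod (2 * k)) :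
    quatFun A B k (xa i) = B * X A (2 * k) i := rfl

section

variable (A B : G) (k : ℕ) [NeZero k] (hA : orderOf A = 2 * k) (hB : B * B = A ^ k)
  (hrel : B * A * B⁻¹ = A⁻¹)

include hA hrel in
theorem B_mul_X (i : ZMod (2 * k)) : B * X A (2 * k) i = X A (2 * k) (-i) * B := by
  haveI : NeZero (2 * k) := ⟨by have := NeZero.ne k; omega⟩
  have hk : 1 ≤ 2 * k := by have := NeZero.ne k; omega
  have hrel' : B * A * B⁻¹ = A ^ (2 * k - 1) := by
    rw [hrel, inv_eq_iff_mul_eq_one]
    rw [← pow_succ', Nat.sub_add_cancel hk, ← hA, pow_orderOf_eq_one]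
  have h1 := y_mul_X A B (2 * k) hA (2 * k - 1) hrel' i
  rw [h1]
  congr 2
  rw [Nat.cast_sub hk, ZMod.natCast_self]
  simp

include hA hB hrel in
theorem quatFun_mul (s t : QuaternionGroup k) :
    quatFun A B k (s * t) = quatFun A B k s * quatFun A B k t := by
  haveI : NeZero (2 * k) := ⟨by have := NeZero.ne k; omega⟩
  have hBX := B_mul_X A B k hA hrel
  rcases s with i | i <;> rcases t with j | j
  · rw [a_mul_a, quatFun_a, quatFun_a, quatFun_a]; exact X_add A _ hA i j
  · rw [a_mul_xa, quatFun_xa, quatFun_a, quatFun_xa]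
    rw [hBX (j - i), hBX j, ← mul_assoc, ← X_add A _ hA]
    congr 2
    ring
  · rw [xa_mul_a, quatFun_xa, quatFun_xa, quatFun_a]
    rw [X_add A _ hA, mul_assoc]
  · rw [xa_mul_xa, quatFun_a, quatFun_xa, quatFun_xa]
    have h1 : B * X A (2 * k) i * (B * X A (2 * k) j) =
        X A (2 * k) (-i) * (B * B) * X A (2 * k) j := by
      rw [hBX i]; group
    rw [h1, hB, ← X_natCast A _ hA k, ← X_add A _ hA, ← X_add A _ hA]
    congr 1
    push_cast
    ring

/-- the homomorphism -/
def quatHom : QuaternionGroup k →* G :=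
  MonoidHom.mk' (quatFun A B k) (quatFun_mul A B k hA hB hrel)

include hA in
theorem quatHom_injective (hBn : B ∉ Subgroup.zpowers A) :
    Function.Injective (quatHom A B k hA hB hrel) := by
  haveI : NeZero (2 * k) := ⟨by have := NeZero.ne k; omega⟩
  intro s t hst
  change quatFun A B k s = quatFun A B k t at hst
  rcases s with i | i <;> rcases t with j | j <;>
    simp only [quatFun_a, quatFun_xa] at hst
  · rw [X_inj A _ hA hst]
  · exfalso
    apply hBn
    have : B = X A (2 * k) i * (X A (2 * k) j)⁻¹ := by rw [hst]; group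
    rw [this]
    exact Subgroup.mul_mem _ (X_mem A _ hA i) (Subgroup.inv_mem _ (X_mem A _ hA j))
  · exfalso
    apply hBn
    have : B = X A (2 * k) j * (X A (2 * k) i)⁻¹ := by rw [← hst]; group
    rw [this]
    exact Subgroup.mul_mem _ (X_mem A _ hA j) (Subgroup.inv_mem _ (X_mem A _ hA i))
  · rw [X_inj A _ hA (mul_left_cancel hst)]

end

end Cfsg.Agent.Helper2.QuatIso
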