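import Mathlib
import Cfsg.Prelude.Def_GeometricClasses

/-!
# Transport of the geometric-class vocabulary along a bijection of index types (helper2)

`e : ι ≃ κ`, `φ = glReindex e : GL ι F ≃* GL κ F`, `th e : (κ → F) ≃ₗ[F] (ι → F)`, `th e v = v ∘ e`, and
`th e (φ g *ᵥ v) = g *ᵥ th e v`.  Everything about a subgroup `H.map φ` of `GL κ F` is pulled back to `H`.
-/

set_option autoImplicit false

namespace Cfsg.Agent.Helper2.AschTr

open Cfsg Cfsg.Geo
open scoped MatrixGroups Matrix

variable {ι κ : Type} [Fintype ι] [DecidableEq ι] [Fintype κ] [DecidableEq κ] {F : Type*} [Field F]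

/-- `v ↦ v ∘ e` -/
def th (e : ι ≃ κ) : (κ → F) ≃ₗ[F] (ι → F) := LinearEquiv.funCongrLeft F F e

/-- `th` as a linear map -/
def thL (e : ι ≃ κ) : (κ → F) →ₗ[F] (ι → F) := (th e : (κ → F) ≃ₗ[F] (ι → F)).toLinearMap

omit [Fintype ι] [DecidableEq ι] [Fintype κ] [DecidableEq κ] in
@[simp] theorem thL_apply (e : ι ≃ κ) (v : κ → F) : thL e v = th e v := rfl

omit [Fintype ι] [DecidableEq ι] [Fintype κ] [DecidableEq κ] in
@[simp] theorem th_apply (e : ι ≃ κ) (v : κ → F) (i : ι) : th e v i = v (e i) := rfl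

omit [Fintype ι] [DecidableEq ι] [Fintype κ] [DecidableEq κ] in
@[simp] theorem th_symm_apply (e : ι ≃ κ) (u : ι → F) (k : κ) : (th e).symm u k = u (e.symm k) := rfl

theorem glReindex_val (e : ι ≃ κ) (g : GL ι F) :
    ((glReindex e g : GL κ F) : Matrix κ κ F) = (g : Matrix ι ι F).submatrix e.symm e.symm := rfl

theorem glReindex_symm_val (e : ι ≃ κ) (g : GL κ F) :
    (((glReindex e).symm g : GL ι F) : Matrix ι ι F) = (g : Matrix κ κ F).submatrix e e := rfl

theorem submatrix_mulVec (e : ι ≃ κ) (M : Matrix ι ι F) (v : κ → F) :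
    th e ((M.submatrix e.symm e.symm) *ᵥ v) = M *ᵥ th e v := by
  funext i
  rw [th_apply, Matrix.submatrix_mulVec_equiv]
  simp only [Function.comp_apply, Equiv.symm_symm, Equiv.symm_apply_apply]
  rfl

theorem th_mulVec (e : ι ≃ κ) (g : GL ι F) (v : κ → F) :
    th e (((glReindex e g : GL κ F) : Matrix κ κ F) *ᵥ v) = (g : Matrix ι ι F) *ᵥ th e v := by
  rw [glReindex_val, submatrix_mulVec]

theorem mulVec_th_symm (e : ι ≃ κ) (g : GL ι F) (u : ι → F) :
    ((glReindex e g : GL κ F) : Matrix κ κ F) *ᵥ (th e).symm u = (th e).symm ((g : Matrix ι ι F) *ᵥ u) := by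
  apply (th e).injective
  rw [th_mulVec, LinearEquiv.apply_symm_apply, LinearEquiv.apply_symm_apply]

theorem toLin'_comp_th (e : ι ≃ κ) (g : GL ι F) :
    (Matrix.toLin' (g : Matrix ι ι F)).comp (thL e : (κ → F) →ₗ[F] (ι → F)) =
      (thL e : (κ → F) →ₗ[F] (ι → F)).comp (Matrix.toLin' ((glReindex e g : GL κ F) : Matrix κ κ F)) := by
  apply LinearMap.ext
  intro v
  simp only [LinearMap.comp_apply, Matrix.toLin'_apply, thL_apply]
  rw [th_mulVec]

/-! ### stabilisers -/

theorem mem_subspaceStabilizer_iff' {W : Submodule F (ι → F)} {g : GL ι F} :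
    g ∈ subspaceStabilizer W ↔ ∀ v, v ∈ W ↔ (g : Matrix ι ι F) *ᵥ v ∈ W := by
  unfold subspaceStabilizer stabilizing
  rfl

theorem le_stab_of_map (e : ι ≃ κ) {H : Subgroup (GL ι F)} {W' : Submodule F (κ → F)}
    (h : H.map (glReindex e : GL ι F ≃* GL κ F).toMonoidHom ≤ subspaceStabilizer W') :
    H ≤ subspaceStabilizer (W'.map (thL e : (κ → F) →ₗ[F] (ι → F))) := by
  intro g hg
  have h1 : glReindex e g ∈ subspaceStabilizer W' := h ⟨g, hg, rfl⟩
  rw [mem_subspaceStabilizer_iff'] at h1 ⊢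
  intro u
  have hu : ∀ x : ι → F, x ∈ W'.map (thL e : (κ → F) →ₗ[F] (ι → F)) ↔ (th e).symm x ∈ W' := by
    intro x
    constructor
    · rintro ⟨v, hv, rfl⟩
      rw [thL_apply, LinearEquiv.symm_apply_apply]
      exact hv
    · intro hx
      exact ⟨(th e).symm x, hx, by rw [thL_apply, LinearEquiv.apply_symm_apply]⟩
  rw [hu, hu, h1 ((th e).symm u), mulVec_th_symm]

theorem le_decomp_of_map (e : ι ≃ κ) {H : Subgroup (GL ι F)} {t : ℕ} {D' : Fin t → Submodule F (κ → F)}
    (h : H.map (glReindex e : GL ι F ≃* GL κ F).toMonoidHom ≤ decompositionStabilizer D') :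
    H ≤ decompositionStabilizer (fun i => (D' i).map (thL e : (κ → F) →ₗ[F] (ι → F))) := by
  intro g hg
  obtain ⟨σ, hσ⟩ := h ⟨g, hg, rfl⟩
  refine ⟨σ, fun i => ?_⟩
  change ((D' i).map (thL e : (κ → F) →ₗ[F] (ι → F))).map (Matrix.toLin' (g : Matrix ι ι F)) =
    (D' (σ i)).map (thL e : (κ → F) →ₗ[F] (ι → F))
  rw [← Submodule.map_comp, toLin'_comp_th, Submodule.map_comp]
  have := hσ i
  simp only [MulEquiv.coe_toMonoidHom] at this
  rw [this]

/-! ### scalars and subfield groups -/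

theorem glReindex_mem_scalars_iff (e : ι ≃ κ) (g : GL ι F) :
    glReindex e g ∈ scalars κ F ↔ g ∈ scalars ι F := by
  rw [mem_scalars_iff, mem_scalars_iff]
  constructor
  · rintro ⟨c, hc⟩
    refine ⟨c, ?_⟩
    ext i j
    have := congrFun (congrFun hc (e i)) (e j)
    rw [glReindex_val] at this
    simp only [Matrix.submatrix_apply, Equiv.symm_apply_apply, Matrix.smul_apply, Matrix.one_apply,
      EmbeddingLike.apply_eq_iff_eq] at this
    simp only [Matrix.smul_apply, Matrix.one_apply]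
    exact this
  · rintro ⟨c, hc⟩
    refine ⟨c, ?_⟩
    ext i j
    rw [glReindex_val, hc]
    simp only [Matrix.submatrix_apply, Matrix.smul_apply, Matrix.one_apply, EmbeddingLike.apply_eq_iff_eq]

theorem map_scalars (e : ι ≃ κ) :
    (scalars ι F).map (glReindex e : GL ι F ≃* GL κ F).toMonoidHom = scalars κ F := by
  ext y
  constructor
  · rintro ⟨g, hg, rfl⟩
    exact (glReindex_mem_scalars_iff e g).2 hg
  · intro hy
    refine ⟨(glReindex e).symm y, ?_, by simp⟩
    show (glReindex e).symm y ∈ scalars ι F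
    rw [← glReindex_mem_scalars_iff e]
    simpa using hy

theorem glReindex_map (e : ι ≃ κ) (F₀ : Subfield F) (x : GL ι F₀) :
    glReindex e (Matrix.GeneralLinearGroup.map (F₀.subtype : F₀ →+* F) x) =
      Matrix.GeneralLinearGroup.map (F₀.subtype : F₀ →+* F) (glReindex e x) := by
  apply Units.ext
  ext i j
  rfl

theorem map_range (e : ι ≃ κ) (F₀ : Subfield F) :
    ((Matrix.GeneralLinearGroup.map (F₀.subtype : F₀ →+* F)).range : Subgroup (GL ι F)).map
        (glReindex e : GL ι F ≃* GL κ F).toMonoidHom =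
      (Matrix.GeneralLinearGroup.map (F₀.subtype : F₀ →+* F)).range := by
  ext y
  constructor
  · rintro ⟨g, ⟨x, rfl⟩, rfl⟩
    exact ⟨glReindex e x, (glReindex_map e F₀ x).symm⟩
  · rintro ⟨x, rfl⟩
    refine ⟨Matrix.GeneralLinearGroup.map (F₀.subtype : F₀ →+* F) ((glReindex e).symm x), ⟨_, rfl⟩, ?_⟩
    simp only [MulEquiv.coe_toMonoidHom]
    rw [glReindex_map]
    simp

theorem map_subfieldSubgroup (e : ι ≃ κ) (F₀ : Subfield F) (P : GL ι F) :
    (subfieldSubgroup F₀ P).map (glReindex e : GL ι F ≃* GL κ F).toMonoidHom =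
      subfieldSubgroup F₀ (glReindex e P) := by
  unfold subfieldSubgroup
  rw [Subgroup.map_map]
  have hcomp : ((glReindex e : GL ι F ≃* GL κ F).toMonoidHom).comp (MulAut.conj P).toMonoidHom =
      ((MulAut.conj (glReindex e P)).toMonoidHom).comp (glReindex e : GL ι F ≃* GL κ F).toMonoidHom := by
    ext x : 1
    simp [MulAut.conj_apply]
  rw [hcomp, ← Subgroup.map_map, Subgroup.map_sup, map_range, map_scalars]

theorem le_subfield_of_map (e : ι ≃ κ) {H : Subgroup (GL ι F)} (F₀ : Subfield F) (P' : GL κ F)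
    (h : H.map (glReindex e : GL ι F ≃* GL κ F).toMonoidHom ≤ subfieldSubgroup F₀ P') :
    H ≤ subfieldSubgroup F₀ ((glReindex e).symm P') := by
  intro g hg
  have h1 : glReindex e g ∈ subfieldSubgroup F₀ P' := h ⟨g, hg, rfl⟩
  have h2 : subfieldSubgroup F₀ P' =
      (subfieldSubgroup F₀ ((glReindex e).symm P')).map (glReindex e : GL ι F ≃* GL κ F).toMonoidHom := by
    rw [map_subfieldSubgroup, MulEquiv.apply_symm_apply]
  rw [h2] at h1
  obtain ⟨x, hx, hxg⟩ := h1
  have : x = g := (glReindex e).injective hxg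
  rw [← this]
  exact hx

end Cfsg.Agent.Helper2.AschTr
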