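import Mathlib
import Cfsg.Prelude.Def_GeometricClasses
import Cfsg.Agent.Helper2.AschTrA

/-!
# Transport along a bijection of index types, part B: matrix sets, forms, the residual core (helper2)
-/

set_option autoImplicit false

namespace Cfsg.Agent.Helper2.AschTr

open Cfsg Cfsg.Geo
open scoped MatrixGroups Matrix commutatorElement

variable {ι κ : Type} [Fintype ι] [DecidableEq ι] [Fintype κ] [DecidableEq κ] {F : Type*} [Field F]

/-- the pull-back of a subgroup of `GL κ F` -/
abbrev pb (e : ι ≃ κ) (P' : Subgroup (GL κ F)) : Subgroup (GL ι F) :=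
  P'.comap (glReindex e : GL ι F ≃* GL κ F).toMonoidHom

theorem mem_pb (e : ι ≃ κ) {P' : Subgroup (GL κ F)} {g : GL ι F} : g ∈ pb e P' ↔ glReindex e g ∈ P' := Iff.rfl

theorem mem_matrixSet_iff' {R : Subgroup (GL ι F)} {s : Matrix ι ι F} :
    s ∈ matrixSet R ↔ ∃ g ∈ R, (g : Matrix ι ι F) = s := Iff.rfl

/-- every matrix of `P'` is the reindexing of a matrix of its pull-back -/
theorem exists_of_mem_matrixSet (e : ι ≃ κ) {P' : Subgroup (GL κ F)} {s' : Matrix κ κ F}
    (hs : s' ∈ matrixSet P') : ∃ g ∈ pb e P', ((glReindex e g : GL κ F) : Matrix κ κ F) = s' := by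
  obtain ⟨g', hg', rfl⟩ := hs
  refine ⟨(glReindex e).symm g', ?_, ?_⟩
  · rw [mem_pb, MulEquiv.apply_symm_apply]; exact hg'
  · rw [MulEquiv.apply_symm_apply]

theorem actsIrreducibly_pb (e : ι ≃ κ) {P' : Subgroup (GL κ F)} (h : ActsIrreducibly (matrixSet P')) :
    ActsIrreducibly (matrixSet (pb e P')) := by
  intro W hW
  have hinv : ∀ s' ∈ matrixSet P', (W.comap (thL e)).map (Matrix.toLin' s') ≤ W.comap (thL e) := by
    intro s' hs'
    obtain ⟨g, hg, rfl⟩ := exists_of_mem_matrixSet e hs'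
    rintro _ ⟨v, hv, rfl⟩
    rw [Submodule.mem_comap, Matrix.toLin'_apply, thL_apply, th_mulVec]
    have h1 : (g : Matrix ι ι F) ∈ matrixSet (pb e P') := ⟨g, hg, rfl⟩
    apply hW _ h1
    exact ⟨th e v, hv, by rw [Matrix.toLin'_apply]⟩
  rcases h _ hinv with h0 | h1
  · left
    rw [eq_bot_iff]
    intro w hw
    have : (th e).symm w ∈ W.comap (thL e) := by
      rw [Submodule.mem_comap, thL_apply, LinearEquiv.apply_symm_apply]; exact hw
    rw [h0, Submodule.mem_bot] at this
    rw [Submodule.mem_bot]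
    have h2 := congrArg (th e) this
    rwa [LinearEquiv.apply_symm_apply, map_zero] at h2
  · right
    rw [eq_top_iff]
    intro u _
    have : (th e).symm u ∈ W.comap (thL e) := by rw [h1]; trivial
    rwa [Submodule.mem_comap, thL_apply, LinearEquiv.apply_symm_apply] at this

theorem actsAbsolutelyIrreducibly_pb (e : ι ≃ κ) {P' : Subgroup (GL κ F)}
    (h : ActsAbsolutelyIrreducibly (matrixSet P')) : ActsAbsolutelyIrreducibly (matrixSet (pb e P')) := by
  refine ⟨actsIrreducibly_pb e h.1, ?_⟩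
  intro M hM
  have hM' : ∀ s' ∈ matrixSet P', M.submatrix e.symm e.symm * s' = s' * M.submatrix e.symm e.symm := by
    intro s' hs'
    obtain ⟨g, hg, rfl⟩ := exists_of_mem_matrixSet e hs'
    rw [glReindex_val, Matrix.submatrix_mul_equiv, Matrix.submatrix_mul_equiv]
    have h1 : (g : Matrix ι ι F) ∈ matrixSet (pb e P') := ⟨g, hg, rfl⟩
    rw [hM _ h1]
  obtain ⟨c, hc⟩ := h.2 _ hM'
  refine ⟨c, ?_⟩
  ext i j
  have := congrFun (congrFun hc (e i)) (e j)
  simp only [Matrix.submatrix_apply, Equiv.symm_apply_apply, Matrix.smul_apply, Matrix.one_apply,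
    EmbeddingLike.apply_eq_iff_eq] at this
  simp only [Matrix.smul_apply, Matrix.one_apply]
  exact this

theorem realisableOver_of_pb (e : ι ≃ κ) {P' : Subgroup (GL κ F)} (F₀ : Subfield F)
    (h : RealisableOver F₀ (matrixSet (pb e P'))) : RealisableOver F₀ (matrixSet P') := by
  obtain ⟨B, hB⟩ := h
  refine ⟨glReindex e B, ?_⟩
  intro s' hs' i j
  obtain ⟨g, hg, rfl⟩ := exists_of_mem_matrixSet e hs'
  have h1 : (g : Matrix ι ι F) ∈ matrixSet (pb e P') := ⟨g, hg, rfl⟩
  have h2 := hB _ h1 (e.symm i) (e.symm j)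
  have h3 : ((glReindex e B : GL κ F) : Matrix κ κ F) * ((glReindex e g : GL κ F) : Matrix κ κ F) *
      (((glReindex e B)⁻¹ : GL κ F) : Matrix κ κ F) =
      ((B : Matrix ι ι F) * (g : Matrix ι ι F) * ((B⁻¹ : GL ι F) : Matrix ι ι F)).submatrix e.symm e.symm := by
    rw [← map_inv, ← Units.val_mul, ← Units.val_mul, ← map_mul, ← map_mul, glReindex_val, Units.val_mul,
      Units.val_mul]
  rw [h3]
  exact h2

/-- a form on `ι → F` pulled to `κ → F` -/
def pf (e : ι ≃ κ) (f : (ι → F) → (ι → F) → F) : (κ → F) → (κ → F) → F := fun u v => f (th e u) (th e v)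

theorem fixesForm_pf (e : ι ≃ κ) {P' : Subgroup (GL κ F)} {f : (ι → F) → (ι → F) → F}
    (h : FixesForm (matrixSet (pb e P')) f) : FixesForm (matrixSet P') (pf e f) := by
  intro s' hs' u v
  obtain ⟨g, hg, rfl⟩ := exists_of_mem_matrixSet e hs'
  have h1 : (g : Matrix ι ι F) ∈ matrixSet (pb e P') := ⟨g, hg, rfl⟩
  unfold pf
  rw [th_mulVec, th_mulVec]
  exact h _ h1 _ _

omit [Fintype ι] [DecidableEq ι] [Fintype κ] [DecidableEq κ] in
theorem isNondegenerateForm_pf (e : ι ≃ κ) {f : (ι → F) → (ι → F) → F} (h : IsNondegenerateForm f) :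
    IsNondegenerateForm (pf e f) := by
  intro v hv
  have hv' : th e v ≠ 0 := by
    intro h0
    apply hv
    have := congrArg (th e).symm h0
    rwa [LinearEquiv.symm_apply_apply, map_zero] at this
  obtain ⟨⟨x, hx⟩, ⟨y, hy⟩⟩ := h _ hv'
  refine ⟨⟨(th e).symm x, ?_⟩, ⟨(th e).symm y, ?_⟩⟩
  · unfold pf; rwa [LinearEquiv.apply_symm_apply]
  · unfold pf; rwa [LinearEquiv.apply_symm_apply]

theorem isUnitaryForm_pf (e : ι ≃ κ) {σ : F ≃+* F} {f : (ι → F) → (ι → F) → F} (h : IsUnitaryForm σ f) :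
    IsUnitaryForm σ (pf e f) where
  ne_refl := h.ne_refl
  involutive := h.involutive
  add_left := fun x y v => by unfold pf; rw [map_add, h.add_left]
  smul_left := fun c x v => by unfold pf; rw [map_smul, h.smul_left]
  herm := fun v w => by unfold pf; exact h.herm _ _
  nondegenerate := isNondegenerateForm_pf e h.nondegenerate

/-! ### the residual core -/

/-- the isomorphism between the pull-back and the subgroup -/
def pbEquiv (e : ι ≃ κ) (P' : Subgroup (GL κ F)) : pb e P' ≃* P' where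
  toFun := fun x => ⟨glReindex e x, x.2⟩
  invFun := fun y => ⟨(glReindex e).symm y, by rw [mem_pb, MulEquiv.apply_symm_apply]; exact y.2⟩
  left_inv := fun x => by ext : 1; simp
  right_inv := fun y => by ext : 1; simp
  map_mul' := fun x y => by ext : 1; simp

theorem map_pbEquiv_scalars (e : ι ≃ κ) (P' : Subgroup (GL κ F)) :
    ((scalars ι F).subgroupOf (pb e P')).map (pbEquiv e P' : pb e P' →* P') = (scalars κ F).subgroupOf P' := by
  ext y
  constructor
  · rintro ⟨x, hx, rfl⟩
    have hx' : x ∈ (scalars ι F).subgroupOf (pb e P') := hx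
    rw [Subgroup.mem_subgroupOf] at hx' ⊢
    exact (glReindex_mem_scalars_iff e _).2 hx'
  · intro hy
    refine ⟨(pbEquiv e P').symm y, ?_, by simp⟩
    show (pbEquiv e P').symm y ∈ (scalars ι F).subgroupOf (pb e P')
    rw [Subgroup.mem_subgroupOf] at hy ⊢
    rw [← glReindex_mem_scalars_iff e]
    change glReindex e ((glReindex e).symm (y : GL κ F)) ∈ scalars κ F
    rw [MulEquiv.apply_symm_apply]
    exact hy

theorem isResidualCore_of_map (e : ι ≃ κ) {H : Subgroup (GL ι F)} {P' : Subgroup (GL κ F)}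
    (h : IsResidualCore (H.map (glReindex e : GL ι F ≃* GL κ F).toMonoidHom) P') :
    IsResidualCore H (pb e P') where
  le := by
    intro x hx
    obtain ⟨y, hy, hyx⟩ := h.le hx
    have : y = x := (glReindex e).injective hyx
    rw [← this]; exact hy
  normal := by
    intro h₁ hh₁ x hx
    rw [mem_pb, map_mul, map_mul, map_inv]
    exact h.normal _ ⟨h₁, hh₁, rfl⟩ _ hx
  perfect := by
    have h1 : pb e P' = P'.map (glReindex e : GL ι F ≃* GL κ F).symm.toMonoidHom :=
      Subgroup.comap_equiv_eq_map_symm' _ _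
    rw [h1, ← Subgroup.map_commutator, h.perfect]
  simple := by
    have := h.simple
    exact (MulEquiv.isSimpleGroup_congr
      (QuotientGroup.congr _ _ (pbEquiv e P') (map_pbEquiv_scalars e P'))).2 inferInstance
  nonabelian := by
    intro hc
    apply h.nonabelian
    set E := QuotientGroup.congr _ _ (pbEquiv e P') (map_pbEquiv_scalars e P') with hE
    refine ⟨⟨fun a b => ?_⟩⟩
    have h1 := hc.is_comm.comm (E.symm a) (E.symm b)
    have h2 := congrArg E h1
    simpa using h2
  centralizer_scalar := by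
    intro h₁ hh₁ hcent
    rw [← glReindex_mem_scalars_iff e]
    apply h.centralizer_scalar _ ⟨h₁, hh₁, rfl⟩
    intro x' hx'
    have hx : (glReindex e).symm x' ∈ pb e P' := by rw [mem_pb, MulEquiv.apply_symm_apply]; exact hx'
    have h2 := hcent _ hx
    rw [← glReindex_mem_scalars_iff e, map_mul, map_mul, map_mul, map_inv, map_inv,
      MulEquiv.apply_symm_apply] at h2
    exact h2
  absIrred := actsAbsolutelyIrreducibly_pb e h.absIrred
  no_subfield := fun F₀ h0 hr => h.no_subfield F₀ h0 (realisableOver_of_pb e F₀ hr)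

theorem inOrthogonalResidualClass_of_map (e : ι ≃ κ) {H : Subgroup (GL ι F)}
    (h : InOrthogonalResidualClass (H.map (glReindex e : GL ι F ≃* GL κ F).toMonoidHom)) :
    InOrthogonalResidualClass H := by
  obtain ⟨P', hcore, hnu⟩ := h
  refine ⟨pb e P', isResidualCore_of_map e hcore, ?_⟩
  rintro ⟨σ, f, hf, hfix⟩
  exact hnu ⟨σ, pf e f, isUnitaryForm_pf e hf, fixesForm_pf e hfix⟩

end Cfsg.Agent.Helper2.AschTr
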