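import Mathlib
import Cfsg.Prelude.Def_GeometricClasses
import Cfsg.Agent.Helper2.AschTrA
import Cfsg.Agent.Helper2.AschTrB

/-!
# Transport along a bijection of index types, part C: quadratic forms and subspaces (helper2)
-/

set_option autoImplicit false

namespace Cfsg.Agent.Helper2.AschTr

open Cfsg Cfsg.Geo
open scoped MatrixGroups Matrix

variable {ι κ : Type} [Fintype ι] [DecidableEq ι] [Fintype κ] [DecidableEq κ] {F : Type*} [Field F]

/-- a one-argument form on `ι → F` pulled to `κ → F` -/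
def rq (e : ι ≃ κ) (Q : (ι → F) → F) : (κ → F) → F := fun v => Q (th e v)

omit [Fintype ι] [DecidableEq ι] [Fintype κ] [DecidableEq κ] in
theorem polar_rq (e : ι ≃ κ) (Q : (ι → F) → F) :
    QuadraticMap.polar (rq e Q) = pf e (QuadraticMap.polar Q) := by
  funext u v
  unfold QuadraticMap.polar rq pf
  rw [map_add]

omit [Fintype ι] [DecidableEq ι] [Fintype κ] [DecidableEq κ] in
theorem isBilinearForm_pf (e : ι ≃ κ) {f : (ι → F) → (ι → F) → F} (h : IsBilinearForm f) :
    IsBilinearForm (pf e f) where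
  add_left := fun x y v => by unfold pf; rw [map_add, h.add_left]
  smul_left := fun c x v => by unfold pf; rw [map_smul, h.smul_left]
  add_right := fun v x y => by unfold pf; rw [map_add, h.add_right]
  smul_right := fun c v x => by unfold pf; rw [map_smul, h.smul_right]

omit [Fintype ι] [DecidableEq ι] [Fintype κ] [DecidableEq κ] in
theorem rq_nondegenerate (e : ι ≃ κ) (Q : (ι → F) → F) (hQ : IsNondegenerateQuadraticForm Q) :
    IsNondegenerateQuadraticForm (rq e Q) where
  smul := fun c v => by unfold rq; rw [map_smul, hQ.smul]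
  polar_bilinear := by rw [polar_rq]; exact isBilinearForm_pf e hQ.polar_bilinear
  nondegenerate := by rw [polar_rq]; exact isNondegenerateForm_pf e hQ.nondegenerate

omit [Fintype ι] [Fintype κ] in
theorem th_single (e : ι ≃ κ) (a : κ) : th e (Pi.single a (1 : F)) = Pi.single (e.symm a) (1 : F) := by
  funext i
  rw [th_apply]
  by_cases h : i = e.symm a
  · subst h; simp
  · rw [Pi.single_eq_of_ne h, Pi.single_eq_of_ne]
    intro h'
    apply h
    rw [← h', Equiv.symm_apply_apply]

theorem gramMatrix_pf (e : ι ≃ κ) (f : (ι → F) → (ι → F) → F) :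
    gramMatrix (pf e f) = (gramMatrix f).submatrix e.symm e.symm := by
  ext a b
  unfold gramMatrix pf
  rw [th_single, th_single]
  rfl

theorem det_gramMatrix_rq (e : ι ≃ κ) (Q : (ι → F) → F) :
    (gramMatrix (QuadraticMap.polar (rq e Q))).det = (gramMatrix (QuadraticMap.polar Q)).det := by
  rw [polar_rq, gramMatrix_pf, Matrix.det_submatrix_equiv_self]

theorem map_le_isometryGroup_rq (e : ι ≃ κ) (Q : (ι → F) → F) {H : Subgroup (GL ι F)}
    (hH : H ≤ isometryGroup F Q) :
    H.map (glReindex e : GL ι F ≃* GL κ F).toMonoidHom ≤ isometryGroup F (rq e Q) := by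
  rintro _ ⟨g, hg, rfl⟩
  intro u v
  have h := hH hg (th e u) (th e u)
  change rq e Q (((glReindex e g : GL κ F) : Matrix κ κ F) *ᵥ u) = rq e Q u
  unfold rq
  rw [th_mulVec]
  exact h

/-! ### subspaces -/

omit [Fintype ι] [DecidableEq ι] [Fintype κ] [DecidableEq κ] in
theorem map_thL_ne_bot (e : ι ≃ κ) {W' : Submodule F (κ → F)} (h : W' ≠ ⊥) : W'.map (thL e) ≠ ⊥ := by
  intro h0
  apply h
  rw [eq_bot_iff]
  intro w hw
  have h1 : thL e w ∈ W'.map (thL e) := ⟨w, hw, rfl⟩
  rw [h0, Submodule.mem_bot, thL_apply] at h1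
  rw [Submodule.mem_bot]
  have h2 := congrArg (th e).symm h1
  rwa [LinearEquiv.symm_apply_apply, map_zero] at h2

omit [Fintype ι] [DecidableEq ι] [Fintype κ] [DecidableEq κ] in
theorem finrank_map_thL (e : ι ≃ κ) (W' : Submodule F (κ → F)) :
    Module.finrank F (W'.map (thL e)) = Module.finrank F W' :=
  LinearEquiv.finrank_map_eq (th e) W'

omit [Fintype ι] [DecidableEq ι] [Fintype κ] [DecidableEq κ] in
theorem totallySingular_map (e : ι ≃ κ) {Q : (ι → F) → F} {W' : Submodule F (κ → F)}
    (h : IsTotallySingularQuad (rq e Q) W') : IsTotallySingularQuad Q (W'.map (thL e)) := by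
  rintro _ ⟨w, hw, rfl⟩
  exact h w hw

omit [Fintype ι] [DecidableEq ι] [Fintype κ] [DecidableEq κ] in
theorem nondegenerateOn_map (e : ι ≃ κ) {f : (ι → F) → (ι → F) → F} {W' : Submodule F (κ → F)}
    (h : IsNondegenerateOn (pf e f) W') : IsNondegenerateOn f (W'.map (thL e)) := by
  rintro _ ⟨w, hw, rfl⟩ hw0
  have hw0' : w ≠ 0 := by
    intro h0
    apply hw0
    rw [h0, map_zero]
  obtain ⟨⟨x, hx, hxw⟩, ⟨y, hy, hyw⟩⟩ := h w hw hw0'
  exact ⟨⟨thL e x, ⟨x, hx, rfl⟩, hxw⟩, ⟨thL e y, ⟨y, hy, rfl⟩, hyw⟩⟩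

omit [Fintype ι] [DecidableEq ι] [Fintype κ] [DecidableEq κ] in
theorem orthogonal_map (e : ι ≃ κ) {f : (ι → F) → (ι → F) → F} {W₁ W₂ : Submodule F (κ → F)}
    (h : AreOrthogonalFor (pf e f) W₁ W₂) : AreOrthogonalFor f (W₁.map (thL e)) (W₂.map (thL e)) := by
  rintro _ ⟨u, hu, rfl⟩ _ ⟨v, hv, rfl⟩
  exact h u hu v hv

omit [DecidableEq ι] [DecidableEq κ] in
theorem plusType_of_map (e : ι ≃ κ) {Q : (ι → F) → F} {W' : Submodule F (κ → F)}
    (h : IsPlusTypeOn Q (W'.map (thL e))) : IsPlusTypeOn (rq e Q) W' := by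
  obtain ⟨U, hUW, hUts, hUdim⟩ := h
  have hsurj : Function.Surjective (thL e : (κ → F) →ₗ[F] (ι → F)) := (th e).surjective
  have hinj : Function.Injective (thL e : (κ → F) →ₗ[F] (ι → F)) := (th e).injective
  refine ⟨U.comap (thL e), ?_, ?_, ?_⟩
  · intro u hu
    obtain ⟨w, hw, hwu⟩ := hUW hu
    have : w = u := hinj hwu
    rw [← this]; exact hw
  · intro u hu
    exact hUts _ hu
  · have h1 : (U.comap (thL e)).map (thL e) = U := Submodule.map_comap_eq_of_surjective hsurj U
    have h2 : Module.finrank F (U.comap (thL e)) = Module.finrank F U := by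
      rw [← finrank_map_thL e (U.comap (thL e)), h1]
    rw [h2, hUdim, finrank_map_thL]

omit [DecidableEq ι] [DecidableEq κ] in
theorem isMDecomposition_map (e : ι ≃ κ) {t m : ℕ} {D' : Fin t → Submodule F (κ → F)}
    (h : IsMDecomposition m D') : IsMDecomposition m (fun i => (D' i).map (thL e)) where
  two_le := h.two_le
  pos := h.pos
  finrank_eq := fun i => by rw [finrank_map_thL, h.finrank_eq]
  indep := by
    have h1 := h.indep.map_orderIso (Submodule.orderIsoMapComap (th e))
    exact h1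
  iSup_eq_top := by
    rw [← Submodule.map_iSup, h.iSup_eq_top, Submodule.map_top, LinearMap.range_eq_top]
    exact (th e).surjective

theorem isNondegenerateMDecomposition_map (e : ι ≃ κ) {f : (ι → F) → (ι → F) → F} {t m : ℕ}
    {D' : Fin t → Submodule F (κ → F)} (h : IsNondegenerateMDecomposition (pf e f) m D') :
    IsNondegenerateMDecomposition f m (fun i => (D' i).map (thL e)) where
  decomp := isMDecomposition_map e h.decomp
  nondegenerate := fun i => nondegenerateOn_map e (h.nondegenerate i)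
  orthogonal := fun i j hij => orthogonal_map e (h.orthogonal i j hij)

omit [Fintype ι] [DecidableEq ι] [Fintype κ] [DecidableEq κ] in
theorem isometric_map (e : ι ≃ κ) {Q : (ι → F) → F} {W₁ W₂ : Submodule F (κ → F)}
    (h : AreIsometricFor (rq e Q) W₁ W₂) : AreIsometricFor Q (W₁.map (thL e)) (W₂.map (thL e)) := by
  obtain ⟨ε, hε⟩ := h
  refine ⟨((th e).submoduleMap W₁).symm.trans (ε.trans ((th e).submoduleMap W₂)), ?_⟩
  intro w
  have h1 := hε (((th e).submoduleMap W₁).symm w)
  unfold rq at h1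
  have h2 : th e ((((th e).submoduleMap W₁).symm w : W₁) : κ → F) = (w : ι → F) := by
    show th e ((th e).symm (w : ι → F)) = (w : ι → F)
    exact LinearEquiv.apply_symm_apply _ _
  rw [h2] at h1
  rw [← h1]
  rfl

theorem isOrthogonalMDecomposition_map (e : ι ≃ κ) {Q : (ι → F) → F} {t m : ℕ}
    {D' : Fin t → Submodule F (κ → F)} (h : IsOrthogonalMDecomposition (rq e Q) m D') :
    IsOrthogonalMDecomposition Q m (fun i => (D' i).map (thL e)) where
  decomp := by
    have h1 := h.decomp
    rw [polar_rq] at h1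
    exact isNondegenerateMDecomposition_map e h1
  isometric := fun i j => isometric_map e (h.isometric i j)

theorem quadRational_of_map (e : ι ≃ κ) {Q : (ι → F) → F} (F₀ : Subfield F) (P' : GL κ F)
    (h : IsQuadFormRationalStructure (rq e Q) F₀ P') :
    IsQuadFormRationalStructure Q F₀ ((glReindex e).symm P') := by
  intro u hu
  have h1 := h ((th e).symm u) (fun k => by rw [th_symm_apply]; exact hu _)
  unfold rq at h1
  have h2 : (P' : Matrix κ κ F) = ((glReindex e ((glReindex e).symm P') : GL κ F) : Matrix κ κ F) := by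
    rw [MulEquiv.apply_symm_apply]
  rw [h2, th_mulVec, LinearEquiv.apply_symm_apply] at h1
  exact h1

end Cfsg.Agent.Helper2.AschTr
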