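import Mathlib
import Cfsg.Prelude.Def_GeometricClasses
import Cfsg.Agent.Helper2.AschTrA
import Cfsg.Agent.Helper2.AschTrB
import Cfsg.Agent.Helper2.AschTrC

/-!
# Index transport (helper2), part D: subalgebras of the matrix algebra (class 3 with a form), tensor form structures
(class 4), form-rational structures (class 5), quadratic similarity groups, symplectic forms and the symplectic
residual class, along `e : ι ≃ κ`
-/

set_option autoImplicit false

namespace Cfsg.Agent.Helper2.AschTr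

open Cfsg Cfsg.Geo
open scoped MatrixGroups Matrix Kronecker

variable {ι κ : Type} [Fintype ι] [DecidableEq ι] [Fintype κ] [DecidableEq κ] {F : Type*} [Field F]

/-! ### forms -/

omit [Fintype ι] [DecidableEq ι] [Fintype κ] [DecidableEq κ] in
theorem pf_symm_pf (e : ι ≃ κ) (f : (ι → F) → (ι → F) → F) : pf e.symm (pf e f) = f := by
  funext u v
  unfold pf
  congr 1 <;> · funext i; simp

omit [Fintype ι] [DecidableEq ι] [Fintype κ] [DecidableEq κ] in
theorem th_symm_eq (e : ι ≃ κ) (u : ι → F) : th e.symm u = (th e).symm u := rfl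

theorem isSymplecticForm_pf (e : ι ≃ κ) {f : (ι → F) → (ι → F) → F} (h : IsSymplecticForm f) :
    IsSymplecticForm (pf e f) where
  bilinear := isBilinearForm_pf e h.bilinear
  skew := fun v w => h.skew _ _
  alternating := fun v => h.alternating _
  nondegenerate := isNondegenerateForm_pf e h.nondegenerate

omit [Fintype ι] [DecidableEq ι] [Fintype κ] [DecidableEq κ] in
theorem totallySingularFor_map (e : ι ≃ κ) {f : (ι → F) → (ι → F) → F} {W' : Submodule F (κ → F)}
    (h : IsTotallySingularFor (pf e f) W') : IsTotallySingularFor f (W'.map (thL e)) := by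
  rintro _ ⟨u, hu, rfl⟩ _ ⟨v, hv, rfl⟩
  exact h u hu v hv

/-- a group of isometries of `f` is mapped to a group of isometries of `pf e f` -/
theorem fixesForm_map (e : ι ≃ κ) {H : Subgroup (GL ι F)} {f : (ι → F) → (ι → F) → F}
    (h : ∀ g ∈ H, ∀ u v, f ((g : Matrix ι ι F) *ᵥ u) ((g : Matrix ι ι F) *ᵥ v) = f u v) :
    FixesForm (matrixSet (H.map (glReindex e : GL ι F ≃* GL κ F).toMonoidHom)) (pf e f) := by
  rintro _ ⟨_, ⟨g, hg, rfl⟩, rfl⟩ u v
  show f (th e (((glReindex e g : GL κ F) : Matrix κ κ F) *ᵥ u))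
    (th e (((glReindex e g : GL κ F) : Matrix κ κ F) *ᵥ v)) = f (th e u) (th e v)
  rw [th_mulVec, th_mulVec]
  exact h g hg _ _

theorem fixesQuadForm_rq (e : ι ≃ κ) {P' : Subgroup (GL κ F)} {Q : (ι → F) → F}
    (h : FixesQuadForm (matrixSet (pb e P')) Q) : FixesQuadForm (matrixSet P') (rq e Q) := by
  intro s' hs' v
  obtain ⟨g, hg, rfl⟩ := exists_of_mem_matrixSet e hs'
  have h1 : (g : Matrix ι ι F) ∈ matrixSet (pb e P') := ⟨g, hg, rfl⟩
  have h2 := h _ h1 (th e v)
  unfold rq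
  rw [th_mulVec]
  exact h2

theorem inSymplecticResidualClass_of_map (e : ι ≃ κ) {H : Subgroup (GL ι F)}
    (h : InSymplecticResidualClass (H.map (glReindex e : GL ι F ≃* GL κ F).toMonoidHom)) :
    InSymplecticResidualClass H := by
  obtain ⟨P', hcore, hnq, hnu⟩ := h
  refine ⟨pb e P', isResidualCore_of_map e hcore, ?_, ?_⟩
  · rintro ⟨Q, hQ, hfix⟩
    exact hnq ⟨rq e Q, rq_nondegenerate e Q hQ, fixesQuadForm_rq e hfix⟩
  · rintro ⟨σ, f, hf, hfix⟩
    exact hnu ⟨σ, pf e f, isUnitaryForm_pf e hf, fixesForm_pf e hfix⟩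

/-! ### quadratic similarity groups -/

theorem le_quadSimilarityGroup_of_map (e : ι ≃ κ) {H : Subgroup (GL ι F)} (Q' : (κ → F) → F)
    (h : H.map (glReindex e : GL ι F ≃* GL κ F).toMonoidHom ≤ quadSimilarityGroup Q') :
    H ≤ quadSimilarityGroup (rq e.symm Q') := by
  intro g hg
  obtain ⟨c, hc⟩ := h ⟨g, hg, rfl⟩
  refine ⟨c, fun u => ?_⟩
  have h1 := hc ((th e).symm u)
  unfold rq
  rw [th_symm_eq, th_symm_eq, ← mulVec_th_symm]
  exact h1

omit [Fintype ι] [DecidableEq ι] [Fintype κ] [DecidableEq κ] in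
theorem polar_rq_symm (e : ι ≃ κ) {f : (ι → F) → (ι → F) → F} (Q' : (κ → F) → F)
    (h : ∀ u v, QuadraticMap.polar Q' u v = pf e f u v) :
    ∀ u v, QuadraticMap.polar (rq e.symm Q') u v = f u v := by
  intro u v
  rw [polar_rq]
  have h1 : QuadraticMap.polar Q' = pf e f := by funext a b; exact h a b
  rw [h1, pf_symm_pf]

/-! ### form-rational structures -/

theorem formRational_of_map (e : ι ≃ κ) {f : (ι → F) → (ι → F) → F} (F₀ : Subfield F) (ζ : F) (P' : GL κ F)
    (h : IsFormRationalStructure (pf e f) F₀ ζ P') :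
    IsFormRationalStructure f F₀ ζ ((glReindex e).symm P') := by
  intro u v hu hv
  have h1 := h ((th e).symm u) ((th e).symm v) (fun k => by rw [th_symm_apply]; exact hu _)
    (fun k => by rw [th_symm_apply]; exact hv _)
  unfold pf at h1
  have h2 : ∀ w : ι → F, th e ((P' : Matrix κ κ F) *ᵥ (th e).symm w) =
      (((glReindex e).symm P' : GL ι F) : Matrix ι ι F) *ᵥ w := by
    intro w
    have h3 := th_mulVec e ((glReindex e).symm P') ((th e).symm w)
    rw [MulEquiv.apply_symm_apply, LinearEquiv.apply_symm_apply] at h3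
    exact h3
  rw [h2, h2] at h1
  exact h1

/-! ### subalgebras of the matrix algebra -/

/-- the pull-back of a subalgebra of `Matrix κ κ F` -/
def pbK (e : ι ≃ κ) (K' : Subalgebra F (Matrix κ κ F)) : Subalgebra F (Matrix ι ι F) :=
  K'.comap (Matrix.reindexAlgEquiv F F e : Matrix ι ι F ≃ₐ[F] Matrix κ κ F).toAlgHom

theorem mem_pbK (e : ι ≃ κ) {K' : Subalgebra F (Matrix κ κ F)} {k : Matrix ι ι F} :
    k ∈ pbK e K' ↔ k.submatrix e.symm e.symm ∈ K' := Iff.rfl

/-- `pbK e K'` is linearly equivalent to `K'` -/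
def pbKEquiv (e : ι ≃ κ) (K' : Subalgebra F (Matrix κ κ F)) : pbK e K' ≃ₗ[F] K' where
  toFun := fun x => ⟨(x : Matrix ι ι F).submatrix e.symm e.symm, x.2⟩
  invFun := fun y => ⟨(y : Matrix κ κ F).submatrix e e, by
    rw [mem_pbK, Matrix.submatrix_submatrix]
    simpa using y.2⟩
  map_add' := fun x y => by ext : 1; rfl
  map_smul' := fun c x => by ext : 1; rfl
  left_inv := fun x => by ext : 1; simp
  right_inv := fun y => by ext : 1; simp

theorem submatrix_mul_equiv' (e : ι ≃ κ) (a b : Matrix ι ι F) :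
    (a * b).submatrix e.symm e.symm = a.submatrix e.symm e.symm * b.submatrix e.symm e.symm := by
  rw [Matrix.submatrix_mul_equiv]

theorem isFieldSubalgebra_pbK (e : ι ≃ κ) {r : ℕ} {K' : Subalgebra F (Matrix κ κ F)}
    (h : IsFieldSubalgebra r K') : IsFieldSubalgebra r (pbK e K') where
  comm := by
    intro x hx y hy
    have h1 := h.comm _ ((mem_pbK e).mp hx) _ ((mem_pbK e).mp hy)
    rw [← submatrix_mul_equiv', ← submatrix_mul_equiv'] at h1
    have h2 := congrArg (fun M : Matrix κ κ F => M.submatrix e e) h1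
    simpa [Matrix.submatrix_submatrix] using h2
  inv := by
    intro x hx hx0
    have hx0' : x.submatrix e.symm e.symm ≠ 0 := by
      intro h0
      apply hx0
      have h2 := congrArg (fun M : Matrix κ κ F => M.submatrix e e) h0
      simpa [Matrix.submatrix_submatrix] using h2
    obtain ⟨y, hy, hxy⟩ := h.inv _ ((mem_pbK e).mp hx) hx0'
    refine ⟨y.submatrix e e, ?_, ?_⟩
    · rw [mem_pbK, Matrix.submatrix_submatrix]
      simpa using hy
    · have h2 := congrArg (fun M : Matrix κ κ F => M.submatrix e e) hxy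
      simp only [Matrix.submatrix_one_equiv] at h2
      rw [← h2, ← Matrix.submatrix_mul_equiv (e₂ := e), Matrix.submatrix_submatrix]
      simp
  finrank_eq := by
    rw [LinearEquiv.finrank_eq (pbKEquiv e K'), h.finrank_eq]

theorem form_mulVec_pbK (e : ι ≃ κ) (f : (ι → F) → (ι → F) → F) (k : Matrix ι ι F) (u v : κ → F) :
    pf e f ((k.submatrix e.symm e.symm) *ᵥ u) v = f (k *ᵥ th e u) (th e v) := by
  unfold pf
  rw [submatrix_mulVec]

theorem form_mulVec_pbK' (e : ι ≃ κ) (f : (ι → F) → (ι → F) → F) (k : Matrix ι ι F) (u v : κ → F) :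
    pf e f u ((k.submatrix e.symm e.symm) *ᵥ v) = f (th e u) (k *ᵥ th e v) := by
  unfold pf
  rw [submatrix_mulVec]

theorem isSelfAdjointFor_pbK_iff (e : ι ≃ κ) {f : (ι → F) → (ι → F) → F} {K' : Subalgebra F (Matrix κ κ F)} :
    IsSelfAdjointFor f (pbK e K') ↔ IsSelfAdjointFor (pf e f) K' := by
  constructor
  · intro h k' hk' u v
    have hk : k'.submatrix e e ∈ pbK e K' := by
      rw [mem_pbK, Matrix.submatrix_submatrix]
      simpa using hk'
    have h1 := h _ hk (th e u) (th e v)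
    have h2 : (k'.submatrix e e).submatrix e.symm e.symm = k' := by
      rw [Matrix.submatrix_submatrix]; simp
    rw [← h2, form_mulVec_pbK, form_mulVec_pbK']
    exact h1
  · intro h k hk u v
    have h1 := h _ ((mem_pbK e).mp hk) ((th e).symm u) ((th e).symm v)
    rw [form_mulVec_pbK, form_mulVec_pbK', LinearEquiv.apply_symm_apply, LinearEquiv.apply_symm_apply] at h1
    exact h1

theorem isAdjointClosedFor_pbK (e : ι ≃ κ) {f : (ι → F) → (ι → F) → F} {K' : Subalgebra F (Matrix κ κ F)}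
    (h : IsAdjointClosedFor (pf e f) K') : IsAdjointClosedFor f (pbK e K') := by
  intro k hk
  obtain ⟨k', hk', hadj⟩ := h _ ((mem_pbK e).mp hk)
  refine ⟨k'.submatrix e e, ?_, ?_⟩
  · rw [mem_pbK, Matrix.submatrix_submatrix]
    simpa using hk'
  · intro u v
    have h1 := hadj ((th e).symm u) ((th e).symm v)
    have h2 : (k'.submatrix e e).submatrix e.symm e.symm = k' := by
      rw [Matrix.submatrix_submatrix]; simp
    rw [← h2, form_mulVec_pbK, form_mulVec_pbK', LinearEquiv.apply_symm_apply,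
      LinearEquiv.apply_symm_apply] at h1
    exact h1

theorem alt_pbK (e : ι ≃ κ) {f : (ι → F) → (ι → F) → F} {K' : Subalgebra F (Matrix κ κ F)}
    (h : ∀ k ∈ K', ∀ v : κ → F, pf e f (k *ᵥ v) v = 0) :
    ∀ k ∈ pbK e K', ∀ v : ι → F, f (k *ᵥ v) v = 0 := by
  intro k hk v
  have h1 := h _ ((mem_pbK e).mp hk) ((th e).symm v)
  rw [form_mulVec_pbK, LinearEquiv.apply_symm_apply] at h1
  exact h1

theorem le_subalgebraNormalizer_of_map (e : ι ≃ κ) {H : Subgroup (GL ι F)} (K' : Subalgebra F (Matrix κ κ F))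
    (h : H.map (glReindex e : GL ι F ≃* GL κ F).toMonoidHom ≤ subalgebraNormalizer K') :
    H ≤ subalgebraNormalizer (pbK e K') := by
  intro g hg k
  have h1 := h ⟨g, hg, rfl⟩ (k.submatrix e.symm e.symm)
  have h2 : (((glReindex e : GL ι F ≃* GL κ F).toMonoidHom g : GL κ F) : Matrix κ κ F) =
      (g : Matrix ι ι F).submatrix e.symm e.symm := glReindex_val e g
  have h3 : ((((glReindex e : GL ι F ≃* GL κ F).toMonoidHom g)⁻¹ : GL κ F) : Matrix κ κ F) =
      ((g⁻¹ : GL ι F) : Matrix ι ι F).submatrix e.symm e.symm := by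
    rw [← map_inv]
    exact glReindex_val e g⁻¹
  rw [h2, h3, ← submatrix_mul_equiv', ← submatrix_mul_equiv'] at h1
  rw [mem_pbK, mem_pbK]
  exact h1

/-! ### tensor decompositions -/

theorem glReindex_symm_trans {n₁ n₂ : ℕ} (e : ι ≃ κ) (e' : κ ≃ Fin n₁ × Fin n₂) (k : GL (Fin n₁ × Fin n₂) F) :
    (glReindex e).symm ((glReindex e'.symm : GL (Fin n₁ × Fin n₂) F ≃* GL κ F) k) =
      (glReindex (e.trans e').symm : GL (Fin n₁ × Fin n₂) F ≃* GL ι F) k := by
  apply Units.ext
  rw [glReindex_symm_val, glReindex_val, glReindex_val, Matrix.submatrix_submatrix]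
  rfl

theorem le_tensorProductSubgroup_of_map {n₁ n₂ : ℕ} (e : ι ≃ κ) {H : Subgroup (GL ι F)}
    (e' : κ ≃ Fin n₁ × Fin n₂) (P' : GL κ F)
    (h : H.map (glReindex e : GL ι F ≃* GL κ F).toMonoidHom ≤ tensorProductSubgroup n₁ n₂ e' P') :
    H ≤ tensorProductSubgroup n₁ n₂ (e.trans e') ((glReindex e).symm P') := by
  intro g hg
  obtain ⟨y, ⟨k, hk, rfl⟩, hy⟩ := h ⟨g, hg, rfl⟩
  refine ⟨(glReindex (e.trans e').symm : GL (Fin n₁ × Fin n₂) F ≃* GL ι F) k, ⟨k, hk, rfl⟩, ?_⟩
  apply (glReindex e : GL ι F ≃* GL κ F).injective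
  have hy' : P' * (glReindex e'.symm : GL (Fin n₁ × Fin n₂) F ≃* GL κ F) k * P'⁻¹ = glReindex e g := hy
  rw [← hy', ← glReindex_symm_trans]
  show glReindex e ((glReindex e).symm P' * (glReindex e).symm ((glReindex e'.symm) k) *
    ((glReindex e).symm P')⁻¹) = _
  rw [map_mul, map_mul, map_inv, MulEquiv.apply_symm_apply, MulEquiv.apply_symm_apply]

theorem tensorFormStructure_of_map {n₁ n₂ : ℕ} (e : ι ≃ κ) {f : (ι → F) → (ι → F) → F} (σ : F → F)
    {f₁ : (Fin n₁ → F) → (Fin n₁ → F) → F} {f₂ : (Fin n₂ → F) → (Fin n₂ → F) → F}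
    (e' : κ ≃ Fin n₁ × Fin n₂) (P' : GL κ F) (h : IsTensorFormStructure σ (pf e f) f₁ f₂ e' P') :
    IsTensorFormStructure σ f f₁ f₂ (e.trans e') ((glReindex e).symm P') := by
  obtain ⟨c, hc0, hc⟩ := h
  refine ⟨c, hc0, fun x y => ?_⟩
  have h1 := hc x y
  unfold pf at h1
  have h2 : ∀ w : Fin n₁ × Fin n₂ → F, th e ((P' : Matrix κ κ F) *ᵥ (w ∘ e')) =
      (((glReindex e).symm P' : GL ι F) : Matrix ι ι F) *ᵥ (w ∘ (e.trans e')) := by
    intro w
    have h3 := th_mulVec e ((glReindex e).symm P') (w ∘ e')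
    rw [MulEquiv.apply_symm_apply] at h3
    rw [h3]
    rfl
  rw [h2, h2] at h1
  exact h1

end Cfsg.Agent.Helper2.AschTr
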