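import Mathlib
import Cfsg.Prelude.Def_GeometricClasses
import Cfsg.Agent.Helper2.AschTrD

/-!
# Index transport (helper2), part E: per-alternative pull-backs `pull_*` with general parameters

For `e : ι ≃ κ`, a two-argument form `f` on `ι → F` and `H ≤ GL ι F`: each lemma turns an alternative of an
Aschbacher-type conclusion for `pf e f` (`= reF e f` of helper1, by `rfl`) and `H.map (glReindex e)` into the same
alternative for `f` and `H` (all with `H ≤ X`).  Also class 7 (`tensorWreathSubgroup`, `IsTensorPowerFormStructure`).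
-/

set_option autoImplicit false

namespace Cfsg.Agent.Helper2.AschTr

open Cfsg Cfsg.Geo
open scoped MatrixGroups Matrix Kronecker

variable {ι κ : Type} [Fintype ι] [DecidableEq ι] [Fintype κ] [DecidableEq κ] {F : Type*} [Field F]

/-- totally singular subspace -/
theorem pull_ts (e : ι ≃ κ) {f : (ι → F) → (ι → F) → F} {H : Subgroup (GL ι F)}
    (h : ∃ W : Submodule F (κ → F), W ≠ ⊥ ∧ IsTotallySingularFor (pf e f) W ∧
      H.map (glReindex e : GL ι F ≃* GL κ F).toMonoidHom ≤ subspaceStabilizer W) :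
    ∃ W : Submodule F (ι → F), W ≠ ⊥ ∧ IsTotallySingularFor f W ∧ H ≤ subspaceStabilizer W := by
  obtain ⟨W', h0, hts, hle⟩ := h
  exact ⟨W'.map (thL e), map_thL_ne_bot e h0, totallySingularFor_map e hts, le_stab_of_map e hle⟩

/-- totally singular subspace with a condition on the dimension -/
theorem pull_ts_dim (e : ι ≃ κ) {f : (ι → F) → (ι → F) → F} {H : Subgroup (GL ι F)} (C : ℕ → Prop)
    (h : ∃ W : Submodule F (κ → F), W ≠ ⊥ ∧ IsTotallySingularFor (pf e f) W ∧ C (Module.finrank F W) ∧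
      H.map (glReindex e : GL ι F ≃* GL κ F).toMonoidHom ≤ subspaceStabilizer W) :
    ∃ W : Submodule F (ι → F), W ≠ ⊥ ∧ IsTotallySingularFor f W ∧ C (Module.finrank F W) ∧
      H ≤ subspaceStabilizer W := by
  obtain ⟨W', h0, hts, hdim, hle⟩ := h
  refine ⟨W'.map (thL e), map_thL_ne_bot e h0, totallySingularFor_map e hts, ?_, le_stab_of_map e hle⟩
  rw [finrank_map_thL]; exact hdim

/-- non-degenerate subspace with a condition `C` on its dimension (e.g. `· < m`, `2 * · ≤ n`, `Even`) -/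
theorem pull_nondegSub (e : ι ≃ κ) {f : (ι → F) → (ι → F) → F} {H : Subgroup (GL ι F)} (C : ℕ → Prop)
    (h : ∃ W : Submodule F (κ → F), W ≠ ⊥ ∧ IsNondegenerateOn (pf e f) W ∧ C (Module.finrank F W) ∧
      H.map (glReindex e : GL ι F ≃* GL κ F).toMonoidHom ≤ subspaceStabilizer W) :
    ∃ W : Submodule F (ι → F), W ≠ ⊥ ∧ IsNondegenerateOn f W ∧ C (Module.finrank F W) ∧
      H ≤ subspaceStabilizer W := by
  obtain ⟨W', h0, hnd, hdim, hle⟩ := h
  refine ⟨W'.map (thL e), map_thL_ne_bot e h0, nondegenerateOn_map e hnd, ?_, le_stab_of_map e hle⟩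
  rw [finrank_map_thL]; exact hdim

/-- non-degenerate `k`-decomposition into `t` blocks -/
theorem pull_nondegDecomp (e : ι ≃ κ) {f : (ι → F) → (ι → F) → F} {H : Subgroup (GL ι F)} {t k : ℕ}
    (h : ∃ D : Fin t → Submodule F (κ → F), IsNondegenerateMDecomposition (pf e f) k D ∧
      H.map (glReindex e : GL ι F ≃* GL κ F).toMonoidHom ≤ decompositionStabilizer D) :
    ∃ D : Fin t → Submodule F (ι → F), IsNondegenerateMDecomposition f k D ∧ H ≤ decompositionStabilizer D := by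
  obtain ⟨D', hD, hle⟩ := h
  exact ⟨fun i => (D' i).map (thL e), isNondegenerateMDecomposition_map e hD, le_decomp_of_map e hle⟩

/-- plain `k`-decomposition into `t` blocks -/
theorem pull_decomp (e : ι ≃ κ) {H : Subgroup (GL ι F)} {t k : ℕ}
    (h : ∃ D : Fin t → Submodule F (κ → F), IsMDecomposition k D ∧
      H.map (glReindex e : GL ι F ≃* GL κ F).toMonoidHom ≤ decompositionStabilizer D) :
    ∃ D : Fin t → Submodule F (ι → F), IsMDecomposition k D ∧ H ≤ decompositionStabilizer D := by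
  obtain ⟨D', hD, hle⟩ := h
  exact ⟨fun i => (D' i).map (thL e), isMDecomposition_map e hD, le_decomp_of_map e hle⟩

/-- pair (more generally `t` blocks) of totally singular `k`-spaces -/
theorem pull_tsPair (e : ι ≃ κ) {f : (ι → F) → (ι → F) → F} {H : Subgroup (GL ι F)} {t k : ℕ}
    (h : ∃ D : Fin t → Submodule F (κ → F), IsMDecomposition k D ∧ (∀ i, IsTotallySingularFor (pf e f) (D i)) ∧
      H.map (glReindex e : GL ι F ≃* GL κ F).toMonoidHom ≤ decompositionStabilizer D) :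
    ∃ D : Fin t → Submodule F (ι → F), IsMDecomposition k D ∧ (∀ i, IsTotallySingularFor f (D i)) ∧
      H ≤ decompositionStabilizer D := by
  obtain ⟨D', hD, hts, hle⟩ := h
  exact ⟨fun i => (D' i).map (thL e), isMDecomposition_map e hD, fun i => totallySingularFor_map e (hts i),
    le_decomp_of_map e hle⟩

/-- self-adjoint field of degree `r` with `f (k v) v = 0` -/
theorem pull_fieldSelfAdj (e : ι ≃ κ) {f : (ι → F) → (ι → F) → F} {H : Subgroup (GL ι F)} {r : ℕ}
    (h : ∃ K : Subalgebra F (Matrix κ κ F), IsFieldSubalgebra r K ∧ IsSelfAdjointFor (pf e f) K ∧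
      (∀ k ∈ K, ∀ v : κ → F, pf e f (k *ᵥ v) v = 0) ∧
      H.map (glReindex e : GL ι F ≃* GL κ F).toMonoidHom ≤ subalgebraNormalizer K) :
    ∃ K : Subalgebra F (Matrix ι ι F), IsFieldSubalgebra r K ∧ IsSelfAdjointFor f K ∧
      (∀ k ∈ K, ∀ v : ι → F, f (k *ᵥ v) v = 0) ∧ H ≤ subalgebraNormalizer K := by
  obtain ⟨K', hK, hsa, halt, hle⟩ := h
  exact ⟨pbK e K', isFieldSubalgebra_pbK e hK, (isSelfAdjointFor_pbK_iff e).mpr hsa, alt_pbK e halt,
    le_subalgebraNormalizer_of_map e K' hle⟩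

/-- self-adjoint field of degree `r` (without the alternating clause) -/
theorem pull_fieldSelfAdj' (e : ι ≃ κ) {f : (ι → F) → (ι → F) → F} {H : Subgroup (GL ι F)} {r : ℕ}
    (h : ∃ K : Subalgebra F (Matrix κ κ F), IsFieldSubalgebra r K ∧ IsSelfAdjointFor (pf e f) K ∧
      H.map (glReindex e : GL ι F ≃* GL κ F).toMonoidHom ≤ subalgebraNormalizer K) :
    ∃ K : Subalgebra F (Matrix ι ι F), IsFieldSubalgebra r K ∧ IsSelfAdjointFor f K ∧
      H ≤ subalgebraNormalizer K := by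
  obtain ⟨K', hK, hsa, hle⟩ := h
  exact ⟨pbK e K', isFieldSubalgebra_pbK e hK, (isSelfAdjointFor_pbK_iff e).mpr hsa,
    le_subalgebraNormalizer_of_map e K' hle⟩

/-- adjoint-closed, not self-adjoint field of degree `r` -/
theorem pull_fieldAdjClosed (e : ι ≃ κ) {f : (ι → F) → (ι → F) → F} {H : Subgroup (GL ι F)} {r : ℕ}
    (h : ∃ K : Subalgebra F (Matrix κ κ F), IsFieldSubalgebra r K ∧ IsAdjointClosedFor (pf e f) K ∧
      ¬ IsSelfAdjointFor (pf e f) K ∧
      H.map (glReindex e : GL ι F ≃* GL κ F).toMonoidHom ≤ subalgebraNormalizer K) :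
    ∃ K : Subalgebra F (Matrix ι ι F), IsFieldSubalgebra r K ∧ IsAdjointClosedFor f K ∧
      ¬ IsSelfAdjointFor f K ∧ H ≤ subalgebraNormalizer K := by
  obtain ⟨K', hK, hac, hnsa, hle⟩ := h
  exact ⟨pbK e K', isFieldSubalgebra_pbK e hK, isAdjointClosedFor_pbK e hac,
    fun hs => hnsa ((isSelfAdjointFor_pbK_iff e).mp hs), le_subalgebraNormalizer_of_map e K' hle⟩

/-- adjoint-closed field of degree `r` -/
theorem pull_fieldAdjClosed' (e : ι ≃ κ) {f : (ι → F) → (ι → F) → F} {H : Subgroup (GL ι F)} {r : ℕ}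
    (h : ∃ K : Subalgebra F (Matrix κ κ F), IsFieldSubalgebra r K ∧ IsAdjointClosedFor (pf e f) K ∧
      H.map (glReindex e : GL ι F ≃* GL κ F).toMonoidHom ≤ subalgebraNormalizer K) :
    ∃ K : Subalgebra F (Matrix ι ι F), IsFieldSubalgebra r K ∧ IsAdjointClosedFor f K ∧
      H ≤ subalgebraNormalizer K := by
  obtain ⟨K', hK, hac, hle⟩ := h
  exact ⟨pbK e K', isFieldSubalgebra_pbK e hK, isAdjointClosedFor_pbK e hac,
    le_subalgebraNormalizer_of_map e K' hle⟩

/-- plain field of degree `r` (no form) -/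
theorem pull_field (e : ι ≃ κ) {H : Subgroup (GL ι F)} {r : ℕ}
    (h : ∃ K : Subalgebra F (Matrix κ κ F), IsFieldSubalgebra r K ∧
      H.map (glReindex e : GL ι F ≃* GL κ F).toMonoidHom ≤ subalgebraNormalizer K) :
    ∃ K : Subalgebra F (Matrix ι ι F), IsFieldSubalgebra r K ∧ H ≤ subalgebraNormalizer K := by
  obtain ⟨K', hK, hle⟩ := h
  exact ⟨pbK e K', isFieldSubalgebra_pbK e hK, le_subalgebraNormalizer_of_map e K' hle⟩

/-- tensor decomposition `n₁ ⊗ n₂` with a tensor form structure; `T₁`, `T₂` are the types of the factor forms -/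
theorem pull_tensor (e : ι ≃ κ) {f : (ι → F) → (ι → F) → F} {H : Subgroup (GL ι F)} {n₁ n₂ : ℕ} (σ : F → F)
    (T₁ : ((Fin n₁ → F) → (Fin n₁ → F) → F) → Prop) (T₂ : ((Fin n₂ → F) → (Fin n₂ → F) → F) → Prop)
    (h : ∃ (e' : κ ≃ Fin n₁ × Fin n₂) (P : GL κ F) (f₁ : (Fin n₁ → F) → (Fin n₁ → F) → F)
      (f₂ : (Fin n₂ → F) → (Fin n₂ → F) → F), T₁ f₁ ∧ T₂ f₂ ∧ IsTensorFormStructure σ (pf e f) f₁ f₂ e' P ∧
      H.map (glReindex e : GL ι F ≃* GL κ F).toMonoidHom ≤ tensorProductSubgroup n₁ n₂ e' P) :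
    ∃ (e' : ι ≃ Fin n₁ × Fin n₂) (P : GL ι F) (f₁ : (Fin n₁ → F) → (Fin n₁ → F) → F)
      (f₂ : (Fin n₂ → F) → (Fin n₂ → F) → F), T₁ f₁ ∧ T₂ f₂ ∧ IsTensorFormStructure σ f f₁ f₂ e' P ∧
      H ≤ tensorProductSubgroup n₁ n₂ e' P := by
  obtain ⟨e', P', f₁, f₂, h₁, h₂, hT, hle⟩ := h
  exact ⟨e.trans e', (glReindex e).symm P', f₁, f₂, h₁, h₂, tensorFormStructure_of_map e σ e' P' hT,
    le_tensorProductSubgroup_of_map e e' P' hle⟩

/-- tensor decomposition `n₁ ⊗ n₂` (no form) -/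
theorem pull_tensor' (e : ι ≃ κ) {H : Subgroup (GL ι F)} {n₁ n₂ : ℕ}
    (h : ∃ (e' : κ ≃ Fin n₁ × Fin n₂) (P : GL κ F),
      H.map (glReindex e : GL ι F ≃* GL κ F).toMonoidHom ≤ tensorProductSubgroup n₁ n₂ e' P) :
    ∃ (e' : ι ≃ Fin n₁ × Fin n₂) (P : GL ι F), H ≤ tensorProductSubgroup n₁ n₂ e' P := by
  obtain ⟨e', P', hle⟩ := h
  exact ⟨e.trans e', (glReindex e).symm P', le_tensorProductSubgroup_of_map e e' P' hle⟩

/-- subfield group with a form-rational structure -/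
theorem pull_subfield [Fintype F] (e : ι ≃ κ) {f : (ι → F) → (ι → F) → F} {H : Subgroup (GL ι F)}
    (h : ∃ (F₀ : Subfield F) (r : ℕ) (P : GL κ F) (ζ : F), r.Prime ∧ Fintype.card F = Nat.card F₀ ^ r ∧ ζ ≠ 0 ∧
      IsFormRationalStructure (pf e f) F₀ ζ P ∧
      H.map (glReindex e : GL ι F ≃* GL κ F).toMonoidHom ≤ subfieldSubgroup F₀ P) :
    ∃ (F₀ : Subfield F) (r : ℕ) (P : GL ι F) (ζ : F), r.Prime ∧ Fintype.card F = Nat.card F₀ ^ r ∧ ζ ≠ 0 ∧
      IsFormRationalStructure f F₀ ζ P ∧ H ≤ subfieldSubgroup F₀ P := by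
  obtain ⟨F₀, r, P', ζ, hr, hcard, hζ, hrat, hle⟩ := h
  exact ⟨F₀, r, (glReindex e).symm P', ζ, hr, hcard, hζ, formRational_of_map e F₀ ζ P' hrat,
    le_subfield_of_map e F₀ P' hle⟩

/-- quadratic exit: a quadratic form polarising to the form -/
theorem pull_quad (e : ι ≃ κ) {f : (ι → F) → (ι → F) → F} {H : Subgroup (GL ι F)}
    (h : ∃ Q : (κ → F) → F, IsNondegenerateQuadraticForm Q ∧ (∀ u v, QuadraticMap.polar Q u v = pf e f u v) ∧
      H.map (glReindex e : GL ι F ≃* GL κ F).toMonoidHom ≤ quadSimilarityGroup Q) :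
    ∃ Q : (ι → F) → F, IsNondegenerateQuadraticForm Q ∧ (∀ u v, QuadraticMap.polar Q u v = f u v) ∧
      H ≤ quadSimilarityGroup Q := by
  obtain ⟨Q', hQ', hpol, hle⟩ := h
  exact ⟨rq e.symm Q', rq_nondegenerate e.symm Q' hQ', polar_rq_symm e Q' hpol,
    le_quadSimilarityGroup_of_map e Q' hle⟩

/-- symplectic residual class -/
theorem pull_residual (e : ι ≃ κ) {H : Subgroup (GL ι F)}
    (h : InSymplecticResidualClass (H.map (glReindex e : GL ι F ≃* GL κ F).toMonoidHom)) :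
    InSymplecticResidualClass H :=
  inSymplecticResidualClass_of_map e h

/-! ### class 7 -/

theorem glReindex_symm_trans' {m t : ℕ} (e : ι ≃ κ) (e' : κ ≃ (Fin t → Fin m)) (k : GL (Fin t → Fin m) F) :
    (glReindex e).symm ((glReindex e'.symm : GL (Fin t → Fin m) F ≃* GL κ F) k) =
      (glReindex (e.trans e').symm : GL (Fin t → Fin m) F ≃* GL ι F) k := by
  apply Units.ext
  rw [glReindex_symm_val, glReindex_val, glReindex_val, Matrix.submatrix_submatrix]
  rfl

theorem le_tensorWreathSubgroup_of_map {m t : ℕ} (e : ι ≃ κ) {H : Subgroup (GL ι F)}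
    (e' : κ ≃ (Fin t → Fin m)) (P' : GL κ F)
    (h : H.map (glReindex e : GL ι F ≃* GL κ F).toMonoidHom ≤ tensorWreathSubgroup m t e' P') :
    H ≤ tensorWreathSubgroup m t (e.trans e') ((glReindex e).symm P') := by
  intro g hg
  obtain ⟨y, ⟨k, hk, rfl⟩, hy⟩ := h ⟨g, hg, rfl⟩
  refine ⟨(glReindex (e.trans e').symm : GL (Fin t → Fin m) F ≃* GL ι F) k, ⟨k, hk, rfl⟩, ?_⟩
  apply (glReindex e : GL ι F ≃* GL κ F).injective
  have hy' : P' * (glReindex e'.symm : GL (Fin t → Fin m) F ≃* GL κ F) k * P'⁻¹ = glReindex e g := hy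
  rw [← hy', ← glReindex_symm_trans']
  show glReindex e ((glReindex e).symm P' * (glReindex e).symm ((glReindex e'.symm) k) *
    ((glReindex e).symm P')⁻¹) = _
  rw [map_mul, map_mul, map_inv, MulEquiv.apply_symm_apply, MulEquiv.apply_symm_apply]

theorem tensorPowerFormStructure_of_map {k t : ℕ} (e : ι ≃ κ) {f : (ι → F) → (ι → F) → F} (σ : F → F)
    {f₁ : (Fin k → F) → (Fin k → F) → F} (e' : κ ≃ (Fin t → Fin k)) (P' : GL κ F)
    (h : IsTensorPowerFormStructure σ (pf e f) f₁ e' P') :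
    IsTensorPowerFormStructure σ f f₁ (e.trans e') ((glReindex e).symm P') := by
  obtain ⟨c, hc0, hc⟩ := h
  refine ⟨c, hc0, fun x y => ?_⟩
  have h1 := hc x y
  unfold pf at h1
  have h2 : ∀ w : (Fin t → Fin k) → F, th e ((P' : Matrix κ κ F) *ᵥ (w ∘ e')) =
      (((glReindex e).symm P' : GL ι F) : Matrix ι ι F) *ᵥ (w ∘ (e.trans e')) := by
    intro w
    have h3 := th_mulVec e ((glReindex e).symm P') (w ∘ e')
    rw [MulEquiv.apply_symm_apply] at h3
    rw [h3]
    rfl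
  rw [h2, h2] at h1
  exact h1

/-- tensor power decomposition with a tensor power form structure; `T₁` is the type of the factor form -/
theorem pull_tensorWreath (e : ι ≃ κ) {f : (ι → F) → (ι → F) → F} {H : Subgroup (GL ι F)} {k t : ℕ} (σ : F → F)
    (T₁ : ((Fin k → F) → (Fin k → F) → F) → Prop)
    (h : ∃ (e' : κ ≃ (Fin t → Fin k)) (P : GL κ F) (f₁ : (Fin k → F) → (Fin k → F) → F), T₁ f₁ ∧
      IsTensorPowerFormStructure σ (pf e f) f₁ e' P ∧
      H.map (glReindex e : GL ι F ≃* GL κ F).toMonoidHom ≤ tensorWreathSubgroup k t e' P) :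
    ∃ (e' : ι ≃ (Fin t → Fin k)) (P : GL ι F) (f₁ : (Fin k → F) → (Fin k → F) → F), T₁ f₁ ∧
      IsTensorPowerFormStructure σ f f₁ e' P ∧ H ≤ tensorWreathSubgroup k t e' P := by
  obtain ⟨e', P', f₁, h₁, hT, hle⟩ := h
  exact ⟨e.trans e', (glReindex e).symm P', f₁, h₁, tensorPowerFormStructure_of_map e σ e' P' hT,
    le_tensorWreathSubgroup_of_map e e' P' hle⟩

end Cfsg.Agent.Helper2.AschTr
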