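import Mathlib
import Cfsg.Prelude.Def_GeometricClasses
import Cfsg.Agent.Lead.AschBase
import Cfsg.Agent.Helper3.AschForms

/-!
# The reducible case for the isometry group of a reflexive sesquilinear form (helper2)

Generic version of `unitary_reducible` (helper3) / `orth_reducible` (helper2): `f` is `IsSesq σ f`, reflexive
(`f u v = 0 → f v u = 0`) and non-degenerate on `Fin n → F`; a reducible group `H` of isometries of `f` stabilises a
totally singular subspace or a non-degenerate subspace `W` (with non-degenerate invariant complement `W^⊥`) of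
dimension at most `n / 2`.  Serves the symplectic, unitary and orthogonal (polar form) families.
-/

set_option autoImplicit false

namespace Cfsg.Agent.Helper2.AschRefl

open Cfsg Cfsg.Geo Cfsg.Agent.Lead.Asch Cfsg.Agent.Helper3.Asch
open scoped MatrixGroups Matrix

variable {n : ℕ} {F : Type*} [Field F]

/-- a reflexive sesquilinear form -/
structure Refl (σ : F ≃+* F) (f : (Fin n → F) → (Fin n → F) → F) : Prop where
  sesq : IsSesq σ f
  refl : ∀ u v, f u v = 0 → f v u = 0

variable {σ : F ≃+* F} {f : (Fin n → F) → (Fin n → F) → F}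

theorem Refl.zero_left (hf : Refl σ f) (v : Fin n → F) : f 0 v = 0 := by
  have h := hf.sesq.smul_left (0 : F) (0 : Fin n → F) v
  rw [zero_smul, zero_mul] at h
  exact h

theorem Refl.zero_right (hf : Refl σ f) (v : Fin n → F) : f v 0 = 0 :=
  hf.refl _ _ (hf.zero_left v)

theorem Refl.of_symplectic (hf : IsSymplecticForm f) : Refl (RingEquiv.refl F) f where
  sesq := IsSesq.of_bilinear hf.bilinear
  refl := fun u v h => by rw [hf.skew, h, neg_zero]

theorem Refl.of_unitary (hf : IsUnitaryForm σ f) : Refl σ f where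
  sesq := IsSesq.of_unitary hf
  refl := fun u v h => by rw [hf.herm, h, map_zero]

theorem Refl.of_symmetric (hf : IsBilinearForm f) (hs : ∀ u v, f u v = f v u) : Refl (RingEquiv.refl F) f where
  sesq := IsSesq.of_bilinear hf
  refl := fun u v h => by rw [hs, h]

/-- the orthogonal complement of `W` -/
def perp (hf : Refl σ f) (W : Submodule F (Fin n → F)) : Submodule F (Fin n → F) where
  carrier := {v | ∀ w ∈ W, f v w = 0}
  add_mem' {a b} ha hb := by
    intro w hw
    rw [hf.sesq.add_left, ha w hw, hb w hw, add_zero]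
  zero_mem' := by
    intro w _
    exact hf.zero_left w
  smul_mem' c {a} ha := by
    intro w hw
    rw [hf.sesq.smul_left, ha w hw, mul_zero]

theorem mem_perp {hf : Refl σ f} {W : Submodule F (Fin n → F)} {v : Fin n → F} :
    v ∈ perp hf W ↔ ∀ w ∈ W, f v w = 0 := Iff.rfl

/-- `dim W^⊥ ≥ n - dim W` -/
theorem le_finrank_perp (hf : Refl σ f) (W : Submodule F (Fin n → F)) :
    n ≤ Module.finrank F W + Module.finrank F (perp hf W) := by
  classical
  set d := Module.finrank F W with hd
  let b := Module.finBasis F W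
  let Φ : (Fin n → F) →ₗ[F] (Fin d → F) :=
    { toFun := fun v j => f v (b j : Fin n → F)
      map_add' := fun x y => by funext j; simp [hf.sesq.add_left]
      map_smul' := fun c x => by funext j; simp [hf.sesq.smul_left] }
  have hker : LinearMap.ker Φ ≤ perp hf W := by
    intro v hv
    rw [LinearMap.mem_ker] at hv
    intro w hw
    have hwspan : (⟨w, hw⟩ : W) ∈ Submodule.span F (Set.range b) := by
      rw [b.span_eq]; trivial
    have key : ∀ x : W, x ∈ Submodule.span F (Set.range b) → f v (x : Fin n → F) = 0 := by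
      intro x hx
      induction hx using Submodule.span_induction with
      | mem y hy =>
        obtain ⟨j, rfl⟩ := hy
        exact congrFun hv j
      | zero => exact hf.zero_right v
      | add x y _ _ hx hy =>
        rw [Submodule.coe_add, hf.sesq.add_right, hx, hy, add_zero]
      | smul c x _ hx =>
        rw [Submodule.coe_smul, hf.sesq.smul_right, hx, mul_zero]
    exact key ⟨w, hw⟩ hwspan
  have h1 := LinearMap.finrank_range_add_finrank_ker Φ
  rw [Module.finrank_fin_fun] at h1
  have h2 : Module.finrank F (LinearMap.range Φ) ≤ d := by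
    have := Submodule.finrank_le (LinearMap.range Φ)
    rwa [Module.finrank_fin_fun] at this
  have h3 : Module.finrank F (LinearMap.ker Φ) ≤ Module.finrank F (perp hf W) :=
    Submodule.finrank_mono hker
  omega

/-- isometries of `f` stabilising `W` stabilise `W^⊥` -/
theorem le_stab_perp (hf : Refl σ f) {H : Subgroup (GL (Fin n) F)}
    (hiso : ∀ g ∈ H, ∀ u v, f ((g : Matrix (Fin n) (Fin n) F) *ᵥ u) ((g : Matrix (Fin n) (Fin n) F) *ᵥ v) = f u v)
    {W : Submodule F (Fin n → F)} (hW : H ≤ subspaceStabilizer W) :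
    H ≤ subspaceStabilizer (perp hf W) := by
  have half : ∀ g ∈ H, ∀ v, v ∈ perp hf W → (g : Matrix (Fin n) (Fin n) F) *ᵥ v ∈ perp hf W := by
    intro g hg v hv w hw
    have hginv : ((g⁻¹ : GL (Fin n) F) : Matrix (Fin n) (Fin n) F) *ᵥ w ∈ W :=
      (mem_subspaceStabilizer_iff.mp (hW (H.inv_mem hg)) w).mp hw
    have h1 : (g : Matrix (Fin n) (Fin n) F) *ᵥ
        (((g⁻¹ : GL (Fin n) F) : Matrix (Fin n) (Fin n) F) *ᵥ w) = w := by
      rw [Matrix.mulVec_mulVec, ← Units.val_mul, mul_inv_cancel, Units.val_one, Matrix.one_mulVec]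
    rw [← h1, hiso g hg]
    exact hv _ hginv
  intro g hg
  rw [mem_subspaceStabilizer_iff]
  intro v
  constructor
  · exact half g hg v
  · intro hv
    have := half g⁻¹ (H.inv_mem hg) _ hv
    rwa [Matrix.mulVec_mulVec, ← Units.val_mul, inv_mul_cancel, Units.val_one, Matrix.one_mulVec] at this

theorem le_stab_inf {H : Subgroup (GL (Fin n) F)} {W U : Submodule F (Fin n → F)}
    (hW : H ≤ subspaceStabilizer W) (hU : H ≤ subspaceStabilizer U) :
    H ≤ subspaceStabilizer (W ⊓ U) := by
  intro g hg
  rw [mem_subspaceStabilizer_iff]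
  intro v
  rw [Submodule.mem_inf, Submodule.mem_inf, ← mem_subspaceStabilizer_iff.mp (hW hg) v,
    ← mem_subspaceStabilizer_iff.mp (hU hg) v]

/-- a subspace meeting its orthogonal complement trivially: dimensions add up, the two span, and both are
non-degenerate -/
theorem nondeg_of_inf_perp (hf : Refl σ f) (hnd : IsNondegenerateForm f) (W : Submodule F (Fin n → F))
    (hR : W ⊓ perp hf W = ⊥) :
    Module.finrank F W + Module.finrank F (perp hf W) = n ∧ W ⊔ perp hf W = ⊤ ∧
      IsNondegenerateOn f W ∧ IsNondegenerateOn f (perp hf W) := by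
  have hdisj : Disjoint W (perp hf W) := disjoint_iff.mpr hR
  have hsum : Module.finrank F W + Module.finrank F (perp hf W) = n := by
    have h1 := le_finrank_perp hf W
    have h2 := Submodule.finrank_add_finrank_le_of_disjoint hdisj
    rw [Module.finrank_fin_fun] at h2
    omega
  have hsup : W ⊔ perp hf W = ⊤ := by
    apply Submodule.eq_top_of_finrank_eq
    have h3 := Submodule.finrank_sup_add_finrank_inf_eq W (perp hf W)
    rw [hR, finrank_bot, add_zero] at h3
    rw [h3, hsum, Module.finrank_fin_fun]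
  refine ⟨hsum, hsup, ?_, ?_⟩
  · intro w hw hw0
    have h1 : ∃ x ∈ W, f w x ≠ 0 := by
      by_contra hcon
      push Not at hcon
      have : w ∈ W ⊓ perp hf W := ⟨hw, fun x hx => hcon x hx⟩
      rw [hR] at this
      exact hw0 ((Submodule.mem_bot F).mp this)
    obtain ⟨x, hx, hxw⟩ := h1
    exact ⟨⟨x, hx, fun h => hxw (hf.refl _ _ h)⟩, ⟨x, hx, hxw⟩⟩
  · intro w hw hw0
    have h1 : ∃ x ∈ perp hf W, f x w ≠ 0 := by
      by_contra hcon
      push Not at hcon
      obtain ⟨y, hy⟩ := (hnd w hw0).1
      apply hy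
      have hymem : y ∈ W ⊔ perp hf W := by rw [hsup]; trivial
      obtain ⟨a, ha, b, hb, rfl⟩ := Submodule.mem_sup.mp hymem
      rw [hf.sesq.add_left, hcon b hb, add_zero]
      exact hf.refl _ _ (hw a ha)
    obtain ⟨x, hx, hxw⟩ := h1
    exact ⟨⟨x, hx, hxw⟩, ⟨x, hx, fun h => hxw (hf.refl _ _ h)⟩⟩

/-- **the reducible case**, full information: a minimal invariant subspace is totally singular, or non-degenerate with
non-degenerate invariant orthogonal complement. -/
theorem refl_reducible_aux (hf : Refl σ f) (hnd : IsNondegenerateForm f) {H : Subgroup (GL (Fin n) F)}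
    (hiso : ∀ g ∈ H, ∀ u v, f ((g : Matrix (Fin n) (Fin n) F) *ᵥ u) ((g : Matrix (Fin n) (Fin n) F) *ᵥ v) = f u v)
    (hred : ¬ ActsIrreducibly (matrixSet H)) :
    ∃ W : Submodule F (Fin n → F), W ≠ ⊥ ∧ W ≠ ⊤ ∧ H ≤ subspaceStabilizer W ∧
      (IsTotallySingularFor f W ∨
        (perp hf W ≠ ⊥ ∧ perp hf W ≠ ⊤ ∧ H ≤ subspaceStabilizer (perp hf W) ∧ W ⊓ perp hf W = ⊥ ∧
          W ⊔ perp hf W = ⊤ ∧ Module.finrank F W + Module.finrank F (perp hf W) = n ∧
          IsNondegenerateOn f W ∧ IsNondegenerateOn f (perp hf W))) := by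
  classical
  let S : Set (Submodule F (Fin n → F)) := {W | W ≠ ⊥ ∧ W ≠ ⊤ ∧ H ≤ subspaceStabilizer W}
  have hne : S.Nonempty := exists_stab_of_not_irred hred
  obtain ⟨W, hWS, hmin⟩ := WellFounded.has_min
    (measure (fun W : Submodule F (Fin n → F) => Module.finrank F W)).wf S hne
  obtain ⟨hW0, hW1, hWle⟩ := hWS
  have hPle := le_stab_perp hf hiso hWle
  have hRle := le_stab_inf hWle hPle
  refine ⟨W, hW0, hW1, hWle, ?_⟩
  by_cases hR : W ⊓ perp hf W = ⊥
  · right
    obtain ⟨hsum, hsup, hndW, hndP⟩ := nondeg_of_inf_perp hf hnd W hR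
    refine ⟨?_, ?_, hPle, hR, hsup, hsum, hndW, hndP⟩
    · intro h
      rw [h, sup_bot_eq] at hsup
      exact hW1 hsup
    · intro h
      rw [h, inf_top_eq] at hR
      exact hW0 hR
  · left
    have hRS : W ⊓ perp hf W ∈ S := by
      refine ⟨hR, ?_, hRle⟩
      intro h
      apply hW1
      rw [eq_top_iff, ← h]
      exact inf_le_left
    have h1 : ¬ Module.finrank F ↥(W ⊓ perp hf W) < Module.finrank F W := hmin _ hRS
    have h3 : W ⊓ perp hf W = W :=
      Submodule.eq_of_le_of_finrank_le inf_le_left (not_lt.mp h1)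
    intro u hu v hv
    have : u ∈ W ⊓ perp hf W := by rw [h3]; exact hu
    exact this.2 v hv

/-- **the reducible case**: a totally singular invariant subspace, or a non-degenerate one of dimension `≤ n/2`. -/
theorem refl_reducible (hf : Refl σ f) (hnd : IsNondegenerateForm f) {H : Subgroup (GL (Fin n) F)}
    (hiso : ∀ g ∈ H, ∀ u v, f ((g : Matrix (Fin n) (Fin n) F) *ᵥ u) ((g : Matrix (Fin n) (Fin n) F) *ᵥ v) = f u v)
    (hred : ¬ ActsIrreducibly (matrixSet H)) :
    (∃ W : Submodule F (Fin n → F), W ≠ ⊥ ∧ W ≠ ⊤ ∧ IsTotallySingularFor f W ∧ H ≤ subspaceStabilizer W) ∨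
    (∃ W : Submodule F (Fin n → F), W ≠ ⊥ ∧ W ≠ ⊤ ∧ IsNondegenerateOn f W ∧ 2 * Module.finrank F W ≤ n ∧
      H ≤ subspaceStabilizer W) := by
  obtain ⟨W, hW0, hW1, hWle, h | ⟨hP0, hP1, hPle, -, -, hsum, hndW, hndP⟩⟩ := refl_reducible_aux hf hnd hiso hred
  · exact Or.inl ⟨W, hW0, hW1, h, hWle⟩
  · right
    by_cases hle : 2 * Module.finrank F W ≤ n
    · exact ⟨W, hW0, hW1, hndW, hle, hWle⟩
    · exact ⟨perp hf W, hP0, hP1, hndP, by omega, hPle⟩

/-- in the case of equal dimensions the two subspaces form a non-degenerate decomposition -/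
theorem nondegDecomp_pair (hf : Refl σ f) {m : ℕ} (hm : 0 < m) {W : Submodule F (Fin n → F)}
    (hR : W ⊓ perp hf W = ⊥) (hsup : W ⊔ perp hf W = ⊤) (hW : Module.finrank F W = m)
    (hP : Module.finrank F (perp hf W) = m) (hndW : IsNondegenerateOn f W)
    (hndP : IsNondegenerateOn f (perp hf W)) :
    IsNondegenerateMDecomposition f m (![W, perp hf W] : Fin 2 → Submodule F (Fin n → F)) where
  decomp :=
    { two_le := le_refl 2
      pos := hm
      finrank_eq := fun i => by
        fin_cases i
        · exact hW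
        · exact hP
      indep := by
        rw [iSupIndep_pair (by decide : (0 : Fin 2) ≠ 1) (by intro k; fin_cases k <;> simp)]
        simpa using disjoint_iff.mpr hR
      iSup_eq_top := by
        rw [← hsup]
        apply le_antisymm
        · apply iSup_le
          intro i
          fin_cases i
          · exact le_sup_left
          · exact le_sup_right
        · apply sup_le
          · exact le_iSup (![W, perp hf W] : Fin 2 → Submodule F (Fin n → F)) 0
          · exact le_iSup (![W, perp hf W] : Fin 2 → Submodule F (Fin n → F)) 1 }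
  nondegenerate := fun i => by
    fin_cases i
    · exact hndW
    · exact hndP
  orthogonal := by
    intro i j hij u hu v hv
    fin_cases i <;> fin_cases j
    · exact absurd rfl hij
    · exact hf.refl _ _ (hv u hu)
    · exact hu v hv
    · exact absurd rfl hij

end Cfsg.Agent.Helper2.AschRefl
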