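import Mathlib
import Cfsg.Prelude.Def_GeometricClasses

/-!
# Ternary symmetric forms over the field with three elements (helper2)

For the ASCH-COMP-Sp project: over `F_3` a non-degenerate symmetric bilinear form on `F^3` has an orthogonal basis of
vectors of equal norm `δ`, and every similarity of the form permutes the three lines spanned by the basis vectors.
Hence `Sp_{n₁}(3) ⊗ O_3(3)` stabilises a decomposition into three non-degenerate `n₁`-spaces (part B).
-/

set_option autoImplicit false

namespace Cfsg.Agent.Helper2.TensorO3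

open Cfsg Cfsg.Geo
open scoped MatrixGroups Matrix

variable {F : Type*} [Field F] [Fintype F]

theorem three_eq_zero (hq : Fintype.card F = 3) : (3 : F) = 0 := by
  have h := FiniteField.cast_card_eq_zero F
  rw [hq] at h
  exact_mod_cast h

theorem two_ne_zero3 (hq : Fintype.card F = 3) : (2 : F) ≠ 0 := by
  intro h
  have h3 := three_eq_zero hq
  have : (1 : F) = 0 := by linear_combination h3 - h
  exact one_ne_zero this

theorem sq_eq_one (hq : Fintype.card F = 3) {c : F} (hc : c ≠ 0) : c ^ 2 = 1 := by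
  have h := FiniteField.pow_card_sub_one_eq_one c hc
  rw [hq] at h
  exact h

theorem sq_eq_zero_or_one (hq : Fintype.card F = 3) (c : F) : c ^ 2 = 0 ∨ c ^ 2 = 1 := by
  by_cases hc : c = 0
  · left; rw [hc]; ring
  · right; exact sq_eq_one hq hc

theorem eq_one_or_neg_one (hq : Fintype.card F = 3) {c : F} (hc : c ≠ 0) : c = 1 ∨ c = -1 := by
  have h := sq_eq_one hq hc
  have : (c - 1) * (c + 1) = 0 := by linear_combination h
  rcases mul_eq_zero.1 this with h | h
  · exact Or.inl (sub_eq_zero.1 h)
  · exact Or.inr (eq_neg_of_add_eq_zero_left h)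

/-- three squares adding up to `1`: exactly one is non-zero -/
theorem exists_unique_ne_zero (hq : Fintype.card F = 3) (t : Fin 3 → F) (h : ∑ l, t l ^ 2 = 1) :
    ∃ l₀, t l₀ ≠ 0 ∧ ∀ l, l ≠ l₀ → t l = 0 := by
  have h3 := three_eq_zero hq
  have h2 := two_ne_zero3 hq
  rw [Fin.sum_univ_three] at h
  rcases sq_eq_zero_or_one hq (t 0) with h0 | h0 <;> rcases sq_eq_zero_or_one hq (t 1) with h1 | h1 <;>
    rcases sq_eq_zero_or_one hq (t 2) with h2' | h2' <;> rw [h0, h1, h2'] at h
  · exfalso; simp at h
  · refine ⟨2, ?_, ?_⟩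
    · intro hz; rw [hz] at h2'; simp at h2'
    · intro l hl
      fin_cases l
      · exact pow_eq_zero_iff (two_ne_zero) |>.1 h0
      · exact pow_eq_zero_iff (two_ne_zero) |>.1 h1
      · exact absurd rfl hl
  · refine ⟨1, ?_, ?_⟩
    · intro hz; rw [hz] at h1; simp at h1
    · intro l hl
      fin_cases l
      · exact pow_eq_zero_iff (two_ne_zero) |>.1 h0
      · exact absurd rfl hl
      · exact pow_eq_zero_iff (two_ne_zero) |>.1 h2'
  · exfalso
    have : (1 : F) = 0 := by linear_combination h
    exact one_ne_zero this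
  · refine ⟨0, ?_, ?_⟩
    · intro hz; rw [hz] at h0; simp at h0
    · intro l hl
      fin_cases l
      · exact absurd rfl hl
      · exact pow_eq_zero_iff (two_ne_zero) |>.1 h1
      · exact pow_eq_zero_iff (two_ne_zero) |>.1 h2'
  · exfalso
    have : (1 : F) = 0 := by linear_combination h
    exact one_ne_zero this
  · exfalso
    have : (1 : F) = 0 := by linear_combination h
    exact one_ne_zero this
  · exfalso
    have : (2 : F) = 0 := by linear_combination h
    exact h2 this

/-! ### an orthogonal basis of equal norms -/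

omit [Fintype F] in
/-- vectors with a scalar Gram matrix `δ • 1`, `δ ≠ 0`, are linearly independent -/
theorem linearIndependent_of_gram {κ : Type} [Fintype κ] [DecidableEq κ] {f : (κ → F) → (κ → F) → F}
    (hf : IsBilinearForm f) {w : Fin 3 → (κ → F)} {δ : F} (hδ : δ ≠ 0)
    (hw : ∀ k l, f (w k) (w l) = if k = l then δ else 0) : LinearIndependent F w := by
  rw [Fintype.linearIndependent_iff]
  intro a ha l
  have hz : f 0 (w l) = 0 := by
    have h := hf.smul_left (0 : F) (0 : κ → F) (w l)
    rw [zero_smul, zero_mul] at h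
    exact h
  have h1 : f (∑ k, a k • w k) (w l) = a l * δ := by
    rw [Fin.sum_univ_three, hf.add_left, hf.add_left, hf.smul_left, hf.smul_left, hf.smul_left, hw, hw, hw]
    fin_cases l <;> simp
  rw [ha, hz] at h1
  rcases mul_eq_zero.1 h1.symm with h | h
  · exact h
  · exact absurd h hδ

/-- from an orthogonal triple with norms `c, c, -c` to one with norms `-c, -c, -c` -/
theorem equal_norm_of_two (hq : Fintype.card F = 3) {κ : Type} [Fintype κ] [DecidableEq κ]
    {f : (κ → F) → (κ → F) → F} (hf : IsBilinearForm f) (hs : ∀ u v, f u v = f v u)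
    (v₁ v₂ v₃ : κ → F) (c : F) (h11 : f v₁ v₁ = c) (h22 : f v₂ v₂ = c) (h33 : f v₃ v₃ = -c)
    (h12 : f v₁ v₂ = 0) (h13 : f v₁ v₃ = 0) (h23 : f v₂ v₃ = 0) :
    ∀ k l, f ((![v₁ + v₂, v₁ + (-1 : F) • v₂, v₃] : Fin 3 → (κ → F)) k)
      ((![v₁ + v₂, v₁ + (-1 : F) • v₂, v₃] : Fin 3 → (κ → F)) l) = if k = l then -c else 0 := by
  have h3 := three_eq_zero hq
  have h21 : f v₂ v₁ = 0 := by rw [hs]; exact h12
  have haa : f (v₁ + v₂) (v₁ + v₂) = -c := by
    rw [hf.add_left, hf.add_right, hf.add_right, h11, h12, h21, h22]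
    linear_combination c * h3
  have hab : f (v₁ + v₂) (v₁ + (-1 : F) • v₂) = 0 := by
    rw [hf.add_left, hf.add_right, hf.add_right, hf.smul_right, hf.smul_right, h11, h12, h21, h22]
    ring
  have hbb : f (v₁ + (-1 : F) • v₂) (v₁ + (-1 : F) • v₂) = -c := by
    rw [hf.add_left, hf.add_right, hf.add_right, hf.smul_left, hf.smul_left, hf.smul_right, hf.smul_right,
      h11, h12, h21, h22]
    linear_combination c * h3
  have ha3 : f (v₁ + v₂) v₃ = 0 := by
    rw [hf.add_left, h13, h23, add_zero]
  have hb3 : f (v₁ + (-1 : F) • v₂) v₃ = 0 := by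
    rw [hf.add_left, hf.smul_left, h13, h23, mul_zero, add_zero]
  have hba : f (v₁ + (-1 : F) • v₂) (v₁ + v₂) = 0 := by rw [hs]; exact hab
  have h3a : f v₃ (v₁ + v₂) = 0 := by rw [hs]; exact ha3
  have h3b : f v₃ (v₁ + (-1 : F) • v₂) = 0 := by rw [hs]; exact hb3
  intro k l
  fin_cases k <;> fin_cases l
  · exact haa
  · exact hab
  · exact ha3
  · exact hba
  · exact hbb
  · exact hb3
  · exact h3a
  · exact h3b
  · exact h33

theorem exists_equal_norm_basis (hq : Fintype.card F = 3) (f₂ : (Fin 3 → F) → (Fin 3 → F) → F)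
    (hf₂ : IsSymmetricForm f₂) :
    ∃ (w : Fin 3 → (Fin 3 → F)) (δ : F), δ ≠ 0 ∧ ∀ k l, f₂ (w k) (w l) = if k = l then δ else 0 := by
  classical
  have h2 := two_ne_zero3 hq
  letI : Invertible (2 : F) := invertibleOfNonzero h2
  have hb := hf₂.bilinear
  let B : LinearMap.BilinForm F (Fin 3 → F) :=
    LinearMap.mk₂ F f₂ hb.add_left hb.smul_left hb.add_right hb.smul_right
  have hBapp : ∀ u v, B u v = f₂ u v := fun u v => rfl
  have hBs : LinearMap.IsSymm B := by
    refine ⟨fun u v => ?_⟩
    show B u v = B v u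
    rw [hBapp, hBapp, hf₂.symm]
  obtain ⟨v0, hv0⟩ := LinearMap.BilinForm.exists_orthogonal_basis hBs
  have hdim : Module.finrank F (Fin 3 → F) = 3 := Module.finrank_fin_fun F
  let v : Module.Basis (Fin 3) F (Fin 3 → F) := v0.reindex (finCongr hdim)
  have hv : ∀ i j, i ≠ j → f₂ (v i) (v j) = 0 := by
    intro i j hij
    have := hv0 (i := (finCongr hdim).symm i) (j := (finCongr hdim).symm j)
      (fun h => hij ((finCongr hdim).symm.injective h))
    simpa [v, hBapp] using this
  -- norms are non-zero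
  have hnorm : ∀ i, f₂ (v i) (v i) ≠ 0 := by
    intro i h0
    have hall : ∀ x, f₂ (v i) x = 0 := by
      intro x
      have hx : x = ∑ j, (v.repr x j) • v j := (v.sum_repr x).symm
      have : B (v i) x = 0 := by
        rw [hx, map_sum]
        apply Finset.sum_eq_zero
        intro j _
        rw [map_smul, smul_eq_mul, hBapp]
        by_cases hij : i = j
        · subst hij; rw [h0, mul_zero]
        · rw [hv i j hij, mul_zero]
      exact this
    obtain ⟨x, hx⟩ := (hf₂.nondegenerate (v i) (v.ne_zero i)).2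
    exact hx (hall x)
  have hpm : ∀ i, f₂ (v i) (v i) = 1 ∨ f₂ (v i) (v i) = -1 := fun i => eq_one_or_neg_one hq (hnorm i)
  -- case analysis
  have hv' : ∀ i j, i ≠ j → f₂ (v j) (v i) = 0 := fun i j hij => by rw [hf₂.symm]; exact hv i j hij
  by_cases h01 : f₂ (v 0) (v 0) = f₂ (v 1) (v 1)
  · by_cases h02 : f₂ (v 0) (v 0) = f₂ (v 2) (v 2)
    · refine ⟨v, f₂ (v 0) (v 0), hnorm 0, ?_⟩
      intro k l
      by_cases hkl : k = l
      · subst hkl
        rw [if_pos rfl]
        fin_cases k
        · rfl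
        · exact h01.symm
        · exact h02.symm
      · rw [if_neg hkl]; exact hv k l hkl
    · -- norms c, c, -c
      have h22 : f₂ (v 2) (v 2) = - f₂ (v 0) (v 0) := by
        rcases hpm 0 with a | a <;> rcases hpm 2 with b | b
        · exact absurd (a.trans b.symm) h02
        · rw [a, b]
        · rw [a, b]; ring
        · exact absurd (a.trans b.symm) h02
      exact ⟨_, - f₂ (v 0) (v 0), neg_ne_zero.2 (hnorm 0),
        equal_norm_of_two hq hb hf₂.symm (v 0) (v 1) (v 2) _ rfl h01.symm h22
          (hv 0 1 (by decide)) (hv 0 2 (by decide)) (hv 1 2 (by decide))⟩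
  · -- v 0 and v 1 have different norms; v 2 agrees with one of them
    have h11 : f₂ (v 1) (v 1) = - f₂ (v 0) (v 0) := by
      rcases hpm 0 with a | a <;> rcases hpm 1 with b | b
      · exact absurd (a.trans b.symm) h01
      · rw [a, b]
      · rw [a, b]; ring
      · exact absurd (a.trans b.symm) h01
    by_cases h02 : f₂ (v 0) (v 0) = f₂ (v 2) (v 2)
    · -- norms c (0), -c (1), c (2): use v 0, v 2, v 1
      exact ⟨_, - f₂ (v 0) (v 0), neg_ne_zero.2 (hnorm 0),
        equal_norm_of_two hq hb hf₂.symm (v 0) (v 2) (v 1) _ rfl h02.symm h11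
          (hv 0 2 (by decide)) (hv 0 1 (by decide)) (hv 2 1 (by decide))⟩
    · -- norms c (0), -c (1), -c (2): use v 1, v 2, v 0 with c' = -c
      have h22 : f₂ (v 2) (v 2) = f₂ (v 1) (v 1) := by
        rcases hpm 0 with a | a <;> rcases hpm 2 with b | b
        · exact absurd (a.trans b.symm) h02
        · rw [h11, a, b]
        · rw [h11, a, b]; ring
        · exact absurd (a.trans b.symm) h02
      have h00 : f₂ (v 0) (v 0) = - f₂ (v 1) (v 1) := by rw [h11]; ring
      exact ⟨_, - f₂ (v 1) (v 1), neg_ne_zero.2 (hnorm 1),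
        equal_norm_of_two hq hb hf₂.symm (v 1) (v 2) (v 0) _ rfl h22 h00
          (hv 1 2 (by decide)) (hv 1 0 (by decide)) (hv 2 0 (by decide))⟩

end Cfsg.Agent.Helper2.TensorO3
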