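import Mathlib
import Cfsg.Prelude.Def_GeometricClasses
import Cfsg.Agent.Helper2.TensorO3A

/-!
# `Sp_{n₁}(3) ⊗ O_3(3)` is imprimitive (helper2), part B: pure tensors and the decomposition
-/

set_option autoImplicit false

namespace Cfsg.Agent.Helper2.TensorO3

open Cfsg Cfsg.Geo
open scoped MatrixGroups Matrix Kronecker

variable {F : Type*} [Field F]

/-! ### expansion of a bilinear form in the standard basis -/

theorem bilin_zero_left {κ : Type} {f : (κ → F) → (κ → F) → F} (hf : IsBilinearForm f) (v : κ → F) :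
    f 0 v = 0 := by
  have h := hf.smul_left (0 : F) (0 : κ → F) v
  rw [zero_smul, zero_mul] at h
  exact h

theorem bilin_zero_right {κ : Type} {f : (κ → F) → (κ → F) → F} (hf : IsBilinearForm f) (v : κ → F) :
    f v 0 = 0 := by
  have h := hf.smul_right (0 : F) v (0 : κ → F)
  rw [zero_smul, zero_mul] at h
  exact h

theorem bilin_sum_left {κ : Type} {f : (κ → F) → (κ → F) → F} (hf : IsBilinearForm f) {α : Type*}
    (s : Finset α) (u : α → (κ → F)) (v : κ → F) : f (∑ a ∈ s, u a) v = ∑ a ∈ s, f (u a) v := by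
  classical
  induction s using Finset.induction_on with
  | empty => simp [bilin_zero_left hf]
  | insert a s ha ih => rw [Finset.sum_insert ha, Finset.sum_insert ha, hf.add_left, ih]

theorem bilin_sum_right {κ : Type} {f : (κ → F) → (κ → F) → F} (hf : IsBilinearForm f) {α : Type*}
    (s : Finset α) (u : κ → F) (v : α → (κ → F)) : f u (∑ a ∈ s, v a) = ∑ a ∈ s, f u (v a) := by
  classical
  induction s using Finset.induction_on with
  | empty => simp [bilin_zero_right hf]
  | insert a s ha ih => rw [Finset.sum_insert ha, Finset.sum_insert ha, hf.add_right, ih]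

theorem bilin_expand {κ : Type} [Fintype κ] [DecidableEq κ] {f : (κ → F) → (κ → F) → F}
    (hf : IsBilinearForm f) (x y : κ → F) : f x y = formOfGram id (gramMatrix f) x y := by
  have hx : x = ∑ a, x a • (Pi.single a (1 : F) : κ → F) := by
    funext i
    simp [Finset.sum_apply, Pi.single_apply]
  have hy : y = ∑ b, y b • (Pi.single b (1 : F) : κ → F) := by
    funext i
    simp [Finset.sum_apply, Pi.single_apply]
  unfold formOfGram gramMatrix
  conv_lhs => rw [hx, hy]
  rw [bilin_sum_left hf]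
  apply Finset.sum_congr rfl
  intro a _
  rw [bilin_sum_right hf]
  apply Finset.sum_congr rfl
  intro b _
  rw [hf.smul_left, hf.smul_right]
  simp only [id]
  ring

/-! ### pure tensors -/

variable {n₁ : ℕ}

/-- the pure tensor `x ⊗ w` as a coordinate vector -/
def pt (x : Fin n₁ → F) (w : Fin 3 → F) : Fin n₁ × Fin 3 → F := fun p => x p.1 * w p.2

theorem formOfGram_kron (G₁ : Matrix (Fin n₁) (Fin n₁) F) (G₂ : Matrix (Fin 3) (Fin 3) F)
    (x y : Fin n₁ → F) (w w' : Fin 3 → F) :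
    formOfGram id (G₁ ⊗ₖ G₂) (pt x w) (pt y w') = formOfGram id G₁ x y * formOfGram id G₂ w w' := by
  unfold formOfGram pt
  simp only [Fintype.sum_prod_type, Matrix.kroneckerMap_apply, id]
  rw [Finset.sum_mul]
  apply Finset.sum_congr rfl
  intro i _
  rw [Finset.sum_comm, Finset.sum_mul]
  apply Finset.sum_congr rfl
  intro j _
  rw [Finset.mul_sum]
  apply Finset.sum_congr rfl
  intro l _
  rw [Finset.mul_sum]
  apply Finset.sum_congr rfl
  intro l' _
  ring

theorem kron_mulVec_pt (a : Matrix (Fin n₁) (Fin n₁) F) (b : Matrix (Fin 3) (Fin 3) F)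
    (x : Fin n₁ → F) (w : Fin 3 → F) : (a ⊗ₖ b) *ᵥ pt x w = pt (a *ᵥ x) (b *ᵥ w) := by
  funext p
  obtain ⟨i, l⟩ := p
  unfold pt
  simp only [Matrix.mulVec, dotProduct, Fintype.sum_prod_type, Matrix.kroneckerMap_apply]
  rw [Finset.sum_mul_sum]
  apply Finset.sum_congr rfl
  intro j _
  apply Finset.sum_congr rfl
  intro l' _
  ring

theorem pt_smul_right (s : F) (x : Fin n₁ → F) (w : Fin 3 → F) : pt x (s • w) = pt (s • x) w := by
  funext p
  unfold pt
  simp only [Pi.smul_apply, smul_eq_mul]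
  ring

theorem pt_add_left (x y : Fin n₁ → F) (w : Fin 3 → F) : pt (x + y) w = pt x w + pt y w := by
  funext p
  unfold pt
  simp only [Pi.add_apply]
  ring

theorem pt_smul_left (s : F) (x : Fin n₁ → F) (w : Fin 3 → F) : pt (s • x) w = s • pt x w := by
  funext p
  unfold pt
  simp only [Pi.smul_apply, smul_eq_mul]
  ring

variable {ι : Type} [Fintype ι] [DecidableEq ι]

/-- `x ↦ P ((x ⊗ w) ∘ e)` -/
def tmap (e : ι ≃ Fin n₁ × Fin 3) (P : GL ι F) (w : Fin 3 → F) : (Fin n₁ → F) →ₗ[F] (ι → F) where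
  toFun x := (P : Matrix ι ι F) *ᵥ (pt x w ∘ e)
  map_add' x y := by
    rw [pt_add_left, ← Matrix.mulVec_add]
    rfl
  map_smul' s x := by
    rw [pt_smul_left, RingHom.id_apply, ← Matrix.mulVec_smul]
    rfl

theorem tmap_apply (e : ι ≃ Fin n₁ × Fin 3) (P : GL ι F) (w : Fin 3 → F) (x : Fin n₁ → F) :
    tmap e P w x = (P : Matrix ι ι F) *ᵥ (pt x w ∘ e) := rfl

theorem tmap_smul_right (e : ι ≃ Fin n₁ × Fin 3) (P : GL ι F) (s : F) (w : Fin 3 → F) (x : Fin n₁ → F) :
    tmap e P (s • w) x = tmap e P w (s • x) := by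
  rw [tmap_apply, tmap_apply, pt_smul_right]

theorem tmap_injective (e : ι ≃ Fin n₁ × Fin 3) (P : GL ι F) {w : Fin 3 → F} (hw : w ≠ 0) :
    Function.Injective (tmap e P w) := by
  rw [← LinearMap.ker_eq_bot, LinearMap.ker_eq_bot']
  intro x hx
  rw [tmap_apply] at hx
  have h1 : pt x w ∘ e = 0 := by
    have h2 := congrArg (fun v => ((P⁻¹ : GL ι F) : Matrix ι ι F) *ᵥ v) hx
    simp only [Matrix.mulVec_mulVec, Matrix.mulVec_zero] at h2
    rw [← Units.val_mul, inv_mul_cancel, Units.val_one, Matrix.one_mulVec] at h2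
    exact h2
  obtain ⟨l, hl⟩ : ∃ l, w l ≠ 0 := by
    by_contra hcon
    push Not at hcon
    exact hw (funext hcon)
  funext i
  have h3 := congrFun h1 (e.symm (i, l))
  simp only [Function.comp_apply, Equiv.apply_symm_apply, pt, Pi.zero_apply] at h3
  rcases mul_eq_zero.1 h3 with h | h
  · exact h
  · exact absurd h hl

/-- the basic formula for the form on pure tensors -/
theorem form_tmap {f : (ι → F) → (ι → F) → F} {f₁ : (Fin n₁ → F) → (Fin n₁ → F) → F}
    {f₂ : (Fin 3 → F) → (Fin 3 → F) → F} (hf₁ : IsBilinearForm f₁) (hf₂ : IsBilinearForm f₂)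
    {e : ι ≃ Fin n₁ × Fin 3} {P : GL ι F} {c : F}
    (hc : ∀ x y : Fin n₁ × Fin 3 → F,
      f ((P : Matrix ι ι F) *ᵥ (x ∘ e)) ((P : Matrix ι ι F) *ᵥ (y ∘ e)) =
        c * formOfGram id (gramMatrix f₁ ⊗ₖ gramMatrix f₂) x y)
    (x y : Fin n₁ → F) (w w' : Fin 3 → F) :
    f (tmap e P w x) (tmap e P w' y) = c * (f₁ x y * f₂ w w') := by
  rw [tmap_apply, tmap_apply, hc, formOfGram_kron, ← bilin_expand hf₁, ← bilin_expand hf₂]

/-- the action of an element of the tensor product subgroup on pure tensors -/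
theorem conj_mulVec_tmap (e : ι ≃ Fin n₁ × Fin 3) (P : GL ι F) (k : GL (Fin n₁ × Fin 3) F)
    (a : Matrix (Fin n₁) (Fin n₁) F) (b : Matrix (Fin 3) (Fin 3) F)
    (hk : (k : Matrix (Fin n₁ × Fin 3) (Fin n₁ × Fin 3) F) = a ⊗ₖ b) (w : Fin 3 → F) (x : Fin n₁ → F) :
    ((MulAut.conj P (glReindex e.symm k) : GL ι F) : Matrix ι ι F) *ᵥ tmap e P w x =
      tmap e P (b *ᵥ w) (a *ᵥ x) := by
  rw [tmap_apply, tmap_apply, MulAut.conj_apply, Units.val_mul, Units.val_mul, Matrix.mulVec_mulVec]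
  have hPP : ((P⁻¹ : GL ι F) : Matrix ι ι F) * (P : Matrix ι ι F) = 1 := by
    rw [← Units.val_mul, inv_mul_cancel, Units.val_one]
  have h1 : (P : Matrix ι ι F) * ((glReindex e.symm k : GL ι F) : Matrix ι ι F) *
      ((P⁻¹ : GL ι F) : Matrix ι ι F) * (P : Matrix ι ι F) =
      (P : Matrix ι ι F) * ((glReindex e.symm k : GL ι F) : Matrix ι ι F) := by
    rw [mul_assoc, hPP, mul_one]
  rw [h1, ← Matrix.mulVec_mulVec]
  congr 1
  have h2 : ((glReindex e.symm k : GL ι F) : Matrix ι ι F) =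
      (k : Matrix (Fin n₁ × Fin 3) (Fin n₁ × Fin 3) F).submatrix e e := rfl
  rw [h2, Matrix.submatrix_mulVec_equiv, hk]
  have h3 : (pt x w ∘ e) ∘ (e.symm : Fin n₁ × Fin 3 → ι) = pt x w := by
    funext p
    simp
  rw [h3, kron_mulVec_pt]

end Cfsg.Agent.Helper2.TensorO3
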