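import Mathlib
import Cfsg.Prelude.Def_GeometricClasses
import Cfsg.Agent.Helper2.TensorO3A
import Cfsg.Agent.Helper2.TensorO3B

/-!
# `Sp_{n₁}(3) ⊗ O_3(3)` is imprimitive (helper2), part C: the non-degenerate decomposition
-/

set_option autoImplicit false

namespace Cfsg.Agent.Helper2.TensorO3

open Cfsg Cfsg.Geo
open scoped MatrixGroups Matrix Kronecker

variable {F : Type*} [Field F] {n₁ : ℕ} {ι : Type} [Fintype ι] [DecidableEq ι]

/-- the three subspaces `F^{n₁} ⊗ w k` -/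
def Dk (e : ι ≃ Fin n₁ × Fin 3) (P : GL ι F) (w : Fin 3 → (Fin 3 → F)) : Fin 3 → Submodule F (ι → F) :=
  fun k => LinearMap.range (tmap e P (w k))

theorem mem_Dk {e : ι ≃ Fin n₁ × Fin 3} {P : GL ι F} {w : Fin 3 → (Fin 3 → F)} {k : Fin 3} {u : ι → F} :
    u ∈ Dk e P w k ↔ ∃ x, tmap e P (w k) x = u := LinearMap.mem_range

/-- the data: a tensor form structure and an orthogonal basis of equal norms -/
structure TData (f : (ι → F) → (ι → F) → F) (f₁ : (Fin n₁ → F) → (Fin n₁ → F) → F)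
    (f₂ : (Fin 3 → F) → (Fin 3 → F) → F) (e : ι ≃ Fin n₁ × Fin 3) (P : GL ι F) (c : F)
    (w : Fin 3 → (Fin 3 → F)) (δ : F) : Prop where
  pos : 0 < n₁
  bil : IsBilinearForm f
  symp : IsSymplecticForm f₁
  bil₂ : IsBilinearForm f₂
  c0 : c ≠ 0
  hc : ∀ x y : Fin n₁ × Fin 3 → F,
      f ((P : Matrix ι ι F) *ᵥ (x ∘ e)) ((P : Matrix ι ι F) *ᵥ (y ∘ e)) =
        c * formOfGram id (gramMatrix f₁ ⊗ₖ gramMatrix f₂) x y
  δ0 : δ ≠ 0
  hw : ∀ k l, f₂ (w k) (w l) = if k = l then δ else 0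

variable {f : (ι → F) → (ι → F) → F} {f₁ : (Fin n₁ → F) → (Fin n₁ → F) → F}
  {f₂ : (Fin 3 → F) → (Fin 3 → F) → F} {e : ι ≃ Fin n₁ × Fin 3} {P : GL ι F} {c : F}
  {w : Fin 3 → (Fin 3 → F)} {δ : F}

theorem TData.form (h : TData f f₁ f₂ e P c w δ) (x y : Fin n₁ → F) (k l : Fin 3) :
    f (tmap e P (w k) x) (tmap e P (w l) y) = if k = l then c * (f₁ x y * δ) else 0 := by
  rw [form_tmap h.symp.bilinear h.bil₂ h.hc, h.hw]
  split_ifs <;> ring

theorem TData.w_ne_zero (h : TData f f₁ f₂ e P c w δ) (k : Fin 3) : w k ≠ 0 := by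
  intro h0
  have h1 := h.hw k k
  rw [if_pos rfl, h0, bilin_zero_left h.bil₂] at h1
  exact h.δ0 h1.symm

theorem TData.nondegOn (h : TData f f₁ f₂ e P c w δ) (k : Fin 3) : IsNondegenerateOn f (Dk e P w k) := by
  rintro _ ⟨x, rfl⟩ hx0
  have hx : x ≠ 0 := by
    intro h0
    apply hx0
    rw [h0, map_zero]
  obtain ⟨⟨y, hy⟩, ⟨y', hy'⟩⟩ := h.symp.nondegenerate x hx
  refine ⟨⟨tmap e P (w k) y, ⟨y, rfl⟩, ?_⟩, ⟨tmap e P (w k) y', ⟨y', rfl⟩, ?_⟩⟩
  · rw [h.form, if_pos rfl]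
    exact mul_ne_zero h.c0 (mul_ne_zero hy h.δ0)
  · rw [h.form, if_pos rfl]
    exact mul_ne_zero h.c0 (mul_ne_zero hy' h.δ0)

theorem TData.orth (h : TData f f₁ f₂ e P c w δ) (k l : Fin 3) (hkl : k ≠ l) :
    AreOrthogonalFor f (Dk e P w k) (Dk e P w l) := by
  rintro _ ⟨x, rfl⟩ _ ⟨y, rfl⟩
  rw [h.form, if_neg hkl]

/-- the right orthogonal complement of a subspace -/
def rperp (hf : IsBilinearForm f) (W : Submodule F (ι → F)) : Submodule F (ι → F) where
  carrier := {v | ∀ y ∈ W, f v y = 0}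
  add_mem' {a b} ha hb := by
    intro y hy
    rw [hf.add_left, ha y hy, hb y hy, add_zero]
  zero_mem' := fun y _ => bilin_zero_left hf y
  smul_mem' s {a} ha := by
    intro y hy
    rw [hf.smul_left, ha y hy, mul_zero]

theorem TData.indep (h : TData f f₁ f₂ e P c w δ) : iSupIndep (Dk e P w) := by
  intro k
  rw [Submodule.disjoint_def]
  intro u hu hu'
  have hle : (⨆ j, ⨆ (_ : j ≠ k), Dk e P w j) ≤ rperp h.bil (Dk e P w k) := by
    apply iSup_le
    intro j
    apply iSup_le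
    intro hjk v hv y hy
    exact h.orth j k hjk v hv y hy
  have h1 := hle hu'
  by_contra hu0
  obtain ⟨-, ⟨y, hy, hyu⟩⟩ := h.nondegOn k u hu hu0
  exact hyu (h1 y hy)

theorem TData.linearIndependent (h : TData f f₁ f₂ e P c w δ) : LinearIndependent F w :=
  linearIndependent_of_gram h.bil₂ h.δ0 h.hw

theorem TData.iSup_eq_top (h : TData f f₁ f₂ e P c w δ) : iSup (Dk e P w) = ⊤ := by
  classical
  have hcard : Fintype.card (Fin 3) = Module.finrank F (Fin 3 → F) := by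
    rw [Module.finrank_fin_fun, Fintype.card_fin]
  let bw : Module.Basis (Fin 3) F (Fin 3 → F) :=
    basisOfLinearIndependentOfCardEqFinrank h.linearIndependent hcard
  have hbw : ∀ k, bw k = w k := fun k => by
    simp [bw]
  rw [eq_top_iff]
  intro u _
  set z : Fin n₁ × Fin 3 → F := (((P⁻¹ : GL ι F) : Matrix ι ι F) *ᵥ u) ∘ e.symm with hz
  have hu : u = (P : Matrix ι ι F) *ᵥ (z ∘ e) := by
    have h1 : z ∘ e = ((P⁻¹ : GL ι F) : Matrix ι ι F) *ᵥ u := by
      funext j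
      simp [hz]
    rw [h1, Matrix.mulVec_mulVec, ← Units.val_mul, mul_inv_cancel, Units.val_one, Matrix.one_mulVec]
  set xk : Fin 3 → (Fin n₁ → F) := fun k i => bw.repr (fun l => z (i, l)) k with hxk
  have hzsum : ∀ p : Fin n₁ × Fin 3, z p = ∑ k, pt (xk k) (w k) p := by
    rintro ⟨i, l⟩
    have h1 := bw.sum_repr (fun l => z (i, l))
    have h2 := congrFun h1 l
    simp only [Finset.sum_apply, Pi.smul_apply, smul_eq_mul, hbw] at h2
    rw [← h2]
    rfl
  have key : u = ∑ k, tmap e P (w k) (xk k) := by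
    rw [hu]
    simp only [tmap_apply]
    rw [← Matrix.mulVec_sum]
    congr 1
    funext j
    rw [Function.comp_apply, hzsum, Finset.sum_apply]
    rfl
  rw [key]
  exact Submodule.sum_mem _ (fun k _ => Submodule.mem_iSup_of_mem k ⟨xk k, rfl⟩)

theorem TData.decomp (h : TData f f₁ f₂ e P c w δ) : IsNondegenerateMDecomposition f n₁ (Dk e P w) where
  decomp :=
    { two_le := by norm_num
      pos := h.pos
      finrank_eq := fun k => by
        have := LinearMap.finrank_range_of_inj (tmap_injective e P (h.w_ne_zero k))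
        rw [Module.finrank_fin_fun] at this
        exact this
      indep := h.indep
      iSup_eq_top := h.iSup_eq_top }
  nondegenerate := h.nondegOn
  orthogonal := fun k l hkl => h.orth k l hkl

end Cfsg.Agent.Helper2.TensorO3
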