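import Mathlib
import Cfsg.Prelude.Def_GeometricClasses
import Cfsg.Agent.Helper2.TensorO3A
import Cfsg.Agent.Helper2.TensorO3B
import Cfsg.Agent.Helper2.TensorO3C

/-!
# `Sp_{n₁}(3) ⊗ O_3(3)` is imprimitive (helper2), part D: isometries in the tensor product subgroup permute the three
subspaces
-/

set_option autoImplicit false

namespace Cfsg.Agent.Helper2.TensorO3

open Cfsg Cfsg.Geo
open scoped MatrixGroups Matrix Kronecker

variable {F : Type*} [Field F] {n₁ : ℕ} {ι : Type} [Fintype ι] [DecidableEq ι]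

variable {f : (ι → F) → (ι → F) → F} {f₁ : (Fin n₁ → F) → (Fin n₁ → F) → F}
  {f₂ : (Fin 3 → F) → (Fin 3 → F) → F} {e : ι ≃ Fin n₁ × Fin 3} {P : GL ι F} {c : F}
  {w : Fin 3 → (Fin 3 → F)} {δ : F}

/-- the Gram matrix of combinations of the `w k` -/
theorem TData.gram_comb (h : TData f f₁ f₂ e P c w δ) (s t : Fin 3 → F) :
    f₂ (∑ l, s l • w l) (∑ l, t l • w l) = δ * ∑ l, s l * t l := by
  rw [bilin_sum_left h.bil₂, Finset.mul_sum]
  apply Finset.sum_congr rfl
  intro l _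
  rw [bilin_sum_right h.bil₂, Finset.sum_eq_single l]
  · rw [h.bil₂.smul_left, h.bil₂.smul_right, h.hw, if_pos rfl]; ring
  · intro l' _ hl'
    rw [h.bil₂.smul_left, h.bil₂.smul_right, h.hw, if_neg (Ne.symm hl')]; ring
  · intro hl; exact absurd (Finset.mem_univ l) hl

theorem TData.mem_stab [Fintype F] (hq : Fintype.card F = 3) (h : TData f f₁ f₂ e P c w δ) {g : GL ι F}
    (hg : g ∈ tensorProductSubgroup n₁ 3 e P)
    (hiso : ∀ u v, f ((g : Matrix ι ι F) *ᵥ u) ((g : Matrix ι ι F) *ᵥ v) = f u v) :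
    g ∈ decompositionStabilizer (Dk e P w) := by
  classical
  obtain ⟨y, ⟨k, ⟨a, b, hk⟩, rfl⟩, rfl⟩ := hg
  have hact : ∀ (v : Fin 3 → F) (x : Fin n₁ → F),
      (((MulAut.conj P).toMonoidHom ((glReindex e.symm : GL (Fin n₁ × Fin 3) F ≃* GL ι F).toMonoidHom k) : GL ι F) :
        Matrix ι ι F) *ᵥ tmap e P v x =
      tmap e P ((b : Matrix (Fin 3) (Fin 3) F) *ᵥ v) ((a : Matrix (Fin n₁) (Fin n₁) F) *ᵥ x) := by
    intro v x
    exact conj_mulVec_tmap e P k _ _ hk v x
  -- coordinates of `b w_k`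
  have hcard : Fintype.card (Fin 3) = Module.finrank F (Fin 3 → F) := by
    rw [Module.finrank_fin_fun, Fintype.card_fin]
  let bw : Module.Basis (Fin 3) F (Fin 3 → F) :=
    basisOfLinearIndependentOfCardEqFinrank h.linearIndependent hcard
  have hbw : ∀ k, bw k = w k := fun k => by simp [bw]
  set T : Fin 3 → Fin 3 → F := fun k l => bw.repr ((b : Matrix (Fin 3) (Fin 3) F) *ᵥ w k) l with hT
  have hb : ∀ k, (b : Matrix (Fin 3) (Fin 3) F) *ᵥ w k = ∑ l, T k l • w l := by
    intro k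
    have h1 := bw.sum_repr ((b : Matrix (Fin 3) (Fin 3) F) *ᵥ w k)
    simp only [hbw] at h1
    exact h1.symm
  -- the isometry relation
  have hrel : ∀ (x y : Fin n₁ → F) (k k' : Fin 3),
      f₁ ((a : Matrix (Fin n₁) (Fin n₁) F) *ᵥ x) ((a : Matrix (Fin n₁) (Fin n₁) F) *ᵥ y) *
        (δ * ∑ l, T k l * T k' l) = if k = k' then f₁ x y * δ else 0 := by
    intro x y k k'
    have h1 := hiso (tmap e P (w k) x) (tmap e P (w k') y)
    rw [hact, hact, form_tmap h.symp.bilinear h.bil₂ h.hc, h.form, hb k, hb k', h.gram_comb] at h1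
    split_ifs at h1 ⊢ with hkk
    · exact mul_left_cancel₀ h.c0 h1
    · rcases mul_eq_zero.1 h1 with h2 | h2
      · exact absurd h2 h.c0
      · exact h2
  -- a pair with `f₁ x₀ y₀ ≠ 0`
  obtain ⟨x₀, y₀, hxy⟩ : ∃ x₀ y₀, f₁ x₀ y₀ ≠ 0 := by
    have i0 : Fin n₁ := ⟨0, h.pos⟩
    have hx : (Pi.single i0 (1 : F) : Fin n₁ → F) ≠ 0 := by
      intro h0
      have := congrFun h0 i0
      simp at this
    obtain ⟨-, ⟨y, hy⟩⟩ := h.symp.nondegenerate _ hx
    exact ⟨_, y, hy⟩
  set lam := f₁ ((a : Matrix (Fin n₁) (Fin n₁) F) *ᵥ x₀) ((a : Matrix (Fin n₁) (Fin n₁) F) *ᵥ y₀) with hlam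
  have hlam0 : lam ≠ 0 := by
    intro h0
    have h1 := hrel x₀ y₀ 0 0
    rw [if_pos rfl, ← hlam, h0, zero_mul] at h1
    exact mul_ne_zero hxy h.δ0 h1.symm
  set μ := f₁ x₀ y₀ / lam with hμ
  have hμ0 : μ ≠ 0 := div_ne_zero hxy hlam0
  have hS : ∀ k k', ∑ l, T k l * T k' l = if k = k' then μ else 0 := by
    intro k k'
    have h1 := hrel x₀ y₀ k k'
    rw [← hlam] at h1
    split_ifs at h1 ⊢ with hkk
    · rw [hμ, eq_div_iff hlam0]
      have h2 : δ * ((∑ l, T k l * T k' l) * lam) = δ * f₁ x₀ y₀ := by linear_combination h1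
      exact mul_left_cancel₀ h.δ0 h2
    · rcases mul_eq_zero.1 h1 with h2 | h2
      · exact absurd h2 hlam0
      · rcases mul_eq_zero.1 h2 with h3 | h3
        · exact absurd h3 h.δ0
        · exact h3
  -- `μ = 1` by determinants
  have hμ1 : μ = 1 := by
    set Tm : Matrix (Fin 3) (Fin 3) F := Matrix.of T with hTm
    have hTT : Tm * Tm.transpose = μ • (1 : Matrix (Fin 3) (Fin 3) F) := by
      ext k k'
      rw [Matrix.mul_apply, Matrix.smul_apply, Matrix.one_apply, smul_eq_mul]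
      simp only [hTm, Matrix.transpose_apply, Matrix.of_apply]
      rw [hS]
      split_ifs <;> ring
    have hdet : Tm.det ^ 2 = μ ^ 3 := by
      have h1 := congrArg Matrix.det hTT
      rw [Matrix.det_mul, Matrix.det_transpose, Matrix.det_smul, Matrix.det_one, mul_one,
        Fintype.card_fin] at h1
      rw [sq]; exact h1
    have hμ3 : μ ^ 3 = μ := by
      have h1 := FiniteField.pow_card μ
      rw [hq] at h1
      exact h1
    have hd0 : Tm.det ≠ 0 := by
      intro h0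
      rw [h0, hμ3] at hdet
      apply hμ0
      rw [← hdet]; ring
    rw [← hμ3, ← hdet]
    exact sq_eq_one hq hd0
  -- each row has exactly one non-zero entry
  have hrow : ∀ k, ∃ l₀, T k l₀ ≠ 0 ∧ ∀ l, l ≠ l₀ → T k l = 0 := by
    intro k
    apply exists_unique_ne_zero hq (T k)
    have h1 := hS k k
    rw [if_pos rfl, hμ1] at h1
    rw [← h1]
    apply Finset.sum_congr rfl
    intro l _
    ring
  choose π hπ using hrow
  have hSsingle : ∀ k k', ∑ l, T k l * T k' l = T k (π k) * T k' (π k) := by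
    intro k k'
    apply Finset.sum_eq_single (π k)
    · intro l _ hl
      rw [(hπ k).2 l hl, zero_mul]
    · intro hl; exact absurd (Finset.mem_univ _) hl
  have hinj : Function.Injective π := by
    intro k k' hkk
    by_contra hne
    have h1 := hS k k'
    rw [if_neg hne, hSsingle] at h1
    rcases mul_eq_zero.1 h1 with h2 | h2
    · exact (hπ k).1 h2
    · rw [hkk] at h2; exact (hπ k').1 h2
  have hbk : ∀ k, (b : Matrix (Fin 3) (Fin 3) F) *ᵥ w k = T k (π k) • w (π k) := by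
    intro k
    rw [hb k]
    apply Finset.sum_eq_single (π k)
    · intro l _ hl
      rw [(hπ k).2 l hl, zero_smul]
    · intro hl; exact absurd (Finset.mem_univ _) hl
  refine ⟨Equiv.ofBijective π (Finite.injective_iff_bijective.1 hinj), fun k => ?_⟩
  rw [Equiv.ofBijective_apply]
  ext u
  constructor
  · rintro ⟨_, ⟨x, rfl⟩, rfl⟩
    rw [Matrix.toLin'_apply, hact, hbk, tmap_smul_right]
    exact ⟨_, rfl⟩
  · rintro ⟨x', rfl⟩
    refine ⟨tmap e P (w k) (((a⁻¹ : GL (Fin n₁) F) : Matrix (Fin n₁) (Fin n₁) F) *ᵥ ((T k (π k))⁻¹ • x')),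
      ⟨_, rfl⟩, ?_⟩
    rw [Matrix.toLin'_apply, hact, hbk, tmap_smul_right, Matrix.mulVec_mulVec, ← Units.val_mul,
      mul_inv_cancel, Units.val_one, Matrix.one_mulVec, smul_smul, mul_inv_cancel₀ (hπ k).1, one_smul]

/-- **`Sp_{n₁}(3) ⊗ O_3(3)` is imprimitive**: over the field with three elements the isometries of `f` in the stabiliser of
a tensor decomposition `f = f₁ ⊗ f₂` with `f₁` symplectic in dimension `n₁` and `f₂` symmetric in dimension `3`
stabilise a decomposition into three non-degenerate, pairwise orthogonal `n₁`-spaces. -/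
theorem tensor_three_le_decomp [Fintype F] (hq : Fintype.card F = 3) (hn₁ : 0 < n₁)
    (f : (ι → F) → (ι → F) → F) (hf : IsBilinearForm f) (e : ι ≃ Fin n₁ × Fin 3) (P : GL ι F)
    (f₁ : (Fin n₁ → F) → (Fin n₁ → F) → F) (f₂ : (Fin 3 → F) → (Fin 3 → F) → F)
    (hf₁ : IsSymplecticForm f₁) (hf₂ : IsSymmetricForm f₂) (hT : IsTensorFormStructure id f f₁ f₂ e P) :
    ∃ D : Fin 3 → Submodule F (ι → F), IsNondegenerateMDecomposition f n₁ D ∧
      ∀ g ∈ tensorProductSubgroup n₁ 3 e P,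
        (∀ u v, f ((g : Matrix ι ι F) *ᵥ u) ((g : Matrix ι ι F) *ᵥ v) = f u v) → g ∈ decompositionStabilizer D := by
  obtain ⟨c, hc0, hc⟩ := hT
  obtain ⟨w, δ, hδ, hw⟩ := exists_equal_norm_basis hq f₂ hf₂
  have h : TData f f₁ f₂ e P c w δ :=
    { pos := hn₁, bil := hf, symp := hf₁, bil₂ := hf₂.bilinear, c0 := hc0, hc := hc, δ0 := hδ, hw := hw }
  exact ⟨Dk e P w, h.decomp, fun g hg hiso => h.mem_stab hq hg hiso⟩

end Cfsg.Agent.Helper2.TensorO3
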