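import Mathlib
import Cfsg.Prelude.Def_GeometricClasses
import Cfsg.Agent.Helper2.TensorO3D
import Cfsg.Agent.Helper2.AschRefl
import Cfsg.Agent.Helper3.AschForms

/-!
# ASCH-COMP-Sp pieces (helper2): `SpPieces.reducible`, `SpPieces.evenRank`, `SpPieces.tensor33`

Exact field types of `Cfsg.Agent.Helper1.AschSp.SpPieces` (helper1's `AschSpBase`).
-/

set_option autoImplicit false

namespace Cfsg.Agent.Helper2.AschSp

open Cfsg Cfsg.Geo
open scoped MatrixGroups Matrix Kronecker

variable {n : ℕ} {F : Type*} [Field F]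

/-- `SpPieces.reducible` -/
theorem reducible : ∀ (f : (Fin n → F) → (Fin n → F) → F), IsSymplecticForm f → ∀ H : Subgroup (GL (Fin n) F),
    FixesForm (matrixSet H) f → ¬ ActsIrreducibly (matrixSet H) →
    (∃ W : Submodule F (Fin n → F), W ≠ ⊥ ∧ IsTotallySingularFor f W ∧ H ≤ subspaceStabilizer W) ∨
    (∃ W : Submodule F (Fin n → F), W ≠ ⊥ ∧ IsNondegenerateOn f W ∧ 2 * Module.finrank F W ≤ n ∧
      H ≤ subspaceStabilizer W) := by
  intro f hf H hfix hred
  rcases AschRefl.refl_reducible (AschRefl.Refl.of_symplectic hf) hf.nondegenerate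
      (fun g hg u v => hfix _ ⟨g, hg, rfl⟩ u v) hred with ⟨W, h0, _, hts, hle⟩ | ⟨W, h0, _, hnd, hdim, hle⟩
  · exact Or.inl ⟨W, h0, hts, hle⟩
  · exact Or.inr ⟨W, h0, hnd, hdim, hle⟩

/-- `SpPieces.evenRank`: a subspace on which an alternating form is non-degenerate has even dimension -/
theorem evenRank : ∀ (f : (Fin n → F) → (Fin n → F) → F), IsSymplecticForm f → ∀ W : Submodule F (Fin n → F),
    IsNondegenerateOn f W → Even (Module.finrank F W) := by
  classical
  intro f hf W hW
  by_contra hodd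
  rw [Nat.not_even_iff_odd] at hodd
  set d := Module.finrank F W with hd
  let b : Module.Basis (Fin d) F W := Module.finBasisOfFinrankEq F W hd.symm
  set A : Matrix (Fin d) (Fin d) F := Matrix.of fun i j => f (b i : Fin n → F) (b j : Fin n → F) with hA
  have hdet : A.det = 0 :=
    Cfsg.Agent.Helper3.Asch.det_eq_zero_of_alternating_odd hodd A (fun i => hf.alternating _)
      (fun i j => hf.skew _ _)
  obtain ⟨c, hc0, hc⟩ := Matrix.exists_mulVec_eq_zero_iff.mpr hdet
  -- the vector `w = ∑ c j • b j`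
  set w : W := ∑ j, c j • b j with hw
  have hw0 : w ≠ 0 := by
    intro h0
    apply hc0
    have hli := b.linearIndependent
    rw [Fintype.linearIndependent_iff] at hli
    funext j
    exact hli c h0 j
  have hwc : (w : Fin n → F) = ∑ j, c j • (b j : Fin n → F) := by
    rw [hw]; simp
  have hbw : ∀ i, f (b i : Fin n → F) (w : Fin n → F) = 0 := by
    intro i
    rw [hwc, TensorO3.bilin_sum_right hf.bilinear]
    have := congrFun hc i
    simp only [Matrix.mulVec, dotProduct, hA, Matrix.of_apply, Pi.zero_apply] at this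
    rw [← this]
    apply Finset.sum_congr rfl
    intro j _
    rw [hf.bilinear.smul_right, mul_comm]
  have hall : ∀ x ∈ W, f x (w : Fin n → F) = 0 := by
    intro x hx
    have hx' : x = ∑ i, (b.repr ⟨x, hx⟩ i) • (b i : Fin n → F) := by
      have := b.sum_repr ⟨x, hx⟩
      have h2 := congrArg (fun y : W => (y : Fin n → F)) this
      simp only at h2
      refine h2.symm.trans ?_
      rw [Submodule.coe_sum]
      rfl
    rw [hx', TensorO3.bilin_sum_left hf.bilinear]
    apply Finset.sum_eq_zero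
    intro i _
    rw [hf.bilinear.smul_left, hbw, mul_zero]
  obtain ⟨⟨x, hx, hne⟩, _⟩ := hW (w : Fin n → F) w.2 (by
    intro h; apply hw0; exact Subtype.ext h)
  exact hne (hall x hx)

/-- `SpPieces.tensor33` (`q = 3`): `Sp_2(3) ⊗ O_3(3) ≤ Sp_2(3) ≀ S_3` -/
theorem tensor33 [Fintype F] : Fintype.card F = 3 → ∀ (f : (Fin n → F) → (Fin n → F) → F), IsSymplecticForm f →
    ∀ (e : Fin n ≃ Fin 2 × Fin 3) (P : GL (Fin n) F) (f₁ : (Fin 2 → F) → (Fin 2 → F) → F)
      (f₂ : (Fin 3 → F) → (Fin 3 → F) → F), IsSymplecticForm f₁ → IsSymmetricForm f₂ →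
    IsTensorFormStructure id f f₁ f₂ e P →
    ∃ D : Fin 3 → Submodule F (Fin n → F), IsNondegenerateMDecomposition f 2 D ∧
      ∀ H : Subgroup (GL (Fin n) F), FixesForm (matrixSet H) f → H ≤ tensorProductSubgroup 2 3 e P →
        H ≤ decompositionStabilizer D := by
  intro hq f hf e P f₁ f₂ hf₁ hf₂ hT
  obtain ⟨D, hD, hstab⟩ :=
    TensorO3.tensor_three_le_decomp hq (by norm_num) f hf.bilinear e P f₁ f₂ hf₁ hf₂ hT
  exact ⟨D, hD, fun H hfix hle g hg => hstab g (hle hg) (hfix _ ⟨g, hg, rfl⟩)⟩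

end Cfsg.Agent.Helper2.AschSp
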