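import Mathlib
import Cfsg.Prelude.Def_GeometricClasses
import Cfsg.Agent.Helper1.AschSpBase
import Cfsg.Agent.Helper2.AschTrD
import Cfsg.Agent.Helper8.SpEvenB

/-!
# ASCH-COMP-Sp (helper2): the transport structure `SpTransport m n F`

`spConcl_of_map` transports helper1's conclusion `SpConcl` along any bijection of index types `e : ι ≃ κ`;
`spTransport : SpTransport m n F` is the structure needed by helper1's `final_sp`.
-/

set_option autoImplicit false

namespace Cfsg.Agent.Helper2.AschSp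

open Cfsg Cfsg.Geo Cfsg.Agent.Helper1.AschSp Cfsg.Agent.Helper2.AschTr
open scoped MatrixGroups Matrix Kronecker

variable {F : Type*} [Field F]

theorem reF_eq_pf {n : ℕ} {ι : Type} (e : ι ≃ Fin n) (f : (ι → F) → (ι → F) → F) : reF e f = pf e f := rfl

/-- transport of the conclusion `SpConcl` along a bijection of index types -/
theorem spConcl_of_map [Fintype F] {ι κ : Type} [Fintype ι] [DecidableEq ι] [Fintype κ] [DecidableEq κ]
    (m : ℕ) (e : ι ≃ κ) (f : (ι → F) → (ι → F) → F) (H : Subgroup (GL ι F))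
    (h : SpConcl m (pf e f) (H.map (glReindex e : GL ι F ≃* GL κ F).toMonoidHom)) : SpConcl m f H := by
  rcases h with ⟨W', h0, hts, hle⟩ | ⟨W', h0, hnd, hdim, hle⟩ | ⟨hq, D', hD, hle⟩ | ⟨hq, D', hD, hts, hle⟩ |
    ⟨K', hK, hsa, halt, hle⟩ | ⟨hq, K', hK, hac, hnsa, hle⟩ | ⟨hq, hne, e', P', f₁, f₂, hf₁, hf₂, hT, hle⟩ |
    ⟨F₀, r, P', ζ, hr, hcard, hζ, hrat, hle⟩ | ⟨hq, Q', hQ', hpol, hle⟩ | h
  · exact Or.inl ⟨W'.map (thL e), map_thL_ne_bot e h0, totallySingularFor_map e hts, le_stab_of_map e hle⟩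
  · refine Or.inr (Or.inl ⟨W'.map (thL e), map_thL_ne_bot e h0, nondegenerateOn_map e hnd, ?_,
      le_stab_of_map e hle⟩)
    rw [finrank_map_thL]; exact hdim
  · exact Or.inr (Or.inr (Or.inl ⟨hq, fun i => (D' i).map (thL e), isNondegenerateMDecomposition_map e hD,
      le_decomp_of_map e hle⟩))
  · exact Or.inr (Or.inr (Or.inr (Or.inl ⟨hq, fun i => (D' i).map (thL e), isMDecomposition_map e hD,
      fun i => totallySingularFor_map e (hts i), le_decomp_of_map e hle⟩)))
  · exact Or.inr (Or.inr (Or.inr (Or.inr (Or.inl ⟨pbK e K', isFieldSubalgebra_pbK e hK,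
      (isSelfAdjointFor_pbK_iff e).mpr hsa, alt_pbK e halt, le_subalgebraNormalizer_of_map e K' hle⟩))))
  · exact Or.inr (Or.inr (Or.inr (Or.inr (Or.inr (Or.inl ⟨hq, pbK e K', isFieldSubalgebra_pbK e hK,
      isAdjointClosedFor_pbK e hac, fun hs => hnsa ((isSelfAdjointFor_pbK_iff e).mp hs),
      le_subalgebraNormalizer_of_map e K' hle⟩)))))
  · exact Or.inr (Or.inr (Or.inr (Or.inr (Or.inr (Or.inr (Or.inl ⟨hq, hne, e.trans e', (glReindex e).symm P',
      f₁, f₂, hf₁, hf₂, tensorFormStructure_of_map e id e' P' hT,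
      le_tensorProductSubgroup_of_map e e' P' hle⟩))))))
  · exact Or.inr (Or.inr (Or.inr (Or.inr (Or.inr (Or.inr (Or.inr (Or.inl ⟨F₀, r, (glReindex e).symm P', ζ, hr,
      hcard, hζ, formRational_of_map e F₀ ζ P' hrat, le_subfield_of_map e F₀ P' hle⟩)))))))
  · exact Or.inr (Or.inr (Or.inr (Or.inr (Or.inr (Or.inr (Or.inr (Or.inr (Or.inl ⟨hq, rq e.symm Q',
      rq_nondegenerate e.symm Q' hQ', polar_rq_symm e Q' hpol, le_quadSimilarityGroup_of_map e Q' hle⟩))))))))
  · exact Or.inr (Or.inr (Or.inr (Or.inr (Or.inr (Or.inr (Or.inr (Or.inr (Or.inr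
      (inSymplecticResidualClass_of_map e h)))))))))

/-- **the transport structure of helper1's `final_sp`** -/
theorem spTransport [Fintype F] (m n : ℕ) : SpTransport m n F where
  symplectic := fun e => isSymplecticForm_pf e (Cfsg.Agent.Helper8.SpEven.isSymplecticForm_sympForm m)
  fixes := fun e H hH =>
    fixesForm_map e (fun g hg => Cfsg.Agent.Helper8.SpEven.mem_spGL_iff.mp (hH hg))
  concl := fun e H h => spConcl_of_map m e (sympForm m F) H h

end Cfsg.Agent.Helper2.AschSp
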