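import Mathlib
import Cfsg.Agent.Helper2.Signalizer1
import Cfsg.Agent.Helper1.Coprime

/-!
Helper lemmas (helper2): `[K, J]` is normal in `⟨K, J⟩`; `p'`-elements of `K·J` (`J` a `p`-group
normalizing `K`) lie in `K`.
-/

set_option autoImplicit false

namespace Cfsg.Agent.Helper2

open scoped commutatorElement

variable {G : Type*} [Group G]

theorem le_normalizer_commutator_left (K J : Subgroup G) :
    K ≤ Subgroup.normalizer ((⁅K, J⁆ : Subgroup G) : Set G) := by
  apply le_normalizer_of_conj_mem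
  intro k' hk'
  have hle : ⁅K, J⁆ ≤ Subgroup.comap (MulAut.conj k').toMonoidHom ⁅K, J⁆ := by
    rw [Subgroup.commutator_le]
    intro k hk j hj
    rw [Subgroup.mem_comap]
    change k' * ⁅k, j⁆ * k'⁻¹ ∈ ⁅K, J⁆
    have h1 : k' * ⁅k, j⁆ * k'⁻¹ = ⁅k' * k, j⁆ * ⁅k', j⁆⁻¹ := by
      simp only [commutatorElement_def]; group
    rw [h1]
    exact Subgroup.mul_mem _ (Subgroup.commutator_mem_commutator (K.mul_mem hk' hk) hj)
      (Subgroup.inv_mem _ (Subgroup.commutator_mem_commutator hk' hj))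
  intro x hx
  exact hle hx

theorem le_normalizer_commutator_right (K J : Subgroup G) :
    J ≤ Subgroup.normalizer ((⁅K, J⁆ : Subgroup G) : Set G) := by
  rw [Subgroup.commutator_comm]
  exact le_normalizer_commutator_left J K

/-- If the `p`-group `J` normalizes `K`, every element of `K ⊔ J` of order prime to `p` lies in `K`. -/
theorem mem_of_coprime_orderOf_of_mem_sup {p : ℕ} [hp : Fact p.Prime] {K J : Subgroup G}
    (hJ : IsPGroup p ↥J) (hJK : J ≤ Subgroup.normalizer (K : Set G)) {g : G} (hg : g ∈ K ⊔ J)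
    (hgp : (orderOf g).Coprime p) : g ∈ K := by
  obtain ⟨k, hk, j, hj, rfl⟩ := Cfsg.Agent.Helper1.mem_sup_of_le_normalizer hJK hg
  set N := Subgroup.normalizer (K : Set G) with hN
  have hKN : K ≤ N := Subgroup.le_normalizer
  have hnorm : (K.subgroupOf N).Normal := Subgroup.normal_in_normalizer
  let φ := QuotientGroup.mk' (K.subgroupOf N)
  have hkφ : φ ⟨k, hKN hk⟩ = 1 := by
    rw [QuotientGroup.mk'_apply, QuotientGroup.eq_one_iff, Subgroup.mem_subgroupOf]; exact hk
  have hmul : φ (⟨k, hKN hk⟩ * ⟨j, hJK hj⟩) = φ ⟨j, hJK hj⟩ := by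
    rw [map_mul, hkφ, one_mul]
  have h1 : orderOf (φ ⟨j, hJK hj⟩) ∣ orderOf (k * j) := by
    rw [← hmul]
    have : orderOf (⟨k, hKN hk⟩ * ⟨j, hJK hj⟩ : ↥N) = orderOf (k * j) := by
      rw [← Subgroup.orderOf_coe]; rfl
    rw [← this]
    exact orderOf_map_dvd φ _
  have h2 : orderOf (φ ⟨j, hJK hj⟩) ∣ orderOf j := by
    have : orderOf (⟨j, hJK hj⟩ : ↥N) = orderOf j := by
      rw [← Subgroup.orderOf_coe]
    rw [← this]
    exact orderOf_map_dvd φ _
  obtain ⟨m, hm⟩ := hJ ⟨j, hj⟩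
  have hjm : j ^ p ^ m = 1 := congrArg Subtype.val hm
  have h3 : orderOf j ∣ p ^ m := orderOf_dvd_of_pow_eq_one hjm
  have h4 : orderOf (φ ⟨j, hJK hj⟩) = 1 := by
    have hc : (orderOf (k * j)).Coprime (p ^ m) := Nat.Coprime.pow_right m hgp
    exact Nat.eq_one_of_dvd_coprimes hc h1 (h2.trans h3)
  rw [orderOf_eq_one_iff, QuotientGroup.mk'_apply, QuotientGroup.eq_one_iff,
    Subgroup.mem_subgroupOf] at h4
  exact K.mul_mem hk h4

end Cfsg.Agent.Helper2
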