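import Mathlib
import Cfsg.Agent.Helper2.CommNorm
import Cfsg.Agent.Helper1.Subnormal
import Cfsg.Agent.Helper1.Cores

/-!
Helper lemmas (helper2): subnormal `p`-subgroups lie in `O_p`; `p'`-elements of `P·B` (`P` a normal
`p`-subgroup, `B` subnormal) lie in `B`.
-/

set_option autoImplicit false

namespace Cfsg.Agent.Helper2

variable {G : Type*} [Group G]

/-- A subnormal `p`-subgroup lies in every Sylow `p`-subgroup. -/
theorem isSubnormal_pGroup_le_sylow [Finite G] {p : ℕ} [hp : Fact p.Prime] {A : Subgroup G}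
    (hA : A.IsSubnormal) (hAp : IsPGroup p ↥A) (S : Sylow p G) : A ≤ (S : Subgroup G) := by
  have h1 := Cfsg.Agent.Helper1.sylow_relIndex_subnormal p S hA
  obtain ⟨n, hn⟩ := hAp.index ((S : Subgroup G).subgroupOf A)
  have h2 : (S : Subgroup G).relIndex A = p ^ n := hn
  have hn0 : n = 0 := by
    by_contra hne
    apply h1
    rw [h2]
    exact dvd_pow_self p hne
  rw [hn0, pow_zero, Subgroup.relIndex_eq_one] at h2
  exact h2

/-- A subnormal `p`-subgroup lies in `O_p`. -/
theorem isSubnormal_pGroup_le_pCore [Finite G] {p : ℕ} [hp : Fact p.Prime] {A : Subgroup G}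
    (hA : A.IsSubnormal) (hAp : IsPGroup p ↥A) : A ≤ Cfsg.pCore p G := by
  rw [Cfsg.Agent.Helper1.pCore_eq_iInf_sylow]
  exact le_iInf fun S => isSubnormal_pGroup_le_sylow hA hAp S

/-- If `P` is a normal `p`-subgroup and `B` is subnormal, every element of `P ⊔ B` of order prime to `p`
lies in `B`. -/
theorem mem_of_coprime_orderOf_of_mem_normal_sup_subnormal {p : ℕ} [hp : Fact p.Prime]
    (P : Subgroup G) [hPn : P.Normal] (hP : IsPGroup p ↥P) {B : Subgroup G} (hB : B.IsSubnormal) :
    ∀ g ∈ P ⊔ B, (orderOf g).Coprime p → g ∈ B := by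
  induction hB with
  | top => intros; trivial
  | step B K hBK hK hN ih =>
    intro g hg hgp
    have hgK : g ∈ K := ih g (sup_le_sup_left hBK P hg) hgp
    have hBn : B ≤ Subgroup.normalizer (P : Set G) := by
      rw [Subgroup.normalizer_eq_top]; exact le_top
    obtain ⟨x, hx, b, hb, rfl⟩ := Cfsg.Agent.Helper1.mem_sup_of_le_normalizer hBn hg
    have hxK : x ∈ K := by
      have := K.mul_mem hgK (K.inv_mem (hBK hb))
      simpa using this
    have h1 : P ⊓ K ≤ Subgroup.normalizer (B : Set G) :=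
      inf_le_right.trans ((Subgroup.normal_subgroupOf_iff_le_normalizer hBK).mp hN)
    have h2 : IsPGroup p ↥(P ⊓ K) := hP.to_le inf_le_left
    apply mem_of_coprime_orderOf_of_mem_sup h2 h1 _ hgp
    rw [sup_comm]
    exact Subgroup.mul_mem _ (le_sup_left (a := P ⊓ K) ⟨hx, hxK⟩) (le_sup_right (a := P ⊓ K) hb)

end Cfsg.Agent.Helper2
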