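import Mathlib
import Cfsg.Agent.Helper2.CharPLocal
import Cfsg.Agent.Helper2.BaerSuzuki

set_option autoImplicit false

namespace Cfsg.Agent.Helper2

open Cfsg.Agent.Helper1 Cfsg.Agent.Helper5

variable {G : Type*} [Group G]

/-- A nontrivial `p`-subgroup contains a central element of order `p`. -/
theorem exists_central_orderOf_eq_prime [Finite G] {p : ℕ} [hp : Fact p.Prime] (T : Subgroup G)
    (hT : IsPGroup p T) (hT1 : T ≠ ⊥) :
    ∃ t ∈ T, orderOf t = p ∧ ∀ x ∈ T, x * t = t * x := by
  have hnt : Nontrivial ↥T := (Subgroup.nontrivial_iff_ne_bot T).mpr hT1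
  have hZnt : Nontrivial (Subgroup.center ↥T) := hT.center_nontrivial
  have hZ : IsPGroup p (Subgroup.center ↥T) := hT.to_subgroup _
  obtain ⟨k, hk⟩ := IsPGroup.iff_card.mp hZ
  have hk0 : k ≠ 0 := by
    rintro rfl
    rw [pow_zero] at hk
    have := Finite.one_lt_card (α := Subgroup.center ↥T)
    omega
  have hdvd : p ∣ Nat.card (Subgroup.center ↥T) := by rw [hk]; exact dvd_pow_self p hk0
  obtain ⟨z, hz⟩ := exists_prime_orderOf_dvd_card' p hdvd
  refine ⟨((z : ↥T) : G), (z : ↥T).2, ?_, ?_⟩
  · rw [Subgroup.orderOf_coe, Subgroup.orderOf_coe]; exact hz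
  · intro x hx
    have := Subgroup.mem_center_iff.mp z.2 ⟨x, hx⟩
    exact congrArg Subtype.val this

/-- If all centralizers of elements of order `p` have characteristic `p`, so do all `p`-local
subgroups. -/
theorem hasCharP_normalizer_of_centralizers [Finite G] {p : ℕ} [hp : Fact p.Prime]
    (h : ∀ t : G, orderOf t = p → HasCharP p ↥(Subgroup.centralizer ({t} : Set G)))
    (T : Subgroup G) (hT : IsPGroup p T) (hT1 : T ≠ ⊥) :
    HasCharP p ↥(Subgroup.normalizer (T : Set G)) := by
  set M := Subgroup.normalizer (T : Set G) with hM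
  set Q := (Cfsg.pCore p ↥M).map M.subtype with hQ
  set X := M ⊓ Subgroup.centralizer (Q : Set G) with hX
  obtain ⟨t, htT, htp, htc⟩ := exists_central_orderOf_eq_prime T hT hT1
  have hTM : T ≤ M := Subgroup.le_normalizer
  have hTQ : T ≤ Q := le_pCore_map_subtype M T hTM hT le_rfl
  set C := Subgroup.centralizer ({t} : Set G) with hC
  have hXC : X ≤ C := by
    intro x hx
    rw [Subgroup.mem_centralizer_singleton_iff]
    exact (Subgroup.mem_centralizer_iff.mp (Subgroup.mem_inf.mp hx).2 t (hTQ htT)).symm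
  have hTC : T ≤ C := by
    intro x hx
    rw [Subgroup.mem_centralizer_singleton_iff]
    exact htc x hx
  have hCM : HasCharP p ↥(C ⊓ M) := hasCharP_inf_normalizer C T hTC hT (h t htp)
  have hMX : M ≤ Subgroup.normalizer (X : Set G) := by
    intro m hm
    apply mem_normalizer_inf
    · exact Subgroup.le_normalizer hm
    · exact normalizer_le_normalizer_centralizer Q (le_normalizer_pCore_map_subtype p M hm)
  have hXchar : HasCharP p ↥X :=
    hasCharP_of_le_normalizer X (C ⊓ M) (le_inf hXC inf_le_left) (inf_le_right.trans hMX) hCM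
  have hOX : (Cfsg.pCore p ↥X).map X.subtype ≤ Q :=
    le_pCore_of_normal_in_normal M X _ inf_le_left hMX (pCore_map_subtype_le p X)
      (isPGroup_pCore_map_subtype p X) (le_normalizer_pCore_map_subtype p X)
  have hXQ : X ≤ Q := by
    intro x hx
    apply hOX
    have hx' : (⟨x, hx⟩ : ↥X) ∈ Subgroup.centralizer (Cfsg.pCore p ↥X : Set ↥X) := by
      rw [mem_centralizer_pCore_iff]
      exact Subgroup.centralizer_le (SetLike.coe_subset_coe.mpr hOX) (Subgroup.mem_inf.mp hx).2
    exact ⟨⟨x, hx⟩, hXchar hx', rfl⟩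
  intro c hc
  rw [mem_centralizer_pCore_iff] at hc
  have hcX : (c : G) ∈ X := Subgroup.mem_inf.mpr ⟨c.2, hc⟩
  obtain ⟨y, hy, hyc⟩ := hXQ hcX
  have : y = c := Subtype.ext hyc
  rw [← this]; exact hy

/-- Normal case of `S1246`. -/
theorem hasCharP_centralizer_of_normal [Finite G] {p : ℕ} [hp : Fact p.Prime] (U V : Subgroup G)
    (hVU : V ≤ U) (hUV : U ≤ Subgroup.normalizer (V : Set G)) (hU : IsPGroup p U)
    (hV : HasCharP p ↥(Subgroup.centralizer (V : Set G))) :
    HasCharP p ↥(Subgroup.centralizer (U : Set G)) := by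
  set H := Subgroup.centralizer (V : Set G) with hH
  have hUH : U ≤ Subgroup.normalizer (H : Set G) :=
    hUV.trans (normalizer_le_normalizer_centralizer V)
  set HU := H ⊔ U with hHU
  have hHUn : HU ≤ Subgroup.normalizer (H : Set G) := sup_le Subgroup.le_normalizer hUH
  -- Step A
  have hA : HasCharP p ↥HU := by
    apply hasCharP_of_pprime_elements
    intro c hc hcop
    have hcop' : (orderOf (c : G)).Coprime p := by rwa [Subgroup.orderOf_coe]
    have hn : (H.subgroupOf HU).Normal :=
      (Subgroup.normal_subgroupOf_iff_le_normalizer le_sup_left).mpr hHUn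
    -- `c ∈ H`
    have hcH : (c : G) ∈ H := by
      have hcoe := Subgroup.coe_mul_of_right_le_normalizer_left H U hUH
      have hc' : (c : G) ∈ ((H ⊔ U : Subgroup G) : Set G) := c.2
      rw [hcoe] at hc'
      obtain ⟨a, ha, u, hu, hau⟩ := hc'
      have ha' : a ∈ H := ha
      have hu' : u ∈ U := hu
      let φ := QuotientGroup.mk' (H.subgroupOf HU)
      let u' : ↥HU := ⟨u, le_sup_right (a := H) hu'⟩
      let a' : ↥HU := ⟨a, le_sup_left (b := U) ha'⟩
      have hcau : c = a' * u' := Subtype.ext hau.symm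
      have hφa : φ a' = 1 := by
        rw [QuotientGroup.mk'_apply, QuotientGroup.eq_one_iff, Subgroup.mem_subgroupOf]
        exact ha'
      have hφ : φ c = φ u' := by rw [hcau, map_mul, hφa, one_mul]
      obtain ⟨k, hk⟩ := hU ⟨u, hu'⟩
      have hu'k : u' ^ (p ^ k) = 1 := by
        apply Subtype.ext
        have := congrArg Subtype.val hk
        simpa using this
      have h1 : (φ c) ^ (p ^ k) = 1 := by rw [hφ, ← map_pow, hu'k, map_one]
      have h2 : (φ c) ^ (orderOf c) = 1 := by rw [← map_pow, pow_orderOf_eq_one, map_one]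
      have hd1 := orderOf_dvd_of_pow_eq_one h1
      have hd2 := orderOf_dvd_of_pow_eq_one h2
      have hone : orderOf (φ c) = 1 :=
        Nat.eq_one_of_dvd_coprimes (Nat.Coprime.pow_left k hcop.symm) hd1 hd2
      have := orderOf_eq_one_iff.mp hone
      rw [QuotientGroup.mk'_apply, QuotientGroup.eq_one_iff, Subgroup.mem_subgroupOf] at this
      exact this
    rw [mem_centralizer_pCore_iff] at hc
    have hOH : (Cfsg.pCore p ↥H).map H.subtype ≤ (Cfsg.pCore p ↥HU).map HU.subtype :=
      le_pCore_of_normal_in_normal HU H _ le_sup_left hHUn (pCore_map_subtype_le p H)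
        (isPGroup_pCore_map_subtype p H) (le_normalizer_pCore_map_subtype p H)
    have hcH' : (⟨(c : G), hcH⟩ : ↥H) ∈ Subgroup.centralizer (Cfsg.pCore p ↥H : Set ↥H) := by
      rw [mem_centralizer_pCore_iff]
      exact Subgroup.centralizer_le (SetLike.coe_subset_coe.mpr hOH) hc
    have hmem := hV hcH'
    have hord : (orderOf (⟨(c : G), hcH⟩ : ↥H)).Coprime p := by
      have : orderOf (⟨(c : G), hcH⟩ : ↥H) = orderOf (c : G) := by
        rw [← Subgroup.orderOf_coe]
      rw [this]; exact hcop'
    have := eq_one_of_coprime_of_mem_pgroup (Cfsg.pCore p ↥H) (isPGroup_pCore p) _ hmem hord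
    apply Subtype.ext
    have := congrArg Subtype.val this
    simpa using this
  -- Step B
  have hB : HasCharP p ↥(HU ⊓ Subgroup.normalizer (U : Set G)) :=
    hasCharP_inf_normalizer HU U le_sup_right hU hA
  -- Step C
  apply hasCharP_of_le_normalizer _ _ _ _ hB
  · apply le_inf
    · exact (Subgroup.centralizer_le (SetLike.coe_subset_coe.mpr hVU)).trans le_sup_left
    · exact Subgroup.centralizer_le_normalizer _
  · exact inf_le_right.trans (normalizer_le_normalizer_centralizer U)

/-- `S1246` in `HasCharP` form. -/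
theorem hasCharP_centralizer_of_le [Finite G] {p : ℕ} [hp : Fact p.Prime] (U : Subgroup G)
    (hU : IsPGroup p U) : ∀ (n : ℕ) (V : Subgroup G), V ≤ U → Nat.card U - Nat.card V = n →
      HasCharP p ↥(Subgroup.centralizer (V : Set G)) →
      HasCharP p ↥(Subgroup.centralizer (U : Set G)) := by
  intro n
  induction n using Nat.strong_induction_on with
  | _ n ih =>
    intro V hVU hn hV
    by_cases hVeq : V = U
    · rw [← hVeq]; exact hV
    · have hlt : V < U := lt_of_le_of_ne hVU hVeq
      obtain ⟨r, hrU, hrV, hrN⟩ := exists_mem_normalizer_notMem_of_lt hU hlt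
      set V1 := V ⊔ Subgroup.zpowers r with hV1
      have hV1U : V1 ≤ U := sup_le hVU (by rw [Subgroup.zpowers_le]; exact hrU)
      have hVV1 : V < V1 := by
        apply lt_of_le_of_ne le_sup_left
        intro heq
        apply hrV
        rw [heq]
        exact le_sup_right (a := V) (Subgroup.mem_zpowers r)
      have hV1N : V1 ≤ Subgroup.normalizer (V : Set G) :=
        sup_le Subgroup.le_normalizer (by rw [Subgroup.zpowers_le]; exact hrN)
      have h1 := hasCharP_centralizer_of_normal V1 V le_sup_left hV1N (hU.to_le hV1U) hV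
      have hcard : Nat.card V < Nat.card V1 := by
        have := Set.ncard_lt_ncard (SetLike.coe_ssubset_coe.mpr hVV1) (Set.toFinite _)
        rwa [← Nat.card_coe_set_eq, ← Nat.card_coe_set_eq] at this
      have hcard2 : Nat.card V1 ≤ Nat.card U := Subgroup.card_le_of_le hV1U
      exact ih (Nat.card U - Nat.card V1) (by omega) V1 hV1U rfl h1

end Cfsg.Agent.Helper2
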