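import Mathlib
import Cfsg.Prelude.Def_Balance
import Cfsg.Agent.Helper2.PComp6

set_option autoImplicit false

namespace Cfsg.Agent.Helper2

open Cfsg.Agent.Helper1
open scoped Pointwise

section general
variable {X : Type*} [Group X]

/-- `O_{p'}(C)` as a subgroup of the ambient group. -/
def coreOf (p : ℕ) (C : Subgroup X) : Subgroup X := (Cfsg.pPrimeCore p ↥C).map C.subtype

theorem coreOf_le (p : ℕ) (C : Subgroup X) : coreOf p C ≤ C := by
  rintro _ ⟨y, -, rfl⟩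
  exact y.2

theorem coreOf_cj (p : ℕ) (C : Subgroup X) (g : X) : coreOf p (cj g C) = cj g (coreOf p C) := by
  let e : ↥C ≃* ↥(cj g C) := (MulAut.conj g).subgroupMap C
  have he : ∀ z : ↥C, ((e z : ↥(cj g C)) : X) = g * (z : X) * g⁻¹ := fun z => rfl
  have h1 : (Cfsg.pPrimeCore p ↥C).map e.toMonoidHom = Cfsg.pPrimeCore p ↥(cj g C) :=
    pPrimeCore_map_equiv p e
  ext x
  constructor
  · rintro ⟨y, hy, rfl⟩
    rw [← h1] at hy
    obtain ⟨z, hz, rfl⟩ := hy
    exact ⟨(z : X), ⟨z, hz, rfl⟩, rfl⟩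
  · rintro ⟨_, ⟨z, hz, rfl⟩, rfl⟩
    refine ⟨e z, ?_, rfl⟩
    rw [← h1]
    exact ⟨z, hz, rfl⟩

theorem centralizer_cj (P : Subgroup X) (g : X) :
    Subgroup.centralizer ((cj g P : Subgroup X) : Set X) =
      cj g (Subgroup.centralizer (P : Set X)) := by
  ext x
  rw [mem_cj_iff, Subgroup.mem_centralizer_iff, Subgroup.mem_centralizer_iff]
  constructor
  · intro h y hy
    have := h (g * y * g⁻¹) (conj_mem_cj P g y hy)
    calc y * (g⁻¹ * x * g) = g⁻¹ * ((g * y * g⁻¹) * x) * g := by group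
      _ = g⁻¹ * (x * (g * y * g⁻¹)) * g := by rw [this]
      _ = g⁻¹ * x * g * y := by group
  · rintro h _ ⟨y, hy, rfl⟩
    have := h y hy
    change g * y * g⁻¹ * x = x * (g * y * g⁻¹)
    calc g * y * g⁻¹ * x = g * (y * (g⁻¹ * x * g)) * g⁻¹ := by group
      _ = g * ((g⁻¹ * x * g) * y) * g⁻¹ := by rw [this]
      _ = x * (g * y * g⁻¹) := by group

theorem cj_sSup (S : Set (Subgroup X)) (g : X) : cj g (sSup S) = ⨆ K ∈ S, cj g K := by
  unfold cj
  rw [(Subgroup.gc_map_comap _).l_sSup]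

theorem cj_iSup {ι : Sort*} (f : ι → Subgroup X) (g : X) : cj g (⨆ i, f i) = ⨆ i, cj g (f i) := by
  unfold cj
  rw [Subgroup.map_iSup]

theorem cj_sup (A B : Subgroup X) (g : X) : cj g (A ⊔ B) = cj g A ⊔ cj g B := by
  unfold cj
  rw [Subgroup.map_sup]

theorem normal_of_cj_le {N : Subgroup X} (h : ∀ g : X, cj g N ≤ N) : N.Normal := by
  constructor
  intro n hn g
  exact h g (conj_mem_cj N g n hn)

theorem cj_eq_of_normal (N : Subgroup X) [hN : N.Normal] (g : X) : cj g N = N := by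
  apply le_antisymm
  · rintro _ ⟨n, hn, rfl⟩
    exact hN.conj_mem n hn g
  · intro n hn
    rw [mem_cj_iff]
    have := hN.conj_mem n hn g⁻¹
    rwa [inv_inv] at this

theorem cj_le_of_mem {J : Subgroup X} {D : Subgroup X} (hD : D ≤ J) {x : X} (hx : x ∈ J) :
    cj x D ≤ J := by
  rintro _ ⟨d, hd, rfl⟩
  exact J.mul_mem (J.mul_mem hx (hD hd)) (J.inv_mem hx)

/-- Conjugating a Sylow subgroup of a subgroup `M` by an automorphism of `M` induced by
conjugation in the ambient group. -/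
theorem map_subtype_smul_sylow {p : ℕ} (M : Subgroup X) (T : Sylow p ↥M) (φ : MulAut ↥M) (g : X)
    (hφ : ∀ y : ↥M, ((φ y : ↥M) : X) = g * (y : X) * g⁻¹) :
    (((φ • T : Sylow p ↥M) : Subgroup ↥M)).map M.subtype =
      cj g ((T : Subgroup ↥M).map M.subtype) := by
  ext x
  constructor
  · rintro ⟨y, hy, rfl⟩
    rw [Sylow.pointwise_smul_def] at hy
    obtain ⟨z, hz, rfl⟩ := hy
    refine ⟨(z : X), ⟨z, hz, rfl⟩, ?_⟩
    exact (hφ z).symm
  · rintro ⟨_, ⟨z, hz, rfl⟩, rfl⟩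
    refine ⟨φ z, ?_, hφ z⟩
    rw [Sylow.pointwise_smul_def]
    exact ⟨z, hz, rfl⟩

end general

end Cfsg.Agent.Helper2
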