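import Mathlib
import Cfsg.Agent.Helper2.ExtLayer1

set_option autoImplicit false

namespace Cfsg.Agent.Helper2

open Cfsg.Agent.Helper1
open scoped Pointwise

section pcomp
variable {X : Type*} [Group X] [Finite X]

omit [Finite X] in
theorem opp_cj (p : ℕ) (M : Subgroup X) (g : X) : opp p (cj g M) = cj g (opp p M) := by
  apply le_antisymm
  · have := cj_opp_le p (cj g M) g⁻¹
    rw [cj_cj, inv_mul_cancel, cj_one] at this
    have h2 := cj_mono this g
    rwa [cj_cj, mul_inv_cancel, cj_one] at h2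
  · exact cj_opp_le p M g

omit [Finite X] in
theorem comap_mk'_cj (N : Subgroup X) [N.Normal] (Kbar : Subgroup (X ⧸ N)) (g : X) :
    (cj (QuotientGroup.mk' N g) Kbar).comap (QuotientGroup.mk' N) =
      cj g (Kbar.comap (QuotientGroup.mk' N)) := by
  ext x
  rw [Subgroup.mem_comap, mem_cj_iff, mem_cj_iff, Subgroup.mem_comap, map_mul, map_mul, map_inv]

omit [Finite X] in
theorem map_cj {Y : Type*} [Group Y] (f : X →* Y) (K : Subgroup X) (g : X) :
    (cj g K).map f = cj (f g) (K.map f) := by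
  ext y
  constructor
  · rintro ⟨_, ⟨k, hk, rfl⟩, rfl⟩
    refine ⟨f k, ⟨k, hk, rfl⟩, ?_⟩
    change f g * f k * (f g)⁻¹ = f (g * k * g⁻¹)
    rw [map_mul, map_mul, map_inv]
  · rintro ⟨_, ⟨k, hk, rfl⟩, rfl⟩
    refine ⟨g * k * g⁻¹, conj_mem_cj K g k hk, ?_⟩
    change f (g * k * g⁻¹) = f g * f k * (f g)⁻¹
    rw [map_mul, map_mul, map_inv]

theorem isPComponent_cj (p : ℕ) [hp : Fact p.Prime] {K : Subgroup X}
    (hK : Cfsg.IsPComponent p K) (g : X) : Cfsg.IsPComponent p (cj g K) := by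
  rw [isPComponent_iff] at hK ⊢
  obtain ⟨h1, h2⟩ := hK
  rw [map_cj]
  refine ⟨isComponent_cj h1 _, ?_⟩
  rw [comap_mk'_cj, opp_cj, h2]

instance pLayer_normal (p : ℕ) [hp : Fact p.Prime] : (Cfsg.pLayer p X).Normal := by
  apply normal_of_cj_le
  intro g
  unfold Cfsg.pLayer
  rw [cj_sSup]
  apply iSup₂_le
  intro K hK
  exact le_sSup (isPComponent_cj p hK g)

omit [Finite X] in
instance pPrimePCore_normal (p : ℕ) : (Cfsg.pPrimePCore p X).Normal := by
  unfold Cfsg.pPrimePCore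
  infer_instance

end pcomp

section ext
variable {X : Type*} [Group X] [Finite X]

/-- The subgroup `L_{2'}(X) O_{2',2}(X)`. -/
abbrev lo2 (X : Type*) [Group X] : Subgroup X := Cfsg.pLayer 2 X ⊔ Cfsg.pPrimePCore 2 X

/-- `O(C_X(T))` for a Sylow 2-subgroup `T` of `L_{2'}(X) O_{2',2}(X)`. -/
def dT (T : Sylow 2 ↥(lo2 X)) : Subgroup X :=
  coreOf 2 (Subgroup.centralizer ((((T : Subgroup ↥(lo2 X)).map (lo2 X).subtype : Subgroup X)) : Set X))

omit [Finite X] in
theorem extendedTwoLayer_eq :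
    Cfsg.extendedTwoLayer X = Cfsg.pLayer 2 X ⊔ Cfsg.oddCore X ⊔ ⨆ T : Sylow 2 ↥(lo2 X), dT T :=
  rfl

instance lo2_normal : (lo2 X).Normal := by
  have : Fact (Nat.Prime 2) := ⟨Nat.prime_two⟩
  exact Subgroup.sup_normal _ _

omit [Finite X] in
theorem dT_smul (T : Sylow 2 ↥(lo2 X)) (φ : MulAut ↥(lo2 X)) (g : X)
    (hφ : ∀ y : ↥(lo2 X), ((φ y : ↥(lo2 X)) : X) = g * (y : X) * g⁻¹) :
    dT (φ • T) = cj g (dT T) := by
  unfold dT
  rw [map_subtype_smul_sylow (lo2 X) T φ g hφ, centralizer_cj, coreOf_cj]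

theorem extendedTwoLayer_normal : (Cfsg.extendedTwoLayer X).Normal := by
  have : Fact (Nat.Prime 2) := ⟨Nat.prime_two⟩
  rw [extendedTwoLayer_eq]
  have h3 : (⨆ T : Sylow 2 ↥(lo2 X), dT T).Normal := by
    apply normal_of_cj_le
    intro g
    rw [cj_iSup]
    apply iSup_le
    intro T
    rw [← dT_smul T (MulAut.conjNormal g) g (fun y => MulAut.conjNormal_apply g y)]
    exact le_iSup (fun T : Sylow 2 ↥(lo2 X) => dT T) _
  have h1 : (Cfsg.pLayer 2 X ⊔ Cfsg.oddCore X).Normal := Subgroup.sup_normal _ _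
  exact Subgroup.sup_normal _ _

end ext

end Cfsg.Agent.Helper2
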