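import Mathlib
import Cfsg.Agent.Helper5.Cores
import Cfsg.Agent.Helper2.ExtLayer2

set_option autoImplicit false

namespace Cfsg.Agent.Helper2

open Cfsg.Agent.Helper1
open scoped Pointwise

variable {X : Type*} [Group X] [Finite X]

/-- The image of `T` as a subgroup of `X`. -/
abbrev tX (T : Sylow 2 ↥(lo2 X)) : Subgroup X := (T : Subgroup ↥(lo2 X)).map (lo2 X).subtype

omit [Finite X] in
theorem dT_def (T : Sylow 2 ↥(lo2 X)) :
    dT T = coreOf 2 (Subgroup.centralizer ((tX T : Subgroup X) : Set X)) := rfl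

/-- `L_{2'}(X) O_{2',2}(X) = L_{2'}(X) O(X) T`. -/
theorem lo2_le_sup (T : Sylow 2 ↥(lo2 X)) :
    lo2 X ≤ (Cfsg.pLayer 2 X ⊔ Cfsg.oddCore X) ⊔ tX T := by
  have hp2 : Fact (Nat.Prime 2) := ⟨Nat.prime_two⟩
  set N₀ := Cfsg.pLayer 2 X ⊔ Cfsg.oddCore X with hN₀
  have hN₀n : N₀.Normal := Subgroup.sup_normal _ _
  set q := QuotientGroup.mk' N₀ with hq
  -- the image of `M` in `X / N₀` is a 2-group
  have hpg : IsPGroup 2 ↥((lo2 X).map q) := by
    rintro ⟨_, ⟨m, hm, rfl⟩⟩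
    have hm' : m ∈ ((Cfsg.pLayer 2 X ⊔ Cfsg.pPrimePCore 2 X : Subgroup X) : Set X) := hm
    rw [Subgroup.normal_mul] at hm'
    obtain ⟨l, hl, r, hr, rfl⟩ := hm'
    have hr' : QuotientGroup.mk' (Cfsg.pPrimeCore 2 X) r ∈
        Cfsg.pCore 2 (X ⧸ Cfsg.pPrimeCore 2 X) := hr
    obtain ⟨k, hk⟩ := (Cfsg.Agent.Helper5.isPGroup_pCore (G := X ⧸ Cfsg.pPrimeCore 2 X) 2)
      ⟨_, hr'⟩
    have hk' : (QuotientGroup.mk' (Cfsg.pPrimeCore 2 X) r) ^ (2 ^ k) = 1 := by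
      have := congrArg Subtype.val hk
      simpa using this
    rw [← map_pow, QuotientGroup.mk'_apply, QuotientGroup.eq_one_iff] at hk'
    refine ⟨k, ?_⟩
    apply Subtype.ext
    rw [Subgroup.coe_pow, Subgroup.coe_one]
    change (q (l * r)) ^ (2 ^ k) = 1
    have hql : q l = 1 := by
      rw [hq, QuotientGroup.mk'_apply, QuotientGroup.eq_one_iff]
      exact Subgroup.mem_sup_left hl
    rw [map_mul, hql, one_mul, ← map_pow, hq, QuotientGroup.mk'_apply, QuotientGroup.eq_one_iff]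
    exact Subgroup.mem_sup_right hk'
  have hf : Function.Surjective (q.subgroupMap (lo2 X)) := q.subgroupMap_surjective (lo2 X)
  have hS : ((T.mapSurjective hf : Sylow 2 ↥((lo2 X).map q)) : Subgroup ↥((lo2 X).map q)) = ⊤ :=
    ((T.mapSurjective hf).is_maximal' (hpg.to_subgroup ⊤) le_top).symm
  rw [Sylow.coe_mapSurjective] at hS
  intro m hm
  have : (q.subgroupMap (lo2 X)) ⟨m, hm⟩ ∈ (T : Subgroup ↥(lo2 X)).map (q.subgroupMap (lo2 X)) := by
    rw [hS]; trivial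
  obtain ⟨t, ht, htm⟩ := this
  have h1 : q (t : X) = q m := congrArg Subtype.val htm
  rw [hq, QuotientGroup.mk'_apply, QuotientGroup.mk'_apply, QuotientGroup.eq] at h1
  have h2 : m = (t : X) * ((t : X)⁻¹ * m) := by group
  rw [h2]
  exact Subgroup.mul_mem _ (Subgroup.mem_sup_right ⟨t, ht, rfl⟩) (Subgroup.mem_sup_left h1)

omit [Finite X] in
theorem cj_dT_of_mem (T : Sylow 2 ↥(lo2 X)) {t : X} (ht : t ∈ tX T) : cj t (dT T) = dT T := by
  rw [dT_def, ← coreOf_cj, ← centralizer_cj]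
  have : cj t (tX T) = tX T := (mem_normalizer_iff_cj _ _).mp (Subgroup.le_normalizer ht)
  rw [this]

theorem dT_le (T T₂ : Sylow 2 ↥(lo2 X)) :
    dT T₂ ≤ Cfsg.pLayer 2 X ⊔ Cfsg.oddCore X ⊔ dT T := by
  have hp2 : Fact (Nat.Prime 2) := ⟨Nat.prime_two⟩
  obtain ⟨m, rfl⟩ := MulAction.exists_smul_eq ↥(lo2 X) T T₂
  rw [Sylow.smul_def, dT_smul T (MulAut.conj m) (m : X) (fun y => by simp [MulAut.conj_apply])]
  have hm := lo2_le_sup T m.2
  have hN₀n : (Cfsg.pLayer 2 X ⊔ Cfsg.oddCore X).Normal := Subgroup.sup_normal _ _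
  have hm' : (m : X) ∈ (((Cfsg.pLayer 2 X ⊔ Cfsg.oddCore X) ⊔ tX T : Subgroup X) : Set X) := hm
  rw [Subgroup.normal_mul] at hm'
  obtain ⟨n, hn, t, ht, hnt⟩ := hm'
  rw [← hnt, ← cj_cj, cj_dT_of_mem T ht]
  exact cj_le_of_mem le_sup_right (Subgroup.mem_sup_left hn)

theorem extendedTwoLayer_eq_single (T : Sylow 2 ↥(lo2 X)) :
    Cfsg.extendedTwoLayer X = Cfsg.pLayer 2 X ⊔ Cfsg.oddCore X ⊔ dT T := by
  rw [extendedTwoLayer_eq]
  apply le_antisymm
  · apply sup_le le_sup_left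
    apply iSup_le
    intro T₂
    exact dT_le T T₂
  · apply sup_le_sup_left
    exact le_iSup (fun T : Sylow 2 ↥(lo2 X) => dT T) T

end Cfsg.Agent.Helper2
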