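import Mathlib
import Cfsg.Agent.Helper2.ExtLayer3

set_option autoImplicit false

namespace Cfsg.Agent.Helper2

open Cfsg.Agent.Helper1
open scoped Pointwise

variable {X : Type*} [Group X] [Finite X]

theorem card_coreOf_coprime (p : ℕ) (C : Subgroup X) : (Nat.card (coreOf p C)).Coprime p := by
  unfold coreOf
  rw [Subgroup.card_map_of_injective C.subtype_injective]
  exact card_pPrimeCore_coprime p

omit [Finite X] in
theorem tX_le (T : Sylow 2 ↥(lo2 X)) : tX T ≤ lo2 X := by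
  rintro _ ⟨y, -, rfl⟩
  exact y.2

omit [Finite X] in
theorem isPGroup_tX (T : Sylow 2 ↥(lo2 X)) : IsPGroup 2 ↥(tX T) := T.2.map _

omit [Finite X] in
theorem tX_eq_inf (T : Sylow 2 ↥(lo2 X)) (S : Sylow 2 X) (h : tX T ≤ (S : Subgroup X)) :
    tX T = (S : Subgroup X) ⊓ lo2 X := by
  apply le_antisymm (le_inf h (tX_le T))
  have hpg : IsPGroup 2 ↥(((S : Subgroup X) ⊓ lo2 X).subgroupOf (lo2 X)) :=
    (S.2.to_le inf_le_left).comap_subtype
  have hle : (T : Subgroup ↥(lo2 X)) ≤ ((S : Subgroup X) ⊓ lo2 X).subgroupOf (lo2 X) := by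
    intro y hy
    rw [Subgroup.mem_subgroupOf]
    exact ⟨h ⟨y, hy, rfl⟩, y.2⟩
  have heq := T.is_maximal' hpg hle
  intro x hx
  have : (⟨x, hx.2⟩ : ↥(lo2 X)) ∈ ((S : Subgroup X) ⊓ lo2 X).subgroupOf (lo2 X) := by
    rw [Subgroup.mem_subgroupOf]; exact hx
  rw [heq] at this
  exact ⟨⟨x, hx.2⟩, this, rfl⟩

theorem exists_odd_factor :
    ∃ F : Subgroup X, Odd (Nat.card ↥F) ∧
      (∃ S : Sylow 2 X, (S : Subgroup X) ≤ Subgroup.normalizer (F : Set X)) ∧
      Cfsg.extendedTwoLayer X = Cfsg.pLayer 2 X ⊔ F := by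
  have hp2 : Fact (Nat.Prime 2) := ⟨Nat.prime_two⟩
  obtain ⟨T⟩ : Nonempty (Sylow 2 ↥(lo2 X)) := inferInstance
  obtain ⟨S, hS⟩ := (isPGroup_tX T).exists_le_sylow
  refine ⟨Cfsg.oddCore X ⊔ dT T, ?_, ⟨S, ?_⟩, ?_⟩
  · have h1 := card_sup_dvd (dT T) (Cfsg.oddCore X)
    rw [sup_comm] at h1
    have h2 : (Nat.card ↥(dT T) * Nat.card ↥(Cfsg.oddCore X)).Coprime 2 :=
      Nat.Coprime.mul_left (card_coreOf_coprime 2 _) (card_pPrimeCore_coprime 2)
    exact Nat.coprime_two_right.mp (Nat.Coprime.coprime_dvd_left h1 h2)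
  · intro s hs
    rw [mem_normalizer_iff_cj, cj_sup, cj_eq_of_normal]
    congr 1
    rw [dT_def, ← coreOf_cj, ← centralizer_cj]
    have : cj s (tX T) = tX T := by
      rw [tX_eq_inf T S hS]
      apply le_antisymm
      · rintro _ ⟨x, ⟨hxS, hxM⟩, rfl⟩
        refine ⟨?_, ?_⟩
        · exact (S : Subgroup X).mul_mem ((S : Subgroup X).mul_mem hs hxS)
            ((S : Subgroup X).inv_mem hs)
        · exact (lo2_normal (X := X)).conj_mem x hxM s
      · rintro x ⟨hxS, hxM⟩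
        rw [mem_cj_iff]
        refine ⟨?_, ?_⟩
        · exact (S : Subgroup X).mul_mem ((S : Subgroup X).mul_mem ((S : Subgroup X).inv_mem hs) hxS) hs
        · have := (lo2_normal (X := X)).conj_mem x hxM s⁻¹
          rwa [inv_inv] at this
    rw [this]
  · rw [extendedTwoLayer_eq_single T, sup_assoc]

end Cfsg.Agent.Helper2
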