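import Mathlib
import Cfsg.Agent.Helper1.Subnormal
import Cfsg.Agent.Helper2.ExtLayer4

set_option autoImplicit false

namespace Cfsg.Agent.Helper2

open Cfsg.Agent.Helper1
open scoped Pointwise

section general
variable {G : Type*} [Group G] [Finite G]

/-- If `O_{p'}(G) = 1`, every component of `G` has order divisible by `p`. -/
theorem component_dvd_card (p : ℕ) [hp : Fact p.Prime] (hY : Cfsg.pPrimeCore p G = ⊥)
    {K : Subgroup G} (hK : Cfsg.IsComponent K) : p ∣ Nat.card K := by
  by_contra hnd
  have hcop : (Nat.card K).Coprime p :=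
    ((Nat.Prime.coprime_iff_not_dvd hp.out).mpr hnd).symm
  have h2 := le_pPrimeCore_of_subnormal K hK.1 hcop
  rw [hY] at h2
  exact component_ne_bot hK (le_bot_iff.mp h2)

end general

section ext
variable {X : Type*} [Group X] [Finite X]

theorem oddCore_le_normalizer_pComponent (p : ℕ) [hp : Fact p.Prime] {K : Subgroup X}
    (hK : Cfsg.IsPComponent p K) : Cfsg.pPrimeCore p X ≤ Subgroup.normalizer (K : Set X) := by
  have h3 := normalizer_le_normalizer_opp p (K ⊔ Cfsg.pPrimeCore p X)
  rw [pComponent_sup_opp p hK] at h3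
  exact (le_sup_right.trans Subgroup.le_normalizer).trans h3

theorem centralizer_tX_le_normalizer {K : Subgroup X} (hK : Cfsg.IsPComponent 2 K)
    (T : Sylow 2 ↥(lo2 X)) :
    Subgroup.centralizer ((tX T : Subgroup X) : Set X) ≤ Subgroup.normalizer (K : Set X) := by
  have hp2 : Fact (Nat.Prime 2) := ⟨Nat.prime_two⟩
  intro d hd
  rw [mem_normalizer_iff_cj]
  set O := Cfsg.pPrimeCore 2 X with hO
  set π := QuotientGroup.mk' O with hπ
  have hπs : Function.Surjective π := QuotientGroup.mk'_surjective _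
  obtain ⟨S, hS⟩ := (isPGroup_tX T).exists_le_sylow
  have hTS := tX_eq_inf T S hS
  have hodd : ¬ 2 ∣ ((S.mapSurjective hπs : Sylow 2 (X ⧸ O)) : Subgroup (X ⧸ O)).relIndex
      (K.map π) := sylow_relIndex_subnormal 2 _ hK.2.1.1
  rw [Sylow.coe_mapSurjective] at hodd
  by_contra hne
  have hKd := isPComponent_cj 2 hK d
  have hne' : (cj d K).map π ≠ K.map π := fun h => hne (pComponent_unique 2 hKd hK h)
  rw [map_cj] at hne'
  have hcomm := components_commute hK.2.1 (isComponent_cj hK.2.1 (π d)) (Ne.symm hne')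
  rw [Subgroup.commutator_eq_bot_iff_le_centralizer] at hcomm
  -- `K ⊔ O ≤ lo2 X`
  have hKO : K ⊔ O ≤ lo2 X := by
    apply sup_le
    · exact (pComponent_le_pLayer hK).trans le_sup_left
    · refine le_trans ?_ le_sup_right
      intro o ho
      change π o ∈ Cfsg.pCore 2 (X ⧸ O)
      have : π o = 1 := by
        rw [hπ, QuotientGroup.mk'_apply, QuotientGroup.eq_one_iff]; exact ho
      rw [this]; exact Subgroup.one_mem _
  have hcen : ((S : Subgroup X).map π ⊓ K.map π).subgroupOf (K.map π) ≤
      Subgroup.center ↥(K.map π) := by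
    rintro ⟨x, hxK⟩ hx
    rw [Subgroup.mem_subgroupOf] at hx
    obtain ⟨⟨s, hsS, hsx⟩, -⟩ := hx
    change π s = x at hsx
    have hsM : s ∈ lo2 X := by
      apply hKO
      rw [← comap_map_mk'_eq_sup, Subgroup.mem_comap]
      change π s ∈ K.map π
      rw [hsx]; exact hxK
    have hsT : s ∈ tX T := by rw [hTS]; exact ⟨hsS, hsM⟩
    have hds : d * s = s * d := (Subgroup.mem_centralizer_iff.mp hd s hsT).symm
    have hxd : x ∈ cj (π d) (K.map π) := by
      rw [mem_cj_iff, ← hsx, ← map_inv, ← map_mul, ← map_mul]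
      have : d⁻¹ * s * d = s := by
        rw [mul_assoc, ← hds]; group
      rw [this, hsx]; exact hxK
    rw [Subgroup.mem_center_iff]
    rintro ⟨y, hyK⟩
    apply Subtype.ext
    have := Subgroup.mem_centralizer_iff.mp (hcomm hyK) x hxd
    simpa using this.symm
  have h1 : (Subgroup.center ↥(K.map π)).index ∣
      (((S : Subgroup X).map π ⊓ K.map π).subgroupOf (K.map π)).index :=
    Subgroup.index_dvd_of_le hcen
  have h2 : (((S : Subgroup X).map π ⊓ K.map π).subgroupOf (K.map π)).index =
      ((S : Subgroup X).map π).relIndex (K.map π) := by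
    rw [← Subgroup.relIndex, Subgroup.inf_relIndex_right]
  have h3 : 2 ∣ Nat.card ↥(K.map π) :=
    component_dvd_card 2 (pPrimeCore_quotient_pPrimeCore 2) hK.2.1
  have h4 := dvd_index_center_of_perfect (G := ↥(K.map π)) hK.2.1.2.1.commutator_eq_top h3
  rw [h2] at h1
  exact hodd (h4.trans h1)

theorem extendedTwoLayer_le_normalizer {K : Subgroup X} (hK : Cfsg.IsPComponent 2 K) :
    Cfsg.extendedTwoLayer X ≤ Subgroup.normalizer (K : Set X) := by
  have hp2 : Fact (Nat.Prime 2) := ⟨Nat.prime_two⟩
  rw [extendedTwoLayer_eq]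
  apply sup_le (sup_le (pLayer_le_normalizer 2 hK) (oddCore_le_normalizer_pComponent 2 hK))
  apply iSup_le
  intro T
  exact (coreOf_le 2 _).trans (centralizer_tX_le_normalizer hK T)

end ext

end Cfsg.Agent.Helper2
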