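import Mathlib
import Cfsg.Agent.Helper2.PLayerCent

set_option autoImplicit false

namespace Cfsg.Agent.Helper2

open Cfsg.Agent.Helper1
open scoped commutatorElement

variable {G : Type*} [Group G] [Finite G]

omit [Finite G] in
/-- A component of `G` contained in a subgroup `N` is a component of `N`. -/
theorem isComponent_subgroupOf {K N : Subgroup G} (hK : Cfsg.IsComponent K) (hKN : K ≤ N) :
    Cfsg.IsComponent (K.subgroupOf N) :=
  ⟨hK.1.subgroupOf, isQuasisimple_of_mulEquiv (Subgroup.subgroupOfEquivOfLe hKN).symm hK.2⟩

omit [Finite G] in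
/-- The layer of `N` lies in the preimage of `E(N / O_{p'}(N))`. -/
theorem layer_le_comap_layer (p : ℕ) :
    Cfsg.layer G ≤ (Cfsg.layer (G ⧸ Cfsg.pPrimeCore p G)).comap
      (QuotientGroup.mk' (Cfsg.pPrimeCore p G)) := by
  rw [← Subgroup.map_le_iff_le_comap]
  exact map_layer_le _ (QuotientGroup.mk'_surjective _)

theorem layer_normalizer_eq (p : ℕ) [hp : Fact p.Prime] (P : Subgroup G)
    (hP : P ≤ Cfsg.pCore p G) :
    (Cfsg.layer ↥(Subgroup.normalizer (P : Set G))).map (Subgroup.normalizer (P : Set G)).subtype
      = Cfsg.layer G := by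
  set N := Subgroup.normalizer (P : Set G) with hN
  set Q := Cfsg.pCore p G with hQ
  have hQp : IsPGroup p ↥Q := Cfsg.Agent.Helper5.isPGroup_pCore p
  have hPp : IsPGroup p ↥P := hQp.to_le hP
  have hCN : Subgroup.centralizer (Q : Set G) ≤ N :=
    (Subgroup.centralizer_le (show (P : Set G) ⊆ Q from hP)).trans
      (Subgroup.centralizer_le_normalizer _)
  apply le_antisymm
  · unfold Cfsg.layer
    rw [(Subgroup.gc_map_comap _).l_sSup]
    apply iSup₂_le
    intro L hL
    have h1 : L ≤ (Subgroup.centralizer (Q : Set G)).subgroupOf N :=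
      (component_le_layer hL).trans ((layer_le_comap_layer p).trans
        (comap_layer_normalizer_le_centralizer_pCore p P hPp))
    have hL' : L.map N.subtype ≤ Subgroup.centralizer (Q : Set G) := by
      rintro _ ⟨y, hy, rfl⟩
      exact Subgroup.mem_subgroupOf.mp (h1 hy)
    have hcn : (Subgroup.centralizer (Q : Set G)).Normal := Subgroup.normal_centralizer
    have hsub : ((L.map N.subtype).subgroupOf (Subgroup.centralizer (Q : Set G))).IsSubnormal := by
      have h2 : (L.map N.subtype).subgroupOf (Subgroup.centralizer (Q : Set G)) =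
          L.comap (Subgroup.inclusion hCN) := by
        ext x
        rw [Subgroup.mem_subgroupOf, Subgroup.mem_comap]
        constructor
        · rintro ⟨y, hy, hxy⟩
          have : y = Subgroup.inclusion hCN x := Subtype.ext hxy
          rwa [← this]
        · intro hx
          exact ⟨_, hx, rfl⟩
      rw [h2]
      exact hL.1.comap _
    have hcomp : Cfsg.IsComponent (L.map N.subtype) :=
      ⟨Subgroup.IsSubnormal.trans hL' hsub (Subgroup.Normal.isSubnormal hcn),
        isQuasisimple_of_mulEquiv (L.equivMapOfInjective N.subtype N.subtype_injective) hL.2⟩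
    exact le_sSup hcomp
  · unfold Cfsg.layer
    apply sSup_le
    intro K hK
    have h1 : ⁅K, Q⁆ = ⊥ := by
      apply component_commutator_solvable_eq_bot K Q hK (isSolvable_pCore p)
      rw [Subgroup.normalizer_eq_top]; exact le_top
    rw [Subgroup.commutator_eq_bot_iff_le_centralizer] at h1
    have hKN : K ≤ N := h1.trans hCN
    have h2 := isComponent_subgroupOf hK hKN
    rw [← Subgroup.map_subgroupOf_eq_of_le hKN]
    apply Subgroup.map_mono
    exact le_sSup h2

end Cfsg.Agent.Helper2
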