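import Mathlib
import Cfsg.Agent.Helper2.PConstrained3
import Cfsg.Agent.Helper2.PLayerCent2
import Cfsg.Agent.Helper2.ExtLayer5
import Cfsg.Agent.Helper2.CharPLocal2
import Cfsg.Agent.Helper2.Signalizer1

set_option autoImplicit false

namespace Cfsg.Agent.Helper2

open Cfsg.Agent.Helper1 Cfsg.Agent.Helper5
open scoped commutatorElement

section surj
variable {A B : Type*} [Group A] [Group B] [Finite A] [Finite B]

theorem coprime_card_of_no_elt {p : ℕ} [hp : Fact p.Prime] (N : Subgroup A)
    (h : ∀ a ∈ N, orderOf a ≠ p) : (Nat.card N).Coprime p := by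
  rw [Nat.coprime_comm, Nat.Prime.coprime_iff_not_dvd hp.out]
  intro hdvd
  obtain ⟨a, ha⟩ := exists_prime_orderOf_dvd_card' p hdvd
  apply h (a : A) a.2
  rw [Subgroup.orderOf_coe]; exact ha

/-- If `f : A → B` is onto with `p'`-kernel and `B` has a component of order divisible by `p`,
then `A` has a `p`-component. -/
theorem pLayer_ne_bot_of_surjective (p : ℕ) [hp : Fact p.Prime] (f : A →* B)
    (hf : Function.Surjective f) (hker : (Nat.card f.ker).Coprime p)
    (K : Subgroup B) (hK : Cfsg.IsComponent K) (hKp : p ∣ Nat.card K) :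
    Cfsg.pLayer p A ≠ ⊥ := by
  intro hbot
  set OB := Cfsg.pPrimeCore p B with hOB
  set g : A →* B ⧸ OB := (QuotientGroup.mk' OB).comp f with hg
  have hgs : Function.Surjective g := (QuotientGroup.mk'_surjective _).comp hf
  have hgker : (Nat.card g.ker).Coprime p := by
    apply coprime_card_of_no_elt
    intro a ha hord
    rw [MonoidHom.mem_ker, hg, MonoidHom.comp_apply, QuotientGroup.mk'_apply,
      QuotientGroup.eq_one_iff] at ha
    -- `f a ∈ O_{p'}(B)` has order dividing `p`
    have h1 : (f a) ^ p = 1 := by rw [← map_pow, ← hord, pow_orderOf_eq_one, map_one]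
    have h2 : (f a) ^ (Nat.card OB) = 1 := by
      have h3 : (⟨f a, ha⟩ : ↥OB) ^ (Nat.card OB) = 1 := pow_card_eq_one'
      have := congrArg Subtype.val h3
      rw [Subgroup.coe_pow, Subgroup.coe_one] at this
      exact this
    have hfa : f a = 1 := by
      have hd1 := orderOf_dvd_of_pow_eq_one h1
      have hd2 := orderOf_dvd_of_pow_eq_one h2
      have : orderOf (f a) = 1 :=
        Nat.eq_one_of_dvd_coprimes (card_pPrimeCore_coprime p) hd2 hd1
      exact orderOf_eq_one_iff.mp this
    -- so `a ∈ ker f`, a `p'`-group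
    have h4 : (⟨a, MonoidHom.mem_ker.mpr hfa⟩ : ↥f.ker) ^ (Nat.card f.ker) = 1 := pow_card_eq_one'
    have h5 : a ^ (Nat.card f.ker) = 1 := by
      have := congrArg Subtype.val h4
      rw [Subgroup.coe_pow, Subgroup.coe_one] at this
      exact this
    have h6 := orderOf_dvd_of_pow_eq_one h5
    rw [hord] at h6
    have := Nat.Coprime.eq_one_of_dvd hker.symm h6
    exact hp.out.one_lt.ne' this
  have hBbar : Cfsg.pPrimeCore p (B ⧸ OB) = ⊥ := pPrimeCore_quotient_pPrimeCore p
  have hk := pPrimeCore_eq_ker_of_surjective p g hgs hgker hBbar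
  let e : A ⧸ Cfsg.pPrimeCore p A ≃* B ⧸ OB :=
    (QuotientGroup.quotientMulEquivOfEq hk).trans (QuotientGroup.quotientKerEquivOfSurjective g hgs)
  have hlayerA : Cfsg.layer (A ⧸ Cfsg.pPrimeCore p A) = ⊥ := (pLayer_eq_bot_iff_layer p).mp hbot
  -- image of `K` in `B / O_{p'}(B)` is a component
  rcases map_component_eq_bot_or (QuotientGroup.mk' OB) (QuotientGroup.mk'_surjective _) hK
    with h | h
  · have hKO : K ≤ OB := by
      intro k hk'
      have : QuotientGroup.mk' OB k ∈ K.map (QuotientGroup.mk' OB) := ⟨k, hk', rfl⟩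
      rw [h, Subgroup.mem_bot, QuotientGroup.mk'_apply, QuotientGroup.eq_one_iff] at this
      exact this
    have h1 : (Nat.card K).Coprime p :=
      Nat.Coprime.coprime_dvd_left (Subgroup.card_dvd_of_le hKO) (card_pPrimeCore_coprime p)
    exact (Nat.Prime.coprime_iff_not_dvd hp.out).mp h1.symm hKp
  · have h1 := isComponent_map_equiv e.symm h
    have h2 := component_le_layer h1
    rw [hlayerA] at h2
    exact component_ne_bot h1 (le_bot_iff.mp h2)

end surj

section main
variable {G : Type*} [Group G] [Finite G]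

theorem pLayer_inf_normalizer_eq_bot (p : ℕ) [hp : Fact p.Prime] (B P : Subgroup G) (hPB : P ≤ B)
    (hP : IsPGroup p P) (hB : Cfsg.pLayer p ↥B = ⊥) :
    Cfsg.pLayer p ↥(B ⊓ Subgroup.normalizer (P : Set G)) = ⊥ := by
  have h1 := (pLayer_normalizer_eq_bot p hB (P.subgroupOf B) hP.comap_subtype).1
  rw [← Subgroup.subgroupOf_normalizer_eq hPB] at h1
  have e : ↥((Subgroup.normalizer (P : Set G)).subgroupOf B) ≃*
      ↥(B ⊓ Subgroup.normalizer (P : Set G)) := by
    have h2 : (Subgroup.normalizer (P : Set G)).subgroupOf B =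
        (B ⊓ Subgroup.normalizer (P : Set G)).subgroupOf B := by
      rw [inf_comm, Subgroup.inf_subgroupOf_right]
    rw [h2]
    exact Subgroup.subgroupOfEquivOfLe inf_le_left
  exact pLayer_eq_bot_of_equiv p e h1

/-- If `x` lies in a normal `p`-subgroup `R` of `Y` and `C_Y(x)` has no `p`-components, then `Y`
has no `p`-components. -/
theorem pLayer_eq_bot_of_centralizer (p : ℕ) [hp : Fact p.Prime] (R : Subgroup G) [hRn : R.Normal]
    (hR : IsPGroup p R) (x : G) (hxR : x ∈ R)
    (hC : Cfsg.pLayer p ↥(Subgroup.centralizer ({x} : Set G)) = ⊥) : Cfsg.pLayer p G = ⊥ := by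
  by_contra hne
  have hex : ∃ K : Subgroup G, Cfsg.IsPComponent p K := by
    by_contra hno
    rw [not_exists] at hno
    apply hne
    unfold Cfsg.pLayer
    rw [eq_bot_iff]
    apply sSup_le
    intro K hK
    exact absurd hK (hno K)
  obtain ⟨K, hK⟩ := hex
  set O := Cfsg.pPrimeCore p G with hO
  set π := QuotientGroup.mk' O with hπ
  have hπs : Function.Surjective π := QuotientGroup.mk'_surjective _
  have hOc : (Nat.card O).Coprime p := card_pPrimeCore_coprime p
  have hKbar := hK.2.1
  -- `K̄` centralizes the image of `R`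
  have h1 : R.map π ≤ Cfsg.fittingSubgroup (G ⧸ O) := by
    apply le_fittingSubgroup (hRn.map π hπs)
    exact (hR.map π).isNilpotent
  have h2 : ⁅K.map π, R.map π⁆ = ⊥ := by
    rw [eq_bot_iff, ← layer_commutator_fittingSubgroup (G := G ⧸ O)]
    exact Subgroup.commutator_mono (component_le_layer hKbar) h1
  rw [Subgroup.commutator_eq_bot_iff_le_centralizer] at h2
  set CY := Subgroup.centralizer ({x} : Set G) with hCY
  have hZp : IsPGroup p ↥(Subgroup.zpowers x) := hR.to_le (Subgroup.zpowers_le.mpr hxR)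
  have h3 : K.map π ≤ CY.map π := by
    rw [hCY, ← centralizer_zpowers_eq, hπ, map_centralizer_eq_of_coprime p O hOc _ hZp]
    refine h2.trans (Subgroup.centralizer_le ?_)
    exact SetLike.coe_subset_coe.mpr (Subgroup.map_mono (Subgroup.zpowers_le.mpr hxR))
  have hf : Function.Surjective (π.subgroupMap CY) := π.subgroupMap_surjective CY
  have hker : (π.subgroupMap CY).ker = O.subgroupOf CY := by
    rw [Subgroup.ker_subgroupMap, hπ, QuotientGroup.ker_mk']
  have hkc : (Nat.card (π.subgroupMap CY).ker).Coprime p := by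
    rw [hker, card_subgroupOf]
    exact Nat.Coprime.coprime_dvd_left (Subgroup.card_dvd_of_le inf_le_left) hOc
  have hcomp : Cfsg.IsComponent ((K.map π).subgroupOf (CY.map π)) := isComponent_subgroupOf hKbar h3
  have hdvd : p ∣ Nat.card ↥((K.map π).subgroupOf (CY.map π)) := by
    rw [card_subgroupOf_of_le h3]
    exact component_dvd_card p (pPrimeCore_quotient_pPrimeCore p) hKbar
  exact pLayer_ne_bot_of_surjective p _ hf hkc _ hcomp hdvd hC

end main

end Cfsg.Agent.Helper2
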