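import Mathlib
import Cfsg.Agent.Helper2.PConstrained4
import Cfsg.Agent.Helper4.HallHigman

set_option autoImplicit false

namespace Cfsg.Agent.Helper2

open Cfsg.Agent.Helper1 Cfsg.Agent.Helper5
open scoped commutatorElement

section main
variable {G : Type*} [Group G] [Finite G]

/-- A `p`-solvable group has no `p`-components. -/
theorem pLayer_eq_bot_of_isPSolvable (p : ℕ) [hp : Fact p.Prime] (h : Cfsg.IsPSolvable p G) :
    Cfsg.pLayer p G = ⊥ := by
  rw [pLayer_eq_bot_iff_hasCharP]
  exact Cfsg.Agent.Helper4.centralizer_pCore_le_of_isPSolvable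
    (Cfsg.Agent.Helper4.isPSolvable_quotient h _) (pPrimeCore_quotient_pPrimeCore p)

/-- If `P ≤ O_{p',p}(G)` is a `p`-subgroup and `C_G(P)` has no `p`-components, then `G` has no
`p`-components. -/
theorem pLayer_eq_bot_of_centralizer_subgroup (p : ℕ) [hp : Fact p.Prime] (P : Subgroup G)
    (hP : IsPGroup p P) (hPO : P ≤ Cfsg.pPrimePCore p G)
    (hC : Cfsg.pLayer p ↥(Subgroup.centralizer (P : Set G)) = ⊥) : Cfsg.pLayer p G = ⊥ := by
  by_contra hne
  have hex : ∃ K : Subgroup G, Cfsg.IsPComponent p K := by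
    by_contra hno
    rw [not_exists] at hno
    apply hne
    unfold Cfsg.pLayer
    rw [eq_bot_iff]
    apply sSup_le
    intro K hK
    exact absurd hK (hno K)
  obtain ⟨K, hK⟩ := hex
  set O := Cfsg.pPrimeCore p G with hO
  set π := QuotientGroup.mk' O with hπ
  have hπs : Function.Surjective π := QuotientGroup.mk'_surjective _
  have hOc : (Nat.card O).Coprime p := card_pPrimeCore_coprime p
  have hKbar := hK.2.1
  have h0 : P.map π ≤ Cfsg.pCore p (G ⧸ O) := by
    rw [Subgroup.map_le_iff_le_comap]
    exact hPO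
  have h1 : P.map π ≤ Cfsg.fittingSubgroup (G ⧸ O) := by
    refine h0.trans ?_
    apply le_fittingSubgroup (Cfsg.pCore_normal p (G ⧸ O))
    exact (isPGroup_pCore p).isNilpotent
  have h2 : ⁅K.map π, P.map π⁆ = ⊥ := by
    rw [eq_bot_iff, ← layer_commutator_fittingSubgroup (G := G ⧸ O)]
    exact Subgroup.commutator_mono (component_le_layer hKbar) h1
  rw [Subgroup.commutator_eq_bot_iff_le_centralizer] at h2
  set CY := Subgroup.centralizer (P : Set G) with hCY
  have h3 : K.map π ≤ CY.map π := by
    rw [hCY, hπ, map_centralizer_eq_of_coprime p O hOc _ hP]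
    exact h2
  have hf : Function.Surjective (π.subgroupMap CY) := π.subgroupMap_surjective CY
  have hker : (π.subgroupMap CY).ker = O.subgroupOf CY := by
    rw [Subgroup.ker_subgroupMap, hπ, QuotientGroup.ker_mk']
  have hkc : (Nat.card (π.subgroupMap CY).ker).Coprime p := by
    rw [hker, card_subgroupOf]
    exact Nat.Coprime.coprime_dvd_left (Subgroup.card_dvd_of_le inf_le_left) hOc
  have hcomp : Cfsg.IsComponent ((K.map π).subgroupOf (CY.map π)) := isComponent_subgroupOf hKbar h3
  have hdvd : p ∣ Nat.card ↥((K.map π).subgroupOf (CY.map π)) := by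
    rw [card_subgroupOf_of_le h3]
    exact component_dvd_card p (pPrimeCore_quotient_pPrimeCore p) hKbar
  exact pLayer_ne_bot_of_surjective p _ hf hkc _ hcomp hdvd hC

end main

end Cfsg.Agent.Helper2
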