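import Mathlib
import Cfsg.Agent.Helper2.PConstrained5
import Cfsg.Agent.Helper5.AxB

set_option autoImplicit false

namespace Cfsg.Agent.Helper2

open Cfsg.Agent.Helper1 Cfsg.Agent.Helper5
open scoped commutatorElement

variable {H : Type*} [Group H] [Finite H]

/-- Balance for groups without `p`-components: `O_{p'}(C_H(a)) ≤ O_{p'}(H)` for a `p`-element `a`. -/
theorem coreOf_centralizer_le_of_pLayer_eq_bot (p : ℕ) [hp : Fact p.Prime]
    (hL : Cfsg.pLayer p H = ⊥) (a : H) (ha : IsPGroup p ↥(Subgroup.zpowers a)) :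
    coreOf p (Subgroup.centralizer ({a} : Set H)) ≤ Cfsg.pPrimeCore p H := by
  set O := Cfsg.pPrimeCore p H with hO
  set π := QuotientGroup.mk' O with hπ
  have hOc : (Nat.card O).Coprime p := card_pPrimeCore_coprime p
  have hchar : HasCharP p (H ⧸ O) := (pLayer_eq_bot_iff_hasCharP p).mp hL
  set Q := Cfsg.pCore p (H ⧸ O) with hQ
  have hQp : IsPGroup p ↥Q := isPGroup_pCore p
  set C := Subgroup.centralizer ({a} : Set H) with hC
  set D := coreOf p C with hD
  have hDcop : (Nat.card D).Coprime p := card_coreOf_coprime p C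
  have hDC : D ≤ C := coreOf_le p C
  -- `D` is normalized by `C`
  have hDn : ∀ h ∈ C, ∀ d ∈ D, h * d * h⁻¹ ∈ D := by
    rintro h hh _ ⟨d, hd, rfl⟩
    have hn : (Cfsg.pPrimeCore p ↥C).Normal := Cfsg.pPrimeCore_normal p ↥C
    exact ⟨⟨h, hh⟩ * d * ⟨h, hh⟩⁻¹, hn.conj_mem d hd ⟨h, hh⟩, rfl⟩
  set B := (Subgroup.zpowers a).map π with hB
  have hBp : IsPGroup p ↥B := ha.map π
  have hCB : C.map π = Subgroup.centralizer (B : Set (H ⧸ O)) := by
    rw [hC, ← centralizer_zpowers_eq, hπ, map_centralizer_eq_of_coprime p O hOc _ ha]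
  intro d hd
  -- the image of `d`
  have hdcop : (orderOf (π d)).Coprime p := by
    have h1 : orderOf (π d) ∣ orderOf d := orderOf_map_dvd π d
    have h2 : orderOf d ∣ Nat.card D := Subgroup.orderOf_dvd_natCard D hd
    exact Nat.Coprime.coprime_dvd_left (h1.trans h2) hDcop
  have hdB : π d ∈ Subgroup.centralizer (B : Set (H ⧸ O)) := by
    rw [← hCB]; exact ⟨d, hDC hd, rfl⟩
  have hQn : ∀ g : H ⧸ O, g ∈ Subgroup.normalizer (Q : Set (H ⧸ O)) := by
    intro g
    rw [Subgroup.normalizer_eq_top]; trivial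
  have hcent : ∀ r ∈ Q, r ∈ Subgroup.centralizer (B : Set (H ⧸ O)) → π d * r = r * π d := by
    intro r hrQ hrB
    rw [← hCB] at hrB
    obtain ⟨h, hh, rfl⟩ := hrB
    -- the commutator lies in `π(D) ∩ Q`
    have h1 : d * h * d⁻¹ * h⁻¹ ∈ D := by
      have h2 : h * d⁻¹ * h⁻¹ ∈ D := hDn h hh d⁻¹ (inv_mem hd)
      have h3 : d * h * d⁻¹ * h⁻¹ = d * (h * d⁻¹ * h⁻¹) := by group
      rw [h3]
      exact mul_mem hd h2
    have h4 : π (d * h * d⁻¹ * h⁻¹) ∈ Q := by
      have hQnorm : Q.Normal := Cfsg.pCore_normal p (H ⧸ O)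
      have h5 : π d * π h * (π d)⁻¹ ∈ Q := hQnorm.conj_mem _ hrQ _
      have h6 : π (d * h * d⁻¹ * h⁻¹) = (π d * π h * (π d)⁻¹) * (π h)⁻¹ := by
        simp only [map_mul, map_inv]
      rw [h6]
      exact mul_mem h5 (inv_mem hrQ)
    have h7 : π (d * h * d⁻¹ * h⁻¹) = 1 := by
      obtain ⟨k, hk⟩ := (IsPGroup.iff_orderOf.mp hQp) ⟨_, h4⟩
      rw [Subgroup.orderOf_mk] at hk
      have h8 : orderOf (π (d * h * d⁻¹ * h⁻¹)) ∣ Nat.card D :=
        (orderOf_map_dvd π _).trans (Subgroup.orderOf_dvd_natCard D h1)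
      have h9 : (orderOf (π (d * h * d⁻¹ * h⁻¹))).Coprime p :=
        Nat.Coprime.coprime_dvd_left h8 hDcop
      rw [hk] at h9
      have hk0 : k = 0 := by
        by_contra hk0
        have : p ∣ p ^ k := dvd_pow_self p hk0
        have h10 := Nat.Coprime.eq_one_of_dvd h9.symm this
        exact hp.out.one_lt.ne' h10
      rw [hk0, pow_zero] at hk
      exact orderOf_eq_one_iff.mp hk
    have h11 : π d * π h * (π d)⁻¹ * (π h)⁻¹ = 1 := by
      rw [← h7]; simp only [map_mul, map_inv]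
    calc π d * π h = (π d * π h * (π d)⁻¹ * (π h)⁻¹) * π h * π d := by group
      _ = π h * π d := by rw [h11, one_mul]
  have hall := thompson_AxB B hBp (π d) hdcop hdB Q hQp (hQn _) (fun b _ => hQn b) hcent
  -- so `π d ∈ C(Q) ≤ Q`
  have hdQ : π d ∈ Q := by
    apply hchar
    rw [Subgroup.mem_centralizer_iff]
    intro r hr
    exact (hall r hr).symm
  have h1 : π d = 1 := by
    obtain ⟨k, hk⟩ := (IsPGroup.iff_orderOf.mp hQp) ⟨_, hdQ⟩
    rw [Subgroup.orderOf_mk] at hk
    rw [hk] at hdcop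
    have hk0 : k = 0 := by
      by_contra hk0
      have : p ∣ p ^ k := dvd_pow_self p hk0
      have h10 := Nat.Coprime.eq_one_of_dvd hdcop.symm this
      exact hp.out.one_lt.ne' h10
    rw [hk0, pow_zero] at hk
    exact orderOf_eq_one_iff.mp hk
  rw [hπ, QuotientGroup.mk'_apply, QuotientGroup.eq_one_iff] at h1
  exact h1

theorem pLayer_eq_bot_of_isSolvable (p : ℕ) [hp : Fact p.Prime] [hs : Group.IsSolvable H] :
    Cfsg.pLayer p H = ⊥ := by
  rw [pLayer_eq_bot_iff_layer]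
  unfold Cfsg.layer
  rw [eq_bot_iff]
  apply sSup_le
  intro K hK
  exfalso
  apply component_not_solvable hK
  infer_instance

section two
variable {G : Type*} [Group G] [Finite G]

/-- One half of balance: if `C_G(y)` has no `p`-components and `x` is a `p`-element commuting with
`y`, then `O_{p'}(C_G(x)) ∩ C_G(y) ≤ O_{p'}(C_G(y))`. -/
theorem coreOf_inf_centralizer_le (p : ℕ) [hp : Fact p.Prime] (x y : G) (hxy : x * y = y * x)
    (hx : IsPGroup p ↥(Subgroup.zpowers x))
    (hL : Cfsg.pLayer p ↥(Subgroup.centralizer ({y} : Set G)) = ⊥) :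
    coreOf p (Subgroup.centralizer ({x} : Set G)) ⊓ Subgroup.centralizer ({y} : Set G) ≤
      coreOf p (Subgroup.centralizer ({y} : Set G)) := by
  set Cx := Subgroup.centralizer ({x} : Set G) with hCx
  set Cy := Subgroup.centralizer ({y} : Set G) with hCy
  set E := coreOf p Cx ⊓ Cy with hE
  have hxCy : x ∈ Cy := by
    rw [hCy, Subgroup.mem_centralizer_singleton_iff]; exact hxy
  set a : ↥Cy := ⟨x, hxCy⟩ with ha
  have hap : IsPGroup p ↥(Subgroup.zpowers a) := by
    obtain ⟨k, hk⟩ := IsPGroup.iff_card.mp hx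
    apply IsPGroup.of_card (n := k)
    rw [Nat.card_zpowers] at hk ⊢
    rw [← hk, ← Subgroup.orderOf_coe]
  set Ca := Subgroup.centralizer ({a} : Set ↥Cy) with hCa
  have hbal := coreOf_centralizer_le_of_pLayer_eq_bot p hL a hap
  have hEcop : (Nat.card E).Coprime p :=
    Nat.Coprime.coprime_dvd_left (Subgroup.card_dvd_of_le inf_le_left) (card_coreOf_coprime p Cx)
  have hECy : E ≤ Cy := inf_le_right
  have hECx : E ≤ Cx := inf_le_left.trans (coreOf_le p Cx)
  -- `E` as a subgroup of `Cy` lies in `Ca`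
  have hE'Ca : E.subgroupOf Cy ≤ Ca := by
    intro e he
    rw [Subgroup.mem_subgroupOf] at he
    have h1 := hECx he
    rw [hCx, Subgroup.mem_centralizer_singleton_iff] at h1
    rw [hCa, Subgroup.mem_centralizer_singleton_iff]
    apply Subtype.ext
    rw [Subgroup.coe_mul, Subgroup.coe_mul]
    exact h1
  -- and is normal in `Ca` with `p'`-order
  have hnorm : ((E.subgroupOf Cy).subgroupOf Ca).Normal := by
    rw [Subgroup.normal_subgroupOf_iff_le_normalizer hE'Ca]
    apply le_normalizer_of_conj_mem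
    intro h hh e he
    rw [Subgroup.mem_subgroupOf] at he ⊢
    have hhx : (h : G) ∈ Cx := by
      rw [hCa, Subgroup.mem_centralizer_singleton_iff] at hh
      have := congrArg Subtype.val hh
      rw [Subgroup.coe_mul, Subgroup.coe_mul] at this
      rw [hCx, Subgroup.mem_centralizer_singleton_iff]
      exact this
    refine ⟨?_, ?_⟩
    · -- in `coreOf p Cx`
      obtain ⟨d, hd, hde⟩ := he.1
      have hn : (Cfsg.pPrimeCore p ↥Cx).Normal := Cfsg.pPrimeCore_normal p ↥Cx
      refine ⟨⟨h, hhx⟩ * d * ⟨h, hhx⟩⁻¹, hn.conj_mem d hd _, ?_⟩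
      simp only [Subgroup.coe_subtype, Subgroup.coe_mul, Subgroup.coe_inv]
      rw [show (d : G) = (e : G) from hde]
    · exact (h * e * h⁻¹).2
  have hcard : (Nat.card ↥((E.subgroupOf Cy).subgroupOf Ca)).Coprime p := by
    rw [card_subgroupOf_of_le hE'Ca, card_subgroupOf_of_le hECy]
    exact hEcop
  have h1 : (E.subgroupOf Cy).subgroupOf Ca ≤ Cfsg.pPrimeCore p ↥Ca :=
    Cfsg.Agent.Helper1.le_pPrimeCore hnorm hcard
  have h2 : E.subgroupOf Cy ≤ coreOf p Ca := by
    intro e he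
    exact ⟨⟨e, hE'Ca he⟩, h1 (Subgroup.mem_subgroupOf.mpr he), rfl⟩
  intro e he
  exact ⟨⟨e, hECy he⟩, hbal (h2 (Subgroup.mem_subgroupOf.mpr he)), rfl⟩

end two

end Cfsg.Agent.Helper2
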