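import Mathlib
import Cfsg.Agent.Helper2.StrEmb
import Cfsg.Agent.Helper2.BaerSuzuki

set_option autoImplicit false

namespace Cfsg.Agent.Helper2

variable {G : Type*} [Group G]

/-- Sylow conjugacy inside a subgroup, stated in the ambient group. -/
theorem exists_mem_cj_le_sylow_map [Finite G] {p : ℕ} [Fact p.Prime] (H : Subgroup G)
    (P : Sylow p ↥H) (Q : Subgroup G) (hQH : Q ≤ H) (hQ : IsPGroup p Q) :
    ∃ h ∈ H, cj h Q ≤ (P : Subgroup ↥H).map H.subtype := by
  have hQ' : IsPGroup p (Q.subgroupOf H) := hQ.comap_subtype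
  obtain ⟨h, hh⟩ := exists_conj_le_sylow P _ hQ'
  refine ⟨h, h.2, ?_⟩
  rw [cj_le_iff]
  intro x hx
  exact ⟨h * ⟨x, hQH hx⟩ * h⁻¹, hh ⟨x, hQH hx⟩ (Subgroup.mem_subgroupOf.mpr hx), rfl⟩

theorem conj_mem_normalizer_cj {Q : Subgroup G} {n : G} (hn : n ∈ Subgroup.normalizer (Q : Set G))
    (h : G) : h * n * h⁻¹ ∈ Subgroup.normalizer (cj h Q : Set G) := by
  rw [mem_normalizer_iff_cj, cj_cj]
  have e : h * n * h⁻¹ * h = h * n := by group
  rw [e, ← cj_cj, (mem_normalizer_iff_cj Q n).mp hn]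

theorem cj_ne_bot {Q : Subgroup G} (hQ : Q ≠ ⊥) (h : G) : cj h Q ≠ ⊥ := by
  intro hb
  apply hQ
  have := congrArg (cj h⁻¹) hb
  rw [cj_cj, inv_mul_cancel, cj_one] at this
  rw [this, cj, Subgroup.map_bot]

/-- If `N_G(X) ≤ H` for all nontrivial subgroups of a Sylow `p`-subgroup of `H`, the same holds
for all nontrivial `p`-subgroups of `H`. -/
theorem normalizer_le_of_sylow_hyp [Finite G] {p : ℕ} [Fact p.Prime] (H : Subgroup G)
    (P : Sylow p ↥H)
    (hyp : ∀ X : Subgroup ↥H, X ≤ (P : Subgroup ↥H) → X ≠ ⊥ →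
      Subgroup.normalizer ((X.map H.subtype : Subgroup G) : Set G) ≤ H)
    (Q : Subgroup G) (hQH : Q ≤ H) (hQ : IsPGroup p Q) (hQ1 : Q ≠ ⊥) :
    Subgroup.normalizer (Q : Set G) ≤ H := by
  obtain ⟨h, hhH, hle⟩ := exists_mem_cj_le_sylow_map H P Q hQH hQ
  have hcjH : cj h Q ≤ H := by
    rw [cj_le_iff]
    intro x hx
    exact H.mul_mem (H.mul_mem hhH (hQH hx)) (H.inv_mem hhH)
  have hmap : ((cj h Q).subgroupOf H).map H.subtype = cj h Q := by
    rw [Subgroup.subgroupOf_map_subtype, inf_eq_left.mpr hcjH]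
  have hXP : (cj h Q).subgroupOf H ≤ (P : Subgroup ↥H) := by
    intro x hx
    obtain ⟨y, hy, hyx⟩ := hle (Subgroup.mem_subgroupOf.mp hx)
    have : y = x := Subtype.ext hyx
    rw [← this]; exact hy
  have hX1 : (cj h Q).subgroupOf H ≠ ⊥ := by
    intro hb
    apply cj_ne_bot hQ1 h
    rw [← hmap, hb, Subgroup.map_bot]
  have hN := hyp _ hXP hX1
  rw [hmap] at hN
  intro n hn
  have h1 : h * n * h⁻¹ ∈ H := hN (conj_mem_normalizer_cj hn h)
  have : n = h⁻¹ * (h * n * h⁻¹) * h := by group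
  rw [this]
  exact H.mul_mem (H.mul_mem (H.inv_mem hhH) h1) hhH

theorem cj_le_cj_iff {A B : Subgroup G} (g : G) : cj g A ≤ cj g B ↔ A ≤ B := by
  constructor
  · intro h
    have := cj_mono h g⁻¹
    rwa [cj_cj, cj_cj, inv_mul_cancel, cj_one, cj_one] at this
  · intro h; exact cj_mono h g

theorem le_cj_iff {A B : Subgroup G} (g : G) : A ≤ cj g B ↔ cj g⁻¹ A ≤ B := by
  rw [← cj_le_cj_iff g (A := cj g⁻¹ A), cj_cj, mul_inv_cancel, cj_one]

/-- Characterisation of strongly embedded subgroups by normalizers of `2`-subgroups. -/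
theorem stronglyEmbedded_iff_normalizers [Finite G] (H : Subgroup G) (hH : H ≠ ⊤) (P : Sylow 2 ↥H)
    (hP : (P : Subgroup ↥H) ≠ ⊥) :
    Cfsg.IsStronglyEmbedded H ↔
      (∀ X : Subgroup ↥H, X ≤ (P : Subgroup ↥H) → X ≠ ⊥ →
        Subgroup.normalizer ((X.map H.subtype : Subgroup G) : Set G) ≤ H) := by
  have hprime : Fact (Nat.Prime 2) := ⟨Nat.prime_two⟩
  constructor
  · intro hSE X hXP hX1 n hn
    have hXp : IsPGroup 2 X := P.isPGroup'.to_le hXP
    have hX'p : IsPGroup 2 (X.map H.subtype) := hXp.map _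
    have hX'1 : X.map H.subtype ≠ ⊥ := by
      intro hb
      apply hX1
      rw [eq_bot_iff]
      intro x hx
      have : (x : G) ∈ X.map H.subtype := ⟨x, hx, rfl⟩
      rw [hb, Subgroup.mem_bot] at this
      rw [Subgroup.mem_bot]
      exact Subtype.ext this
    have heven : Even (Nat.card (X.map H.subtype)) := by
      obtain ⟨k, hk⟩ := IsPGroup.iff_card.mp hX'p
      have hk0 : k ≠ 0 := by
        rintro rfl
        rw [pow_zero] at hk
        exact hX'1 (Subgroup.card_eq_one.mp hk)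
      rw [hk]
      exact (Nat.even_pow' hk0).mpr even_two
    obtain ⟨t, htX, ht2⟩ := exists_invol_of_even_card _ heven
    have hX'H : X.map H.subtype ≤ H := by
      rintro _ ⟨x, -, rfl⟩; exact x.2
    have h1 : n * t * n⁻¹ ∈ X.map H.subtype :=
      (Subgroup.mem_normalizer_iff.mp hn t).mp htX
    have h2 : orderOf (n * t * n⁻¹) = 2 := by
      have : n * t * n⁻¹ = MulAut.conj n t := rfl
      rw [this, MulEquiv.orderOf_eq]; exact ht2
    exact mem_of_invol_mem_inter hSE h2 (hX'H h1) (conj_mem_cj H n t (hX'H htX))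
  · intro hyp
    have hB := normalizer_le_of_sylow_hyp H P hyp
    -- `H` has even order
    have hP'p : IsPGroup 2 ((P : Subgroup ↥H).map H.subtype) := P.isPGroup'.map _
    have hP'H : (P : Subgroup ↥H).map H.subtype ≤ H := by
      rintro _ ⟨x, -, rfl⟩; exact x.2
    have hP'1 : (P : Subgroup ↥H).map H.subtype ≠ ⊥ := by
      intro hb
      apply hP
      rw [eq_bot_iff]
      intro x hx
      have : (x : G) ∈ (P : Subgroup ↥H).map H.subtype := ⟨x, hx, rfl⟩
      rw [hb, Subgroup.mem_bot] at this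
      rw [Subgroup.mem_bot]
      exact Subtype.ext this
    have heven : Even (Nat.card H) := by
      have h2 : 2 ∣ Nat.card (P : Subgroup ↥H) := by
        obtain ⟨k, hk⟩ := IsPGroup.iff_card.mp P.isPGroup'
        have hk0 : k ≠ 0 := by
          rintro rfl
          rw [pow_zero] at hk
          exact hP (Subgroup.card_eq_one.mp hk)
        rw [hk]
        exact dvd_pow_self 2 hk0
      exact even_iff_two_dvd.mpr (h2.trans (Subgroup.card_subgroup_dvd_card _))
    apply stronglyEmbedded_of_invol hH heven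
    intro t g ht2 htH htg
    by_contra hgH
    have htt : t * t = 1 := by
      have := pow_orderOf_eq_one t
      rwa [ht2, pow_two] at this
    -- maximal 2-subgroup of `H ⊓ cj g H` containing `t`
    have hzp : IsPGroup 2 (Subgroup.zpowers t) := by
      apply IsPGroup.of_card (n := 1)
      rw [Nat.card_zpowers, ht2, pow_one]
    let 𝒮 : Set (Subgroup G) := {Q | IsPGroup 2 Q ∧ Q ≤ H ⊓ cj g H}
    have hz𝒮 : Subgroup.zpowers t ∈ 𝒮 :=
      ⟨hzp, by rw [Subgroup.zpowers_le]; exact Subgroup.mem_inf.mpr ⟨htH, htg⟩⟩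
    obtain ⟨Q, hzQ, hQmax⟩ := (Set.toFinite 𝒮).exists_le_maximal hz𝒮
    obtain ⟨hQp, hQK⟩ := hQmax.prop
    have hQH : Q ≤ H := hQK.trans inf_le_left
    have hQg : Q ≤ cj g H := hQK.trans inf_le_right
    have hQ1 : Q ≠ ⊥ := by
      intro hb
      have : t ∈ Q := hzQ (Subgroup.mem_zpowers t)
      rw [hb, Subgroup.mem_bot] at this
      rw [this, orderOf_one] at ht2
      omega
    have hNH : Subgroup.normalizer (Q : Set G) ≤ H := hB Q hQH hQp hQ1
    have hNg : Subgroup.normalizer (Q : Set G) ≤ cj g H := by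
      have hQ' : cj g⁻¹ Q ≤ H := (le_cj_iff g).mp hQg
      have := hB (cj g⁻¹ Q) hQ' (isPGroup_cj hQp _) (cj_ne_bot hQ1 _)
      intro n hn
      have h1 := this (conj_mem_normalizer_cj hn g⁻¹)
      rw [mem_cj_iff]
      simpa using h1
    -- `Q` is a maximal 2-subgroup of `H` and of `cj g H`
    have hmaxH : ∀ S : Subgroup G, IsPGroup 2 S → Q ≤ S → S ≤ H ∨ S ≤ cj g H → S = Q := by
      intro S hSp hQS hSH
      by_contra hne
      have hlt : Q < S := lt_of_le_of_ne hQS (Ne.symm hne)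
      obtain ⟨r, hrS, hrQ, hrN⟩ := exists_mem_normalizer_notMem_of_lt hSp hlt
      have hQr : IsPGroup 2 ↥(Q ⊔ Subgroup.zpowers r) :=
        hSp.to_le (sup_le hQS (by rw [Subgroup.zpowers_le]; exact hrS))
      have hrK : r ∈ H ⊓ cj g H := Subgroup.mem_inf.mpr ⟨hNH hrN, hNg hrN⟩
      have hmem : Q ⊔ Subgroup.zpowers r ∈ 𝒮 :=
        ⟨hQr, sup_le hQK (by rw [Subgroup.zpowers_le]; exact hrK)⟩
      have := hQmax.le_of_ge hmem le_sup_left
      exact hrQ (this (le_sup_right (a := Q) (Subgroup.mem_zpowers r)))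
    -- `Q` is `H`-conjugate to `P'`
    obtain ⟨a, haH, hale⟩ := exists_mem_cj_le_sylow_map H P Q hQH hQp
    have hcjH : ∀ x ∈ H, ∀ A : Subgroup G, A ≤ H → cj x A ≤ H := by
      intro x hx A hA
      rw [cj_le_iff]
      intro y hy
      exact H.mul_mem (H.mul_mem hx (hA hy)) (H.inv_mem hx)
    have hQeq : cj a⁻¹ ((P : Subgroup ↥H).map H.subtype) = Q := by
      apply hmaxH _ (isPGroup_cj hP'p _)
      · rw [le_cj_iff, inv_inv]; exact hale
      · left; exact hcjH _ (H.inv_mem haH) _ hP'H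
    -- same for `cj g⁻¹ Q` inside `H`
    have hQ'H : cj g⁻¹ Q ≤ H := (le_cj_iff g).mp hQg
    obtain ⟨b, hbH, hble⟩ := exists_mem_cj_le_sylow_map H P (cj g⁻¹ Q) hQ'H (isPGroup_cj hQp _)
    have hQeq2 : cj (g * b⁻¹) ((P : Subgroup ↥H).map H.subtype) = Q := by
      apply hmaxH _ (isPGroup_cj hP'p _)
      · rw [le_cj_iff]
        have : (g * b⁻¹)⁻¹ = b * g⁻¹ := by group
        rw [this, ← cj_cj]; exact hble
      · right
        rw [← cj_cj, cj_le_cj_iff]
        exact hcjH _ (H.inv_mem hbH) _ hP'H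
    -- so `a * g * b⁻¹` normalizes `P'`
    have hnorm : a * (g * b⁻¹) ∈ Subgroup.normalizer
        (((P : Subgroup ↥H).map H.subtype : Subgroup G) : Set G) := by
      rw [mem_normalizer_iff_cj, ← cj_cj, hQeq2, ← hQeq, cj_cj, mul_inv_cancel, cj_one]
    have h3 : a * (g * b⁻¹) ∈ H := hB _ hP'H hP'p hP'1 hnorm
    apply hgH
    have : g = a⁻¹ * (a * (g * b⁻¹)) * b := by group
    rw [this]
    exact H.mul_mem (H.mul_mem (H.inv_mem haH) h3) hbH

end Cfsg.Agent.Helper2
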