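import Mathlib
import Cfsg.Prelude.Def_CaseTheorems
import Cfsg.Agent.Helper2.StrEmb2

set_option autoImplicit false

namespace Cfsg.Agent.Helper2

variable {G : Type*} [Group G]

/-- `PRankLE` pulls back along injective homomorphisms. -/
theorem pRankLE_of_injective {A B : Type*} [Group A] [Group B] (p k : ℕ) (f : A →* B)
    (hf : Function.Injective f) (hB : Cfsg.PRankLE p k B) : Cfsg.PRankLE p k A := by
  intro S hS hexp
  have hcard : Nat.card (S.map f) = Nat.card S := Subgroup.card_map_of_injective hf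
  rw [← hcard]
  apply hB (S.map f) inferInstance
  rintro _ ⟨a, ha, rfl⟩
  rw [← map_pow, hexp a ha, map_one]

/-- The "rank at least `k`" predicate on subgroups of `G`. -/
def bigRank (p k : ℕ) (X : Subgroup G) : Prop := ¬ Cfsg.PRankLE p k ↥X

theorem bigRank_mono (p k : ℕ) {A B : Subgroup G} (h : A ≤ B) (hA : bigRank p k A) :
    bigRank p k B := fun hB =>
  hA (pRankLE_of_injective p k (Subgroup.inclusion h) (Subgroup.inclusion_injective h) hB)

theorem bigRank_cj (p k : ℕ) {A : Subgroup G} (g : G) (hA : bigRank p k A) :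
    bigRank p k (cj g A) := fun hB =>
  hA (pRankLE_of_injective p k
    (A.equivMapOfInjective (MulAut.conj g).toMonoidHom (MulAut.conj g).injective).toMonoidHom
    (MulEquiv.injective _) hB)

theorem bigRank_map_subtype (p k : ℕ) (H : Subgroup G) {A : Subgroup ↥H}
    (hA : ¬ Cfsg.PRankLE p k ↥A) : bigRank p k (A.map H.subtype) := fun hB =>
  hA (pRankLE_of_injective p k
    (A.equivMapOfInjective H.subtype H.subtype_injective).toMonoidHom
    (MulEquiv.injective _) hB)

/-- A subgroup of big rank contains a `p`-subgroup of big rank. -/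
theorem bigRank_exists_pGroup (p k : ℕ) [Fact p.Prime] {X : Subgroup G} (hX : bigRank p k X) :
    ∃ E : Subgroup G, E ≤ X ∧ IsPGroup p E ∧ bigRank p k E := by
  unfold bigRank Cfsg.PRankLE at hX
  push Not at hX
  obtain ⟨S, hS, hexp, hcard⟩ := hX
  refine ⟨S.map X.subtype, ?_, ?_, ?_⟩
  · rintro _ ⟨a, -, rfl⟩; exact a.2
  · intro x
    refine ⟨1, ?_⟩
    obtain ⟨x, a, ha, hax⟩ := x
    apply Subtype.ext
    simp only [pow_one, Subgroup.coe_pow, Subgroup.coe_one]
    rw [← hax, ← map_pow, hexp a ha, map_one]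
  · intro hle
    have := pRankLE_of_injective p k
      (S.equivMapOfInjective X.subtype X.subtype_injective).toMonoidHom
      (MulEquiv.injective _) hle
    have h2 := this ⊤ inferInstance (fun a _ => by
      apply Subtype.ext
      have := hexp a.1 a.2
      simpa using this)
    have h3 : Nat.card (⊤ : Subgroup ↥S) = Nat.card S := Subgroup.card_top
    omega

/-- General form of the "strongly `p`-embedded" equivalence for an abstract monotone,
conjugation-invariant rank predicate. -/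
theorem rankEmb_iff [Finite G] {p : ℕ} [Fact p.Prime] (k : ℕ) (H : Subgroup G) (P : Sylow p ↥H)
    (hP : bigRank p k ((P : Subgroup ↥H).map H.subtype)) :
    (∀ X : Subgroup G, X ≤ (P : Subgroup ↥H).map H.subtype → bigRank p k X →
        Subgroup.normalizer (X : Set G) ≤ H) ↔
      (∀ g : G, g ∉ H → ¬ bigRank p k (H ⊓ cj g H)) := by
  have hP'p : IsPGroup p ((P : Subgroup ↥H).map H.subtype) := P.isPGroup'.map _
  have hP'H : (P : Subgroup ↥H).map H.subtype ≤ H := by
    rintro _ ⟨x, -, rfl⟩; exact x.2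
  constructor
  · intro hyp
    -- extend to all `p`-subgroups of `H` of big rank
    have hB : ∀ Q : Subgroup G, Q ≤ H → IsPGroup p Q → bigRank p k Q →
        Subgroup.normalizer (Q : Set G) ≤ H := by
      intro Q hQH hQ hQr
      obtain ⟨h, hhH, hle⟩ := exists_mem_cj_le_sylow_map H P Q hQH hQ
      have hN := hyp _ hle (bigRank_cj p k h hQr)
      intro n hn
      have h1 : h * n * h⁻¹ ∈ H := hN (conj_mem_normalizer_cj hn h)
      have : n = h⁻¹ * (h * n * h⁻¹) * h := by group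
      rw [this]
      exact H.mul_mem (H.mul_mem (H.inv_mem hhH) h1) hhH
    intro g hgH hbig
    obtain ⟨E, hEK, hEp, hEr⟩ := bigRank_exists_pGroup p k hbig
    let 𝒮 : Set (Subgroup G) := {Q | IsPGroup p Q ∧ Q ≤ H ⊓ cj g H}
    have hz𝒮 : E ∈ 𝒮 := ⟨hEp, hEK⟩
    obtain ⟨Q, hzQ, hQmax⟩ := (Set.toFinite 𝒮).exists_le_maximal hz𝒮
    obtain ⟨hQp, hQK⟩ := hQmax.prop
    have hQH : Q ≤ H := hQK.trans inf_le_left
    have hQg : Q ≤ cj g H := hQK.trans inf_le_right
    have hQ1 : bigRank p k Q := bigRank_mono p k hzQ hEr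
    have hNH : Subgroup.normalizer (Q : Set G) ≤ H := hB Q hQH hQp hQ1
    have hNg : Subgroup.normalizer (Q : Set G) ≤ cj g H := by
      have hQ' : cj g⁻¹ Q ≤ H := (le_cj_iff g).mp hQg
      have := hB (cj g⁻¹ Q) hQ' (isPGroup_cj hQp _) (bigRank_cj p k _ hQ1)
      intro n hn
      have h1 := this (conj_mem_normalizer_cj hn g⁻¹)
      rw [mem_cj_iff]
      simpa using h1
    have hmaxH : ∀ S : Subgroup G, IsPGroup p S → Q ≤ S → S ≤ H ∨ S ≤ cj g H → S = Q := by
      intro S hSp hQS hSH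
      by_contra hne
      have hlt : Q < S := lt_of_le_of_ne hQS (Ne.symm hne)
      obtain ⟨r, hrS, hrQ, hrN⟩ := exists_mem_normalizer_notMem_of_lt hSp hlt
      have hQr : IsPGroup p ↥(Q ⊔ Subgroup.zpowers r) :=
        hSp.to_le (sup_le hQS (by rw [Subgroup.zpowers_le]; exact hrS))
      have hrK : r ∈ H ⊓ cj g H := Subgroup.mem_inf.mpr ⟨hNH hrN, hNg hrN⟩
      have hmem : Q ⊔ Subgroup.zpowers r ∈ 𝒮 :=
        ⟨hQr, sup_le hQK (by rw [Subgroup.zpowers_le]; exact hrK)⟩
      have := hQmax.le_of_ge hmem le_sup_left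
      exact hrQ (this (le_sup_right (a := Q) (Subgroup.mem_zpowers r)))
    obtain ⟨a, haH, hale⟩ := exists_mem_cj_le_sylow_map H P Q hQH hQp
    have hcjH : ∀ x ∈ H, ∀ A : Subgroup G, A ≤ H → cj x A ≤ H := by
      intro x hx A hA
      rw [cj_le_iff]
      intro y hy
      exact H.mul_mem (H.mul_mem hx (hA hy)) (H.inv_mem hx)
    have hQeq : cj a⁻¹ ((P : Subgroup ↥H).map H.subtype) = Q := by
      apply hmaxH _ (isPGroup_cj hP'p _)
      · rw [le_cj_iff, inv_inv]; exact hale
      · left; exact hcjH _ (H.inv_mem haH) _ hP'H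
    have hQ'H : cj g⁻¹ Q ≤ H := (le_cj_iff g).mp hQg
    obtain ⟨b, hbH, hble⟩ := exists_mem_cj_le_sylow_map H P (cj g⁻¹ Q) hQ'H (isPGroup_cj hQp _)
    have hQeq2 : cj (g * b⁻¹) ((P : Subgroup ↥H).map H.subtype) = Q := by
      apply hmaxH _ (isPGroup_cj hP'p _)
      · rw [le_cj_iff]
        have : (g * b⁻¹)⁻¹ = b * g⁻¹ := by group
        rw [this, ← cj_cj]; exact hble
      · right
        rw [← cj_cj, cj_le_cj_iff]
        exact hcjH _ (H.inv_mem hbH) _ hP'H
    have hnorm : a * (g * b⁻¹) ∈ Subgroup.normalizer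
        (((P : Subgroup ↥H).map H.subtype : Subgroup G) : Set G) := by
      rw [mem_normalizer_iff_cj, ← cj_cj, hQeq2, ← hQeq, cj_cj, mul_inv_cancel, cj_one]
    have h3 : a * (g * b⁻¹) ∈ H := hB _ hP'H hP'p hP hnorm
    apply hgH
    have : g = a⁻¹ * (a * (g * b⁻¹)) * b := by group
    rw [this]
    exact H.mul_mem (H.mul_mem (H.inv_mem haH) h3) hbH
  · intro hyp X hXP hXr n hn
    by_contra hnH
    apply hyp n hnH
    apply bigRank_mono p k _ hXr
    apply le_inf (hXP.trans hP'H)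
    have : cj n X = X := (mem_normalizer_iff_cj X n).mp hn
    rw [← this]
    exact cj_mono (hXP.trans hP'H) n

/-- Under the normalizer hypothesis, a Sylow `p`-subgroup of `H` is Sylow in `G`. -/
theorem rankEmb_sylow [Finite G] {p : ℕ} [Fact p.Prime] (k : ℕ) (H : Subgroup G) (P : Sylow p ↥H)
    (hP : bigRank p k ((P : Subgroup ↥H).map H.subtype))
    (hyp : ∀ X : Subgroup G, X ≤ (P : Subgroup ↥H).map H.subtype → bigRank p k X →
        Subgroup.normalizer (X : Set G) ≤ H) :
    ∃ Q : Sylow p G, (Q : Subgroup G) = (P : Subgroup ↥H).map H.subtype := by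
  have hP'p : IsPGroup p ((P : Subgroup ↥H).map H.subtype) := P.isPGroup'.map _
  obtain ⟨Q, hQ⟩ := hP'p.exists_le_sylow
  refine ⟨Q, ?_⟩
  by_contra hne
  have hlt : (P : Subgroup ↥H).map H.subtype < (Q : Subgroup G) :=
    lt_of_le_of_ne hQ (Ne.symm hne)
  obtain ⟨r, hrQ, hrP, hrN⟩ := exists_mem_normalizer_notMem_of_lt Q.isPGroup' hlt
  have hrH : r ∈ H := hyp _ le_rfl hP hrN
  -- `P ⊔ ⟨r⟩` is a `p`-subgroup of `H` bigger than `P`
  have hsup : IsPGroup p ↥((P : Subgroup ↥H).map H.subtype ⊔ Subgroup.zpowers r) :=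
    Q.isPGroup'.to_le (sup_le hQ (by rw [Subgroup.zpowers_le]; exact hrQ))
  have hsupH : (P : Subgroup ↥H).map H.subtype ⊔ Subgroup.zpowers r ≤ H := by
    apply sup_le
    · rintro _ ⟨x, -, rfl⟩; exact x.2
    · rw [Subgroup.zpowers_le]; exact hrH
  have hsub : IsPGroup p ↥(((P : Subgroup ↥H).map H.subtype ⊔ Subgroup.zpowers r).subgroupOf H) :=
    hsup.comap_subtype
  have hle : (P : Subgroup ↥H) ≤
      ((P : Subgroup ↥H).map H.subtype ⊔ Subgroup.zpowers r).subgroupOf H := by
    intro x hx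
    rw [Subgroup.mem_subgroupOf]
    exact le_sup_left (a := (P : Subgroup ↥H).map H.subtype) ⟨x, hx, rfl⟩
  have heq := P.is_maximal' hsub hle
  apply hrP
  have hr' : (⟨r, hrH⟩ : ↥H) ∈
      ((P : Subgroup ↥H).map H.subtype ⊔ Subgroup.zpowers r).subgroupOf H := by
    rw [Subgroup.mem_subgroupOf]
    exact le_sup_right (a := (P : Subgroup ↥H).map H.subtype) (Subgroup.mem_zpowers r)
  rw [heq] at hr'
  exact ⟨⟨r, hrH⟩, hr', rfl⟩

end Cfsg.Agent.Helper2
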