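import Mathlib
import Cfsg.Agent.Helper1.Basic
import Cfsg.Agent.Helper1.Coprime
import Cfsg.Agent.Helper1.AbelianAct
import Cfsg.Agent.Helper2.GenHyper

set_option autoImplicit false

/-!
Bender–Glauberman Theorem 3.6 (`S1444`), part a: hyperplanes of an elementary abelian group
acting coprimely on an abelian group, and the norm map of a group of prime order.
-/

namespace Cfsg.Agent.Helper2.T36

open Cfsg.Agent.Helper1
open scoped Pointwise commutatorElement IsMulCommutative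

universe u

variable {G : Type u} [Group G]

/-- a subgroup of prime relative index is maximal. -/
theorem eq_or_eq_of_relIndex_prime {B K A : Subgroup G} {q : ℕ} (hq : q.Prime)
    (hBK : B ≤ K) (hKA : K ≤ A) (hidx : B.relIndex A = q) : K = B ∨ K = A := by
  have h1 := Subgroup.relIndex_mul_relIndex B K A hBK hKA
  rw [hidx] at h1
  rcases (Nat.dvd_prime hq).1 (Dvd.intro _ h1) with h | h
  · left; exact le_antisymm (Subgroup.relIndex_eq_one.1 h) hBK
  · right
    have h2 : K.relIndex A = 1 := by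
      rw [h] at h1
      have hpos := hq.pos
      have : q * K.relIndex A = q * 1 := by rw [h1, mul_one]
      exact Nat.eq_of_mul_eq_mul_left hpos this
    exact le_antisymm hKA (Subgroup.relIndex_eq_one.1 h2)

/-- two distinct hyperplanes generate. -/
theorem sup_eq_of_relIndex_prime [Finite G] {B B' A : Subgroup G} {q : ℕ} (hq : q.Prime)
    (hBA : B ≤ A) (hB'A : B' ≤ A) (hB : B.relIndex A = q) (hB' : B'.relIndex A = q)
    (hne : B ≠ B') : B ⊔ B' = A := by
  rcases eq_or_eq_of_relIndex_prime hq (le_sup_left : B ≤ B ⊔ B') (sup_le hBA hB'A) hB with h | h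
  · exfalso
    have hle : B' ≤ B := h ▸ (le_sup_right : B' ≤ B ⊔ B')
    apply hne
    symm
    apply Subgroup.eq_of_le_of_card_ge hle
    have e1 := relIndex_mul_card_of_le hBA
    have e2 := relIndex_mul_card_of_le hB'A
    rw [hB] at e1
    rw [hB'] at e2
    have : q * Nat.card B = q * Nat.card B' := by rw [e1, e2]
    exact (Nat.eq_of_mul_eq_mul_left hq.pos this).le
  · exact h

/-- the centralizer of a second hyperplane lies in the commutator with the first. -/
theorem inf_centralizer_le_commutator [Finite G] [Group.IsSolvable G] (U A B B' : Subgroup G)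
    (hAU : A ≤ Subgroup.normalizer (U : Set G))
    (hAc : ∀ a ∈ A, ∀ b ∈ A, a * b = b * a)
    (hcop : (Nat.card A).Coprime (Nat.card U))
    (hfix : U ⊓ Subgroup.centralizer (A : Set G) = ⊥)
    (hBA : B ≤ A) (hB'A : B' ≤ A) (hsup : B ⊔ B' = A) :
    U ⊓ Subgroup.centralizer (B' : Set G) ≤ ⁅U, B⁆ := by
  set K := U ⊓ Subgroup.centralizer (B' : Set G) with hK
  have hBK : B ≤ Subgroup.normalizer (K : Set G) := by
    apply le_normalizer_inf (hBA.trans hAU)
    refine le_trans ?_ Subgroup.le_normalizer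
    intro b hb
    rw [Subgroup.mem_centralizer_iff]
    intro y hy
    exact hAc y (hB'A hy) b (hBA hb)
  have hcopK : (Nat.card B).Coprime (Nat.card K) :=
    (hcop.coprime_dvd_left (Subgroup.card_dvd_of_le hBA)).coprime_dvd_right
      (Subgroup.card_dvd_of_le inf_le_left)
  have h1 := coprime_commutator_sup_centralizer B K hBK hcopK (Or.inl inferInstance)
  have h2 : K ⊓ Subgroup.centralizer (B : Set G) = ⊥ := by
    rw [eq_bot_iff, ← hfix]
    intro x hx
    obtain ⟨hxK, hxB⟩ := Subgroup.mem_inf.1 hx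
    obtain ⟨hxU, hxB'⟩ := Subgroup.mem_inf.1 hxK
    refine Subgroup.mem_inf.2 ⟨hxU, ?_⟩
    have hle : B ⊔ B' ≤ Subgroup.centralizer ({x} : Set G) := by
      apply sup_le
      · intro b hb
        rw [Subgroup.mem_centralizer_iff]
        intro z hz
        rw [Set.mem_singleton_iff] at hz
        rw [hz]
        exact (Subgroup.mem_centralizer_iff.1 hxB b hb).symm
      · intro b hb
        rw [Subgroup.mem_centralizer_iff]
        intro z hz
        rw [Set.mem_singleton_iff] at hz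
        rw [hz]
        exact (Subgroup.mem_centralizer_iff.1 hxB' b hb).symm
    rw [hsup] at hle
    rw [Subgroup.mem_centralizer_iff]
    intro a ha
    exact (Subgroup.mem_centralizer_iff.1 (hle ha) x rfl).symm
  rw [h2, sup_bot_eq] at h1
  rw [← h1]
  exact Subgroup.commutator_mono inf_le_left le_rfl

section norm

variable [Finite G] (R U : Subgroup G) [IsMulCommutative U]
  (hRU : R ≤ Subgroup.normalizer (U : Set G))

theorem avgHom_mem_centralizer [Fintype R] (u : U) :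
    ((avgHom R U hRU u : U) : G) ∈ Subgroup.centralizer (R : Set G) := by
  rw [Subgroup.mem_centralizer_iff]
  intro ρ hρ
  have h : conjOn R U hRU ⟨ρ, hρ⟩ (avgHom R U hRU u) = avgHom R U hRU u := by
    rw [avgHom_apply, map_prod]
    refine Fintype.prod_equiv (Equiv.mulLeft ⟨ρ, hρ⟩) _ _ (fun a => ?_)
    rw [Equiv.coe_mulLeft, conjOn_mul]
  have h2 := congrArg Subtype.val h
  rw [conjOn_coe] at h2
  change ρ * _ * ρ⁻¹ = _ at h2
  rw [mul_inv_eq_iff_eq_mul] at h2
  exact h2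

theorem avgHom_mul_inv_mem [Fintype R] (K : Subgroup G) (u : U)
    (h : ∀ ρ ∈ R, ρ ≠ 1 → ρ * (u : G) * ρ⁻¹ ∈ K) :
    ((avgHom R U hRU u : U) : G) * (u : G)⁻¹ ∈ K := by
  classical
  have h1 : conjOn R U hRU 1 u = u := by
    ext; simp
  have h2 : avgHom R U hRU u * u⁻¹ = ∏ a ∈ ({1} : Finset R)ᶜ, conjOn R U hRU a u := by
    rw [avgHom_apply, Fintype.prod_eq_mul_prod_compl (1 : R), h1, mul_comm, ← mul_assoc,
      inv_mul_cancel, one_mul]
  have h3 : ∏ a ∈ ({1} : Finset R)ᶜ, conjOn R U hRU a u ∈ K.subgroupOf U := by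
    apply Subgroup.prod_mem
    intro a ha
    rw [Subgroup.mem_subgroupOf, conjOn_coe]
    apply h a a.2
    intro h1'
    rw [Finset.mem_compl, Finset.mem_singleton] at ha
    exact ha (Subtype.ext h1')
  rw [← h2, Subgroup.mem_subgroupOf] at h3
  simpa using h3

theorem avgHom_mem [Fintype R] (K : Subgroup G) (u : U)
    (h : ∀ ρ ∈ R, ρ * (u : G) * ρ⁻¹ ∈ K) :
    ((avgHom R U hRU u : U) : G) ∈ K := by
  classical
  have h3 : ∏ a : R, conjOn R U hRU a u ∈ K.subgroupOf U := by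
    apply Subgroup.prod_mem
    intro a _
    rw [Subgroup.mem_subgroupOf, conjOn_coe]
    exact h a a.2
  rw [← avgHom_apply, Subgroup.mem_subgroupOf] at h3
  exact h3

include hRU in
/-- two families of conjugates that are independent contribute independently to the fixed
points. -/
theorem card_mul_card_le_fix (W₁ W₂ K₁ K₂ : Subgroup G) (hW₁ : W₁ ≤ U) (hW₂ : W₂ ≤ U)
    (hd₁ : W₁ ⊓ K₁ = ⊥) (hd₂ : W₂ ⊓ K₂ = ⊥)
    (h₁ : ∀ ρ ∈ R, ρ ≠ 1 → ∀ w ∈ W₁, ρ * w * ρ⁻¹ ∈ K₁)
    (h₂ : ∀ ρ ∈ R, ∀ w ∈ W₂, ρ * w * ρ⁻¹ ∈ K₁)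
    (h₂' : ∀ ρ ∈ R, ρ ≠ 1 → ∀ w ∈ W₂, ρ * w * ρ⁻¹ ∈ K₂) :
    Nat.card W₁ * Nat.card W₂ ≤ Nat.card ↥(U ⊓ Subgroup.centralizer (R : Set G)) := by
  classical
  have : Fintype R := Fintype.ofFinite R
  rw [← Nat.card_prod]
  let f : W₁ × W₂ → ↥(U ⊓ Subgroup.centralizer (R : Set G)) := fun x =>
    ⟨((avgHom R U hRU (⟨x.1, hW₁ x.1.2⟩ * ⟨x.2, hW₂ x.2.2⟩) : U) : G),
      ⟨(avgHom R U hRU _).2, avgHom_mem_centralizer R U hRU _⟩⟩
  apply Nat.card_le_card_of_injective f
  rintro ⟨a, b⟩ ⟨a', b'⟩ hab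
  have hab1 : avgHom R U hRU ((⟨a, hW₁ a.2⟩ : U) * ⟨b, hW₂ b.2⟩) =
      avgHom R U hRU ((⟨a', hW₁ a'.2⟩ : U) * ⟨b', hW₂ b'.2⟩) := by
    apply Subtype.ext
    have h0 := congrArg Subtype.val hab
    exact h0
  rw [map_mul, map_mul] at hab1
  -- set c = a * a'⁻¹ ∈ W₁, d = b' * b⁻¹ ∈ W₂ with avg c = avg d
  set c : U := (⟨a, hW₁ a.2⟩ : U) * (⟨a', hW₁ a'.2⟩ : U)⁻¹ with hc
  set d : U := (⟨b', hW₂ b'.2⟩ : U) * (⟨b, hW₂ b.2⟩ : U)⁻¹ with hd
  have hcd : avgHom R U hRU c = avgHom R U hRU d := by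
    rw [hc, hd, map_mul, map_mul, map_inv, map_inv, mul_inv_eq_iff_eq_mul, mul_comm _ (avgHom R U hRU ⟨a', _⟩),
      ← mul_assoc, ← hab1, mul_assoc, mul_inv_cancel, mul_one]
  have hcW : (c : G) ∈ W₁ := by
    rw [hc]
    simpa using W₁.mul_mem a.2 (W₁.inv_mem a'.2)
  have hdW : (d : G) ∈ W₂ := by
    rw [hd]
    simpa using W₂.mul_mem b'.2 (W₂.inv_mem b.2)
  have hc1 : (c : G) = 1 := by
    have h3 := avgHom_mul_inv_mem R U hRU K₁ c (fun ρ hρ hρ1 => h₁ ρ hρ hρ1 _ hcW)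
    have h4 := avgHom_mem R U hRU K₁ d (fun ρ hρ => h₂ ρ hρ _ hdW)
    rw [hcd] at h3
    have h5 : (c : G) ∈ K₁ := by
      have := K₁.mul_mem (K₁.inv_mem h3) h4
      simpa using this
    have : (c : G) ∈ W₁ ⊓ K₁ := ⟨hcW, h5⟩
    rw [hd₁] at this
    exact Subgroup.mem_bot.1 this
  have hc1' : c = 1 := Subtype.ext hc1
  have hd1 : (d : G) = 1 := by
    have h3 := avgHom_mul_inv_mem R U hRU K₂ d (fun ρ hρ hρ1 => h₂' ρ hρ hρ1 _ hdW)
    rw [← hcd, hc1', map_one] at h3
    have h5 : (d : G) ∈ K₂ := by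
      have := K₂.inv_mem h3
      simpa using this
    have : (d : G) ∈ W₂ ⊓ K₂ := ⟨hdW, h5⟩
    rw [hd₂] at this
    exact Subgroup.mem_bot.1 this
  have e1 : (a : G) = a' := by
    have := hc1
    rw [hc] at this
    simp only [Subgroup.coe_mul, Subgroup.coe_inv] at this
    exact mul_inv_eq_one.1 this
  have e2 : (b' : G) = b := by
    have := hd1
    rw [hd] at this
    simp only [Subgroup.coe_mul, Subgroup.coe_inv] at this
    exact mul_inv_eq_one.1 this
  exact Prod.ext (Subtype.ext e1) (Subtype.ext e2.symm)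

end norm

end Cfsg.Agent.Helper2.T36
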