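import Mathlib
import Cfsg.Agent.Helper2.T36a
import Cfsg.Agent.Helper3.FrobActA

set_option autoImplicit false

/-!
Bender–Glauberman Theorem 3.6 (`S1444`), part b: automorphisms of cyclic sections commute;
hyperplanes with nontrivial centralizer.
-/

namespace Cfsg.Agent.Helper2.T36

open Cfsg.Agent.Helper1 Cfsg.Agent.Helper3.FrobActA
open scoped Pointwise commutatorElement

universe u

variable {G : Type u} [Group G]

/-- Conjugation action of a subgroup `L` normalizing `M` on `M`. -/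
def cAct (M L : Subgroup G) (hL : L ≤ Subgroup.normalizer (M : Set G)) : L →* MulAut M where
  toFun g :=
    { toFun := fun m => ⟨(g : G) * m * (g : G)⁻¹,
        (Subgroup.mem_normalizer_iff.mp (hL g.2) m).mp m.2⟩
      invFun := fun m => ⟨(g : G)⁻¹ * m * (g : G), by
        have := (Subgroup.mem_normalizer_iff.mp (Subgroup.inv_mem _ (hL g.2)) m).mp m.2
        rwa [inv_inv] at this⟩
      left_inv := fun m => Subtype.ext (by simp [mul_assoc])
      right_inv := fun m => Subtype.ext (by simp [mul_assoc])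
      map_mul' := fun a b => Subtype.ext (by simp [mul_assoc]) }
  map_one' := by
    apply MulEquiv.ext
    intro m
    apply Subtype.ext
    simp
  map_mul' := by
    intro g h
    apply MulEquiv.ext
    intro m
    apply Subtype.ext
    simp [mul_assoc]

theorem cAct_apply (M L : Subgroup G) (hL : L ≤ Subgroup.normalizer (M : Set G)) (g : L)
    (m : M) : ((cAct M L hL g m : M) : G) = (g : G) * m * (g : G)⁻¹ := rfl

/-- automorphisms of a cyclic group commute. -/
theorem map_commutatorElement_eq_one_of_isCyclic {Γ E : Type*} [Group Γ] [Group E] [IsCyclic E]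
    (φ : Γ →* MulAut E) (g h : Γ) : φ ⁅g, h⁆ = 1 := by
  have hc : ∀ a b : MulAut E, a * b = b * a := by
    intro a b
    apply (IsCyclic.mulAutMulEquiv E).injective
    rw [map_mul, map_mul, mul_comm]
  rw [commutatorElement_def, map_mul, map_mul, map_mul, map_inv, map_inv, hc (φ g) (φ h),
    mul_assoc (φ h), mul_inv_cancel, mul_one, mul_inv_cancel]

/-- a group normalizing a cyclic subgroup: its derived group centralizes it. -/
theorem commutator_le_centralizer_of_isCyclic (W Γ : Subgroup G) (hW : IsCyclic W)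
    (hΓ : Γ ≤ Subgroup.normalizer (W : Set G)) :
    ⁅Γ, Γ⁆ ≤ Subgroup.centralizer (W : Set G) := by
  rw [Subgroup.commutator_le]
  intro g hg h hh
  have h1 := map_commutatorElement_eq_one_of_isCyclic (cAct W Γ hΓ) ⟨g, hg⟩ ⟨h, hh⟩
  rw [Subgroup.mem_centralizer_iff]
  intro w hw
  have h2 := congrArg (fun e : MulAut W => ((e ⟨w, hw⟩ : W) : G)) h1
  simp only [cAct_apply, MulAut.one_apply] at h2
  have h3 : ((⁅(⟨g, hg⟩ : Γ), ⟨h, hh⟩⁆ : Γ) : G) = ⁅g, h⁆ := rfl
  rw [h3] at h2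
  rw [mul_inv_eq_iff_eq_mul] at h2
  exact h2.symm

/-- a group acting on a group `Q` and on a normal subgroup `B` of prime index: its derived group
acts trivially on `Q / B`. -/
theorem commutator_act_trivial_of_relIndex_prime [Finite G] (Q B Γ : Subgroup G) {q : ℕ}
    (hq : q.Prime) (hBQ : B ≤ Q) (hQB : Q ≤ Subgroup.normalizer (B : Set G))
    (hΓQ : Γ ≤ Subgroup.normalizer (Q : Set G)) (hΓB : Γ ≤ Subgroup.normalizer (B : Set G))
    (hidx : B.relIndex Q = q) :
    ∀ c ∈ ⁅Γ, Γ⁆, ∀ y ∈ Q, c * y * c⁻¹ * y⁻¹ ∈ B := by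
  haveI hBn : (B.subgroupOf Q).Normal :=
    (Subgroup.normal_subgroupOf_iff_le_normalizer hBQ).2 hQB
  have hInv : Inv (cAct Q Γ hΓQ) (B.subgroupOf Q) := by
    intro g n hn
    rw [Subgroup.mem_subgroupOf] at hn ⊢
    rw [cAct_apply]
    exact (Subgroup.mem_normalizer_iff.mp (hΓB g.2) _).mp hn
  haveI : Fact q.Prime := ⟨hq⟩
  have hcard : Nat.card (↥Q ⧸ B.subgroupOf Q) = q := by
    rw [← Subgroup.index_eq_card]
    exact hidx
  haveI : IsCyclic (↥Q ⧸ B.subgroupOf Q) := isCyclic_of_prime_card hcard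
  -- the subgroup of elements acting trivially
  let K : Subgroup G :=
    { carrier := {c | c ∈ Γ ∧ ∀ y ∈ Q, c * y * c⁻¹ * y⁻¹ ∈ B}
      one_mem' := ⟨Γ.one_mem, fun y _ => by simp [B.one_mem]⟩
      mul_mem' := by
        rintro a b ⟨haΓ, ha⟩ ⟨hbΓ, hb⟩
        refine ⟨Γ.mul_mem haΓ hbΓ, fun y hy => ?_⟩
        have hby : b * y * b⁻¹ ∈ Q := (Subgroup.mem_normalizer_iff.mp (hΓQ hbΓ) y).mp hy
        have h1 := ha _ hby
        have h2 := hb y hy
        have : a * b * y * (a * b)⁻¹ * y⁻¹ =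
            (a * (b * y * b⁻¹) * a⁻¹ * (b * y * b⁻¹)⁻¹) * (b * y * b⁻¹ * y⁻¹) := by group
        rw [this]
        exact B.mul_mem h1 h2
      inv_mem' := by
        rintro a ⟨haΓ, ha⟩
        refine ⟨Γ.inv_mem haΓ, fun y hy => ?_⟩
        have hay : a⁻¹ * y * a ∈ Q := by
          have := (Subgroup.mem_normalizer_iff.mp (hΓQ (Γ.inv_mem haΓ)) y).mp hy
          simpa using this
        have h1 := ha _ hay
        have h2 : a * (a⁻¹ * y * a) * a⁻¹ * (a⁻¹ * y * a)⁻¹ = y * (a⁻¹ * y⁻¹ * a) := by group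
        rw [h2] at h1
        -- conjugate by a⁻¹... use normality of B in Q
        have h3 : (y * (a⁻¹ * y⁻¹ * a))⁻¹ ∈ B := B.inv_mem h1
        have h4 : (y * (a⁻¹ * y⁻¹ * a))⁻¹ = a⁻¹ * y * a * y⁻¹ := by group
        rw [h4] at h3
        have h5 : a⁻¹ * y * a⁻¹⁻¹ * y⁻¹ = a⁻¹ * y * a * y⁻¹ := by group
        rw [h5]
        exact h3 }
  have hK : ⁅Γ, Γ⁆ ≤ K := by
    rw [Subgroup.commutator_le]
    intro g hg h hh
    have hcΓ : ⁅g, h⁆ ∈ Γ := by
      rw [commutatorElement_def]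
      exact Γ.mul_mem (Γ.mul_mem (Γ.mul_mem hg hh) (Γ.inv_mem hg)) (Γ.inv_mem hh)
    refine ⟨hcΓ, fun y hy => ?_⟩
    have h1 := map_commutatorElement_eq_one_of_isCyclic
      (quotAct (cAct Q Γ hΓQ) (B.subgroupOf Q) hInv) ⟨g, hg⟩ ⟨h, hh⟩
    have h2 := congrArg (fun e : MulAut (↥Q ⧸ B.subgroupOf Q) =>
      e ((⟨y, hy⟩ : Q) : ↥Q ⧸ B.subgroupOf Q)) h1
    simp only [quotAct_mk, MulAut.one_apply] at h2
    have h3 := QuotientGroup.eq.1 h2
    rw [Subgroup.mem_subgroupOf] at h3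
    have h4 : (((cAct Q Γ hΓQ ⁅(⟨g, hg⟩ : Γ), ⟨h, hh⟩⁆ ⟨y, hy⟩)⁻¹ * ⟨y, hy⟩ : Q) : G) =
        (⁅g, h⁆ * y * ⁅g, h⁆⁻¹)⁻¹ * y := by
      rw [Subgroup.coe_mul, Subgroup.coe_inv, cAct_apply]
      rfl
    rw [h4] at h3
    have h5 := B.inv_mem h3
    have h6 := (Subgroup.mem_normalizer_iff.mp (hQB hy) _).mp h5
    have h7 : y * ((⁅g, h⁆ * y * ⁅g, h⁆⁻¹)⁻¹ * y)⁻¹ * y⁻¹ = ⁅g, h⁆ * y * ⁅g, h⁆⁻¹ * y⁻¹ := by
      group
    rw [h7] at h6
    exact h6
  intro c hc y hy
  exact (hK hc).2 y hy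

/-- an element lying in every hyperplane with nontrivial centralizer centralizes `U`. -/
theorem le_centralizer_of_forall_hyperplane [Finite G] {q : ℕ} [hq : Fact q.Prime]
    (A U : Subgroup G) (hA : Cfsg.IsElementaryAbelian q A) (hqU : ¬ q ∣ Nat.card U)
    (hAU : A ≤ Subgroup.normalizer (U : Set G))
    (hfix : U ⊓ Subgroup.centralizer (A : Set G) = ⊥) (y : G)
    (hy : ∀ B : Subgroup G, B ≤ A → B.relIndex A = q →
      U ⊓ Subgroup.centralizer (B : Set G) ≠ ⊥ → y ∈ B) :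
    U ≤ Subgroup.centralizer ({y} : Set G) := by
  refine le_trans (le_iSup_hyperplane_centralizers q (Nat.card A) A U rfl hA hqU hAU) ?_
  apply iSup_le
  rintro ⟨B, hBA, hBidx⟩
  by_cases hbot : U ⊓ Subgroup.centralizer (B : Set G) = ⊥
  · rw [hbot]; exact bot_le
  · have hdvd : B.relIndex A ∣ Nat.card A := Subgroup.relIndex_dvd_card B A
    obtain ⟨k, hk⟩ := IsPGroup.iff_card.mp (isPGroup_of_elementary hA)
    rw [hk] at hdvd
    obtain ⟨j, hj, hjq⟩ := (Nat.dvd_prime_pow hq.out).1 hdvd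
    have hj1 : j ≤ 1 := by
      by_contra hcon
      push Not at hcon
      have h1 : q ^ 2 ≤ q ^ j := Nat.pow_le_pow_right hq.out.pos hcon
      rw [← hjq] at h1
      have h2 : q < q ^ 2 := by nlinarith [hq.out.two_le]
      omega
    interval_cases j
    · exfalso
      rw [pow_zero] at hjq
      have hAB : A ≤ B := Subgroup.relIndex_eq_one.1 hjq
      have hBA' : B = A := le_antisymm hBA hAB
      apply hbot
      rw [hBA']
      exact hfix
    · rw [pow_one] at hjq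
      have hyB := hy B hBA hjq hbot
      intro u hu
      rw [Subgroup.mem_centralizer_iff]
      intro z hz
      rw [Set.mem_singleton_iff] at hz
      rw [hz]
      exact Subgroup.mem_centralizer_iff.1 hu.2 y hyB

/-- a nontrivial `U` has a hyperplane with nontrivial centralizer. -/
theorem exists_hyperplane_of_ne_bot [Finite G] {q : ℕ} [hq : Fact q.Prime]
    (A U : Subgroup G) (hA : Cfsg.IsElementaryAbelian q A) (hqU : ¬ q ∣ Nat.card U)
    (hAU : A ≤ Subgroup.normalizer (U : Set G))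
    (hfix : U ⊓ Subgroup.centralizer (A : Set G) = ⊥) (hU : U ≠ ⊥) :
    ∃ B : Subgroup G, B ≤ A ∧ B.relIndex A = q ∧ U ⊓ Subgroup.centralizer (B : Set G) ≠ ⊥ := by
  by_contra hcon
  push Not at hcon
  apply hU
  rw [eq_bot_iff, ← hfix]
  intro u hu
  refine Subgroup.mem_inf.2 ⟨hu, ?_⟩
  rw [Subgroup.mem_centralizer_iff]
  intro a ha
  have h1 := le_centralizer_of_forall_hyperplane A U hA hqU hAU hfix a
    (fun B hBA hidx hne => absurd (hcon B hBA hidx) hne) hu
  exact Subgroup.mem_centralizer_iff.1 h1 a rfl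

end Cfsg.Agent.Helper2.T36
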