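import Mathlib
import Cfsg.Agent.Helper2.T36b
import Cfsg.Agent.Helper1.Hall

set_option autoImplicit false

/-!
Bender–Glauberman Theorem 3.6 (`S1444`), part c: conjugates of hyperplanes and the
fixed points of a group of prime order.
-/

namespace Cfsg.Agent.Helper2.T36

open Cfsg.Agent.Helper1
open scoped Pointwise commutatorElement IsMulCommutative

universe u

variable {G : Type u} [Group G]

theorem conj_smul_le_of_le {B Q : Subgroup G} {g : G}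
    (hg : g ∈ Subgroup.normalizer (Q : Set G)) (h : B ≤ Q) : MulAut.conj g • B ≤ Q := by
  have h1 := conj_smul_mono h g
  rwa [conj_smul_eq_of_mem_normalizer hg] at h1

theorem relIndex_conj_smul {B Q : Subgroup G} {g : G}
    (hg : g ∈ Subgroup.normalizer (Q : Set G)) :
    (MulAut.conj g • B).relIndex Q = B.relIndex Q := by
  conv_lhs => rw [← conj_smul_eq_of_mem_normalizer hg]
  rw [conj_smul_eq_map, conj_smul_eq_map]
  exact Subgroup.relIndex_map_map_of_injective B Q (MulAut.conj g).injective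

theorem conj_mem_inf_centralizer {U B : Subgroup G} {g w : G}
    (hg : g ∈ Subgroup.normalizer (U : Set G))
    (hw : w ∈ U ⊓ Subgroup.centralizer (B : Set G)) :
    g * w * g⁻¹ ∈ U ⊓ Subgroup.centralizer ((MulAut.conj g • B : Subgroup G) : Set G) := by
  obtain ⟨hwU, hwB⟩ := Subgroup.mem_inf.1 hw
  refine Subgroup.mem_inf.2 ⟨(Subgroup.mem_normalizer_iff.mp hg w).mp hwU, ?_⟩
  rw [Subgroup.mem_centralizer_iff]
  intro b hb
  have hb' : g⁻¹ * b * g ∈ B := mem_conj_smul.1 hb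
  have h1 := Subgroup.mem_centralizer_iff.1 hwB _ hb'
  calc b * (g * w * g⁻¹) = g * ((g⁻¹ * b * g) * w) * g⁻¹ := by group
    _ = g * (w * (g⁻¹ * b * g)) * g⁻¹ := by rw [h1]
    _ = g * w * g⁻¹ * b := by group

theorem inf_centralizer_conj_ne_bot {U B : Subgroup G} {g : G}
    (hg : g ∈ Subgroup.normalizer (U : Set G))
    (h : U ⊓ Subgroup.centralizer (B : Set G) ≠ ⊥) :
    U ⊓ Subgroup.centralizer ((MulAut.conj g • B : Subgroup G) : Set G) ≠ ⊥ := by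
  obtain ⟨w', hw'⟩ := (Subgroup.ne_bot_iff_exists_ne_one).1 h
  obtain ⟨w, hw, hw1⟩ : ∃ w : G, w ∈ U ⊓ Subgroup.centralizer (B : Set G) ∧ w ≠ 1 :=
    ⟨(w' : G), w'.2, fun h1 => hw' (Subtype.ext h1)⟩
  intro hbot
  have h1 := conj_mem_inf_centralizer hg hw
  rw [hbot, Subgroup.mem_bot] at h1
  apply hw1
  have : w = g⁻¹ * (g * w * g⁻¹) * g := by group
  rw [this, h1]; group

theorem conj_conj_smul (g h : G) (B : Subgroup G) :
    MulAut.conj g • (MulAut.conj h • B) = MulAut.conj (g * h) • B := by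
  rw [← mul_smul, ← map_mul]

/-- a group of prime order not normalizing `B` moves it by every nonidentity element. -/
theorem conj_smul_ne_of_prime_card [Finite G] {R B : Subgroup G} {r : ℕ} (hr : r.Prime)
    (hR : Nat.card R = r) (hRB : ¬ R ≤ Subgroup.normalizer (B : Set G)) :
    ∀ ρ ∈ R, ρ ≠ 1 → MulAut.conj ρ • B ≠ B := by
  intro ρ hρ hρ1 h
  apply hRB
  haveI : Fact (Nat.card R).Prime := ⟨hR ▸ hr⟩
  have h1 := Subgroup.eq_bot_or_eq_top_of_prime_card ((Subgroup.normalizer (B : Set G)).subgroupOf R)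
  rcases h1 with h1 | h1
  · exfalso
    have h2 : (⟨ρ, hρ⟩ : R) ∈ (Subgroup.normalizer (B : Set G)).subgroupOf R :=
      Subgroup.mem_subgroupOf.2 (mem_normalizer_of_conj_smul_eq h)
    rw [h1, Subgroup.mem_bot] at h2
    exact hρ1 (congrArg Subtype.val h2)
  · intro x hx
    have h2 : (⟨x, hx⟩ : R) ∈ (Subgroup.normalizer (B : Set G)).subgroupOf R := by
      rw [h1]; exact Subgroup.mem_top _
    exact Subgroup.mem_subgroupOf.1 h2

/-- the norm inequality for centralizers of two subgroups of `Q`. -/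
theorem card_mul_card_le_of_sup_eq [Finite G] [Group.IsSolvable G] (U Q R B₁ B₂ : Subgroup G)
    [IsMulCommutative U]
    (hQU : Q ≤ Subgroup.normalizer (U : Set G)) (hRU : R ≤ Subgroup.normalizer (U : Set G))
    (hRQ : R ≤ Subgroup.normalizer (Q : Set G)) (hQc : ∀ a ∈ Q, ∀ b ∈ Q, a * b = b * a)
    (hcop : (Nat.card Q).Coprime (Nat.card U))
    (hfix : U ⊓ Subgroup.centralizer (Q : Set G) = ⊥)
    (hB₁ : B₁ ≤ Q) (hB₂ : B₂ ≤ Q)
    (h11 : ∀ ρ ∈ R, ρ ≠ 1 → B₁ ⊔ MulAut.conj ρ • B₁ = Q)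
    (h12 : ∀ ρ ∈ R, B₁ ⊔ MulAut.conj ρ • B₂ = Q)
    (h22 : ∀ ρ ∈ R, ρ ≠ 1 → B₂ ⊔ MulAut.conj ρ • B₂ = Q) :
    Nat.card ↥(U ⊓ Subgroup.centralizer (B₁ : Set G)) *
      Nat.card ↥(U ⊓ Subgroup.centralizer (B₂ : Set G)) ≤
      Nat.card ↥(U ⊓ Subgroup.centralizer (R : Set G)) := by
  have hcopB : ∀ B : Subgroup G, B ≤ Q → (Nat.card B).Coprime (Nat.card U) := fun B hB =>
    hcop.coprime_dvd_left (Subgroup.card_dvd_of_le hB)
  have hd : ∀ B : Subgroup G, B ≤ Q →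
      (U ⊓ Subgroup.centralizer (B : Set G)) ⊓ ⁅U, B⁆ = ⊥ := fun B hB =>
    centralizer_inf_commutator_eq_bot B U (hB.trans hQU) (hcopB B hB)
  have key : ∀ B B' : Subgroup G, B ≤ Q → B' ≤ Q → ∀ ρ ∈ R, B ⊔ MulAut.conj ρ • B' = Q →
      ∀ w ∈ U ⊓ Subgroup.centralizer (B' : Set G), ρ * w * ρ⁻¹ ∈ ⁅U, B⁆ := by
    intro B B' hB hB' ρ hρ hsup w hw
    have h1 := conj_mem_inf_centralizer (hRU hρ) hw
    exact inf_centralizer_le_commutator U Q B (MulAut.conj ρ • B') hQU hQc hcop hfix hB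
      (conj_smul_le_of_le (hRQ hρ) hB') hsup h1
  exact card_mul_card_le_fix R U hRU _ _ ⁅U, B₁⁆ ⁅U, B₂⁆ inf_le_left inf_le_left
    (hd B₁ hB₁) (hd B₂ hB₂)
    (fun ρ hρ hρ1 w hw => key B₁ B₁ hB₁ hB₁ ρ hρ (h11 ρ hρ hρ1) w hw)
    (fun ρ hρ w hw => key B₁ B₂ hB₁ hB₂ ρ hρ (h12 ρ hρ) w hw)
    (fun ρ hρ hρ1 w hw => key B₂ B₂ hB₂ hB₂ ρ hρ (h22 ρ hρ hρ1) w hw)

end Cfsg.Agent.Helper2.T36
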