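import Mathlib
import Cfsg.Agent.Helper2.T36c
import Cfsg.Agent.Helper1.IterFocal
import Cfsg.Agent.Helper1.BGPrimeActA

set_option autoImplicit false

/-!
Bender–Glauberman Theorem 3.6 (`S1444`), part d: the elementary abelian case of the final
configuration.
-/

namespace Cfsg.Agent.Helper2.T36

open Cfsg.Agent.Helper1
open scoped Pointwise commutatorElement IsMulCommutative

universe u

variable {G : Type u} [Group G]

/-- hypotheses of the abelian case. -/
structure AbCfg (p q r : ℕ) (U Q P R : Subgroup G) : Prop where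
  hU : Cfsg.IsElementaryAbelian p U
  hQU : Q ≤ Subgroup.normalizer (U : Set G)
  hPU : P ≤ Subgroup.normalizer (U : Set G)
  hRU : R ≤ Subgroup.normalizer (U : Set G)
  hQ : Cfsg.IsElementaryAbelian q Q
  hPQ : P ≤ Subgroup.normalizer (Q : Set G)
  hRQ : R ≤ Subgroup.normalizer (Q : Set G)
  hUQ : U ⊓ Subgroup.centralizer (Q : Set G) = ⊥
  hQUf : Q ⊓ Subgroup.centralizer (U : Set G) = ⊥
  hP : IsPGroup p P
  hRP : R ≤ Subgroup.normalizer (P : Set G)
  hPR : P ⊓ Subgroup.centralizer (R : Set G) = ⊥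
  hPc : ⁅P, R⁆ = P
  hRc : Nat.card R = r
  hfix : Nat.card ↥(U ⊓ Subgroup.centralizer (R : Set G)) = p
  hpq : p ≠ q
  hpr : p ≠ r

/-- hyperplanes of `Q` with nontrivial centralizer in `U`. -/
def IsOm (q : ℕ) (U Q B : Subgroup G) : Prop :=
  B ≤ Q ∧ B.relIndex Q = q ∧ U ⊓ Subgroup.centralizer (B : Set G) ≠ ⊥

theorem IsOm.conj {q : ℕ} {U Q B : Subgroup G} (h : IsOm q U Q B) {g : G}
    (hgQ : g ∈ Subgroup.normalizer (Q : Set G)) (hgU : g ∈ Subgroup.normalizer (U : Set G)) :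
    IsOm q U Q (MulAut.conj g • B) :=
  ⟨conj_smul_le_of_le hgQ h.1, (relIndex_conj_smul hgQ).trans h.2.1,
    inf_centralizer_conj_ne_bot hgU h.2.2⟩

section

variable [Finite G] [Group.IsSolvable G] {p q r : ℕ} [hp : Fact p.Prime] [hq : Fact q.Prime]
  {U Q P R : Subgroup G}

theorem AbCfg.commU (h : AbCfg p q r U Q P R) : IsMulCommutative U := h.hU.1

theorem AbCfg.commQ (h : AbCfg p q r U Q P R) : ∀ a ∈ Q, ∀ b ∈ Q, a * b = b * a := by
  intro a ha b hb
  have := h.hQ.1.is_comm.comm ⟨a, ha⟩ ⟨b, hb⟩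
  exact congrArg Subtype.val this

theorem AbCfg.copQU (h : AbCfg p q r U Q P R) : (Nat.card Q).Coprime (Nat.card U) := by
  obtain ⟨k, hk⟩ := IsPGroup.iff_card.mp (isPGroup_of_elementary h.hQ)
  obtain ⟨l, hl⟩ := IsPGroup.iff_card.mp (isPGroup_of_elementary h.hU)
  rw [hk, hl]
  exact Nat.Coprime.pow _ _ ((Nat.coprime_primes hq.out hp.out).2 (Ne.symm h.hpq))

theorem AbCfg.le_card (h : AbCfg p q r U Q P R) {B : Subgroup G} (hB : IsOm q U Q B) :
    p ≤ Nat.card ↥(U ⊓ Subgroup.centralizer (B : Set G)) := by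
  have hpg : IsPGroup p ↥(U ⊓ Subgroup.centralizer (B : Set G)) :=
    (isPGroup_of_elementary h.hU).to_le inf_le_left
  obtain ⟨k, hk⟩ := IsPGroup.iff_card.mp hpg
  have hk0 : k ≠ 0 := by
    rintro rfl
    rw [pow_zero] at hk
    exact hB.2.2 (Subgroup.card_eq_one.mp hk)
  rw [hk]
  calc p = p ^ 1 := (pow_one p).symm
    _ ≤ p ^ k := Nat.pow_le_pow_right hp.out.pos (Nat.one_le_iff_ne_zero.2 hk0)

/-- two moved hyperplanes are conjugate under `R`. -/
theorem AbCfg.exists_conj (h : AbCfg p q r U Q P R) (hr : r.Prime) {B₁ B₂ : Subgroup G}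
    (hB₁ : IsOm q U Q B₁) (hB₂ : IsOm q U Q B₂)
    (hR₁ : ¬ R ≤ Subgroup.normalizer (B₁ : Set G))
    (hR₂ : ¬ R ≤ Subgroup.normalizer (B₂ : Set G)) :
    ∃ ρ ∈ R, MulAut.conj ρ • B₂ = B₁ := by
  by_contra hcon
  push Not at hcon
  haveI := h.commU
  have hne₁ := conj_smul_ne_of_prime_card hr h.hRc hR₁
  have hne₂ := conj_smul_ne_of_prime_card hr h.hRc hR₂
  have hle := card_mul_card_le_of_sup_eq U Q R B₁ B₂ h.hQU h.hRU h.hRQ h.commQ h.copQU h.hUQ
    hB₁.1 hB₂.1
    (fun ρ hρ hρ1 => sup_eq_of_relIndex_prime hq.out hB₁.1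
      (conj_smul_le_of_le (h.hRQ hρ) hB₁.1) hB₁.2.1
      ((relIndex_conj_smul (h.hRQ hρ)).trans hB₁.2.1) (Ne.symm (hne₁ ρ hρ hρ1)))
    (fun ρ hρ => sup_eq_of_relIndex_prime hq.out hB₁.1
      (conj_smul_le_of_le (h.hRQ hρ) hB₂.1) hB₁.2.1
      ((relIndex_conj_smul (h.hRQ hρ)).trans hB₂.2.1) (Ne.symm (hcon ρ hρ)))
    (fun ρ hρ hρ1 => sup_eq_of_relIndex_prime hq.out hB₂.1
      (conj_smul_le_of_le (h.hRQ hρ) hB₂.1) hB₂.2.1
      ((relIndex_conj_smul (h.hRQ hρ)).trans hB₂.2.1) (Ne.symm (hne₂ ρ hρ hρ1)))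
  rw [h.hfix] at hle
  have h1 := h.le_card hB₁
  have h2 := h.le_card hB₂
  have h3 : p * p ≤ p := le_trans (Nat.mul_le_mul h1 h2) hle
  have h4 := hp.out.two_le
  nlinarith

/-- a moved hyperplane has centralizer of order `p`. -/
theorem AbCfg.card_eq (h : AbCfg p q r U Q P R) (hr : r.Prime) {B : Subgroup G}
    (hB : IsOm q U Q B) (hR : ¬ R ≤ Subgroup.normalizer (B : Set G)) :
    Nat.card ↥(U ⊓ Subgroup.centralizer (B : Set G)) = p := by
  haveI := h.commU
  have hne := conj_smul_ne_of_prime_card hr h.hRc hR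
  have hQQ : ∀ ρ ∈ R, MulAut.conj ρ • Q = Q := fun ρ hρ =>
    conj_smul_eq_of_mem_normalizer (h.hRQ hρ)
  have hle := card_mul_card_le_of_sup_eq U Q R B Q h.hQU h.hRU h.hRQ h.commQ h.copQU h.hUQ
    hB.1 le_rfl
    (fun ρ hρ hρ1 => sup_eq_of_relIndex_prime hq.out hB.1
      (conj_smul_le_of_le (h.hRQ hρ) hB.1) hB.2.1
      ((relIndex_conj_smul (h.hRQ hρ)).trans hB.2.1) (Ne.symm (hne ρ hρ hρ1)))
    (fun ρ hρ => by rw [hQQ ρ hρ]; exact sup_eq_right.2 hB.1)
    (fun ρ hρ _ => by rw [hQQ ρ hρ]; exact sup_idem Q)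
  rw [h.hfix, h.hUQ, Subgroup.card_bot, mul_one] at hle
  exact le_antisymm hle (h.le_card hB)

end

/-- conjugation action of a subgroup on subgroups. -/
@[reducible] def subAct (Γ : Subgroup G) : MulAction Γ (Subgroup G) :=
  MulAction.compHom (Subgroup G) ((MulAut.conj : G →* MulAut G).comp Γ.subtype)

/-- the orbit of `B` under conjugation by `Γ`. -/
def orb (Γ B : Subgroup G) : Set (Subgroup G) := {D | ∃ g ∈ Γ, MulAut.conj g • B = D}

theorem mem_orb {Γ B D : Subgroup G} : D ∈ orb Γ B ↔ ∃ g ∈ Γ, MulAut.conj g • B = D := Iff.rfl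

theorem orb_eq (Γ B : Subgroup G) :
    orb Γ B = @MulAction.orbit Γ (Subgroup G) (subAct Γ).toSMul B := by
  ext D
  constructor
  · rintro ⟨g, hg, h⟩
    exact ⟨⟨g, hg⟩, h⟩
  · rintro ⟨g, hg⟩
    exact ⟨g, g.2, hg⟩

theorem ncard_orb (Γ B : Subgroup G) :
    (orb Γ B).ncard = ((Subgroup.normalizer (B : Set G)).subgroupOf Γ).index := by
  letI := subAct Γ
  rw [orb_eq, ← MulAction.index_stabilizer]
  congr 1
  ext g
  rw [MulAction.mem_stabilizer_iff, Subgroup.mem_subgroupOf]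
  constructor
  · intro h
    exact mem_normalizer_of_conj_smul_eq h
  · intro h
    exact conj_smul_eq_of_mem_normalizer h

theorem odd_ncard_orb [Finite G] (hodd : Odd (Nat.card G)) (Γ B : Subgroup G) :
    Odd (orb Γ B).ncard := by
  rw [ncard_orb]
  have h1 : ((Subgroup.normalizer (B : Set G)).subgroupOf Γ).index ∣ Nat.card Γ :=
    Subgroup.index_dvd_card _
  have h2 : Nat.card Γ ∣ Nat.card G := Subgroup.card_subgroup_dvd_card Γ
  exact Odd.of_dvd_nat hodd (h1.trans h2)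

section

variable [Finite G] [Group.IsSolvable G] {p q r : ℕ} [hp : Fact p.Prime] [hq : Fact q.Prime]
  {U Q P R : Subgroup G}

theorem AbCfg.copRP (h : AbCfg p q r U Q P R) (hr : r.Prime) :
    (Nat.card R).Coprime (Nat.card P) := by
  obtain ⟨k, hk⟩ := IsPGroup.iff_card.mp h.hP
  rw [hk, h.hRc]
  exact Nat.Coprime.pow_right _ ((Nat.coprime_primes hr hp.out).2 (Ne.symm h.hpr))

/-- an `R`-invariant hyperplane in `Ω` is `P`-invariant. -/
theorem AbCfg.le_normalizer_of_fixed (h : AbCfg p q r U Q P R) (hr : r.Prime)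
    (hodd : Odd (Nat.card G)) {B : Subgroup G} (hB : IsOm q U Q B)
    (hRB : R ≤ Subgroup.normalizer (B : Set G)) : P ≤ Subgroup.normalizer (B : Set G) := by
  by_contra hPB
  obtain ⟨x₀, hx₀P, hx₀B⟩ := SetLike.not_le_iff_exists.1 hPB
  set S := P ⊓ Subgroup.normalizer (B : Set G) with hS
  have hRS : R ≤ Subgroup.normalizer (S : Set G) :=
    le_normalizer_inf h.hRP (hRB.trans Subgroup.le_normalizer)
  have hA : ∀ x ∈ P, x ∉ Subgroup.normalizer (B : Set G) →
      ¬ R ≤ Subgroup.normalizer ((MulAut.conj x • B : Subgroup G) : Set G) := by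
    intro x hxP hxB hRx
    have hfixc : ∀ a ∈ R, a * x⁻¹ * a⁻¹ * (x⁻¹)⁻¹ ∈ S := by
      intro a ha
      rw [inv_inv]
      refine ⟨?_, ?_⟩
      · have h1 : a * x⁻¹ * a⁻¹ ∈ P :=
          (Subgroup.mem_normalizer_iff.mp (h.hRP ha) _).mp (P.inv_mem hxP)
        exact P.mul_mem h1 hxP
      · have h1 : MulAut.conj a • (MulAut.conj x • B) = MulAut.conj x • B :=
          conj_smul_eq_of_mem_normalizer (hRx ha)
        have h2 : MulAut.conj (x⁻¹ * a * x) • B = B := by
          have h3 := congrArg (fun D => MulAut.conj x⁻¹ • D) h1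
          simp only [conj_conj_smul] at h3
          rw [inv_mul_cancel, map_one, one_smul] at h3
          rw [← h3]
          congr 2
          group
        have h4 : x⁻¹ * a * x ∈ Subgroup.normalizer (B : Set G) :=
          mem_normalizer_of_conj_smul_eq h2
        have h5 := Subgroup.mul_mem _ h4 (Subgroup.inv_mem _ (hRB ha))
        have h6 := Subgroup.inv_mem _ h5
        have h7 : (x⁻¹ * a * x * a⁻¹)⁻¹ = a * x⁻¹ * a⁻¹ * x := by group
        rwa [h7] at h6
    obtain ⟨n, hnS, hn⟩ := exists_mem_centralizer_of_coset_fixed R P S h.hRP (h.copRP hr)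
      inf_le_left hRS (Or.inl inferInstance) x⁻¹ (P.inv_mem hxP) hfixc
    rw [h.hPR, Subgroup.mem_bot] at hn
    have hx : x = n⁻¹ := by
      have : x⁻¹ = n := by
        have h1 : n * (n⁻¹ * x⁻¹) = n * 1 := by rw [hn]
        rw [mul_one, mul_inv_cancel_left] at h1
        exact h1
      rw [← this, inv_inv]
    apply hxB
    rw [hx]
    exact Subgroup.inv_mem _ hnS.2
  set B₁ := MulAut.conj x₀ • B with hB₁def
  have hB₁ : IsOm q U Q B₁ := hB.conj (h.hPQ hx₀P) (h.hPU hx₀P)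
  have hRB₁ := hA x₀ hx₀P hx₀B
  have hBc : ∀ x ∈ P, x ∉ Subgroup.normalizer (B : Set G) →
      ∃ ρ ∈ R, MulAut.conj ρ • (MulAut.conj x • B) = B₁ := fun x hxP hxB =>
    h.exists_conj hr hB₁ (hB.conj (h.hPQ hxP) (h.hPU hxP)) hRB₁ (hA x hxP hxB)
  have hset : orb P B = insert B (orb R B₁) := by
    ext D
    rw [mem_orb, Set.mem_insert_iff, mem_orb]
    constructor
    · rintro ⟨x, hxP, rfl⟩
      by_cases hxB : x ∈ Subgroup.normalizer (B : Set G)
      · left; exact conj_smul_eq_of_mem_normalizer hxB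
      · right
        obtain ⟨ρ, hρ, hρe⟩ := hBc x hxP hxB
        refine ⟨ρ⁻¹, R.inv_mem hρ, ?_⟩
        rw [← hρe, conj_conj_smul, inv_mul_cancel, map_one, one_smul]
    · rintro (rfl | ⟨ρ, hρ, rfl⟩)
      · exact ⟨1, P.one_mem, by rw [map_one, one_smul]⟩
      · refine ⟨ρ * x₀ * ρ⁻¹, (Subgroup.mem_normalizer_iff.mp (h.hRP hρ) _).mp hx₀P, ?_⟩
        have h1 : MulAut.conj ρ⁻¹ • B = B :=
          conj_smul_eq_of_mem_normalizer (Subgroup.inv_mem _ (hRB hρ))
        calc MulAut.conj (ρ * x₀ * ρ⁻¹) • B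
            = MulAut.conj (ρ * x₀) • (MulAut.conj ρ⁻¹ • B) := by rw [conj_conj_smul]
          _ = MulAut.conj (ρ * x₀) • B := by rw [h1]
          _ = MulAut.conj ρ • B₁ := by rw [hB₁def, conj_conj_smul]
  have hBnot : B ∉ orb R B₁ := by
    rw [mem_orb]
    rintro ⟨ρ, hρ, hρe⟩
    apply hx₀B
    apply mem_normalizer_of_conj_smul_eq
    have h1 : MulAut.conj ρ⁻¹ • B = B :=
      conj_smul_eq_of_mem_normalizer (Subgroup.inv_mem _ (hRB hρ))
    have h2 : MulAut.conj ρ⁻¹ • (MulAut.conj ρ • B₁) = B₁ := by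
      rw [conj_conj_smul, inv_mul_cancel, map_one, one_smul]
    rw [hρe, h1] at h2
    rw [← hB₁def, ← h2]
  have h1 := odd_ncard_orb hodd P B
  have h2 := odd_ncard_orb hodd R B₁
  rw [hset, Set.ncard_insert_of_notMem hBnot (Set.toFinite _)] at h1
  have h3 : Even ((orb R B₁).ncard + 1) := h2.add_one
  exact (Nat.not_even_iff_odd.2 h1) h3

end

theorem le_normalizer_of_conj {R B : Subgroup G} {ρ : G} (hρ : ρ ∈ R)
    (h : R ≤ Subgroup.normalizer ((MulAut.conj ρ • B : Subgroup G) : Set G)) :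
    R ≤ Subgroup.normalizer (B : Set G) := by
  intro a ha
  have ha' : ρ * a * ρ⁻¹ ∈ R := R.mul_mem (R.mul_mem hρ ha) (R.inv_mem hρ)
  have h1 : MulAut.conj (ρ * a * ρ⁻¹) • (MulAut.conj ρ • B) = MulAut.conj ρ • B :=
    conj_smul_eq_of_mem_normalizer (h ha')
  apply mem_normalizer_of_conj_smul_eq
  have h2 := congrArg (fun D => MulAut.conj ρ⁻¹ • D) h1
  simp only [conj_conj_smul] at h2
  rw [inv_mul_cancel, map_one, one_smul] at h2
  rw [← h2]
  congr 2
  group

theorem orb_conj_subset {R B : Subgroup G} {ρ : G} (hρ : ρ ∈ R) :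
    orb R (MulAut.conj ρ • B) ⊆ orb R B := by
  rintro D ⟨a, ha, rfl⟩
  exact ⟨a * ρ, R.mul_mem ha hρ, by rw [conj_conj_smul]⟩

section

variable [Finite G] [Group.IsSolvable G] {p q r : ℕ} [hp : Fact p.Prime] [hq : Fact q.Prime]
  {U Q P R : Subgroup G}

/-- a hyperplane in `Ω` moved by `R` is `P`-invariant. -/
theorem AbCfg.le_normalizer_of_moved (h : AbCfg p q r U Q P R) (hr : r.Prime)
    (hodd : Odd (Nat.card G)) {B : Subgroup G} (hB : IsOm q U Q B)
    (hRB : ¬ R ≤ Subgroup.normalizer (B : Set G)) : P ≤ Subgroup.normalizer (B : Set G) := by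
  -- Claim C
  have hC : ∀ B' : Subgroup G, IsOm q U Q B' → ¬ R ≤ Subgroup.normalizer (B' : Set G) →
      ∀ x ∈ P, MulAut.conj x • B' ∈ orb R B' := by
    intro B' hB' hRB' x hxP
    have hB'' : IsOm q U Q (MulAut.conj x • B') := hB'.conj (h.hPQ hxP) (h.hPU hxP)
    have hRB'' : ¬ R ≤ Subgroup.normalizer ((MulAut.conj x • B' : Subgroup G) : Set G) := by
      intro hcon
      have h1 := h.le_normalizer_of_fixed hr hodd hB'' hcon
      have h2 : MulAut.conj x⁻¹ • (MulAut.conj x • B') = MulAut.conj x • B' :=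
        conj_smul_eq_of_mem_normalizer (h1 (P.inv_mem hxP))
      rw [conj_conj_smul, inv_mul_cancel, map_one, one_smul] at h2
      rw [← h2] at hcon
      exact hRB' hcon
    obtain ⟨ρ, hρ, hρe⟩ := h.exists_conj hr hB'' hB' hRB'' hRB'
    exact ⟨ρ, hρ, hρe⟩
  set Γ := P ⊔ R with hΓ
  have hdisj : R ⊓ P = ⊥ := inf_eq_bot_of_coprime_card (h.copRP hr)
  have horb : orb Γ B = orb R B := by
    apply Set.Subset.antisymm
    · rintro D ⟨g, hg, rfl⟩
      obtain ⟨x, hx, ρ, hρ, rfl⟩ := mem_sup_of_le_normalizer h.hRP hg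
      rw [← conj_conj_smul]
      have hB' : IsOm q U Q (MulAut.conj ρ • B) := hB.conj (h.hRQ hρ) (h.hRU hρ)
      have hRB' : ¬ R ≤ Subgroup.normalizer ((MulAut.conj ρ • B : Subgroup G) : Set G) :=
        fun hcon => hRB (le_normalizer_of_conj hρ hcon)
      exact orb_conj_subset hρ (hC _ hB' hRB' x hx)
    · rintro D ⟨g, hg, rfl⟩
      exact ⟨g, Subgroup.mem_sup_right hg, rfl⟩
  have hcardR : (orb R B).ncard = r := by
    rw [ncard_orb]
    haveI : Fact (Nat.card R).Prime := ⟨h.hRc ▸ hr⟩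
    rcases Subgroup.eq_bot_or_eq_top_of_prime_card
      ((Subgroup.normalizer (B : Set G)).subgroupOf R) with h1 | h1
    · rw [h1, Subgroup.index_bot, h.hRc]
    · exfalso
      apply hRB
      intro x hx
      have h2 : (⟨x, hx⟩ : R) ∈ (Subgroup.normalizer (B : Set G)).subgroupOf R := by
        rw [h1]; exact Subgroup.mem_top _
      exact Subgroup.mem_subgroupOf.1 h2
  set St := (Subgroup.normalizer (B : Set G)).subgroupOf Γ with hSt
  have hStidx : St.index = r := by
    rw [← ncard_orb, horb, hcardR]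
  have hcardΓ : Nat.card Γ = Nat.card R * Nat.card P :=
    card_sup_of_le_normalizer h.hRP hdisj
  have hcardSt : Nat.card St = Nat.card P := by
    have h1 := Subgroup.card_mul_index St
    rw [hStidx, hcardΓ, h.hRc, mul_comm] at h1
    exact Nat.eq_of_mul_eq_mul_left hr.pos h1
  have hPΓ : P ≤ Γ := le_sup_left
  have hΓP : Γ ≤ Subgroup.normalizer (P : Set G) := sup_le Subgroup.le_normalizer h.hRP
  haveI hPn : (P.subgroupOf Γ).Normal :=
    (Subgroup.normal_subgroupOf_iff_le_normalizer hPΓ).2 hΓP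
  have hPidx : (P.subgroupOf Γ).index = r := by
    have h1 : P.relIndex Γ = Nat.card R :=
      Cfsg.Agent.Helper1.BGPrimeAct.relIndex_sup_eq h.hRP hdisj
    rw [h.hRc] at h1
    exact h1
  have hle : St ≤ P.subgroupOf Γ := by
    apply le_of_coprime_card_index
    rw [hcardSt, hPidx]
    exact (h.copRP hr).symm.coprime_dvd_right (by rw [h.hRc])
  have heq : St = P.subgroupOf Γ := by
    apply Subgroup.eq_of_le_of_card_ge hle
    rw [hcardSt, card_subgroupOf_of_le hPΓ]
  intro x hx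
  have h1 : (⟨x, hPΓ hx⟩ : Γ) ∈ P.subgroupOf Γ := Subgroup.mem_subgroupOf.2 hx
  rw [← heq] at h1
  exact Subgroup.mem_subgroupOf.1 h1

end

/-- a `p`-group normalizing a group of order `p` centralizes it. -/
theorem le_centralizer_of_card_prime [Finite G] {p : ℕ} [hp : Fact p.Prime] (P W : Subgroup G)
    (hP : IsPGroup p P) (hPW : P ≤ Subgroup.normalizer (W : Set G)) (hW : Nat.card W = p) :
    P ≤ Subgroup.centralizer (W : Set G) := by
  haveI : IsCyclic W := isCyclic_of_prime_card hW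
  intro x hx
  have h1 : orderOf (cAct W P hPW ⟨x, hx⟩) ∣ orderOf (⟨x, hx⟩ : P) := orderOf_map_dvd _ _
  obtain ⟨k, hk⟩ := hP ⟨x, hx⟩
  have h2 : orderOf (⟨x, hx⟩ : P) ∣ p ^ k := orderOf_dvd_of_pow_eq_one hk
  have h3 : orderOf (cAct W P hPW ⟨x, hx⟩) ∣ Nat.card (MulAut W) := orderOf_dvd_natCard _
  rw [IsCyclic.card_mulAut W, hW, Nat.totient_prime hp.out] at h3
  have hcop : (p ^ k).Coprime (p - 1) := by
    apply Nat.Coprime.pow_left
    have h4 : (p - 1 + 1).Coprime (p - 1) := by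
      rw [Nat.coprime_self_add_left]  -- (m + n).Coprime m ↔ n.Coprime m
      exact Nat.coprime_one_left _
    rwa [Nat.sub_add_cancel hp.out.one_le] at h4
  have h5 : orderOf (cAct W P hPW ⟨x, hx⟩) = 1 :=
    Nat.eq_one_of_dvd_coprimes hcop (h1.trans h2) h3
  rw [orderOf_eq_one_iff] at h5
  rw [Subgroup.mem_centralizer_iff]
  intro w hw
  have h6 := congrArg (fun e : MulAut W => ((e ⟨w, hw⟩ : W) : G)) h5
  simp only [cAct_apply, MulAut.one_apply] at h6
  rw [mul_inv_eq_iff_eq_mul] at h6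
  exact h6.symm

section

variable [Finite G] [Group.IsSolvable G] {p q r : ℕ} [hp : Fact p.Prime] [hq : Fact q.Prime]
  {U Q P R : Subgroup G}

theorem AbCfg.le_normalizer (h : AbCfg p q r U Q P R) (hr : r.Prime)
    (hodd : Odd (Nat.card G)) {B : Subgroup G} (hB : IsOm q U Q B) :
    P ≤ Subgroup.normalizer (B : Set G) := by
  by_cases hRB : R ≤ Subgroup.normalizer (B : Set G)
  · exact h.le_normalizer_of_fixed hr hodd hB hRB
  · exact h.le_normalizer_of_moved hr hodd hB hRB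

theorem AbCfg.le_normalizer_self (h : AbCfg p q r U Q P R) {B : Subgroup G} (hB : B ≤ Q) :
    Q ≤ Subgroup.normalizer (B : Set G) := by
  intro y hy
  rw [Subgroup.mem_normalizer_iff]
  intro b
  constructor
  · intro hb
    have h1 := h.commQ y hy b (hB hb)
    rw [h1, mul_inv_cancel_right]
    exact hb
  · intro hb
    have h1 : y * b * y⁻¹ ∈ Q := Q.mul_mem (Q.mul_mem hy ?_) (Q.inv_mem hy)
    · have h2 := h.commQ y⁻¹ (Q.inv_mem hy) _ (hB hb)
      have h3 : b = y⁻¹ * (y * b * y⁻¹) * y := by group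
      rw [h3, h2]
      have : y * b * y⁻¹ * y⁻¹ * y = y * b * y⁻¹ := by group
      rw [this]; exact hb
    · -- b ∈ Q: from y * b * y⁻¹ ∈ B ≤ Q
      have h4 := hB hb
      have : b = y⁻¹ * (y * b * y⁻¹) * y := by group
      rw [this]
      exact Q.mul_mem (Q.mul_mem (Q.inv_mem hy) h4) hy

/-- `[Q, P]` lies in every hyperplane in `Ω`. -/
theorem AbCfg.commutator_le (h : AbCfg p q r U Q P R) (hr : r.Prime)
    (hodd : Odd (Nat.card G)) {B : Subgroup G} (hB : IsOm q U Q B) : ⁅Q, P⁆ ≤ B := by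
  have hPB := h.le_normalizer hr hodd hB
  have hQB := h.le_normalizer_self hB.1
  have key : ∀ x ∈ P, ∀ y ∈ Q, x * y * x⁻¹ * y⁻¹ ∈ B := by
    by_cases hRB : R ≤ Subgroup.normalizer (B : Set G)
    · have h1 := commutator_act_trivial_of_relIndex_prime Q B (P ⊔ R) hq.out hB.1 hQB
        (sup_le h.hPQ h.hRQ) (sup_le hPB hRB) hB.2.1
      intro x hx y hy
      apply h1 x _ y hy
      have h2 : ⁅P, R⁆ ≤ ⁅P ⊔ R, P ⊔ R⁆ := Subgroup.commutator_mono le_sup_left le_sup_right
      apply h2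
      rw [h.hPc]; exact hx
    · have hW := h.card_eq hr hB hRB
      set W := U ⊓ Subgroup.centralizer (B : Set G) with hWdef
      have hPW : P ≤ Subgroup.normalizer (W : Set G) := by
        apply le_normalizer_inf h.hPU
        intro x hx
        have hxB := hPB hx
        rw [Subgroup.mem_normalizer_iff]
        intro w
        have e1 : MulAut.conj x • B = B := conj_smul_eq_of_mem_normalizer hxB
        constructor
        · intro hw
          have h1 := (conj_mem_inf_centralizer (U := ⊤) (B := B) (g := x) (w := w)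
            (by rw [Subgroup.normalizer_eq_top]; exact Subgroup.mem_top _)
            (by rw [top_inf_eq]; exact hw))
          rw [top_inf_eq, e1] at h1
          exact h1
        · intro hw
          have e2 : MulAut.conj x⁻¹ • B = B :=
            conj_smul_eq_of_mem_normalizer (Subgroup.inv_mem _ hxB)
          have h1 := (conj_mem_inf_centralizer (U := ⊤) (B := B) (g := x⁻¹) (w := x * w * x⁻¹)
            (by rw [Subgroup.normalizer_eq_top]; exact Subgroup.mem_top _)
            (by rw [top_inf_eq]; exact hw))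
          rw [top_inf_eq, e2] at h1
          have : x⁻¹ * (x * w * x⁻¹) * x⁻¹⁻¹ = w := by group
          rwa [this] at h1
      have hPcW := le_centralizer_of_card_prime P W h.hP hPW hW
      have hQW : Q ≤ Subgroup.normalizer (W : Set G) := by
        apply le_normalizer_inf h.hQU
        refine le_trans ?_ Subgroup.le_normalizer
        intro y hy
        rw [Subgroup.mem_centralizer_iff]
        intro b hb
        exact h.commQ b (hB.1 hb) y hy
      -- C_Q(W) = B
      set K := Q ⊓ Subgroup.centralizer (W : Set G) with hK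
      have hBK : B ≤ K := by
        intro b hb
        refine Subgroup.mem_inf.2 ⟨hB.1 hb, ?_⟩
        rw [Subgroup.mem_centralizer_iff]
        intro w hw
        exact (Subgroup.mem_centralizer_iff.1 (Subgroup.mem_inf.1 hw).2 b hb).symm
      have hKB : K = B := by
        rcases eq_or_eq_of_relIndex_prime hq.out hBK inf_le_left hB.2.1 with h1 | h1
        · exact h1
        · exfalso
          apply hB.2.2
          rw [eq_bot_iff, ← h.hUQ]
          intro w hw
          refine Subgroup.mem_inf.2 ⟨(Subgroup.mem_inf.1 hw).1, ?_⟩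
          rw [Subgroup.mem_centralizer_iff]
          intro y hy
          have hyK : y ∈ K := by rw [h1]; exact hy
          exact (Subgroup.mem_centralizer_iff.1 (Subgroup.mem_inf.1 hyK).2 w hw).symm
      intro x hx y hy
      rw [← hKB]
      refine Subgroup.mem_inf.2 ⟨?_, ?_⟩
      · have h1 : x * y * x⁻¹ ∈ Q := (Subgroup.mem_normalizer_iff.mp (h.hPQ hx) y).mp hy
        exact Q.mul_mem h1 (Q.inv_mem hy)
      · rw [Subgroup.mem_centralizer_iff]
        intro w hw
        -- y⁻¹ normalizes W, x centralizes W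
        have hy' : y⁻¹ * w * y ∈ W := by
          have := (Subgroup.mem_normalizer_iff.mp (hQW (Q.inv_mem hy)) w).mp hw
          simpa using this
        have h1 := Subgroup.mem_centralizer_iff.1 (hPcW (P.inv_mem hx)) _ hy'
        have hy'' : y * (y⁻¹ * w * y) * y⁻¹ = w := by group
        have h2 := Subgroup.mem_centralizer_iff.1 (hPcW hx) w hw
        -- w * (x y x⁻¹ y⁻¹) = (x y x⁻¹ y⁻¹) * w
        have h3 : x⁻¹ * (y⁻¹ * w * y) = (y⁻¹ * w * y) * x⁻¹ := h1.symm
        calc w * (x * y * x⁻¹ * y⁻¹) = x * w * y * x⁻¹ * y⁻¹ := by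
              rw [← mul_assoc, ← mul_assoc, ← mul_assoc, h2]
          _ = x * y * ((y⁻¹ * w * y) * x⁻¹) * y⁻¹ := by group
          _ = x * y * (x⁻¹ * (y⁻¹ * w * y)) * y⁻¹ := by rw [h3]
          _ = x * y * x⁻¹ * y⁻¹ * w := by group
  rw [Subgroup.commutator_le]
  intro y hy x hx
  have h1 := B.inv_mem (key x hx y hy)
  have h2 : (x * y * x⁻¹ * y⁻¹)⁻¹ = ⁅y, x⁆ := by
    rw [commutatorElement_def]; group
  rwa [h2] at h1

/-- **the abelian case**: `P` centralizes `Q`. -/
theorem AbCfg.le_centralizer (h : AbCfg p q r U Q P R) (hr : r.Prime)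
    (hodd : Odd (Nat.card G)) : ⁅Q, P⁆ = ⊥ := by
  rw [eq_bot_iff, ← h.hQUf]
  intro c hc
  have hcQ : c ∈ Q := (Subgroup.le_normalizer_iff_commutator_le_left.1 h.hPQ) hc
  refine Subgroup.mem_inf.2 ⟨hcQ, ?_⟩
  have hqU : ¬ q ∣ Nat.card U := by
    obtain ⟨l, hl⟩ := IsPGroup.iff_card.mp (isPGroup_of_elementary h.hU)
    rw [hl]
    intro hdvd
    exact h.hpq ((Nat.prime_dvd_prime_iff_eq hq.out hp.out).1 (hq.out.dvd_of_dvd_pow hdvd)).symm
  have h1 := le_centralizer_of_forall_hyperplane Q U h.hQ hqU h.hQU h.hUQ c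
    (fun B hBQ hidx hne => h.commutator_le hr hodd ⟨hBQ, hidx, hne⟩ hc)
  rw [Subgroup.mem_centralizer_iff]
  intro u hu
  exact (Subgroup.mem_centralizer_iff.1 (h1 hu) c rfl).symm

end

end Cfsg.Agent.Helper2.T36
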