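import Mathlib
import Cfsg.Prelude
import Cfsg.Agent.Helper2.T36d

/-!
# BG Theorem 3.6: the minimal configuration (interface)

`Cfg p q V Q P R R₀ H` is the configuration reached by the reduction in the proof of
Bender–Glauberman Theorem 3.6; `Cfg.false` (in `T36f`) shows that it cannot occur in a solvable
group of odd order.
-/

namespace Cfsg.Agent.Helper2.T36

variable {G : Type*} [Group G]

/-- the minimal configuration of BG Theorem 3.6. -/
structure Cfg (p q : ℕ) (V Q P R R₀ H : Subgroup G) : Prop where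
  hV : Cfsg.IsElementaryAbelian p V
  hVn : V.Normal
  hQ : IsPGroup q Q
  hpq : p ≠ q
  hPQ : P ≤ Subgroup.normalizer (Q : Set G)
  hRQ : R ≤ Subgroup.normalizer (Q : Set G)
  hQV : Q ⊓ Subgroup.centralizer (V : Set G) = ⊥
  hVQ : V ⊓ Subgroup.centralizer (Q : Set G) = ⊥
  hP : IsPGroup p P
  hRP : R ≤ Subgroup.normalizer (P : Set G)
  hPV : P ⊓ V = ⊥
  hnt : ⁅Q, P⁆ ≠ ⊥
  hmin : ∀ Y : Subgroup G, Y < Q → P ≤ Subgroup.normalizer (Y : Set G) →
    R ≤ Subgroup.normalizer (Y : Set G) → ⁅Y, P⁆ = ⊥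
  hPdec : P ≤ ⁅P, R⁆ ⊔ (P ⊓ Subgroup.centralizer (Q : Set G))
  hVH : V ≤ H
  hQH : Q ≤ H
  hPH : P ≤ H
  hcop : (Nat.card H).Coprime (Nat.card R)
  hR₀ : R₀ ≤ R
  hR₀p : (Nat.card R₀).Prime
  hZ : IsZGroup ↥(H ⊓ Subgroup.centralizer (R₀ : Set G))
  hR₀c : R₀ = R ∨ ⁅P, R₀⁆ ≤ Subgroup.centralizer (Q : Set G)

end Cfsg.Agent.Helper2.T36
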