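import Mathlib
import Cfsg.Prelude
import Cfsg.Agent.Helper2.T36cfg
import Cfsg.Agent.Helper3.FrobActE
import Cfsg.Agent.S0095
import Cfsg.Agent.Helper2.Signalizer1
import Cfsg.Agent.Helper1.PQLemma

/-!
# BG Theorem 3.6: the special case of the module core

`Q` a special `q`-group of exponent `q`.
-/

namespace Cfsg.Agent.Helper2.T36

open Cfsg.Agent.Helper1 Cfsg.Agent.Helper2

open scoped Pointwise

variable {G : Type*} [Group G]

/-- the centre of `Q`, as a subgroup of the ambient group. -/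
def zOf (Q : Subgroup G) : Subgroup G := (Subgroup.center ↥Q).map Q.subtype

theorem mem_zOf {Q : Subgroup G} {z : G} :
    z ∈ zOf Q ↔ z ∈ Q ∧ ∀ x ∈ Q, x * z = z * x := by
  constructor
  · rintro ⟨⟨z, hzQ⟩, hz, rfl⟩
    refine ⟨hzQ, fun x hx => ?_⟩
    have := Subgroup.mem_center_iff.1 hz ⟨x, hx⟩
    exact congrArg Subtype.val this
  · rintro ⟨hzQ, hz⟩
    refine ⟨⟨z, hzQ⟩, ?_, rfl⟩
    rw [SetLike.mem_coe, Subgroup.mem_center_iff]
    rintro ⟨x, hx⟩
    exact Subtype.ext (hz x hx)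

theorem zOf_le (Q : Subgroup G) : zOf Q ≤ Q := fun _ hz => (mem_zOf.1 hz).1

theorem le_centralizer_zOf (Q : Subgroup G) : Q ≤ Subgroup.centralizer (zOf Q : Set G) := by
  intro x hx
  rw [Subgroup.mem_centralizer_iff]
  intro z hz
  exact ((mem_zOf.1 hz).2 x hx).symm

theorem zOf_comm (Q : Subgroup G) : ∀ a ∈ zOf Q, ∀ b ∈ zOf Q, a * b = b * a :=
  fun a ha b hb => (mem_zOf.1 hb).2 a (zOf_le Q ha)

theorem normalizer_le_normalizer_zOf (Q : Subgroup G) :
    Subgroup.normalizer (Q : Set G) ≤ Subgroup.normalizer (zOf Q : Set G) := by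
  intro g hg
  have key : ∀ g : G, g ∈ Subgroup.normalizer (Q : Set G) → ∀ z ∈ zOf Q, g * z * g⁻¹ ∈ zOf Q := by
    intro g hg z hz
    obtain ⟨hzQ, hzc⟩ := mem_zOf.1 hz
    refine mem_zOf.2 ⟨(Subgroup.mem_normalizer_iff.1 hg z).1 hzQ, fun x hx => ?_⟩
    have hx' : g⁻¹ * x * g ∈ Q := by
      have := (Subgroup.mem_normalizer_iff.1 ((Subgroup.normalizer (Q : Set G)).inv_mem hg) x).1 hx
      simpa using this
    have h1 := hzc _ hx'
    calc x * (g * z * g⁻¹) = g * ((g⁻¹ * x * g) * z) * g⁻¹ := by group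
      _ = g * (z * (g⁻¹ * x * g)) * g⁻¹ := by rw [h1]
      _ = g * z * g⁻¹ * x := by group
  rw [Subgroup.mem_normalizer_iff]
  intro z
  refine ⟨key g hg z, fun h => ?_⟩
  have := key g⁻¹ ((Subgroup.normalizer (Q : Set G)).inv_mem hg) _ h
  simpa [mul_assoc] using this

theorem zOf_subgroupOf (Q : Subgroup G) : (zOf Q).subgroupOf Q = Subgroup.center ↥Q := by
  rw [zOf, Subgroup.subgroupOf]
  exact Subgroup.comap_map_eq_self_of_injective Q.subtype_injective _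

section special

variable {q : ℕ} {Q : Subgroup G}

theorem commutator_eq_zOf (h : Cfsg.IsSpecial q ↥Q) : ⁅Q, Q⁆ = zOf Q := by
  rw [zOf, ← h.2.2, Subgroup.map_subtype_commutator]

theorem zOf_ne_self (h : Cfsg.IsSpecial q ↥Q) (hne : Q ≠ ⊥) : zOf Q ≠ Q := by
  intro hZ
  apply hne
  have h1 : Subgroup.center ↥Q = ⊤ := by
    rw [← zOf_subgroupOf, hZ]
    exact Subgroup.subgroupOf_self Q
  have h2 : commutator ↥Q = ⊥ := (commutator_eq_bot_iff_center_eq_top ↥Q).2 h1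
  have h3 : (⊤ : Subgroup ↥Q) = ⊥ := by rw [← h1, ← h.2.2, h2]
  rw [eq_bot_iff]
  intro x hx
  have : (⟨x, hx⟩ : Q) ∈ (⊤ : Subgroup ↥Q) := Subgroup.mem_top _
  rw [h3, Subgroup.mem_bot] at this
  exact Subgroup.mem_bot.2 (congrArg Subtype.val this)

theorem zOf_ne_bot (h : Cfsg.IsSpecial q ↥Q) (hne : Q ≠ ⊥) : zOf Q ≠ ⊥ := by
  intro hZ
  apply zOf_ne_self h hne
  have h1 : Subgroup.center ↥Q = ⊥ := by
    rw [← zOf_subgroupOf, hZ]
    exact Subgroup.bot_subgroupOf Q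
  have h2 : commutator ↥Q = ⊥ := by rw [h.2.2, h1]
  have h3 : Subgroup.center ↥Q = ⊤ := (commutator_eq_bot_iff_center_eq_top ↥Q).1 h2
  have h4 : (zOf Q).subgroupOf Q = ⊤ := by rw [zOf_subgroupOf, h3]
  exact le_antisymm (zOf_le Q) (Subgroup.subgroupOf_eq_top.1 h4)

end special


section relcenter

variable {Q Z₀ : Subgroup G}

/-- a subgroup of the centre of `Q` gives a normal subgroup of `Q`. -/
theorem subgroupOf_normal_of_le_zOf (h : Z₀ ≤ zOf Q) : (Z₀.subgroupOf Q).Normal := by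
  constructor
  intro n hn g
  rw [Subgroup.mem_subgroupOf] at hn ⊢
  have h1 := (mem_zOf.1 (h hn)).2 g g.2
  have : ((g * n * g⁻¹ : Q) : G) = (n : G) := by
    rw [Subgroup.coe_mul, Subgroup.coe_mul, Subgroup.coe_inv, h1, mul_inv_cancel_right]
  rw [this]
  exact hn

/-- the preimage in `Q` of the centre of `Q / Z₀`, as a subgroup of the ambient group. -/
noncomputable def relC (Q Z₀ : Subgroup G) (h : Z₀ ≤ zOf Q) : Subgroup G :=
  haveI := subgroupOf_normal_of_le_zOf h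
  ((Subgroup.center (↥Q ⧸ Z₀.subgroupOf Q)).comap (QuotientGroup.mk' (Z₀.subgroupOf Q))).map
    Q.subtype

theorem mem_relC (h : Z₀ ≤ zOf Q) {g : G} :
    g ∈ relC Q Z₀ h ↔ g ∈ Q ∧ ∀ y ∈ Q, (y * g)⁻¹ * (g * y) ∈ Z₀ := by
  haveI := subgroupOf_normal_of_le_zOf h
  constructor
  · rintro ⟨⟨g, hgQ⟩, hg, rfl⟩
    refine ⟨hgQ, fun y hy => ?_⟩
    rw [SetLike.mem_coe, Subgroup.mem_comap, Subgroup.mem_center_iff] at hg
    have h1 := hg (QuotientGroup.mk' (Z₀.subgroupOf Q) ⟨y, hy⟩)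
    rw [← map_mul, ← map_mul] at h1
    have h2 := (QuotientGroup.eq (s := Z₀.subgroupOf Q)).1 h1
    rw [Subgroup.mem_subgroupOf] at h2
    simpa using h2
  · rintro ⟨hgQ, hg⟩
    refine ⟨⟨g, hgQ⟩, ?_, rfl⟩
    rw [SetLike.mem_coe, Subgroup.mem_comap, Subgroup.mem_center_iff]
    intro e
    obtain ⟨⟨y, hy⟩, rfl⟩ := QuotientGroup.mk'_surjective (Z₀.subgroupOf Q) e
    rw [← map_mul, ← map_mul]
    apply (QuotientGroup.eq (s := Z₀.subgroupOf Q)).2
    rw [Subgroup.mem_subgroupOf]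
    simpa using hg y hy

theorem relC_le (h : Z₀ ≤ zOf Q) : relC Q Z₀ h ≤ Q := fun _ hg => ((mem_relC h).1 hg).1

theorem zOf_le_relC (h : Z₀ ≤ zOf Q) : zOf Q ≤ relC Q Z₀ h := by
  intro z hz
  refine (mem_relC h).2 ⟨zOf_le Q hz, fun y hy => ?_⟩
  rw [(mem_zOf.1 hz).2 y hy, inv_mul_cancel]
  exact Z₀.one_mem

theorem le_normalizer_relC (h : Z₀ ≤ zOf Q) {Γ : Subgroup G}
    (hΓQ : Γ ≤ Subgroup.normalizer (Q : Set G)) (hΓZ : Γ ≤ Subgroup.normalizer (Z₀ : Set G)) :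
    Γ ≤ Subgroup.normalizer (relC Q Z₀ h : Set G) := by
  apply le_normalizer_of_conj_mem
  intro γ hγ g hg
  obtain ⟨hgQ, hgc⟩ := (mem_relC h).1 hg
  refine (mem_relC h).2 ⟨conj_mem_of_le_normalizer hΓQ γ hγ g hgQ, fun y hy => ?_⟩
  have hy' : γ⁻¹ * y * γ ∈ Q := by
    have := conj_mem_of_le_normalizer hΓQ γ⁻¹ (Γ.inv_mem hγ) y hy
    simpa using this
  have h1 := conj_mem_of_le_normalizer hΓZ γ hγ _ (hgc _ hy')
  have e : γ * ((γ⁻¹ * y * γ * g)⁻¹ * (g * (γ⁻¹ * y * γ))) * γ⁻¹ =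
      (y * (γ * g * γ⁻¹))⁻¹ * (γ * g * γ⁻¹ * y) := by group
  rwa [e] at h1

end relcenter


section index

variable [Finite G] {q : ℕ} [hq : Fact q.Prime] {Q Z₀ : Subgroup G}

/-- `|Q : Z(Q)|` is an even power of `q` when `Q` is special, `Z₀` is a hyperplane of `Z(Q)`
normalized by `Γ`, and `Γ` acts irreducibly on `Q / Z(Q)`. -/
theorem exists_relIndex_zOf_eq_pow (hQ : Cfsg.IsSpecial q ↥Q)
    (hZ₀ : Z₀ ≤ zOf Q) (hidx : Z₀.relIndex (zOf Q) = q) {Γ : Subgroup G}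
    (hΓQ : Γ ≤ Subgroup.normalizer (Q : Set G)) (hΓZ : Γ ≤ Subgroup.normalizer (Z₀ : Set G))
    (hirr : ∀ Y : Subgroup G, zOf Q ≤ Y → Y ≤ Q → Γ ≤ Subgroup.normalizer (Y : Set G) →
      Y = zOf Q ∨ Y = Q) :
    ∃ m : ℕ, (zOf Q).relIndex Q = q ^ (2 * m) := by
  haveI hN := subgroupOf_normal_of_le_zOf hZ₀
  set N : Subgroup ↥Q := Z₀.subgroupOf Q with hNdef
  set f : ↥Q →* ↥Q ⧸ N := QuotientGroup.mk' N with hf
  have hfs : Function.Surjective f := QuotientGroup.mk'_surjective N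
  set Zc : Subgroup ↥Q := Subgroup.center ↥Q with hZc
  have hNZc : N ≤ Zc := by
    rw [hZc, ← zOf_subgroupOf]
    intro x hx
    exact Subgroup.mem_subgroupOf.2 (hZ₀ (Subgroup.mem_subgroupOf.1 hx))
  have hker : f.ker ≤ Zc := by rw [hf, QuotientGroup.ker_mk']; exact hNZc
  -- the derived group of the quotient
  have hcomm : commutator (↥Q ⧸ N) = Zc.map f := by
    rw [hZc, ← hQ.2.2, commutator_def, commutator_def, Subgroup.map_commutator,
      ← MonoidHom.range_eq_map, MonoidHom.range_eq_top.2 hfs]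
  have hrel : N.relIndex Zc = q := by
    rw [hZc, ← zOf_subgroupOf, hNdef, Subgroup.relIndex_subgroupOf (zOf_le Q), hidx]
  have hcard : Nat.card (Zc.map f) = q := by
    have h1 := Subgroup.card_mul_index (Zc.map f)
    have h2 : (Zc.map f).index = Zc.index := Subgroup.index_map_eq Zc hfs hker
    have h3 : Nat.card (↥Q ⧸ N) = N.index := (Subgroup.index_eq_card N).symm
    have h4 := Subgroup.relIndex_mul_index hNZc
    have h5 : Zc.index ≠ 0 := Subgroup.index_ne_zero_of_finite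
    rw [h2, h3, ← h4, hrel] at h1
    exact Nat.eq_of_mul_eq_mul_right (Nat.pos_of_ne_zero h5) h1
  have hE : IsPGroup q (↥Q ⧸ N) := hQ.1.to_quotient N
  obtain ⟨m, hm⟩ := Cfsg.Agent.S0095.class_two_index q _ (↥Q ⧸ N) rfl hE
    (by rw [hcomm, hcard])
  refine ⟨m, ?_⟩
  rcases hirr (relC Q Z₀ hZ₀) (zOf_le_relC hZ₀) (relC_le hZ₀)
    (le_normalizer_relC hZ₀ hΓQ hΓZ) with hY | hY
  · -- the centre of the quotient is the image of the centre
    have h1 : (Subgroup.center (↥Q ⧸ N)).comap f = Zc := by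
      have h2 : ((Subgroup.center (↥Q ⧸ N)).comap f).map Q.subtype = Zc.map Q.subtype := hY
      exact Subgroup.map_injective Q.subtype_injective h2
    have h2 : Subgroup.center (↥Q ⧸ N) = Zc.map f := by
      rw [← h1, Subgroup.map_comap_eq_self_of_surjective hfs]
    rw [h2, Subgroup.index_map_eq Zc hfs hker] at hm
    rw [Subgroup.relIndex, zOf_subgroupOf]
    exact hm
  · -- the quotient would be abelian
    exfalso
    have h1 : (Subgroup.center (↥Q ⧸ N)).comap f = ⊤ := by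
      have h2 : ((Subgroup.center (↥Q ⧸ N)).comap f).map Q.subtype =
          (⊤ : Subgroup ↥Q).map Q.subtype := by
        rw [← MonoidHom.range_eq_map, Subgroup.range_subtype]
        exact hY
      exact Subgroup.map_injective Q.subtype_injective h2
    have h2 : Subgroup.center (↥Q ⧸ N) = ⊤ := by
      rw [← Subgroup.map_comap_eq_self_of_surjective hfs (Subgroup.center (↥Q ⧸ N)), h1,
        ← MonoidHom.range_eq_map, MonoidHom.range_eq_top.2 hfs]
    have h3 : commutator (↥Q ⧸ N) = ⊥ := (commutator_eq_bot_iff_center_eq_top _).2 h2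
    rw [hcomm] at h3
    rw [h3, Subgroup.card_bot] at hcard
    exact hq.out.one_lt.ne hcard

end index


section frob

open Cfsg.Agent.Helper3.FrobActA Cfsg.Agent.Helper3.FrobActD Cfsg.Agent.Helper3.FrobActE

variable [Finite G] {p q r : ℕ} [hp : Fact p.Prime] [hq : Fact q.Prime] {Q P R : Subgroup G}

/-- a nonidentity element of a group of prime order generates it: centralizing it means
centralizing the group. -/
theorem mem_centralizer_of_prime_card (hr : r.Prime) (hRc : Nat.card R = r) {ρ f : G}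
    (hρ : ρ ∈ R) (hρ1 : ρ ≠ 1) (hf : ρ * f * ρ⁻¹ = f) :
    f ∈ Subgroup.centralizer (R : Set G) := by
  haveI : Fact r.Prime := ⟨hr⟩
  rw [Subgroup.mem_centralizer_iff]
  intro x hx
  have hne : (⟨ρ, hρ⟩ : R) ≠ 1 := fun h => hρ1 (congrArg Subtype.val h)
  have h1 : (⟨x, hx⟩ : R) ∈ Subgroup.zpowers (⟨ρ, hρ⟩ : R) := mem_zpowers_of_prime_card hRc hne
  obtain ⟨k, hk⟩ := Subgroup.mem_zpowers_iff.1 h1
  have hk' : ρ ^ k = x := by
    have := congrArg Subtype.val hk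
    simpa using this
  have hc : Commute ρ f := by
    have : ρ * f = f * ρ := by
      calc ρ * f = ρ * f * ρ⁻¹ * ρ := by group
        _ = f * ρ := by rw [hf]
    exact this
  rw [← hk']
  exact (hc.zpow_left k).eq

/-- `|Q : Z(Q)| = q ^ r` for the Frobenius-type action of `P R`. -/
theorem relIndex_zOf_eq_pow (hQ : Cfsg.IsSpecial q ↥Q) (hQne : Q ≠ ⊥)
    (hQexp : ∀ x ∈ Q, x ^ q = 1)
    (hPQ : P ≤ Subgroup.normalizer (Q : Set G)) (hRQ : R ≤ Subgroup.normalizer (Q : Set G))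
    (hirr : ∀ Y : Subgroup G, zOf Q ≤ Y → Y ≤ Q → P ⊔ R ≤ Subgroup.normalizer (Y : Set G) →
      Y = zOf Q ∨ Y = Q)
    (hQP : ⁅Q, P⁆ = Q) (hP : IsPGroup p P)
    (hRP : R ≤ Subgroup.normalizer (P : Set G))
    (hPR : P ⊓ Subgroup.centralizer (R : Set G) = ⊥)
    (hRc : Nat.card R = r) (hr : r.Prime)
    (hcyc : IsCyclic ↥(Q ⊓ Subgroup.centralizer (R : Set G))) (hpq : p ≠ q) (hqr : q ≠ r) :
    (zOf Q).relIndex Q = q ^ r := by
  classical
  set Γ : Subgroup G := P ⊔ R with hΓ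
  have hPΓ : P ≤ Γ := le_sup_left
  have hRΓ : R ≤ Γ := le_sup_right
  have hΓQ : Γ ≤ Subgroup.normalizer (Q : Set G) := sup_le hPQ hRQ
  have hΓP : Γ ≤ Subgroup.normalizer (P : Set G) := sup_le Subgroup.le_normalizer hRP
  set ψ : ↥Γ →* MulAut ↥Q := cAct Q Γ hΓQ with hψ
  set F : Subgroup ↥Γ := P.subgroupOf Γ with hF
  set Hh : Subgroup ↥Γ := R.subgroupOf Γ with hHh
  haveI hFn : F.Normal := (Subgroup.normal_subgroupOf_iff_le_normalizer hPΓ).2 hΓP
  have hFp : IsPGroup p F := hP.comap_subtype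
  have hnil : Group.IsNilpotent F := hFp.isNilpotent
  have hfpf : ∀ h ∈ Hh, h ≠ 1 → ∀ f ∈ F, h * f * h⁻¹ = f → f = 1 := by
    intro h hh hh1 f hf hfix
    have h1 : (h : G) * f * (h : G)⁻¹ = f := by
      have := congrArg Subtype.val hfix
      simpa using this
    have h2 : (f : G) ∈ Subgroup.centralizer (R : Set G) :=
      mem_centralizer_of_prime_card hr hRc (Subgroup.mem_subgroupOf.1 hh)
        (fun h0 => hh1 (Subtype.ext h0)) h1
    have h3 : (f : G) ∈ P ⊓ Subgroup.centralizer (R : Set G) :=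
      Subgroup.mem_inf.2 ⟨Subgroup.mem_subgroupOf.1 hf, h2⟩
    rw [hPR, Subgroup.mem_bot] at h3
    exact Subtype.ext h3
  set Zc : Subgroup ↥Q := Subgroup.center ↥Q with hZc
  have hInv : Inv ψ Zc := inv_of_characteristic Zc ψ
  set φ : ↥Γ →* MulAut (↥Q ⧸ Zc) := quotAct ψ Zc hInv with hφ
  have hMp : IsPGroup q (↥Q ⧸ Zc) := hQ.1.to_quotient Zc
  have hMnil : Group.IsNilpotent (↥Q ⧸ Zc) := hMp.isNilpotent
  -- coprimality
  obtain ⟨a, ha⟩ := IsPGroup.iff_card.mp hP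
  obtain ⟨b, hb⟩ := IsPGroup.iff_card.mp hMp
  obtain ⟨c, hc⟩ := IsPGroup.iff_card.mp (hQ.1.to_subgroup Zc)
  have hqp : Nat.Coprime q p := (Nat.coprime_primes hq.out hp.out).2 (Ne.symm hpq)
  have hqr' : Nat.Coprime q r := (Nat.coprime_primes hq.out hr).2 hqr
  have hcop : (Nat.card ↥Γ).Coprime (Nat.card (↥Q ⧸ Zc)) := by
    have h1 : Nat.card ↥Γ ∣ Nat.card P * Nat.card R := card_sup_dvd_of_le_normalizer hRP
    refine Nat.Coprime.coprime_dvd_left h1 ?_
    rw [ha, hRc, hb]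
    exact Nat.Coprime.pow_right _
      (Nat.Coprime.mul_left (Nat.Coprime.pow_left _ hqp.symm) hqr'.symm)
  have hHhc : Nat.card Hh = r := by rw [hHh, card_subgroupOf_of_le hRΓ, hRc]
  have hcopZ : (Nat.card Zc).Coprime (Nat.card Hh) := by
    rw [hc, hHhc]
    exact Nat.Coprime.pow_left _ hqr'
  have hZab : ∀ a ∈ Zc, ∀ b ∈ Zc, a * b = b * a := fun a _ b hb =>
    Subgroup.mem_center_iff.1 hb a
  -- membership in `fix φ F` for classes
  have hmk : ∀ x : ↥Q, ((x : ↥Q ⧸ Zc)) ∈ fix φ F ↔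
      ∀ g ∈ P, (x : G)⁻¹ * (g * x * g⁻¹) ∈ zOf Q := by
    intro x
    constructor
    · intro hx g hg
      have h1 := hx ⟨g, hPΓ hg⟩ (Subgroup.mem_subgroupOf.2 hg)
      rw [hφ, quotAct_mk, eq_comm, QuotientGroup.eq] at h1
      have h2 : ((x⁻¹ * ψ ⟨g, hPΓ hg⟩ x : ↥Q) : G) ∈ zOf Q := ⟨_, h1, rfl⟩
      simpa [hψ, cAct_apply] using h2
    · intro hx g hg
      have h1 := hx (g : G) (Subgroup.mem_subgroupOf.1 hg)
      rw [hφ, quotAct_mk, eq_comm, QuotientGroup.eq]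
      have h2 : ((x⁻¹ * ψ g x : ↥Q) : G) ∈ zOf Q := by
        simpa [hψ, cAct_apply] using h1
      obtain ⟨y, hy, hyx⟩ := h2
      have : y = x⁻¹ * ψ g x := Subtype.ext hyx
      rw [← this]
      exact hy
  -- no fixed points of `P` on `Q / Z(Q)`
  have hCF : fix φ F = ⊥ := by
    set Y : Subgroup G := ((fix φ F).comap (QuotientGroup.mk' Zc)).map Q.subtype with hY
    have hYmem : ∀ g : G, g ∈ Y ↔ ∃ hg : g ∈ Q, ((⟨g, hg⟩ : ↥Q) : ↥Q ⧸ Zc) ∈ fix φ F := by
      intro g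
      constructor
      · rintro ⟨⟨g, hgQ⟩, hg, rfl⟩
        exact ⟨hgQ, hg⟩
      · rintro ⟨hgQ, hg⟩
        exact ⟨⟨g, hgQ⟩, hg, rfl⟩
    have hZY : zOf Q ≤ Y := by
      intro z hz
      refine (hYmem z).2 ⟨zOf_le Q hz, ?_⟩
      have h1 : (⟨z, zOf_le Q hz⟩ : ↥Q) ∈ Zc := by
        rw [hZc, ← zOf_subgroupOf, Subgroup.mem_subgroupOf]
        exact hz
      rw [(QuotientGroup.eq_one_iff _).2 h1]
      exact Subgroup.one_mem _
    have hYQ : Y ≤ Q := Subgroup.map_subtype_le _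
    have hΓY : Γ ≤ Subgroup.normalizer (Y : Set G) := by
      apply le_normalizer_of_conj_mem
      intro γ hγ g hg
      obtain ⟨hgQ, hgf⟩ := (hYmem g).1 hg
      refine (hYmem _).2 ⟨conj_mem_of_le_normalizer hΓQ γ hγ g hgQ, ?_⟩
      have h1 := fix_normal_inv F φ ⟨γ, hγ⟩ _ hgf
      rw [hφ, quotAct_mk] at h1
      have h2 : ψ ⟨γ, hγ⟩ ⟨g, hgQ⟩ = ⟨γ * g * γ⁻¹, conj_mem_of_le_normalizer hΓQ γ hγ g hgQ⟩ := by
        apply Subtype.ext
        rw [hψ, cAct_apply]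
      rw [h2] at h1
      exact h1
    rcases hirr Y hZY hYQ hΓY with hYZ | hYQ'
    · rw [eq_bot_iff]
      intro m hm
      obtain ⟨x, rfl⟩ := QuotientGroup.mk_surjective m
      have h1 : (x : G) ∈ Y := (hYmem _).2 ⟨x.2, hm⟩
      rw [hYZ] at h1
      have h2 : x ∈ Zc := by
        rw [hZc, ← zOf_subgroupOf, Subgroup.mem_subgroupOf]
        exact h1
      rw [Subgroup.mem_bot]
      exact (QuotientGroup.eq_one_iff _).2 h2
    · exfalso
      apply zOf_ne_self hQ hQne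
      apply le_antisymm (zOf_le Q)
      refine hQP.ge.trans ?_
      rw [Subgroup.commutator_le]
      intro x hx g hg
      have hx' : x⁻¹ ∈ Y := by rw [hYQ']; exact Q.inv_mem hx
      obtain ⟨hxQ, hxf⟩ := (hYmem _).1 hx'
      have h1 := (hmk ⟨x⁻¹, hxQ⟩).1 hxf g hg
      have e : ((⟨x⁻¹, hxQ⟩ : ↥Q) : G)⁻¹ * (g * ((⟨x⁻¹, hxQ⟩ : ↥Q) : G) * g⁻¹) =
          x * g * x⁻¹ * g⁻¹ := by
        simp only []
        group
      rw [commutatorElement_def]
      rwa [e] at h1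
  have hmain := card_eq_pow_fix F Hh hnil hfpf (↥Q ⧸ Zc) φ hMnil hcop hCF
  rw [hHhc] at hmain
  -- the fixed points of `R`
  have hcycψ : IsCyclic (fix ψ Hh) := by
    let e : fix ψ Hh →* ↥(Q ⊓ Subgroup.centralizer (R : Set G)) :=
      (Q.subtype.comp (fix ψ Hh).subtype).codRestrict _ (by
        intro x
        refine Subgroup.mem_inf.2 ⟨(x : ↥Q).2, ?_⟩
        rw [Subgroup.mem_centralizer_iff]
        intro ρ hρ
        have h1 := x.2 ⟨ρ, hRΓ hρ⟩ (Subgroup.mem_subgroupOf.2 hρ)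
        have h2 : ρ * ((x : ↥Q) : G) * ρ⁻¹ = ((x : ↥Q) : G) :=
          (cAct_apply Q Γ hΓQ ⟨ρ, hRΓ hρ⟩ (x : ↥Q)).symm.trans (congrArg Subtype.val h1)
        change ρ * ((x : ↥Q) : G) = ((x : ↥Q) : G) * ρ
        calc ρ * ((x : ↥Q) : G) = ρ * ((x : ↥Q) : G) * ρ⁻¹ * ρ := by group
          _ = ((x : ↥Q) : G) * ρ := by rw [h2])
    have he : Function.Injective e := by
      intro x y hxy
      have h1 := congrArg Subtype.val hxy
      exact Subtype.ext (Subtype.ext h1)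
    exact isCyclic_of_injective e he
  have hcycφ : IsCyclic (fix φ Hh) :=
    isCyclic_of_surjective (fixQuotHom ψ Hh Zc hInv) (fixQuotHom_surjective ψ Hh Zc hInv hZab hcopZ)
  have hdvd : Nat.card (fix φ Hh) ∣ q := by
    have h1 : Monoid.exponent (fix φ Hh) = Nat.card (fix φ Hh) := IsCyclic.exponent_eq_card
    rw [← h1]
    apply Monoid.exponent_dvd_of_forall_pow_eq_one
    intro y
    apply Subtype.ext
    obtain ⟨x, hx⟩ := QuotientGroup.mk_surjective (y : ↥Q ⧸ Zc)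
    rw [Subgroup.coe_pow, ← hx, ← QuotientGroup.mk_pow]
    have : x ^ q = 1 := Subtype.ext (by simpa using hQexp x x.2)
    rw [this]
    rfl
  have hidx : (zOf Q).relIndex Q = Nat.card (↥Q ⧸ Zc) := by
    rw [Subgroup.relIndex, zOf_subgroupOf, Subgroup.index_eq_card]
  rw [hidx, hmain]
  rcases (Nat.dvd_prime hq.out).1 hdvd with h1 | h1
  · exfalso
    rw [h1, one_pow] at hmain
    apply zOf_ne_self hQ hQne
    have h2 : Zc = ⊤ := by
      rw [← Subgroup.index_eq_one, Subgroup.index_eq_card]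
      exact hmain
    have h3 : (zOf Q).subgroupOf Q = ⊤ := by rw [zOf_subgroupOf]; exact h2
    exact le_antisymm (zOf_le Q) (Subgroup.subgroupOf_eq_top.1 h3)
  · rw [h1]

end frob


section main

variable [Finite G] [Group.IsSolvable G] {p q r : ℕ} [hp : Fact p.Prime] [hq : Fact q.Prime]
  {U Q P R : Subgroup G}

theorem le_normalizer_inf_centralizer {A U B : Subgroup G}
    (hU : A ≤ Subgroup.normalizer (U : Set G)) (hB : A ≤ Subgroup.normalizer (B : Set G)) :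
    A ≤ Subgroup.normalizer ((U ⊓ Subgroup.centralizer (B : Set G) : Subgroup G) : Set G) := by
  apply le_normalizer_of_conj_mem
  intro a ha w hw
  have h1 := conj_mem_inf_centralizer (hU ha) hw
  rwa [conj_smul_eq_of_mem_normalizer (hB ha)] at h1

/-- **the special case**: the configuration with `Q` special of exponent `q` is impossible. -/
theorem special_false (hU : Cfsg.IsElementaryAbelian p U)
    (hQU : Q ≤ Subgroup.normalizer (U : Set G)) (hRU : R ≤ Subgroup.normalizer (U : Set G))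
    (hQ : Cfsg.IsSpecial q ↥Q) (hQne : Q ≠ ⊥) (hQexp : ∀ x ∈ Q, x ^ q = 1)
    (hPQ : P ≤ Subgroup.normalizer (Q : Set G)) (hRQ : R ≤ Subgroup.normalizer (Q : Set G))
    (hQUf : Q ⊓ Subgroup.centralizer (U : Set G) = ⊥)
    (hZP : ⁅zOf Q, P⁆ = ⊥)
    (hirr : ∀ Y : Subgroup G, zOf Q ≤ Y → Y ≤ Q → P ⊔ R ≤ Subgroup.normalizer (Y : Set G) →
      Y = zOf Q ∨ Y = Q)
    (hQP : ⁅Q, P⁆ = Q) (hP : IsPGroup p P)
    (hRP : R ≤ Subgroup.normalizer (P : Set G))
    (hPR : P ⊓ Subgroup.centralizer (R : Set G) = ⊥)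
    (hRc : Nat.card R = r) (hr : r.Prime) (hrodd : Odd r)
    (hfix : Nat.card ↥(U ⊓ Subgroup.centralizer (R : Set G)) = p)
    (hcyc : IsCyclic ↥(Q ⊓ Subgroup.centralizer (R : Set G))) (hpq : p ≠ q) (hqr : q ≠ r) :
    False := by
  set Z : Subgroup G := zOf Q with hZdef
  have hZQ : Z ≤ Q := zOf_le Q
  have hZne : Z ≠ ⊥ := zOf_ne_bot hQ hQne
  haveI hZcomm : IsMulCommutative ↥Z := ⟨⟨fun a b => Subtype.ext (zOf_comm Q a a.2 b b.2)⟩⟩
  have hZel : Cfsg.IsElementaryAbelian q Z := ⟨hZcomm, fun a ha => hQexp a (hZQ ha)⟩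
  haveI hUcomm : IsMulCommutative ↥U := hU.1
  have hZU : Z ≤ Subgroup.normalizer (U : Set G) := hZQ.trans hQU
  have hQZn : Q ≤ Subgroup.normalizer (Z : Set G) :=
    Subgroup.le_normalizer.trans (normalizer_le_normalizer_zOf Q)
  have hRZn : R ≤ Subgroup.normalizer (Z : Set G) := hRQ.trans (normalizer_le_normalizer_zOf Q)
  have hPZc : P ≤ Subgroup.centralizer (Z : Set G) := by
    rw [Subgroup.le_centralizer_iff]
    exact Subgroup.commutator_eq_bot_iff_le_centralizer.1 hZP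
  have hQZc : Q ≤ Subgroup.centralizer (Z : Set G) := le_centralizer_zOf Q
  -- cardinalities
  obtain ⟨a, ha⟩ := IsPGroup.iff_card.mp (isPGroup_of_elementary hU)
  obtain ⟨b, hb⟩ := IsPGroup.iff_card.mp (isPGroup_of_elementary hZel)
  have hqp : Nat.Coprime q p := (Nat.coprime_primes hq.out hp.out).2 (Ne.symm hpq)
  have hcopZU : (Nat.card Z).Coprime (Nat.card U) := by
    rw [ha, hb]; exact Nat.Coprime.pow _ _ hqp
  -- the commutator module
  set U₂ : Subgroup G := ⁅U, Z⁆ with hU₂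
  have hU₂U : U₂ ≤ U := Subgroup.le_normalizer_iff_commutator_le_left.1 hZU
  haveI hU₂comm : IsMulCommutative ↥U₂ :=
    ⟨⟨fun a b => Subtype.ext (by
      have := hUcomm.is_comm.comm ⟨(a : G), hU₂U a.2⟩ ⟨(b : G), hU₂U b.2⟩
      change (a : G) * (b : G) = (b : G) * (a : G)
      exact congrArg Subtype.val this)⟩⟩
  have hU₂fix : U₂ ⊓ Subgroup.centralizer (Z : Set G) = ⊥ := by
    rw [eq_bot_iff, ← centralizer_inf_commutator_eq_bot Z U hZU hcopZU]
    intro x hx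
    obtain ⟨h1, h2⟩ := Subgroup.mem_inf.1 hx
    exact Subgroup.mem_inf.2 ⟨Subgroup.mem_inf.2 ⟨hU₂U h1, h2⟩, h1⟩
  have hU₂ne : U₂ ≠ ⊥ := by
    intro h
    apply hZne
    rw [eq_bot_iff, ← hQUf]
    have h1 : U ≤ Subgroup.centralizer (Z : Set G) :=
      Subgroup.commutator_eq_bot_iff_le_centralizer.1 h
    exact le_inf hZQ (Subgroup.le_centralizer_iff.1 h1)
  have hnorm : ∀ A : Subgroup G, A ≤ Subgroup.normalizer (U : Set G) →
      A ≤ Subgroup.normalizer (Z : Set G) → A ≤ Subgroup.normalizer (U₂ : Set G) :=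
    fun A h1 h2 => le_normalizer_commutator h1 h2
  have hZU₂ : Z ≤ Subgroup.normalizer (U₂ : Set G) := hnorm Z hZU Subgroup.le_normalizer
  have hQU₂ : Q ≤ Subgroup.normalizer (U₂ : Set G) := hnorm Q hQU hQZn
  have hRU₂ : R ≤ Subgroup.normalizer (U₂ : Set G) := hnorm R hRU hRZn
  have hqU₂ : ¬ q ∣ Nat.card U₂ := by
    intro hdvd
    have h1 : q ∣ Nat.card U := hdvd.trans (Subgroup.card_dvd_of_le hU₂U)
    rw [ha] at h1
    exact hpq ((Nat.prime_dvd_prime_iff_eq hq.out hp.out).1 (hq.out.dvd_of_dvd_pow h1)).symm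
  -- a hyperplane with nontrivial centralizer
  obtain ⟨Z₀, hZ₀Z, hZ₀idx, hW⟩ := exists_hyperplane_of_ne_bot Z U₂ hZel hqU₂ hZU₂ hU₂fix hU₂ne
  have hQZ₀c : Q ≤ Subgroup.centralizer (Z₀ : Set G) :=
    hQZc.trans (Subgroup.centralizer_le hZ₀Z)
  have hQZ₀ : Q ≤ Subgroup.normalizer (Z₀ : Set G) :=
    hQZ₀c.trans (Subgroup.centralizer_le_normalizer _)
  have hPZ₀ : P ≤ Subgroup.normalizer (Z₀ : Set G) :=
    (hPZc.trans (Subgroup.centralizer_le hZ₀Z)).trans (Subgroup.centralizer_le_normalizer _)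
  -- `R` normalizes the hyperplane
  have hRZ₀ : R ≤ Subgroup.normalizer (Z₀ : Set G) := by
    by_contra hcon
    have hmove := conj_smul_ne_of_prime_card hr hRc hcon
    have hcopZU₂ : (Nat.card Z).Coprime (Nat.card U₂) :=
      hcopZU.coprime_dvd_right (Subgroup.card_dvd_of_le hU₂U)
    have h1 := card_mul_card_le_of_sup_eq U₂ Z R Z₀ Z hZU₂ hRU₂ hRZn (zOf_comm Q) hcopZU₂
      hU₂fix hZ₀Z le_rfl
      (fun ρ hρ hρ1 => sup_eq_of_relIndex_prime hq.out hZ₀Z
        (conj_smul_le_of_le (hRZn hρ) hZ₀Z) hZ₀idx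
        ((relIndex_conj_smul (hRZn hρ)).trans hZ₀idx) (hmove ρ hρ hρ1).symm)
      (fun ρ hρ => by
        rw [conj_smul_eq_of_mem_normalizer (hRZn hρ)]
        exact sup_eq_right.2 hZ₀Z)
      (fun ρ hρ _ => by
        rw [conj_smul_eq_of_mem_normalizer (hRZn hρ)]
        exact sup_idem Z)
    rw [hU₂fix, Subgroup.card_bot, mul_one] at h1
    set W : Subgroup G := U₂ ⊓ Subgroup.centralizer (Z₀ : Set G) with hWdef
    have h2 : Nat.card ↥(U₂ ⊓ Subgroup.centralizer (R : Set G)) ≤ p := by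
      rw [← hfix]
      exact Subgroup.card_le_of_le (inf_le_inf_right _ hU₂U)
    have hWp : IsPGroup p W :=
      (isPGroup_of_elementary hU).to_le (inf_le_left.trans hU₂U)
    obtain ⟨c, hc⟩ := IsPGroup.iff_card.mp hWp
    have hWcard : Nat.card W = p := by
      have hle : Nat.card W ≤ p := h1.trans h2
      have hc0 : c ≠ 0 := by
        rintro rfl
        rw [pow_zero] at hc
        exact hW (Subgroup.card_eq_one.1 hc)
      have hc1 : c ≤ 1 := by
        by_contra hcon2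
        push Not at hcon2
        have h3 : p ^ 2 ≤ p ^ c := Nat.pow_le_pow_right hp.out.pos hcon2
        rw [← hc] at h3
        have h4 : p < p ^ 2 := by nlinarith [hp.out.two_le]
        omega
      have : c = 1 := by omega
      rw [hc, this, pow_one]
    have hWcyc : IsCyclic ↥W := isCyclic_of_prime_card hWcard
    have hQW : Q ≤ Subgroup.normalizer (W : Set G) := le_normalizer_inf_centralizer hQU₂ hQZ₀
    have h3 := commutator_le_centralizer_of_isCyclic W Q hWcyc hQW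
    rw [commutator_eq_zOf hQ] at h3
    apply hW
    rw [eq_bot_iff, ← hU₂fix]
    exact le_inf inf_le_left (Subgroup.le_centralizer_iff.1 h3)
  -- the two counts
  have hΓQ : P ⊔ R ≤ Subgroup.normalizer (Q : Set G) := sup_le hPQ hRQ
  have hΓZ₀ : P ⊔ R ≤ Subgroup.normalizer (Z₀ : Set G) := sup_le hPZ₀ hRZ₀
  obtain ⟨m, hm⟩ := exists_relIndex_zOf_eq_pow hQ hZ₀Z hZ₀idx hΓQ hΓZ₀ hirr
  have h2 := relIndex_zOf_eq_pow hQ hQne hQexp hPQ hRQ hirr hQP hP hRP hPR hRc hr hcyc hpq hqr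
  rw [hm] at h2
  have h3 : 2 * m = r := Nat.pow_right_injective hq.out.two_le h2
  rw [← h3] at hrodd
  exact (Nat.not_odd_iff_even.2 (even_two_mul m)) hrodd

end main

end Cfsg.Agent.Helper2.T36
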