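import Mathlib
import Cfsg.Prelude
import Cfsg.Agent.Helper2.T36e
import Cfsg.Agent.Helper4.EqOrdConjA
import Cfsg.Agent.S3736

/-!
# BG Theorem 3.6: the minimal configuration is impossible
-/

namespace Cfsg.Agent.Helper2.T36

open Cfsg.Agent.Helper1 Cfsg.Agent.Helper2

open scoped Pointwise

variable {G : Type*} [Group G]

/-- `ℓ`-subgroups of a Z-group are cyclic. -/
theorem isCyclic_of_isZGroup [Finite G] {K X : Subgroup G} (hK : IsZGroup ↥K) (hXK : X ≤ K)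
    {ℓ : ℕ} [hℓ : Fact ℓ.Prime] (hX : IsPGroup ℓ X) : IsCyclic ↥X := by
  have hX' : IsPGroup ℓ (X.subgroupOf K) := hX.comap_subtype
  obtain ⟨S, hS⟩ := hX'.exists_le_sylow
  haveI : IsCyclic ↥(S : Subgroup ↥K) := hK.isZGroup ℓ hℓ.out S
  haveI : IsCyclic ↥(X.subgroupOf K) := Subgroup.isCyclic_of_le hS
  exact (Subgroup.subgroupOfEquivOfLe hXK).isCyclic.1 inferInstance

/-- two nontrivial `ℓ`-subgroups of a cyclic group meet nontrivially. -/
theorem inf_ne_bot_of_isCyclic [Finite G] {ℓ : ℕ} [hℓ : Fact ℓ.Prime] {X A B : Subgroup G}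
    (hX : IsCyclic ↥X) (hA : A ≤ X) (hB : B ≤ X) (hAp : IsPGroup ℓ A) (hBp : IsPGroup ℓ B)
    (hA1 : A ≠ ⊥) (hB1 : B ≠ ⊥) : A ⊓ B ≠ ⊥ := by
  have key : ∀ D : Subgroup G, IsPGroup ℓ D → D ≠ ⊥ → ∃ D₁ ≤ D, Nat.card D₁ = ℓ := by
    intro D hD hD1
    obtain ⟨k, hk⟩ := IsPGroup.iff_card.mp hD
    have hk0 : k ≠ 0 := by
      rintro rfl
      rw [pow_zero] at hk
      exact hD1 (Subgroup.card_eq_one.1 hk)
    have hdvd : ℓ ∣ Nat.card D := by rw [hk]; exact dvd_pow_self ℓ hk0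
    obtain ⟨x, hx⟩ := exists_prime_orderOf_dvd_card' ℓ hdvd
    refine ⟨Subgroup.zpowers (x : G), Subgroup.zpowers_le.2 x.2, ?_⟩
    rw [Nat.card_zpowers, Subgroup.orderOf_coe, hx]
  obtain ⟨A₁, hA₁, hA₁c⟩ := key A hAp hA1
  obtain ⟨B₁, hB₁, hB₁c⟩ := key B hBp hB1
  have h := Cfsg.Agent.Helper4.EqOrdConj.eq_of_card_eq_of_le_cyclic hX (hA₁.trans hA)
    (hB₁.trans hB) (hA₁c.trans hB₁c.symm)
  intro hbot
  have h1 : A₁ ≤ A ⊓ B := le_inf hA₁ (h ▸ hB₁)
  rw [hbot, le_bot_iff] at h1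
  rw [h1, Subgroup.card_bot] at hA₁c
  exact hℓ.out.one_lt.ne hA₁c

section cfg

variable [Finite G] [Group.IsSolvable G] {p q : ℕ} [hp : Fact p.Prime] [hq : Fact q.Prime]
  {V Q P R R₀ H : Subgroup G}

theorem Cfg.Q_ne_bot (h : Cfg p q V Q P R R₀ H) : Q ≠ ⊥ := by
  intro hQ
  apply h.hnt
  rw [hQ, Subgroup.commutator_bot_left]

theorem Cfg.V_ne_bot (h : Cfg p q V Q P R R₀ H) : V ≠ ⊥ := by
  intro hV
  apply h.Q_ne_bot
  rw [eq_bot_iff, ← h.hQV]
  refine le_inf le_rfl ?_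
  intro x _
  rw [Subgroup.mem_centralizer_iff]
  intro v hv
  rw [SetLike.mem_coe, hV, Subgroup.mem_bot] at hv
  rw [hv, one_mul, mul_one]

theorem Cfg.Vp (h : Cfg p q V Q P R R₀ H) : IsPGroup p V := isPGroup_of_elementary h.hV

theorem Cfg.copR₀ (h : Cfg p q V Q P R R₀ H) : (Nat.card H).Coprime (Nat.card R₀) :=
  h.hcop.coprime_dvd_right (Subgroup.card_dvd_of_le h.hR₀)

theorem Cfg.ne_of_le (h : Cfg p q V Q P R R₀ H) {ℓ : ℕ} [hℓ : Fact ℓ.Prime] {X : Subgroup G}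
    (hX : IsPGroup ℓ X) (hXH : X ≤ H) (hX1 : X ≠ ⊥) : ℓ ≠ Nat.card R₀ := by
  intro heq
  obtain ⟨k, hk⟩ := IsPGroup.iff_card.mp hX
  have hk0 : k ≠ 0 := by
    rintro rfl
    rw [pow_zero] at hk
    exact hX1 (Subgroup.card_eq_one.1 hk)
  have hdvd : ℓ ∣ Nat.card H :=
    (by rw [hk]; exact dvd_pow_self ℓ hk0 : ℓ ∣ Nat.card X).trans (Subgroup.card_dvd_of_le hXH)
  have h1 : Nat.Coprime ℓ (Nat.card R₀) := h.copR₀.coprime_dvd_left hdvd
  rw [← heq, Nat.coprime_self] at h1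
  exact hℓ.out.one_lt.ne' h1

theorem Cfg.p_ne (h : Cfg p q V Q P R R₀ H) : p ≠ Nat.card R₀ :=
  h.ne_of_le h.Vp h.hVH h.V_ne_bot

theorem Cfg.q_ne (h : Cfg p q V Q P R R₀ H) : q ≠ Nat.card R₀ :=
  h.ne_of_le h.hQ h.hQH h.Q_ne_bot

theorem Cfg.not_le_centralizer (h : Cfg p q V Q P R R₀ H) :
    ¬ P ≤ Subgroup.centralizer (Q : Set G) := by
  intro hPQ
  apply h.hnt
  rw [Subgroup.commutator_eq_bot_iff_le_centralizer, Subgroup.le_centralizer_iff]
  exact hPQ

/-- if `Q` is cyclic we are done. -/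
theorem Cfg.not_isCyclic (h : Cfg p q V Q P R R₀ H) : ¬ IsCyclic ↥Q := by
  intro hcyc
  apply h.not_le_centralizer
  have h1 := commutator_le_centralizer_of_isCyclic Q (P ⊔ R) hcyc (sup_le h.hPQ h.hRQ)
  have h2 : ⁅P, R⁆ ≤ Subgroup.centralizer (Q : Set G) :=
    (Subgroup.commutator_mono le_sup_left le_sup_right).trans h1
  exact h.hPdec.trans (sup_le h2 inf_le_right)

/-- `R₀` has fixed points on `V`. -/
theorem Cfg.fixV_ne_bot (h : Cfg p q V Q P R R₀ H) (hodd : Odd (Nat.card G)) :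
    V ⊓ Subgroup.centralizer (R₀ : Set G) ≠ ⊥ := by
  intro hbot
  haveI := h.hVn
  have hR₀Q : R₀ ≤ Subgroup.normalizer (Q : Set G) := h.hR₀.trans h.hRQ
  have h1 := Cfsg.Agent.Helper1.BGPrimeAct.commutator_le_centralizer hodd hp.out hq.out h.hR₀p
    h.hpq h.p_ne h.q_ne V Q R₀ h.Vp h.hQ rfl hR₀Q hbot
  have h2 : ⁅R₀, Q⁆ ≤ Q := Subgroup.le_normalizer_iff_commutator_le_right.1 hR₀Q
  have h3 : ⁅R₀, Q⁆ = ⊥ := by
    rw [eq_bot_iff, ← h.hQV]
    exact le_inf h2 h1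
  have h4 : Q ≤ Subgroup.centralizer (R₀ : Set G) :=
    Subgroup.le_centralizer_iff.1 (Subgroup.commutator_eq_bot_iff_le_centralizer.1 h3)
  exact h.not_isCyclic (isCyclic_of_isZGroup h.hZ (le_inf h.hQH h4) h.hQ)

/-- `R₀` has no fixed points on `P`. -/
theorem Cfg.fixP_eq_bot (h : Cfg p q V Q P R R₀ H) (hodd : Odd (Nat.card G)) :
    P ⊓ Subgroup.centralizer (R₀ : Set G) = ⊥ := by
  by_contra hne
  haveI := h.hVn
  set X₁ : Subgroup G := P ⊓ Subgroup.centralizer (R₀ : Set G) with hX₁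
  set V₁ : Subgroup G := V ⊓ Subgroup.centralizer (R₀ : Set G) with hV₁
  have hV₁ne : V₁ ≠ ⊥ := h.fixV_ne_bot hodd
  have hX₁V : X₁ ≤ Subgroup.normalizer (V : Set G) := by
    rw [Subgroup.normalizer_eq_top]; exact le_top
  have hX₁C : X₁ ≤ Subgroup.normalizer
      ((Subgroup.centralizer (R₀ : Set G) : Subgroup G) : Set G) :=
    inf_le_right.trans Subgroup.le_normalizer
  have hX₁V₁ : X₁ ≤ Subgroup.normalizer (V₁ : Set G) := le_normalizer_inf hX₁V hX₁C
  have hX₁p : IsPGroup p X₁ := h.hP.to_le inf_le_left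
  have hV₁p : IsPGroup p V₁ := h.Vp.to_le inf_le_left
  have hXp : IsPGroup p (X₁ ⊔ V₁ : Subgroup G) := hX₁p.to_sup_of_normal_right' hV₁p hX₁V₁
  have hXK : X₁ ⊔ V₁ ≤ H ⊓ Subgroup.centralizer (R₀ : Set G) :=
    sup_le (inf_le_inf_right _ h.hPH) (inf_le_inf_right _ h.hVH)
  have hXc : IsCyclic ↥(X₁ ⊔ V₁ : Subgroup G) := isCyclic_of_isZGroup h.hZ hXK hXp
  have h1 := inf_ne_bot_of_isCyclic hXc le_sup_left le_sup_right hX₁p hV₁p hne hV₁ne
  apply h1
  rw [eq_bot_iff, ← h.hPV]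
  exact inf_le_inf inf_le_left inf_le_left

/-- **the minimal configuration of BG Theorem 3.6 does not exist.** -/
theorem Cfg.false (h : Cfg p q V Q P R R₀ H) (hodd : Odd (Nat.card G)) : False := by
  haveI := h.hVn
  have hfixP := h.fixP_eq_bot hodd
  have hR₀P : R₀ ≤ Subgroup.normalizer (P : Set G) := h.hR₀.trans h.hRP
  have hcopRP : (Nat.card R₀).Coprime (Nat.card P) :=
    (h.copR₀.coprime_dvd_left (Subgroup.card_dvd_of_le h.hPH)).symm
  have hdec := coprime_commutator_sup_centralizer R₀ P hR₀P hcopRP (Or.inr inferInstance)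
  rw [hfixP, sup_bot_eq] at hdec
  rcases h.hR₀c with hR | hC
  · subst hR
    set r : ℕ := Nat.card R₀ with hrdef
    have hr : r.Prime := h.hR₀p
    have hQne := h.Q_ne_bot
    have hnV : ∀ A : Subgroup G, A ≤ Subgroup.normalizer (V : Set G) := by
      intro A
      rw [Subgroup.normalizer_eq_top]; exact le_top
    -- oddness
    have hrodd : Odd r := Odd.of_dvd_nat hodd (Subgroup.card_subgroup_dvd_card R₀)
    have hq2 : q ≠ 2 := by
      rintro rfl
      obtain ⟨k, hk⟩ := IsPGroup.iff_card.mp h.hQ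
      have hk0 : k ≠ 0 := by
        rintro rfl
        rw [pow_zero] at hk
        exact hQne (Subgroup.card_eq_one.1 hk)
      have h2 : 2 ∣ Nat.card G :=
        (by rw [hk]; exact dvd_pow_self 2 hk0 : 2 ∣ Nat.card Q).trans
          (Subgroup.card_subgroup_dvd_card Q)
      exact (Nat.not_even_iff_odd.2 hodd) (even_iff_two_dvd.2 h2)
    -- the structure of `Q`
    obtain ⟨a, ha⟩ := IsPGroup.iff_card.mp h.hP
    have hAp : (Nat.card P).Coprime q := by
      rw [ha]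
      exact Nat.Coprime.pow_left _ ((Nat.coprime_primes hp.out hq.out).2 h.hpq)
    obtain ⟨hQP, hQs, hirr, hexp⟩ := Cfsg.Agent.S3736.result (P ⊔ R₀) P Q h.hQ
      (sup_le h.hPQ h.hRQ) le_sup_left (sup_le Subgroup.le_normalizer h.hRP) hAp h.hnt
      (fun U hU hn => h.hmin U hU (le_sup_left.trans hn) (le_sup_right.trans hn))
    have hexp' := hexp hq2
    -- the fixed points on `V`
    have hV₁ne := h.fixV_ne_bot hodd
    have hV₁p : IsPGroup p ↥(V ⊓ Subgroup.centralizer (R₀ : Set G)) := h.Vp.to_le inf_le_left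
    have hV₁ : Nat.card ↥(V ⊓ Subgroup.centralizer (R₀ : Set G)) = p := by
      haveI hc : IsCyclic ↥(V ⊓ Subgroup.centralizer (R₀ : Set G)) :=
        isCyclic_of_isZGroup h.hZ (inf_le_inf_right _ h.hVH) hV₁p
      have h1 : Monoid.exponent ↥(V ⊓ Subgroup.centralizer (R₀ : Set G)) =
          Nat.card ↥(V ⊓ Subgroup.centralizer (R₀ : Set G)) := IsCyclic.exponent_eq_card
      have h2 : Monoid.exponent ↥(V ⊓ Subgroup.centralizer (R₀ : Set G)) ∣ p := by
        apply Monoid.exponent_dvd_of_forall_pow_eq_one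
        intro x
        apply Subtype.ext
        rw [Subgroup.coe_pow]
        exact h.hV.2 x x.2.1
      rw [h1] at h2
      rcases (Nat.dvd_prime hp.out).1 h2 with h3 | h3
      · exact absurd (Subgroup.card_eq_one.1 h3) hV₁ne
      · exact h3
    rcases hQs with hQel | hQsp
    · have hab : AbCfg p q r V Q P R₀ :=
        { hU := h.hV
          hQU := hnV Q
          hPU := hnV P
          hRU := hnV R₀
          hQ := hQel
          hPQ := h.hPQ
          hRQ := h.hRQ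
          hUQ := h.hVQ
          hQUf := h.hQV
          hP := h.hP
          hRP := h.hRP
          hPR := hfixP
          hPc := hdec
          hRc := rfl
          hfix := hV₁
          hpq := h.hpq
          hpr := h.p_ne }
      exact h.hnt (hab.le_centralizer hr hodd)
    · have hΦ : (frattini ↥Q).map Q.subtype = zOf Q := by rw [zOf, hQsp.2.1]
      rw [hΦ] at hirr
      have hZlt : zOf Q < Q := lt_of_le_of_ne (zOf_le Q) (zOf_ne_self hQsp hQne)
      have hZP : ⁅zOf Q, P⁆ = ⊥ := h.hmin (zOf Q) hZlt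
        (h.hPQ.trans (normalizer_le_normalizer_zOf Q))
        (h.hRQ.trans (normalizer_le_normalizer_zOf Q))
      have hcyc : IsCyclic ↥(Q ⊓ Subgroup.centralizer (R₀ : Set G)) :=
        isCyclic_of_isZGroup h.hZ (inf_le_inf_right _ h.hQH) (h.hQ.to_le inf_le_left)
      exact special_false h.hV (hnV Q) (hnV R₀) hQsp hQne hexp' h.hPQ h.hRQ h.hQV hZP hirr hQP
        h.hP h.hRP hfixP rfl hr hrodd hV₁ hcyc h.hpq h.q_ne
  · apply h.not_le_centralizer
    rw [← hdec]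
    exact hC

end cfg

end Cfsg.Agent.Helper2.T36
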