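import Mathlib
import Cfsg.Prelude
import Cfsg.Agent.Helper2.T36f
import Cfsg.Agent.Helper3.PLen
import Cfsg.Agent.Helper1.PLength1

/-!
# BG Theorem 3.6: the induction plumbing

`Thm36For X` is the statement of the theorem for the group `X`; `ih_sub` and `ih_quot` package the
induction hypothesis for subgroups and quotients of a minimal counterexample.
-/

namespace Cfsg.Agent.Helper2.T36

open Cfsg.Agent.Helper1 Cfsg.Agent.Helper2 Cfsg.Agent.Helper3

universe u

/-- the statement of BG Theorem 3.6 for the group `X`. -/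
def Thm36For (X : Type u) [Group X] : Prop :=
  Finite X → Group.IsSolvable X → Odd (Nat.card X) →
    ∀ (H R R₀ : Subgroup X), H.Normal → (Nat.card H).Coprime H.index →
      Subgroup.IsComplement' H R → R₀ ≤ R → (Nat.card R₀).Prime →
      IsZGroup ↥(H ⊓ Subgroup.centralizer (R₀ : Set X)) →
      ∀ p : ℕ, p.Prime → Cfsg.PLengthLE p 1 ↥⁅H, R⁆

variable {G : Type u} [Group G] [Finite G] [Group.IsSolvable G]

/-- the induction hypothesis for a proper subgroup `H₁ R₁`. -/
theorem ih_sub (hodd : Odd (Nat.card G))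
    (IH : ∀ (X : Type u) [Group X] [Finite X], Nat.card X < Nat.card G → Thm36For X)
    {p : ℕ} (hp : p.Prime) (H₁ R₁ R₀₁ : Subgroup G) (hne : H₁ ⊔ R₁ ≠ ⊤)
    (hRH : R₁ ≤ Subgroup.normalizer (H₁ : Set G)) (hcop : (Nat.card H₁).Coprime (Nat.card R₁))
    (hR₀ : R₀₁ ≤ R₁) (hR₀p : (Nat.card R₀₁).Prime)
    (hZ : IsZGroup ↥(H₁ ⊓ Subgroup.centralizer (R₀₁ : Set G))) :
    Cfsg.PLengthLE p 1 ↥⁅H₁, R₁⁆ := by
  set K : Subgroup G := H₁ ⊔ R₁ with hK
  have hH₁K : H₁ ≤ K := le_sup_left
  have hR₁K : R₁ ≤ K := le_sup_right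
  have hlt : Nat.card ↥K < Nat.card G := by
    have h1 : Nat.card ↥K ∣ Nat.card G := Subgroup.card_subgroup_dvd_card K
    have h2 : Nat.card ↥K ≠ Nat.card G := fun h => hne ((Subgroup.card_eq_iff_eq_top K).1 h)
    exact lt_of_le_of_ne (Nat.le_of_dvd Nat.card_pos h1) h2
  have hKodd : Odd (Nat.card ↥K) := Odd.of_dvd_nat hodd (Subgroup.card_subgroup_dvd_card K)
  set H' : Subgroup ↥K := H₁.subgroupOf K with hH'
  set R' : Subgroup ↥K := R₁.subgroupOf K with hR'
  set R₀' : Subgroup ↥K := R₀₁.subgroupOf K with hR₀'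
  have hH'n : H'.Normal :=
    (Subgroup.normal_subgroupOf_iff_le_normalizer hH₁K).2 (sup_le Subgroup.le_normalizer hRH)
  have hcH' : Nat.card H' = Nat.card H₁ := card_subgroupOf_of_le hH₁K
  have hcR' : Nat.card R' = Nat.card R₁ := card_subgroupOf_of_le hR₁K
  have hdisj : R₁ ⊓ H₁ = ⊥ := inf_eq_bot_of_coprime_card hcop.symm
  have hcK : Nat.card ↥K = Nat.card R₁ * Nat.card H₁ := card_sup_of_le_normalizer hRH hdisj
  have hidx : H'.index = Nat.card R₁ := by
    have h1 : H₁.relIndex K * Nat.card H₁ = Nat.card ↥K := relIndex_mul_card_of_le hH₁K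
    rw [hcK] at h1
    exact Nat.eq_of_mul_eq_mul_right Nat.card_pos h1
  have hHall : (Nat.card H').Coprime H'.index := by rw [hcH', hidx]; exact hcop
  have hcompl : Subgroup.IsComplement' H' R' :=
    Subgroup.isComplement'_of_coprime (by rw [hcH', hcR', hcK, mul_comm])
      (by rw [hcH', hcR']; exact hcop)
  have hR₀'le : R₀' ≤ R' := fun x hx =>
    Subgroup.mem_subgroupOf.2 (hR₀ (Subgroup.mem_subgroupOf.1 hx))
  have hR₀'p : (Nat.card R₀').Prime := by
    rw [hR₀', card_subgroupOf_of_le (hR₀.trans hR₁K)]; exact hR₀p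
  have hZ' : IsZGroup ↥(H' ⊓ Subgroup.centralizer (R₀' : Set ↥K)) := by
    let g : ↥(H' ⊓ Subgroup.centralizer (R₀' : Set ↥K)) →*
        ↥(H₁ ⊓ Subgroup.centralizer (R₀₁ : Set G)) :=
      (K.subtype.comp (Subgroup.subtype _)).codRestrict _ (by
        intro x
        obtain ⟨h1, h2⟩ := Subgroup.mem_inf.1 x.2
        refine Subgroup.mem_inf.2 ⟨Subgroup.mem_subgroupOf.1 h1, ?_⟩
        rw [Subgroup.mem_centralizer_iff]
        intro y hy
        have hyK : y ∈ K := hR₁K (hR₀ hy)
        have := Subgroup.mem_centralizer_iff.1 h2 ⟨y, hyK⟩ (Subgroup.mem_subgroupOf.2 hy)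
        exact congrArg Subtype.val this)
    have hg : Function.Injective g := by
      intro x y hxy
      have := congrArg Subtype.val hxy
      exact Subtype.ext (Subtype.ext this)
    haveI := hZ
    exact IsZGroup.of_injective hg
  have hmain := IH ↥K hlt inferInstance inferInstance hKodd H' R' R₀' hH'n hHall hcompl hR₀'le
    hR₀'p hZ' p hp
  have hmap : (⁅H', R'⁆).map K.subtype = ⁅H₁, R₁⁆ := by
    rw [Subgroup.map_commutator, hH', hR', Subgroup.subgroupOf_map_subtype,
      Subgroup.subgroupOf_map_subtype, inf_of_le_left hH₁K, inf_of_le_left hR₁K]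
  have e : ↥⁅H', R'⁆ ≃* ↥⁅H₁, R₁⁆ :=
    (Subgroup.equivMapOfInjective _ K.subtype K.subtype_injective).trans
      (MulEquiv.subgroupCongr hmap)
  haveI : Fact p.Prime := ⟨hp⟩
  exact PLen.pLengthLE_of_mulEquiv p e hmain

/-- the induction hypothesis for a quotient by a nontrivial normal subgroup inside `H`. -/
theorem ih_quot (hodd : Odd (Nat.card G))
    (IH : ∀ (X : Type u) [Group X] [Finite X], Nat.card X < Nat.card G → Thm36For X)
    {p : ℕ} (hp : p.Prime) (H R R₀ : Subgroup G) [hHn : H.Normal]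
    (hHall : (Nat.card H).Coprime H.index) (hcompl : Subgroup.IsComplement' H R)
    (hR₀ : R₀ ≤ R) (hR₀p : (Nat.card R₀).Prime)
    (hZ : IsZGroup ↥(H ⊓ Subgroup.centralizer (R₀ : Set G)))
    (N : Subgroup G) [hNn : N.Normal] (hN1 : N ≠ ⊥) (hNH : N ≤ H) :
    Cfsg.PLengthLE p 1 ↥((⁅H, R⁆).map (QuotientGroup.mk' N)) := by
  set f : G →* G ⧸ N := QuotientGroup.mk' N with hf
  have hfs : Function.Surjective f := QuotientGroup.mk'_surjective N
  have hlt : Nat.card (G ⧸ N) < Nat.card G := by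
    have h1 : Nat.card G = Nat.card (G ⧸ N) * Nat.card N :=
      Subgroup.card_eq_card_quotient_mul_card_subgroup N
    have h2 : 1 < Nat.card N := (Subgroup.one_lt_card_iff_ne_bot N).2 hN1
    have h3 : 0 < Nat.card (G ⧸ N) := Nat.card_pos
    nlinarith
  have hXodd : Odd (Nat.card (G ⧸ N)) := Odd.of_dvd_nat hodd (Subgroup.card_quotient_dvd_card N)
  have hcardR : Nat.card R = H.index := by
    have h1 := hcompl.card_mul_card
    have h2 := Subgroup.card_mul_index H
    rw [← h2] at h1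
    exact Nat.eq_of_mul_eq_mul_left Nat.card_pos h1
  have hcopHR : (Nat.card H).Coprime (Nat.card R) := by rw [hcardR]; exact hHall
  set Hb : Subgroup (G ⧸ N) := H.map f with hHb
  set Rb : Subgroup (G ⧸ N) := R.map f with hRb
  set R₀b : Subgroup (G ⧸ N) := R₀.map f with hR₀b
  have hHbn : Hb.Normal := hHn.map f hfs
  have hcHb : Nat.card Hb ∣ Nat.card H := Subgroup.card_map_dvd H f
  have hcRb : Nat.card Rb ∣ Nat.card R := Subgroup.card_map_dvd R f
  have hiHb : Hb.index ∣ H.index := Subgroup.index_map_dvd H hfs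
  have hHall' : (Nat.card Hb).Coprime Hb.index :=
    Nat.Coprime.coprime_dvd_left hcHb (Nat.Coprime.coprime_dvd_right hiHb hHall)
  have hcopb : (Nat.card Hb).Coprime (Nat.card Rb) :=
    Nat.Coprime.coprime_dvd_left hcHb (Nat.Coprime.coprime_dvd_right hcRb hcopHR)
  have hdisj : Rb ⊓ Hb = ⊥ := inf_eq_bot_of_coprime_card hcopb.symm
  have hsup : Hb ⊔ Rb = ⊤ := by
    rw [hHb, hRb, ← Subgroup.map_sup, hcompl.sup_eq_top, ← MonoidHom.range_eq_map,
      MonoidHom.range_eq_top.2 hfs]
  have hRbn : Rb ≤ Subgroup.normalizer (Hb : Set (G ⧸ N)) := by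
    rw [Subgroup.normalizer_eq_top]; exact le_top
  have hcX : Nat.card (Hb ⊔ Rb : Subgroup (G ⧸ N)) = Nat.card Rb * Nat.card Hb :=
    card_sup_of_le_normalizer hRbn hdisj
  have hcompl' : Subgroup.IsComplement' Hb Rb := by
    apply Subgroup.isComplement'_of_coprime _ hcopb
    rw [mul_comm, ← hcX, hsup, Subgroup.card_top]
  have hR₀b_le : R₀b ≤ Rb := Subgroup.map_mono hR₀
  have hR₀bp : (Nat.card R₀b).Prime := by
    have h1 : Nat.card R₀b ∣ Nat.card R₀ := Subgroup.card_map_dvd R₀ f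
    rcases (Nat.dvd_prime hR₀p).1 h1 with h2 | h2
    · exfalso
      have h3 : R₀b = ⊥ := Subgroup.card_eq_one.1 h2
      have h4 : R₀ ≤ N := by
        intro x hx
        have h5 : f x ∈ R₀b := Subgroup.mem_map_of_mem f hx
        rw [h3, Subgroup.mem_bot] at h5
        rw [← QuotientGroup.ker_mk' N]
        exact h5
      have h5 : R₀ ≤ H ⊓ R := le_inf (h4.trans hNH) hR₀
      rw [inf_eq_bot_of_coprime_card hcopHR, le_bot_iff] at h5
      rw [h5, Subgroup.card_bot] at hR₀p
      exact Nat.not_prime_one hR₀p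
    · rw [h2]; exact hR₀p
  have hZ' : IsZGroup ↥(Hb ⊓ Subgroup.centralizer (R₀b : Set (G ⧸ N))) := by
    let g : ↥(H ⊓ Subgroup.centralizer (R₀ : Set G)) →*
        ↥(Hb ⊓ Subgroup.centralizer (R₀b : Set (G ⧸ N))) :=
      (f.comp (Subgroup.subtype _)).codRestrict _ (by
        intro x
        obtain ⟨h1, h2⟩ := Subgroup.mem_inf.1 x.2
        refine Subgroup.mem_inf.2 ⟨Subgroup.mem_map_of_mem f h1, ?_⟩
        rw [Subgroup.mem_centralizer_iff]
        rintro y ⟨a, ha, rfl⟩
        have := Subgroup.mem_centralizer_iff.1 h2 a ha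
        change f a * f (x : G) = f (x : G) * f a
        rw [← map_mul, ← map_mul, this])
    have hg : Function.Surjective g := by
      rintro ⟨y, hy⟩
      obtain ⟨hyH, hyC⟩ := Subgroup.mem_inf.1 hy
      obtain ⟨k, hk, rfl⟩ := hyH
      have hfix : ∀ a ∈ R₀, a * k * a⁻¹ * k⁻¹ ∈ N := by
        intro a ha
        have h1 := Subgroup.mem_centralizer_iff.1 hyC (f a) (Subgroup.mem_map_of_mem f ha)
        rw [← QuotientGroup.ker_mk' N, MonoidHom.mem_ker, map_mul, map_mul, map_mul, map_inv,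
          map_inv, h1, mul_inv_cancel_right, mul_inv_cancel]
      have hR₀H : R₀ ≤ Subgroup.normalizer (H : Set G) := by
        rw [Subgroup.normalizer_eq_top]; exact le_top
      have hHN : H ≤ Subgroup.normalizer (N : Set G) := by
        rw [Subgroup.normalizer_eq_top]; exact le_top
      have hR₀N : R₀ ≤ Subgroup.normalizer (N : Set G) := by
        rw [Subgroup.normalizer_eq_top]; exact le_top
      have hcop0 : (Nat.card R₀).Coprime (Nat.card H) :=
        (hcopHR.coprime_dvd_right (Subgroup.card_dvd_of_le hR₀)).symm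
      obtain ⟨c, hc, hcN⟩ := coprime_fixed_coset R₀ H hR₀H hcop0 (Or.inr inferInstance) N hNH hHN
        hR₀N k hk hfix
      refine ⟨⟨c, hc⟩, Subtype.ext ?_⟩
      change f c = f k
      have : f (k⁻¹ * c) = 1 := by
        rw [← MonoidHom.mem_ker, QuotientGroup.ker_mk']; exact hcN
      rw [map_mul, map_inv, inv_mul_eq_one] at this
      exact this.symm
    haveI := hZ
    exact IsZGroup.of_surjective hg
  have hmain := IH (G ⧸ N) hlt inferInstance inferInstance hXodd Hb Rb R₀b hHbn hHall' hcompl'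
    hR₀b_le hR₀bp hZ' p hp
  rw [Subgroup.map_commutator]
  exact hmain

end Cfsg.Agent.Helper2.T36
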