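import Mathlib
import Cfsg.Prelude
import Cfsg.Agent.Helper2.T36g
import Cfsg.Agent.Helper1.FrattiniAct
import Cfsg.Agent.Helper1.Fitting2
import Cfsg.Agent.Helper3.GYen
import Cfsg.Agent.Helper4.PCore

/-!
# BG Theorem 3.6: `p`-length one utilities
-/

namespace Cfsg.Agent.Helper2.T36

open Cfsg.Agent.Helper1 Cfsg.Agent.Helper2 Cfsg.Agent.Helper3

universe u

variable {X : Type u} [Group X] [Finite X]

/-- with `O_{p'}(X) = 1`, `p`-length one means a normal Sylow `p`-subgroup. -/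
theorem normal_sylow_of_pLengthLE_one {p : ℕ} [hp : Fact p.Prime]
    (hO : Cfsg.pPrimeCore p X = ⊥) (h : Cfsg.PLengthLE p 1 X) (S : Sylow p X) :
    (S : Subgroup X).Normal := by
  obtain ⟨K, hKn, hKc, hS⟩ := exists_normal_of_pLengthLE_one p h
  have hK : K = ⊥ := by
    rw [eq_bot_iff, ← hO]
    exact le_sSup ⟨hKn, hKc⟩
  have := hS S
  rwa [hK, bot_sup_eq] at this

/-- with `O_{p'}(X) = 1` and `p`-length one, every `p`-subgroup lies in `O_p(X)`. -/
theorem le_pCore_of_pLengthLE_one {p : ℕ} [hp : Fact p.Prime]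
    (hO : Cfsg.pPrimeCore p X = ⊥) (h : Cfsg.PLengthLE p 1 X) {A : Subgroup X}
    (hA : IsPGroup p A) : A ≤ Cfsg.pCore p X := by
  obtain ⟨S, hS⟩ := hA.exists_le_sylow
  exact hS.trans (le_pCore (normal_sylow_of_pLengthLE_one hO h S) S.2)

/-- `p`-length one lifts through a quotient by a normal subgroup inside `Φ(O_p(X))` when
`O_{p'}(X) = 1`. -/
theorem pLengthLE_one_of_quotient_frattini [Group.IsSolvable X] {p : ℕ} [hp : Fact p.Prime]
    (hO : Cfsg.pPrimeCore p X = ⊥) (N : Subgroup X) [hNn : N.Normal]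
    (hN : N ≤ (frattini ↥(Cfsg.pCore p X)).map (Cfsg.pCore p X).subtype)
    (h : Cfsg.PLengthLE p 1 (X ⧸ N)) : Cfsg.PLengthLE p 1 X := by
  set V : Subgroup X := Cfsg.pCore p X with hV
  haveI hVn : V.Normal := Cfsg.Agent.Helper4.pCore_normal
  have hVp : IsPGroup p V := pCore_isPGroup p
  have hNV : N ≤ V := hN.trans (Subgroup.map_subtype_le _)
  have hNp : IsPGroup p N := hVp.to_le hNV
  set f : X →* X ⧸ N := QuotientGroup.mk' N with hf
  have hfs : Function.Surjective f := QuotientGroup.mk'_surjective N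
  have hker : f.ker = N := QuotientGroup.ker_mk' N
  obtain ⟨Lb, hLbn, hLbc, hSb⟩ := exists_normal_of_pLengthLE_one p h
  set L : Subgroup X := Lb.comap f with hL
  haveI hLn : L.Normal := hLbn.comap f
  -- `V ∩ L = N`
  have hVL : V ⊓ L ≤ N := by
    have h1 : IsPGroup p ↥((V ⊓ L).map f) := (hVp.to_le inf_le_left).map f
    have h2 : (V ⊓ L).map f ≤ Lb := by
      rintro y ⟨x, hx, rfl⟩
      exact hx.2
    obtain ⟨k, hk⟩ := IsPGroup.iff_card.mp h1
    have h3 : (p ^ k).Coprime p := by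
      rw [← hk]
      exact hLbc.coprime_dvd_left (Subgroup.card_dvd_of_le h2)
    have h4 : k = 0 := by
      by_contra hk0
      have : p ∣ p ^ k := dvd_pow_self p hk0
      have h5 := Nat.Coprime.eq_one_of_dvd h3.symm this
      exact hp.out.one_lt.ne' h5
    rw [h4, pow_zero] at hk
    have h5 : (V ⊓ L).map f = ⊥ := Subgroup.card_eq_one.1 hk
    intro x hx
    have h6 : f x ∈ (V ⊓ L).map f := Subgroup.mem_map_of_mem f hx
    rw [h5, Subgroup.mem_bot] at h6
    rw [← hker]
    exact h6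
  -- `L` is a `p`-group
  have hLp : ∀ ℓ : ℕ, ℓ.Prime → ℓ ∣ Nat.card L → ℓ = p := by
    intro ℓ hℓ hdvd
    by_contra hne
    haveI : Fact ℓ.Prime := ⟨hℓ⟩
    obtain ⟨x, hx⟩ := exists_prime_orderOf_dvd_card' ℓ hdvd
    set A : Subgroup X := Subgroup.zpowers (x : X) with hA
    have hAcard : Nat.card A = ℓ := by rw [hA, Nat.card_zpowers, Subgroup.orderOf_coe, hx]
    have hAL : A ≤ L := Subgroup.zpowers_le.2 x.2
    have hAV : A ≤ Subgroup.normalizer (V : Set X) := by
      rw [Subgroup.normalizer_eq_top]; exact le_top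
    obtain ⟨j, hj⟩ := IsPGroup.iff_card.mp (hVp.to_le
      (Subgroup.map_subtype_le (frattini ↥V)))
    have hcop : (Nat.card A).Coprime (Nat.card (frattini ↥V)) := by
      have h1 : Nat.card ↥((frattini ↥V).map V.subtype) = Nat.card (frattini ↥V) :=
        Subgroup.card_map_of_injective V.subtype_injective
      rw [hAcard, ← h1, hj]
      exact Nat.Coprime.pow_right _ ((Nat.coprime_primes hℓ hp.out).2 hne)
    have htriv : ∀ a ∈ A, ∀ k ∈ V, a * k * a⁻¹ * k⁻¹ ∈ (frattini ↥V).map V.subtype := by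
      intro a ha k hk
      apply hN
      apply hVL
      refine Subgroup.mem_inf.2 ⟨?_, ?_⟩
      · exact V.mul_mem (hVn.conj_mem k hk a) (V.inv_mem hk)
      · have h1 : k * a⁻¹ * k⁻¹ ∈ L := hLn.conj_mem a⁻¹ (L.inv_mem (hAL ha)) k
        have h2 : a * k * a⁻¹ * k⁻¹ = a * (k * a⁻¹ * k⁻¹) := by group
        rw [h2]
        exact L.mul_mem (hAL ha) h1
    have h1 := frattini_coprime_trivial A V hAV hcop htriv
    have h2 : A ≤ V := h1.trans (centralizer_pCore_le p hO)
    obtain ⟨i, hi⟩ := IsPGroup.iff_card.mp (hVp.to_le h2)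
    rw [hAcard] at hi
    have h3 : p ∣ ℓ := by
      rcases Nat.eq_zero_or_pos i with h0 | h0
      · rw [h0, pow_zero] at hi
        exact absurd hi hℓ.one_lt.ne'
      · rw [hi]; exact dvd_pow_self p h0.ne'
    exact hne ((Nat.prime_dvd_prime_iff_eq hp.out hℓ).1 h3).symm
  have hLb : Lb = ⊥ := by
    rw [← Subgroup.card_eq_one]
    by_contra hne
    obtain ⟨ℓ, hℓ, hdvd⟩ := Nat.exists_prime_and_dvd hne
    have h1 : Nat.card Lb ∣ Nat.card L := by
      have h2 : L.map f = Lb := Subgroup.map_comap_eq_self_of_surjective hfs Lb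
      rw [← h2]
      exact Subgroup.card_map_dvd L f
    have h2 := hLp ℓ hℓ (hdvd.trans h1)
    rw [h2] at hdvd
    have h3 := Nat.Coprime.eq_one_of_dvd hLbc.symm hdvd
    exact hp.out.one_lt.ne' h3
  -- the normal Sylow subgroup of the quotient
  obtain ⟨Sb⟩ : Nonempty (Sylow p (X ⧸ N)) := inferInstance
  have hSbn : (Sb : Subgroup (X ⧸ N)).Normal := by
    have := hSb Sb
    rwa [hLb, bot_sup_eq] at this
  set S : Subgroup X := (Sb : Subgroup (X ⧸ N)).comap f with hS
  have hSn : S.Normal := hSbn.comap f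
  have hSp : IsPGroup p S := Sb.2.comap_of_ker_isPGroup f (by rw [hker]; exact hNp)
  have hSV : S ≤ V := le_pCore hSn hSp
  have hidx : S.index = (Sb : Subgroup (X ⧸ N)).index := Subgroup.index_comap_of_surjective _ hfs
  apply GYen.pLengthLE_one_of_index_pCore
  intro hdvd
  have h1 : V.index ∣ S.index := Subgroup.index_dvd_of_le hSV
  rw [hidx] at h1
  exact Sb.not_dvd_index (hdvd.trans h1)

end Cfsg.Agent.Helper2.T36
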