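import Mathlib
import Cfsg.Prelude
import Cfsg.Agent.Helper2.T36h

/-!
# BG Theorem 3.6: the reduced configuration (interface between the two halves of the reduction)

`Red p H R R₀ W` is what the first reductions (`H = [H,R]`, `O_{p'}(H) = 1`, `Φ(O_p(H)) = 1`) give in
a minimal counterexample; `W = O_p(H)`.
-/

namespace Cfsg.Agent.Helper2.T36

variable {G : Type*} [Group G]

/-- the reduced configuration of BG Theorem 3.6 in a minimal counterexample. -/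
structure Red (p : ℕ) (H R R₀ W : Subgroup G) : Prop where
  hHn : H.Normal
  hcop : (Nat.card H).Coprime (Nat.card R)
  hsup : H ⊔ R = ⊤
  hR₀ : R₀ ≤ R
  hR₀p : (Nat.card R₀).Prime
  hZ : IsZGroup ↥(H ⊓ Subgroup.centralizer (R₀ : Set G))
  hHR : ⁅H, R⁆ = H
  hWn : W.Normal
  hWH : W ≤ H
  hW : Cfsg.IsElementaryAbelian p W
  hCW : H ⊓ Subgroup.centralizer (W : Set G) ≤ W
  hWmax : ∀ A : Subgroup G, A ≤ H → H ≤ Subgroup.normalizer (A : Set G) → IsPGroup p A → A ≤ W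
  hidx : p ∣ W.relIndex H
  ihsub : ∀ H₁ R₁ R₀₁ : Subgroup G, H₁ ⊔ R₁ ≠ ⊤ → R₁ ≤ Subgroup.normalizer (H₁ : Set G) →
    (Nat.card H₁).Coprime (Nat.card R₁) → R₀₁ ≤ R₁ → (Nat.card R₀₁).Prime →
    IsZGroup ↥(H₁ ⊓ Subgroup.centralizer (R₀₁ : Set G)) → Cfsg.PLengthLE p 1 ↥⁅H₁, R₁⁆

end Cfsg.Agent.Helper2.T36
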