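import Mathlib
import Cfsg.Prelude
import Cfsg.Agent.Helper2.T36red
import Cfsg.Agent.Helper1.BGVc
import Cfsg.Agent.Helper1.BGPrimeActB

/-!
# BG Theorem 3.6, stage D: the choice of the prime `q`

Working in `G ⧸ W`: a `p`-subgroup not contained in `W = O_p(H)` fails to centralize some
`O_q(H / W)`.
-/

namespace Cfsg.Agent.Helper2.T36

open Cfsg.Agent.Helper1 Cfsg.Agent.Helper2 Cfsg.Agent.Helper1.BGV

open scoped commutatorElement

universe u

variable {G : Type u} [Group G] [Finite G]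

/-- the choice of `q` and of `M`, the preimage of `O_q(H / W)`. -/
theorem exists_prime_normal_of_not_le {p : ℕ} [hp : Fact p.Prime] {H W P₂ : Subgroup G}
    [hHn : H.Normal] [hWn : W.Normal] (hsol : Group.IsSolvable ↥H) (hWH : W ≤ H)
    (hWp : IsPGroup p W)
    (hWmax : ∀ A : Subgroup G, A ≤ H → H ≤ Subgroup.normalizer (A : Set G) → IsPGroup p A → A ≤ W)
    (hP₂H : P₂ ≤ H) (hP₂ : IsPGroup p P₂) (hP₂W : ¬ P₂ ≤ W) :
    ∃ (q : ℕ) (M : Subgroup G), q.Prime ∧ q ≠ p ∧ M.Normal ∧ W ≤ M ∧ M ≤ H ∧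
      (∃ b : ℕ, Nat.card M = Nat.card W * q ^ b) ∧ ¬ ⁅M, P₂⁆ ≤ W := by
  set f : G →* G ⧸ W := QuotientGroup.mk' W with hf
  have hfs : Function.Surjective f := QuotientGroup.mk'_surjective W
  have hker : f.ker = W := QuotientGroup.ker_mk' W
  set Hb : Subgroup (G ⧸ W) := H.map f with hHb
  set Pb : Subgroup (G ⧸ W) := P₂.map f with hPb
  haveI hHbn : Hb.Normal := hHn.map f hfs
  have hsolb : Group.IsSolvable ↥Hb := by
    haveI := hsol
    exact solvable_of_surjective (f.subgroupMap_surjective H)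
  have hcomapHb : Hb.comap f = H := by
    rw [hHb, Subgroup.comap_map_eq, hker, sup_eq_left.2 hWH]
  -- `O_p(H / W) = 1`
  have hOp : pcoreOf p Hb = ⊥ := by
    set A : Subgroup G := (pcoreOf p Hb).comap f with hA
    have hAH : A ≤ H := by
      rw [← hcomapHb]
      exact Subgroup.comap_mono (pCoreOf_le p Hb)
    have hAn : H ≤ Subgroup.normalizer (A : Set G) := by
      haveI : (pcoreOf p Hb).Normal := Cfsg.Agent.Helper1.BGPrimeAct.pcoreOf_normal p Hb
      haveI : A.Normal := Subgroup.Normal.comap inferInstance f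
      rw [Subgroup.normalizer_eq_top]; exact le_top
    have hAp : IsPGroup p A :=
      (pCoreOf_isPGroup p Hb).comap_of_ker_isPGroup f (by rw [hker]; exact hWp)
    have hAW : A ≤ W := hWmax A hAH hAn hAp
    rw [eq_bot_iff]
    intro y hy
    obtain ⟨x, rfl⟩ := hfs y
    have hx : x ∈ A := hy
    have := hAW hx
    rw [Subgroup.mem_bot]
    exact (QuotientGroup.eq_one_iff x).2 this
  have hPbne : Pb ≠ ⊥ := by
    intro h
    apply hP₂W
    intro x hx
    have h1 : f x ∈ Pb := Subgroup.mem_map_of_mem f hx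
    rw [h, Subgroup.mem_bot] at h1
    rw [← hker]
    exact h1
  have hPbp : IsPGroup p Pb := hP₂.map f
  have hPbH : Pb ≤ Hb := Subgroup.map_mono hP₂H
  -- some `O_q(H / W)` is not centralized
  have hex : ∃ q : ℕ, q.Prime ∧ ∃ x ∈ Pb, ∃ y ∈ pcoreOf q Hb, x * y ≠ y * x := by
    by_contra hcon
    push Not at hcon
    apply hPbne
    have h1 : Pb ≤ Hb ⊓ Subgroup.centralizer ((Cfsg.fittingOf Hb : Subgroup (G ⧸ W)) :
        Set (G ⧸ W)) := by
      intro x hx
      exact Subgroup.mem_inf.2 ⟨hPbH hx, mem_centralizer_fittingOf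
        (fun r hr y hy => hcon r hr x hx y hy)⟩
    have h2 : Pb ≤ Cfsg.fittingOf Hb := h1.trans (inf_centralizer_fittingOf_le Hb hsolb)
    have h3 : Pb ≤ pcoreOf p Hb := le_pCoreOf_of_le_fittingOf hPbp h2
    rw [hOp] at h3
    exact le_bot_iff.1 h3
  obtain ⟨q, hq, x, hx, y, hy, hxy⟩ := hex
  haveI : Fact q.Prime := ⟨hq⟩
  have hqp : q ≠ p := by
    rintro rfl
    rw [hOp, Subgroup.mem_bot] at hy
    apply hxy
    rw [hy, mul_one, one_mul]
  set M : Subgroup G := (pcoreOf q Hb).comap f with hM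
  have hMn : M.Normal := by
    haveI : (pcoreOf q Hb).Normal := Cfsg.Agent.Helper1.BGPrimeAct.pcoreOf_normal q Hb
    exact Subgroup.Normal.comap inferInstance f
  have hWM : W ≤ M := by
    rw [← hker]
    exact MonoidHom.ker_le_comap f _
  have hMH : M ≤ H := by
    rw [← hcomapHb]
    exact Subgroup.comap_mono (pCoreOf_le q Hb)
  have hMmap : M.map f = pcoreOf q Hb := Subgroup.map_comap_eq_self_of_surjective hfs _
  refine ⟨q, M, hq, hqp, hMn, hWM, hMH, ?_, ?_⟩
  · obtain ⟨b, hb⟩ := IsPGroup.iff_card.mp (pCoreOf_isPGroup q Hb)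
    refine ⟨b, ?_⟩
    have h1 : W.relIndex M = Nat.card ↥(M.map f) := by
      have := Subgroup.relIndex_ker (K := M) f
      rwa [hker] at this
    have h2 := relIndex_mul_card_of_le hWM
    rw [h1, hMmap, hb] at h2
    rw [← h2, mul_comm]
  · intro hcomm
    obtain ⟨a, ha, rfl⟩ := hx
    have hy' : y ∈ M.map f := by rw [hMmap]; exact hy
    obtain ⟨m, hm, rfl⟩ := hy'
    have h1 : ⁅m, a⁆ ∈ W := hcomm (Subgroup.commutator_mem_commutator hm ha)
    have h2 : f ⁅m, a⁆ = 1 := by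
      rw [← MonoidHom.mem_ker, hker]; exact h1
    rw [map_commutatorElement, commutatorElement_eq_one_iff_mul_comm] at h2
    exact hxy h2.symm

end Cfsg.Agent.Helper2.T36
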