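import Mathlib
import Cfsg.Prelude
import Cfsg.Agent.Helper2.T36i
import Cfsg.Agent.Helper2.PComp1
import Cfsg.Agent.Helper1.SylowInt
import Cfsg.Agent.Helper3.CoprimeHall

/-!
# BG Theorem 3.6, stage D: `p`-subgroups of `p`-length one sections, and `[S, R] ≰ W`
-/

namespace Cfsg.Agent.Helper2.T36

open Cfsg.Agent.Helper1 Cfsg.Agent.Helper2 Cfsg.Agent.Helper1.BGV Cfsg.Agent.Helper3

open scoped commutatorElement

universe u

variable {G : Type u} [Group G] [Finite G]

/-- a section `Y` of `H` normalized by the self-centralizing normal `p`-subgroup `W` and of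
`p`-length one has all its `p`-subgroups inside `O_p(Y)`. -/
theorem le_pcoreOf_of_pLengthLE_one {p : ℕ} [hp : Fact p.Prime] {H W Y : Subgroup G}
    [hWn : W.Normal] (hWp : IsPGroup p W)
    (hCW : H ⊓ Subgroup.centralizer (W : Set G) ≤ W) (hYH : Y ≤ H)
    (hWY : W ≤ Subgroup.normalizer (Y : Set G)) (hpl : Cfsg.PLengthLE p 1 ↥Y)
    {A : Subgroup G} (hAY : A ≤ Y) (hA : IsPGroup p A) : A ≤ pcoreOf p Y := by
  -- `O_{p'}(Y) = 1`
  set N : Subgroup G := (Cfsg.pPrimeCore p ↥Y).map Y.subtype with hN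
  have hNY : N ≤ Y := Subgroup.map_subtype_le _
  have hNc : (Nat.card N).Coprime p := by
    rw [hN, Subgroup.card_map_of_injective Y.subtype_injective]
    exact card_pPrimeCore_coprime p
  have hWN : W ≤ Subgroup.normalizer (N : Set G) :=
    hWY.trans (le_normalizer_map_of_characteristic Y (Cfsg.pPrimeCore p ↥Y))
  have hNW : N ≤ Subgroup.normalizer (W : Set G) := by
    rw [Subgroup.normalizer_eq_top]; exact le_top
  obtain ⟨k, hk⟩ := IsPGroup.iff_card.mp hWp
  have hdisj : N ⊓ W = ⊥ := by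
    apply inf_eq_bot_of_coprime_card
    rw [hk]
    exact Nat.Coprime.pow_right _ hNc
  have hNcent : N ≤ Subgroup.centralizer (W : Set G) := by
    intro x hx
    rw [Subgroup.mem_centralizer_iff]
    intro w hw
    exact (commute_of_normalize_of_disjoint hNW hWN hdisj hx hw).symm
  have hNW' : N ≤ W := (le_inf (hNY.trans hYH) hNcent).trans hCW
  have hNbot : N = ⊥ := by
    rw [eq_bot_iff, ← hdisj]
    exact le_inf le_rfl hNW'
  have hO : Cfsg.pPrimeCore p ↥Y = ⊥ := by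
    rw [hN] at hNbot
    exact (Subgroup.map_eq_bot_iff_of_injective _ Y.subtype_injective).1 hNbot
  have h1 : A.subgroupOf Y ≤ Cfsg.pCore p ↥Y :=
    le_pCore_of_pLengthLE_one hO hpl hA.comap_subtype
  intro a ha
  exact ⟨⟨a, hAY ha⟩, h1 (Subgroup.mem_subgroupOf.2 ha), rfl⟩

/-- the commutator identity `[ts, ρ] = t [s, ρ] t⁻¹ [t, ρ]`. -/
theorem commutatorElement_mul_left (t s ρ : G) : ⁅t * s, ρ⁆ = t * ⁅s, ρ⁆ * t⁻¹ * ⁅t, ρ⁆ := by
  simp only [commutatorElement_def]
  group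

/-- in the reduced configuration, `[S, R] ≰ W` for an `R`-invariant Sylow `p`-subgroup `S`. -/
theorem exists_commutator_not_le [Group.IsSolvable G] {p : ℕ} [hp : Fact p.Prime]
    {H R W : Subgroup G} [hHn : H.Normal] [hWn : W.Normal]
    (hcop : (Nat.card H).Coprime (Nat.card R)) (hHR : ⁅H, R⁆ = H) (hWH : W ≤ H)
    (hWp : IsPGroup p W) (hidx : p ∣ W.relIndex H) :
    ∃ P₂ : Subgroup G, P₂ ≤ H ∧ IsPGroup p P₂ ∧ R ≤ Subgroup.normalizer (P₂ : Set G) ∧
      ⁅P₂, R⁆ = P₂ ∧ ¬ P₂ ≤ W := by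
  have hRH : R ≤ Subgroup.normalizer (H : Set G) := by
    rw [Subgroup.normalizer_eq_top]; exact le_top
  have hsolH : Group.IsSolvable ↥H := inferInstance
  obtain ⟨S₀, hS₀R⟩ := exists_invariant_sylow (p := p) R H hRH hcop.symm (Or.inr hsolH)
  set S : Subgroup G := (S₀ : Subgroup ↥H).map H.subtype with hS
  have hSH : S ≤ H := Subgroup.map_subtype_le _
  have hSp : IsPGroup p S := S₀.2.map _
  obtain ⟨T, hT, hTR⟩ := Cfsg.Agent.Helper3.exists_invariant_hall R H hRH hcop.symm hsolH {r | r ≠ p}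
  obtain ⟨hTH, hTπ, hTidx⟩ := hT
  set P₂ : Subgroup G := ⁅S, R⁆ with hP₂
  have hP₂S : P₂ ≤ S := Subgroup.le_normalizer_iff_commutator_le_left.1 hS₀R
  have hcopS : (Nat.card R).Coprime (Nat.card S) :=
    (hcop.coprime_dvd_left (Subgroup.card_dvd_of_le hSH)).symm
  refine ⟨P₂, hP₂S.trans hSH, hSp.to_le hP₂S, Subgroup.normalizer_commutator_ge_right S R,
    coprime_commutator_commutator R S hS₀R hcopS (Or.inr inferInstance), ?_⟩
  intro hP₂W
  -- counting
  set m : ℕ := T.relIndex H with hm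
  have hmT : m * Nat.card T = Nat.card H := relIndex_mul_card_of_le hTH
  have hTc : (Nat.card T).Coprime p := by
    rw [Nat.coprime_comm, Nat.Prime.coprime_iff_not_dvd hp.out]
    intro hdvd
    exact hTπ p hp.out hdvd rfl
  have hm0 : m ≠ 0 := by
    intro h0
    rw [h0, zero_mul] at hmT
    exact Nat.card_pos.ne' hmT.symm
  have hmpow : m = p ^ m.primeFactorsList.length :=
    Nat.eq_prime_pow_of_unique_prime_dvd hm0 (fun {d} hd hdm => by
      by_contra hne
      exact hTidx d hd hne hdm)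
  set j := m.primeFactorsList.length with hj
  have hS₀card : Nat.card S₀ = m := by
    obtain ⟨k, hk⟩ := IsPGroup.iff_card.mp S₀.2
    have h1 : Nat.card (S₀ : Subgroup ↥H) ∣ Nat.card ↥H := Subgroup.card_subgroup_dvd_card _
    rw [hk, ← hmT, hmpow] at h1
    have h2 : p ^ k ∣ p ^ j :=
      Nat.Coprime.dvd_of_dvd_mul_right (Nat.Coprime.pow_left _ hTc.symm) h1
    have h3 : p ^ j ∣ Nat.card ↥H := by
      rw [← hmT, ← hmpow]; exact dvd_mul_right _ _
    have h4 : p ^ j ∣ Nat.card (S₀ : Subgroup ↥H) := S₀.pow_dvd_card_of_pow_dvd_card h3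
    rw [hk] at h4
    rw [hk, hmpow]
    exact Nat.dvd_antisymm h2 h4
  have hTcard' : Nat.card (T.subgroupOf H) = Nat.card T := card_subgroupOf_of_le hTH
  have hcompl : Subgroup.IsComplement' (T.subgroupOf H) (S₀ : Subgroup ↥H) := by
    apply Subgroup.isComplement'_of_coprime
    · rw [hTcard', hS₀card, mul_comm, hmT]
    · rw [hTcard', hS₀card, hmpow]
      exact Nat.Coprime.pow_right _ hTc
  -- every commutator lies in `W ⊔ T`
  have hTW : T ≤ Subgroup.normalizer (W : Set G) := by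
    rw [Subgroup.normalizer_eq_top]; exact le_top
  have hle : ⁅H, R⁆ ≤ W ⊔ T := by
    rw [Subgroup.commutator_le]
    intro h hh ρ hρ
    obtain ⟨⟨t, s⟩, hts⟩ := hcompl.2 ⟨h, hh⟩
    have hts' : (t : G) * (s : G) = h := by
      have := congrArg Subtype.val hts
      simpa using this
    have htT : ((t : ↥H) : G) ∈ T := Subgroup.mem_subgroupOf.1 t.2
    have hsS : ((s : ↥H) : G) ∈ S := ⟨(s : ↥H), s.2, rfl⟩
    rw [← hts', commutatorElement_mul_left]
    have h1 : ⁅((s : ↥H) : G), ρ⁆ ∈ W := hP₂W (Subgroup.commutator_mem_commutator hsS hρ)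
    have h2 : ((t : ↥H) : G) * ⁅((s : ↥H) : G), ρ⁆ * ((t : ↥H) : G)⁻¹ ∈ W :=
      hWn.conj_mem _ h1 _
    have h3 : ⁅((t : ↥H) : G), ρ⁆ ∈ T := by
      rw [commutatorElement_def]
      have h4 : ρ * ((t : ↥H) : G)⁻¹ * ρ⁻¹ ∈ T :=
        (Subgroup.mem_normalizer_iff.1 (hTR hρ) _).1 (T.inv_mem htT)
      have e : ((t : ↥H) : G) * ρ * ((t : ↥H) : G)⁻¹ * ρ⁻¹ =
          ((t : ↥H) : G) * (ρ * ((t : ↥H) : G)⁻¹ * ρ⁻¹) := by group
      rw [e]
      exact T.mul_mem htT h4
    exact Subgroup.mul_mem _ (Subgroup.mem_sup_left h2) (Subgroup.mem_sup_right h3)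
  rw [hHR] at hle
  have hHeq : W ⊔ T = H := le_antisymm (sup_le hWH hTH) hle
  obtain ⟨k, hk⟩ := IsPGroup.iff_card.mp hWp
  have hdisj : T ⊓ W = ⊥ := by
    apply inf_eq_bot_of_coprime_card
    rw [hk]
    exact Nat.Coprime.pow_right _ hTc
  have hcard : Nat.card ↥(W ⊔ T : Subgroup G) = Nat.card T * Nat.card W :=
    card_sup_of_le_normalizer hTW hdisj
  have h5 := relIndex_mul_card_of_le hWH
  rw [← hHeq, hcard] at h5
  have h6 : W.relIndex (W ⊔ T) = Nat.card T := Nat.eq_of_mul_eq_mul_right Nat.card_pos h5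
  rw [← hHeq, h6] at hidx
  exact hp.out.one_lt.ne' (Nat.Coprime.eq_one_of_dvd hTc.symm hidx)

end Cfsg.Agent.Helper2.T36
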