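import Mathlib
import Cfsg.Prelude
import Cfsg.Agent.Helper2.T36j

/-!
# BG Theorem 3.6, stage D: from the reduced configuration to the minimal configuration
-/

namespace Cfsg.Agent.Helper2.T36

open Cfsg.Agent.Helper1 Cfsg.Agent.Helper2 Cfsg.Agent.Helper1.BGV Cfsg.Agent.Helper3

open scoped commutatorElement Pointwise

universe u

variable {G : Type u} [Group G]

theorem le_normalizer_sup' {A X Y : Subgroup G} (hX : A ≤ Subgroup.normalizer (X : Set G))
    (hY : A ≤ Subgroup.normalizer (Y : Set G)) :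
    A ≤ Subgroup.normalizer ((X ⊔ Y : Subgroup G) : Set G) := by
  intro a ha
  apply mem_normalizer_of_conj_smul_eq
  rw [Subgroup.smul_sup, conj_smul_eq_of_mem_normalizer (hX ha),
    conj_smul_eq_of_mem_normalizer (hY ha)]

theorem isElementaryAbelian_of_le {p : ℕ} {V W : Subgroup G} (hW : Cfsg.IsElementaryAbelian p W)
    (hVW : V ≤ W) : Cfsg.IsElementaryAbelian p V := by
  refine ⟨⟨⟨fun a b => Subtype.ext ?_⟩⟩, fun a ha => hW.2 a (hVW ha)⟩
  have := hW.1.is_comm.comm ⟨(a : G), hVW a.2⟩ ⟨(b : G), hVW b.2⟩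
  change (a : G) * (b : G) = (b : G) * (a : G)
  exact congrArg Subtype.val this

variable [Finite G] [Group.IsSolvable G]

/-- **the reduced configuration of BG Theorem 3.6 does not exist.** -/
theorem Red.false {p : ℕ} [hp : Fact p.Prime] {H R R₀ W : Subgroup G}
    (h : Red p H R R₀ W) (hodd : Odd (Nat.card G)) : False := by
  haveI := h.hHn
  haveI := h.hWn
  have hWp : IsPGroup p W := isPGroup_of_elementary h.hW
  haveI hWcomm : IsMulCommutative ↥W := h.hW.1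
  have hnorm : ∀ (N A : Subgroup G), N.Normal → A ≤ Subgroup.normalizer (N : Set G) :=
    fun N A hN => by rw [Subgroup.normalizer_eq_top_iff.2 hN]; exact le_top
  -- D1
  obtain ⟨P₂, hP₂H, hP₂p, hRP₂, hP₂R, hP₂W⟩ :=
    exists_commutator_not_le h.hcop h.hHR h.hWH hWp h.hidx
  -- D2
  obtain ⟨q, M, hq, hqp, hMn, hWM, hMH, ⟨b, hMcard⟩, hMP₂⟩ :=
    exists_prime_normal_of_not_le (inferInstance : Group.IsSolvable ↥H) h.hWH hWp h.hWmax
      hP₂H hP₂p hP₂W
  haveI : Fact q.Prime := ⟨hq⟩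
  haveI := hMn
  obtain ⟨a, ha⟩ := IsPGroup.iff_card.mp hWp
  have hpq_cop : Nat.Coprime p q := (Nat.coprime_primes hp.out hq).2 hqp.symm
  -- D3: the invariant Sylow `q`-subgroup of `M`
  have hcopRM : (Nat.card R).Coprime (Nat.card M) :=
    (h.hcop.coprime_dvd_left (Subgroup.card_dvd_of_le hMH)).symm
  obtain ⟨Q₀, hQ₀R⟩ := exists_invariant_sylow (p := q) R M (hnorm M R hMn) hcopRM
    (Or.inr inferInstance)
  set Qs : Subgroup G := (Q₀ : Subgroup ↥M).map M.subtype with hQs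
  have hQsM : Qs ≤ M := Subgroup.map_subtype_le _
  have hQsq : IsPGroup q Qs := Q₀.2.map _
  have hQscard : Nat.card Qs = q ^ b := by
    rw [hQs, Subgroup.card_map_of_injective M.subtype_injective]
    obtain ⟨k, hk⟩ := IsPGroup.iff_card.mp Q₀.2
    have h1 : Nat.card (Q₀ : Subgroup ↥M) ∣ Nat.card ↥M := Subgroup.card_subgroup_dvd_card _
    rw [hk, hMcard, ha] at h1
    have h2 : q ^ k ∣ q ^ b :=
      Nat.Coprime.dvd_of_dvd_mul_left (Nat.Coprime.pow _ _ hpq_cop.symm) h1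
    have h3 : q ^ b ∣ Nat.card ↥M := by rw [hMcard]; exact dvd_mul_left _ _
    have h4 : q ^ b ∣ Nat.card (Q₀ : Subgroup ↥M) := Q₀.pow_dvd_card_of_pow_dvd_card h3
    rw [hk] at h4 ⊢
    exact Nat.dvd_antisymm h2 h4
  have hdisjQW : Qs ⊓ W = ⊥ := by
    apply inf_eq_bot_of_coprime_card
    rw [hQscard, ha]
    exact Nat.Coprime.pow _ _ hpq_cop.symm
  have hMeq : W ⊔ Qs = M := by
    apply Subgroup.eq_of_le_of_card_ge (sup_le hWM hQsM)
    rw [card_sup_of_le_normalizer (hnorm W Qs h.hWn) hdisjQW, hQscard, hMcard, mul_comm]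
  set Ns : Subgroup G := Subgroup.normalizer (Qs : Set G) with hNs
  have hfr : Ns ⊔ M = ⊤ := Sylow.normalizer_sup_eq_top Q₀
  have hWNs : W ⊔ Ns = ⊤ := by
    rw [eq_top_iff, ← hfr, ← hMeq]
    exact sup_le le_sup_right (sup_le le_sup_left (Subgroup.le_normalizer.trans le_sup_right))
  -- D4: the group `P`
  set WP₂ : Subgroup G := W ⊔ P₂ with hWP₂
  have hWP₂p : IsPGroup p WP₂ := hWp.to_sup_of_normal_left hP₂p
  set P : Subgroup G := WP₂ ⊓ Ns with hP
  have hPp : IsPGroup p P := hWP₂p.to_le inf_le_left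
  have hPQs : P ≤ Subgroup.normalizer (Qs : Set G) := inf_le_right
  have hRQs : R ≤ Subgroup.normalizer (Qs : Set G) := hQ₀R
  have hRNs : R ≤ Subgroup.normalizer (Ns : Set G) := hRQs.trans Subgroup.le_normalizer
  have hRWP₂ : R ≤ Subgroup.normalizer (WP₂ : Set G) :=
    le_normalizer_sup' (hnorm W R h.hWn) hRP₂
  have hRP : R ≤ Subgroup.normalizer (P : Set G) := le_normalizer_inf hRWP₂ hRNs
  have hPH : P ≤ H := inf_le_left.trans (sup_le h.hWH hP₂H)
  have hWPeq : W ⊔ P = WP₂ := by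
    apply le_antisymm (sup_le le_sup_left inf_le_left)
    intro x hx
    have hx' : x ∈ W ⊔ Ns := by rw [hWNs]; exact Subgroup.mem_top x
    obtain ⟨w, hw, n, hn, rfl⟩ := mem_sup_of_le_normalizer (hnorm W Ns h.hWn) hx'
    have hn' : n ∈ WP₂ := by
      have : n = w⁻¹ * (w * n) := by group
      rw [this]
      exact WP₂.mul_mem (WP₂.inv_mem (Subgroup.mem_sup_left hw)) hx
    exact Subgroup.mul_mem _ (Subgroup.mem_sup_left hw)
      (Subgroup.mem_sup_right (Subgroup.mem_inf.2 ⟨hn', hn⟩))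
  have hPWc : P ⊓ W ≤ Subgroup.centralizer (Qs : Set G) := by
    intro x hx
    obtain ⟨hxP, hxW⟩ := Subgroup.mem_inf.1 hx
    rw [Subgroup.mem_centralizer_iff]
    intro y hy
    have hdisj' : W ⊓ Qs = ⊥ := by rw [inf_comm]; exact hdisjQW
    exact (commute_of_mem_normalizer_of_disjoint hdisj' hxW hy (hPQs hxP)
      (hnorm W Qs h.hWn hy)).symm
  -- the quotient map modulo `W`
  set f : G →* G ⧸ W := QuotientGroup.mk' W with hf
  have hker : f.ker = W := QuotientGroup.ker_mk' W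
  have hWf : W.map f = ⊥ := (Subgroup.map_eq_bot_iff _).2 hker.ge
  have hPf : P.map f = P₂.map f := by
    have h1 : (W ⊔ P).map f = (W ⊔ P₂).map f := by rw [hWPeq]
    rwa [Subgroup.map_sup, Subgroup.map_sup, hWf, bot_sup_eq, bot_sup_eq] at h1
  have hQsP : ⁅Qs, P⁆ ≠ ⊥ := by
    intro hbot
    apply hMP₂
    have h1 : M.map f = Qs.map f := by rw [← hMeq, Subgroup.map_sup, hWf, bot_sup_eq]
    have h3 : (⁅M, P₂⁆).map f = ⊥ := by
      rw [Subgroup.map_commutator, h1, ← hPf, ← Subgroup.map_commutator, hbot, Subgroup.map_bot]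
    rw [← hker]
    exact (Subgroup.map_eq_bot_iff _).1 h3
  -- D5: a minimal `Q`
  obtain ⟨Q, hQle, hQmin⟩ := exists_minimal_le_of_wellFoundedLT
    (fun Y : Subgroup G => Y ≤ Qs ∧ P ≤ Subgroup.normalizer (Y : Set G) ∧
      R ≤ Subgroup.normalizer (Y : Set G) ∧ ⁅Y, P⁆ ≠ ⊥) Qs ⟨le_rfl, hPQs, hRQs, hQsP⟩
  obtain ⟨hQQs, hPQ, hRQ, hnt⟩ := hQmin.prop
  have hmin : ∀ Y : Subgroup G, Y < Q → P ≤ Subgroup.normalizer (Y : Set G) →
      R ≤ Subgroup.normalizer (Y : Set G) → ⁅Y, P⁆ = ⊥ := by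
    intro Y hY h1 h2
    by_contra hne
    exact (not_le_of_gt hY) (hQmin.le_of_le ⟨hY.le.trans hQQs, h1, h2, hne⟩ hY.le)
  have hQq : IsPGroup q Q := hQsq.to_le hQQs
  have hQH : Q ≤ H := hQQs.trans (hQsM.trans hMH)
  have hCQ : Subgroup.centralizer (Qs : Set G) ≤ Subgroup.centralizer (Q : Set G) :=
    Subgroup.centralizer_le hQQs
  have hPRP : ⁅P, R⁆ ≤ P := Subgroup.le_normalizer_iff_commutator_le_left.1 hRP
  -- D7: the decomposition of `P`
  have hPdec : P ≤ ⁅P, R⁆ ⊔ (P ⊓ Subgroup.centralizer (Q : Set G)) := by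
    have h1 : P ≤ W ⊔ ⁅P, R⁆ := by
      have h2 : P.map f = (⁅P, R⁆).map f := by
        rw [Subgroup.map_commutator, hPf, ← Subgroup.map_commutator, hP₂R]
      have h3 : P ≤ ((⁅P, R⁆).map f).comap f := by
        rw [← h2]; exact Subgroup.le_comap_map f P
      rw [Subgroup.comap_map_eq, hker, sup_comm] at h3
      exact h3
    intro x hx
    obtain ⟨w, hw, c, hc, rfl⟩ := mem_sup_of_le_normalizer
      (hnorm W ⁅P, R⁆ h.hWn) (h1 hx)
    have hwP : w ∈ P := by
      have : w = (w * c) * c⁻¹ := by group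
      rw [this]
      exact P.mul_mem hx (P.inv_mem (hPRP hc))
    exact Subgroup.mul_mem _
      (Subgroup.mem_sup_right (Subgroup.mem_inf.2 ⟨hwP, hCQ (hPWc (Subgroup.mem_inf.2 ⟨hwP, hw⟩))⟩))
      (Subgroup.mem_sup_left hc)
  -- D6: `H = W Q P`
  set H₁ : Subgroup G := W ⊔ Q ⊔ P with hH₁
  have hH₁H : H₁ ≤ H := sup_le (sup_le h.hWH hQH) hPH
  have hRH₁ : R ≤ Subgroup.normalizer (H₁ : Set G) :=
    le_normalizer_sup' (le_normalizer_sup' (hnorm W R h.hWn) hRQ) hRP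
  have hQH₁ : Q ≤ H₁ := le_sup_right.trans le_sup_left
  have hWH₁ : W ≤ H₁ := le_sup_left.trans le_sup_left
  have hPH₁ : P ≤ H₁ := le_sup_right
  have hdisjDQ : ∀ D : Subgroup G, IsPGroup p D → D ⊓ Q = ⊥ := by
    intro D hD
    obtain ⟨i, hi⟩ := IsPGroup.iff_card.mp hD
    obtain ⟨j, hj⟩ := IsPGroup.iff_card.mp hQq
    apply inf_eq_bot_of_coprime_card
    rw [hi, hj]
    exact Nat.Coprime.pow _ _ hpq_cop
  have htop : H₁ ⊔ R = ⊤ := by
    by_contra hne
    have hcop₁ : (Nat.card H₁).Coprime (Nat.card R) :=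
      h.hcop.coprime_dvd_left (Subgroup.card_dvd_of_le hH₁H)
    have hZ₁ : IsZGroup ↥(H₁ ⊓ Subgroup.centralizer (R₀ : Set G)) := by
      haveI := h.hZ
      exact IsZGroup.of_injective (f := Subgroup.inclusion (inf_le_inf_right _ hH₁H))
        (Subgroup.inclusion_injective _)
    have hpl := h.ihsub H₁ R R₀ hne hRH₁ hcop₁ h.hR₀ h.hR₀p hZ₁
    have hYH₁ : ⁅H₁, R⁆ ≤ H₁ := Subgroup.le_normalizer_iff_commutator_le_left.1 hRH₁
    have hH₁Y : H₁ ≤ Subgroup.normalizer ((⁅H₁, R⁆ : Subgroup G) : Set G) :=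
      Subgroup.normalizer_commutator_ge_left H₁ R
    have hD := le_pcoreOf_of_pLengthLE_one hWp h.hCW (hYH₁.trans hH₁H) (hWH₁.trans hH₁Y) hpl
      (Subgroup.commutator_mono hPH₁ le_rfl) (hPp.to_le hPRP)
    have hQD : Q ≤ Subgroup.normalizer ((pcoreOf p ⁅H₁, R⁆ : Subgroup G) : Set G) :=
      (hQH₁.trans hH₁Y).trans (normalizer_le_normalizer_pcoreOf p ⁅H₁, R⁆)
    have h1 : ⁅Q, ⁅P, R⁆⁆ ≤ pcoreOf p ⁅H₁, R⁆ :=
      (Subgroup.commutator_mono le_rfl hD).trans
        (Subgroup.le_normalizer_iff_commutator_le_right.1 hQD)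
    have h2 : ⁅Q, ⁅P, R⁆⁆ ≤ Q :=
      (Subgroup.commutator_mono le_rfl hPRP).trans
        (Subgroup.le_normalizer_iff_commutator_le_left.1 hPQ)
    have h3 : ⁅Q, ⁅P, R⁆⁆ = ⊥ := by
      rw [eq_bot_iff, ← hdisjDQ _ (pCoreOf_isPGroup p ⁅H₁, R⁆)]
      exact le_inf h1 h2
    have h4 : ⁅P, R⁆ ≤ Subgroup.centralizer (Q : Set G) :=
      Subgroup.le_centralizer_iff.1 (Subgroup.commutator_eq_bot_iff_le_centralizer.1 h3)
    have h5 : P ≤ Subgroup.centralizer (Q : Set G) := hPdec.trans (sup_le h4 inf_le_right)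
    apply hnt
    rw [Subgroup.commutator_eq_bot_iff_le_centralizer]
    exact Subgroup.le_centralizer_iff.1 h5
  have hdisjRH : ∀ X : Subgroup G, X ≤ R → ∀ K : Subgroup G, K ≤ H → X ⊓ K = ⊥ := by
    intro X hX K hK
    apply inf_eq_bot_of_coprime_card
    exact ((h.hcop.coprime_dvd_left (Subgroup.card_dvd_of_le hK)).coprime_dvd_right
      (Subgroup.card_dvd_of_le hX)).symm
  have e2 : Nat.card ↥(H ⊔ R : Subgroup G) = Nat.card R * Nat.card H :=
    card_sup_of_le_normalizer (hnorm H R h.hHn) (hdisjRH R le_rfl H le_rfl)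
  rw [h.hsup] at e2
  have hH₁eq : H₁ = H := by
    apply Subgroup.eq_of_le_of_card_ge hH₁H
    have e1 : Nat.card ↥(H₁ ⊔ R : Subgroup G) = Nat.card R * Nat.card H₁ :=
      card_sup_of_le_normalizer hRH₁ (hdisjRH R le_rfl H₁ hH₁H)
    rw [htop] at e1
    exact (Nat.eq_of_mul_eq_mul_left Nat.card_pos (e1.symm.trans e2)).ge
  -- D8: the module `V`
  have hQW : Q ≤ Subgroup.normalizer (W : Set G) := hnorm W Q h.hWn
  set V : Subgroup G := ⁅W, Q⁆ with hV
  have hVW : V ≤ W := Subgroup.le_normalizer_iff_commutator_le_left.1 hQW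
  have hVn : V.Normal := by
    have hWV : W ≤ Subgroup.normalizer (V : Set G) := by
      refine le_trans ?_ (Subgroup.centralizer_le_normalizer _)
      intro w hw
      rw [Subgroup.mem_centralizer_iff]
      intro v hv
      have := hWcomm.is_comm.comm ⟨v, hVW hv⟩ ⟨w, hw⟩
      exact congrArg Subtype.val this
    have hQV : Q ≤ Subgroup.normalizer (V : Set G) :=
      le_normalizer_commutator hQW Subgroup.le_normalizer
    have hPV : P ≤ Subgroup.normalizer (V : Set G) :=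
      le_normalizer_commutator (hnorm W P h.hWn) hPQ
    have hRV : R ≤ Subgroup.normalizer (V : Set G) :=
      le_normalizer_commutator (hnorm W R h.hWn) hRQ
    have : (⊤ : Subgroup G) ≤ Subgroup.normalizer (V : Set G) := by
      rw [← htop]
      exact sup_le (sup_le (sup_le hWV hQV) hPV) hRV
    exact Subgroup.normalizer_eq_top_iff.1 (top_le_iff.1 this)
  obtain ⟨j, hj⟩ := IsPGroup.iff_card.mp hQq
  have hcopQW : (Nat.card Q).Coprime (Nat.card W) := by
    rw [hj, ha]; exact Nat.Coprime.pow _ _ hpq_cop.symm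
  obtain ⟨hdec1, hdec2⟩ := abelian_coprime_decomp Q W hQW hcopQW
  have hVQ : V ⊓ Subgroup.centralizer (Q : Set G) = ⊥ := by
    rw [eq_bot_iff, ← hdec1]
    intro x hx
    obtain ⟨h1, h2⟩ := Subgroup.mem_inf.1 hx
    exact Subgroup.mem_inf.2 ⟨Subgroup.mem_inf.2 ⟨hVW h1, h2⟩, h1⟩
  have hQV : Q ⊓ Subgroup.centralizer (V : Set G) = ⊥ := by
    rw [eq_bot_iff]
    intro x hx
    obtain ⟨hxQ, hxV⟩ := Subgroup.mem_inf.1 hx
    have h1 : W ≤ Subgroup.centralizer ({x} : Set G) := by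
      rw [← hdec2]
      apply sup_le
      · intro w hw
        rw [Subgroup.mem_centralizer_iff]
        intro z hz
        rw [Set.mem_singleton_iff] at hz
        rw [hz]
        exact Subgroup.mem_centralizer_iff.1 hw.2 x hxQ
      · intro v hv
        rw [Subgroup.mem_centralizer_iff]
        intro z hz
        rw [Set.mem_singleton_iff] at hz
        rw [hz]
        exact (Subgroup.mem_centralizer_iff.1 hxV v hv).symm
    have h2 : x ∈ Subgroup.centralizer (W : Set G) := by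
      rw [Subgroup.mem_centralizer_iff]
      intro w hw
      exact (Subgroup.mem_centralizer_iff.1 (h1 hw) x rfl).symm
    have h3 : x ∈ W := h.hCW (Subgroup.mem_inf.2 ⟨hQH hxQ, h2⟩)
    rw [← hdisjQW]
    exact Subgroup.mem_inf.2 ⟨hQQs hxQ, h3⟩
  have hPV : P ⊓ V = ⊥ := by
    rw [eq_bot_iff, ← hVQ]
    intro x hx
    obtain ⟨h1, h2⟩ := Subgroup.mem_inf.1 hx
    exact Subgroup.mem_inf.2 ⟨h2, hCQ (hPWc (Subgroup.mem_inf.2 ⟨h1, hVW h2⟩))⟩
  -- D9
  have hR₀c : R₀ = R ∨ ⁅P, R₀⁆ ≤ Subgroup.centralizer (Q : Set G) := by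
    by_cases hRR : R₀ = R
    · exact Or.inl hRR
    right
    have hne : H ⊔ R₀ ≠ ⊤ := by
      intro htop'
      have e1 : Nat.card ↥(H ⊔ R₀ : Subgroup G) = Nat.card R₀ * Nat.card H :=
        card_sup_of_le_normalizer (hnorm H R₀ h.hHn) (hdisjRH R₀ h.hR₀ H le_rfl)
      rw [htop'] at e1
      have : Nat.card R₀ = Nat.card R :=
        Nat.eq_of_mul_eq_mul_right Nat.card_pos (e1.symm.trans e2)
      exact hRR (Subgroup.eq_of_le_of_card_ge h.hR₀ this.ge)
    have hcop₀ : (Nat.card H).Coprime (Nat.card R₀) :=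
      h.hcop.coprime_dvd_right (Subgroup.card_dvd_of_le h.hR₀)
    have hpl := h.ihsub H R₀ R₀ hne (hnorm H R₀ h.hHn) hcop₀ le_rfl h.hR₀p h.hZ
    have hY'H : ⁅H, R₀⁆ ≤ H :=
      Subgroup.le_normalizer_iff_commutator_le_left.1 (hnorm H R₀ h.hHn)
    have hHY' : H ≤ Subgroup.normalizer ((⁅H, R₀⁆ : Subgroup G) : Set G) :=
      Subgroup.normalizer_commutator_ge_left H R₀
    have hPR₀P : ⁅P, R₀⁆ ≤ P :=
      Subgroup.le_normalizer_iff_commutator_le_left.1 (h.hR₀.trans hRP)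
    have hD' := le_pcoreOf_of_pLengthLE_one hWp h.hCW hY'H (h.hWH.trans hHY') hpl
      (Subgroup.commutator_mono hPH le_rfl) (hPp.to_le hPR₀P)
    have hD'W : pcoreOf p ⁅H, R₀⁆ ≤ W :=
      h.hWmax _ ((pCoreOf_le p _).trans hY'H)
        (hHY'.trans (normalizer_le_normalizer_pcoreOf p ⁅H, R₀⁆)) (pCoreOf_isPGroup p _)
    exact (le_inf hPR₀P (hD'.trans hD'W)).trans (hPWc.trans hCQ)
  exact Cfg.false (p := p) (q := q) (V := V) (Q := Q) (P := P) (R := R) (R₀ := R₀) (H := H)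
    { hV := isElementaryAbelian_of_le h.hW hVW
      hVn := hVn
      hQ := hQq
      hpq := hqp.symm
      hPQ := hPQ
      hRQ := hRQ
      hQV := hQV
      hVQ := hVQ
      hP := hPp
      hRP := hRP
      hPV := hPV
      hnt := hnt
      hmin := hmin
      hPdec := hPdec
      hVH := hVW.trans h.hWH
      hQH := hQH
      hPH := hPH
      hcop := h.hcop
      hR₀ := h.hR₀
      hR₀p := h.hR₀p
      hZ := h.hZ
      hR₀c := hR₀c } hodd

end Cfsg.Agent.Helper2.T36
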