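import Mathlib
import Cfsg.Agent.Helper2.QD1
import Cfsg.Agent.Lead.DihedralAut

set_option autoImplicit false

namespace Cfsg.Agent.Helper2.QD

variable {S : Type*} [Group S]

section nf

variable (x y : S) (m : ℕ) [NeZero m] (hx : orderOf x = m) (e : ℕ)
  (hrel : y * x * y⁻¹ = x ^ e) (hidx : (Subgroup.zpowers x).index = 2)
  (hy : y ∉ Subgroup.zpowers x) (hyy : y * y = 1)

include hyy in
theorem y_inv : y⁻¹ = y := inv_eq_of_mul_eq_one_right hyy

include hx hidx hy hyy in
theorem nf (s : S) : (∃ i : ZMod m, s = X x m i) ∨ (∃ i : ZMod m, s = X x m i * y) := by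
  by_cases hs : s ∈ Subgroup.zpowers x
  · left
    exact (mem_zpowers_iff x m hx s).mp hs
  · right
    have h1 : s * y ∈ Subgroup.zpowers x := by
      rw [Subgroup.mul_mem_iff_of_index_two hidx]
      exact ⟨fun h => absurd h hs, fun h => absurd h hy⟩
    obtain ⟨i, hi⟩ := (mem_zpowers_iff x m hx _).mp h1
    refine ⟨i, ?_⟩
    rw [← hi, mul_assoc, hyy, mul_one]

include hx hy in
theorem Xy_ne_X (i j : ZMod m) : X x m i * y ≠ X x m j := by
  intro h
  apply hy
  have : y = (X x m i)⁻¹ * X x m j := by rw [← h]; group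
  rw [this]
  exact Subgroup.mul_mem _ (Subgroup.inv_mem _ (X_mem x m hx i)) (X_mem x m hx j)

include hx hy in
theorem Xy_not_mem (i : ZMod m) : X x m i * y ∉ Subgroup.zpowers x := by
  intro h
  obtain ⟨j, hj⟩ := (mem_zpowers_iff x m hx _).mp h
  exact Xy_ne_X x y m hx hy i j hj

include hx in
theorem Xy_inj {i j : ZMod m} (h : X x m i * y = X x m j * y) : i = j :=
  X_inj x m hx (mul_right_cancel h)

include hx in
theorem mul_X_Xy (i j : ZMod m) : X x m i * (X x m j * y) = X x m (i + j) * y := by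
  rw [← mul_assoc, ← X_add x m hx]

include hx hrel in
theorem mul_Xy_X (i j : ZMod m) :
    (X x m i * y) * X x m j = X x m (i + (e : ZMod m) * j) * y := by
  rw [mul_assoc, y_mul_X x y m hx e hrel, ← mul_assoc, ← X_add x m hx]

include hx hrel hyy in
theorem mul_Xy_Xy (i j : ZMod m) :
    (X x m i * y) * (X x m j * y) = X x m (i + (e : ZMod m) * j) := by
  rw [← mul_assoc, mul_Xy_X x y m hx e hrel, mul_assoc, hyy, mul_one]

include hx hrel hyy in
theorem inv_Xy (i : ZMod m) : (X x m i * y)⁻¹ = X x m (-((e : ZMod m) * i)) * y := by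
  apply inv_eq_of_mul_eq_one_left
  rw [mul_Xy_Xy x y m hx e hrel hyy, X_eq_one_iff x m hx]
  ring

include hx hrel hyy in
theorem conj_X_by_Xy (k i : ZMod m) :
    (X x m k * y) * X x m i * (X x m k * y)⁻¹ = X x m ((e : ZMod m) * i) := by
  rw [mul_inv_rev, y_inv y hyy]
  have h1 := y_mul_X x y m hx e hrel i
  calc X x m k * y * X x m i * (y * (X x m k)⁻¹)
      = X x m k * (y * X x m i) * y * (X x m k)⁻¹ := by group
    _ = X x m k * (X x m ((e : ZMod m) * i) * y) * y * (X x m k)⁻¹ := by rw [h1]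
    _ = X x m k * X x m ((e : ZMod m) * i) * (y * y) * (X x m k)⁻¹ := by group
    _ = X x m k * X x m ((e : ZMod m) * i) * (X x m k)⁻¹ := by rw [hyy, mul_one]
    _ = X x m ((e : ZMod m) * i) := by
        rw [X_comm x m hx k, mul_assoc, mul_inv_cancel, mul_one]

include hx hrel in
theorem conj_Xy_by_X (k i : ZMod m) :
    X x m k * (X x m i * y) * (X x m k)⁻¹ = X x m (i + k - (e : ZMod m) * k) * y := by
  rw [← X_neg x m hx, mul_X_Xy x y m hx, mul_Xy_X x y m hx e hrel]
  congr 2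
  ring

include hx hrel hyy in
theorem conj_Xy_by_Xy (k i : ZMod m) :
    (X x m k * y) * (X x m i * y) * (X x m k * y)⁻¹ =
      X x m (k + (e : ZMod m) * i - (e : ZMod m) * k) * y := by
  rw [mul_Xy_Xy x y m hx e hrel hyy, inv_Xy x y m hx e hrel hyy, mul_X_Xy x y m hx]
  congr 2
  ring

end nf

section aut

variable (x y : S) (K : ℕ) (hx : orderOf x = 2 ^ K) (e : ℕ)
  (hrel : y * x * y⁻¹ = x ^ e) (hidx : (Subgroup.zpowers x).index = 2)
  (hy : y ∉ Subgroup.zpowers x) (hyy : y * y = 1)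
  (hchar : ∀ α : MulAut S, α x ∈ Subgroup.zpowers x)

include hx hidx hy hyy hchar in
/-- Automorphisms of odd order are trivial when `⟨x⟩` is a characteristic cyclic `2`-subgroup of
index two complemented by an involution. -/
theorem aut_odd_trivial (β : MulAut S) (t : ℕ) (ht : Odd t) (hβ : β ^ t = 1) : β = 1 := by
  haveI : NeZero (2 ^ K) := ⟨by positivity⟩
  obtain ⟨a, ha⟩ := (mem_zpowers_iff x (2 ^ K) hx _).mp (hchar β)
  -- action on ⟨x⟩
  have hβX : ∀ i : ZMod (2 ^ K), β (X x (2 ^ K) i) = X x (2 ^ K) (i * a) := by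
    intro i
    have h1 : β (X x (2 ^ K) i) = (β x) ^ i.val := by
      unfold X; exact map_pow β x _
    rw [h1, ha, X_pow x (2 ^ K) hx, ZMod.natCast_zmod_val]
  have hpow : ∀ k : ℕ, ∀ i : ZMod (2 ^ K), (β ^ k) (X x (2 ^ K) i) = X x (2 ^ K) (i * a ^ k) := by
    intro k
    induction k with
    | zero => intro i; simp
    | succ k ih =>
      intro i
      rw [pow_succ', MulAut.mul_apply, ih, hβX]
      congr 1
      ring
  have ha1 : a = 1 := by
    apply Cfsg.Agent.Lead.zmod_two_pow_eq_one_of_odd_pow (2 ^ K) K rfl a t ht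
    have h1 := hpow t 1
    rw [hβ, MulAut.one_apply, one_mul] at h1
    exact (X_inj x (2 ^ K) hx h1).symm
  have hfix : ∀ i : ZMod (2 ^ K), β (X x (2 ^ K) i) = X x (2 ^ K) i := by
    intro i; rw [hβX, ha1, mul_one]
  -- action on y
  have hβy : β y ∉ Subgroup.zpowers x := by
    intro h
    obtain ⟨j, hj⟩ := (mem_zpowers_iff x (2 ^ K) hx _).mp h
    apply hy
    have h2 : y = β⁻¹ (X x (2 ^ K) j) := by rw [← hj]; simp
    rw [h2]
    have h3 : β⁻¹ (X x (2 ^ K) j) = (β⁻¹ x) ^ j.val := by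
      unfold X; exact map_pow _ x _
    rw [h3]
    exact Subgroup.pow_mem _ (hchar β⁻¹) _
  obtain ⟨c, hc⟩ : ∃ c : ZMod (2 ^ K), β y = X x (2 ^ K) c * y := by
    rcases nf x y (2 ^ K) hx hidx hy hyy (β y) with ⟨i, hi⟩ | ⟨i, hi⟩
    · exact absurd (hi ▸ X_mem x (2 ^ K) hx i) hβy
    · exact ⟨i, hi⟩
  have hpowy : ∀ k : ℕ, (β ^ k) y = X x (2 ^ K) ((k : ZMod (2 ^ K)) * c) * y := by
    intro k
    induction k with
    | zero => simp [X_zero x (2 ^ K) hx]
    | succ k ih =>
      rw [pow_succ', MulAut.mul_apply, ih, map_mul, hfix, hc, ← mul_assoc, ← X_add x (2 ^ K) hx]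
      congr 2
      push_cast
      ring
  have hc0 : c = 0 := by
    apply Cfsg.Agent.Lead.zmod_two_pow_eq_zero_of_odd_mul (2 ^ K) K rfl c t ht
    have h1 := hpowy t
    rw [hβ, MulAut.one_apply] at h1
    have h2 : X x (2 ^ K) ((t : ZMod (2 ^ K)) * c) = 1 := by
      have : X x (2 ^ K) ((t : ZMod (2 ^ K)) * c) * y = 1 * y := by rw [one_mul]; exact h1.symm
      exact mul_right_cancel this
    exact (X_eq_one_iff x (2 ^ K) hx).mp h2
  have hfixy : β y = y := by rw [hc, hc0, X_zero x (2 ^ K) hx, one_mul]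
  ext s
  rw [MulAut.one_apply]
  rcases nf x y (2 ^ K) hx hidx hy hyy s with ⟨i, rfl⟩ | ⟨i, rfl⟩
  · exact hfix i
  · rw [map_mul, hfix, hfixy]

end aut

end Cfsg.Agent.Helper2.QD
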