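import Mathlib
import Cfsg.Prelude.Def_CaseTheorems
import Cfsg.Agent.Helper2.QD2

set_option autoImplicit false

namespace Cfsg.Agent.Helper2.QD

variable {S : Type*} [Group S]

/-- Data of a quasi-dihedral group. -/
structure QDat (S : Type*) [Group S] where
  n : ℕ
  x : S
  y : S
  hn : 3 ≤ n
  card : Nat.card S = 2 ^ (n + 1)
  hx : orderOf x = 2 ^ n
  hyo : orderOf y = 2
  hrel : y * x * y⁻¹ = x ^ (2 ^ (n - 1) - 1)

theorem exists_dat (h : Cfsg.IsQuasiDihedral S) : Nonempty (QDat S) := by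
  obtain ⟨n, hn, hc, x, y, hx, hy, hrel⟩ := h
  exact ⟨⟨n, x, y, hn, hc, hx, hy, hrel⟩⟩

namespace QDat

variable (d : QDat S)

instance : NeZero (2 ^ d.n) := ⟨by positivity⟩

/-- the exponent modulus -/
abbrev m : ℕ := 2 ^ d.n

/-- half of the modulus -/
def h : ZMod (2 ^ d.n) := ((2 ^ (d.n - 1) : ℕ) : ZMod (2 ^ d.n))

/-- the twisting exponent -/
def E : ZMod (2 ^ d.n) := ((2 ^ (d.n - 1) - 1 : ℕ) : ZMod (2 ^ d.n))

/-- a quarter of the modulus -/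
def q : ZMod (2 ^ d.n) := ((2 ^ (d.n - 2) : ℕ) : ZMod (2 ^ d.n))

theorem E_eq : d.E = d.h - 1 := by
  unfold E h
  rw [Nat.cast_sub (Nat.one_le_two_pow), Nat.cast_one]

theorem two_q : 2 * d.q = d.h := by
  unfold q h
  have hn := d.hn
  have : 2 * 2 ^ (d.n - 2) = 2 ^ (d.n - 1) := by
    rw [← pow_succ']; congr 1; omega
  rw [← this]; push_cast; ring

theorem two_h : 2 * d.h = 0 := by
  unfold h
  have hn := d.hn
  have : 2 * 2 ^ (d.n - 1) = 2 ^ d.n := by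
    rw [← pow_succ']; congr 1; omega
  have h2 : ((2 * 2 ^ (d.n - 1) : ℕ) : ZMod (2 ^ d.n)) = 0 := by
    rw [this]; exact ZMod.natCast_self _
  rw [← h2]; push_cast; ring

theorem h_ne_zero : d.h ≠ 0 := by
  unfold h
  rw [Ne, ZMod.natCast_eq_zero_iff]
  intro hd
  have h1 := Nat.le_of_dvd (by positivity) hd
  have hn := d.hn
  have h2 : 2 ^ (d.n - 1) < 2 ^ d.n := Nat.pow_lt_pow_right (by norm_num) (by omega)
  omega

theorem h_mul_q : d.h * d.q = 0 := by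
  unfold h q
  have hn := d.hn
  have : 2 ^ (d.n - 1) * 2 ^ (d.n - 2) = 2 ^ d.n * 2 ^ (d.n - 3) := by
    rw [← pow_add, ← pow_add]; congr 1; omega
  rw [← Nat.cast_mul, this, Nat.cast_mul, ZMod.natCast_self, zero_mul]

theorem h_sq : d.h * d.h = 0 := by
  rw [← d.two_q]
  calc 2 * d.q * (2 * d.q) = 2 * (2 * d.q * d.q) := by ring
    _ = 2 * (d.h * d.q) := by rw [d.two_q]
    _ = 0 := by rw [d.h_mul_q, mul_zero]

theorem E_sq : d.E * d.E = 1 := by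
  rw [d.E_eq]
  calc (d.h - 1) * (d.h - 1) = d.h * d.h - 2 * d.h + 1 := by ring
    _ = 1 := by rw [d.h_sq, d.two_h]; ring

theorem one_add_E : 1 + d.E = d.h := by rw [d.E_eq]; ring

theorem h_ne_two : d.h ≠ 2 := by
  unfold h
  have hn := d.hn
  intro hh
  have h1 : ((2 ^ (d.n - 1) : ℕ) : ZMod (2 ^ d.n)) = ((2 : ℕ) : ZMod (2 ^ d.n)) := by
    rw [hh]; norm_num
  rw [ZMod.natCast_eq_natCast_iff'] at h1
  have h2 : 2 ^ (d.n - 1) < 2 ^ d.n := Nat.pow_lt_pow_right (by norm_num) (by omega)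
  have h3 : 2 ^ 2 ≤ 2 ^ (d.n - 1) := Nat.pow_le_pow_right (by norm_num) (by omega)
  have h4 : (2 : ℕ) < 2 ^ d.n := by omega
  rw [Nat.mod_eq_of_lt h2, Nat.mod_eq_of_lt h4] at h1
  omega

variable [Finite S]

theorem hidx : (Subgroup.zpowers d.x).index = 2 := by
  have h1 := (Subgroup.zpowers d.x).card_mul_index
  rw [Nat.card_zpowers, d.hx, d.card, pow_succ] at h1
  exact Nat.eq_of_mul_eq_mul_left (by positivity) h1

theorem hyy : d.y * d.y = 1 := by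
  have := pow_orderOf_eq_one d.y
  rw [d.hyo, pow_two] at this
  exact this

theorem hrel' : d.y * d.x * d.y⁻¹ = d.x ^ (2 ^ (d.n - 1) - 1) := d.hrel

theorem hy : d.y ∉ Subgroup.zpowers d.x := by
  intro hmem
  obtain ⟨k, hk⟩ := (mem_zpowers_iff d.x (2 ^ d.n) d.hx _).mp hmem
  have h1 := conj_X d.x d.y (2 ^ d.n) d.hx _ d.hrel 1
  rw [hk] at h1
  have h2 : X d.x (2 ^ d.n) k * X d.x (2 ^ d.n) 1 * (X d.x (2 ^ d.n) k)⁻¹ = X d.x (2 ^ d.n) 1 := by
    rw [X_comm d.x _ d.hx, mul_assoc, mul_inv_cancel, mul_one]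
  rw [h2] at h1
  have h3 := X_inj d.x _ d.hx h1
  rw [mul_one] at h3
  have h4 : d.E = 1 := h3.symm
  rw [d.E_eq] at h4
  apply d.h_ne_two
  calc d.h = (d.h - 1) + 1 := by ring
    _ = 2 := by rw [h4]; norm_num

/-- normal form -/
theorem nf (s : S) : (∃ i : ZMod (2 ^ d.n), s = X d.x (2 ^ d.n) i) ∨
    (∃ i : ZMod (2 ^ d.n), s = X d.x (2 ^ d.n) i * d.y) :=
  QD.nf d.x d.y (2 ^ d.n) d.hx d.hidx d.hy d.hyy s

end QDat

end Cfsg.Agent.Helper2.QD
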