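import Mathlib
import Cfsg.Agent.Helper2.QD3

set_option autoImplicit false

namespace Cfsg.Agent.Helper2.QD

variable {S : Type*} [Group S]

namespace QDat

variable (d : QDat S)

/-! ### arithmetic in `ZMod (2 ^ n)` -/

/-- parity -/
def par : ZMod (2 ^ d.n) →+* ZMod 2 :=
  ZMod.castHom (dvd_pow_self 2 (by have := d.hn; omega)) (ZMod 2)

theorem par_two_mul (j : ZMod (2 ^ d.n)) : d.par (2 * j) = 0 := by
  rw [map_mul]
  have : d.par 2 = 0 := by
    have h1 : d.par 2 = (2 : ZMod 2) := map_ofNat d.par 2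
    rw [h1]; decide
  rw [this, zero_mul]

theorem par_two_mul_add_one (j : ZMod (2 ^ d.n)) : d.par (2 * j + 1) = 1 := by
  rw [map_add, par_two_mul, map_one, zero_add]

theorem even_ne_odd (j j' : ZMod (2 ^ d.n)) : 2 * j ≠ 2 * j' + 1 := by
  intro h
  have := congrArg d.par h
  rw [par_two_mul, par_two_mul_add_one] at this
  exact absurd this (by decide)

theorem even_or_odd (i : ZMod (2 ^ d.n)) : (∃ j, i = 2 * j) ∨ (∃ j, i = 2 * j + 1) := by
  rcases Nat.even_or_odd' i.val with ⟨k, hk | hk⟩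
  · left
    refine ⟨(k : ZMod (2 ^ d.n)), ?_⟩
    calc i = ((i.val : ℕ) : ZMod (2 ^ d.n)) := (ZMod.natCast_zmod_val i).symm
      _ = ((2 * k : ℕ) : ZMod (2 ^ d.n)) := by rw [hk]
      _ = 2 * (k : ZMod (2 ^ d.n)) := by push_cast; ring
  · right
    refine ⟨(k : ZMod (2 ^ d.n)), ?_⟩
    calc i = ((i.val : ℕ) : ZMod (2 ^ d.n)) := (ZMod.natCast_zmod_val i).symm
      _ = ((2 * k + 1 : ℕ) : ZMod (2 ^ d.n)) := by rw [hk]
      _ = 2 * (k : ZMod (2 ^ d.n)) + 1 := by push_cast; ring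

theorem h_mul_even (j : ZMod (2 ^ d.n)) : d.h * (2 * j) = 0 := by
  calc d.h * (2 * j) = (2 * d.h) * j := by ring
    _ = 0 := by rw [d.two_h, zero_mul]

theorem h_mul_odd (j : ZMod (2 ^ d.n)) : d.h * (2 * j + 1) = d.h := by
  rw [mul_add, h_mul_even, mul_one, zero_add]

theorem two_mul_eq_zero_iff (k : ZMod (2 ^ d.n)) : 2 * k = 0 ↔ k = 0 ∨ k = d.h := by
  constructor
  · intro hk
    have hkv : k = ((k.val : ℕ) : ZMod (2 ^ d.n)) := (ZMod.natCast_zmod_val k).symm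
    have h1 : ((2 * k.val : ℕ) : ZMod (2 ^ d.n)) = 0 := by
      push_cast; rw [ZMod.natCast_zmod_val]; exact hk
    have hlt := ZMod.val_lt k
    obtain ⟨a, ha⟩ : ∃ a, a = k.val := ⟨_, rfl⟩
    rw [← ha] at h1 hlt hkv
    rw [ZMod.natCast_eq_zero_iff] at h1
    have hn := d.hn
    have e : 2 ^ d.n = 2 * 2 ^ (d.n - 1) := by rw [← pow_succ']; congr 1; omega
    rw [e] at h1 hlt
    have h2 : 2 ^ (d.n - 1) ∣ a := (Nat.mul_dvd_mul_iff_left (by norm_num)).mp h1
    obtain ⟨c, hc⟩ := h2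
    have hpos : 0 < 2 ^ (d.n - 1) := by positivity
    have hc2 : c < 2 := by
      by_contra hge
      push Not at hge
      have : 2 ^ (d.n - 1) * 2 ≤ 2 ^ (d.n - 1) * c := Nat.mul_le_mul_left _ hge
      omega
    interval_cases c
    · left
      rw [hkv, hc, mul_zero, Nat.cast_zero]
    · right
      rw [hkv, hc, mul_one]
      rfl
  · rintro (rfl | rfl)
    · simp
    · exact d.two_h

theorem q_cube : d.q * d.q * d.q = 0 := by
  unfold q
  have hn := d.hn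
  have : 2 ^ (d.n - 2) * 2 ^ (d.n - 2) * 2 ^ (d.n - 2) = 2 ^ d.n * 2 ^ (2 * d.n - 6) := by
    rw [← pow_add, ← pow_add, ← pow_add]; congr 1; omega
  rw [← Nat.cast_mul, ← Nat.cast_mul, this, Nat.cast_mul, ZMod.natCast_self, zero_mul]

/-- inverse of the unit `1 - q` -/
def u : ZMod (2 ^ d.n) := 1 + d.q + d.q * d.q

theorem one_sub_q_mul_u : (1 - d.q) * d.u = 1 := by
  unfold u
  calc (1 - d.q) * (1 + d.q + d.q * d.q) = 1 - d.q * d.q * d.q := by ring
    _ = 1 := by rw [d.q_cube, sub_zero]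

theorem one_sub_E : 1 - d.E = 2 * (1 - d.q) := by
  rw [d.E_eq, ← d.two_q]; ring

theorem one_sub_E_mul_eq_zero_iff (k : ZMod (2 ^ d.n)) :
    (1 - d.E) * k = 0 ↔ k = 0 ∨ k = d.h := by
  rw [← d.two_mul_eq_zero_iff, d.one_sub_E]
  constructor
  · intro h
    calc 2 * k = ((1 - d.q) * d.u) * (2 * k) := by rw [d.one_sub_q_mul_u, one_mul]
      _ = d.u * (2 * (1 - d.q) * k) := by ring
      _ = 0 := by rw [h, mul_zero]
  · intro h
    calc 2 * (1 - d.q) * k = (1 - d.q) * (2 * k) := by ring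
      _ = 0 := by rw [h, mul_zero]

theorem one_sub_E_mul_u (c : ZMod (2 ^ d.n)) : (1 - d.E) * (d.u * c) = 2 * c := by
  rw [d.one_sub_E]
  calc 2 * (1 - d.q) * (d.u * c) = 2 * (((1 - d.q) * d.u) * c) := by ring
    _ = 2 * c := by rw [d.one_sub_q_mul_u, one_mul]

theorem E_mul_h : d.E * d.h = d.h := by
  rw [d.E_eq]
  calc (d.h - 1) * d.h = d.h * d.h - 2 * d.h + d.h := by ring
    _ = d.h := by rw [d.h_sq, d.two_h]; ring

theorem E_mul_q : d.E * d.q = -d.q := by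
  rw [d.E_eq]
  calc (d.h - 1) * d.q = d.h * d.q - d.q := by ring
    _ = -d.q := by rw [d.h_mul_q]; ring

theorem neg_h : -d.h = d.h := by
  rw [neg_eq_iff_add_eq_zero, ← two_mul]
  exact d.two_h

theorem E_ne_one : d.E ≠ 1 := by
  intro h4
  rw [d.E_eq] at h4
  apply d.h_ne_two
  calc d.h = (d.h - 1) + 1 := by ring
    _ = 2 := by rw [h4]; norm_num

theorem E_cast : ((2 ^ (d.n - 1) - 1 : ℕ) : ZMod (2 ^ d.n)) = d.E := rfl

end QDat

end Cfsg.Agent.Helper2.QD
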