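import Mathlib
import Cfsg.Agent.Helper2.QD4

set_option autoImplicit false

namespace Cfsg.Agent.Helper2.QD

variable {S : Type*} [Group S]

namespace QDat

variable (d : QDat S)

/-- rotations `x ^ i` -/
def a (i : ZMod (2 ^ d.n)) : S := X d.x (2 ^ d.n) i

/-- the other coset `x ^ i * y` -/
def b (i : ZMod (2 ^ d.n)) : S := X d.x (2 ^ d.n) i * d.y

theorem a_add (i j : ZMod (2 ^ d.n)) : d.a (i + j) = d.a i * d.a j := X_add d.x _ d.hx i j

theorem a_zero : d.a 0 = 1 := X_zero d.x _ d.hx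

theorem a_one : d.a 1 = d.x := X_one d.x _ d.hx

theorem a_inv (i : ZMod (2 ^ d.n)) : (d.a i)⁻¹ = d.a (-i) := (X_neg d.x _ d.hx i).symm

theorem a_inj {i j : ZMod (2 ^ d.n)} (h : d.a i = d.a j) : i = j := X_inj d.x _ d.hx h

theorem a_eq_one_iff {i : ZMod (2 ^ d.n)} : d.a i = 1 ↔ i = 0 := X_eq_one_iff d.x _ d.hx

theorem a_mem (i : ZMod (2 ^ d.n)) : d.a i ∈ Subgroup.zpowers d.x := X_mem d.x _ d.hx i

theorem a_pow (i : ZMod (2 ^ d.n)) (k : ℕ) : (d.a i) ^ k = d.a ((k : ZMod (2 ^ d.n)) * i) :=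
  X_pow d.x _ d.hx i k

theorem mem_zpowers_iff (s : S) : s ∈ Subgroup.zpowers d.x ↔ ∃ i, s = d.a i :=
  QD.mem_zpowers_iff d.x _ d.hx s

theorem b_inj {i j : ZMod (2 ^ d.n)} (h : d.b i = d.b j) : i = j := Xy_inj d.x d.y _ d.hx h

theorem a_mul_b (i j : ZMod (2 ^ d.n)) : d.a i * d.b j = d.b (i + j) :=
  mul_X_Xy d.x d.y _ d.hx i j

theorem b_mul_a (i j : ZMod (2 ^ d.n)) : d.b i * d.a j = d.b (i + d.E * j) :=
  mul_Xy_X d.x d.y _ d.hx _ d.hrel i j

variable [Finite S]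

theorem b_ne_a (i j : ZMod (2 ^ d.n)) : d.b i ≠ d.a j := Xy_ne_X d.x d.y _ d.hx d.hy i j

theorem b_not_mem (i : ZMod (2 ^ d.n)) : d.b i ∉ Subgroup.zpowers d.x :=
  Xy_not_mem d.x d.y _ d.hx d.hy i

theorem b_mul_b (i j : ZMod (2 ^ d.n)) : d.b i * d.b j = d.a (i + d.E * j) :=
  mul_Xy_Xy d.x d.y _ d.hx _ d.hrel d.hyy i j

theorem b_inv (i : ZMod (2 ^ d.n)) : (d.b i)⁻¹ = d.b (-(d.E * i)) :=
  inv_Xy d.x d.y _ d.hx _ d.hrel d.hyy i

theorem b_zero : d.b 0 = d.y := by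
  unfold b; rw [X_zero d.x _ d.hx, one_mul]

theorem nf' (s : S) : (∃ i, s = d.a i) ∨ (∃ i, s = d.b i) := d.nf s

theorem conj_a_a (k i : ZMod (2 ^ d.n)) : d.a k * d.a i * (d.a k)⁻¹ = d.a i := by
  rw [a_inv, ← a_add, ← a_add]; congr 1; ring

theorem conj_b_a (k i : ZMod (2 ^ d.n)) : d.b k * d.a i * (d.b k)⁻¹ = d.a (d.E * i) :=
  conj_X_by_Xy d.x d.y _ d.hx _ d.hrel d.hyy k i

theorem conj_a_b (k i : ZMod (2 ^ d.n)) :
    d.a k * d.b i * (d.a k)⁻¹ = d.b (i + (1 - d.E) * k) := by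
  rw [a_inv, a_mul_b, b_mul_a]; congr 1; ring

theorem conj_b_b (k i : ZMod (2 ^ d.n)) :
    d.b k * d.b i * (d.b k)⁻¹ = d.b (d.E * i + (1 - d.E) * k) := by
  rw [b_inv, b_mul_b, a_mul_b]; congr 1
  have := d.E_sq
  calc k + d.E * i + -(d.E * k) = d.E * i + (1 - d.E) * k := by ring

theorem b_sq (i : ZMod (2 ^ d.n)) : d.b i * d.b i = d.a (d.h * i) := by
  rw [b_mul_b, ← d.one_add_E]; congr 1; ring

/-- the central involution -/
def z : S := d.a d.h

theorem z_ne_one : d.z ≠ 1 := by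
  unfold z; rw [Ne, d.a_eq_one_iff]; exact d.h_ne_zero

theorem z_sq : d.z * d.z = 1 := by
  unfold z; rw [← a_add, ← two_mul, d.two_h, a_zero]

theorem orderOf_z : orderOf d.z = 2 := by
  rw [orderOf_eq_prime_iff]
  exact ⟨by rw [pow_two]; exact d.z_sq, d.z_ne_one⟩

theorem z_comm_b (i : ZMod (2 ^ d.n)) : d.z * d.b i = d.b i * d.z := by
  unfold z
  rw [a_mul_b, b_mul_a, d.E_mul_h, add_comm]

theorem z_comm_a (i : ZMod (2 ^ d.n)) : d.z * d.a i = d.a i * d.z := by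
  unfold z
  rw [← a_add, ← a_add, add_comm]

theorem z_central (s : S) : d.z * s = s * d.z := by
  rcases d.nf' s with ⟨i, rfl⟩ | ⟨i, rfl⟩
  · exact d.z_comm_a i
  · exact d.z_comm_b i

theorem orderOf_b_even (j : ZMod (2 ^ d.n)) : orderOf (d.b (2 * j)) = 2 := by
  rw [orderOf_eq_prime_iff]
  refine ⟨?_, ?_⟩
  · rw [pow_two, b_sq, d.h_mul_even, a_zero]
  · intro h
    exact d.b_ne_a _ 0 (by rw [h, a_zero])

theorem b_odd_sq (j : ZMod (2 ^ d.n)) : d.b (2 * j + 1) * d.b (2 * j + 1) = d.z := by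
  rw [b_sq, d.h_mul_odd]; rfl

theorem orderOf_b_odd (j : ZMod (2 ^ d.n)) : orderOf (d.b (2 * j + 1)) = 4 := by
  have h4 : (4 : ℕ) = 2 ^ (1 + 1) := by norm_num
  rw [h4]
  apply orderOf_eq_prime_pow
  · rw [pow_one, pow_two, b_odd_sq]; exact d.z_ne_one
  · rw [show (2 : ℕ) ^ (1 + 1) = 2 + 2 from rfl, pow_add, pow_two, b_odd_sq, d.z_sq]

theorem orderOf_a_eq_two_iff (i : ZMod (2 ^ d.n)) : orderOf (d.a i) = 2 ↔ i = d.h := by
  rw [orderOf_eq_prime_iff, pow_two, ← a_add, ← two_mul, a_eq_one_iff, Ne, a_eq_one_iff,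
    d.two_mul_eq_zero_iff]
  constructor
  · rintro ⟨h1 | h1, h2⟩
    · exact absurd h1 h2
    · exact h1
  · intro h1
    exact ⟨Or.inr h1, by rw [h1]; exact d.h_ne_zero⟩

/-- classification of involutions -/
theorem orderOf_eq_two_iff (s : S) : orderOf s = 2 ↔ s = d.z ∨ ∃ j, s = d.b (2 * j) := by
  constructor
  · intro hs
    rcases d.nf' s with ⟨i, rfl⟩ | ⟨i, rfl⟩
    · left
      rw [(d.orderOf_a_eq_two_iff i).mp hs]; rfl
    · right
      rcases d.even_or_odd i with ⟨j, rfl⟩ | ⟨j, rfl⟩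
      · exact ⟨j, rfl⟩
      · rw [d.orderOf_b_odd] at hs; omega
  · rintro (rfl | ⟨j, rfl⟩)
    · exact d.orderOf_z
    · exact d.orderOf_b_even j

theorem orderOf_a_eq_four_iff (i : ZMod (2 ^ d.n)) :
    orderOf (d.a i) = 4 ↔ i = d.q ∨ i = d.q + d.h := by
  have key : 2 * i = d.h ↔ i = d.q ∨ i = d.q + d.h := by
    constructor
    · intro h
      have h1 : 2 * (i - d.q) = 0 := by rw [mul_sub, h, d.two_q, sub_self]
      rcases (d.two_mul_eq_zero_iff _).mp h1 with h2 | h2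
      · left; exact sub_eq_zero.mp h2
      · right; rw [← h2]; ring
    · rintro (rfl | rfl)
      · exact d.two_q
      · rw [mul_add, d.two_q, d.two_h, add_zero]
  rw [← key]
  constructor
  · intro hs
    have h4 : (d.a i) ^ 4 = 1 := by rw [← hs]; exact pow_orderOf_eq_one _
    have h2 : (d.a i) ^ 2 ≠ 1 := by
      intro h
      have := orderOf_dvd_of_pow_eq_one h
      rw [hs] at this
      omega
    rw [a_pow, a_eq_one_iff] at h4
    rw [a_pow, Ne, a_eq_one_iff] at h2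
    have h4' : 2 * (2 * i) = 0 := by
      have : ((4 : ℕ) : ZMod (2 ^ d.n)) * i = 2 * (2 * i) := by push_cast; ring
      rw [← this]; exact h4
    rcases (d.two_mul_eq_zero_iff _).mp h4' with h | h
    · exfalso; apply h2; push_cast; exact h
    · exact h
  · intro h
    have h4 : (4 : ℕ) = 2 ^ (1 + 1) := by norm_num
    rw [h4]
    apply orderOf_eq_prime_pow
    · rw [pow_one, a_pow, a_eq_one_iff]; push_cast; rw [h]; exact d.h_ne_zero
    · rw [a_pow, a_eq_one_iff]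
      have : ((2 ^ (1 + 1) : ℕ) : ZMod (2 ^ d.n)) * i = 2 * (2 * i) := by push_cast; ring
      rw [this, h, d.two_h]

end QDat

end Cfsg.Agent.Helper2.QD
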