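import Mathlib
import Cfsg.Agent.Helper2.QD5

set_option autoImplicit false

namespace Cfsg.Agent.Helper2.QD

variable {S : Type*} [Group S]

namespace QDat

variable (d : QDat S) [Finite S]

theorem neg_q : -d.q = d.q + d.h := by
  rw [← d.two_q]
  have := d.two_h
  rw [← d.two_q] at this
  linear_combination (-1 : ZMod (2 ^ d.n)) * this

theorem normal_zpowers : (Subgroup.zpowers d.x).Normal := Subgroup.normal_of_index_eq_two d.hidx

theorem b_even_conj (i j : ZMod (2 ^ d.n)) :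
    d.a (d.u * j) * d.b i * (d.a (d.u * j))⁻¹ = d.b (i + 2 * j) := by
  rw [conj_a_b, d.one_sub_E_mul_u]

theorem isConj_b_even (j : ZMod (2 ^ d.n)) : IsConj (d.b (2 * j)) (d.b 0) := by
  rw [isConj_comm, isConj_iff]
  exact ⟨_, by rw [d.b_even_conj 0 j, zero_add]⟩

theorem isConj_b_odd (j : ZMod (2 ^ d.n)) : IsConj (d.b (2 * j + 1)) (d.b 1) := by
  rw [isConj_comm, isConj_iff]
  exact ⟨_, by rw [d.b_even_conj 1 j, add_comm]⟩

theorem not_isConj_a_b (i j : ZMod (2 ^ d.n)) : ¬ IsConj (d.a i) (d.b j) := by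
  intro h
  obtain ⟨c, hc⟩ := isConj_iff.mp h
  have := d.normal_zpowers.conj_mem _ (d.a_mem i) c
  rw [hc] at this
  exact d.b_not_mem j this

theorem isConj_a_neg_q : IsConj (d.a (d.q + d.h)) (d.a d.q) := by
  rw [isConj_comm, isConj_iff]
  refine ⟨d.b 0, ?_⟩
  rw [conj_b_a, d.E_mul_q, d.neg_q]

end QDat

end Cfsg.Agent.Helper2.QD
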