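import Mathlib
import Cfsg.Agent.Helper2.QD6

set_option autoImplicit false

namespace Cfsg.Agent.Helper2.QD

open scoped commutatorElement

theorem isCoatom_of_index_two {G : Type*} [Group G] (K : Subgroup G) (h : K.index = 2) :
    IsCoatom K := by
  constructor
  · intro htop
    rw [htop, Subgroup.index_top] at h
    omega
  · intro L hL
    have h1 : L.index ∣ K.index := Subgroup.index_dvd_of_le hL.le
    rw [h] at h1
    rcases (Nat.dvd_prime Nat.prime_two).mp h1 with h2 | h2
    · exact Subgroup.index_eq_one.mp h2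
    · exfalso
      have h3 : K.relIndex L = 1 := by
        have := Subgroup.relIndex_mul_index hL.le
        rw [h, h2] at this
        omega
      have := Subgroup.relIndex_eq_one.mp h3
      exact absurd this (not_le_of_gt hL)

variable {S : Type*} [Group S]

namespace QDat

variable (d : QDat S) [Finite S]

/-- the subgroup `⟨x²⟩` -/
def D : Subgroup S := Subgroup.zpowers (d.a 2)

theorem a_two : d.a 2 = d.x ^ 2 := by
  have := X_natCast d.x (2 ^ d.n) d.hx 2
  unfold a
  rw [← this]; norm_num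

theorem a_even_eq_pow (j : ZMod (2 ^ d.n)) : d.a (2 * j) = (d.a 2) ^ j.val := by
  rw [a_pow, ZMod.natCast_zmod_val, mul_comm]

theorem a_even_mem_D (j : ZMod (2 ^ d.n)) : d.a (2 * j) ∈ d.D := by
  rw [a_even_eq_pow]
  exact Subgroup.pow_mem _ (Subgroup.mem_zpowers _) _

theorem mem_D_iff (s : S) : s ∈ d.D ↔ ∃ j, s = d.a (2 * j) := by
  constructor
  · intro h
    obtain ⟨k, hk⟩ := Subgroup.mem_zpowers_iff.mp h
    -- s = (a 2)^k ∈ zpowers x, so s = a i; and parity
    have h1 : s ∈ Subgroup.zpowers d.x := by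
      rw [← hk]
      exact Subgroup.zpow_mem _ (d.a_mem 2) k
    obtain ⟨i, rfl⟩ := (d.mem_zpowers_iff s).mp h1
    rcases d.even_or_odd i with ⟨j, hj⟩ | ⟨j, hj⟩
    · exact ⟨j, by rw [hj]⟩
    · exfalso
      -- (a 2)^k has (2^(n-1))-th power trivial
      have h2 : (d.a i) ^ (2 ^ (d.n - 1)) = 1 := by
        rw [← hk, ← zpow_natCast, ← zpow_mul, mul_comm, zpow_mul, zpow_natCast, a_pow,
          show ((2 ^ (d.n - 1) : ℕ) : ZMod (2 ^ d.n)) = d.h from rfl, mul_comm,
          d.two_h, a_zero, one_zpow]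
      rw [a_pow, show ((2 ^ (d.n - 1) : ℕ) : ZMod (2 ^ d.n)) = d.h from rfl, hj, d.h_mul_odd,
        a_eq_one_iff] at h2
      exact d.h_ne_zero h2
  · rintro ⟨j, rfl⟩
    exact d.a_even_mem_D j

theorem card_D : Nat.card d.D = 2 ^ (d.n - 1) := by
  unfold D
  rw [Nat.card_zpowers, d.a_two, orderOf_pow, d.hx]
  have hn := d.hn
  have e : 2 ^ d.n = 2 * 2 ^ (d.n - 1) := by rw [← pow_succ']; congr 1; omega
  have hg : Nat.gcd (2 ^ d.n) 2 = 2 := by
    rw [e]; exact Nat.gcd_mul_right_left _ _
  rw [hg, e, Nat.mul_div_cancel_left _ (by norm_num)]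

theorem D_le_zpowers : d.D ≤ Subgroup.zpowers d.x := by
  intro s hs
  obtain ⟨j, rfl⟩ := (d.mem_D_iff s).mp hs
  exact d.a_mem _

theorem D_le_commutator : d.D ≤ commutator S := by
  intro s hs
  obtain ⟨j, rfl⟩ := (d.mem_D_iff s).mp hs
  have h1 : ⁅d.a (d.u * j), d.b 0⁆ = d.a (2 * j) := by
    rw [commutatorElement_def, d.b_even_conj 0 j, b_inv, b_mul_b]
    congr 1
    ring
  rw [← h1, commutator_def]
  exact Subgroup.commutator_mem_commutator (Subgroup.mem_top _) (Subgroup.mem_top _)

theorem commutator_le_D : commutator S ≤ d.D := by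
  rw [commutator_def, Subgroup.commutator_le]
  intro g _ k _
  rw [commutatorElement_def]
  rcases d.nf' g with ⟨i, rfl⟩ | ⟨i, rfl⟩ <;> rcases d.nf' k with ⟨j, rfl⟩ | ⟨j, rfl⟩
  · rw [a_inv, a_inv, ← a_add, ← a_add, ← a_add]
    have : i + j + -i + -j = 2 * 0 := by ring
    rw [this]; exact d.a_even_mem_D 0
  · rw [conj_a_b, b_inv, b_mul_b, d.one_sub_E]
    have : j + 2 * (1 - d.q) * i + d.E * -(d.E * j) = 2 * ((1 - d.q) * i) := by
      have := d.E_sq
      linear_combination (-j) * this
    rw [this]; exact d.a_even_mem_D _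
  · rw [conj_b_a, a_inv, ← a_add]
    have : d.E * j + -j = 2 * ((d.q - 1) * j) := by
      have := d.one_sub_E
      linear_combination (-j) * this
    rw [this]; exact d.a_even_mem_D _
  · rw [conj_b_b, b_inv, b_mul_b, d.one_sub_E]
    have : d.E * j + 2 * (1 - d.q) * i + d.E * -(d.E * j) =
        2 * ((1 - d.q) * i + (d.q - 1) * j) := by
      have h1 := d.E_sq
      have h2 := d.one_sub_E
      linear_combination (-j) * h1 + (-j) * h2
    rw [this]; exact d.a_even_mem_D _

theorem commutator_eq_D : commutator S = d.D :=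
  le_antisymm d.commutator_le_D d.D_le_commutator

/-- slicing a subgroup by the cyclic subgroup of index two -/
theorem card_eq_two_mul_inf (K : Subgroup S) (hK : ¬ K ≤ Subgroup.zpowers d.x) :
    Nat.card K = 2 * Nat.card (Subgroup.zpowers d.x ⊓ K : Subgroup S) := by
  haveI := d.normal_zpowers
  have h1 : (Subgroup.zpowers d.x).relIndex K ∣ 2 := by
    have := Subgroup.relIndex_dvd_index_of_normal (Subgroup.zpowers d.x) K
    rwa [d.hidx] at this
  have h2 : (Subgroup.zpowers d.x).relIndex K ≠ 1 := by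
    intro h
    exact hK (Subgroup.relIndex_eq_one.mp h)
  have h3 : (Subgroup.zpowers d.x).relIndex K = 2 := by
    rcases (Nat.dvd_prime Nat.prime_two).mp h1 with h | h
    · exact absurd h h2
    · exact h
  have h4 := Subgroup.relIndex_mul_relIndex ⊥ (Subgroup.zpowers d.x ⊓ K) K bot_le inf_le_right
  rw [Subgroup.relIndex_bot_left, Subgroup.relIndex_bot_left, Subgroup.inf_relIndex_right, h3] at h4
  omega

end QDat

end Cfsg.Agent.Helper2.QD
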