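import Mathlib

/-!
Helper lemma (helper2): a finite group in which the centralizer of every noncentral element is
abelian and self-normalizing is abelian (TI counting).
-/

set_option autoImplicit false

namespace Cfsg.Agent.Helper2.GL2Odd

open Subgroup

variable {X : Type*} [Group X]

/-- In a CA-situation, centralizers of noncentral elements of an abelian centralizer coincide. -/
theorem centralizer_eq_of_mem
    (hab : ∀ x : X, x ∉ center X → ∀ a ∈ centralizer ({x} : Set X),
      ∀ b ∈ centralizer ({x} : Set X), a * b = b * a)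
    {y w : X} (hy : y ∉ center X) (hw : w ∈ centralizer ({y} : Set X)) (hwZ : w ∉ center X) :
    centralizer ({w} : Set X) = centralizer ({y} : Set X) := by
  have hyy : y ∈ centralizer ({y} : Set X) := by
    rw [mem_centralizer_singleton_iff]
  have hyw : y ∈ centralizer ({w} : Set X) := by
    rw [mem_centralizer_singleton_iff]
    rw [mem_centralizer_singleton_iff] at hw
    exact hw.symm
  have hww : w ∈ centralizer ({w} : Set X) := by
    rw [mem_centralizer_singleton_iff]
  ext u
  constructor
  · intro hu
    rw [mem_centralizer_singleton_iff]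
    exact hab w hwZ u hu y hyw
  · intro hu
    rw [mem_centralizer_singleton_iff]
    exact hab y hy u hu w hw

theorem conj_not_mem_center {y : X} (hy : y ∉ center X) (g : X) : g * y * g⁻¹ ∉ center X := by
  intro h
  apply hy
  have := (center X).normal_of_characteristic.conj_mem _ h g⁻¹
  simpa [mul_assoc] using this

theorem mem_centralizer_conj_iff (g y u : X) :
    g * u * g⁻¹ ∈ centralizer ({g * y * g⁻¹} : Set X) ↔ u ∈ centralizer ({y} : Set X) := by
  rw [mem_centralizer_singleton_iff, mem_centralizer_singleton_iff]
  constructor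
  · intro h
    have h' : g * (u * y) * g⁻¹ = g * (y * u) * g⁻¹ := by
      have e1 : g * (u * y) * g⁻¹ = g * u * g⁻¹ * (g * y * g⁻¹) := by group
      have e2 : g * (y * u) * g⁻¹ = g * y * g⁻¹ * (g * u * g⁻¹) := by group
      rw [e1, e2, h]
    exact mul_left_cancel (mul_right_cancel h')
  · intro h
    have e1 : g * u * g⁻¹ * (g * y * g⁻¹) = g * (u * y) * g⁻¹ := by group
    have e2 : g * y * g⁻¹ * (g * u * g⁻¹) = g * (y * u) * g⁻¹ := by group
    rw [e1, e2, h]

/-- If a conjugate of a noncentral `y` lies in `C(y)` then the conjugating element lies in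
`C(y)`. -/
theorem mem_of_conj_mem
    (hab : ∀ x : X, x ∉ center X → ∀ a ∈ centralizer ({x} : Set X),
      ∀ b ∈ centralizer ({x} : Set X), a * b = b * a)
    (hsn : ∀ x : X, x ∉ center X →
      normalizer ((centralizer ({x} : Set X) : Subgroup X) : Set X) ≤ centralizer ({x} : Set X))
    {y g : X} (hy : y ∉ center X) (hg : g * y * g⁻¹ ∈ centralizer ({y} : Set X)) :
    g ∈ centralizer ({y} : Set X) := by
  have hwZ := conj_not_mem_center hy g
  have heq := centralizer_eq_of_mem hab hy hg hwZ
  apply hsn y hy
  rw [mem_normalizer_iff]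
  intro u
  constructor
  · intro hu
    have := (mem_centralizer_conj_iff g y u).mpr hu
    rwa [heq] at this
  · intro hu
    rw [← heq] at hu
    exact (mem_centralizer_conj_iff g y u).mp hu

section counting

variable [Fintype X] [DecidableEq X]

/-- noncentral elements of `C(y)` -/
noncomputable def Bset (y : X) : Finset X := by
  classical
  exact Finset.univ.filter (fun w => w ∈ centralizer ({y} : Set X) ∧ w ∉ center X)

/-- all elements of `C(y)` -/
noncomputable def Bfin (y : X) : Finset X := by
  classical
  exact Finset.univ.filter (fun w => w ∈ centralizer ({y} : Set X))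

/-- conjugates of noncentral elements of `C(y)` -/
noncomputable def Sset (y : X) : Finset X :=
  (Finset.univ ×ˢ Bset y).image (fun t : X × X => t.1 * t.2 * t.1⁻¹)

theorem mem_Bset (y w : X) : w ∈ Bset y ↔ w ∈ centralizer ({y} : Set X) ∧ w ∉ center X := by
  classical
  simp [Bset]

theorem mem_Bfin (y w : X) : w ∈ Bfin y ↔ w ∈ centralizer ({y} : Set X) := by
  classical
  simp [Bfin]

theorem mem_Sset (y s : X) : s ∈ Sset y ↔ ∃ g w : X, w ∈ centralizer ({y} : Set X) ∧
    w ∉ center X ∧ g * w * g⁻¹ = s := by
  classical
  simp only [Sset, Finset.mem_image, Finset.mem_product, Finset.mem_univ, true_and, mem_Bset,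
    Prod.exists]
  constructor
  · rintro ⟨g, w, ⟨h1, h2⟩, h3⟩; exact ⟨g, w, h1, h2, h3⟩
  · rintro ⟨g, w, h1, h2, h3⟩; exact ⟨g, w, ⟨h1, h2⟩, h3⟩

theorem card_Bfin (y : X) : (Bfin y).card = Nat.card (centralizer ({y} : Set X)) := by
  classical
  rw [Nat.card_eq_fintype_card, Fintype.card_subtype]
  congr 1

theorem card_Bset (y : X) : (Bset y).card + Nat.card (center X) = (Bfin y).card := by
  classical
  have hZ : Nat.card (center X) = (Finset.univ.filter (fun w : X => w ∈ center X)).card := by
    rw [Nat.card_eq_fintype_card, Fintype.card_subtype]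
  rw [hZ]
  have hdisj : Disjoint (Bset y) (Finset.univ.filter (fun w : X => w ∈ center X)) := by
    rw [Finset.disjoint_left]
    intro w hw hw'
    rw [mem_Bset] at hw
    simp at hw'
    exact hw.2 hw'
  rw [← Finset.card_union_of_disjoint hdisj]
  congr 1
  ext w
  simp only [Finset.mem_union, mem_Bset, Finset.mem_filter, Finset.mem_univ, true_and, mem_Bfin]
  constructor
  · rintro (⟨h, -⟩ | h)
    · exact h
    · exact center_le_centralizer _ h
  · intro h
    by_cases hw : w ∈ center X
    · exact Or.inr hw
    · exact Or.inl ⟨h, hw⟩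

/-- The key count: `|X| * |C(y) - Z| = |S_y| * |C(y)|`. -/
theorem card_mul_eq
    (hab : ∀ x : X, x ∉ center X → ∀ a ∈ centralizer ({x} : Set X),
      ∀ b ∈ centralizer ({x} : Set X), a * b = b * a)
    (hsn : ∀ x : X, x ∉ center X →
      normalizer ((centralizer ({x} : Set X) : Subgroup X) : Set X) ≤ centralizer ({x} : Set X))
    {y : X} (hy : y ∉ center X) :
    Fintype.card X * (Bset y).card = (Sset y).card * (Bfin y).card := by
  classical
  have h1 : (Finset.univ ×ˢ Bset y : Finset (X × X)).card = Fintype.card X * (Bset y).card := by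
    rw [Finset.card_product, Finset.card_univ]
  rw [← h1, Finset.card_eq_sum_card_image (fun t : X × X => t.1 * t.2 * t.1⁻¹)
    (Finset.univ ×ˢ Bset y)]
  have hfib : ∀ s ∈ (Finset.univ ×ˢ Bset y).image (fun t : X × X => t.1 * t.2 * t.1⁻¹),
      ((Finset.univ ×ˢ Bset y).filter (fun t : X × X => t.1 * t.2 * t.1⁻¹ = s)).card
        = (Bfin y).card := by
    intro s hs
    rw [Finset.mem_image] at hs
    obtain ⟨⟨g0, w0⟩, ht, rfl⟩ := hs
    rw [Finset.mem_product] at ht
    have hw0 := (mem_Bset y w0).mp ht.2
    have hBw0 := centralizer_eq_of_mem hab hy hw0.1 hw0.2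
    have himg : (Finset.univ ×ˢ Bset y).filter
        (fun t : X × X => t.1 * t.2 * t.1⁻¹ = g0 * w0 * g0⁻¹)
        = (Bfin y).image (fun b => (g0 * b, w0)) := by
      ext ⟨g, w⟩
      simp only [Finset.mem_filter, Finset.mem_product, Finset.mem_univ, true_and,
        Finset.mem_image, mem_Bfin, Prod.mk.injEq]
      constructor
      · rintro ⟨hw, heq⟩
        have hw' := (mem_Bset y w).mp hw
        have hBw := centralizer_eq_of_mem hab hy hw'.1 hw'.2
        -- (g0⁻¹ g) w (g0⁻¹ g)⁻¹ = w0
        have hc : (g0⁻¹ * g) * w * (g0⁻¹ * g)⁻¹ = w0 := by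
          have : g0⁻¹ * (g * w * g⁻¹) * g0 = w0 := by rw [heq]; group
          rw [← this]; group
        have hmem : (g0⁻¹ * g) * w * (g0⁻¹ * g)⁻¹ ∈ centralizer ({w} : Set X) := by
          rw [hc, hBw]; exact hw0.1
        have hb := mem_of_conj_mem hab hsn hw'.2 hmem
        rw [hBw] at hb
        refine ⟨g0⁻¹ * g, hb, by group, ?_⟩
        -- w0 = w since C(y) abelian
        have hcomm := hab y hy (g0⁻¹ * g) hb w hw'.1
        rw [← hc, hcomm]; group
      · rintro ⟨b, hb, rfl, rfl⟩
        refine ⟨ht.2, ?_⟩
        have hcomm := hab y hy b hb w0 hw0.1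
        have : g0 * b * w0 * (g0 * b)⁻¹ = g0 * (b * w0) * b⁻¹ * g0⁻¹ := by group
        rw [this, hcomm]; group
    rw [himg, Finset.card_image_of_injective]
    intro b b' h
    simp only [Prod.mk.injEq, mul_right_inj, and_true] at h
    exact h
  rw [Finset.sum_congr rfl hfib, Finset.sum_const, smul_eq_mul]
  rfl

theorem Sset_not_mem_center (y s : X) (hs : s ∈ Sset y) : s ∉ center X := by
  rw [mem_Sset] at hs
  obtain ⟨g, w, -, hw, rfl⟩ := hs
  exact conj_not_mem_center hw g

theorem mem_Sset_of_inter
    (hab : ∀ x : X, x ∉ center X → ∀ a ∈ centralizer ({x} : Set X),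
      ∀ b ∈ centralizer ({x} : Set X), a * b = b * a)
    {y y' : X} (hy : y ∉ center X) (hy' : y' ∉ center X) {s : X} (hs : s ∈ Sset y)
    (hs' : s ∈ Sset y') : y' ∈ Sset y := by
  rw [mem_Sset] at hs hs' ⊢
  obtain ⟨g, w, hw, hwZ, rfl⟩ := hs
  obtain ⟨g', w', hw', hwZ', heq⟩ := hs'
  have hBw := centralizer_eq_of_mem hab hy hw hwZ
  have hBw' := centralizer_eq_of_mem hab hy' hw' hwZ'
  set h := g⁻¹ * g' with hh
  have hwh : h * w' * h⁻¹ = w := by
    have : g⁻¹ * (g' * w' * g'⁻¹) * g = w := by rw [heq]; group
    rw [← this, hh]; group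
  have hy'w' : y' ∈ centralizer ({w'} : Set X) := by
    rw [hBw', mem_centralizer_singleton_iff]
  have h1 : h * y' * h⁻¹ ∈ centralizer ({h * w' * h⁻¹} : Set X) :=
    (mem_centralizer_conj_iff h w' y').mpr hy'w'
  rw [hwh, hBw] at h1
  refine ⟨h⁻¹, h * y' * h⁻¹, h1, conj_not_mem_center hy' h, by group⟩

end counting

/-- **CA counting lemma**: a finite group in which the centralizer of every noncentral element is
abelian and self-normalizing is abelian. -/
theorem comm_of_CA [Finite X]
    (hab : ∀ x : X, x ∉ center X → ∀ a ∈ centralizer ({x} : Set X),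
      ∀ b ∈ centralizer ({x} : Set X), a * b = b * a)
    (hsn : ∀ x : X, x ∉ center X →
      normalizer ((centralizer ({x} : Set X) : Subgroup X) : Set X) ≤ centralizer ({x} : Set X)) :
    ∀ a b : X, a * b = b * a := by
  classical
  haveI : Fintype X := Fintype.ofFinite X
  by_contra hcon
  push Not at hcon
  obtain ⟨a, b0, hab0⟩ := hcon
  have hy : a ∉ center X := by
    intro h
    rw [mem_center_iff] at h
    exact hab0 (h b0).symm
  set y := a
  -- the basic quantities
  have hz1 : 0 < Nat.card (center X) := Nat.card_pos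
  have hβ := card_Bset y
  have hcount := card_mul_eq hab hsn hy
  have hyB : y ∈ Bset y := by
    rw [mem_Bset]
    exact ⟨by rw [mem_centralizer_singleton_iff], hy⟩
  have hβpos : 0 < (Bset y).card := Finset.card_pos.mpr ⟨y, hyB⟩
  have hdvd : Nat.card (center X) ∣ (Bfin y).card := by
    rw [card_Bfin]
    exact Subgroup.card_dvd_of_le (center_le_centralizer _)
  -- generic facts for any noncentral element
  have hgen : ∀ v : X, v ∉ center X → Fintype.card X ≤ 2 * (Sset v).card := by
    intro v hv
    have hβv := card_Bset v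
    have hcountv := card_mul_eq hab hsn hv
    have hvB : v ∈ Bset v := by
      rw [mem_Bset]
      exact ⟨by rw [mem_centralizer_singleton_iff], hv⟩
    have hβposv : 0 < (Bset v).card := Finset.card_pos.mpr ⟨v, hvB⟩
    have hdvdv : Nat.card (center X) ∣ (Bfin v).card := by
      rw [card_Bfin]
      exact Subgroup.card_dvd_of_le (center_le_centralizer _)
    obtain ⟨k, hk⟩ := hdvdv
    have hk2 : 2 ≤ k := by
      by_contra hlt
      push Not at hlt
      interval_cases k
      · rw [hk] at hβv; omega
      · rw [hk] at hβv; omega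
    have hb2 : (Bfin v).card ≤ 2 * (Bset v).card := by
      have : 2 * Nat.card (center X) ≤ (Bfin v).card := by
        rw [hk]; nlinarith
      omega
    have hbpos : 0 < (Bfin v).card := by omega
    -- n * b ≤ n * 2β = 2 σ b
    have : Fintype.card X * (Bfin v).card ≤ 2 * (Sset v).card * (Bfin v).card := by
      calc Fintype.card X * (Bfin v).card ≤ Fintype.card X * (2 * (Bset v).card) :=
            Nat.mul_le_mul_left _ hb2
        _ = 2 * (Fintype.card X * (Bset v).card) := by ring
        _ = 2 * ((Sset v).card * (Bfin v).card) := by rw [hcountv]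
        _ = 2 * (Sset v).card * (Bfin v).card := by ring
    exact Nat.le_of_mul_le_mul_right this hbpos
  set Zfin : Finset X := Finset.univ.filter (fun w : X => w ∈ center X) with hZfin
  have hZcard : Zfin.card = Nat.card (center X) := by
    rw [Nat.card_eq_fintype_card, Fintype.card_subtype]
  have hdisjZ : ∀ v : X, Disjoint (Sset v) Zfin := by
    intro v
    rw [Finset.disjoint_left]
    intro s hs hs'
    simp [hZfin] at hs'
    exact Sset_not_mem_center v s hs hs'
  by_cases hall : ∀ y' : X, y' ∉ center X → y' ∈ Sset y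
  · -- case 1
    have hcover : (Finset.univ : Finset X) = Sset y ∪ Zfin := by
      ext w
      simp only [Finset.mem_univ, Finset.mem_union, true_iff]
      by_cases hw : w ∈ center X
      · right; simp [hZfin, hw]
      · left; exact hall w hw
    have hn : Fintype.card X = (Sset y).card + Nat.card (center X) := by
      rw [← Finset.card_univ, hcover, Finset.card_union_of_disjoint (hdisjZ y), hZcard]
    -- n β = σ b, n = σ + z, b = β + z  ⟹ n = b
    have hnb : Fintype.card X = (Bfin y).card := by
      have e1 : Fintype.card X * (Bset y).card = (Sset y).card * (Bfin y).card := hcount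
      rw [← hβ] at e1 ⊢
      rw [hn] at e1 ⊢
      have : Nat.card (center X) * (Bset y).card = (Sset y).card * Nat.card (center X) := by
        nlinarith
      have h2 : (Bset y).card = (Sset y).card := by
        have := Nat.eq_of_mul_eq_mul_left hz1 (by rw [this]; ring :
          Nat.card (center X) * (Bset y).card = Nat.card (center X) * (Sset y).card)
        exact this
      omega
    have huniv : Bfin y = Finset.univ := by
      apply Finset.eq_univ_of_card
      rw [← hnb]
    apply hy
    rw [mem_center_iff]
    intro g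
    have hg : g ∈ Bfin y := by rw [huniv]; exact Finset.mem_univ g
    rw [mem_Bfin, mem_centralizer_singleton_iff] at hg
    exact hg
  · -- case 2
    push Not at hall
    obtain ⟨y', hy', hy'S⟩ := hall
    have hdisj : Disjoint (Sset y) (Sset y') := by
      rw [Finset.disjoint_left]
      intro s hs hs'
      exact hy'S (mem_Sset_of_inter hab hy hy' hs hs')
    have h1 := hgen y hy
    have h2 := hgen y' hy'
    have hunion : ((Sset y ∪ Sset y') ∪ Zfin).card ≤ Fintype.card X := Finset.card_le_univ _
    have hd2 : Disjoint (Sset y ∪ Sset y') Zfin := by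
      rw [Finset.disjoint_union_left]
      exact ⟨hdisjZ y, hdisjZ y'⟩
    rw [Finset.card_union_of_disjoint hd2, Finset.card_union_of_disjoint hdisj, hZcard] at hunion
    omega

end Cfsg.Agent.Helper2.GL2Odd
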