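import Mathlib

/-!
Helper library (helper2) for S3266: 2×2 matrix algebra for involutions of `PSL(2,F)`.

* `cayley2`: Cayley–Hamilton for 2×2 matrices.
* `pow_mem_span`: powers of `M` lie in the span of `1, M`.
* `J a b c`: the trace-zero matrix `!![a, b; c, -a]`, and the construction `lemK` of a trace-zero
  matrix `k` with prescribed traces against two given ones.
* `exists_of_not_odd`: if the image of `M ∈ SL(2,F)` in `PSL(2,F)` has even order then there are
  `α β` with `β ≠ 0`, `2α + β tr M = 0`, `α² - β² = -1`.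
-/

set_option autoImplicit false

namespace Cfsg.Agent.Helper2.PSL2Inv

open Matrix

section ring
variable {K : Type*} [CommRing K]

theorem cayley2 (M : Matrix (Fin 2) (Fin 2) K) :
    M * M = M.trace • M - M.det • (1 : Matrix (Fin 2) (Fin 2) K) := by
  ext i j
  fin_cases i <;> fin_cases j <;>
    simp [Matrix.mul_apply, Fin.sum_univ_two, Matrix.det_fin_two, Matrix.trace_fin_two] <;> ring

theorem pow_mem_span (M : Matrix (Fin 2) (Fin 2) K) (n : ℕ) :
    ∃ α β : K, M ^ n = α • (1 : Matrix (Fin 2) (Fin 2) K) + β • M := by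
  induction n with
  | zero => exact ⟨1, 0, by simp⟩
  | succ n ih =>
    obtain ⟨α, β, h⟩ := ih
    refine ⟨-(β * M.det), α + β * M.trace, ?_⟩
    rw [pow_succ, h, add_mul, smul_mul_assoc, smul_mul_assoc, one_mul, cayley2 M]
    simp only [smul_sub, smul_smul, add_smul, neg_smul]
    abel

/-- The trace-zero matrix `!![a, b; c, -a]`. -/
def J (a b c : K) : Matrix (Fin 2) (Fin 2) K := !![a, b; c, -a]

@[simp] theorem J_apply00 (a b c : K) : J a b c 0 0 = a := rfl
@[simp] theorem J_apply01 (a b c : K) : J a b c 0 1 = b := rfl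
@[simp] theorem J_apply10 (a b c : K) : J a b c 1 0 = c := rfl
@[simp] theorem J_apply11 (a b c : K) : J a b c 1 1 = -a := rfl

theorem J_det (a b c : K) : (J a b c).det = -(a * a + b * c) := by
  simp [Matrix.det_fin_two]; ring

theorem J_trace (a b c : K) : (J a b c).trace = 0 := by
  simp [Matrix.trace_fin_two]

theorem J_mul_J_trace (a b c a' b' c' : K) :
    (J a b c * J a' b' c').trace = 2 * a * a' + b * c' + c * b' := by
  simp [Matrix.trace_fin_two, Matrix.mul_apply, Fin.sum_univ_two]; ring

theorem J_mul_self (a b c : K) (h : a * a + b * c = -1) :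
    J a b c * J a b c = -(1 : Matrix (Fin 2) (Fin 2) K) := by
  ext i j
  fin_cases i <;> fin_cases j <;>
    simp [Matrix.mul_apply, Fin.sum_univ_two] <;> first | ring1 | linear_combination h

theorem eq_J_of_trace_zero (M : Matrix (Fin 2) (Fin 2) K) (h : M.trace = 0) :
    M = J (M 0 0) (M 0 1) (M 1 0) := by
  rw [Matrix.trace_fin_two] at h
  ext i j
  fin_cases i <;> fin_cases j <;> simp
  linear_combination h

theorem J_injective {a b c a' b' c' : K} (h : J a b c = J a' b' c') : a = a' ∧ b = b' ∧ c = c' := by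
  refine ⟨?_, ?_, ?_⟩
  · simpa using congrFun (congrFun h 0) 0
  · simpa using congrFun (congrFun h 0) 1
  · simpa using congrFun (congrFun h 1) 0

theorem J_neg (a b c : K) : -(J a b c) = J (-a) (-b) (-c) := by
  ext i j
  fin_cases i <;> fin_cases j <;> simp

end ring

section field
variable {F : Type*} [Field F]

theorem lemK_rel (a b c a' b' c' α β s : F) (hg : a * a + b * c = -1)
    (hh : a' * a' + b' * c' = -1) :
    (α * a + β * a' + s * (b * c' - c * b')) * (α * a + β * a' + s * (b * c' - c * b')) +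
      (α * b + β * b' + 2 * s * (a * b' - b * a')) * (α * c + β * c' + 2 * s * (c * a' - a * c'))
      = -α ^ 2 - β ^ 2 + α * β * (2 * a * a' + b * c' + c * b') +
        s ^ 2 * ((2 * a * a' + b * c' + c * b') ^ 2 - 4) := by
  linear_combination (α ^ 2 + 4 * s ^ 2 - 4 * s ^ 2 * (a' * a' + b' * c' + 1)) * hg +
    (β ^ 2 + 4 * s ^ 2) * hh

theorem lemK_trg (a b c a' b' c' α β s : F) (hg : a * a + b * c = -1) :
    2 * a * (α * a + β * a' + s * (b * c' - c * b')) +
      b * (α * c + β * c' + 2 * s * (c * a' - a * c')) +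
      c * (α * b + β * b' + 2 * s * (a * b' - b * a'))
      = -2 * α + β * (2 * a * a' + b * c' + c * b') := by
  linear_combination (2 * α) * hg

theorem lemK_trh (a b c a' b' c' α β s : F) (hh : a' * a' + b' * c' = -1) :
    2 * a' * (α * a + β * a' + s * (b * c' - c * b')) +
      b' * (α * c + β * c' + 2 * s * (c * a' - a * c')) +
      c' * (α * b + β * b' + 2 * s * (a * b' - b * a'))
      = α * (2 * a * a' + b * c' + c * b') - 2 * β := by
  linear_combination (2 * β) * hh

/-- **Lemma K**: given two trace-zero determinant-one matrices `J a b c`, `J a' b' c'` with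
`τ = tr (g h)`, `τ² ≠ 4`, and `e f d` with `d² = 4 - e² - f² - τ² - τ e f`, there is a third
one `J x y z` with `tr (g k) = e`, `tr (h k) = f`. -/
theorem lemK (a b c a' b' c' e f d : F) (hg : a * a + b * c = -1)
    (hh : a' * a' + b' * c' = -1)
    (hτ : (2 * a * a' + b * c' + c * b') ^ 2 ≠ 4)
    (hd : d ^ 2 = 4 - e ^ 2 - f ^ 2 - (2 * a * a' + b * c' + c * b') ^ 2
      - (2 * a * a' + b * c' + c * b') * e * f) :
    ∃ x y z : F, x * x + y * z = -1 ∧ 2 * a * x + b * z + c * y = e ∧
      2 * a' * x + b' * z + c' * y = f := by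
  set τ := 2 * a * a' + b * c' + c * b' with hτdef
  have hw : (4 : F) - τ ^ 2 ≠ 0 := fun h => hτ (by linear_combination -h)
  have hw' : τ ^ 2 - 4 ≠ 0 := fun h => hτ (by linear_combination h)
  set α := (-2 * e - τ * f) / (4 - τ ^ 2) with hα
  set β := (-τ * e - 2 * f) / (4 - τ ^ 2) with hβ
  set s := d / (τ ^ 2 - 4) with hs
  refine ⟨α * a + β * a' + s * (b * c' - c * b'), α * b + β * b' + 2 * s * (a * b' - b * a'),
    α * c + β * c' + 2 * s * (c * a' - a * c'), ?_, ?_, ?_⟩
  · rw [lemK_rel a b c a' b' c' α β s hg hh, ← hτdef]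
    have hs2 : s ^ 2 * (τ ^ 2 - 4) = d ^ 2 / (τ ^ 2 - 4) := by
      rw [hs]; field_simp
    rw [hs2, hd, hα, hβ]
    have h3 : τ ^ 2 - 4 = -(4 - τ ^ 2) := by ring
    rw [h3]
    field_simp
    ring
  · rw [lemK_trg a b c a' b' c' α β s hg, ← hτdef, hα, hβ]
    field_simp
    ring
  · rw [lemK_trh a b c a' b' c' α β s hh, ← hτdef, hα, hβ]
    field_simp
    ring

end field

end Cfsg.Agent.Helper2.PSL2Inv
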