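import Mathlib
import Cfsg.Agent.Helper2.PSL2InvA
import Cfsg.Agent.Helper2.GL2OddA

/-!
Helper library (helper2): finite subgroups of `GL₂(K)` of odd order all of whose non-scalar
elements have nonzero discriminant are abelian.
-/

set_option autoImplicit false

namespace Cfsg.Agent.Helper2.GL2Odd

open Matrix Cfsg.Agent.Helper2.PSL2Inv

variable {K : Type*} [Field K]

/-- `M` is a scalar matrix. -/
def IsScalar (M : Matrix (Fin 2) (Fin 2) K) : Prop := ∃ c : K, M = c • (1 : Matrix (Fin 2) (Fin 2) K)

/-- The commutant of a non-scalar 2×2 matrix `M` is `span {1, M}`. -/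
theorem commutant_of_not_scalar (M N : Matrix (Fin 2) (Fin 2) K) (hM : ¬ IsScalar M)
    (hNM : N * M = M * N) : ∃ α β : K, N = α • (1 : Matrix (Fin 2) (Fin 2) K) + β • M := by
  have h00 := congrFun (congrFun hNM 0) 0
  have h01 := congrFun (congrFun hNM 0) 1
  have h10 := congrFun (congrFun hNM 1) 0
  simp only [Matrix.mul_apply, Fin.sum_univ_two] at h00 h01 h10
  by_cases hb : M 0 1 = 0
  · by_cases hc : M 1 0 = 0
    · -- diagonal, a ≠ d
      have had : M 0 0 - M 1 1 ≠ 0 := by
        intro h
        apply hM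
        refine ⟨M 0 0, ?_⟩
        ext i j
        fin_cases i <;> fin_cases j <;> simp [hb, hc]
        linear_combination -h
      rw [hb] at h01
      rw [hc] at h10
      have hf : N 0 1 = 0 := by
        have : N 0 1 * (M 0 0 - M 1 1) = 0 := by linear_combination -h01
        rcases mul_eq_zero.mp this with h | h
        · exact h
        · exact absurd h had
      have hg : N 1 0 = 0 := by
        have : N 1 0 * (M 0 0 - M 1 1) = 0 := by linear_combination h10
        rcases mul_eq_zero.mp this with h | h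
        · exact h
        · exact absurd h had
      refine ⟨N 0 0 - (N 0 0 - N 1 1) / (M 0 0 - M 1 1) * M 0 0,
        (N 0 0 - N 1 1) / (M 0 0 - M 1 1), ?_⟩
      ext i j
      fin_cases i <;> fin_cases j <;> simp [hb, hc, hf, hg]
      field_simp
      ring
    · refine ⟨N 0 0 - N 1 0 / M 1 0 * M 0 0, N 1 0 / M 1 0, ?_⟩
      ext i j
      fin_cases i <;> fin_cases j <;> simp
      · field_simp
        linear_combination h00
      · field_simp
      · field_simp
        linear_combination h10
  · refine ⟨N 0 0 - N 0 1 / M 0 1 * M 0 0, N 0 1 / M 0 1, ?_⟩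
    ext i j
    fin_cases i <;> fin_cases j <;> simp
    · field_simp
    · field_simp
      linear_combination -h00
    · field_simp
      linear_combination -h01

theorem commute_of_commute_not_scalar (M N N' : Matrix (Fin 2) (Fin 2) K) (hM : ¬ IsScalar M)
    (hN : N * M = M * N) (hN' : N' * M = M * N') : N * N' = N' * N := by
  obtain ⟨α, β, rfl⟩ := commutant_of_not_scalar M N hM hN
  obtain ⟨α', β', rfl⟩ := commutant_of_not_scalar M N' hM hN'
  simp only [add_mul, mul_add, smul_mul_assoc, mul_smul_comm, one_mul, mul_one, smul_add,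
    smul_smul]
  module

theorem det_smul_one_add_smul (M : Matrix (Fin 2) (Fin 2) K) (α β : K) :
    (α • (1 : Matrix (Fin 2) (Fin 2) K) + β • M).det =
      α ^ 2 + α * β * M.trace + β ^ 2 * M.det := by
  simp [Matrix.det_fin_two, Matrix.trace_fin_two]
  ring

theorem trace_smul_one_add_smul (M : Matrix (Fin 2) (Fin 2) K) (α β : K) :
    (α • (1 : Matrix (Fin 2) (Fin 2) K) + β • M).trace = 2 * α + β * M.trace := by
  simp [Matrix.trace_fin_two]
  ring

/-- If `g x g⁻¹` commutes with the non-scalar `x` of nonzero discriminant, and `g` has odd order,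
then `g` commutes with `x`. -/
theorem conj_eq_self (h2 : (2 : K) ≠ 0) (x g : GL (Fin 2) K)
    (hx : ¬ IsScalar (x : Matrix (Fin 2) (Fin 2) K))
    (hdisc : (x : Matrix (Fin 2) (Fin 2) K).trace ^ 2 - 4 * (x : Matrix (Fin 2) (Fin 2) K).det ≠ 0)
    (hcomm : (g * x * g⁻¹) * x = x * (g * x * g⁻¹)) (m : ℕ) (hm : Odd m) (hgm : g ^ m = 1) :
    g * x * g⁻¹ = x := by
  set xm : Matrix (Fin 2) (Fin 2) K := (x : Matrix (Fin 2) (Fin 2) K) with hxm
  set c := g * x * g⁻¹ with hc
  have hcm : (c : Matrix (Fin 2) (Fin 2) K) * xm = xm * (c : Matrix (Fin 2) (Fin 2) K) := by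
    have := congrArg (fun u : GL (Fin 2) K => (u : Matrix (Fin 2) (Fin 2) K)) hcomm
    simpa using this
  obtain ⟨α, β, hαβ⟩ := commutant_of_not_scalar xm _ hx hcm
  -- trace and det of the conjugate
  have hcval : (c : Matrix (Fin 2) (Fin 2) K) =
      (g : Matrix (Fin 2) (Fin 2) K) * xm * ((g⁻¹ : GL (Fin 2) K) : Matrix (Fin 2) (Fin 2) K) := by
    rw [hc]; simp [hxm]
  have hginv : ((g⁻¹ : GL (Fin 2) K) : Matrix (Fin 2) (Fin 2) K) * (g : Matrix (Fin 2) (Fin 2) K)
      = 1 := by
    rw [← Units.val_mul, inv_mul_cancel]; rfl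
  have htr : (c : Matrix (Fin 2) (Fin 2) K).trace = xm.trace := by
    rw [hcval, Matrix.trace_mul_comm, ← Matrix.mul_assoc, hginv, Matrix.one_mul]
  have hdet : (c : Matrix (Fin 2) (Fin 2) K).det = xm.det := by
    rw [hcval, Matrix.det_mul, Matrix.det_mul, mul_comm, ← mul_assoc, ← Matrix.det_mul, hginv,
      Matrix.det_one, one_mul]
  rw [hαβ, trace_smul_one_add_smul] at htr
  rw [hαβ, det_smul_one_add_smul] at hdet
  set τ := xm.trace with hτ
  set δ := xm.det with hδ
  have hβ2 : (1 - β ^ 2) * (τ ^ 2 - 4 * δ) = 0 := by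
    have h2α : 2 * α = τ * (1 - β) := by linear_combination htr
    have : 4 * (α ^ 2 + α * β * τ + β ^ 2 * δ - δ) = (1 - β ^ 2) * (τ ^ 2 - 4 * δ) := by
      have e : 4 * α ^ 2 = (2 * α) ^ 2 := by ring
      have e' : 4 * (α * β * τ) = 2 * (2 * α) * β * τ := by ring
      calc 4 * (α ^ 2 + α * β * τ + β ^ 2 * δ - δ)
          = (2 * α) ^ 2 + 2 * (2 * α) * β * τ + 4 * β ^ 2 * δ - 4 * δ := by ring
        _ = (1 - β ^ 2) * (τ ^ 2 - 4 * δ) := by rw [h2α]; ring
    rw [← this, hdet]; ring
  have hβ : (1 - β) * (1 + β) = 0 := by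
    rcases mul_eq_zero.mp hβ2 with h | h
    · linear_combination h
    · exact absurd h hdisc
  rcases mul_eq_zero.mp hβ with h | h
  · -- β = 1, α = 0
    have hβ1 : β = 1 := by linear_combination -h
    have hα0 : α = 0 := by
      have : 2 * α = 0 := by rw [hβ1] at htr; linear_combination htr
      rcases mul_eq_zero.mp this with h' | h'
      · exact absurd h' h2
      · exact h'
    apply Units.ext
    rw [hαβ, hβ1, hα0]
    simp [hxm]
  · -- β = -1, α = τ
    have hβ1 : β = -1 := by linear_combination h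
    have hατ : α = τ := by
      have : 2 * (α - τ) = 0 := by rw [hβ1] at htr; linear_combination htr
      rcases mul_eq_zero.mp this with h' | h'
      · exact absurd h' h2
      · linear_combination h'
    -- g c g⁻¹ = x
    have hgc : g * c * g⁻¹ = x := by
      apply Units.ext
      have e1 : ((g * c * g⁻¹ : GL (Fin 2) K) : Matrix (Fin 2) (Fin 2) K) =
          (g : Matrix (Fin 2) (Fin 2) K) * (c : Matrix (Fin 2) (Fin 2) K) *
            ((g⁻¹ : GL (Fin 2) K) : Matrix (Fin 2) (Fin 2) K) := by simp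
      rw [e1, hαβ, hβ1, hατ]
      have hgg : (g : Matrix (Fin 2) (Fin 2) K) *
          ((g⁻¹ : GL (Fin 2) K) : Matrix (Fin 2) (Fin 2) K) = 1 := by
        rw [← Units.val_mul, mul_inv_cancel]; rfl
      have e2 : (g : Matrix (Fin 2) (Fin 2) K) * (τ • (1 : Matrix (Fin 2) (Fin 2) K) + (-1 : K) • xm)
          * ((g⁻¹ : GL (Fin 2) K) : Matrix (Fin 2) (Fin 2) K)
          = τ • (1 : Matrix (Fin 2) (Fin 2) K) - (c : Matrix (Fin 2) (Fin 2) K) := by
        rw [hcval, neg_one_smul, Matrix.mul_add, Matrix.add_mul, Matrix.mul_smul, Matrix.smul_mul,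
          Matrix.mul_one, hgg, Matrix.mul_neg, Matrix.neg_mul, sub_eq_add_neg]
      rw [e2, hαβ, hβ1, hατ, neg_one_smul]
      abel
    have hg2 : (g * g) * x = x * (g * g) := by
      have : g * g * x * (g * g)⁻¹ = x := by
        have e : g * g * x * (g * g)⁻¹ = g * c * g⁻¹ := by rw [hc]; group
        rw [e, hgc]
      calc g * g * x = (g * g * x * (g * g)⁻¹) * (g * g) := by group
        _ = x * (g * g) := by rw [this]
    obtain ⟨k, hk⟩ := hm
    have hgk : (g * g) ^ (k + 1) = g := by
      rw [← pow_two, ← pow_mul]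
      have : 2 * (k + 1) = m + 1 := by omega
      rw [this, pow_succ, hgm, one_mul]
    have hcomm' : Commute (g * g) x := hg2
    have := hcomm'.pow_left (k + 1)
    rw [hgk] at this
    have hgx : g * x = x * g := this
    calc g * x * g⁻¹ = x * g * g⁻¹ := by rw [hgx]
      _ = x := by group

/-- In characteristic `p ≠ 2`, a non-scalar element of `GL₂(K)` of order prime to `p` has nonzero
discriminant. -/
theorem disc_ne_zero_of_coprime (p : ℕ) [Fact p.Prime] [CharP K p] (h2 : (2 : K) ≠ 0)
    (x : GL (Fin 2) K) (hx : ¬ IsScalar (x : Matrix (Fin 2) (Fin 2) K))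
    (hcop : Nat.Coprime p (orderOf x)) :
    (x : Matrix (Fin 2) (Fin 2) K).trace ^ 2 - 4 * (x : Matrix (Fin 2) (Fin 2) K).det ≠ 0 := by
  intro hdisc
  apply hx
  set xm : Matrix (Fin 2) (Fin 2) K := (x : Matrix (Fin 2) (Fin 2) K) with hxm
  set τ := xm.trace with hτ
  set δ := xm.det with hδ
  have hp : p.Prime := Fact.out
  have h4 : (4 : K) ≠ 0 := by
    have : (4 : K) = 2 * 2 := by norm_num
    rw [this]; exact mul_ne_zero h2 h2
  have hδ' : δ = τ ^ 2 / 4 := by
    field_simp
    linear_combination -hdisc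
  set N : Matrix (Fin 2) (Fin 2) K := xm - (τ / 2) • (1 : Matrix (Fin 2) (Fin 2) K) with hN
  have hCH := cayley2 xm
  have hNN : N * N = 0 := by
    rw [hN]
    simp only [sub_mul, mul_sub, smul_mul_assoc, mul_smul_comm, one_mul, mul_one, hCH, smul_sub,
      smul_smul]
    rw [← hτ, ← hδ, hδ']
    have e : τ / 2 * (τ / 2) = τ ^ 2 / 4 := by field_simp; ring
    rw [e]
    have e2 : τ • xm = (τ / 2) • xm + (τ / 2) • xm := by
      rw [← add_smul]; congr 1; field_simp; ring
    rw [e2]
    abel
  have hxm' : xm = (τ / 2) • (1 : Matrix (Fin 2) (Fin 2) K) + N := by rw [hN]; abel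
  have hcommN : Commute ((τ / 2) • (1 : Matrix (Fin 2) (Fin 2) K)) N := by
    rw [Commute, SemiconjBy]
    simp
  have hNp : N ^ p = 0 := by
    have : p = 2 + (p - 2) := by have := hp.two_le; omega
    rw [this, pow_add, pow_two, hNN, zero_mul]
  have hxp : xm ^ p = ((τ / 2) ^ p) • (1 : Matrix (Fin 2) (Fin 2) K) := by
    rw [hxm', add_pow_char_of_commute p hcommN, hNp, add_zero, smul_pow, one_pow]
  -- x is a power of x^p
  by_cases h1 : orderOf x = 1
  · rw [orderOf_eq_one_iff] at h1
    refine ⟨1, ?_⟩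
    rw [hxm, h1]; simp
  · have hord : 1 < orderOf x := by
      have : 0 < orderOf x := by
        rcases Nat.eq_zero_or_pos (orderOf x) with h0 | h0
        · rw [h0] at hcop
          simp at hcop
          exact absurd hcop hp.one_lt.ne'
        · exact h0
      omega
    obtain ⟨a, -, ha⟩ := Nat.exists_mul_mod_eq_one_of_coprime hcop hord
    have hpow : x ^ (p * a) = x := by
      rw [← pow_mod_orderOf, ha, pow_one]
    refine ⟨((τ / 2) ^ p) ^ a, ?_⟩
    have : xm = (xm ^ p) ^ a := by
      rw [← pow_mul, hxm, ← Units.val_pow_eq_pow_val, hpow]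
    rw [this, hxp, smul_pow, one_pow]

/-- **Main matrix statement**: a finite subgroup of `GL₂(K)`, `char K ≠ 2`, of odd order, all of
whose non-scalar elements have nonzero discriminant, is abelian. -/
theorem comm_of_odd (h2 : (2 : K) ≠ 0) (X : Subgroup (GL (Fin 2) K)) [Finite X]
    (hodd : Odd (Nat.card X))
    (hss : ∀ x ∈ X, ¬ IsScalar ((x : GL (Fin 2) K) : Matrix (Fin 2) (Fin 2) K) →
      ((x : GL (Fin 2) K) : Matrix (Fin 2) (Fin 2) K).trace ^ 2 -
        4 * ((x : GL (Fin 2) K) : Matrix (Fin 2) (Fin 2) K).det ≠ 0) :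
    ∀ x ∈ X, ∀ y ∈ X, x * y = y * x := by
  -- noncentral elements of X are non-scalar
  have hns : ∀ x : X, x ∉ Subgroup.center X →
      ¬ IsScalar (((x : GL (Fin 2) K)) : Matrix (Fin 2) (Fin 2) K) := by
    intro x hx hsc
    apply hx
    rw [Subgroup.mem_center_iff]
    intro g
    obtain ⟨c, hc⟩ := hsc
    apply Subtype.ext
    apply Units.ext
    simp only [Subgroup.coe_mul, Units.val_mul, hc]
    simp
  have key := comm_of_CA (X := X) ?_ ?_
  · intro x hx y hy
    have := key ⟨x, hx⟩ ⟨y, hy⟩
    exact congrArg Subtype.val this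
  · -- centralizers abelian
    intro x hx a ha b hb
    rw [Subgroup.mem_centralizer_singleton_iff] at ha hb
    have ha' : ((a : GL (Fin 2) K) : Matrix (Fin 2) (Fin 2) K) *
        ((x : GL (Fin 2) K) : Matrix (Fin 2) (Fin 2) K) =
        ((x : GL (Fin 2) K) : Matrix (Fin 2) (Fin 2) K) *
          ((a : GL (Fin 2) K) : Matrix (Fin 2) (Fin 2) K) := by
      have := congrArg (fun u : X => ((u : GL (Fin 2) K) : Matrix (Fin 2) (Fin 2) K)) ha
      simpa using this
    have hb' : ((b : GL (Fin 2) K) : Matrix (Fin 2) (Fin 2) K) *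
        ((x : GL (Fin 2) K) : Matrix (Fin 2) (Fin 2) K) =
        ((x : GL (Fin 2) K) : Matrix (Fin 2) (Fin 2) K) *
          ((b : GL (Fin 2) K) : Matrix (Fin 2) (Fin 2) K) := by
      have := congrArg (fun u : X => ((u : GL (Fin 2) K) : Matrix (Fin 2) (Fin 2) K)) hb
      simpa using this
    have := commute_of_commute_not_scalar _ _ _ (hns x hx) ha' hb'
    apply Subtype.ext
    apply Units.ext
    simpa using this
  · -- self-normalizing
    intro x hx g hg
    rw [Subgroup.mem_normalizer_iff] at hg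
    have hxx : x ∈ Subgroup.centralizer ({x} : Set X) := by
      rw [Subgroup.mem_centralizer_singleton_iff]
    have hgx := (hg x).mp hxx
    rw [Subgroup.mem_centralizer_singleton_iff] at hgx ⊢
    have hgord : Odd (orderOf g) := by
      have : orderOf g ∣ Nat.card X := orderOf_dvd_natCard g
      exact Odd.of_dvd_nat hodd this
    have hconj := conj_eq_self h2 (x : GL (Fin 2) K) (g : GL (Fin 2) K) (hns x hx)
      (hss _ x.2 (hns x hx))
      (by
        have := congrArg Subtype.val hgx
        simpa using this)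
      (orderOf g) hgord
      (by
        have h1 := pow_orderOf_eq_one g
        have h2' := congrArg (Subtype.val : X → GL (Fin 2) K) h1
        rw [Subgroup.coe_pow] at h2'
        exact h2')
    apply Subtype.ext
    have : (g : GL (Fin 2) K) * x = x * g := by
      calc (g : GL (Fin 2) K) * x = ((g : GL (Fin 2) K) * x * (g : GL (Fin 2) K)⁻¹) * g := by group
        _ = x * g := by rw [hconj]
    simpa using this

end Cfsg.Agent.Helper2.GL2Odd
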