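import Mathlib
import Cfsg.Agent.Helper9.GLGlue
import Cfsg.Agent.Helper2.GL2OddB

/-!
Helper library (helper2), for the BG chain: if `H ≤ N_G(A)` has odd order, `A` is elementary abelian
of order `p²` (`p` odd) and `p ∤ |H : C_H(A)|`, then `⁅H, H⁆ ≤ C_G(A)`
("odd-order `p'`-subgroups of `GL₂(p)` are abelian").
-/

set_option autoImplicit false

namespace Cfsg.Agent.Helper2.GL2Odd

open Matrix

theorem exists_linearEquiv_fin2 (p : ℕ) [Fact p.Prime] (V : Type*) [AddCommGroup V]
    [Module (ZMod p) V] [Finite V] (h : Nat.card V = p ^ 2) :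
    Nonempty (V ≃ₗ[ZMod p] (Fin 2 → ZMod p)) := by
  have hp : p.Prime := Fact.out
  have hfr : Module.finrank (ZMod p) V = 2 := by
    have h1 := Module.natCard_eq_pow_finrank (K := ZMod p) (V := V)
    rw [h, Nat.card_zmod] at h1
    exact (Nat.pow_right_injective hp.two_le h1).symm
  exact ⟨LinearEquiv.ofFinrankEq _ _ (by rw [hfr, Module.finrank_fin_fun])⟩

theorem exists_inj_GL (N : Type*) [CommGroup N] (p : ℕ) [Fact p.Prime] (hN : Nat.card N = p ^ 2)
    (hexp : ∀ x : N, x ^ p = 1) :
    ∃ f : MulAut N →* GL (Fin 2) (ZMod p), Function.Injective f := by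
  classical
  have hp : p.Prime := Fact.out
  have : Finite N := Nat.finite_of_card_ne_zero (by rw [hN]; exact pow_ne_zero 2 hp.ne_zero)
  have instM : Module (ZMod p) (Additive N) := AddCommGroup.zmodModule (n := p) (fun x => by
    change Additive.ofMul (x.toMul ^ p) = 0
    rw [hexp]; rfl)
  have : Finite (Additive N) := ‹Finite N›
  obtain ⟨e⟩ := exists_linearEquiv_fin2 p (Additive N) hN
  refine ⟨(Matrix.GeneralLinearGroup.toLin.symm.toMonoidHom.comp
    (LinearMap.GeneralLinearGroup.congrLinearEquiv e).toMonoidHom).comp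
    ((LinearMap.GeneralLinearGroup.generalLinearEquiv (ZMod p) (Additive N)).symm.toMonoidHom.comp
      (Cfsg.Agent.Helper9.GLGlue.autToLin N p)), ?_⟩
  intro a b h
  apply Cfsg.Agent.Helper9.GLGlue.autToLin_injective N p
  apply (LinearMap.GeneralLinearGroup.generalLinearEquiv (ZMod p) (Additive N)).symm.injective
  apply (LinearMap.GeneralLinearGroup.congrLinearEquiv e).injective
  apply Matrix.GeneralLinearGroup.toLin.symm.injective
  exact h

/-- Odd-order `p'`-groups of automorphisms of an elementary abelian group of order `p²` (`p` odd)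
are abelian: version for an injective-modulo-kernel homomorphism. -/
theorem comm_mod_ker {H N : Type*} [Group H] [Finite H] [CommGroup N] (p : ℕ) [Fact p.Prime]
    (hp2 : p ≠ 2) (hN : Nat.card N = p ^ 2) (hexp : ∀ x : N, x ^ p = 1)
    (ψ : H →* MulAut N) (hodd : Odd (Nat.card H)) (hp : ¬ p ∣ ψ.ker.index) :
    ∀ a b : H, a * b * a⁻¹ * b⁻¹ ∈ ψ.ker := by
  have hpp : p.Prime := Fact.out
  obtain ⟨ι, hι⟩ := exists_inj_GL N p hN hexp
  set Φ : H →* GL (Fin 2) (ZMod p) := ι.comp ψ with hΦ
  have hker : Φ.ker = ψ.ker := by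
    ext h
    simp only [MonoidHom.mem_ker, hΦ, MonoidHom.comp_apply]
    constructor
    · intro h1
      apply hι
      rw [h1, map_one]
    · intro h1
      rw [h1, map_one]
  have hcard : Nat.card Φ.range = ψ.ker.index := by
    rw [← hker, Subgroup.index_ker]
  have h2 : (2 : ZMod p) ≠ 0 := by
    intro h
    have : ((2 : ℕ) : ZMod p) = 0 := by exact_mod_cast h
    rw [ZMod.natCast_eq_zero_iff] at this
    have := (Nat.prime_dvd_prime_iff_eq hpp Nat.prime_two).mp this
    exact hp2 this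
  have hoddX : Odd (Nat.card Φ.range) := by
    rw [hcard]
    exact Odd.of_dvd_nat hodd (Subgroup.index_dvd_card _)
  have hcomm := comm_of_odd h2 Φ.range hoddX ?_
  · intro a b
    rw [← hker, MonoidHom.mem_ker]
    have := hcomm (Φ a) ⟨a, rfl⟩ (Φ b) ⟨b, rfl⟩
    rw [map_mul, map_mul, map_mul, map_inv, map_inv, this]
    group
  · intro x hx hns
    apply disc_ne_zero_of_coprime p h2 x hns
    have hdvd : orderOf x ∣ Nat.card Φ.range := by
      have := orderOf_dvd_natCard (⟨x, hx⟩ : Φ.range)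
      rwa [Subgroup.orderOf_mk] at this
    rw [hcard] at hdvd
    exact (Nat.Coprime.coprime_dvd_right hdvd ((Nat.Prime.coprime_iff_not_dvd hpp).mpr hp))

/-- **BG helper**: `H ≤ N_G(A)` of odd order, `A` elementary abelian of order `p²`, `p` odd,
`p ∤ |H : C_H(A)|`  ⟹  `⁅H, H⁆ ≤ C_G(A)`. -/
theorem commutator_le_centralizer_of_card_prime_sq {G : Type*} [Group G] (p : ℕ) [Fact p.Prime]
    (hp2 : p ≠ 2) (A H : Subgroup G) [Finite H] (hodd : Odd (Nat.card H))
    (hHA : H ≤ Subgroup.normalizer (A : Set G)) (hAcard : Nat.card A = p ^ 2)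
    (hAexp : ∀ a ∈ A, a ^ p = 1)
    (hp : ¬ p ∣ (H ⊓ Subgroup.centralizer (A : Set G)).relIndex H) :
    ⁅H, H⁆ ≤ Subgroup.centralizer (A : Set G) := by
  have hpp : p.Prime := Fact.out
  -- A is commutative
  have hAcomm : ∀ a b : A, a * b = b * a :=
    (IsPGroup.isMulCommutative_of_card_eq_prime_sq (p := p) (G := ↥A) hAcard).is_comm.comm
  let _ : CommGroup A := { (inferInstance : Group A) with mul_comm := hAcomm }
  set ψ : H →* MulAut A := A.normalizerMonoidHom.comp (Subgroup.inclusion hHA) with hψ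
  have hkermem : ∀ h : H, h ∈ ψ.ker ↔ (h : G) ∈ Subgroup.centralizer (A : Set G) := by
    intro h
    rw [hψ, MonoidHom.mem_ker, MonoidHom.comp_apply, ← MonoidHom.mem_ker,
      Subgroup.normalizerMonoidHom_ker, Subgroup.mem_subgroupOf]
    rfl
  have hker : ψ.ker = (H ⊓ Subgroup.centralizer (A : Set G)).subgroupOf H := by
    ext h
    rw [hkermem, Subgroup.mem_subgroupOf, Subgroup.mem_inf]
    exact ⟨fun hc => ⟨h.2, hc⟩, fun hc => hc.2⟩
  have hidx : ψ.ker.index = (H ⊓ Subgroup.centralizer (A : Set G)).relIndex H := by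
    rw [hker]; rfl
  have hexp' : ∀ x : A, x ^ p = 1 := by
    intro x
    apply Subtype.ext
    simpa using hAexp x x.2
  have key := comm_mod_ker (H := H) (N := A) p hp2 hAcard hexp' ψ hodd (by rw [hidx]; exact hp)
  rw [Subgroup.commutator_le]
  intro g₁ hg₁ g₂ hg₂
  have := key ⟨g₁, hg₁⟩ ⟨g₂, hg₂⟩
  rw [hkermem] at this
  simpa [commutatorElement_def] using this

end Cfsg.Agent.Helper2.GL2Odd
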