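import Mathlib
import Cfsg.Prelude.Def_CaseTheorems
import Cfsg.Prelude.Def_Transfer
import Cfsg.Agent.Helper1.Hall
import Cfsg.Agent.Helper1.Coprime
import Cfsg.Agent.Helper1.SCN3b
import Cfsg.Agent.Helper2.GenHyper

set_option autoImplicit false

/-!
(GQ) of the BG plan v3 ("quotient generation"): `Z₀` central of order `p`, `Z₀ ≤ P₁` of order `p ^ 3`
and exponent `p`, `K₀` a normal `p'`-subgroup. If `D ≥ Z₀` contains `C_{K₀}(B)` for every `B` of
order `p ^ 2` with `Z₀ < B ≤ P₁`, then `K₀ ≤ D`.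
-/

namespace Cfsg.Agent.Helper2.BGGQ

open Cfsg Cfsg.Agent.Helper1 Cfsg.Agent.Helper2
open scoped commutatorElement

universe u

variable {G : Type u} [Group G]

theorem normal_of_le_center' {Z : Subgroup G} (hZ : Z ≤ Subgroup.center G) : Z.Normal := by
  constructor
  intro n hn g
  have := Subgroup.mem_center_iff.1 (hZ hn) g
  rw [this, mul_inv_cancel_right]
  exact hn

/-- (GQ), type version: `Z₀` is central in `G`. -/
theorem le_of_hyperplanes_mod_center [Finite G] {p : ℕ} [hp : Fact p.Prime]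
    (Z₀ P₁ K₀ D : Subgroup G) [hK₀n : K₀.Normal]
    (hZ : Z₀ ≤ Subgroup.center G) (hZcard : Nat.card Z₀ = p) (hZP : Z₀ ≤ P₁)
    (hP₁card : Nat.card P₁ = p ^ 3) (hP₁exp : ∀ x ∈ P₁, x ^ p = 1)
    (hK₀ : ¬ p ∣ Nat.card K₀) (hZD : Z₀ ≤ D)
    (hB : ∀ B : Subgroup G, Z₀ < B → B ≤ P₁ → Nat.card B = p ^ 2 →
      K₀ ⊓ Subgroup.centralizer (B : Set G) ≤ D) :
    K₀ ≤ D := by
  classical
  have hp1 : 1 < p := hp.out.one_lt
  haveI hZn : Z₀.Normal := normal_of_le_center' hZ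
  set π := QuotientGroup.mk' Z₀ with hπ
  have hsurj : Function.Surjective π := QuotientGroup.mk'_surjective Z₀
  have hker : ∀ g : G, π g = 1 ↔ g ∈ Z₀ := fun g => QuotientGroup.eq_one_iff g
  set Pb := P₁.map π with hPb
  set Kb := K₀.map π with hKb
  haveI hKbn : Kb.Normal := hK₀n.map π hsurj
  have hPbcard : Nat.card Pb = p ^ 2 := by
    have h1 := card_map_mk'_mul_card Z₀ P₁ hZP
    rw [hZcard, hP₁card] at h1
    have h2 : Nat.card Pb * p = p ^ 2 * p := by rw [h1]; ring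
    exact Nat.eq_of_mul_eq_mul_right hp.out.pos h2
  have hPbE : Cfsg.IsElementaryAbelian p Pb := by
    refine ⟨IsPGroup.isMulCommutative_of_card_eq_prime_sq hPbcard, ?_⟩
    rintro _ ⟨x, hx, rfl⟩
    rw [← map_pow, hP₁exp x hx, map_one]
  have hKbcard : ¬ p ∣ Nat.card Kb := by
    intro h
    exact hK₀ (h.trans (Subgroup.card_map_dvd K₀ π))
  have hPbN : Pb ≤ Subgroup.normalizer (Kb : Set (G ⧸ Z₀)) := by
    rw [Subgroup.normalizer_eq_top]; exact le_top
  have hgen := le_iSup_hyperplane_centralizers p (p ^ 2) Pb Kb hPbcard hPbE hKbcard hPbN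
  -- `K₀ ∩ Z₀ = 1`
  have hKZ : ∀ g : G, g ∈ K₀ → g ∈ Z₀ → g = 1 := by
    intro g hgK hgZ
    have h1 : orderOf g ∣ Nat.card K₀ := Subgroup.orderOf_dvd_natCard K₀ hgK
    have h2 : orderOf g ∣ p := by
      have := Subgroup.orderOf_dvd_natCard Z₀ hgZ
      rwa [hZcard] at this
    rcases (Nat.dvd_prime hp.out).1 h2 with h | h
    · exact orderOf_eq_one_iff.1 h
    · exact absurd (h ▸ h1) hK₀
  -- each piece lies in the image of `D`
  have hpiece : ∀ Bb : {Bb : Subgroup (G ⧸ Z₀) // Bb ≤ Pb ∧ Bb.relIndex Pb ≤ p},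
      Kb ⊓ Subgroup.centralizer ((Bb : Subgroup (G ⧸ Z₀)) : Set (G ⧸ Z₀)) ≤ D.map π := by
    rintro ⟨Bb, hBbP, hBbi⟩
    -- `Bb ≠ ⊥`
    have hBbne : Bb ≠ ⊥ := by
      rintro rfl
      rw [Subgroup.relIndex_bot_left, hPbcard] at hBbi
      have : p < p ^ 2 := by
        calc p = p ^ 1 := (pow_one p).symm
          _ < p ^ 2 := Nat.pow_lt_pow_right hp1 (by norm_num)
      omega
    obtain ⟨y, hyB, hy1⟩ := (Subgroup.ne_bot_iff_exists_ne_one.1 hBbne |> fun ⟨⟨y, hy⟩, h⟩ => (⟨y, hy, fun h' => h (Subtype.ext h')⟩ : ∃ y ∈ Bb, y ≠ 1))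
    obtain ⟨b₀, hb₀P, rfl⟩ := hBbP hyB
    have hb₀Z : b₀ ∉ Z₀ := fun h => hy1 ((hker b₀).2 h)
    have hb₀p : b₀ ^ p = 1 := hP₁exp b₀ hb₀P
    have hb₀1 : b₀ ≠ 1 := fun h => hb₀Z (h ▸ Z₀.one_mem)
    -- `B = Z₀ ⟨b₀⟩`
    set B := Z₀ ⊔ Subgroup.zpowers b₀ with hBdef
    have hZB : Z₀ < B := by
      refine lt_of_le_of_ne le_sup_left ?_
      intro h
      apply hb₀Z
      rw [h]
      exact (le_sup_right : Subgroup.zpowers b₀ ≤ B) (Subgroup.mem_zpowers b₀)
    have hBP : B ≤ P₁ := sup_le hZP ((Subgroup.zpowers_le).2 hb₀P)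
    have hordb : orderOf b₀ = p := orderOf_eq_prime hb₀p hb₀1
    have hzcard : Nat.card (Subgroup.zpowers b₀) = p := by rw [Nat.card_zpowers, hordb]
    have hdisj : Subgroup.zpowers b₀ ⊓ Z₀ = ⊥ := by
      rw [eq_bot_iff]
      intro y hy
      rw [Subgroup.mem_bot]
      by_contra hy1
      obtain ⟨hyz, hyZ⟩ := hy
      have hyord : orderOf y = p := by
        have hd : orderOf y ∣ p := by
          have := Subgroup.orderOf_dvd_natCard Z₀ hyZ
          rwa [hZcard] at this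
        rcases (Nat.dvd_prime hp.out).1 hd with h | h
        · exact absurd (orderOf_eq_one_iff.1 h) hy1
        · exact h
      have hle : Subgroup.zpowers y ≤ Subgroup.zpowers b₀ := (Subgroup.zpowers_le).2 hyz
      have heq : Subgroup.zpowers y = Subgroup.zpowers b₀ := by
        apply Subgroup.eq_of_le_of_card_ge hle
        rw [hzcard, Nat.card_zpowers, hyord]
      have : b₀ ∈ Subgroup.zpowers y := by rw [heq]; exact Subgroup.mem_zpowers b₀
      exact hb₀Z (((Subgroup.zpowers_le).2 hyZ) this)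
    have hnorm : Subgroup.zpowers b₀ ≤ Subgroup.normalizer (Z₀ : Set G) := by
      rw [Subgroup.normalizer_eq_top]; exact le_top
    have hBcard : Nat.card B = p ^ 2 := by
      rw [hBdef, card_sup_of_le_normalizer hnorm hdisj, hzcard, hZcard]; ring
    have hD := hB B hZB hBP hBcard
    rintro _ ⟨⟨k, hkK, rfl⟩, hkC⟩
    refine Subgroup.mem_map_of_mem π (hD ⟨hkK, ?_⟩)
    -- `k` centralizes `B`
    have hcomm : π b₀ * π k = π k * π b₀ := Subgroup.mem_centralizer_iff.1 hkC (π b₀) hyB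
    have hkb : ⁅k, b₀⁆ = 1 := by
      apply hKZ
      · -- `k (b₀ k⁻¹ b₀⁻¹) ∈ K₀`
        have h1 : b₀ * k⁻¹ * b₀⁻¹ ∈ K₀ := hK₀n.conj_mem _ (K₀.inv_mem hkK) b₀
        have h2 : ⁅k, b₀⁆ = k * (b₀ * k⁻¹ * b₀⁻¹) := by rw [commutatorElement_def]; group
        rw [h2]; exact K₀.mul_mem hkK h1
      · rw [← hker, map_commutatorElement, commutatorElement_eq_one_iff_commute]
        exact hcomm.symm
    have hkb' : k * b₀ = b₀ * k := commutatorElement_eq_one_iff_commute.1 hkb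
    have hle : B ≤ Subgroup.centralizer {k} := by
      apply sup_le
      · intro z hz
        rw [Subgroup.mem_centralizer_singleton_iff]
        exact (Subgroup.mem_center_iff.1 (hZ hz) k).symm
      · rw [Subgroup.zpowers_le, Subgroup.mem_centralizer_singleton_iff]
        exact hkb'.symm
    show k ∈ Subgroup.centralizer (B : Set G)
    rw [Subgroup.mem_centralizer_iff]
    intro b hb
    have := Subgroup.mem_centralizer_singleton_iff.1 (hle hb)
    exact this
  have hKbD : Kb ≤ D.map π := hgen.trans (iSup_le hpiece)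
  intro k hk
  obtain ⟨d, hd, hdk⟩ := hKbD (Subgroup.mem_map_of_mem π hk)
  have h1 : π (d⁻¹ * k) = 1 := by rw [map_mul, map_inv, hdk, inv_mul_cancel]
  have h2 : d⁻¹ * k ∈ D := hZD ((hker _).1 h1)
  have : k = d * (d⁻¹ * k) := by group
  rw [this]; exact D.mul_mem hd h2


/-- (GQ), subgroup version: everything happens inside a subgroup `H ≤ C_G(Z₀)` normalizing `K₀`
(e.g. `H = C_G(Z₀)` and `K₀ = O_{p'}(H)`). -/
theorem le_of_hyperplanes_mod_center_subgroup [Finite G] {p : ℕ} [hp : Fact p.Prime]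
    (H Z₀ P₁ K₀ D : Subgroup G)
    (hZH : Z₀ ≤ H) (hHZ : H ≤ Subgroup.centralizer (Z₀ : Set G)) (hPH : P₁ ≤ H) (hKH : K₀ ≤ H)
    (hHK : H ≤ Subgroup.normalizer (K₀ : Set G))
    (hZcard : Nat.card Z₀ = p) (hZP : Z₀ ≤ P₁)
    (hP₁card : Nat.card P₁ = p ^ 3) (hP₁exp : ∀ x ∈ P₁, x ^ p = 1)
    (hK₀ : ¬ p ∣ Nat.card K₀) (hZD : Z₀ ≤ D)
    (hB : ∀ B : Subgroup G, Z₀ < B → B ≤ P₁ → Nat.card B = p ^ 2 →
      K₀ ⊓ Subgroup.centralizer (B : Set G) ≤ D) :
    K₀ ≤ D := by
  haveI hKn : (K₀.subgroupOf H).Normal := (Subgroup.normal_subgroupOf_iff_le_normalizer hKH).2 hHK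
  have hcard : ∀ X : Subgroup G, X ≤ H → Nat.card (X.subgroupOf H) = Nat.card X := fun X hX =>
    Nat.card_congr (Subgroup.subgroupOfEquivOfLe hX).toEquiv
  have hmain : K₀.subgroupOf H ≤ D.subgroupOf H := by
    apply le_of_hyperplanes_mod_center (p := p) (Z₀.subgroupOf H) (P₁.subgroupOf H)
      (K₀.subgroupOf H) (D.subgroupOf H)
    · -- central
      rintro ⟨z, hzH⟩ hz
      rw [Subgroup.mem_center_iff]
      rintro ⟨g, hgH⟩
      apply Subtype.ext
      show g * z = z * g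
      have := Subgroup.mem_centralizer_iff.1 (hHZ hgH) z (Subgroup.mem_subgroupOf.1 hz)
      exact this.symm
    · rw [hcard Z₀ hZH, hZcard]
    · exact fun x hx => Subgroup.mem_subgroupOf.2 (hZP (Subgroup.mem_subgroupOf.1 hx))
    · rw [hcard P₁ hPH, hP₁card]
    · rintro ⟨x, hxH⟩ hx
      apply Subtype.ext
      rw [Subgroup.coe_pow, Subgroup.coe_one]
      exact hP₁exp x (Subgroup.mem_subgroupOf.1 hx)
    · rw [hcard K₀ hKH]; exact hK₀
    · exact fun x hx => Subgroup.mem_subgroupOf.2 (hZD (Subgroup.mem_subgroupOf.1 hx))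
    · intro B' hZB' hB'P hB'card
      set B := B'.map H.subtype with hBdef
      have hBH : B ≤ H := Subgroup.map_subtype_le B'
      have hB'eq : B.subgroupOf H = B' := by
        rw [hBdef, Subgroup.subgroupOf, Subgroup.comap_map_eq_self_of_injective H.subtype_injective]
      have hZB : Z₀ < B := by
        have h1 : Z₀ ≤ B := by
          intro z hz
          exact ⟨⟨z, hZH hz⟩, hZB'.le (Subgroup.mem_subgroupOf.2 hz), rfl⟩
        refine lt_of_le_of_ne h1 ?_
        intro h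
        apply hZB'.ne
        rw [← hB'eq, h]
      have hBP : B ≤ P₁ := by
        rintro _ ⟨b, hb, rfl⟩
        exact Subgroup.mem_subgroupOf.1 (hB'P hb)
      have hBcard : Nat.card B = p ^ 2 := by
        rw [hBdef, Subgroup.card_map_of_injective H.subtype_injective, hB'card]
      have hD := hB B hZB hBP hBcard
      rintro ⟨k, hkH⟩ ⟨hkK, hkC⟩
      rw [Subgroup.mem_subgroupOf]
      apply hD
      refine ⟨Subgroup.mem_subgroupOf.1 hkK, ?_⟩
      show k ∈ Subgroup.centralizer (B : Set G)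
      rw [Subgroup.mem_centralizer_iff]
      rintro _ ⟨b, hb, rfl⟩
      have hkC' : (⟨k, hkH⟩ : ↥H) ∈ Subgroup.centralizer (B' : Set ↥H) := hkC
      have h1 := Subgroup.mem_centralizer_iff.1 hkC' b hb
      have h2 := congrArg (fun z : ↥H => (z : G)) h1
      simpa using h2
  intro k hk
  have := hmain (show (⟨k, hKH hk⟩ : ↥H) ∈ K₀.subgroupOf H from Subgroup.mem_subgroupOf.2 hk)
  exact Subgroup.mem_subgroupOf.1 this

end Cfsg.Agent.Helper2.BGGQ
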