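import Mathlib
import Cfsg.Prelude.Def_CaseTheorems
import Cfsg.Prelude.Def_Transfer
import Cfsg.Agent.Helper1.PRankTwo
import Cfsg.Agent.Helper1.MaxNormalAbelianBound
import Cfsg.Agent.Helper1.SCN3b
import Cfsg.Agent.Helper1.Coprime
import Cfsg.Agent.Helper2.GenHyper

set_option autoImplicit false

/-!
(U2) of the BG plan v3: in a `p`-group `S` (`p` odd) of rank at least three, every element `x` of
order dividing `p` of the commutator subgroup `S'` has an elementary abelian subgroup of order at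
least `p ^ 3` in its centralizer.
-/

namespace Cfsg.Agent.Helper2.BGU2

open Cfsg Cfsg.Agent.Helper1
open scoped commutatorElement

universe u

variable {R : Type u} [Group R]

/-- In a `p`-group, a normal chain `V₂ ≤ V₁ ≤ N` with successive indices `p` and `|V₂| = p`:
the commutator subgroup centralizes `N` modulo `V₂`. -/
theorem commutator_commutator_le [Finite R] {p : ℕ} [hp : Fact p.Prime] (hR : IsPGroup p R)
    (N V₁ V₂ : Subgroup R) [hNn : N.Normal] [hV₁n : V₁.Normal] [hV₂n : V₂.Normal]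
    (h12 : V₂ ≤ V₁) (h1N : V₁ ≤ N) (hc1 : Nat.card N = p * Nat.card V₁)
    (hc2 : Nat.card V₁ = p * Nat.card V₂) :
    ⁅⁅(⊤ : Subgroup R), (⊤ : Subgroup R)⁆, N⁆ ≤ V₂ := by
  have hN : ⁅N, (⊤ : Subgroup R)⁆ ≤ V₁ := commutator_le_of_normal_index_p hR N V₁ h1N hc1
  have hV : ⁅V₁, (⊤ : Subgroup R)⁆ ≤ V₂ := commutator_le_of_normal_index_p hR V₁ V₂ h12 hc2
  set π := QuotientGroup.mk' V₂ with hπ
  have hsurj : Function.Surjective π := QuotientGroup.mk'_surjective V₂
  have htop : (⊤ : Subgroup R).map π = ⊤ := by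
    rw [← MonoidHom.range_eq_map, MonoidHom.range_eq_top]; exact hsurj
  have h1 : ⁅⁅N.map π, (⊤ : Subgroup (R ⧸ V₂))⁆, (⊤ : Subgroup (R ⧸ V₂))⁆ = ⊥ := by
    rw [eq_bot_iff]
    calc ⁅⁅N.map π, (⊤ : Subgroup (R ⧸ V₂))⁆, (⊤ : Subgroup (R ⧸ V₂))⁆
        = (⁅⁅N, (⊤ : Subgroup R)⁆, (⊤ : Subgroup R)⁆).map π := by
          rw [Subgroup.map_commutator, Subgroup.map_commutator, htop]
      _ ≤ (⁅V₁, (⊤ : Subgroup R)⁆).map π := Subgroup.map_mono (Subgroup.commutator_mono hN le_rfl)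
      _ ≤ V₂.map π := Subgroup.map_mono hV
      _ = ⊥ := by
          rw [eq_bot_iff]
          rintro _ ⟨v, hv, rfl⟩
          rw [Subgroup.mem_bot]
          exact (QuotientGroup.eq_one_iff v).2 hv
  have h2 : ⁅⁅(⊤ : Subgroup (R ⧸ V₂)), N.map π⁆, (⊤ : Subgroup (R ⧸ V₂))⁆ = ⊥ := by
    rw [Subgroup.commutator_comm (⊤ : Subgroup (R ⧸ V₂)) (N.map π)]; exact h1
  have h3 : ⁅⁅(⊤ : Subgroup (R ⧸ V₂)), (⊤ : Subgroup (R ⧸ V₂))⁆, N.map π⁆ = ⊥ :=
    Subgroup.commutator_commutator_eq_bot_of_rotate h2 h1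
  have h4 : (⁅⁅(⊤ : Subgroup R), (⊤ : Subgroup R)⁆, N⁆).map π = ⊥ := by
    rw [Subgroup.map_commutator, Subgroup.map_commutator, htop]; exact h3
  intro y hy
  have : π y ∈ (⁅⁅(⊤ : Subgroup R), (⊤ : Subgroup R)⁆, N⁆).map π := Subgroup.mem_map_of_mem π hy
  rw [h4, Subgroup.mem_bot] at this
  exact (QuotientGroup.eq_one_iff y).1 this

theorem card_ker_mul_card_range' {G H : Type*} [Group G] [Group H] (f : G →* H) :
    Nat.card f.ker * Nat.card f.range = Nat.card G := by
  rw [mul_comm, ← Nat.card_congr (QuotientGroup.quotientKerEquivRange f).toEquiv]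
  exact (Subgroup.card_eq_card_quotient_mul_card_subgroup f.ker).symm

/-- (U2), type version. -/
theorem exists_ea3_centralizer [Finite R] {p : ℕ} [hp : Fact p.Prime] (hp2 : p ≠ 2)
    (hR : IsPGroup p R) (hr : ¬ Cfsg.PRankLE p 2 R) {x : R} (hx : x ∈ commutator R)
    (hxp : x ^ p = 1) :
    ∃ B : Subgroup R, Cfsg.IsElementaryAbelian p B ∧ p ^ 3 ≤ Nat.card B ∧
      B ≤ Subgroup.centralizer {x} := by
  classical
  have hp1 : 1 < p := hp.out.one_lt
  -- a normal elementary abelian subgroup of order `p ^ 3`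
  obtain ⟨N, hNn, hNc, hNe, hNcard⟩ : ∃ N : Subgroup R, N.Normal ∧ IsMulCommutative N ∧
      (∀ a ∈ N, a ^ p = 1) ∧ Nat.card N = p ^ 3 := by
    by_contra hcon
    push Not at hcon
    apply hr
    intro A hAc hAe
    exact prank_le_two hp2 hR (fun B hBn hBc hBe => hcon B hBn hBc hBe) A hAc hAe
  haveI := hNn
  have hNE : Cfsg.IsElementaryAbelian p N := ⟨hNc, hNe⟩
  have hNcomm : ∀ a ∈ N, ∀ b ∈ N, a * b = b * a := by
    intro a ha b hb
    have := hNc.is_comm.comm ⟨a, ha⟩ ⟨b, hb⟩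
    exact congrArg (fun z : ↥N => (z : R)) this
  obtain ⟨V₁, hV₁n, hV₁N, hV₁card⟩ := exists_normal_le_card hR 1 2 N hNn (by rw [hNcard])
  haveI := hV₁n
  obtain ⟨V₂, hV₂n, hV₂V₁, hV₂card⟩ := exists_normal_le_card hR 1 1 V₁ hV₁n (by rw [hV₁card])
  haveI := hV₂n
  have hV₂card' : Nat.card V₂ = p := by rw [hV₂card, pow_one]
  have hkey : ⁅⁅(⊤ : Subgroup R), (⊤ : Subgroup R)⁆, N⁆ ≤ V₂ :=
    commutator_commutator_le hR N V₁ V₂ hV₂V₁ hV₁N (by rw [hNcard, hV₁card]; ring)
      (by rw [hV₁card, hV₂card]; ring)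
  have hV₂c : ⁅V₂, (⊤ : Subgroup R)⁆ ≤ ⊥ :=
    commutator_le_of_normal_index_p hR V₂ ⊥ bot_le (by rw [hV₂card', Subgroup.card_bot, mul_one])
  have hV₂cen : ∀ v ∈ V₂, ∀ g : R, v * g = g * v := by
    intro v hv g
    have h1 : ⁅v, g⁆ ∈ ⁅V₂, (⊤ : Subgroup R)⁆ := Subgroup.commutator_mem_commutator hv (Subgroup.mem_top g)
    have h2 := hV₂c h1
    rw [Subgroup.mem_bot] at h2
    exact commutatorElement_eq_one_iff_commute.1 h2
  have hxc : x ∈ ⁅(⊤ : Subgroup R), (⊤ : Subgroup R)⁆ := hx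
  have hcomm_mem : ∀ n ∈ N, ⁅x, n⁆ ∈ V₂ := fun n hn =>
    hkey (Subgroup.commutator_mem_commutator hxc hn)
  -- the homomorphism `n ↦ ⁅x, n⁆`
  let f : ↥N →* R :=
    { toFun := fun n => ⁅x, (n : R)⁆
      map_one' := by simp
      map_mul' := by
        rintro ⟨a, ha⟩ ⟨b, hb⟩
        show ⁅x, a * b⁆ = ⁅x, a⁆ * ⁅x, b⁆
        have hb' := hV₂cen _ (hcomm_mem b hb)
        -- ⁅x, a*b⁆ = ⁅x,a⁆ * a ⁅x,b⁆ a⁻¹
        have h1 : ⁅x, a * b⁆ = ⁅x, a⁆ * (a * ⁅x, b⁆ * a⁻¹) := by
          simp only [commutatorElement_def]; group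
        rw [h1, ← hb' a, mul_inv_cancel_right] }
  have hfker : ∀ n : ↥N, n ∈ f.ker ↔ (n : R) ∈ Subgroup.centralizer {x} := by
    intro n
    rw [MonoidHom.mem_ker]
    show ⁅x, (n : R)⁆ = 1 ↔ _
    rw [commutatorElement_eq_one_iff_commute, Subgroup.mem_centralizer_singleton_iff]
    constructor
    · intro h; exact h.eq.symm
    · intro h; exact h.symm
  have hrange : Nat.card f.range ≤ p := by
    rw [← hV₂card']
    have hinj : Function.Injective (fun y : ↥f.range => (⟨(y : R), by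
        obtain ⟨n, hn⟩ := y.2
        rw [← hn]; exact hcomm_mem n n.2⟩ : ↥V₂)) := by
      intro y z hyz
      apply Subtype.ext
      exact congrArg (fun w : ↥V₂ => (w : R)) hyz
    exact Nat.card_le_card_of_injective _ hinj
  have hker : p ^ 2 ≤ Nat.card f.ker := by
    have h1 := card_ker_mul_card_range' f
    rw [hNcard] at h1
    by_contra hlt
    push Not at hlt
    have h2 : Nat.card f.ker * Nat.card f.range < p ^ 2 * p := by
      calc Nat.card f.ker * Nat.card f.range ≤ Nat.card f.ker * p := Nat.mul_le_mul_left _ hrange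
        _ < p ^ 2 * p := Nat.mul_lt_mul_of_pos_right hlt hp.out.pos
    rw [h1] at h2
    have : p ^ 2 * p = p ^ 3 := by ring
    omega
  -- `K = C_N(x)` as a subgroup of `R`
  set K : Subgroup R := N ⊓ Subgroup.centralizer {x} with hK
  have hKcard : Nat.card K = Nat.card f.ker := by
    apply Nat.card_congr
    refine ⟨fun k => ⟨⟨k.1, k.2.1⟩, (hfker _).2 k.2.2⟩, fun n => ⟨n.1.1, n.1.2, (hfker n.1).1 n.2⟩,
      fun k => rfl, fun n => rfl⟩
  have hKE : Cfsg.IsElementaryAbelian p K := Cfsg.Agent.Helper2.isElementaryAbelian_of_le hNE inf_le_left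
  by_cases hxN : x ∈ N
  · refine ⟨N, hNE, hNcard.ge, ?_⟩
    intro n hn
    rw [Subgroup.mem_centralizer_singleton_iff]
    exact hNcomm n hn x hxN
  · -- `B = ⟨x⟩ K`
    have hZE : Cfsg.IsElementaryAbelian p (Subgroup.zpowers x) := SCN3.elementary_zpowers hxp
    have hZK : Subgroup.zpowers x ≤ Subgroup.centralizer (K : Set R) := by
      rw [Subgroup.zpowers_le]
      intro k hk
      have := Subgroup.mem_centralizer_singleton_iff.1 hk.2
      exact this
    have hBE : Cfsg.IsElementaryAbelian p (K ⊔ Subgroup.zpowers x) :=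
      SCN3.elementary_sup_of_le_centralizer hKE hZE hZK
    have hx1 : x ≠ 1 := fun h => hxN (h ▸ N.one_mem)
    have hordx : orderOf x = p := orderOf_eq_prime hxp hx1
    have hZcard : Nat.card (Subgroup.zpowers x) = p := by rw [Nat.card_zpowers, hordx]
    have hdisj : Subgroup.zpowers x ⊓ K = ⊥ := by
      rw [eq_bot_iff]
      intro y hy
      rw [Subgroup.mem_bot]
      by_contra hy1
      obtain ⟨hyZ, hyK⟩ := hy
      -- `y` generates `zpowers x`
      have hyord : orderOf y = p := by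
        have hd : orderOf y ∣ p := by
          have := Subgroup.orderOf_dvd_natCard (Subgroup.zpowers x) hyZ
          rwa [hZcard] at this
        rcases (Nat.dvd_prime hp.out).1 hd with h | h
        · exact absurd (orderOf_eq_one_iff.1 h) hy1
        · exact h
      have hle : Subgroup.zpowers y ≤ Subgroup.zpowers x := (Subgroup.zpowers_le).2 hyZ
      have heq : Subgroup.zpowers y = Subgroup.zpowers x := by
        apply Subgroup.eq_of_le_of_card_ge hle
        rw [hZcard, Nat.card_zpowers, hyord]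
      have : x ∈ Subgroup.zpowers y := by rw [heq]; exact Subgroup.mem_zpowers x
      have hxK : x ∈ K := ((Subgroup.zpowers_le).2 hyK) this
      exact hxN hxK.1
    have hnorm : Subgroup.zpowers x ≤ Subgroup.normalizer (K : Set R) :=
      hZK.trans (Subgroup.centralizer_le_normalizer _)
    have hBcard : Nat.card (K ⊔ Subgroup.zpowers x : Subgroup R) = p * Nat.card K := by
      rw [card_sup_of_le_normalizer hnorm hdisj, hZcard]
    refine ⟨K ⊔ Subgroup.zpowers x, hBE, ?_, ?_⟩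
    · rw [hBcard, hKcard]
      calc p ^ 3 = p * p ^ 2 := by ring
        _ ≤ p * Nat.card f.ker := Nat.mul_le_mul_left _ hker
    · apply sup_le
      · exact inf_le_right
      · rw [Subgroup.zpowers_le, Subgroup.mem_centralizer_singleton_iff]


/-- An elementary abelian subgroup of order at least `p ^ 3` inside `H` shows that `H` has rank at
least three. -/
theorem not_pRankLE_two_of_le {G : Type u} [Group G] {p : ℕ} [hp : Fact p.Prime] {H B : Subgroup G}
    [Finite B] (hB : Cfsg.IsElementaryAbelian p B) (hcard : p ^ 3 ≤ Nat.card B) (hBH : B ≤ H) :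
    ¬ Cfsg.PRankLE p 2 ↥H := by
  intro h
  have hcomm : ∀ a ∈ B, ∀ b ∈ B, a * b = b * a := by
    intro a ha b hb
    have := hB.1.is_comm.comm ⟨a, ha⟩ ⟨b, hb⟩
    exact congrArg (fun z : ↥B => (z : G)) this
  have h1 := h (B.subgroupOf H) ⟨⟨by
      rintro ⟨⟨a, haH⟩, ha⟩ ⟨⟨b, hbH⟩, hb⟩
      apply Subtype.ext
      apply Subtype.ext
      exact hcomm a (Subgroup.mem_subgroupOf.1 ha) b (Subgroup.mem_subgroupOf.1 hb)⟩⟩
    (by
      rintro ⟨a, haH⟩ ha
      apply Subtype.ext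
      rw [Subgroup.coe_pow, Subgroup.coe_one]
      exact hB.2 a (Subgroup.mem_subgroupOf.1 ha))
  have h2 : Nat.card (B.subgroupOf H) = Nat.card B :=
    Nat.card_congr (Subgroup.subgroupOfEquivOfLe hBH).toEquiv
  rw [h2] at h1
  have hp1 : 1 < p := hp.out.one_lt
  have : p ^ 2 < p ^ 3 := Nat.pow_lt_pow_right hp1 (by norm_num)
  omega

/-- (U2), subgroup version: `S ≤ G` a finite `p`-subgroup (`p` odd) of rank at least three and
`x ∈ S'` with `x ^ p = 1`; then `C_S(x)` contains an elementary abelian subgroup of order at least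
`p ^ 3`. -/
theorem exists_ea3_inf_centralizer {G : Type u} [Group G] {p : ℕ} [hp : Fact p.Prime] (hp2 : p ≠ 2)
    {S : Subgroup G} [Finite S] (hS : IsPGroup p S) (hr : ¬ Cfsg.PRankLE p 2 ↥S) {x : G}
    (hx : x ∈ ⁅S, S⁆) (hxp : x ^ p = 1) :
    ∃ B : Subgroup G, B ≤ S ⊓ Subgroup.centralizer {x} ∧ Cfsg.IsElementaryAbelian p B ∧
      p ^ 3 ≤ Nat.card B := by
  rw [← Subgroup.map_subtype_commutator] at hx
  obtain ⟨x', hx', rfl⟩ := hx
  have hxp' : x' ^ p = 1 := by
    apply Subtype.ext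
    rw [Subgroup.coe_pow, Subgroup.coe_one]
    exact hxp
  obtain ⟨B', hB'E, hB'card, hB'C⟩ := exists_ea3_centralizer hp2 hS hr hx' hxp'
  refine ⟨B'.map S.subtype, ?_, ?_, ?_⟩
  · apply le_inf
    · exact Subgroup.map_subtype_le B'
    · rintro _ ⟨b, hb, rfl⟩
      rw [Subgroup.mem_centralizer_singleton_iff]
      have h1 := Subgroup.mem_centralizer_singleton_iff.1 (hB'C hb)
      have h2 := congrArg (fun z : ↥S => (z : G)) h1
      simpa using h2
  · refine ⟨⟨⟨?_⟩⟩, ?_⟩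
    · rintro ⟨_, ⟨a, ha, rfl⟩⟩ ⟨_, ⟨b, hb, rfl⟩⟩
      apply Subtype.ext
      have h1 := hB'E.1.is_comm.comm ⟨a, ha⟩ ⟨b, hb⟩
      have h2 : a * b = b * a := congrArg (fun z : ↥B' => (z : ↥S)) h1
      have h3 := congrArg (fun z : ↥S => (z : G)) h2
      simpa using h3
    · rintro _ ⟨a, ha, rfl⟩
      have h1 := hB'E.2 a ha
      have h2 := congrArg (fun z : ↥S => (z : G)) h1
      simpa using h2
  · have : Nat.card (B'.map S.subtype) = Nat.card B' :=
      Subgroup.card_map_of_injective S.subtype_injective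
    rw [this]; exact hB'card

/-- (U2) as a rank statement. -/
theorem not_pRankLE_two_inf_centralizer {G : Type u} [Group G] {p : ℕ} [hp : Fact p.Prime]
    (hp2 : p ≠ 2) {S : Subgroup G} [Finite S] (hS : IsPGroup p S) (hr : ¬ Cfsg.PRankLE p 2 ↥S)
    {x : G} (hx : x ∈ ⁅S, S⁆) (hxp : x ^ p = 1) :
    ¬ Cfsg.PRankLE p 2 ↥(S ⊓ Subgroup.centralizer {x}) := by
  obtain ⟨B, hBle, hBE, hBcard⟩ := exists_ea3_inf_centralizer hp2 hS hr hx hxp
  haveI : Finite B := Finite.of_injective (Subgroup.inclusion (hBle.trans inf_le_left))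
    (Subgroup.inclusion_injective _)
  exact not_pRankLE_two_of_le hBE hBcard hBle

end Cfsg.Agent.Helper2.BGU2
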