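import Mathlib
import Cfsg.Prelude
import Cfsg.Agent.Helper4.BG13d
import Cfsg.Agent.Lead.BG114a
import Cfsg.Agent.S1378
import Cfsg.Agent.S1404
import Cfsg.Agent.S1409
import Cfsg.Agent.S1417
import Cfsg.Agent.S1418
import Cfsg.Agent.S1420
import Cfsg.Agent.S1424
import Cfsg.Agent.Helper1.TypeP

set_option autoImplicit false

/-!
Bender–Glauberman 14.4 (core): for `w ≠ 1` in `M_σ` with `C_G(w) ⊄ M` there is a maximal subgroup
`N ⊇ C_G(w)`, not conjugate to `M`, with `τ₂(N) ≠ ∅`, `N_σ ∩ M = 1` and `M ∩ N` a complement of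
`N_σ` in `N`.  Consequently `C_G(w) = C_{N_σ}(w) ⋊ C_M(w)`.
-/

namespace Cfsg.Agent.Helper2.BG144

open Cfsg
open scoped Pointwise

universe u

variable {G : Type u} [Group G] [Finite G]

omit [Finite G] in
theorem cent_singleton_le_pow (w : G) (k : ℕ) :
    Subgroup.centralizer ({w} : Set G) ≤ Subgroup.centralizer ({w ^ k} : Set G) := by
  intro c hc
  rw [Subgroup.mem_centralizer_singleton_iff] at hc ⊢
  have h : Commute c w := hc
  exact (h.pow_right k)

omit [Finite G] in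
theorem cent_singleton_le_normalizer_zpowers (x : G) :
    Subgroup.centralizer ({x} : Set G) ≤
      Subgroup.normalizer ((Subgroup.zpowers x : Subgroup G) : Set G) := by
  have h1 : Subgroup.centralizer ((Subgroup.zpowers x : Subgroup G) : Set G) =
      Subgroup.centralizer ({x} : Set G) := by
    rw [Subgroup.zpowers_eq_closure, Subgroup.centralizer_closure]
  rw [← h1]
  exact Subgroup.centralizer_le_normalizer _

/-- The data attached to a "bad" element `w` of `M_σ`. -/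
structure BadData (M N : Subgroup G) (w : G) : Prop where
  coatom : IsCoatom N
  cent_le : Subgroup.centralizer ({w} : Set G) ≤ N
  not_conj : ∀ g : G, N ≠ M.map (MulAut.conj g).toMonoidHom
  tau2 : (Cfsg.tau2 N).Nonempty
  inf_bot : Cfsg.sigmaCore N ⊓ M = ⊥
  compl : Cfsg.IsComplIn (M ⊓ N) (Cfsg.sigmaCore N) N

theorem exists_badData (hG : Cfsg.IsMinSimpleOddOrder G) {M : Subgroup G} (hM : IsCoatom M)
    {w : G} (hw : w ∈ Cfsg.sigmaCore M) (hw1 : w ≠ 1)
    (hbad : ¬ Subgroup.centralizer ({w} : Set G) ≤ M) :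
    ∃ N : Subgroup G, BadData M N w := by
  classical
  have hord : orderOf w ≠ 1 := by rwa [Ne, orderOf_eq_one_iff]
  obtain ⟨r, hr, hrw⟩ := Nat.exists_prime_and_dvd hord
  haveI : Fact r.Prime := ⟨hr⟩
  have hord0 : orderOf w ≠ 0 := (orderOf_pos w).ne'
  set x : G := w ^ (orderOf w / r) with hx
  have hxord : orderOf x = r := orderOf_pow_orderOf_div hord0 hrw
  set X : Subgroup G := Subgroup.zpowers x with hX
  have hXcard : Nat.card X = r := by rw [Nat.card_zpowers, hxord]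
  have hxσ : x ∈ Cfsg.sigmaCore M := Subgroup.pow_mem _ hw _
  have hXσ : X ≤ Cfsg.sigmaCore M := by rw [hX, Subgroup.zpowers_le]; exact hxσ
  have hσM : Cfsg.sigmaCore M ≤ M := Cfsg.Agent.Lead.BG12.sigmaCore_le
  have hXM : X ≤ M := hXσ.trans hσM
  have hrσ : r ∈ Cfsg.sigma M := by
    apply Cfsg.Agent.Lead.BG12.mem_sigma_of_dvd_card_sigmaCore hr
    rw [← hXcard]; exact Subgroup.card_dvd_of_le hXσ
  have hXp : IsPGroup r X := IsPGroup.of_card (n := 1) (by rw [hXcard, pow_one])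
  have hX1 : X ≠ ⊥ := by
    intro h
    rw [h, Subgroup.card_bot] at hXcard
    exact hr.one_lt.ne hXcard
  have hXtop : X ≠ ⊤ := fun h => hM.1 (top_le_iff.mp (h ▸ hXM))
  have hNX : Subgroup.normalizer (X : Set G) ≠ ⊤ :=
    Cfsg.Agent.Helper1.BGU.normalizer_ne_top_of_simple hG hX1 hXtop
  obtain ⟨N, hN, hXN⟩ := Cfsg.Agent.Helper1.BGU.exists_coatom_ge hNX
  have hCx : Subgroup.centralizer ({x} : Set G) ≤ N :=
    (cent_singleton_le_normalizer_zpowers x).trans hXN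
  have hCw : Subgroup.centralizer ({w} : Set G) ≤ N := (cent_singleton_le_pow w _).trans hCx
  have hne : N ≠ M := fun h => hbad (h ▸ hCw)
  have hXN' : X ≤ N := Subgroup.le_normalizer.trans hXN
  have hXMN : X ≤ M ⊓ N := le_inf hXM hXN'
  obtain ⟨S, hS⟩ := (hXp.comap_subtype (K := M ⊓ N)).exists_le_sylow
  have hXS : X ≤ (S : Subgroup ↥(M ⊓ N)).map (M ⊓ N).subtype := by
    intro y hy
    exact ⟨⟨y, hXMN hy⟩, hS (Subgroup.mem_subgroupOf.mpr hy), rfl⟩
  obtain ⟨hnc, hNS, hrel⟩ :=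
    Cfsg.Agent.S1424.result hG M hM r hrσ X hXp hX1 hXM N hN hne hXN S hXS
  set S' : Subgroup G := (S : Subgroup ↥(M ⊓ N)).map (M ⊓ N).subtype with hS'
  have hS'MN : S' ≤ M ⊓ N := Subgroup.map_subtype_le _
  have hS'N : S' ≤ N := hS'MN.trans inf_le_right
  have hS'p : IsPGroup r S' := S.2.map _
  have hrN : r ∉ Cfsg.sigma N := by
    intro h
    obtain ⟨g, hg⟩ := (Cfsg.Agent.S1378.result hG).2 M N hM hN ⟨r, hrσ, h⟩
    exact hnc g hg
  obtain ⟨⟨hr2, hr1⟩, -, A0, hA0, hA0card, hXA0⟩ :=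
    Cfsg.Agent.S1409.result hG N hN r hrN X hXcard hXN
  have hτ2 : r ∈ Cfsg.tau2 N := ⟨hr, hrN, hr2, hr1⟩
  have hxA0 : x ∈ A0 := hXA0 (Subgroup.mem_zpowers x)
  have hA0N : A0 ≤ N := by
    intro a ha
    apply hCx
    rw [Subgroup.mem_centralizer_singleton_iff]
    exact congrArg Subtype.val (hA0.1.is_comm.comm ⟨a, ha⟩ ⟨x, hxA0⟩)
  have hA0p : IsPGroup r A0 := IsPGroup.of_card (n := 2) hA0card
  have hcardS' : Nat.card S' = r ^ (Nat.card N).factorization r := by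
    obtain ⟨b, hb⟩ := IsPGroup.iff_card.mp hS'p
    have h1 : S'.relIndex N * Nat.card S' = Nat.card N := by
      rw [← Cfsg.Agent.Lead.card_subgroupOf_of_le hS'N]; exact Subgroup.index_mul_card _
    have hrel0 : S'.relIndex N ≠ 0 := by
      intro h0; rw [h0, zero_mul] at h1; exact Nat.card_pos.ne' h1.symm
    have h2 : (Nat.card N).factorization r = b := by
      rw [← h1, hb, Nat.factorization_mul hrel0 (pow_pos hr.pos b).ne', Finsupp.add_apply,
        Nat.factorization_eq_zero_of_not_dvd hrel, hr.factorization_pow, Finsupp.single_eq_same,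
        zero_add]
    rw [h2, hb]
  obtain ⟨n, hn, hnA⟩ :=
    Cfsg.Agent.Lead.exists_conj_le_of_card_eq_ppart hS'N hcardS' hA0N hA0p
  set A : Subgroup G := A0.map (MulAut.conj n).toMonoidHom with hA
  have hAel : Cfsg.IsElementaryAbelian r A := Cfsg.Agent.Helper1.BGX.isElementaryAbelian_map hA0 _
  have hAcard : Nat.card A = r ^ 2 := by
    rw [hA, Cfsg.Agent.Lead.card_map_conj]; exact hA0card
  have hAS' : A ≤ S' := hnA
  have hAMN : A ≤ M ⊓ N := hAS'.trans hS'MN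
  have hAM : A ≤ M := hAMN.trans inf_le_left
  have hAN : A ≤ N := hAMN.trans inf_le_right
  obtain ⟨-, hb, -, -, he, -⟩ := Cfsg.Agent.S1417.result hG N hN r hτ2 A ⟨hAN, hAel, hAcard⟩
  have hinf : Cfsg.sigmaCore N ⊓ M = ⊥ := he M hM hne.symm hAM
  -- `N_G(A) ≤ M`
  obtain ⟨EM, hEM, -⟩ := Cfsg.Agent.Lead.BG12.exists_compl_sigmaCore_ge hG hM
    (K := ⊥) bot_le (by
      intro t ht htd
      rw [Subgroup.card_bot] at htd
      exact absurd (Nat.dvd_one.mp htd) ht.one_lt.ne')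
  have hAp : IsPGroup r A := IsPGroup.of_card (n := 2) hAcard
  have hAnc : ¬ IsCyclic ↥A := Cfsg.Agent.Helper4.BG12.not_isCyclic_of_ea2 hAel.2 hAcard
  have hNA : Subgroup.normalizer (A : Set G) ≤ M :=
    (Cfsg.Agent.S1420.result hG M hM EM hEM).2.2.1 r A hrσ hAp hAM hAnc
  -- complement of `N_σ` containing `A`
  obtain ⟨E, hE, hAE⟩ := Cfsg.Agent.Lead.BG12.exists_compl_sigmaCore_ge hG hN hAN (by
      intro t ht htd
      rw [hAcard] at htd
      have : t = r := (Nat.prime_dvd_prime_iff_eq ht hr).mp (ht.dvd_of_dvd_pow htd)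
      rw [this]; exact hrN)
  have hEeq : N ⊓ Subgroup.normalizer (A : Set G) = E :=
    (Cfsg.Agent.S1418.result hG N hN E hE r hτ2 A ⟨hAE, hAel, hAcard⟩).2.1.2.1
  have hEM' : E ≤ M := by
    rw [← hEeq]; exact inf_le_right.trans hNA
  have hMN : M ⊓ N = E := by
    apply le_antisymm
    · intro y hy
      obtain ⟨a, ha, b, hb', hyab⟩ := hE.2.2.2 y hy.2
      have hbM : b ∈ M := by
        have : b = a⁻¹ * y := by rw [hyab]; group
        rw [this]; exact M.mul_mem (M.inv_mem (hEM' ha)) hy.1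
      have hb1 : b = 1 := by
        have : b ∈ Cfsg.sigmaCore N ⊓ M := ⟨hb', hbM⟩
        rw [hinf] at this
        exact Subgroup.mem_bot.mp this
      rw [hyab, hb1, mul_one]; exact ha
    · exact le_inf hEM' hE.1
  exact ⟨N, ⟨hN, hCw, hnc, ⟨r, hτ2⟩, hinf, by rw [hMN]; exact hE⟩⟩


/-- **Structure of the centralizer** (B&G 14.4): for `w ≠ 1` in `M_σ`, `C_G(w)` has a normal
subgroup `R` complementing `C_M(w)`, with `R ∩ M = 1` and `(|C_M(w)|, |R|) = 1`. -/
theorem cent_structure (hG : Cfsg.IsMinSimpleOddOrder G) {M : Subgroup G} (hM : IsCoatom M)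
    {w : G} (hw : w ∈ Cfsg.sigmaCore M) (hw1 : w ≠ 1) :
    ∃ R : Subgroup G,
      Subgroup.centralizer ({w} : Set G) ≤ Subgroup.normalizer (R : Set G) ∧
      Cfsg.IsComplIn (M ⊓ Subgroup.centralizer ({w} : Set G)) R
        (Subgroup.centralizer ({w} : Set G)) ∧
      R ⊓ M = ⊥ ∧
      (Nat.card ↥(M ⊓ Subgroup.centralizer ({w} : Set G))).Coprime (Nat.card R) := by
  classical
  set C : Subgroup G := Subgroup.centralizer ({w} : Set G) with hC
  by_cases hbad : C ≤ M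
  · refine ⟨⊥, ?_, ⟨inf_le_right, bot_le, inf_bot_eq _, ?_⟩, bot_inf_eq _, ?_⟩
    · intro c _
      rw [Subgroup.mem_normalizer_iff]
      intro h
      rw [Subgroup.mem_bot, Subgroup.mem_bot]
      constructor
      · rintro rfl; group
      · intro h1
        have : h = c⁻¹ * (c * h * c⁻¹) * c := by group
        rw [this, h1]; group
    · intro c hc
      exact ⟨c, ⟨hbad hc, hc⟩, 1, Subgroup.one_mem _, (mul_one c).symm⟩
    · rw [Subgroup.card_bot]; exact Nat.coprime_one_right _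
  · obtain ⟨N, d⟩ := exists_badData hG hM hw hw1 hbad
    have hN := d.coatom
    have hCN : C ≤ N := d.cent_le
    have hσN : Cfsg.sigmaCore N ≤ N := Cfsg.Agent.Lead.BG12.sigmaCore_le
    have hσnorm : N ≤ Subgroup.normalizer ((Cfsg.sigmaCore N : Subgroup G) : Set G) :=
      Cfsg.Agent.Lead.BG12.le_normalizer_sigmaCore N
    have hwC : w ∈ C := by
      rw [hC, Subgroup.mem_centralizer_singleton_iff]
    have hwM : w ∈ M := Cfsg.Agent.Lead.BG12.sigmaCore_le hw
    have hwN : w ∈ N := hCN hwC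
    refine ⟨Cfsg.sigmaCore N ⊓ C, ?_, ⟨inf_le_right, inf_le_right, ?_, ?_⟩, ?_, ?_⟩
    · -- normality
      intro c hc
      rw [Subgroup.mem_normalizer_iff]
      intro h
      have h1 := Subgroup.mem_normalizer_iff.mp (hσnorm (hCN hc)) h
      have h2 : h ∈ C ↔ c * h * c⁻¹ ∈ C := by
        constructor
        · intro hh; exact C.mul_mem (C.mul_mem hc hh) (C.inv_mem hc)
        · intro hh
          have : h = c⁻¹ * (c * h * c⁻¹) * c := by group
          rw [this]; exact C.mul_mem (C.mul_mem (C.inv_mem hc) hh) hc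
      show (h ∈ Cfsg.sigmaCore N ∧ h ∈ C) ↔
        (c * h * c⁻¹ ∈ Cfsg.sigmaCore N ∧ c * h * c⁻¹ ∈ C)
      exact and_congr h1 h2
    · -- trivial intersection
      apply le_bot_iff.mp
      rw [← d.inf_bot]
      intro y hy
      exact ⟨hy.2.1, hy.1.1⟩
    · -- factorization
      intro c hc
      obtain ⟨e, he, s, hs, hces⟩ := d.compl.2.2.2 c (hCN hc)
      -- `v := e⁻¹ w e`
      have hcw : c * w = w * c := by
        have := Subgroup.mem_centralizer_singleton_iff.mp hc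
        exact this
      have heMN : e ∈ M ⊓ N := he
      have hv : e⁻¹ * w * e ∈ M ⊓ N :=
        (M ⊓ N).mul_mem ((M ⊓ N).mul_mem ((M ⊓ N).inv_mem heMN) ⟨hwM, hwN⟩) heMN
      -- `s w s⁻¹ = e⁻¹ w e`
      have h1 : s * w * s⁻¹ = e⁻¹ * w * e := by
        have : w = c * w * c⁻¹ := by rw [hcw]; group
        have h2 : w = e * s * w * (e * s)⁻¹ := by rw [← hces]; exact this
        calc s * w * s⁻¹ = e⁻¹ * (e * s * w * (e * s)⁻¹) * e := by group
          _ = e⁻¹ * w * e := by rw [← h2]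
      -- the element `(s w s⁻¹) w⁻¹` lies in `N_σ ∩ M`
      have h3 : s * w * s⁻¹ * w⁻¹ ∈ Cfsg.sigmaCore N ⊓ M := by
        constructor
        · have h4 : w * s⁻¹ * w⁻¹ ∈ Cfsg.sigmaCore N :=
            (Subgroup.mem_normalizer_iff.mp (hσnorm hwN) s⁻¹).mp (Subgroup.inv_mem _ hs)
          have : s * w * s⁻¹ * w⁻¹ = s * (w * s⁻¹ * w⁻¹) := by group
          rw [this]; exact Subgroup.mul_mem _ hs h4
        · rw [h1]; exact M.mul_mem hv.1 (M.inv_mem hwM)
      rw [d.inf_bot, Subgroup.mem_bot] at h3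
      have h5 : s * w = w * s := by
        have : s * w = (s * w * s⁻¹ * w⁻¹) * w * s := by group
        rw [this, h3, one_mul]
      have h6 : e * w = w * e := by
        have h7 : e⁻¹ * w * e = w := by
          rw [← h1]
          have : s * w * s⁻¹ = (s * w) * s⁻¹ := rfl
          rw [this, h5]; group
        have : e * w = e * (e⁻¹ * w * e) := by rw [h7]
        rw [this]; group
      refine ⟨e, ⟨heMN.1, ?_⟩, s, ⟨hs, ?_⟩, hces⟩
      · show e ∈ Subgroup.centralizer ({w} : Set G)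
        exact Subgroup.mem_centralizer_singleton_iff.mpr h6
      · show s ∈ Subgroup.centralizer ({w} : Set G)
        exact Subgroup.mem_centralizer_singleton_iff.mpr h5
    · apply le_bot_iff.mp
      rw [← d.inf_bot]
      intro y hy
      exact ⟨hy.1.1, hy.2⟩
    · apply Nat.coprime_of_dvd
      intro t ht h1 h2
      haveI : Fact t.Prime := ⟨ht⟩
      have htσ : t ∈ Cfsg.sigma N := by
        apply Cfsg.Agent.Lead.BG12.mem_sigma_of_dvd_card_sigmaCore ht
        exact h2.trans (Subgroup.card_dvd_of_le inf_le_left)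
      obtain ⟨y, hy⟩ := exists_prime_orderOf_dvd_card' (G := ↥(M ⊓ C)) t h1
      have hyord : orderOf (y : G) = t := by
        rw [← hy]; exact (Subgroup.orderOf_coe y)
      have hyN : (y : G) ∈ N := hCN y.2.2
      have hYp : IsPGroup t (Subgroup.zpowers (y : G)) :=
        IsPGroup.of_card (n := 1) (by rw [Nat.card_zpowers, hyord, pow_one])
      have hYN : Subgroup.zpowers (y : G) ≤ N := by
        rw [Subgroup.zpowers_le]; exact hyN
      have hYσ := Cfsg.Agent.Lead.BG12.le_sigmaCore' hG hN htσ hYN hYp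
      have hy1 : (y : G) ∈ Cfsg.sigmaCore N ⊓ M :=
        ⟨hYσ (Subgroup.mem_zpowers _), y.2.1⟩
      rw [d.inf_bot, Subgroup.mem_bot] at hy1
      rw [hy1, orderOf_one] at hyord
      exact ht.one_lt.ne hyord

/-- **Fusion control**: two elements of `M_σ` conjugate in `G` are conjugate in `M`. -/
theorem fusion_control (hG : Cfsg.IsMinSimpleOddOrder G) {M : Subgroup G} (hM : IsCoatom M)
    {x : G} (hx : x ∈ Cfsg.sigmaCore M) (hx1 : x ≠ 1) {g : G} (hg : g * x * g⁻¹ ∈ M) :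
    ∃ m ∈ M, g * x * g⁻¹ = m * x * m⁻¹ := by
  classical
  have hxM : x ∈ M := Cfsg.Agent.Lead.BG12.sigmaCore_le hx
  have hord : orderOf x ≠ 1 := by rwa [Ne, orderOf_eq_one_iff]
  obtain ⟨r, hr, hrx⟩ := Nat.exists_prime_and_dvd hord
  haveI : Fact r.Prime := ⟨hr⟩
  have hord0 : orderOf x ≠ 0 := (orderOf_pos x).ne'
  set k : ℕ := orderOf x / r with hk
  set x1 : G := x ^ k with hx1def
  have hx1ord : orderOf x1 = r := orderOf_pow_orderOf_div hord0 hrx
  have hx1ne : x1 ≠ 1 := by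
    intro h; rw [h, orderOf_one] at hx1ord; exact hr.one_lt.ne hx1ord
  set X1 : Subgroup G := Subgroup.zpowers x1 with hX1
  have hX1card : Nat.card X1 = r := by rw [Nat.card_zpowers, hx1ord]
  have hx1σ : x1 ∈ Cfsg.sigmaCore M := Subgroup.pow_mem _ hx _
  have hX1σ : X1 ≤ Cfsg.sigmaCore M := by rw [hX1, Subgroup.zpowers_le]; exact hx1σ
  have hX1M : X1 ≤ M := hX1σ.trans Cfsg.Agent.Lead.BG12.sigmaCore_le
  have hrσ : r ∈ Cfsg.sigma M := by
    apply Cfsg.Agent.Lead.BG12.mem_sigma_of_dvd_card_sigmaCore hr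
    rw [← hX1card]; exact Subgroup.card_dvd_of_le hX1σ
  have hX1p : IsPGroup r X1 := IsPGroup.of_card (n := 1) (by rw [hX1card, pow_one])
  have hX1ne : X1 ≠ ⊥ := by
    intro h
    rw [h, Subgroup.card_bot] at hX1card
    exact hr.one_lt.ne hX1card
  have hconj : X1.map (MulAut.conj g).toMonoidHom ≤ M := by
    rw [Subgroup.map_le_iff_le_comap, hX1, Subgroup.zpowers_le, Subgroup.mem_comap]
    show g * x1 * g⁻¹ ∈ M
    have : g * x1 * g⁻¹ = (g * x * g⁻¹) ^ k := by rw [hx1def, conj_pow]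
    rw [this]; exact M.pow_mem hg _
  obtain ⟨m, hm, c, hc, hgmc⟩ :=
    (Cfsg.Agent.S1404.result hG M hM r hrσ X1 hX1p hX1ne hX1M).1 g hconj
  have hcx1 : c ∈ Subgroup.centralizer ({x1} : Set G) := by
    rw [Subgroup.mem_centralizer_singleton_iff]
    exact (Subgroup.mem_centralizer_iff.mp hc x1 (Subgroup.mem_zpowers x1)).symm
  obtain ⟨R1, hnorm, hcompl, hRM, -⟩ := cent_structure hG hM hx1σ hx1ne
  obtain ⟨a, ha, b, hb, hcab⟩ := hcompl.2.2.2 c hcx1
  have hbC : b ∈ Subgroup.centralizer ({x1} : Set G) := hcompl.2.1 hb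
  -- `x ∈ C(x1)`
  have hxC : x ∈ Subgroup.centralizer ({x1} : Set G) := by
    rw [Subgroup.mem_centralizer_singleton_iff]
    exact ((Commute.refl x).pow_right k).eq
  -- `c x c⁻¹ ∈ M`
  have h1 : c * x * c⁻¹ ∈ M := by
    have : c * x * c⁻¹ = m⁻¹ * (g * x * g⁻¹) * m := by rw [hgmc]; group
    rw [this]; exact M.mul_mem (M.mul_mem (M.inv_mem hm) hg) hm
  have h2 : b * x * b⁻¹ ∈ M := by
    have : b * x * b⁻¹ = a⁻¹ * (c * x * c⁻¹) * a := by rw [hcab]; group
    rw [this]; exact M.mul_mem (M.mul_mem (M.inv_mem ha.1) h1) ha.1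
  have h3 : b * x * b⁻¹ * x⁻¹ ∈ R1 ⊓ M := by
    constructor
    · have h4 : x * b⁻¹ * x⁻¹ ∈ R1 :=
        (Subgroup.mem_normalizer_iff.mp (hnorm hxC) b⁻¹).mp (R1.inv_mem hb)
      have : b * x * b⁻¹ * x⁻¹ = b * (x * b⁻¹ * x⁻¹) := by group
      rw [this]; exact R1.mul_mem hb h4
    · exact M.mul_mem h2 (M.inv_mem hxM)
  rw [hRM, Subgroup.mem_bot] at h3
  have h5 : b * x * b⁻¹ = x := by
    have : b * x * b⁻¹ = (b * x * b⁻¹ * x⁻¹) * x := by group
    rw [this, h3, one_mul]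
  refine ⟨m * a, M.mul_mem hm ha.1, ?_⟩
  have : g * x * g⁻¹ = m * a * (b * x * b⁻¹) * (m * a)⁻¹ := by rw [hgmc, hcab]; group
  rw [this, h5]


omit [Finite G] in
theorem conj_mem_of_map_eq {M : Subgroup G} {u v : G}
    (h : M.map (MulAut.conj u).toMonoidHom = M.map (MulAut.conj v).toMonoidHom) {y : G}
    (hy : y ∈ M) : (v⁻¹ * u) * y * (v⁻¹ * u)⁻¹ ∈ M := by
  have h1 : u * y * u⁻¹ ∈ M.map (MulAut.conj u).toMonoidHom :=
    ⟨y, hy, by simp [MulAut.conj_apply]⟩
  rw [h] at h1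
  obtain ⟨m', hm', hm'eq⟩ := h1
  have h2 : v * m' * v⁻¹ = u * y * u⁻¹ := by simpa [MulAut.conj_apply] using hm'eq
  have h3 : (v⁻¹ * u) * y * (v⁻¹ * u)⁻¹ = v⁻¹ * (u * y * u⁻¹) * v := by group
  rw [h3, ← h2]
  have h4 : v⁻¹ * (v * m' * v⁻¹) * v = m' := by group
  rw [h4]; exact hm'

omit [Finite G] in
theorem mem_normalizer_of_map_eq {M : Subgroup G} {u v : G}
    (h : M.map (MulAut.conj u).toMonoidHom = M.map (MulAut.conj v).toMonoidHom) :
    v⁻¹ * u ∈ Subgroup.normalizer (M : Set G) := by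
  rw [Subgroup.mem_normalizer_iff]
  intro y
  constructor
  · exact fun hy => conj_mem_of_map_eq h hy
  · intro hy
    have h1 := conj_mem_of_map_eq h.symm hy
    have h2 : (u⁻¹ * v) * ((v⁻¹ * u) * y * (v⁻¹ * u)⁻¹) * (u⁻¹ * v)⁻¹ = y := by group
    rw [h2] at h1
    exact h1

omit [Finite G] in
theorem map_conj_mul_of_mem {M : Subgroup G} (u : G) {n : G} (hn : n ∈ M) :
    M.map (MulAut.conj (u * n)).toMonoidHom = M.map (MulAut.conj u).toMonoidHom := by
  ext y
  constructor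
  · rintro ⟨m, hm, rfl⟩
    refine ⟨n * m * n⁻¹, M.mul_mem (M.mul_mem hn hm) (M.inv_mem hn), ?_⟩
    simp only [MulEquiv.coe_toMonoidHom, MulAut.conj_apply]
    group
  · rintro ⟨m, hm, rfl⟩
    refine ⟨n⁻¹ * m * n, M.mul_mem (M.mul_mem (M.inv_mem hn) hm) hn, ?_⟩
    simp only [MulEquiv.coe_toMonoidHom, MulAut.conj_apply]
    group

/-- B&G 14.4 / S1374 in library form. -/
theorem cent_structure_conj (hG : Cfsg.IsMinSimpleOddOrder G) {M : Subgroup G} (hM : IsCoatom M)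
    {x : G} (hx : x ∈ Cfsg.sigmaCore M) (hx1 : x ≠ 1) :
    ∃ R : Subgroup G,
      Subgroup.centralizer ({x} : Set G) ≤ Subgroup.normalizer (R : Set G) ∧
      Cfsg.IsComplIn (M ⊓ Subgroup.centralizer ({x} : Set G)) R
        (Subgroup.centralizer ({x} : Set G)) ∧
      R ⊓ M = ⊥ ∧
      (Nat.card ↥(M ⊓ Subgroup.centralizer ({x} : Set G))).Coprime (Nat.card R) ∧
      ∀ g : G, x ∈ M.map (MulAut.conj g).toMonoidHom →
        ∃! r : G, r ∈ R ∧ M.map (MulAut.conj r).toMonoidHom = M.map (MulAut.conj g).toMonoidHom := by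
  obtain ⟨R, hnorm, hcompl, hRM, hcop⟩ := cent_structure hG hM hx hx1
  refine ⟨R, hnorm, hcompl, hRM, hcop, ?_⟩
  have hxM : x ∈ M := Cfsg.Agent.Lead.BG12.sigmaCore_le hx
  have hMbot : M ≠ ⊥ := by
    intro h; rw [h, Subgroup.mem_bot] at hxM; exact hx1 hxM
  have hNM : Subgroup.normalizer (M : Set G) = M :=
    Cfsg.Agent.Helper1.BGU.normalizer_eq_of_coatom hG hM Subgroup.le_normalizer hMbot hM.1
  intro g hxg
  obtain ⟨m0, hm0, hm0x⟩ := hxg
  have hm0x' : g * m0 * g⁻¹ = x := by simpa [MulAut.conj_apply] using hm0x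
  have h1 : g⁻¹ * x * g⁻¹⁻¹ ∈ M := by
    have : g⁻¹ * x * g⁻¹⁻¹ = m0 := by rw [← hm0x']; group
    rw [this]; exact hm0
  obtain ⟨m, hm, hgm⟩ := fusion_control hG hM hx hx1 (g := g⁻¹) h1
  have hc : g * m ∈ Subgroup.centralizer ({x} : Set G) := by
    rw [Subgroup.mem_centralizer_singleton_iff]
    have : g * m * x = g * (m * x * m⁻¹) * m := by group
    rw [this, ← hgm]; group
  obtain ⟨a, ha, b, hb, hab⟩ := hcompl.2.2.2 (g * m)⁻¹ (Subgroup.inv_mem _ hc)
  have hg : g = b⁻¹ * (a⁻¹ * m⁻¹) := by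
    have : g = ((g * m)⁻¹)⁻¹ * m⁻¹ := by group
    rw [this, hab]; group
  have hn : a⁻¹ * m⁻¹ ∈ M := M.mul_mem (M.inv_mem ha.1) (M.inv_mem hm)
  refine ⟨b⁻¹, ⟨R.inv_mem hb, ?_⟩, ?_⟩
  · rw [hg, map_conj_mul_of_mem _ hn]
  · rintro r' ⟨hr', hr'eq⟩
    have h2 : M.map (MulAut.conj r').toMonoidHom = M.map (MulAut.conj b⁻¹).toMonoidHom := by
      rw [hr'eq, hg, map_conj_mul_of_mem _ hn]
    have h3 := mem_normalizer_of_map_eq h2
    rw [hNM] at h3
    have h4 : b⁻¹⁻¹ * r' ∈ R ⊓ M := ⟨R.mul_mem (R.inv_mem (R.inv_mem hb)) hr', h3⟩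
    rw [hRM, Subgroup.mem_bot] at h4
    have : r' = b⁻¹ * (b⁻¹⁻¹ * r') := by group
    rw [this, h4, mul_one]

end Cfsg.Agent.Helper2.BG144
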