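import Mathlib
import Cfsg.Prelude
import Cfsg.Agent.Helper2.BG144a
import Cfsg.Agent.Helper4.BG14P6
import Cfsg.Agent.Helper3.BG142b
import Cfsg.Agent.Helper1.BGT3regC
import Cfsg.Agent.Helper2.CNMaxA

set_option autoImplicit false

/-!
Bender–Glauberman 14.4, continued: uniqueness of the maximal subgroup `N` over `C_G(x)` for a bad
`x ∈ M_σ`, `N_σ = N_F`, and the position of `x` in a standard factorisation of `N`.
-/

namespace Cfsg.Agent.Helper2.BG144

open Cfsg
open scoped Pointwise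

universe u

variable {G : Type u} [Group G] [Finite G]

/-- The explicit form of `cent_structure` for a given `BadData`. -/
theorem cent_structure_of_badData {M N : Subgroup G} {w : G} (hwM : w ∈ M)
    (d : BadData M N w) :
    Subgroup.centralizer ({w} : Set G) ≤ Subgroup.normalizer
      ((Cfsg.sigmaCore N ⊓ Subgroup.centralizer ({w} : Set G) : Subgroup G) : Set G) ∧
    Cfsg.IsComplIn (M ⊓ Subgroup.centralizer ({w} : Set G))
      (Cfsg.sigmaCore N ⊓ Subgroup.centralizer ({w} : Set G))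
      (Subgroup.centralizer ({w} : Set G)) ∧
    (Cfsg.sigmaCore N ⊓ Subgroup.centralizer ({w} : Set G)) ⊓ M = ⊥ := by
  classical
  set C : Subgroup G := Subgroup.centralizer ({w} : Set G) with hC
  have hCN : C ≤ N := d.cent_le
  have hσnorm : N ≤ Subgroup.normalizer ((Cfsg.sigmaCore N : Subgroup G) : Set G) :=
    Cfsg.Agent.Lead.BG12.le_normalizer_sigmaCore N
  have hwC : w ∈ C := by
    rw [hC, Subgroup.mem_centralizer_singleton_iff]
  have hwN : w ∈ N := hCN hwC
  refine ⟨?_, ⟨inf_le_right, inf_le_right, ?_, ?_⟩, ?_⟩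
  · intro c hc
    rw [Subgroup.mem_normalizer_iff]
    intro h
    have h1 := Subgroup.mem_normalizer_iff.mp (hσnorm (hCN hc)) h
    have h2 : h ∈ C ↔ c * h * c⁻¹ ∈ C := by
      constructor
      · intro hh; exact C.mul_mem (C.mul_mem hc hh) (C.inv_mem hc)
      · intro hh
        have : h = c⁻¹ * (c * h * c⁻¹) * c := by group
        rw [this]; exact C.mul_mem (C.mul_mem (C.inv_mem hc) hh) hc
    show (h ∈ Cfsg.sigmaCore N ∧ h ∈ C) ↔
      (c * h * c⁻¹ ∈ Cfsg.sigmaCore N ∧ c * h * c⁻¹ ∈ C)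
    exact and_congr h1 h2
  · apply le_bot_iff.mp
    rw [← d.inf_bot]
    intro y hy
    exact ⟨hy.2.1, hy.1.1⟩
  · intro c hc
    obtain ⟨e, he, s, hs, hces⟩ := d.compl.2.2.2 c (hCN hc)
    have hcw : c * w = w * c := Subgroup.mem_centralizer_singleton_iff.mp hc
    have heMN : e ∈ M ⊓ N := he
    have hv : e⁻¹ * w * e ∈ M ⊓ N :=
      (M ⊓ N).mul_mem ((M ⊓ N).mul_mem ((M ⊓ N).inv_mem heMN) ⟨hwM, hwN⟩) heMN
    have h1 : s * w * s⁻¹ = e⁻¹ * w * e := by
      have : w = c * w * c⁻¹ := by rw [hcw]; group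
      have h2 : w = e * s * w * (e * s)⁻¹ := by rw [← hces]; exact this
      calc s * w * s⁻¹ = e⁻¹ * (e * s * w * (e * s)⁻¹) * e := by group
        _ = e⁻¹ * w * e := by rw [← h2]
    have h3 : s * w * s⁻¹ * w⁻¹ ∈ Cfsg.sigmaCore N ⊓ M := by
      constructor
      · have h4 : w * s⁻¹ * w⁻¹ ∈ Cfsg.sigmaCore N :=
          (Subgroup.mem_normalizer_iff.mp (hσnorm hwN) s⁻¹).mp (Subgroup.inv_mem _ hs)
        have : s * w * s⁻¹ * w⁻¹ = s * (w * s⁻¹ * w⁻¹) := by group
        rw [this]; exact Subgroup.mul_mem _ hs h4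
      · rw [h1]; exact M.mul_mem hv.1 (M.inv_mem hwM)
    rw [d.inf_bot, Subgroup.mem_bot] at h3
    have h5 : s * w = w * s := by
      have : s * w = (s * w * s⁻¹ * w⁻¹) * w * s := by group
      rw [this, h3, one_mul]
    have h6 : e * w = w * e := by
      have h7 : e⁻¹ * w * e = w := by
        rw [← h1]
        have : s * w * s⁻¹ = (s * w) * s⁻¹ := rfl
        rw [this, h5]; group
      have : e * w = e * (e⁻¹ * w * e) := by rw [h7]
      rw [this]; group
    refine ⟨e, ⟨heMN.1, ?_⟩, s, ⟨hs, ?_⟩, hces⟩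
    · show e ∈ Subgroup.centralizer ({w} : Set G)
      exact Subgroup.mem_centralizer_singleton_iff.mpr h6
    · show s ∈ Subgroup.centralizer ({w} : Set G)
      exact Subgroup.mem_centralizer_singleton_iff.mpr h5
  · apply le_bot_iff.mp
    rw [← d.inf_bot]
    intro y hy
    exact ⟨hy.1.1, hy.2⟩

/-- For a bad element, `C_{N_σ}(w) ≠ 1`. -/
theorem sigmaCore_inf_cent_ne_bot {M N : Subgroup G} {w : G} (hwM : w ∈ M)
    (d : BadData M N w) (hbad : ¬ Subgroup.centralizer ({w} : Set G) ≤ M) :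
    Cfsg.sigmaCore N ⊓ Subgroup.centralizer ({w} : Set G) ≠ ⊥ := by
  intro h
  obtain ⟨-, hcompl, -⟩ := cent_structure_of_badData hwM d
  apply hbad
  intro c hc
  obtain ⟨a, ha, b, hb, hcab⟩ := hcompl.2.2.2 c hc
  rw [h, Subgroup.mem_bot] at hb
  rw [hcab, hb, mul_one]
  exact ha.1

/-- If `N_σ` is nilpotent then `N_σ = N_F`. -/
theorem sigmaCore_eq_fittingHallOf (hG : Cfsg.IsMinSimpleOddOrder G) {N : Subgroup G}
    (hN : IsCoatom N) (hnil : Group.IsNilpotent ↥(Cfsg.sigmaCore N)) :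
    Cfsg.sigmaCore N = Cfsg.fittingHallOf N := by
  classical
  apply le_antisymm
  · apply Cfsg.Agent.Helper2.CNMax.le_fittingHallOf N _ Cfsg.Agent.Lead.BG12.sigmaCore_le
      (Cfsg.Agent.Lead.BG12.le_normalizer_sigmaCore N) hnil
    exact (Cfsg.Agent.Helper4.BG10.card_eq_relIndex_mul_card_sigmaCore hG hN).2.symm
  · -- every prime dividing `|N_F|` lies in `σ(N)`
    have hFn : (Cfsg.fittingHall ↥N).Normal := inferInstance
    have hFnil : Group.IsNilpotent ↥(Cfsg.fittingHall ↥N) :=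
      Cfsg.Agent.Helper1.CNFrob.fittingHall_isNilpotent
    have hFcop := Cfsg.Agent.Helper1.fittingHall_coprime ↥N
    have hπ : ∀ t : ℕ, t.Prime → t ∣ Nat.card ↥(Cfsg.fittingHall ↥N) → t ∈ Cfsg.sigma N := by
      intro t ht htd
      haveI : Fact t.Prime := ⟨ht⟩
      obtain ⟨S⟩ : Nonempty (Sylow t ↥N) := inferInstance
      have hcopt : ((Cfsg.fittingHall ↥N).index).Coprime t := by
        rw [Nat.coprime_comm, Nat.Prime.coprime_iff_not_dvd ht]
        intro h
        exact ht.one_lt.ne' (Nat.eq_one_of_dvd_coprimes hFcop htd h)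
      have hSF : (S : Subgroup ↥N) ≤ Cfsg.fittingHall ↥N := by
        intro s hs
        obtain ⟨k, hk⟩ := S.2 ⟨s, hs⟩
        apply Cfsg.Agent.Lead.BG12.mem_of_pow_eq_one_of_coprime_index (Cfsg.fittingHall ↥N)
          (n := t ^ k)
        · exact (Nat.Coprime.pow_right k hcopt).symm
        · have := congrArg Subtype.val hk
          simpa using this
      have hSn : (S : Subgroup ↥N).Normal :=
        Cfsg.Agent.Helper1.CNFrob.sylow_normal_of_le_nilpotent_normal S _ hFnil hSF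
      have htN : t ∣ Nat.card ↥N := htd.trans (Subgroup.card_subgroup_dvd_card _)
      refine ⟨ht, htN, S, ?_⟩
      have hS1 : ((S : Subgroup ↥N).map N.subtype) ≠ ⊥ := by
        intro h
        have h0 : (S : Subgroup ↥N) = ⊥ := by
          rw [← Subgroup.map_eq_bot_iff_of_injective _ N.subtype_injective]; exact h
        have hcard := S.card_eq_multiplicity
        rw [h0, Subgroup.card_bot] at hcard
        have hpos : 0 < (Nat.card ↥N).factorization t :=
          ht.factorization_pos_of_dvd Nat.card_pos.ne' htN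
        have : 1 < t ^ (Nat.card ↥N).factorization t := Nat.one_lt_pow hpos.ne' ht.one_lt
        omega
      have hStop : ((S : Subgroup ↥N).map N.subtype) ≠ ⊤ := by
        intro h
        exact hN.1 (top_le_iff.mp (h ▸ Subgroup.map_subtype_le _))
      have hNS : N ≤ Subgroup.normalizer (((S : Subgroup ↥N).map N.subtype : Subgroup G) : Set G) := by
        haveI := hSn
        exact Cfsg.Agent.Helper1.BGV.le_normalizer_map_subtype _
      rw [Cfsg.Agent.Helper1.BGU.normalizer_eq_of_coatom hG hN hNS hS1 hStop]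
    have hle : Cfsg.fittingHall ↥N ≤ Cfsg.piCore (Cfsg.sigma N) ↥N := le_sSup ⟨hFn, hπ⟩
    exact Subgroup.map_mono hle


/-- All prime divisors of the order of a bad element lie in `τ₂(N)`. -/
theorem mem_tau2_of_dvd_orderOf (hG : Cfsg.IsMinSimpleOddOrder G) {M N : Subgroup G}
    (hM : IsCoatom M) {x : G} (hx : x ∈ Cfsg.sigmaCore M)
    (hbad : ¬ Subgroup.centralizer ({x} : Set G) ≤ M) (d : BadData M N x) {t : ℕ}
    (ht : t.Prime) (htx : t ∣ orderOf x) : t ∈ Cfsg.tau2 N := by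
  classical
  haveI : Fact t.Prime := ⟨ht⟩
  have hN := d.coatom
  have hxM : x ∈ M := Cfsg.Agent.Lead.BG12.sigmaCore_le hx
  have hxC : x ∈ Subgroup.centralizer ({x} : Set G) := by
    rw [Subgroup.mem_centralizer_singleton_iff]
  have hxN : x ∈ N := d.cent_le hxC
  have hord0 : orderOf x ≠ 0 := (orderOf_pos x).ne'
  set xt : G := x ^ (orderOf x / t) with hxt
  have hxtord : orderOf xt = t := orderOf_pow_orderOf_div hord0 htx
  set X : Subgroup G := Subgroup.zpowers xt with hX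
  have hXcard : Nat.card X = t := by rw [Nat.card_zpowers, hxtord]
  have hxtσ : xt ∈ Cfsg.sigmaCore M := Subgroup.pow_mem _ hx _
  have hXσ : X ≤ Cfsg.sigmaCore M := by rw [hX, Subgroup.zpowers_le]; exact hxtσ
  have hXM : X ≤ M := hXσ.trans Cfsg.Agent.Lead.BG12.sigmaCore_le
  have hXN : X ≤ N := by rw [hX, Subgroup.zpowers_le]; exact N.pow_mem hxN _
  have htM : t ∈ Cfsg.sigma M := by
    apply Cfsg.Agent.Lead.BG12.mem_sigma_of_dvd_card_sigmaCore ht
    rw [← hXcard]; exact Subgroup.card_dvd_of_le hXσ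
  have htN : t ∉ Cfsg.sigma N := by
    intro h
    obtain ⟨g, hg⟩ := (Cfsg.Agent.S1378.result hG).2 M N hM hN ⟨t, htM, h⟩
    exact d.not_conj g hg
  have hr2 : Cfsg.PRankLE t 2 ↥N := Cfsg.Agent.Lead.BG12.pRankLE_of_not_mem_sigma hG hN ht htN
  by_contra hτ
  have hp1 : Cfsg.PRankLE t 1 ↥N := by
    by_contra h1
    exact hτ ⟨ht, htN, hr2, h1⟩
  have hXp : IsPGroup t X := IsPGroup.of_card (n := 1) (by rw [hXcard, pow_one])
  have hX1 : X ≠ ⊥ := by
    intro h
    rw [h, Subgroup.card_bot] at hXcard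
    exact ht.one_lt.ne hXcard
  have hXtop : X ≠ ⊤ := fun h => hM.1 (top_le_iff.mp (h ▸ hXM))
  have hNX : Subgroup.normalizer (X : Set G) ≠ ⊤ :=
    Cfsg.Agent.Helper1.BGU.normalizer_ne_top_of_simple hG hX1 hXtop
  obtain ⟨H, hH, hXH⟩ := Cfsg.Agent.Helper1.BGU.exists_coatom_ge hNX
  have hCX : Subgroup.centralizer (X : Set G) = Subgroup.centralizer ({xt} : Set G) := by
    rw [hX, Subgroup.zpowers_eq_closure, Subgroup.centralizer_closure]
  have hCle : Subgroup.centralizer ({x} : Set G) ≤ Subgroup.centralizer (X : Set G) := by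
    rw [hCX]; exact cent_singleton_le_pow x _
  have hY : Cfsg.sigmaCore N ⊓ Subgroup.centralizer (X : Set G) ≠ ⊥ := by
    intro h
    apply sigmaCore_inf_cent_ne_bot hxM d hbad
    apply le_bot_iff.mp
    rw [← h]
    exact inf_le_inf_left _ hCle
  have htH : t ∈ Cfsg.sigma H :=
    (Cfsg.Agent.Helper4.BG14.p5' hG hN hH htN hp1 hXN hXcard hY hXH).1
  obtain ⟨g, hg⟩ := (Cfsg.Agent.S1378.result hG).2 M H hM hH ⟨t, htM, htH⟩
  have hCH : Subgroup.centralizer ({x} : Set G) ≤ H :=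
    hCle.trans ((Subgroup.centralizer_le_normalizer _).trans hXH)
  have hne : H ≠ M := fun h => hbad (h ▸ hCH)
  have hXH' : X ≤ H := Subgroup.le_normalizer.trans hXH
  have hXMH : X ≤ M ⊓ H := le_inf hXM hXH'
  obtain ⟨S, hS⟩ := (hXp.comap_subtype (K := M ⊓ H)).exists_le_sylow
  have hXS : X ≤ (S : Subgroup ↥(M ⊓ H)).map (M ⊓ H).subtype := by
    intro y hy
    exact ⟨⟨y, hXMH hy⟩, hS (Subgroup.mem_subgroupOf.mpr hy), rfl⟩
  exact (Cfsg.Agent.S1424.result hG M hM t htM X hXp hX1 hXM H hH hne hXH S hXS).1 g hg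

/-- `x ∈ M̂_σ(N)` for a bad element. -/
theorem mem_sigmaHat_of_badData {M N : Subgroup G} {x : G} (hxM : x ∈ M)
    (hbad : ¬ Subgroup.centralizer ({x} : Set G) ≤ M) (d : BadData M N x) :
    x ∈ Cfsg.sigmaHat N := by
  have hxC : x ∈ Subgroup.centralizer ({x} : Set G) := by
    rw [Subgroup.mem_centralizer_singleton_iff]
  refine ⟨d.cent_le hxC, ?_⟩
  obtain ⟨⟨y, hy⟩, hy1⟩ := (Subgroup.ne_bot_iff_exists_ne_one).mp
    (sigmaCore_inf_cent_ne_bot hxM d hbad)
  refine ⟨y, hy.1, fun h => hy1 (Subtype.ext h), ?_⟩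
  exact (Subgroup.mem_centralizer_singleton_iff.mp hy.2).symm

/-- **Uniqueness** of the maximal subgroup over `C_G(x)`. -/
theorem unique_of_badData (hG : Cfsg.IsMinSimpleOddOrder G) {M N : Subgroup G}
    (hM : IsCoatom M) {x : G} (hx : x ∈ Cfsg.sigmaCore M) (hx1 : x ≠ 1)
    (hbad : ¬ Subgroup.centralizer ({x} : Set G) ≤ M) (d : BadData M N x) :
    ∀ L : Subgroup G, IsCoatom L → Subgroup.centralizer ({x} : Set G) ≤ L → L = N := by
  have hxM : x ∈ M := Cfsg.Agent.Lead.BG12.sigmaCore_le hx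
  have hhat := mem_sigmaHat_of_badData hxM hbad d
  exact ((Cfsg.Agent.S1420.result hG N d.coatom (M ⊓ N) d.compl).2.2.2 x hhat.1 hx1
    (fun p hp hpx => mem_tau2_of_dvd_orderOf hG hM hx hbad d hp hpx) hhat).2

/-- The position of a bad element in a standard factorisation of `N`. -/
theorem factorisation_of_badData (hG : Cfsg.IsMinSimpleOddOrder G) {M N : Subgroup G}
    (hM : IsCoatom M) {x : G} (hx : x ∈ Cfsg.sigmaCore M) (hx1 : x ≠ 1)
    (hbad : ¬ Subgroup.centralizer ({x} : Set G) ≤ M) (d : BadData M N x)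
    {K' U' : Subgroup G} (hKU : Cfsg.IsSigmaDecomposition N K' U') :
    U' ≠ ⊥ ∧ x ∈ Cfsg.sigmaA N U' ∧ x ∉ Cfsg.sigmaCore N := by
  classical
  have hN := d.coatom
  have hxM : x ∈ M := Cfsg.Agent.Lead.BG12.sigmaCore_le hx
  have hhat := mem_sigmaHat_of_badData hxM hbad d
  have hxN : x ∈ N := hhat.1
  have hxσ : x ∉ Cfsg.sigmaCore N := by
    intro h
    have h1 : x ∈ Cfsg.sigmaCore N ⊓ M := ⟨h, hxM⟩
    rw [d.inf_bot, Subgroup.mem_bot] at h1
    exact hx1 h1
  have hκ1 := Cfsg.Agent.Helper1.BGT3reg.kappa_subset_tau1_of_decomp hG hN hKU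
  have hκ : ∀ p ∈ Cfsg.kappa N, ¬ p ∣ Nat.card ↥⁅N, N⁆ := fun p hp => (hκ1 p hp).2.2.2.1
  obtain ⟨N', hN'N, -, hN'n, hcard, hcop, hσN', -, -⟩ :=
    Cfsg.Agent.Helper3.BG142.exists_kappa_compl hG hN hKU.hall hκ
  have hsup := Cfsg.Agent.Helper3.BG142.sup_sigmaCore_eq hG hN hKU hκ hN'N hN'n hcard hcop hσN'
  have hrel : N'.relIndex N = Nat.card K' := by
    have h1 := Cfsg.Agent.Helper1.relIndex_mul_card_of_le hN'N
    rw [← hcard, mul_comm] at h1
    exact Nat.eq_of_mul_eq_mul_left Nat.card_pos h1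
  have hxN' : x ∈ N' := by
    apply Cfsg.Agent.Lead.BG12.mem_of_pow_eq_one_of_coprime_relIndex hN'n (n := orderOf x) _ hxN
      (pow_orderOf_eq_one x)
    rw [hrel]
    apply Nat.coprime_of_dvd
    intro t ht h1 h2
    haveI : Fact t.Prime := ⟨ht⟩
    have hτ2 := mem_tau2_of_dvd_orderOf hG hM hx hbad d ht h1
    have hκt : t ∈ Cfsg.kappa N := hKU.hall.2.1 t ht h2
    exact hτ2.2.2.2 (Cfsg.Agent.Helper4.BG14.pRankLE_one_of_mem_kappa hκt)
  refine ⟨?_, ⟨hhat, ?_⟩, hxσ⟩
  · intro h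
    rw [h, bot_sup_eq] at hsup
    exact hxσ (hsup ▸ hxN')
  · show x ∈ U' ⊔ Cfsg.sigmaCore N
    rw [hsup]; exact hxN'

end Cfsg.Agent.Helper2.BG144
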