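import Mathlib
import Cfsg.Prelude
import Cfsg.Agent.Helper2.BG144b

set_option autoImplicit false

/-!
Bender–Glauberman 14.5: the supports `R(x)`; the cosets `x R(x)` are pairwise disjoint.
-/

namespace Cfsg.Agent.Helper2.BG144

open Cfsg
open scoped Pointwise

universe u

variable {G : Type u} [Group G] [Finite G]

omit [Finite G] in
theorem supportR_eq_bot_of_le {M : Subgroup G} {x : G}
    (h : Subgroup.centralizer ({x} : Set G) ≤ M) : Cfsg.supportR M x = ⊥ := by
  unfold Cfsg.supportR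
  rw [dif_neg]
  exact fun h' => h'.1 h

theorem isNilpotent_sigmaCore_of_badData (hG : Cfsg.IsMinSimpleOddOrder G) {M N : Subgroup G}
    {x : G} (d : BadData M N x) : Group.IsNilpotent ↥(Cfsg.sigmaCore N) := by
  obtain ⟨r, hr⟩ := d.tau2
  haveI : Fact r.Prime := ⟨hr.1⟩
  obtain ⟨A, hAN, hAel, hAcard⟩ :=
    Cfsg.Agent.Helper4.BG12.exists_ea2_of_not_pRankLE_one hG (H := N) hr.2.2.2
  exact (Cfsg.Agent.S1417.result hG N d.coatom r hr A ⟨hAN, hAel, hAcard⟩).1

/-- For a bad `x`, `R(x) = C_{N_σ}(x)`. -/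
theorem supportR_eq (hG : Cfsg.IsMinSimpleOddOrder G) {M N : Subgroup G}
    (hM : IsCoatom M) {x : G} (hx : x ∈ Cfsg.sigmaCore M) (hx1 : x ≠ 1)
    (hbad : ¬ Subgroup.centralizer ({x} : Set G) ≤ M) (d : BadData M N x) :
    Cfsg.supportR M x = Cfsg.sigmaCore N ⊓ Subgroup.centralizer ({x} : Set G) := by
  have huniq := unique_of_badData hG hM hx hx1 hbad d
  have hex : ∃! L : Subgroup G, IsCoatom L ∧ Subgroup.centralizer ({x} : Set G) ≤ L :=
    ⟨N, ⟨d.coatom, d.cent_le⟩, fun L hL => huniq L hL.1 hL.2⟩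
  have h : ¬ Subgroup.centralizer ({x} : Set G) ≤ M ∧
      ∃! L : Subgroup G, IsCoatom L ∧ Subgroup.centralizer ({x} : Set G) ≤ L := ⟨hbad, hex⟩
  unfold Cfsg.supportR
  rw [dif_pos h]
  have hch : Classical.choose h.2.exists = N :=
    huniq _ (Classical.choose_spec h.2.exists).1 (Classical.choose_spec h.2.exists).2
  rw [hch, ← sigmaCore_eq_fittingHallOf hG d.coatom (isNilpotent_sigmaCore_of_badData hG d)]

/-- Description of the elements of `R(x)`. -/
theorem mem_supportR_cases (hG : Cfsg.IsMinSimpleOddOrder G) {M : Subgroup G}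
    (hM : IsCoatom M) {x : G} (hx : x ∈ Cfsg.sigmaCore M) (hx1 : x ≠ 1) {r : G}
    (hr : r ∈ Cfsg.supportR M x) :
    r = 1 ∨ (¬ Subgroup.centralizer ({x} : Set G) ≤ M ∧
      ∃ N : Subgroup G, BadData M N x ∧ r ∈ Cfsg.sigmaCore N ∧ r * x = x * r) := by
  by_cases hbad : Subgroup.centralizer ({x} : Set G) ≤ M
  · left
    rw [supportR_eq_bot_of_le hbad, Subgroup.mem_bot] at hr
    exact hr
  · right
    obtain ⟨N, d⟩ := exists_badData hG hM hx hx1 hbad
    rw [supportR_eq hG hM hx hx1 hbad d] at hr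
    exact ⟨hbad, N, d, hr.1, Subgroup.mem_centralizer_singleton_iff.mp hr.2⟩

/-- `σ` is invariant under conjugation. -/
theorem sigma_map_conj (hG : Cfsg.IsMinSimpleOddOrder G) {M : Subgroup G} (hM : IsCoatom M)
    (g : G) : Cfsg.sigma (M.map (MulAut.conj g).toMonoidHom) = Cfsg.sigma M := by
  have hMg : IsCoatom (MulAut.conj g • M) := Cfsg.Agent.Helper1.BGU.isCoatom_conj_smul g hM
  ext p
  constructor
  · intro h
    haveI : Fact p.Prime := ⟨h.1⟩
    exact Cfsg.Agent.Lead.BG12.mem_sigma_of_mem_sigma_conj_smul hG hMg h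
  · intro h
    haveI : Fact p.Prime := ⟨h.1⟩
    have h1 : MulAut.conj g⁻¹ • MulAut.conj g • M = M :=
      Cfsg.Agent.Lead.BG12.conj_smul_inv_smul g M
    have hM' : IsCoatom (MulAut.conj g⁻¹ • (MulAut.conj g • M)) := by rw [h1]; exact hM
    have h' : p ∈ Cfsg.sigma (MulAut.conj g⁻¹ • (MulAut.conj g • M)) := by rw [h1]; exact h
    exact Cfsg.Agent.Lead.BG12.mem_sigma_of_mem_sigma_conj_smul hG hM' h'

omit [Finite G] in
/-- Uniqueness of the decomposition of an element into commuting parts of coprime orders. -/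
theorem eq_of_mul_eq_mul_of_coprime {a b c d : G} (hab : Commute a b) (hcd : Commute c d)
    (h : a * b = c * d) (hcop : (orderOf a * orderOf c).Coprime (orderOf b * orderOf d)) :
    a = c ∧ b = d := by
  set n : ℕ := orderOf b * orderOf d with hn
  set m : ℕ := orderOf a * orderOf c with hm
  have h1 : a ^ n = c ^ n := by
    have e1 : (a * b) ^ n = a ^ n := by
      rw [hab.mul_pow]
      have : b ^ n = 1 := by rw [hn, pow_mul, pow_orderOf_eq_one, one_pow]
      rw [this, mul_one]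
    have e2 : (c * d) ^ n = c ^ n := by
      rw [hcd.mul_pow]
      have : d ^ n = 1 := by rw [hn, mul_comm, pow_mul, pow_orderOf_eq_one, one_pow]
      rw [this, mul_one]
    rw [← e1, ← e2, h]
  have hbez := Nat.gcd_eq_gcd_ab n m
  have hg : Nat.gcd n m = 1 := Nat.Coprime.symm hcop
  rw [hg] at hbez
  have ham : a ^ (m : ℤ) = 1 := by
    rw [zpow_natCast, hm, pow_mul, pow_orderOf_eq_one, one_pow]
  have hcm : c ^ (m : ℤ) = 1 := by
    rw [zpow_natCast, hm, mul_comm, pow_mul, pow_orderOf_eq_one, one_pow]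
  have ha : a = (a ^ n) ^ (Nat.gcdA n m) := by
    have : a = a ^ ((n : ℤ) * Nat.gcdA n m + (m : ℤ) * Nat.gcdB n m) := by
      rw [← hbez]; simp
    rw [zpow_add, zpow_mul, zpow_mul, ham, one_zpow, mul_one, zpow_natCast] at this
    exact this
  have hc : c = (c ^ n) ^ (Nat.gcdA n m) := by
    have : c = c ^ ((n : ℤ) * Nat.gcdA n m + (m : ℤ) * Nat.gcdB n m) := by
      rw [← hbez]; simp
    rw [zpow_add, zpow_mul, zpow_mul, hcm, one_zpow, mul_one, zpow_natCast] at this
    exact this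
  have hac : a = c := by rw [ha, hc, h1]
  refine ⟨hac, ?_⟩
  rw [hac] at h
  exact mul_left_cancel h

omit [Finite G] in
/-- the version with sets of primes -/
theorem eq_of_mul_eq_mul_of_pi (π : Set ℕ) {a b c d : G} (hab : Commute a b)
    (hcd : Commute c d) (h : a * b = c * d)
    (ha : ∀ p : ℕ, p.Prime → p ∣ orderOf a → p ∈ π)
    (hc : ∀ p : ℕ, p.Prime → p ∣ orderOf c → p ∈ π)
    (hb : ∀ p : ℕ, p.Prime → p ∣ orderOf b → p ∉ π)
    (hd : ∀ p : ℕ, p.Prime → p ∣ orderOf d → p ∉ π) : a = c ∧ b = d := by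
  apply eq_of_mul_eq_mul_of_coprime hab hcd h
  apply Nat.coprime_of_dvd
  intro p hp h1 h2
  have hπ : p ∈ π := by
    rcases (Nat.Prime.dvd_mul hp).mp h1 with h | h
    · exact ha p hp h
    · exact hc p hp h
  rcases (Nat.Prime.dvd_mul hp).mp h2 with h | h
  · exact hb p hp h hπ
  · exact hd p hp h hπ


/-- basic facts about an element of `R(x)` -/
theorem supportR_facts (hG : Cfsg.IsMinSimpleOddOrder G) {M : Subgroup G}
    (hM : IsCoatom M) {x : G} (hx : x ∈ Cfsg.sigmaCore M) (hx1 : x ≠ 1) {r : G}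
    (hr : r ∈ Cfsg.supportR M x) :
    Commute x r ∧ ∀ p : ℕ, p.Prime → p ∣ orderOf r → p ∉ Cfsg.sigma M := by
  rcases mem_supportR_cases hG hM hx hx1 hr with h | ⟨-, N, d, hrN, hrx⟩
  · subst h
    refine ⟨Commute.one_right x, ?_⟩
    intro p hp hd
    rw [orderOf_one] at hd
    exact absurd (Nat.dvd_one.mp hd) hp.one_lt.ne'
  · refine ⟨hrx.symm, ?_⟩
    intro p hp hd hpM
    have hpN : p ∈ Cfsg.sigma N := by
      apply Cfsg.Agent.Lead.BG12.mem_sigma_of_dvd_card_sigmaCore hp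
      have h1 : orderOf r ∣ Nat.card ↥(Cfsg.sigmaCore N) := by
        have := Subgroup.orderOf_dvd_natCard (Cfsg.sigmaCore N) hrN
        exact this
      exact hd.trans h1
    obtain ⟨g, hg⟩ := (Cfsg.Agent.S1378.result hG).2 M N hM d.coatom ⟨p, hpM, hpN⟩
    exact d.not_conj g hg

omit [Finite G] in
theorem prime_dvd_orderOf_mem {H : Subgroup G} [Finite H] {x : G} (hx : x ∈ H) {p : ℕ}
    (hd : p ∣ orderOf x) : p ∣ Nat.card H :=
  hd.trans (Subgroup.orderOf_dvd_natCard H hx)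

/-- **B&G 14.5(a)**: the cosets `x R(x)` are pairwise disjoint. -/
theorem coset_disjoint (hG : Cfsg.IsMinSimpleOddOrder G) {M N : Subgroup G}
    (hM : IsCoatom M) (hN : IsCoatom N) {x y : G} (hx : x ∈ Cfsg.sigmaCore M)
    (hy : y ∈ Cfsg.sigmaCore N) (hx1 : x ≠ 1) (hy1 : y ≠ 1) (hxy : x ≠ y) {r s : G}
    (hr : r ∈ Cfsg.supportR M x) (hs : s ∈ Cfsg.supportR N y) : x * r ≠ y * s := by
  classical
  intro heq
  obtain ⟨hxr, hrσ⟩ := supportR_facts hG hM hx hx1 hr
  obtain ⟨hys, hsσ⟩ := supportR_facts hG hN hy hy1 hs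
  have hPx : ∀ p : ℕ, p.Prime → p ∣ orderOf x → p ∈ Cfsg.sigma M := fun p hp hd =>
    Cfsg.Agent.Lead.BG12.mem_sigma_of_dvd_card_sigmaCore hp (prime_dvd_orderOf_mem hx hd)
  have hPy : ∀ p : ℕ, p.Prime → p ∣ orderOf y → p ∈ Cfsg.sigma N := fun p hp hd =>
    Cfsg.Agent.Lead.BG12.mem_sigma_of_dvd_card_sigmaCore hp (prime_dvd_orderOf_mem hy hd)
  by_cases hMN : (Cfsg.sigma M ∩ Cfsg.sigma N).Nonempty
  · -- conjugate case
    obtain ⟨g, hg⟩ := (Cfsg.Agent.S1378.result hG).2 M N hM hN hMN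
    have hσ : Cfsg.sigma N = Cfsg.sigma M := by rw [hg]; exact sigma_map_conj hG hM g
    have := eq_of_mul_eq_mul_of_pi (Cfsg.sigma M) hxr hys heq hPx
      (fun p hp hd => hσ ▸ hPy p hp hd) hrσ (fun p hp hd => hσ ▸ hsσ p hp hd)
    exact hxy this.1
  · have hdisj : ∀ p : ℕ, p ∈ Cfsg.sigma N → p ∉ Cfsg.sigma M := fun p h1 h2 => hMN ⟨p, h2, h1⟩
    by_cases hsM : ∃ p : ℕ, p.Prime ∧ p ∣ orderOf s ∧ p ∈ Cfsg.sigma M
    · obtain ⟨p, hp, hps, hpM⟩ := hsM
      have hs1 : s ≠ 1 := by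
        intro h
        rw [h, orderOf_one] at hps
        exact hp.one_lt.ne' (Nat.dvd_one.mp hps)
      rcases mem_supportR_cases hG hN hy hy1 hs with h | ⟨hbady, L', d', hsL', hsy⟩
      · exact hs1 h
      · -- `L'` is conjugate to `M`
        have hpL' : p ∈ Cfsg.sigma L' :=
          Cfsg.Agent.Lead.BG12.mem_sigma_of_dvd_card_sigmaCore hp (prime_dvd_orderOf_mem hsL' hps)
        obtain ⟨g, hg⟩ := (Cfsg.Agent.S1378.result hG).2 M L' hM d'.coatom ⟨p, hpM, hpL'⟩
        have hσL' : Cfsg.sigma L' = Cfsg.sigma M := by rw [hg]; exact sigma_map_conj hG hM g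
        have hPs : ∀ q : ℕ, q.Prime → q ∣ orderOf s → q ∈ Cfsg.sigma M := fun q hq hd =>
          hσL' ▸ Cfsg.Agent.Lead.BG12.mem_sigma_of_dvd_card_sigmaCore hq
            (prime_dvd_orderOf_mem hsL' hd)
        have heq' : x * r = s * y := by rw [heq]; exact hys.eq
        obtain ⟨hxs, hry⟩ := eq_of_mul_eq_mul_of_pi (Cfsg.sigma M) hxr hys.symm heq' hPx hPs hrσ
          (fun q hq hd => hdisj q (hPy q hq hd))
        -- now `r = y ≠ 1`, so `x` is bad
        have hr1 : r ≠ 1 := hry ▸ hy1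
        rcases mem_supportR_cases hG hM hx hx1 hr with h | ⟨hbadx, L, d, hrL, -⟩
        · exact hr1 h
        · have huniq := unique_of_badData hG hM hx hx1 hbadx d
          have hxL' : x ∈ Cfsg.sigmaCore L' := hxs ▸ hsL'
          have hbad' : ¬ Subgroup.centralizer ({x} : Set G) ≤ L' := by
            intro h
            have h1 : L' = L := huniq L' d'.coatom h
            exact d.not_conj g (h1 ▸ hg)
          obtain ⟨N'', d''⟩ := exists_badData hG d'.coatom hxL' hx1 hbad'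
          have hN'' : N'' = L := huniq N'' d''.coatom d''.cent_le
          have hyC : y ∈ Subgroup.centralizer ({y} : Set G) := by
            rw [Subgroup.mem_centralizer_singleton_iff]
          have hyL' : y ∈ L' := d'.cent_le hyC
          have h2 : y ∈ Cfsg.sigmaCore N'' ⊓ L' := by
            rw [hN'']
            exact ⟨hry ▸ hrL, hyL'⟩
          rw [d''.inf_bot, Subgroup.mem_bot] at h2
          exact hy1 h2
    · push Not at hsM
      have hys' : Commute (1 : G) (y * s) := Commute.one_left _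
      have heq' : x * r = 1 * (y * s) := by rw [one_mul]; exact heq
      have hord : ∀ q : ℕ, q.Prime → q ∣ orderOf (y * s) → q ∉ Cfsg.sigma M := by
        intro q hq hd
        have h1 : orderOf (y * s) ∣ orderOf y * orderOf s := hys.orderOf_mul_dvd_mul_orderOf
        rcases (Nat.Prime.dvd_mul hq).mp (hd.trans h1) with h | h
        · exact hdisj q (hPy q hq h)
        · exact hsM q hq h
      have := eq_of_mul_eq_mul_of_pi (Cfsg.sigma M) hxr hys' heq' hPx
        (fun q hq hd => by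
          rw [orderOf_one] at hd
          exact absurd (Nat.dvd_one.mp hd) hq.one_lt.ne') hrσ hord
      exact hx1 this.1

end Cfsg.Agent.Helper2.BG144
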