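import Mathlib
import Cfsg.Prelude
import Cfsg.Agent.Helper2.BG144c
import Cfsg.Agent.S1350

set_option autoImplicit false

/-!
Bender–Glauberman 14.5: conjugation equivariance of `M_σ` and of the supports `R(x)`.
-/

namespace Cfsg.Agent.Helper2.BG144

open Cfsg
open scoped Pointwise

universe u

variable {G : Type u} [Group G] [Finite G]

theorem isCoatom_map_conj {M : Subgroup G} (hM : IsCoatom M) (g : G) :
    IsCoatom (M.map (MulAut.conj g).toMonoidHom) :=
  Cfsg.Agent.Helper1.BGU.isCoatom_conj_smul g hM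

/-- `(M^g)_σ = (M_σ)^g`. -/
theorem sigmaCore_map_conj (hG : Cfsg.IsMinSimpleOddOrder G) {M : Subgroup G} (hM : IsCoatom M)
    (g : G) : Cfsg.sigmaCore (M.map (MulAut.conj g).toMonoidHom) =
      (Cfsg.sigmaCore M).map (MulAut.conj g).toMonoidHom := by
  have hMg := isCoatom_map_conj hM g
  have hinj : Function.Injective (MulAut.conj g).toMonoidHom := (MulAut.conj g).injective
  symm
  apply (Cfsg.Agent.S1350.result hG _ hMg).2.2
  · have h1 : M ≤ Subgroup.normalizer ((Cfsg.sigmaCore M : Subgroup G) : Set G) :=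
      Cfsg.Agent.Lead.BG12.le_normalizer_sigmaCore M
    have h2 := Subgroup.map_mono (f := (MulAut.conj g).toMonoidHom) h1
    rw [Subgroup.map_equiv_normalizer_eq] at h2
    exact h2
  · refine ⟨Subgroup.map_mono Cfsg.Agent.Lead.BG12.sigmaCore_le, ?_, ?_⟩
    · intro p hp hd
      rw [Subgroup.card_map_of_injective hinj] at hd
      rw [sigma_map_conj hG hM g]
      exact Cfsg.Agent.Lead.BG12.mem_sigma_of_dvd_card_sigmaCore hp hd
    · intro p hp hpσ hd
      rw [sigma_map_conj hG hM g] at hpσ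
      rw [Subgroup.relIndex_map_map_of_injective _ _ hinj] at hd
      exact Cfsg.Agent.Lead.BG12.not_dvd_relIndex_sigmaCore hG hM hp hpσ hd

omit [Finite G] in
theorem centralizer_conj (g a : G) :
    Subgroup.centralizer ({g * a * g⁻¹} : Set G) =
      (Subgroup.centralizer ({a} : Set G)).map (MulAut.conj g).toMonoidHom := by
  ext c
  simp only [Subgroup.mem_map, Subgroup.mem_centralizer_singleton_iff, MulEquiv.coe_toMonoidHom,
    MulAut.conj_apply]
  constructor
  · intro h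
    refine ⟨g⁻¹ * c * g, ?_, by group⟩
    have e1 : g⁻¹ * c * g * a = g⁻¹ * (c * (g * a * g⁻¹)) * g := by group
    rw [e1, h]; group
  · rintro ⟨c', hc', rfl⟩
    have e1 : g * c' * g⁻¹ * (g * a * g⁻¹) = g * (c' * a) * g⁻¹ := by group
    rw [e1, hc']; group

/-- `R_{M^g}(x^g) = R_M(x)^g`. -/
theorem supportR_map_conj (hG : Cfsg.IsMinSimpleOddOrder G) {M : Subgroup G} (hM : IsCoatom M)
    {a : G} (ha : a ∈ Cfsg.sigmaCore M) (ha1 : a ≠ 1) (g : G) :
    Cfsg.supportR (M.map (MulAut.conj g).toMonoidHom) (g * a * g⁻¹) =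
      (Cfsg.supportR M a).map (MulAut.conj g).toMonoidHom := by
  have hinj : Function.Injective (MulAut.conj g).toMonoidHom := (MulAut.conj g).injective
  by_cases hbad : Subgroup.centralizer ({a} : Set G) ≤ M
  · rw [supportR_eq_bot_of_le hbad, Subgroup.map_bot, supportR_eq_bot_of_le]
    rw [centralizer_conj]; exact Subgroup.map_mono hbad
  · obtain ⟨N, d⟩ := exists_badData hG hM ha ha1 hbad
    rw [supportR_eq hG hM ha ha1 hbad d]
    have hMg := isCoatom_map_conj hM g
    have haσ' : g * a * g⁻¹ ∈ Cfsg.sigmaCore (M.map (MulAut.conj g).toMonoidHom) := by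
      rw [sigmaCore_map_conj hG hM g]
      exact ⟨a, ha, by simp [MulAut.conj_apply]⟩
    have ha1' : g * a * g⁻¹ ≠ 1 := by
      intro h
      apply ha1
      have : a = g⁻¹ * (g * a * g⁻¹) * g := by group
      rw [this, h]; group
    have hbad' : ¬ Subgroup.centralizer ({g * a * g⁻¹} : Set G) ≤
        M.map (MulAut.conj g).toMonoidHom := by
      rw [centralizer_conj]
      intro h
      exact hbad ((Subgroup.map_le_map_iff_of_injective hinj).mp h)
    obtain ⟨N', d'⟩ := exists_badData hG hMg haσ' ha1' hbad'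
    have hNg := isCoatom_map_conj d.coatom g
    have hN' : N.map (MulAut.conj g).toMonoidHom = N' :=
      unique_of_badData hG hMg haσ' ha1' hbad' d' _ hNg (by
        rw [centralizer_conj]; exact Subgroup.map_mono d.cent_le)
    rw [supportR_eq hG hMg haσ' ha1' hbad' d', ← hN', sigmaCore_map_conj hG d.coatom,
      centralizer_conj, ← Subgroup.map_inf _ _ _ hinj]


/-- `R(x)` is a complement of `C_M(x)` in `C_G(x)` meeting `M` trivially. -/
theorem supportR_structure (hG : Cfsg.IsMinSimpleOddOrder G) {M : Subgroup G} (hM : IsCoatom M)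
    {x : G} (hx : x ∈ Cfsg.sigmaCore M) (hx1 : x ≠ 1) :
    Cfsg.IsComplIn (M ⊓ Subgroup.centralizer ({x} : Set G)) (Cfsg.supportR M x)
      (Subgroup.centralizer ({x} : Set G)) ∧ Cfsg.supportR M x ⊓ M = ⊥ := by
  by_cases hbad : Subgroup.centralizer ({x} : Set G) ≤ M
  · rw [supportR_eq_bot_of_le hbad]
    exact ⟨⟨inf_le_right, bot_le, inf_bot_eq _, fun c hc =>
      ⟨c, ⟨hbad hc, hc⟩, 1, Subgroup.one_mem _, (mul_one c).symm⟩⟩, bot_inf_eq _⟩
  · obtain ⟨N, d⟩ := exists_badData hG hM hx hx1 hbad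
    rw [supportR_eq hG hM hx hx1 hbad d]
    obtain ⟨-, h2, h3⟩ := cent_structure_of_badData (Cfsg.Agent.Lead.BG12.sigmaCore_le hx) d
    exact ⟨h2, h3⟩

/-- The conjugates of `M` containing `x` are parametrized by any complement `R` as above. -/
theorem conj_unique_of_compl (hG : Cfsg.IsMinSimpleOddOrder G) {M : Subgroup G} (hM : IsCoatom M)
    {x : G} (hx : x ∈ Cfsg.sigmaCore M) (hx1 : x ≠ 1) {R : Subgroup G}
    (hcompl : Cfsg.IsComplIn (M ⊓ Subgroup.centralizer ({x} : Set G)) R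
      (Subgroup.centralizer ({x} : Set G))) (hRM : R ⊓ M = ⊥) :
    ∀ g : G, x ∈ M.map (MulAut.conj g).toMonoidHom →
      ∃! r : G, r ∈ R ∧ M.map (MulAut.conj r).toMonoidHom = M.map (MulAut.conj g).toMonoidHom := by
  have hxM : x ∈ M := Cfsg.Agent.Lead.BG12.sigmaCore_le hx
  have hMbot : M ≠ ⊥ := by
    intro h; rw [h, Subgroup.mem_bot] at hxM; exact hx1 hxM
  have hNM : Subgroup.normalizer (M : Set G) = M :=
    Cfsg.Agent.Helper1.BGU.normalizer_eq_of_coatom hG hM Subgroup.le_normalizer hMbot hM.1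
  intro g hxg
  obtain ⟨m0, hm0, hm0x⟩ := hxg
  have hm0x' : g * m0 * g⁻¹ = x := by simpa [MulAut.conj_apply] using hm0x
  have h1 : g⁻¹ * x * g⁻¹⁻¹ ∈ M := by
    have : g⁻¹ * x * g⁻¹⁻¹ = m0 := by rw [← hm0x']; group
    rw [this]; exact hm0
  obtain ⟨m, hm, hgm⟩ := fusion_control hG hM hx hx1 (g := g⁻¹) h1
  have hc : g * m ∈ Subgroup.centralizer ({x} : Set G) := by
    rw [Subgroup.mem_centralizer_singleton_iff]
    have : g * m * x = g * (m * x * m⁻¹) * m := by group
    rw [this, ← hgm]; group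
  obtain ⟨a, ha, b, hb, hab⟩ := hcompl.2.2.2 (g * m)⁻¹ (Subgroup.inv_mem _ hc)
  have hg : g = b⁻¹ * (a⁻¹ * m⁻¹) := by
    have : g = ((g * m)⁻¹)⁻¹ * m⁻¹ := by group
    rw [this, hab]; group
  have hn : a⁻¹ * m⁻¹ ∈ M := M.mul_mem (M.inv_mem ha.1) (M.inv_mem hm)
  refine ⟨b⁻¹, ⟨R.inv_mem hb, ?_⟩, ?_⟩
  · rw [hg, map_conj_mul_of_mem _ hn]
  · rintro r' ⟨hr', hr'eq⟩
    have h2 : M.map (MulAut.conj r').toMonoidHom = M.map (MulAut.conj b⁻¹).toMonoidHom := by
      rw [hr'eq, hg, map_conj_mul_of_mem _ hn]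
    have h3 := mem_normalizer_of_map_eq h2
    rw [hNM] at h3
    have h4 : b⁻¹⁻¹ * r' ∈ R ⊓ M := ⟨R.mul_mem (R.inv_mem (R.inv_mem hb)) hr', h3⟩
    rw [hRM, Subgroup.mem_bot] at h4
    have : r' = b⁻¹ * (b⁻¹⁻¹ * r') := by group
    rw [this, h4, mul_one]

omit [Finite G] in
theorem map_conj_map_conj (M : Subgroup G) (g h : G) :
    (M.map (MulAut.conj g).toMonoidHom).map (MulAut.conj h).toMonoidHom =
      M.map (MulAut.conj (h * g)).toMonoidHom := by
  rw [Subgroup.map_map]
  congr 1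
  ext y
  simp [MulAut.conj_apply, mul_assoc]

omit [Finite G] in
theorem map_conj_one (M : Subgroup G) : M.map (MulAut.conj (1 : G)).toMonoidHom = M := by
  ext y
  simp [MulAut.conj_apply]

/-- `R(x)` does not depend on the conjugate of `M` containing `x`. -/
theorem supportR_eq_of_mem_conj (hG : Cfsg.IsMinSimpleOddOrder G) {K : Subgroup G}
    (hK : IsCoatom K) {w : G} (hw : w ∈ Cfsg.sigmaCore K) (hw1 : w ≠ 1) (g : G)
    (hwg : w ∈ Cfsg.sigmaCore (K.map (MulAut.conj g).toMonoidHom)) :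
    Cfsg.supportR (K.map (MulAut.conj g).toMonoidHom) w = Cfsg.supportR K w := by
  by_cases hKg : K.map (MulAut.conj g).toMonoidHom = K
  · rw [hKg]
  · have hKg' := isCoatom_map_conj hK g
    -- `w` is bad for `K`
    have hb0 : ¬ Subgroup.centralizer ({w} : Set G) ≤ K := by
      intro h
      obtain ⟨hcompl, hRM⟩ := supportR_structure hG hK hw hw1
      obtain ⟨r, ⟨hr, hreq⟩, -⟩ := conj_unique_of_compl hG hK hw hw1 hcompl hRM g
        (Cfsg.Agent.Lead.BG12.sigmaCore_le hwg)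
      rw [supportR_eq_bot_of_le h, Subgroup.mem_bot] at hr
      rw [hr, map_conj_one] at hreq
      exact hKg hreq.symm
    have hb1 : ¬ Subgroup.centralizer ({w} : Set G) ≤ K.map (MulAut.conj g).toMonoidHom := by
      intro h
      obtain ⟨hcompl, hRM⟩ := supportR_structure hG hKg' hwg hw1
      have hback : (K.map (MulAut.conj g).toMonoidHom).map (MulAut.conj g⁻¹).toMonoidHom = K := by
        rw [map_conj_map_conj, inv_mul_cancel, map_conj_one]
      obtain ⟨r, ⟨hr, hreq⟩, -⟩ := conj_unique_of_compl hG hKg' hwg hw1 hcompl hRM g⁻¹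
        (by rw [hback]; exact Cfsg.Agent.Lead.BG12.sigmaCore_le hw)
      rw [supportR_eq_bot_of_le h, Subgroup.mem_bot] at hr
      rw [hr, map_conj_one, hback] at hreq
      exact hKg hreq
    obtain ⟨N, d⟩ := exists_badData hG hK hw hw1 hb0
    obtain ⟨N', d'⟩ := exists_badData hG hKg' hwg hw1 hb1
    have hN' : N' = N := unique_of_badData hG hK hw hw1 hb0 d N' d'.coatom d'.cent_le
    rw [supportR_eq hG hK hw hw1 hb0 d, supportR_eq hG hKg' hwg hw1 hb1 d', hN']

end Cfsg.Agent.Helper2.BG144
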