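import Mathlib
import Cfsg.Prelude
import Cfsg.Agent.Helper2.BG144d

set_option autoImplicit false

/-!
Bender–Glauberman 14.5(b)-type count: `|M̃| = (|M_σ| - 1) |G : M|`.
-/

namespace Cfsg.Agent.Helper2.BG144

open Cfsg
open scoped Pointwise

universe u

variable {G : Type u} [Group G] [Finite G]

omit [Finite G] in
theorem mem_map_conj_iff {H : Subgroup G} {g w : G} :
    w ∈ H.map (MulAut.conj g).toMonoidHom ↔ ∃ a ∈ H, g * a * g⁻¹ = w := by
  simp [Subgroup.mem_map, MulAut.conj_apply]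

set_option maxHeartbeats 800000 in
theorem ncard_tilde (hG : Cfsg.IsMinSimpleOddOrder G) {M : Subgroup G} (hM : IsCoatom M) :
    Set.ncard (Cfsg.tildeOf M ((Cfsg.sigmaCore M : Set G) \ {1})) =
      (Nat.card (Cfsg.sigmaCore M) - 1) * M.index := by
  classical
  have hKco : ∀ g : G, IsCoatom (M.map (MulAut.conj g).toMonoidHom) :=
    fun g => isCoatom_map_conj hM g
  have hσK : ∀ g : G, Cfsg.sigmaCore (M.map (MulAut.conj g).toMonoidHom) =
      (Cfsg.sigmaCore M).map (MulAut.conj g).toMonoidHom := fun g => sigmaCore_map_conj hG hM g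
  have hσeq : ∀ g : G, Cfsg.sigma (M.map (MulAut.conj g).toMonoidHom) = Cfsg.sigma M :=
    fun g => sigma_map_conj hG hM g
  have hMbot : M ≠ ⊥ := fun h =>
    Cfsg.Agent.Lead.BG12.sigmaCore_ne_bot hG hM
      (le_bot_iff.mp (h ▸ Cfsg.Agent.Lead.BG12.sigmaCore_le))
  have hNM : Subgroup.normalizer (M : Set G) = M :=
    Cfsg.Agent.Helper1.BGU.normalizer_eq_of_coatom hG hM Subgroup.le_normalizer hMbot hM.1
  -- representatives
  let InΩ : G → Prop := fun w => ∃ y : G, w ∈ Cfsg.sigmaCore (M.map (MulAut.conj y).toMonoidHom)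
  let rep : G → G := fun w => if h : InΩ w then Classical.choose h else 1
  have hrep : ∀ w : G, InΩ w →
      w ∈ Cfsg.sigmaCore (M.map (MulAut.conj (rep w)).toMonoidHom) := by
    intro w h
    simp only [rep, dif_pos h]
    exact Classical.choose_spec h
  -- facts about an element of some `(M^y)_σ`
  have hfacts : ∀ (y w ρ : G), w ∈ Cfsg.sigmaCore (M.map (MulAut.conj y).toMonoidHom) → w ≠ 1 →
      ρ ∈ Cfsg.supportR (M.map (MulAut.conj y).toMonoidHom) w →
      (∀ p : ℕ, p.Prime → p ∣ orderOf w → p ∈ Cfsg.sigma M) ∧ Commute w ρ ∧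
        ∀ p : ℕ, p.Prime → p ∣ orderOf ρ → p ∉ Cfsg.sigma M := by
    intro y w ρ hw hw1 hρ
    obtain ⟨h1, h2⟩ := supportR_facts hG (hKco y) hw hw1 hρ
    refine ⟨fun p hp hd => ?_, h1, fun p hp hd => ?_⟩
    · rw [← hσeq y]
      exact Cfsg.Agent.Lead.BG12.mem_sigma_of_dvd_card_sigmaCore hp (prime_dvd_orderOf_mem hw hd)
    · rw [← hσeq y]; exact h2 p hp hd
  let X := {a : G // a ∈ ((Cfsg.sigmaCore M : Set G) \ {1})}
  have key : ∀ (q : G ⧸ M) (a : X), ∃ v ρ : G,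
      v = (q.out * a.1 * q.out⁻¹) * ρ ∧
      ρ ∈ Cfsg.supportR (M.map (MulAut.conj (rep (q.out * a.1 * q.out⁻¹))).toMonoidHom)
        (q.out * a.1 * q.out⁻¹) ∧
      (M.map (MulAut.conj (rep (q.out * a.1 * q.out⁻¹))).toMonoidHom).map
        (MulAut.conj ρ).toMonoidHom = M.map (MulAut.conj q.out).toMonoidHom := by
    intro q a
    set g : G := q.out with hg
    set w : G := g * a.1 * g⁻¹ with hw
    have hwK : w ∈ Cfsg.sigmaCore (M.map (MulAut.conj g).toMonoidHom) := by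
      rw [hσK g, mem_map_conj_iff]
      exact ⟨a.1, a.2.1, rfl⟩
    have hΩ : InΩ w := ⟨g, hwK⟩
    have hw0 := hrep w hΩ
    have hw1 : w ≠ 1 := by
      intro h
      apply a.2.2
      have : a.1 = g⁻¹ * w * g := by rw [hw]; group
      rw [Set.mem_singleton_iff, this, h]; group
    obtain ⟨hcompl, hRM⟩ := supportR_structure hG (hKco (rep w)) hw0 hw1
    have hmm : (M.map (MulAut.conj (rep w)).toMonoidHom).map
        (MulAut.conj (g * (rep w)⁻¹)).toMonoidHom = M.map (MulAut.conj g).toMonoidHom := by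
      rw [map_conj_map_conj, inv_mul_cancel_right]
    obtain ⟨ρ, ⟨hρ, hρeq⟩, -⟩ := conj_unique_of_compl hG (hKco (rep w)) hw0 hw1 hcompl hRM
      (g * (rep w)⁻¹) (by rw [hmm]; exact Cfsg.Agent.Lead.BG12.sigmaCore_le hwK)
    exact ⟨w * ρ, ρ, rfl, hρ, by rw [hρeq, hmm]⟩
  choose Ψ ρf hΨ using key
  let F : (G ⧸ M) × X → G := fun p => Ψ p.1 p.2
  -- data attached to `(q, a)`
  have hdata : ∀ (q : G ⧸ M) (a : X),
      (q.out * a.1 * q.out⁻¹) ∈
        Cfsg.sigmaCore (M.map (MulAut.conj (rep (q.out * a.1 * q.out⁻¹))).toMonoidHom) ∧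
      (q.out * a.1 * q.out⁻¹) ≠ 1 := by
    intro q a
    have hwK : q.out * a.1 * q.out⁻¹ ∈
        Cfsg.sigmaCore (M.map (MulAut.conj q.out).toMonoidHom) := by
      rw [hσK, mem_map_conj_iff]
      exact ⟨a.1, a.2.1, rfl⟩
    refine ⟨hrep _ ⟨q.out, hwK⟩, ?_⟩
    intro h
    apply a.2.2
    have : a.1 = q.out⁻¹ * (q.out * a.1 * q.out⁻¹) * q.out := by group
    rw [Set.mem_singleton_iff, this, h]; group
  have hinj : Function.Injective F := by
    rintro ⟨q, a⟩ ⟨q', a'⟩ hFF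
    simp only [F] at hFF
    obtain ⟨hv, hρ, hK⟩ := hΨ q a
    obtain ⟨hv', hρ', hK'⟩ := hΨ q' a'
    obtain ⟨hw0, hw1⟩ := hdata q a
    obtain ⟨hw0', hw1'⟩ := hdata q' a'
    obtain ⟨hP, hC, hQ⟩ := hfacts _ _ _ hw0 hw1 hρ
    obtain ⟨hP', hC', hQ'⟩ := hfacts _ _ _ hw0' hw1' hρ'
    rw [hv, hv'] at hFF
    obtain ⟨hww, hρρ⟩ := eq_of_mul_eq_mul_of_pi (Cfsg.sigma M) hC hC' hFF hP hP' hQ hQ'
    have hKK : M.map (MulAut.conj q.out).toMonoidHom = M.map (MulAut.conj q'.out).toMonoidHom := by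
      rw [← hK, ← hK', hww, hρρ]
    have hmem := mem_normalizer_of_map_eq hKK
    rw [hNM] at hmem
    have hqq : q' = q := by
      rw [← QuotientGroup.out_eq' q, ← QuotientGroup.out_eq' q']
      exact QuotientGroup.eq.mpr hmem
    subst hqq
    have haa : a.1 = a'.1 := by
      have h1 : a.1 = q'.out⁻¹ * (q'.out * a.1 * q'.out⁻¹) * q'.out := by group
      have h2 : a'.1 = q'.out⁻¹ * (q'.out * a'.1 * q'.out⁻¹) * q'.out := by group
      rw [h1, h2, hww]
    have : a = a' := Subtype.ext haa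
    rw [this]
  have hrange : Set.range F = Cfsg.tildeOf M ((Cfsg.sigmaCore M : Set G) \ {1}) := by
    ext g₀
    constructor
    · rintro ⟨⟨q, a⟩, rfl⟩
      simp only [F]
      obtain ⟨hv, hρ, hK⟩ := hΨ q a
      obtain ⟨hw0, hw1⟩ := hdata q a
      set w : G := q.out * a.1 * q.out⁻¹ with hw
      set y : G := rep w with hy
      rw [hσK y, mem_map_conj_iff] at hw0
      obtain ⟨a', ha', ha'w⟩ := hw0
      have ha'1 : a' ≠ 1 := by
        intro h
        apply hw1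
        rw [← ha'w, h]; group
      rw [← ha'w, supportR_map_conj hG hM ha' ha'1 y, mem_map_conj_iff] at hρ
      obtain ⟨r', hr', hr'ρ⟩ := hρ
      refine ⟨a', ⟨ha', ha'1⟩, r', hr', y, ?_⟩
      rw [hv, ← hr'ρ, ← ha'w]; group
    · rintro ⟨a, ⟨ha, ha1⟩, r, hr, y, rfl⟩
      have ha1' : a ≠ 1 := ha1
      set w : G := y * a * y⁻¹ with hw
      have hwK : w ∈ Cfsg.sigmaCore (M.map (MulAut.conj y).toMonoidHom) := by
        rw [hσK y, mem_map_conj_iff]; exact ⟨a, ha, rfl⟩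
      have hw1 : w ≠ 1 := by
        intro h
        apply ha1'
        have : a = y⁻¹ * w * y := by rw [hw]; group
        rw [this, h]; group
      set ρ₁ : G := y * r * y⁻¹ with hρ₁
      have hρ₁K : ρ₁ ∈ Cfsg.supportR (M.map (MulAut.conj y).toMonoidHom) w := by
        rw [hw, supportR_map_conj hG hM ha ha1' y, mem_map_conj_iff]
        exact ⟨r, hr, rfl⟩
      have hΩ : InΩ w := ⟨y, hwK⟩
      set y₀ : G := rep w with hy₀
      have hw0 : w ∈ Cfsg.sigmaCore (M.map (MulAut.conj y₀).toMonoidHom) := hrep w hΩ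
      have hmm : (M.map (MulAut.conj y₀).toMonoidHom).map
          (MulAut.conj (y * y₀⁻¹)).toMonoidHom = M.map (MulAut.conj y).toMonoidHom := by
        rw [map_conj_map_conj, inv_mul_cancel_right]
      have hρ₁0 : ρ₁ ∈ Cfsg.supportR (M.map (MulAut.conj y₀).toMonoidHom) w := by
        rw [← supportR_eq_of_mem_conj hG (hKco y₀) hw0 hw1 (y * y₀⁻¹) (by rw [hmm]; exact hwK),
          hmm]
        exact hρ₁K
      obtain ⟨-, hCρ, -⟩ := hfacts y₀ w ρ₁ hw0 hw1 hρ₁0
      -- the coset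
      set g₁ : G := ρ₁ * y₀ with hg₁
      set q : G ⧸ M := QuotientGroup.mk g₁ with hq
      obtain ⟨m, hm⟩ := QuotientGroup.mk_out_eq_mul M g₁
      have hKg : M.map (MulAut.conj q.out).toMonoidHom =
          (M.map (MulAut.conj y₀).toMonoidHom).map (MulAut.conj ρ₁).toMonoidHom := by
        rw [hq, hm, map_conj_mul_of_mem _ m.2, map_conj_map_conj]
      -- `w ∈ (M^g)_σ`
      have hwg : w ∈ Cfsg.sigmaCore (M.map (MulAut.conj q.out).toMonoidHom) := by
        rw [hKg, sigmaCore_map_conj hG (hKco y₀) ρ₁, mem_map_conj_iff]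
        refine ⟨w, hw0, ?_⟩
        rw [← hCρ.eq]; group
      rw [hσK, mem_map_conj_iff] at hwg
      obtain ⟨a₂, ha₂, ha₂w⟩ := hwg
      have ha₂1 : a₂ ∉ ({1} : Set G) := by
        intro h
        rw [Set.mem_singleton_iff] at h
        apply hw1
        rw [← ha₂w, h]; group
      refine ⟨(q, ⟨a₂, ha₂, ha₂1⟩), ?_⟩
      simp only [F]
      obtain ⟨hv, hρ, hK⟩ := hΨ q ⟨a₂, ha₂, ha₂1⟩
      simp only at hv hρ hK
      rw [ha₂w] at hv hρ hK
      -- uniqueness
      obtain ⟨hcompl, hRM⟩ := supportR_structure hG (hKco y₀) hw0 hw1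
      have huniq := conj_unique_of_compl hG (hKco y₀) hw0 hw1 hcompl hRM ρ₁ (by
        rw [mem_map_conj_iff]
        refine ⟨w, Cfsg.Agent.Lead.BG12.sigmaCore_le hw0, ?_⟩
        rw [← hCρ.eq]; group)
      have hρeq : ρf q ⟨a₂, ha₂, ha₂1⟩ = ρ₁ :=
        huniq.unique ⟨hρ, by rw [hK, hKg]⟩ ⟨hρ₁0, rfl⟩
      rw [hv, hρeq, hw, hρ₁]; group
  rw [← hrange, Set.ncard_range_of_injective hinj, Nat.card_prod, mul_comm]
  congr 1
  have h1 : Nat.card X = Set.ncard ((Cfsg.sigmaCore M : Set G) \ {1}) := rfl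
  rw [h1, Set.ncard_diff_singleton_of_mem (Subgroup.one_mem _)]
  rfl

end Cfsg.Agent.Helper2.BG144
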