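import Mathlib
import Cfsg.Prelude

set_option autoImplicit false

/-!
Counting the conjugates of a TI-subset: if `S ⊆ G` is normalized by the subgroup `Z` and every
`g` conjugating an element of `S` into `S` lies in `Z`, then `|Z| · |S^G| = |S| · |G|`.
-/

namespace Cfsg.Agent.Helper2.BG147K

universe u

variable {G : Type u} [Group G]

/-- the union of the conjugates of `S` -/
def conjSet (S : Set G) : Set G := {a | ∃ g : G, ∃ w ∈ S, a = g * w * g⁻¹}

theorem mem_conjSet {S : Set G} {a : G} : a ∈ conjSet S ↔ ∃ g : G, ∃ w ∈ S, a = g * w * g⁻¹ :=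
  Iff.rfl

theorem card_mul_ncard_conjSet [Finite G] (S : Set G) (Z : Subgroup G)
    (hconj : ∀ w ∈ S, ∀ g : G, g * w * g⁻¹ ∈ S → g ∈ Z)
    (hnorm : ∀ z ∈ Z, ∀ w ∈ S, z * w * z⁻¹ ∈ S) :
    Nat.card Z * (conjSet S).ncard = S.ncard * Nat.card G := by
  classical
  -- the map `(G ⧸ Z) × S → conjSet S`
  let f : (G ⧸ Z) × S → conjSet S := fun p =>
    ⟨(p.1.out : G) * (p.2 : G) * (p.1.out : G)⁻¹, ⟨p.1.out, p.2, p.2.2, rfl⟩⟩
  have hinj : Function.Injective f := by
    rintro ⟨q, ⟨w, hw⟩⟩ ⟨q', ⟨w', hw'⟩⟩ h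
    have h1 : (q.out : G) * w * (q.out : G)⁻¹ = (q'.out : G) * w' * (q'.out : G)⁻¹ := by
      simpa [f] using congrArg Subtype.val h
    have h2 : ((q'.out : G)⁻¹ * q.out) * w * ((q'.out : G)⁻¹ * q.out)⁻¹ = w' := by
      have : ((q'.out : G)⁻¹ * q.out) * w * ((q'.out : G)⁻¹ * q.out)⁻¹ =
          (q'.out : G)⁻¹ * ((q.out : G) * w * (q.out : G)⁻¹) * q'.out := by group
      rw [this, h1]; group
    have h3 : (q'.out : G)⁻¹ * q.out ∈ Z := hconj w hw _ (h2 ▸ hw')
    have h4 : q' = q := by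
      have := (QuotientGroup.eq (s := Z) (a := (q'.out : G)) (b := (q.out : G))).2 h3
      rwa [QuotientGroup.out_eq', QuotientGroup.out_eq'] at this
    subst h4
    have h5 : w = w' := by
      have : (q'.out : G)⁻¹ * ((q'.out : G) * w * (q'.out : G)⁻¹) * q'.out = w := by group
      rw [← this, h1]; group
    subst h5
    rfl
  have hsurj : Function.Surjective f := by
    rintro ⟨a, g, w, hw, rfl⟩
    let q : G ⧸ Z := (g : G ⧸ Z)
    have h1 : (q.out : G)⁻¹ * g ∈ Z := by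
      have : ((q.out : G) : G ⧸ Z) = (g : G ⧸ Z) := QuotientGroup.out_eq' q
      exact (QuotientGroup.eq (s := Z)).1 this
    refine ⟨(q, ⟨((q.out : G)⁻¹ * g) * w * ((q.out : G)⁻¹ * g)⁻¹, hnorm _ h1 w hw⟩), ?_⟩
    apply Subtype.ext
    simp only [f]
    group
  have hcard : Nat.card ((G ⧸ Z) × S) = Nat.card (conjSet S) :=
    Nat.card_congr (Equiv.ofBijective f ⟨hinj, hsurj⟩)
  rw [Nat.card_prod, Nat.card_coe_set_eq, Nat.card_coe_set_eq] at hcard
  rw [← hcard, ← Subgroup.index_eq_card]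
  calc Nat.card Z * (Z.index * S.ncard) = (Nat.card Z * Z.index) * S.ncard := by ring
    _ = S.ncard * Nat.card G := by rw [Subgroup.card_mul_index]; ring

end Cfsg.Agent.Helper2.BG147K
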