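import Mathlib
import Cfsg.Prelude
import Cfsg.Agent.Helper2.BG144e
import Cfsg.Agent.Helper2.BG147K1

set_option autoImplicit false

/-!
Bender–Glauberman 14.7, the counting part: the set `T̂ = Z ∖ ⋃_{N ∈ F} (Z ∩ N_σ)`, its TI-property,
and the disjointness of its conjugates from the sets `M̃`.
-/

namespace Cfsg.Agent.Helper2.BG147K

open Cfsg
open scoped Pointwise

universe u

variable {G : Type u} [Group G] [Finite G]

/-- `T̂`: the elements of `Z` outside every `Z ∩ N_σ`, `N ∈ F`. -/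
def That (F : Finset (Subgroup G)) (Z : Subgroup G) : Set G :=
  (Z : Set G) \ ⋃ N ∈ F, ((Z ⊓ Cfsg.sigmaCore N : Subgroup G) : Set G)

omit [Finite G] in
theorem mem_That {F : Finset (Subgroup G)} {Z : Subgroup G} {w : G} :
    w ∈ That F Z ↔ w ∈ Z ∧ ∀ N ∈ F, w ∉ Cfsg.sigmaCore N := by
  unfold That
  simp only [Set.mem_sdiff, SetLike.mem_coe, Set.mem_iUnion, not_exists,
    Subgroup.mem_inf, not_and]
  constructor
  · rintro ⟨h1, h2⟩
    exact ⟨h1, fun N hN => h2 N hN h1⟩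
  · rintro ⟨h1, h2⟩
    exact ⟨h1, fun N hN _ => h2 N hN⟩

omit [Finite G] in
theorem map_conj_eq_of_mem {M : Subgroup G} {m : G} (hm : m ∈ M) :
    M.map (MulAut.conj m).toMonoidHom = M := by
  ext w
  rw [Cfsg.Agent.Helper2.BG144.mem_map_conj_iff]
  constructor
  · rintro ⟨a, ha, rfl⟩
    exact M.mul_mem (M.mul_mem hm ha) (M.inv_mem hm)
  · intro hw
    exact ⟨m⁻¹ * w * m, M.mul_mem (M.mul_mem (M.inv_mem hm) hw) hm, by group⟩

/-- a `σ(N)`-element of `N` lies in `N_σ` -/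
theorem mem_sigmaCore_of_primes (hG : Cfsg.IsMinSimpleOddOrder G) {N : Subgroup G}
    (hN : IsCoatom N) {x : G} (hx : x ∈ N)
    (h : ∀ p : ℕ, p.Prime → p ∣ orderOf x → p ∈ Cfsg.sigma N) : x ∈ Cfsg.sigmaCore N := by
  refine Cfsg.Agent.Lead.BG12.mem_of_pow_eq_one_of_coprime_relIndex
    (Cfsg.Agent.Lead.BG12.le_normalizer_sigmaCore N) ?_ hx (pow_orderOf_eq_one x)
  apply Nat.coprime_of_dvd
  intro k hk h1 h2
  exact Cfsg.Agent.Lead.BG12.not_dvd_relIndex_sigmaCore hG hN hk (h k hk h1) h2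

omit [Finite G] in
theorem conj_pow' (g w : G) (n : ℕ) : (g * w * g⁻¹) ^ n = g * w ^ n * g⁻¹ := by
  rw [conj_pow]

section

variable (hG : Cfsg.IsMinSimpleOddOrder G) {F : Finset (Subgroup G)} {Z : Subgroup G}
  (hco : ∀ N ∈ F, IsCoatom N) (hZN : ∀ N ∈ F, Z ≤ N)
  (hcov : ∀ q : ℕ, q.Prime → q ∣ Nat.card Z → ∃ N ∈ F, q ∈ Cfsg.sigma N)
  (hTI : ∀ N ∈ F, ∀ a ∈ Z ⊓ Cfsg.sigmaCore N, a ≠ 1 → ∀ g : G, g * a * g⁻¹ ∈ N → g ∈ N)

include hG hco hZN hcov hTI in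
/-- for `w ∈ Z`, a prime `q ∣ o(w)` and `g` with `g w g⁻¹ ∈ Z`: `g` lies in the member `N`
with `q ∈ σ(N)` -/
theorem mem_of_conj_mem_Z {w g : G} (hw : w ∈ Z) (hg : g * w * g⁻¹ ∈ Z) {q : ℕ} (hq : q.Prime)
    (hqd : q ∣ orderOf w) {N : Subgroup G} (hN : N ∈ F) (hqN : q ∈ Cfsg.sigma N) : g ∈ N := by
  have ho : orderOf (w ^ (orderOf w / q)) = q :=
    orderOf_pow_orderOf_div (orderOf_pos w).ne' hqd
  have haZ : w ^ (orderOf w / q) ∈ Z := Z.pow_mem hw _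
  have haσ : w ^ (orderOf w / q) ∈ Cfsg.sigmaCore N := by
    apply mem_sigmaCore_of_primes hG (hco N hN) (hZN N hN haZ)
    intro p hp hpd
    rw [ho] at hpd
    rwa [(Nat.prime_dvd_prime_iff_eq hp hq).1 hpd]
  have ha1 : w ^ (orderOf w / q) ≠ 1 := by
    intro h
    rw [h, orderOf_one] at ho
    exact hq.one_lt.ne ho
  apply hTI N hN _ (Subgroup.mem_inf.2 ⟨haZ, haσ⟩) ha1 g
  rw [← conj_pow']
  exact hZN N hN (Z.pow_mem hg _)

include hG hco hZN hcov hTI in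
/-- **TI-property of `T̂`**. -/
theorem That_conj (hint : ∀ N ∈ F, ∀ N' ∈ F, N ≠ N' → N ⊓ N' ≤ Z) (hF : F.Nonempty)
    {w g : G} (hw : w ∈ That F Z) (hg : g * w * g⁻¹ ∈ Z) : g ∈ Z := by
  obtain ⟨hwZ, hw'⟩ := mem_That.1 hw
  have hw1 : w ≠ 1 := by
    intro h
    obtain ⟨N, hN⟩ := hF
    apply hw' N hN
    rw [h]; exact Subgroup.one_mem _
  obtain ⟨q, hq, hqd⟩ := Nat.exists_prime_and_dvd
    (show orderOf w ≠ 1 from fun h0 => hw1 (orderOf_eq_one_iff.1 h0))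
  obtain ⟨N, hN, hqN⟩ := hcov q hq (hqd.trans (Subgroup.orderOf_dvd_natCard Z hwZ))
  have hgN := mem_of_conj_mem_Z hG hco hZN hcov hTI hwZ hg hq hqd hN hqN
  have hex : ∃ q' : ℕ, q'.Prime ∧ q' ∣ orderOf w ∧ q' ∉ Cfsg.sigma N := by
    by_contra hcon
    push_neg at hcon
    exact hw' N hN (mem_sigmaCore_of_primes hG (hco N hN) (hZN N hN hwZ) hcon)
  obtain ⟨q', hq', hq'd, hq'N⟩ := hex
  obtain ⟨N', hN', hq'N'⟩ := hcov q' hq' (hq'd.trans (Subgroup.orderOf_dvd_natCard Z hwZ))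
  have hgN' := mem_of_conj_mem_Z hG hco hZN hcov hTI hwZ hg hq' hq'd hN' hq'N'
  have hne : N ≠ N' := by
    intro h
    rw [← h] at hq'N'
    exact hq'N hq'N'
  exact hint N hN N' hN' hne (Subgroup.mem_inf.2 ⟨hgN, hgN'⟩)

include hZN in
/-- `Z` normalizes `T̂`. -/
theorem That_normal {w z : G} (hw : w ∈ That F Z) (hz : z ∈ Z) :
    z * w * z⁻¹ ∈ That F Z := by
  obtain ⟨hwZ, hw'⟩ := mem_That.1 hw
  refine mem_That.2 ⟨Z.mul_mem (Z.mul_mem hz hwZ) (Z.inv_mem hz), ?_⟩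
  intro N hN hmem
  apply hw' N hN
  have hzN : z⁻¹ ∈ N := N.inv_mem (hZN N hN hz)
  have := (Subgroup.mem_normalizer_iff.1
    (Cfsg.Agent.Lead.BG12.le_normalizer_sigmaCore N hzN) (z * w * z⁻¹)).1 hmem
  have e : z⁻¹ * (z * w * z⁻¹) * z⁻¹⁻¹ = w := by group
  rwa [e] at this

include hG hco hZN hcov hTI in
/-- the number of conjugates of `T̂` -/
theorem card_mul_ncard_conjSet_That (hint : ∀ N ∈ F, ∀ N' ∈ F, N ≠ N' → N ⊓ N' ≤ Z)
    (hF : F.Nonempty) :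
    Nat.card Z * (conjSet (That F Z)).ncard = (That F Z).ncard * Nat.card G := by
  apply card_mul_ncard_conjSet
  · intro w hw g hg
    exact That_conj hG hco hZN hcov hTI hint hF hw (mem_That.1 hg).1
  · intro z hz w hw
    exact That_normal hZN hw hz

include hG hco hZN hcov hTI in
/-- an element `x r` of a coset `x R(x)`, `x ∈ L_σ^#`, does not lie in `T̂` -/
theorem mul_not_mem_That {L : Subgroup G} (hL : IsCoatom L) {x r : G}
    (hx : x ∈ Cfsg.sigmaCore L) (hx1 : x ≠ 1) (hr : r ∈ Cfsg.supportR L x) :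
    x * r ∉ That F Z := by
  intro hw
  obtain ⟨hwZ, hw'⟩ := mem_That.1 hw
  obtain ⟨hxr, hrσ⟩ := Cfsg.Agent.Helper2.BG144.supportR_facts hG hL hx hx1 hr
  have hxσ : ∀ p : ℕ, p.Prime → p ∣ orderOf x → p ∈ Cfsg.sigma L := fun p hp hd =>
    Cfsg.Agent.Lead.BG12.mem_sigma_of_dvd_card_sigmaCore hp
      (Cfsg.Agent.Helper2.BG144.prime_dvd_orderOf_mem hx hd)
  have hcop : (orderOf x).Coprime (orderOf r) :=
    Nat.coprime_of_dvd fun k hk h1 h2 => hrσ k hk h2 (hxσ k hk h1)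
  have hord : orderOf (x * r) = orderOf x * orderOf r :=
    hxr.orderOf_mul_eq_mul_orderOf_of_coprime hcop
  obtain ⟨q, hq, hqd⟩ := Nat.exists_prime_and_dvd
    (show orderOf x ≠ 1 from fun h0 => hx1 (orderOf_eq_one_iff.1 h0))
  have hqL : q ∈ Cfsg.sigma L := hxσ q hq hqd
  have hqw : q ∣ orderOf (x * r) := by rw [hord]; exact Dvd.dvd.mul_right hqd _
  obtain ⟨N, hN, hqN⟩ := hcov q hq (hqw.trans (Subgroup.orderOf_dvd_natCard Z hwZ))
  -- the element `a` of order `q`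
  obtain ⟨c, hc⟩ := hqd
  have hj : orderOf (x * r) / q = c * orderOf r := by
    rw [hord, hc, mul_assoc, Nat.mul_div_cancel_left _ hq.pos]
  have ho : orderOf ((x * r) ^ (orderOf (x * r) / q)) = q :=
    orderOf_pow_orderOf_div (orderOf_pos _).ne' hqw
  have hpow : (x * r) ^ (orderOf (x * r) / q) = x ^ (c * orderOf r) := by
    rw [hj, hxr.mul_pow, mul_comm c (orderOf r), pow_mul r, pow_orderOf_eq_one, one_pow, mul_one]
  rw [hpow] at ho
  set a := x ^ (c * orderOf r) with ha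
  have haZ : a ∈ Z := by rw [← hpow]; exact Z.pow_mem hwZ _
  have ha1 : a ≠ 1 := by
    intro h
    rw [h, orderOf_one] at ho
    exact hq.one_lt.ne ho
  have haσ : a ∈ Cfsg.sigmaCore N := by
    apply mem_sigmaCore_of_primes hG (hco N hN) (hZN N hN haZ)
    intro p hp hpd
    rw [ho] at hpd
    rwa [(Nat.prime_dvd_prime_iff_eq hp hq).1 hpd]
  have haL : a ∈ L := Cfsg.Agent.Lead.BG12.sigmaCore_le ((Cfsg.sigmaCore L).pow_mem hx _)
  -- `L = N`
  obtain ⟨u, hu⟩ := (Cfsg.Agent.S1378.result hG).2 N L (hco N hN) hL ⟨q, hqN, hqL⟩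
  have huN : u⁻¹ ∈ N := by
    apply hTI N hN a (Subgroup.mem_inf.2 ⟨haZ, haσ⟩) ha1
    rw [hu, Cfsg.Agent.Helper2.BG144.mem_map_conj_iff] at haL
    obtain ⟨b, hb, hb'⟩ := haL
    have : u⁻¹ * a * u⁻¹⁻¹ = b := by rw [← hb']; group
    rw [this]; exact hb
  have hLN : L = N := by
    rw [hu]
    apply map_conj_eq_of_mem
    simpa using N.inv_mem huN
  subst hLN
  -- `C_G(x) ≤ L`
  have hcent : Subgroup.centralizer ({x} : Set G) ≤ L := by
    intro c' hc'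
    apply hTI L hN a (Subgroup.mem_inf.2 ⟨haZ, haσ⟩) ha1
    have h1 : c' * x = x * c' :=
      ((Subgroup.mem_centralizer_singleton_iff).1 hc')
    have h2 : Commute c' a := by
      rw [ha]; exact (show Commute c' x from h1).pow_right _
    have h3 : c' * a * c'⁻¹ = a := by rw [h2.eq]; group
    rw [h3]; exact haL
  rw [Cfsg.Agent.Helper2.BG144.supportR_eq_bot_of_le hcent, Subgroup.mem_bot] at hr
  rw [hr, mul_one] at hw'
  exact hw' L hN hx

include hG hco hZN hcov hTI in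
/-- **the conjugates of `T̂` avoid every `L̃`**. -/
theorem conjSet_That_disjoint_tilde {L : Subgroup G} (hL : IsCoatom L) :
    Disjoint (conjSet (That F Z))
      (Cfsg.tildeOf L ((Cfsg.sigmaCore L : Set G) \ {1})) := by
  rw [Set.disjoint_left]
  rintro a ⟨g, w, hw, rfl⟩ ⟨x, ⟨hx, hx1⟩, r, hr, y, hy⟩
  have hx1' : x ≠ 1 := hx1
  -- conjugate the coset by `h = g⁻¹ y`
  set h := g⁻¹ * y with hh
  have hw_eq : w = (h * x * h⁻¹) * (h * r * h⁻¹) := by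
    have : w = g⁻¹ * (g * w * g⁻¹) * g := by group
    rw [this, hy, hh]; group
  have hL' := Cfsg.Agent.Helper2.BG144.isCoatom_map_conj hL h
  have hx' : h * x * h⁻¹ ∈ Cfsg.sigmaCore (L.map (MulAut.conj h).toMonoidHom) := by
    rw [Cfsg.Agent.Helper2.BG144.sigmaCore_map_conj hG hL h,
      Cfsg.Agent.Helper2.BG144.mem_map_conj_iff]
    exact ⟨x, hx, rfl⟩
  have hx'1 : h * x * h⁻¹ ≠ 1 := by
    intro h0
    apply hx1'
    have : x = h⁻¹ * (h * x * h⁻¹) * h := by group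
    rw [this, h0]; group
  have hr' : h * r * h⁻¹ ∈ Cfsg.supportR (L.map (MulAut.conj h).toMonoidHom) (h * x * h⁻¹) := by
    rw [Cfsg.Agent.Helper2.BG144.supportR_map_conj hG hL hx hx1' h,
      Cfsg.Agent.Helper2.BG144.mem_map_conj_iff]
    exact ⟨r, hr, rfl⟩
  exact mul_not_mem_That hG hco hZN hcov hTI hL' hx' hx'1 hr' (hw_eq ▸ hw)

end

/-- **`M̃ ∩ Ñ = ∅` for non-conjugate maximal subgroups** (BG 14.5 / first part of S1379). -/
theorem tilde_disjoint (hG : Cfsg.IsMinSimpleOddOrder G) {M N : Subgroup G}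
    (hM : IsCoatom M) (hN : IsCoatom N)
    (hnc : ∀ g : G, N ≠ M.map (MulAut.conj g).toMonoidHom) :
    Disjoint (Cfsg.tildeOf M ((Cfsg.sigmaCore M : Set G) \ {1}))
      (Cfsg.tildeOf N ((Cfsg.sigmaCore N : Set G) \ {1})) := by
  rw [Set.disjoint_left]
  rintro a ⟨x, ⟨hx, hx1⟩, r, hr, y, hy⟩ ⟨x', ⟨hx', hx'1⟩, r', hr', y', hy'⟩
  have hx1' : x ≠ 1 := hx1
  have hx'1' : x' ≠ 1 := hx'1
  have hMy := Cfsg.Agent.Helper2.BG144.isCoatom_map_conj hM y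
  have hNy := Cfsg.Agent.Helper2.BG144.isCoatom_map_conj hN y'
  have h1 : y * x * y⁻¹ ∈ Cfsg.sigmaCore (M.map (MulAut.conj y).toMonoidHom) := by
    rw [Cfsg.Agent.Helper2.BG144.sigmaCore_map_conj hG hM y,
      Cfsg.Agent.Helper2.BG144.mem_map_conj_iff]
    exact ⟨x, hx, rfl⟩
  have h2 : y' * x' * y'⁻¹ ∈ Cfsg.sigmaCore (N.map (MulAut.conj y').toMonoidHom) := by
    rw [Cfsg.Agent.Helper2.BG144.sigmaCore_map_conj hG hN y',
      Cfsg.Agent.Helper2.BG144.mem_map_conj_iff]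
    exact ⟨x', hx', rfl⟩
  have h11 : y * x * y⁻¹ ≠ 1 := by
    intro h0
    apply hx1'
    have : x = y⁻¹ * (y * x * y⁻¹) * y := by group
    rw [this, h0]; group
  have h21 : y' * x' * y'⁻¹ ≠ 1 := by
    intro h0
    apply hx'1'
    have : x' = y'⁻¹ * (y' * x' * y'⁻¹) * y' := by group
    rw [this, h0]; group
  have hr1 : y * r * y⁻¹ ∈ Cfsg.supportR (M.map (MulAut.conj y).toMonoidHom) (y * x * y⁻¹) := by
    rw [Cfsg.Agent.Helper2.BG144.supportR_map_conj hG hM hx hx1' y,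
      Cfsg.Agent.Helper2.BG144.mem_map_conj_iff]
    exact ⟨r, hr, rfl⟩
  have hr2 : y' * r' * y'⁻¹ ∈
      Cfsg.supportR (N.map (MulAut.conj y').toMonoidHom) (y' * x' * y'⁻¹) := by
    rw [Cfsg.Agent.Helper2.BG144.supportR_map_conj hG hN hx' hx'1' y',
      Cfsg.Agent.Helper2.BG144.mem_map_conj_iff]
    exact ⟨r', hr', rfl⟩
  have heq : (y * x * y⁻¹) * (y * r * y⁻¹) = (y' * x' * y'⁻¹) * (y' * r' * y'⁻¹) := by
    have e1 : (y * x * y⁻¹) * (y * r * y⁻¹) = y * (x * r) * y⁻¹ := by group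
    have e2 : (y' * x' * y'⁻¹) * (y' * r' * y'⁻¹) = y' * (x' * r') * y'⁻¹ := by group
    rw [e1, e2, ← hy, ← hy']
  by_cases hxx : y * x * y⁻¹ = y' * x' * y'⁻¹
  · -- a common non-identity element of the two `σ`-cores: conjugate
    obtain ⟨q, hq, hqd⟩ := Nat.exists_prime_and_dvd
      (show orderOf (y * x * y⁻¹) ≠ 1 from fun h0 => h11 (orderOf_eq_one_iff.1 h0))
    have hq1 : q ∈ Cfsg.sigma (M.map (MulAut.conj y).toMonoidHom) :=
      Cfsg.Agent.Lead.BG12.mem_sigma_of_dvd_card_sigmaCore hq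
        (Cfsg.Agent.Helper2.BG144.prime_dvd_orderOf_mem h1 hqd)
    have hq2 : q ∈ Cfsg.sigma (N.map (MulAut.conj y').toMonoidHom) :=
      Cfsg.Agent.Lead.BG12.mem_sigma_of_dvd_card_sigmaCore hq
        (Cfsg.Agent.Helper2.BG144.prime_dvd_orderOf_mem h2 (hxx ▸ hqd))
    rw [Cfsg.Agent.Helper2.BG144.sigma_map_conj hG hM y] at hq1
    rw [Cfsg.Agent.Helper2.BG144.sigma_map_conj hG hN y'] at hq2
    obtain ⟨g, hg⟩ := (Cfsg.Agent.S1378.result hG).2 M N hM hN ⟨q, hq1, hq2⟩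
    exact hnc g hg
  · exact Cfsg.Agent.Helper2.BG144.coset_disjoint hG hMy hNy h1 h2 h11 h21 hxx hr1 hr2 heq

end Cfsg.Agent.Helper2.BG147K
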