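import Mathlib
import Cfsg.Prelude
import Cfsg.Agent.Helper2.BG147K2

set_option autoImplicit false

/-!
Bender–Glauberman 14.7, the counting part: the inequality
`Σ_{N ∈ F} |Ñ| + |T̂^G| ≤ |G| − 1` and the kill of the "all members of type P1" configuration.
-/

namespace Cfsg.Agent.Helper2.BG147K

open Cfsg
open scoped Pointwise

universe u

variable {G : Type u} [Group G] [Finite G]

omit [Group G] [Finite G] in
theorem ncard_biUnion_finset {ι α : Type*} (F : Finset ι) (s : ι → Set α)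
    (hs : ∀ i ∈ F, (s i).Finite)
    (h : ∀ i ∈ F, ∀ j ∈ F, i ≠ j → Disjoint (s i) (s j)) :
    (⋃ i ∈ F, s i).ncard = ∑ i ∈ F, (s i).ncard := by
  have h1 := Set.Finite.ncard_biUnion (t := (F : Set ι)) F.finite_toSet (s := s)
    (fun i hi => hs i (Finset.mem_coe.1 hi))
    (fun i hi j hj hij => h i (Finset.mem_coe.1 hi) j (Finset.mem_coe.1 hj) hij)
  rw [finsum_mem_coe_finset] at h1
  rw [← h1]
  congr 1

/-- `1 ∉ Ñ`. -/
theorem one_not_mem_tilde (hG : Cfsg.IsMinSimpleOddOrder G) {N : Subgroup G} (hN : IsCoatom N) :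
    (1 : G) ∉ Cfsg.tildeOf N ((Cfsg.sigmaCore N : Set G) \ {1}) := by
  rintro ⟨x, ⟨hx, hx1⟩, r, hr, y, hy⟩
  have hx1' : x ≠ 1 := hx1
  have hxr : x * r = 1 := by
    have : x * r = y⁻¹ * (y * (x * r) * y⁻¹) * y := by group
    rw [this, ← hy]; group
  obtain ⟨-, hrσ⟩ := Cfsg.Agent.Helper2.BG144.supportR_facts hG hN hx hx1' hr
  have hr' : r = x⁻¹ := (eq_inv_of_mul_eq_one_right hxr)
  obtain ⟨q, hq, hqd⟩ := Nat.exists_prime_and_dvd
    (show orderOf x ≠ 1 from fun h0 => hx1' (orderOf_eq_one_iff.1 h0))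
  apply hrσ q hq
  · rw [hr', orderOf_inv]; exact hqd
  · exact Cfsg.Agent.Lead.BG12.mem_sigma_of_dvd_card_sigmaCore hq
      (Cfsg.Agent.Helper2.BG144.prime_dvd_orderOf_mem hx hqd)

omit [Finite G] in
theorem one_not_mem_conjSet_That {F : Finset (Subgroup G)} {Z : Subgroup G} (hF : F.Nonempty) :
    (1 : G) ∉ conjSet (That F Z) := by
  rintro ⟨g, w, hw, h⟩
  have hw1 : w = 1 := by
    have : w = g⁻¹ * (g * w * g⁻¹) * g := by group
    rw [this, ← h]; group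
  obtain ⟨N, hN⟩ := hF
  apply (mem_That.1 hw).2 N hN
  rw [hw1]; exact Subgroup.one_mem _

section

variable (hG : Cfsg.IsMinSimpleOddOrder G) {F : Finset (Subgroup G)} {Z : Subgroup G}
  (hF : F.Nonempty)
  (hco : ∀ N ∈ F, IsCoatom N) (hZN : ∀ N ∈ F, Z ≤ N)
  (hnc : ∀ N ∈ F, ∀ N' ∈ F, N ≠ N' → ∀ g : G, N' ≠ N.map (MulAut.conj g).toMonoidHom)
  (hcov : ∀ q : ℕ, q.Prime → q ∣ Nat.card Z → ∃ N ∈ F, q ∈ Cfsg.sigma N)
  (hTI : ∀ N ∈ F, ∀ a ∈ Z ⊓ Cfsg.sigmaCore N, a ≠ 1 → ∀ g : G, g * a * g⁻¹ ∈ N → g ∈ N)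

include hG hF hco hZN hnc hcov hTI in
/-- **The counting inequality.** -/
theorem sum_add_ncard_le :
    ∑ N ∈ F, (Nat.card (Cfsg.sigmaCore N) - 1) * N.index + (conjSet (That F Z)).ncard ≤
      Nat.card G - 1 := by
  classical
  have h1 : ∑ N ∈ F, (Nat.card (Cfsg.sigmaCore N) - 1) * N.index =
      (⋃ N ∈ F, Cfsg.tildeOf N ((Cfsg.sigmaCore N : Set G) \ {1})).ncard := by
    rw [ncard_biUnion_finset F _ (fun _ _ => Set.toFinite _)]
    · apply Finset.sum_congr rfl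
      intro N hN
      exact (Cfsg.Agent.Helper2.BG144.ncard_tilde hG (hco N hN)).symm
    · intro N hN N' hN' hne
      exact tilde_disjoint hG (hco N hN) (hco N' hN') (hnc N hN N' hN' hne)
  have h2 : Disjoint (⋃ N ∈ F, Cfsg.tildeOf N ((Cfsg.sigmaCore N : Set G) \ {1}))
      (conjSet (That F Z)) := by
    rw [Set.disjoint_iUnion₂_left]
    intro N hN
    exact (conjSet_That_disjoint_tilde hG hco hZN hcov hTI (hco N hN)).symm
  rw [h1, ← Set.ncard_union_eq h2]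
  have h3 : (⋃ N ∈ F, Cfsg.tildeOf N ((Cfsg.sigmaCore N : Set G) \ {1})) ∪
      conjSet (That F Z) ⊆ ({1} : Set G)ᶜ := by
    intro a ha h0
    rw [Set.mem_singleton_iff] at h0
    subst h0
    rcases ha with ha | ha
    · obtain ⟨N, hN, ha'⟩ := Set.mem_iUnion₂.1 ha
      exact one_not_mem_tilde hG (hco N hN) ha'
    · exact one_not_mem_conjSet_That hF ha
  calc _ ≤ (({1} : Set G)ᶜ).ncard := Set.ncard_le_ncard h3
    _ = Nat.card G - 1 := by
      rw [Set.ncard_compl, Set.ncard_singleton]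

include hG hF hco hnc in
/-- the cardinality of `T̂` -/
theorem card_Z_eq :
    Nat.card Z = (That F Z).ncard + 1 +
      ∑ N ∈ F, (Nat.card ↥(Z ⊓ Cfsg.sigmaCore N) - 1) := by
  classical
  -- the punctured parts
  have hB : ∀ N ∈ F, (((Z ⊓ Cfsg.sigmaCore N : Subgroup G) : Set G) \ {1}).ncard =
      Nat.card ↥(Z ⊓ Cfsg.sigmaCore N) - 1 := by
    intro N _
    rw [Set.ncard_sdiff_singleton_of_mem (Subgroup.one_mem _)]
    rfl
  have hdisj : ∀ N ∈ F, ∀ N' ∈ F, N ≠ N' →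
      Disjoint (((Z ⊓ Cfsg.sigmaCore N : Subgroup G) : Set G) \ {1})
        (((Z ⊓ Cfsg.sigmaCore N' : Subgroup G) : Set G) \ {1}) := by
    intro N hN N' hN' hne
    rw [Set.disjoint_left]
    rintro v ⟨hv, hv1⟩ ⟨hv', -⟩
    have hv1' : v ≠ 1 := hv1
    obtain ⟨q, hq, hqd⟩ := Nat.exists_prime_and_dvd
      (show orderOf v ≠ 1 from fun h0 => hv1' (orderOf_eq_one_iff.1 h0))
    have hq1 : q ∈ Cfsg.sigma N :=
      Cfsg.Agent.Lead.BG12.mem_sigma_of_dvd_card_sigmaCore hq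
        (Cfsg.Agent.Helper2.BG144.prime_dvd_orderOf_mem (Subgroup.mem_inf.1 hv).2 hqd)
    have hq2 : q ∈ Cfsg.sigma N' :=
      Cfsg.Agent.Lead.BG12.mem_sigma_of_dvd_card_sigmaCore hq
        (Cfsg.Agent.Helper2.BG144.prime_dvd_orderOf_mem (Subgroup.mem_inf.1 hv').2 hqd)
    obtain ⟨g, hg⟩ := (Cfsg.Agent.S1378.result hG).2 N N' (hco N hN) (hco N' hN') ⟨q, hq1, hq2⟩
    exact hnc N hN N' hN' hne g hg
  have hsum : (⋃ N ∈ F, (((Z ⊓ Cfsg.sigmaCore N : Subgroup G) : Set G) \ {1})).ncard =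
      ∑ N ∈ F, (Nat.card ↥(Z ⊓ Cfsg.sigmaCore N) - 1) := by
    rw [ncard_biUnion_finset F _ (fun _ _ => Set.toFinite _) hdisj]
    exact Finset.sum_congr rfl hB
  -- decompose `Z`
  have hdecomp : (Z : Set G) = That F Z ∪ ({1} ∪
      ⋃ N ∈ F, (((Z ⊓ Cfsg.sigmaCore N : Subgroup G) : Set G) \ {1})) := by
    ext v
    constructor
    · intro hv
      by_cases h : v ∈ That F Z
      · exact Or.inl h
      · right
        by_cases hv1 : v = 1
        · exact Or.inl hv1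
        · right
          have : ¬ ∀ N ∈ F, v ∉ Cfsg.sigmaCore N := fun h' => h (mem_That.2 ⟨hv, h'⟩)
          push_neg at this
          obtain ⟨N, hN, hvN⟩ := this
          exact Set.mem_iUnion₂.2 ⟨N, hN, ⟨Subgroup.mem_inf.2 ⟨hv, hvN⟩, hv1⟩⟩
    · rintro (h | h | h)
      · exact (mem_That.1 h).1
      · rw [Set.mem_singleton_iff] at h; rw [h]; exact Subgroup.one_mem _
      · obtain ⟨N, hN, hv, -⟩ := Set.mem_iUnion₂.1 h
        exact (Subgroup.mem_inf.1 hv).1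
  have hd1 : Disjoint ({1} : Set G)
      (⋃ N ∈ F, (((Z ⊓ Cfsg.sigmaCore N : Subgroup G) : Set G) \ {1})) := by
    rw [Set.disjoint_left]
    intro v hv hv'
    obtain ⟨N, hN, -, hv1⟩ := Set.mem_iUnion₂.1 hv'
    exact hv1 hv
  have hd2 : Disjoint (That F Z) ({1} ∪
      ⋃ N ∈ F, (((Z ⊓ Cfsg.sigmaCore N : Subgroup G) : Set G) \ {1})) := by
    rw [Set.disjoint_left]
    rintro v hv (h | h)
    · rw [Set.mem_singleton_iff] at h
      obtain ⟨N, hN⟩ := hF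
      apply (mem_That.1 hv).2 N hN
      rw [h]; exact Subgroup.one_mem _
    · obtain ⟨N, hN, hv', -⟩ := Set.mem_iUnion₂.1 h
      exact (mem_That.1 hv).2 N hN (Subgroup.mem_inf.1 hv').2
  have hZc : Nat.card Z = (Z : Set G).ncard := rfl
  rw [hZc, hdecomp, Set.ncard_union_eq hd2, Set.ncard_union_eq hd1, Set.ncard_singleton, hsum]
  ring

end

/-- **The kill of the all-P1 configuration** (BG 14.7(f)-type counting). -/
theorem count_kill (hG : Cfsg.IsMinSimpleOddOrder G) (F : Finset (Subgroup G)) (Z : Subgroup G)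
    (hF : 2 ≤ F.card)
    (hco : ∀ N ∈ F, IsCoatom N) (hZN : ∀ N ∈ F, Z ≤ N)
    (hnc : ∀ N ∈ F, ∀ N' ∈ F, N ≠ N' → ∀ g : G, N' ≠ MulAut.conj g • N)
    (hint : ∀ N ∈ F, ∀ N' ∈ F, N ≠ N' → N ⊓ N' ≤ Z)
    (hcov : ∀ q : ℕ, q.Prime → q ∣ Nat.card Z → ∃ N ∈ F, q ∈ Cfsg.sigma N)
    (hTI : ∀ N ∈ F, ∀ a ∈ Z ⊓ Cfsg.sigmaCore N, a ≠ 1 → ∀ g : G, g * a * g⁻¹ ∈ N → g ∈ N)
    (hP1 : ∀ N ∈ F, Nat.card N * Nat.card ↥(Z ⊓ Cfsg.sigmaCore N) =
      Nat.card (Cfsg.sigmaCore N) * Nat.card Z)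
    (hlt : ∀ N ∈ F, Z ⊓ Cfsg.sigmaCore N ≠ Cfsg.sigmaCore N) : False := by
  classical
  have hFne : F.Nonempty := Finset.card_pos.1 (by omega)
  have hnc' : ∀ N ∈ F, ∀ N' ∈ F, N ≠ N' →
      ∀ g : G, N' ≠ N.map (MulAut.conj g).toMonoidHom := fun N hN N' hN' hne g => by
    have := hnc N hN N' hN' hne g
    intro h
    exact this (h.trans rfl)
  have hK5 := sum_add_ncard_le hG hFne hco hZN hnc' hcov hTI
  have hK1 := card_mul_ncard_conjSet_That hG hco hZN hcov hTI hint hFne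
  have hK4 := card_Z_eq (Z := Z) hG hFne hco hnc'
  set g := Nat.card G with hg
  set z := Nat.card Z with hz
  set T := (That F Z).ncard with hT
  set C := (conjSet (That F Z)).ncard with hC
  set S := ∑ N ∈ F, (Nat.card (Cfsg.sigmaCore N) - 1) * N.index with hS
  set Sb := ∑ N ∈ F, (Nat.card ↥(Z ⊓ Cfsg.sigmaCore N) - 1) with hSb
  have hgpos : 0 < g := Nat.card_pos
  have hzpos : 0 < z := Nat.card_pos
  -- the per-member estimate
  have hper : ∀ N ∈ F, g * (2 * ((Nat.card ↥(Z ⊓ Cfsg.sigmaCore N) - 1) + 1)) ≤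
      2 * ((Nat.card (Cfsg.sigmaCore N) - 1) * N.index * z) + g := by
    intro N hN
    have hapos : 0 < Nat.card ↥(Z ⊓ Cfsg.sigmaCore N) := Nat.card_pos
    have hnpos : 0 < Nat.card (Cfsg.sigmaCore N) := Nat.card_pos
    obtain ⟨b, hb⟩ : ∃ b, Nat.card ↥(Z ⊓ Cfsg.sigmaCore N) = b + 1 := ⟨_, (Nat.succ_pred_eq_of_pos hapos).symm⟩
    obtain ⟨m, hm⟩ : ∃ m, Nat.card (Cfsg.sigmaCore N) = m + 1 := ⟨_, (Nat.succ_pred_eq_of_pos hnpos).symm⟩
    have hdvd : Nat.card ↥(Z ⊓ Cfsg.sigmaCore N) ∣ Nat.card (Cfsg.sigmaCore N) :=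
      Subgroup.card_dvd_of_le inf_le_right
    have hne : Nat.card ↥(Z ⊓ Cfsg.sigmaCore N) ≠ Nat.card (Cfsg.sigmaCore N) := by
      intro h
      exact hlt N hN (Subgroup.eq_of_le_of_card_ge inf_le_right h.ge)
    have h2a : 2 * Nat.card ↥(Z ⊓ Cfsg.sigmaCore N) ≤ Nat.card (Cfsg.sigmaCore N) := by
      obtain ⟨k, hk⟩ := hdvd
      have hk2 : 2 ≤ k := by
        rcases k with _ | _ | k
        · rw [hk] at hnpos; simp at hnpos
        · exact absurd (by rw [hk]; simp) hne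
        · omega
      rw [hk]; nlinarith
    have hidx : Nat.card N * N.index = g := Subgroup.card_mul_index N
    have hp1 := hP1 N hN
    have hkey : N.index * z * (m + 1) = g * (b + 1) := by
      rw [← hm, ← hb, ← hidx]
      have : Nat.card N * Nat.card ↥(Z ⊓ Cfsg.sigmaCore N) = Nat.card (Cfsg.sigmaCore N) * z := hp1
      nlinarith
    rw [hb, hm]
    simp only [Nat.add_sub_cancel]
    rw [hb, hm] at h2a
    apply Nat.le_of_mul_le_mul_right _ (show 0 < m + 1 by omega)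
    nlinarith
  have hsum : g * (2 * (Sb + F.card)) ≤ 2 * (z * S) + g * F.card := by
    have h1 := Finset.sum_le_sum hper
    have e1 : ∑ N ∈ F, g * (2 * ((Nat.card ↥(Z ⊓ Cfsg.sigmaCore N) - 1) + 1)) =
        g * (2 * (Sb + F.card)) := by
      rw [← Finset.mul_sum, ← Finset.mul_sum, Finset.sum_add_distrib, Finset.sum_const,
        smul_eq_mul, mul_one]
    have e2 : ∑ N ∈ F, (2 * ((Nat.card (Cfsg.sigmaCore N) - 1) * N.index * z) + g) =
        2 * (z * S) + g * F.card := by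
      rw [Finset.sum_add_distrib, ← Finset.mul_sum, ← Finset.sum_mul, Finset.sum_const,
        smul_eq_mul]
      ring
    rw [e1, e2] at h1
    exact h1
  -- assemble
  have hK5' : S + C + 1 ≤ g := by omega
  have h2' : 2 * (z * S) + 2 * (z * C) + 2 * z ≤ 2 * (z * g) := by nlinarith
  have h4' : z * g = T * g + g + Sb * g := by rw [hK4]; ring
  have h5 : 2 * g ≤ g * F.card := by nlinarith
  nlinarith

end Cfsg.Agent.Helper2.BG147K
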