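import Mathlib
import Cfsg.Prelude
import Cfsg.Agent.Helper2.BG147K1

set_option autoImplicit false

/-!
The set `Ẑ = K K* ∖ (K ∪ K*)` for two commuting subgroups meeting trivially: its cardinality and
the number of its conjugates when it is a TI-subset with normalizer `K K*`
(the shape of the last two clauses of S1434).
-/

namespace Cfsg.Agent.Helper2.BG147K

open scoped Pointwise

universe u

variable {G : Type u} [Group G]

section

variable {K Ks : Subgroup G} (hinf : K ⊓ Ks = ⊥) (hcomm : ∀ a ∈ K, ∀ b ∈ Ks, a * b = b * a)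

include hcomm in
theorem coe_sup_eq_mul : ((K ⊔ Ks : Subgroup G) : Set G) = (K : Set G) * (Ks : Set G) := by
  apply Subgroup.coe_mul_of_right_le_normalizer_left
  intro b hb
  rw [Subgroup.mem_normalizer_iff]
  intro a
  constructor
  · intro ha
    have : b * a * b⁻¹ = a := by rw [← hcomm a ha b hb]; group
    rw [this]; exact ha
  · intro ha
    have h1 := hcomm _ ha b hb
    have h2 : a = b * a * b⁻¹ := by
      calc a = b⁻¹ * (b * a * b⁻¹ * b) := by group
        _ = b⁻¹ * (b * (b * a * b⁻¹)) := by rw [h1]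
        _ = b * a * b⁻¹ := by group
    rw [h2]; exact ha

include hinf hcomm in
/-- `|K K*| = |K| |K*|`. -/
theorem card_sup_of_commute [Finite G] : Nat.card ↥(K ⊔ Ks) = Nat.card K * Nat.card Ks := by
  classical
  have h1 : Nat.card ↥(K ⊔ Ks) = ((K ⊔ Ks : Subgroup G) : Set G).ncard := rfl
  rw [h1, coe_sup_eq_mul hcomm, ← Nat.card_prod, ← Nat.card_coe_set_eq]
  symm
  let f : K × Ks → ((K : Set G) * (Ks : Set G) : Set G) := fun p =>
    ⟨(p.1 : G) * (p.2 : G), Set.mul_mem_mul p.1.2 p.2.2⟩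
  have hinj : Function.Injective f := by
    rintro ⟨⟨a, ha⟩, ⟨b, hb⟩⟩ ⟨⟨a', ha'⟩, ⟨b', hb'⟩⟩ h
    have h1 : a * b = a' * b' := by simpa [f] using congrArg Subtype.val h
    have h2 : a'⁻¹ * a = b' * b⁻¹ := by
      have : a'⁻¹ * a = a'⁻¹ * (a * b) * b⁻¹ := by group
      rw [this, h1]; group
    have h3 : a'⁻¹ * a ∈ K ⊓ Ks :=
      Subgroup.mem_inf.2 ⟨K.mul_mem (K.inv_mem ha') ha, h2 ▸ Ks.mul_mem hb' (Ks.inv_mem hb)⟩
    rw [hinf, Subgroup.mem_bot] at h3
    have h4 : a = a' := by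
      have : a = a' * (a'⁻¹ * a) := by group
      rw [this, h3, mul_one]
    subst h4
    have h5 : b = b' := mul_left_cancel h1
    subst h5
    rfl
  have hsurj : Function.Surjective f := by
    rintro ⟨x, hx⟩
    obtain ⟨a, ha, b, hb, rfl⟩ := Set.mem_mul.1 hx
    exact ⟨(⟨a, ha⟩, ⟨b, hb⟩), rfl⟩
  exact Nat.card_congr (Equiv.ofBijective f ⟨hinj, hsurj⟩)

/-- `Ẑ = K K* ∖ (K ∪ K*)`. -/
def Zhat (K Ks : Subgroup G) : Set G := ((K ⊔ Ks : Subgroup G) : Set G) \ ((K : Set G) ∪ (Ks : Set G))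

include hinf hcomm in
/-- `|Ẑ| + |K| + |K*| = |K| |K*| + 1`. -/
theorem ncard_Zhat_add [Finite G] :
    (Zhat K Ks).ncard + Nat.card K + Nat.card Ks = Nat.card K * Nat.card Ks + 1 := by
  classical
  have hsub : ((K : Set G) ∪ (Ks : Set G)) ⊆ ((K ⊔ Ks : Subgroup G) : Set G) := by
    rintro x (hx | hx)
    · exact Subgroup.mem_sup_left hx
    · exact Subgroup.mem_sup_right hx
  have h1 : (Zhat K Ks).ncard + ((K : Set G) ∪ (Ks : Set G)).ncard =
      ((K ⊔ Ks : Subgroup G) : Set G).ncard := Set.ncard_sdiff_add_ncard_of_subset hsub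
  have h2 : ((K : Set G) ∪ (Ks : Set G)).ncard + ((K : Set G) ∩ (Ks : Set G)).ncard =
      (K : Set G).ncard + (Ks : Set G).ncard := Set.ncard_union_add_ncard_inter _ _
  have h3 : ((K : Set G) ∩ (Ks : Set G)) = {1} := by
    ext x
    rw [Set.mem_inter_iff, Set.mem_singleton_iff, SetLike.mem_coe, SetLike.mem_coe,
      ← Subgroup.mem_inf, hinf, Subgroup.mem_bot]
  rw [h3, Set.ncard_singleton] at h2
  have h4 : ((K ⊔ Ks : Subgroup G) : Set G).ncard = Nat.card K * Nat.card Ks :=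
    card_sup_of_commute hinf hcomm
  have h5 : (K : Set G).ncard = Nat.card K := rfl
  have h6 : (Ks : Set G).ncard = Nat.card Ks := rfl
  omega

include hinf hcomm in
/-- `|Ẑ| = |K| |K*| − |K| − |K*| + 1`. -/
theorem ncard_Zhat [Finite G] (hK1 : K ≠ ⊥) (hKs1 : Ks ≠ ⊥) :
    (Zhat K Ks).ncard = Nat.card K * Nat.card Ks - Nat.card K - Nat.card Ks + 1 := by
  have h := ncard_Zhat_add hinf hcomm
  have hk : 0 < Nat.card K := Nat.card_pos
  have hks : 0 < Nat.card Ks := Nat.card_pos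
  have hk1 : Nat.card K ≠ 1 := fun h0 => hK1 (Subgroup.card_eq_one.1 h0)
  have hks1 : Nat.card Ks ≠ 1 := fun h0 => hKs1 (Subgroup.card_eq_one.1 h0)
  have h2 : Nat.card K + Nat.card Ks ≤ Nat.card K * Nat.card Ks := by
    have h3 : 2 ≤ Nat.card K := by omega
    have h4 : 2 ≤ Nat.card Ks := by omega
    nlinarith
  omega

include hcomm in
/-- `K K*` normalizes `Ẑ`. -/
theorem Zhat_normal {z w : G} (hz : z ∈ K ⊔ Ks) (hw : w ∈ Zhat K Ks) :
    z * w * z⁻¹ ∈ Zhat K Ks := by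
  obtain ⟨hwZ, hw'⟩ := hw
  refine ⟨(K ⊔ Ks).mul_mem ((K ⊔ Ks).mul_mem hz hwZ) ((K ⊔ Ks).inv_mem hz), ?_⟩
  have hz' : z ∈ (K : Set G) * (Ks : Set G) := by rw [← coe_sup_eq_mul hcomm]; exact hz
  obtain ⟨a, ha, b, hb, rfl⟩ := Set.mem_mul.1 hz'
  rintro (h | h)
  · apply hw'; left
    -- `w = (ab)⁻¹ (…) (ab)` and `K` is normalized by `a` and centralized by `b`
    have h1 : b * w * b⁻¹ ∈ K := by
      have : b * w * b⁻¹ = a⁻¹ * (a * b * w * (a * b)⁻¹) * a := by group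
      rw [this]; exact K.mul_mem (K.mul_mem (K.inv_mem ha) h) ha
    have h2 := hcomm _ h1 b hb
    have h3 : w = b * w * b⁻¹ := by
      calc w = b⁻¹ * (b * w * b⁻¹ * b) := by group
        _ = b⁻¹ * (b * (b * w * b⁻¹)) := by rw [h2]
        _ = b * w * b⁻¹ := by group
    rw [SetLike.mem_coe, h3]; exact h1
  · apply hw'; right
    have h1 : a⁻¹ * (a * b * w * (a * b)⁻¹) * a ∈ Ks := by
      have e : a⁻¹ * (a * b * w * (a * b)⁻¹) * a = (a * b * w * (a * b)⁻¹) := by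
        have h2 := hcomm a⁻¹ (K.inv_mem ha) _ h
        calc a⁻¹ * (a * b * w * (a * b)⁻¹) * a = (a * b * w * (a * b)⁻¹) * a⁻¹ * a := by rw [h2]
          _ = _ := by group
      rw [e]; exact h
    have h2 : b * w * b⁻¹ ∈ Ks := by
      have : b * w * b⁻¹ = a⁻¹ * (a * b * w * (a * b)⁻¹) * a := by group
      rw [this]; exact h1
    have : w = b⁻¹ * (b * w * b⁻¹) * b := by group
    rw [SetLike.mem_coe, this]
    exact Ks.mul_mem (Ks.mul_mem (Ks.inv_mem hb) h2) hb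

include hinf hcomm in
/-- the number of conjugates of `Ẑ` when it is TI with normalizer `K K*` (the shape of S1434). -/
theorem card_mul_ncard_conj_Zhat [Finite G] (hK1 : K ≠ ⊥) (hKs1 : Ks ≠ ⊥)
    (hTI : ∀ z ∈ Zhat K Ks, ∀ g : G, g * z * g⁻¹ ∈ K ⊔ Ks → g ∈ K ⊔ Ks) :
    Nat.card K * Nat.card Ks *
      Set.ncard {a : G | ∃ g : G, ∃ z ∈ Zhat K Ks, a = g * z * g⁻¹} =
      (Nat.card K * Nat.card Ks - Nat.card K - Nat.card Ks + 1) * Nat.card G := by
  have h := card_mul_ncard_conjSet (Zhat K Ks) (K ⊔ Ks)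
    (fun w hw g hg => hTI w hw g hg.1) (fun z hz w hw => Zhat_normal hcomm hz hw)
  rw [card_sup_of_commute hinf hcomm, ncard_Zhat hinf hcomm hK1 hKs1] at h
  exact h

include hinf hcomm in
/-- more than half of the elements of `G` are conjugate to elements of `Ẑ`. -/
theorem card_lt_two_mul_ncard_conj_Zhat [Finite G]
    (hTI : ∀ z ∈ Zhat K Ks, ∀ g : G, g * z * g⁻¹ ∈ K ⊔ Ks → g ∈ K ⊔ Ks)
    (hodd : Odd (Nat.card G)) (hK1 : K ≠ ⊥) (hKs1 : Ks ≠ ⊥)
    (hcop : (Nat.card K).Coprime (Nat.card Ks)) :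
    Nat.card G < 2 * Set.ncard {a : G | ∃ g : G, ∃ z ∈ Zhat K Ks, a = g * z * g⁻¹} := by
  have h := card_mul_ncard_conj_Zhat hinf hcomm hK1 hKs1 hTI
  have hadd := ncard_Zhat_add hinf hcomm
  rw [← ncard_Zhat hinf hcomm hK1 hKs1] at h
  set C := Set.ncard {a : G | ∃ g : G, ∃ z ∈ Zhat K Ks, a = g * z * g⁻¹} with hC
  set k := Nat.card K with hk
  set ks := Nat.card Ks with hks
  set g := Nat.card G with hg
  set T := (Zhat K Ks).ncard with hT
  have hgpos : 0 < g := Nat.card_pos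
  have hkodd : Odd k := Odd.of_dvd_nat hodd (Subgroup.card_subgroup_dvd_card K)
  have hksodd : Odd ks := Odd.of_dvd_nat hodd (Subgroup.card_subgroup_dvd_card Ks)
  have hk1 : k ≠ 1 := fun h0 => hK1 (Subgroup.card_eq_one.1 h0)
  have hks1 : ks ≠ 1 := fun h0 => hKs1 (Subgroup.card_eq_one.1 h0)
  have hkpos : 0 < k := Nat.card_pos
  have hkspos : 0 < ks := Nat.card_pos
  have hk3 : 3 ≤ k := by
    obtain ⟨m, hm⟩ := hkodd
    omega
  have hks3 : 3 ≤ ks := by
    obtain ⟨m, hm⟩ := hksodd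
    omega
  have hne : k ≠ ks := by
    intro h0
    rw [h0, Nat.coprime_self] at hcop
    exact hks1 hcop
  -- one of them is at least 5
  have h5 : 5 ≤ k ∨ 5 ≤ ks := by
    obtain ⟨m, hm⟩ := hkodd
    obtain ⟨m', hm'⟩ := hksodd
    omega
  -- `2 T > k ks`
  have hT2 : k * ks < 2 * T := by
    have : 2 * T + 2 * k + 2 * ks = 2 * (k * ks) + 2 := by omega
    rcases h5 with h5 | h5
    · nlinarith
    · nlinarith
  by_contra hcon
  push_neg at hcon
  have h1 : k * ks * (2 * C) ≤ k * ks * g := Nat.mul_le_mul_left _ hcon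
  have h2 : k * ks * (2 * C) = 2 * T * g := by
    calc k * ks * (2 * C) = 2 * (k * ks * C) := by ring
      _ = 2 * (T * g) := by rw [h]
      _ = 2 * T * g := by ring
  rw [h2] at h1
  have h3 : k * ks * g < 2 * T * g := Nat.mul_lt_mul_of_pos_right hT2 hgpos
  omega

end

end Cfsg.Agent.Helper2.BG147K
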