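import Mathlib
import Cfsg.Prelude
import Cfsg.Agent.Helper2.BG147K2
import Cfsg.Agent.Helper3.CoprimeHall
import Cfsg.Agent.Helper1.TypeP
import Cfsg.Agent.S1425
import Cfsg.Agent.S1432

set_option autoImplicit false

/-!
Bender–Glauberman, the covering theorem (14.6-type): every non-identity element of `G` lies in some
`M̃`, or is conjugate to a product `k y` with `k ∈ K^#`, `y ∈ K*^#` for a Hall `κ(N)`-subgroup `K`
of some maximal subgroup `N`.
-/

namespace Cfsg.Agent.Helper2.BG148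

open Cfsg
open scoped Pointwise
open Cfsg.Agent.Helper2.BG144 Cfsg.Agent.Helper2.BG147K

universe u

variable {G : Type u} [Group G] [Finite G]

/-- In a solvable subgroup, every `π`-subgroup lies in a Hall `π`-subgroup. -/
theorem exists_hall_ge {L : Subgroup G} (hsolv : Group.IsSolvable ↥L) (π : Set ℕ)
    {Y : Subgroup G} (hYL : Y ≤ L) (hYπ : ∀ p : ℕ, p.Prime → p ∣ Nat.card Y → p ∈ π) :
    ∃ H : Subgroup G, Cfsg.IsPiHallOf π H L ∧ Y ≤ H := by
  obtain ⟨m, n, hd⟩ := Cfsg.Agent.Helper3.exists_piDecomp π (Nat.card L) Nat.card_pos.ne'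
  obtain ⟨-, hD⟩ := Cfsg.Agent.Helper3.hall_internal L hsolv hd
  have hcop : (Nat.card Y).Coprime n :=
    Nat.coprime_of_dvd fun k hk h1 h2 => hd.right k hk h2 (hYπ k hk h1)
  obtain ⟨H, hHL, hHm, hYH⟩ := hD Y hYL hcop
  exact ⟨H, (Cfsg.Agent.Helper3.isPiHallOf_iff_card hd).2 ⟨hHL, hHm⟩, hYH⟩

/-- In a solvable subgroup, every `π`-subgroup lies in a conjugate of a given Hall
`π`-subgroup. -/
theorem exists_conj_hall_ge {L : Subgroup G} (hsolv : Group.IsSolvable ↥L) {π : Set ℕ}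
    {H : Subgroup G} (hH : Cfsg.IsPiHallOf π H L)
    {Y : Subgroup G} (hYL : Y ≤ L) (hYπ : ∀ p : ℕ, p.Prime → p ∣ Nat.card Y → p ∈ π) :
    ∃ g ∈ L, Y ≤ H.map (MulAut.conj g).toMonoidHom := by
  obtain ⟨m, n, hd⟩ := Cfsg.Agent.Helper3.exists_piDecomp π (Nat.card L) Nat.card_pos.ne'
  obtain ⟨hC, hD⟩ := Cfsg.Agent.Helper3.hall_internal L hsolv hd
  have hcop : (Nat.card Y).Coprime n :=
    Nat.coprime_of_dvd fun k hk h1 h2 => hd.right k hk h2 (hYπ k hk h1)
  obtain ⟨H', hH'L, hH'm, hYH'⟩ := hD Y hYL hcop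
  obtain ⟨hHL, hHm⟩ := (Cfsg.Agent.Helper3.isPiHallOf_iff_card hd).1 hH
  obtain ⟨g, hg, hgH⟩ := hC H H' hHL hH'L hHm hH'm
  refine ⟨g, hg, ?_⟩
  have : H.map (MulAut.conj g).toMonoidHom = H' := by
    rw [← hgH]; rfl
  rw [this]; exact hYH'

omit [Finite G] in
/-- the `π`-decomposition of an element of finite order -/
theorem exists_pi_decomp (π : Set ℕ) (g : G) (hg : 0 < orderOf g) :
    ∃ a b : G, a ∈ Subgroup.zpowers g ∧ b ∈ Subgroup.zpowers g ∧ g = a * b ∧
      (∀ p : ℕ, p.Prime → p ∣ orderOf a → p ∈ π) ∧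
      (∀ p : ℕ, p.Prime → p ∣ orderOf b → p ∉ π) := by
  obtain ⟨m, k, hd⟩ := Cfsg.Agent.Helper3.exists_piDecomp π (orderOf g) hg.ne'
  have hcop : m.Coprime k := hd.coprime
  have hbez : (1 : ℤ) = m * Nat.gcdA m k + k * Nat.gcdB m k := by
    have := Nat.gcd_eq_gcd_ab m k
    rw [hcop] at this
    exact_mod_cast this
  refine ⟨g ^ ((k : ℤ) * Nat.gcdB m k), g ^ ((m : ℤ) * Nat.gcdA m k),
    Subgroup.zpow_mem_zpowers g _, Subgroup.zpow_mem_zpowers g _, ?_, ?_, ?_⟩
  · rw [← zpow_add, add_comm, ← hbez, zpow_one]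
  · intro p hp hpd
    apply hd.left p hp
    apply hpd.trans
    apply orderOf_dvd_of_pow_eq_one
    rw [← zpow_natCast, ← zpow_mul]
    have : (k : ℤ) * Nat.gcdB m k * (m : ℤ) = ((orderOf g : ℕ) : ℤ) * Nat.gcdB m k := by
      rw [hd.eq]; push_cast; ring
    rw [this, zpow_mul, zpow_natCast, pow_orderOf_eq_one, one_zpow]
  · intro p hp hpd
    apply hd.right p hp
    apply hpd.trans
    apply orderOf_dvd_of_pow_eq_one
    rw [← zpow_natCast, ← zpow_mul]
    have : (m : ℤ) * Nat.gcdA m k * (k : ℤ) = ((orderOf g : ℕ) : ℤ) * Nat.gcdA m k := by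
      rw [hd.eq]; push_cast; ring
    rw [this, zpow_mul, zpow_natCast, pow_orderOf_eq_one, one_zpow]

omit [Finite G] in
theorem conj_orderOf' (g y : G) : orderOf (g * y * g⁻¹) = orderOf y := by
  have := (MulAut.conj g).orderOf_eq y
  rwa [MulAut.conj_apply] at this

omit [Finite G] in
theorem commute_of_mem_zpowers {g a c : G} (ha : a ∈ Subgroup.zpowers g) (hc : Commute c g) :
    Commute c a := by
  obtain ⟨n, rfl⟩ := Subgroup.mem_zpowers_iff.1 ha
  exact hc.zpow_right n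

omit [Finite G] in
theorem ne_one_of_prime_dvd {x : G} {p : ℕ} (hp : p.Prime) (hd : p ∣ orderOf x) : x ≠ 1 := by
  intro h
  rw [h, orderOf_one] at hd
  exact hp.one_lt.ne' (Nat.dvd_one.1 hd)

omit [Finite G] in
theorem exists_prime_dvd_orderOf {x : G} (hx : x ≠ 1) : ∃ p : ℕ, p.Prime ∧ p ∣ orderOf x :=
  Nat.exists_prime_and_dvd (fun h0 => hx (orderOf_eq_one_iff.1 h0))

/-- The shape of an element of `M̃`. -/
theorem mem_tilde_of {L : Subgroup G} {a r y : G} (ha : a ∈ Cfsg.sigmaCore L)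
    (ha1 : a ≠ 1) (hr : r ∈ Cfsg.supportR L a) :
    y * (a * r) * y⁻¹ ∈ Cfsg.tildeOf L ((Cfsg.sigmaCore L : Set G) \ {1}) :=
  ⟨a, ⟨ha, ha1⟩, r, hr, y, rfl⟩

/-- If `t ≠ 1` commutes with `x ∈ N_σ^#`, all primes of `o(t)` lie in `σ(L)` for one maximal
subgroup `L` but not in `σ(N)`, and `N` is the unique maximal subgroup containing `C_G(t)`,
then some conjugate `L'` of `L` has `t ∈ L'_σ` and `x ∈ R(t)` (relative to `L'`). -/
theorem exists_support_of_uniq (hG : Cfsg.IsMinSimpleOddOrder G) {N : Subgroup G}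
    (hN : IsCoatom N) {x t : G} (hx : x ∈ Cfsg.sigmaCore N) (ht1 : t ≠ 1)
    (hxt : Commute x t)
    (hσN : ∀ p : ℕ, p.Prime → p ∣ orderOf t → p ∉ Cfsg.sigma N)
    (hL : ∃ L : Subgroup G, IsCoatom L ∧ ∀ p : ℕ, p.Prime → p ∣ orderOf t → p ∈ Cfsg.sigma L)
    (huniq : Subgroup.centralizer ({t} : Set G) ≤ N ∧ ∀ L : Subgroup G, IsCoatom L →
      Subgroup.centralizer ({t} : Set G) ≤ L → L = N) :
    ∃ L' : Subgroup G, IsCoatom L' ∧ t ∈ Cfsg.sigmaCore L' ∧ x ∈ Cfsg.supportR L' t := by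
  obtain ⟨L, hLco, hLσ⟩ := hL
  have hY1 : Subgroup.zpowers t ≠ ⊥ := by
    intro h
    exact ht1 (Subgroup.zpowers_eq_bot.1 h)
  obtain ⟨h, hh⟩ := Cfsg.Agent.S1425.result hG L hLco (Subgroup.zpowers t) hY1
    (fun p hp hd => hLσ p hp (by rwa [Nat.card_zpowers] at hd))
  have hht : h * t * h⁻¹ ∈ Cfsg.sigmaCore L := hh ⟨t, Subgroup.mem_zpowers t, rfl⟩
  -- `L' = L^{h⁻¹}`
  have hL' := isCoatom_map_conj hLco h⁻¹
  have htL' : t ∈ Cfsg.sigmaCore (L.map (MulAut.conj h⁻¹).toMonoidHom) := by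
    rw [sigmaCore_map_conj hG hLco h⁻¹, mem_map_conj_iff]
    exact ⟨h * t * h⁻¹, hht, by group⟩
  have hne : L.map (MulAut.conj h⁻¹).toMonoidHom ≠ N := by
    intro h0
    obtain ⟨p, hp, hpd⟩ := exists_prime_dvd_orderOf ht1
    apply hσN p hp hpd
    rw [← h0]
    exact Cfsg.Agent.Lead.BG12.mem_sigma_of_dvd_card_sigmaCore hp
      (prime_dvd_orderOf_mem htL' hpd)
  have hbad : ¬ Subgroup.centralizer ({t} : Set G) ≤ L.map (MulAut.conj h⁻¹).toMonoidHom :=
    fun h0 => hne (huniq.2 _ hL' h0)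
  obtain ⟨N', d⟩ := exists_badData hG hL' htL' ht1 hbad
  have hN' : N' = N := huniq.2 N' d.coatom d.cent_le
  subst hN'
  refine ⟨_, hL', htL', ?_⟩
  rw [supportR_eq hG hL' htL' ht1 hbad d]
  refine Subgroup.mem_inf.2 ⟨hx, ?_⟩
  rw [Subgroup.mem_centralizer_singleton_iff]
  exact hxt.eq

/-- The two possible conclusions of the covering theorem, for an element `g`. -/
def Covered (g : G) : Prop :=
  (∃ N : Subgroup G, IsCoatom N ∧ g ∈ Cfsg.tildeOf N ((Cfsg.sigmaCore N : Set G) \ {1})) ∨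
  (∃ N KN : Subgroup G, IsCoatom N ∧ Cfsg.IsPiHallOf (Cfsg.kappa N) KN N ∧
    ∃ h : G, ∃ k ∈ KN, k ≠ 1 ∧
      ∃ y ∈ Cfsg.sigmaCore N ⊓ Subgroup.centralizer (KN : Set G), y ≠ 1 ∧ g = h * (k * y) * h⁻¹)

omit [Finite G] in
theorem Covered.conj {g : G} (h : Covered g) (c : G) : Covered (c * g * c⁻¹) := by
  rcases h with ⟨N, hN, a, ha, r, hr, y, hy⟩ | ⟨N, KN, hN, hKN, h, k, hk, hk1, y, hy, hy1, hg⟩
  · left
    refine ⟨N, hN, a, ha, r, hr, c * y, ?_⟩
    rw [hy]; group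
  · right
    refine ⟨N, KN, hN, hKN, c * h, k, hk, hk1, y, hy, hy1, ?_⟩
    rw [hg]; group

/-- The covering theorem for `g = x g'` with `x ∈ N_σ^#` and `g'` a `σ(N)'`-element
commuting with `x`. -/
theorem cover_aux (hG : Cfsg.IsMinSimpleOddOrder G) {N : Subgroup G} (hN : IsCoatom N)
    {x g' : G} (hx : x ∈ Cfsg.sigmaCore N) (hx1 : x ≠ 1) (hxg : Commute x g')
    (hσ : ∀ p : ℕ, p.Prime → p ∣ orderOf g' → p ∉ Cfsg.sigma N) : Covered (x * g') := by
  classical
  have hg'C : g' ∈ Subgroup.centralizer ({x} : Set G) := by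
    rw [Subgroup.mem_centralizer_singleton_iff]; exact hxg.eq.symm
  by_cases hbad : Subgroup.centralizer ({x} : Set G) ≤ N
  · -- Case A
    by_cases hg'1 : g' = 1
    · left
      refine ⟨N, hN, x, ⟨hx, hx1⟩, 1, Subgroup.one_mem _, 1, ?_⟩
      rw [hg'1]; group
    · have hg'N : g' ∈ N ⊓ Subgroup.centralizer ({x} : Set G) :=
        Subgroup.mem_inf.2 ⟨hbad hg'C, hg'C⟩
      rcases Cfsg.Agent.S1432.result hG N hN x hx hx1 g' hg'N hg'1 hσ with
        ⟨hκ, -⟩ | ⟨-, hL, huniq⟩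
      · -- `κ`-type
        right
        have hsolv : Group.IsSolvable ↥N := hG.2.2.2 N hN.1
        obtain ⟨KN, hKN, hle⟩ := exists_hall_ge hsolv (Cfsg.kappa N)
          (Subgroup.zpowers_le.2 (hbad hg'C))
          (fun p hp hd => hκ p hp (by rwa [Nat.card_zpowers] at hd))
        have hg'K : g' ∈ KN := hle (Subgroup.mem_zpowers g')
        have hKN1 : KN ≠ ⊥ := by
          intro h0
          rw [h0, Subgroup.mem_bot] at hg'K
          exact hg'1 hg'K
        have hsemi := (Cfsg.Agent.S1430.result hG N hN KN hKN hKN1).1 g' hg'K hg'1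
        refine ⟨N, KN, hN, hKN, 1, g', hg'K, hg'1, x, ?_, hx1, ?_⟩
        · rw [← hsemi]
          refine Subgroup.mem_inf.2 ⟨hx, ?_⟩
          rw [Subgroup.mem_centralizer_singleton_iff]; exact hxg.eq
        · rw [hxg.eq]; group
      · -- `τ₂`-type
        left
        obtain ⟨L', hL', htL', hxR⟩ := exists_support_of_uniq hG hN hx hg'1 hxg hσ hL huniq
        refine ⟨L', hL', g', ⟨htL', hg'1⟩, x, hxR, 1, ?_⟩
        rw [hxg.eq]; group
  · -- Case B
    obtain ⟨L, d⟩ := exists_badData hG hN hx hx1 hbad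
    have hxN : x ∈ N := Cfsg.Agent.Lead.BG12.sigmaCore_le hx
    have hLN : ∀ p : ℕ, p ∈ Cfsg.sigma L → p ∉ Cfsg.sigma N := by
      intro p hpL hpN
      obtain ⟨u, hu⟩ := (Cfsg.Agent.S1378.result hG).2 N L hN d.coatom ⟨p, hpN, hpL⟩
      exact d.not_conj u hu
    obtain ⟨r, t, hr, ht, hrt, hrσ, htσ⟩ :=
      exists_pi_decomp (Cfsg.sigma L) g' (orderOf_pos g')
    have hxr : Commute x r := commute_of_mem_zpowers hr hxg
    have hxt : Commute x t := commute_of_mem_zpowers ht hxg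
    have hrt' : Commute r t := by
      obtain ⟨n, rfl⟩ := Subgroup.mem_zpowers_iff.1 hr
      obtain ⟨n', rfl⟩ := Subgroup.mem_zpowers_iff.1 ht
      exact (Commute.refl g').zpow_zpow n n'
    have hrC : r ∈ Subgroup.centralizer ({x} : Set G) := by
      rw [Subgroup.mem_centralizer_singleton_iff]; exact hxr.eq.symm
    have htC : t ∈ Subgroup.centralizer ({x} : Set G) := by
      rw [Subgroup.mem_centralizer_singleton_iff]; exact hxt.eq.symm
    have hrL : r ∈ Cfsg.sigmaCore L :=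
      mem_sigmaCore_of_primes hG d.coatom (d.cent_le hrC) hrσ
    have hrR : r ∈ Cfsg.supportR N x := by
      rw [supportR_eq hG hN hx hx1 hbad d]
      exact Subgroup.mem_inf.2 ⟨hrL, hrC⟩
    have htσN : ∀ p : ℕ, p.Prime → p ∣ orderOf t → p ∉ Cfsg.sigma N := by
      intro p hp hd
      apply hσ p hp
      exact hd.trans (orderOf_dvd_of_mem_zpowers ht)
    by_cases ht1 : t = 1
    · left
      refine ⟨N, hN, x, ⟨hx, hx1⟩, r, hrR, 1, ?_⟩
      rw [hrt, ht1]; group
    · -- conjugate `t` into `N ∩ C(x)`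
      obtain ⟨-, hcompl, -⟩ := cent_structure_of_badData hxN d
      set C := Subgroup.centralizer ({x} : Set G) with hC
      have hCL : C ≤ L := d.cent_le
      have hsolvL : Group.IsSolvable ↥L := hG.2.2.2 L d.coatom.1
      have hsolvC : Group.IsSolvable ↥C :=
        Group.isSolvable_of_isSolvable_injective (Subgroup.inclusion_injective hCL)
      have hcard := Cfsg.Agent.Helper1.IsComplIn_card_mul hcompl
      have hcardL := Cfsg.Agent.Helper1.IsComplIn_card_mul d.compl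
      -- `N ∩ C` is a Hall `σ(L)'`-subgroup of `C`
      have hHall : Cfsg.IsPiHallOf {p | p.Prime ∧ p ∉ Cfsg.sigma L} (N ⊓ C) C := by
        refine ⟨inf_le_right, ?_, ?_⟩
        · intro p hp hd
          refine ⟨hp, fun hpL => ?_⟩
          have h1 : p ∣ Nat.card ↥(N ⊓ L) :=
            hd.trans (Subgroup.card_dvd_of_le (inf_le_inf_left N hCL))
          have h2 := Cfsg.Agent.Helper1.relIndex_mul_card_of_le
            (Cfsg.Agent.Lead.BG12.sigmaCore_le (M := L))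
          have h3 : (Cfsg.sigmaCore L).relIndex L = Nat.card ↥(N ⊓ L) := by
            have : (Cfsg.sigmaCore L).relIndex L * Nat.card (Cfsg.sigmaCore L) =
                Nat.card ↥(N ⊓ L) * Nat.card (Cfsg.sigmaCore L) := by rw [h2, hcardL]
            exact Nat.eq_of_mul_eq_mul_right Nat.card_pos this
          exact Cfsg.Agent.Lead.BG12.not_dvd_relIndex_sigmaCore hG d.coatom hp hpL (h3 ▸ h1)
        · rintro p hp ⟨-, hpL⟩ hd
          have h2 := Cfsg.Agent.Helper1.relIndex_mul_card_of_le (inf_le_right : N ⊓ C ≤ C)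
          have h3 : (N ⊓ C).relIndex C = Nat.card ↥(Cfsg.sigmaCore L ⊓ C) := by
            have : (N ⊓ C).relIndex C * Nat.card ↥(N ⊓ C) =
                Nat.card ↥(Cfsg.sigmaCore L ⊓ C) * Nat.card ↥(N ⊓ C) := by
              rw [h2, ← hcard]; ring
            exact Nat.eq_of_mul_eq_mul_right Nat.card_pos this
          rw [h3] at hd
          exact hpL (Cfsg.Agent.Lead.BG12.mem_sigma_of_dvd_card_sigmaCore hp
            (hd.trans (Subgroup.card_dvd_of_le inf_le_left)))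
      obtain ⟨c, hc, hle⟩ := exists_conj_hall_ge hsolvC hHall (Subgroup.zpowers_le.2 htC)
        (fun p hp hd => ⟨hp, htσ p hp (by rwa [Nat.card_zpowers] at hd)⟩)
      have htc := hle (Subgroup.mem_zpowers t)
      rw [mem_map_conj_iff] at htc
      obtain ⟨t', ht', ht'eq⟩ := htc
      -- conjugate everything by `c⁻¹`
      have hcx : c⁻¹ * x * c⁻¹⁻¹ = x := by
        have h1 : c * x = x * c := (Subgroup.mem_centralizer_singleton_iff.1 hc)
        have : c⁻¹ * x * c⁻¹⁻¹ = c⁻¹ * (x * c) := by group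
        rw [this, ← h1]; group
      have ht'eq' : c⁻¹ * t * c⁻¹⁻¹ = t' := by rw [← ht'eq]; group
      have hconj : c⁻¹ * (x * g') * c⁻¹⁻¹ = x * ((c⁻¹ * r * c⁻¹⁻¹) * t') := by
        have e0 : c⁻¹ * (x * (r * t)) * c⁻¹⁻¹ =
            (c⁻¹ * x * c⁻¹⁻¹) * ((c⁻¹ * r * c⁻¹⁻¹) * (c⁻¹ * t * c⁻¹⁻¹)) := by group
        rw [hrt, e0, hcx, ht'eq']
      suffices hcov : Covered (x * ((c⁻¹ * r * c⁻¹⁻¹) * t')) by
        have := (hconj ▸ hcov : Covered (c⁻¹ * (x * g') * c⁻¹⁻¹)).conj c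
        have e : c * (c⁻¹ * (x * g') * c⁻¹⁻¹) * c⁻¹ = x * g' := by group
        rwa [e] at this
      set r' := c⁻¹ * r * c⁻¹⁻¹ with hr'
      have ht'1 : t' ≠ 1 := by
        intro h0
        apply ht1
        have : t = c * t' * c⁻¹ := ht'eq.symm
        rw [this, h0]; group
      have hot' : orderOf t' = orderOf t := by
        rw [← ht'eq']
        exact conj_orderOf' c⁻¹ t
      have hxt' : Commute x t' := by
        have := (Subgroup.mem_inf.1 ht').2
        rw [Subgroup.mem_centralizer_singleton_iff] at this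
        exact this.symm
      have hxr' : Commute x r' := by
        have h1 : Commute (c⁻¹ * x * c⁻¹⁻¹) (c⁻¹ * r * c⁻¹⁻¹) := by
          unfold Commute SemiconjBy
          have e1 : c⁻¹ * x * c⁻¹⁻¹ * (c⁻¹ * r * c⁻¹⁻¹) = c⁻¹ * (x * r) * c⁻¹⁻¹ := by group
          have e2 : c⁻¹ * r * c⁻¹⁻¹ * (c⁻¹ * x * c⁻¹⁻¹) = c⁻¹ * (r * x) * c⁻¹⁻¹ := by group
          rw [e1, e2, hxr.eq]
        rwa [hcx] at h1
      have hr't' : Commute r' t' := by
        rw [← ht'eq']
        unfold Commute SemiconjBy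
        have e1 : r' * (c⁻¹ * t * c⁻¹⁻¹) = c⁻¹ * (r * t) * c⁻¹⁻¹ := by rw [hr']; group
        have e2 : c⁻¹ * t * c⁻¹⁻¹ * r' = c⁻¹ * (t * r) * c⁻¹⁻¹ := by rw [hr']; group
        rw [e1, e2, hrt'.eq]
      -- S1432 for `t'`
      have ht'σN : ∀ p : ℕ, p.Prime → p ∣ orderOf t' → p ∉ Cfsg.sigma N := by
        intro p hp hd; rw [hot'] at hd; exact htσN p hp hd
      rcases Cfsg.Agent.S1432.result hG N hN x hx hx1 t' ht' ht'1 ht'σN with
        ⟨-, h0⟩ | ⟨-, hL2, huniq2⟩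
      · exact absurd h0 hbad
      · obtain ⟨L', hL', htL', hxR⟩ :=
          exists_support_of_uniq hG hN hx ht'1 hxt' ht'σN hL2 huniq2
        -- `r' = 1`
        have hr'1 : r' = 1 := by
          by_contra hr'1
          have hcL : c⁻¹ ∈ L := L.inv_mem (hCL hc)
          have hr'L : r' ∈ Cfsg.sigmaCore L :=
            (Subgroup.mem_normalizer_iff.1
              (Cfsg.Agent.Lead.BG12.le_normalizer_sigmaCore L hcL) r).1 hrL
          have hr'N : r' ∈ N := by
            apply huniq2.1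
            rw [Subgroup.mem_centralizer_singleton_iff]
            exact hr't'.eq
          have hr'C : r' ∈ N ⊓ Subgroup.centralizer ({x} : Set G) := by
            refine Subgroup.mem_inf.2 ⟨hr'N, ?_⟩
            rw [Subgroup.mem_centralizer_singleton_iff]; exact hxr'.eq.symm
          have hr'σN : ∀ p : ℕ, p.Prime → p ∣ orderOf r' → p ∉ Cfsg.sigma N := by
            intro p hp hd
            exact hLN p (Cfsg.Agent.Lead.BG12.mem_sigma_of_dvd_card_sigmaCore hp
              (prime_dvd_orderOf_mem hr'L hd))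
          rcases Cfsg.Agent.S1432.result hG N hN x hx hx1 r' hr'C hr'1 hr'σN with
            ⟨-, h0⟩ | ⟨-, -, huniq3⟩
          · exact hbad h0
          · have hbad3 : ¬ Subgroup.centralizer ({r'} : Set G) ≤ L := by
              intro h0
              apply d.not_conj 1
              rw [Cfsg.Agent.Helper2.BG144.map_conj_one]
              exact huniq3.2 L d.coatom h0
            obtain ⟨N'', d'⟩ := exists_badData hG d.coatom hr'L hr'1 hbad3
            have hN'' : N'' = N := huniq3.2 N'' d'.coatom d'.cent_le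
            subst hN''
            have hxL : x ∈ L := d.cent_le (by
              rw [Subgroup.mem_centralizer_singleton_iff])
            have : x ∈ Cfsg.sigmaCore N'' ⊓ L := Subgroup.mem_inf.2 ⟨hx, hxL⟩
            rw [d'.inf_bot, Subgroup.mem_bot] at this
            exact hx1 this
        left
        refine ⟨L', hL', t', ⟨htL', ht'1⟩, x, hxR, 1, ?_⟩
        rw [hr'1, one_mul, hxt'.eq]; group

/-- **The covering theorem.** -/
theorem cover (hG : Cfsg.IsMinSimpleOddOrder G) {g : G} (hg1 : g ≠ 1) : Covered g := by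
  obtain ⟨q, hq, hqd⟩ := exists_prime_dvd_orderOf hg1
  obtain ⟨N, hN, hqN⟩ := (Cfsg.Agent.S1378.result hG).1 q hq
    (hqd.trans (orderOf_dvd_natCard g))
  obtain ⟨x, g', hx, hg', hxg, hxσ, hg'σ⟩ := exists_pi_decomp (Cfsg.sigma N) g (orderOf_pos g)
  have hx1 : x ≠ 1 := by
    intro h0
    rw [h0, one_mul] at hxg
    rw [← hxg] at hg'σ
    exact hg'σ q hq hqd hqN
  have hcomm : Commute x g' := by
    obtain ⟨n, rfl⟩ := Subgroup.mem_zpowers_iff.1 hx
    obtain ⟨n', rfl⟩ := Subgroup.mem_zpowers_iff.1 hg'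
    exact (Commute.refl g).zpow_zpow n n'
  have hY1 : Subgroup.zpowers x ≠ ⊥ := fun h => hx1 (Subgroup.zpowers_eq_bot.1 h)
  obtain ⟨h, hh⟩ := Cfsg.Agent.S1425.result hG N hN (Subgroup.zpowers x) hY1
    (fun p hp hd => hxσ p hp (by rwa [Nat.card_zpowers] at hd))
  have hhx : h * x * h⁻¹ ∈ Cfsg.sigmaCore N := hh ⟨x, Subgroup.mem_zpowers x, rfl⟩
  have hhx1 : h * x * h⁻¹ ≠ 1 := by
    intro h0
    apply hx1
    have : x = h⁻¹ * (h * x * h⁻¹) * h := by group
    rw [this, h0]; group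
  have hcomm' : Commute (h * x * h⁻¹) (h * g' * h⁻¹) := by
    unfold Commute SemiconjBy
    have e1 : h * x * h⁻¹ * (h * g' * h⁻¹) = h * (x * g') * h⁻¹ := by group
    have e2 : h * g' * h⁻¹ * (h * x * h⁻¹) = h * (g' * x) * h⁻¹ := by group
    rw [e1, e2, hcomm.eq]
  have hσ' : ∀ p : ℕ, p.Prime → p ∣ orderOf (h * g' * h⁻¹) → p ∉ Cfsg.sigma N := by
    intro p hp hd
    rw [conj_orderOf'] at hd
    exact hg'σ p hp hd
  have hcov := cover_aux hG hN hhx hhx1 hcomm' hσ'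
  have e : h * x * h⁻¹ * (h * g' * h⁻¹) = h * g * h⁻¹ := by rw [hxg]; group
  rw [e] at hcov
  have := hcov.conj h⁻¹
  have e2 : h⁻¹ * (h * g * h⁻¹) * h⁻¹⁻¹ = g := by group
  rwa [e2] at this

end Cfsg.Agent.Helper2.BG148
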