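import Mathlib
import Cfsg.Prelude
import Cfsg.Agent.Helper2.BG148a
import Cfsg.Agent.Helper2.BG147K3
import Cfsg.Agent.Helper2.BG147K4
import Cfsg.Agent.Helper1.BG147g
import Cfsg.Agent.Helper4.BG147H

set_option autoImplicit false

/-!
Bender–Glauberman 14.7(e),(f) / 14.8: the families `{M, M*}`, the set `Ẑ`, and the fact that the
second alternative of the covering theorem lands in a conjugate of `Ẑ`.
-/

namespace Cfsg.Agent.Helper2.BG148

open Cfsg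
open scoped Pointwise
open Cfsg.Agent.Helper2.BG144 Cfsg.Agent.Helper2.BG147K Cfsg.Agent.Helper1.BG147

universe u

variable {G : Type u} [Group G] [Finite G]

/-- helper1's counting hypothesis holds. -/
theorem countKill (hG : Cfsg.IsMinSimpleOddOrder G) : CountKill G :=
  fun F Z => count_kill hG F Z

/-- The family data of a pair `(M, K)`. -/
structure Fam (M K Ms : Subgroup G) : Prop where
  emb : Emb M K Ms
  coatom : IsCoatom M
  hall : Cfsg.IsPiHallOf (Cfsg.kappa M) K M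
  ne_bot : K ≠ ⊥

theorem exists_fam (hG : Cfsg.IsMinSimpleOddOrder G) {M K : Subgroup G} (hM : IsCoatom M)
    (hK : Cfsg.IsPiHallOf (Cfsg.kappa M) K M) (hK1 : K ≠ ⊥) : ∃ Ms : Subgroup G, Fam M K Ms := by
  obtain ⟨Ms, e⟩ := exists_emb hG (Cfsg.Agent.Helper4.BG147H.hyp142 hG) (countKill hG) hM hK hK1
  exact ⟨Ms, e, hM, hK, hK1⟩

section

variable {M K Ms : Subgroup G}

theorem Fam.p142 (hG : Cfsg.IsMinSimpleOddOrder G) (f : Fam M K Ms) : P142 M K :=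
  Cfsg.Agent.Helper4.BG147H.hyp142 hG M K f.coatom f.hall f.ne_bot

theorem Fam.mem (f : Fam M K Ms) :
    Member (K ⊔ (Cfsg.sigmaCore M ⊓ Subgroup.centralizer (K : Set G))) M K :=
  member_self f.coatom f.hall f.ne_bot

theorem Fam.mems (hG : Cfsg.IsMinSimpleOddOrder G) (f : Fam M K Ms) :
    Member (K ⊔ (Cfsg.sigmaCore M ⊓ Subgroup.centralizer (K : Set G))) Ms
      (Cfsg.sigmaCore M ⊓ Subgroup.centralizer (K : Set G)) :=
  f.emb.member (f.p142 hG)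

/-- the hypotheses of the `T̂`-machinery for `F = {M, M*}` -/
theorem Fam.hyps (hG : Cfsg.IsMinSimpleOddOrder G) (f : Fam M K Ms)
    {F : Finset (Subgroup G)} (hF : ∀ N, N ∈ F ↔ N = M ∨ N = Ms) :
    (∀ N ∈ F, IsCoatom N) ∧
    (∀ N ∈ F, K ⊔ (Cfsg.sigmaCore M ⊓ Subgroup.centralizer (K : Set G)) ≤ N) ∧
    (∀ q : ℕ, q.Prime →
      q ∣ Nat.card ↥(K ⊔ (Cfsg.sigmaCore M ⊓ Subgroup.centralizer (K : Set G))) →
        ∃ N ∈ F, q ∈ Cfsg.sigma N) ∧
    (∀ N ∈ F, ∀ a ∈ (K ⊔ (Cfsg.sigmaCore M ⊓ Subgroup.centralizer (K : Set G))) ⊓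
      Cfsg.sigmaCore N, a ≠ 1 → ∀ g : G, g * a * g⁻¹ ∈ N → g ∈ N) ∧
    (∀ N ∈ F, ∀ N' ∈ F, N ≠ N' →
      N ⊓ N' ≤ K ⊔ (Cfsg.sigmaCore M ⊓ Subgroup.centralizer (K : Set G))) ∧
    F.Nonempty := by
  have h142 := Cfsg.Agent.Helper4.BG147H.hyp142 hG
  have m := f.mem
  have ms := f.mems hG
  have hwit : ∀ N ∈ F, ∃ J, Member (K ⊔ (Cfsg.sigmaCore M ⊓
      Subgroup.centralizer (K : Set G))) N J := by
    intro N hN
    rcases (hF N).1 hN with rfl | rfl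
    · exact ⟨_, m⟩
    · exact ⟨_, ms⟩
  refine ⟨?_, ?_, ?_, ?_, ?_, ⟨M, (hF M).2 (Or.inl rfl)⟩⟩
  · intro N hN
    obtain ⟨J, mN⟩ := hwit N hN
    exact mN.coatom
  · intro N hN
    obtain ⟨J, mN⟩ := hwit N hN
    exact mN.le
  · intro q hq hqZ
    obtain ⟨L', J', m', hq'⟩ := m.exists_sigma hG h142 hq hqZ
    exact ⟨L', (hF L').2 (f.emb.all L' J' m'), hq'⟩
  · intro N hN a ha ha1 g hg
    obtain ⟨J, mN⟩ := hwit N hN
    exact mN.ti h142 ha ha1 hg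
  · intro N hN N' hN' hne
    obtain ⟨J, mN⟩ := hwit N hN
    obtain ⟨J', mN'⟩ := hwit N' hN'
    exact (mN.inf_eq hG h142 mN' hne).le

/-- `T̂ = Ẑ` for `F = {M, M*}`. -/
theorem Fam.That_eq (hG : Cfsg.IsMinSimpleOddOrder G) (f : Fam M K Ms)
    {F : Finset (Subgroup G)} (hF : ∀ N, N ∈ F ↔ N = M ∨ N = Ms) :
    That F (K ⊔ (Cfsg.sigmaCore M ⊓ Subgroup.centralizer (K : Set G))) =
      Zhat K (Cfsg.sigmaCore M ⊓ Subgroup.centralizer (K : Set G)) := by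
  have m := f.mem
  have ms := f.mems hG
  ext w
  rw [mem_That]
  unfold Zhat
  simp only [Set.mem_sdiff, SetLike.mem_coe, Set.mem_union, not_or]
  constructor
  · rintro ⟨hwZ, hw⟩
    refine ⟨hwZ, ?_, ?_⟩
    · intro hwK
      apply hw Ms ((hF Ms).2 (Or.inr rfl))
      have := f.emb.K_eq
      rw [this] at hwK
      exact hwK.1
    · intro hwKs
      exact hw M ((hF M).2 (Or.inl rfl)) hwKs.1
  · rintro ⟨hwZ, hwK, hwKs⟩
    refine ⟨hwZ, ?_⟩
    intro N hN hwN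
    rcases (hF N).1 hN with rfl | rfl
    · apply hwKs
      have : w ∈ (K ⊔ (Cfsg.sigmaCore N ⊓ Subgroup.centralizer (K : Set G))) ⊓
          Cfsg.sigmaCore N := ⟨hwZ, hwN⟩
      rwa [m.Z_inf] at this
    · apply hwK
      have : w ∈ (K ⊔ (Cfsg.sigmaCore M ⊓ Subgroup.centralizer (K : Set G))) ⊓
          Cfsg.sigmaCore N := ⟨hwZ, hwN⟩
      rw [ms.Z_inf, ← f.emb.K_eq] at this
      exact this

theorem exists_finset_pair (M Ms : Subgroup G) :
    ∃ F : Finset (Subgroup G), ∀ N, N ∈ F ↔ N = M ∨ N = Ms := by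
  classical
  exact ⟨{M, Ms}, fun N => by simp⟩

/-- **`Ẑ` is a TI-set with normalizer `Z`.** -/
theorem Fam.zhat_ti (hG : Cfsg.IsMinSimpleOddOrder G) (f : Fam M K Ms) :
    ∀ z ∈ Zhat K (Cfsg.sigmaCore M ⊓ Subgroup.centralizer (K : Set G)), ∀ g : G,
      g * z * g⁻¹ ∈ K ⊔ (Cfsg.sigmaCore M ⊓ Subgroup.centralizer (K : Set G)) →
      g ∈ K ⊔ (Cfsg.sigmaCore M ⊓ Subgroup.centralizer (K : Set G)) := by
  obtain ⟨F, hF⟩ := exists_finset_pair M Ms
  obtain ⟨hco, hZN, hcov, hTI, hint, hne⟩ := f.hyps hG hF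
  intro z hz g hg
  rw [← f.That_eq hG hF] at hz
  exact That_conj hG hco hZN hcov hTI hint hne hz hg

/-- **No conjugate of an element of `Ẑ` lies in any `Ñ`.** -/
theorem Fam.zhat_not_mem_tilde (hG : Cfsg.IsMinSimpleOddOrder G) (f : Fam M K Ms)
    {N : Subgroup G} (hN : IsCoatom N) (y : G) {z : G}
    (hz : z ∈ Zhat K (Cfsg.sigmaCore M ⊓ Subgroup.centralizer (K : Set G))) :
    y * z * y⁻¹ ∉ Cfsg.tildeOf N ((Cfsg.sigmaCore N : Set G) \ {1}) := by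
  obtain ⟨F, hF⟩ := exists_finset_pair M Ms
  obtain ⟨hco, hZN, hcov, hTI, hint, hne⟩ := f.hyps hG hF
  rw [← f.That_eq hG hF] at hz
  intro h
  exact (Set.disjoint_left.1 (conjSet_That_disjoint_tilde hG hco hZN hcov hTI hN))
    ⟨y, z, hz, rfl⟩ h

theorem Fam.comm (f : Fam M K Ms) : ∀ a ∈ K,
    ∀ b ∈ Cfsg.sigmaCore M ⊓ Subgroup.centralizer (K : Set G), a * b = b * a := by
  intro a ha b hb
  exact (Subgroup.mem_centralizer_iff.1 hb.2 a ha)

/-- more than half of the elements of `G` are conjugate into `Ẑ` -/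
theorem Fam.half (hG : Cfsg.IsMinSimpleOddOrder G) (f : Fam M K Ms) :
    Nat.card G < 2 * Set.ncard {a : G | ∃ g : G,
      ∃ z ∈ Zhat K (Cfsg.sigmaCore M ⊓ Subgroup.centralizer (K : Set G)), a = g * z * g⁻¹} :=
  card_lt_two_mul_ncard_conj_Zhat (inf_kstar_eq_bot f.hall) f.comm (f.zhat_ti hG) hG.1
    f.ne_bot (f.p142 hG).kstar_ne (coprime_card_kstar f.hall)

/-- `Z = K K*` is abelian. -/
theorem Fam.Z_comm (hG : Cfsg.IsMinSimpleOddOrder G) (f : Fam M K Ms) :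
    ∀ a ∈ K ⊔ (Cfsg.sigmaCore M ⊓ Subgroup.centralizer (K : Set G)),
    ∀ b ∈ K ⊔ (Cfsg.sigmaCore M ⊓ Subgroup.centralizer (K : Set G)), a * b = b * a := by
  have h142 := Cfsg.Agent.Helper4.BG147H.hyp142 hG
  have hcK : IsCyclic ↥K := kappaHall_cyclic hG h142 (countKill hG) f.coatom f.hall
  have hcKs : IsCyclic ↥(Cfsg.sigmaCore M ⊓ Subgroup.centralizer (K : Set G)) :=
    kappaHall_cyclic hG h142 (countKill hG) f.emb.coatom f.emb.hall
  have hK : ∀ a ∈ K, ∀ b ∈ K, a * b = b * a := by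
    intro a ha b hb
    obtain ⟨g, hg⟩ := hcK.exists_generator
    obtain ⟨i, hi⟩ := Subgroup.mem_zpowers_iff.1 (hg ⟨a, ha⟩)
    obtain ⟨j, hj⟩ := Subgroup.mem_zpowers_iff.1 (hg ⟨b, hb⟩)
    have h1 : (⟨a, ha⟩ : ↥K) * ⟨b, hb⟩ = ⟨b, hb⟩ * ⟨a, ha⟩ := by
      rw [← hi, ← hj]
      exact ((Commute.refl g).zpow_zpow i j).eq
    exact congrArg Subtype.val h1
  have hKs : ∀ a ∈ Cfsg.sigmaCore M ⊓ Subgroup.centralizer (K : Set G),
      ∀ b ∈ Cfsg.sigmaCore M ⊓ Subgroup.centralizer (K : Set G), a * b = b * a := by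
    intro a ha b hb
    obtain ⟨g, hg⟩ := hcKs.exists_generator
    obtain ⟨i, hi⟩ := Subgroup.mem_zpowers_iff.1 (hg ⟨a, ha⟩)
    obtain ⟨j, hj⟩ := Subgroup.mem_zpowers_iff.1 (hg ⟨b, hb⟩)
    have h1 : (⟨a, ha⟩ : ↥(Cfsg.sigmaCore M ⊓ Subgroup.centralizer (K : Set G))) * ⟨b, hb⟩ =
        ⟨b, hb⟩ * ⟨a, ha⟩ := by
      rw [← hi, ← hj]
      exact ((Commute.refl g).zpow_zpow i j).eq
    exact congrArg Subtype.val h1
  intro a ha b hb
  have ha' : a ∈ (K : Set G) * ((Cfsg.sigmaCore M ⊓ Subgroup.centralizer (K : Set G) :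
      Subgroup G) : Set G) := by rw [← coe_sup_eq_mul f.comm]; exact ha
  have hb' : b ∈ (K : Set G) * ((Cfsg.sigmaCore M ⊓ Subgroup.centralizer (K : Set G) :
      Subgroup G) : Set G) := by rw [← coe_sup_eq_mul f.comm]; exact hb
  obtain ⟨a1, ha1, a2, ha2, rfl⟩ := Set.mem_mul.1 ha'
  obtain ⟨b1, hb1, b2, hb2, rfl⟩ := Set.mem_mul.1 hb'
  have c11 : Commute a1 b1 := hK a1 ha1 b1 hb1
  have c12 : Commute a1 b2 := f.comm a1 ha1 b2 hb2
  have c21 : Commute a2 b1 := (f.comm b1 hb1 a2 ha2).symm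
  have c22 : Commute a2 b2 := hKs a2 ha2 b2 hb2
  exact ((c11.mul_right c12).mul_left (c21.mul_right c22)).eq

end

/-- a product `k y` of a `κ(N)`-element and a `σ(N)`-element (both nontrivial, commuting) has no
conjugate in any `L_σ`. -/
theorem conj_mul_not_mem_sigmaCore (hG : Cfsg.IsMinSimpleOddOrder G) {N KN L : Subgroup G}
    (hN : IsCoatom N) (hKN : Cfsg.IsPiHallOf (Cfsg.kappa N) KN N) (hL : IsCoatom L)
    {k y : G} (hk : k ∈ KN) (hk1 : k ≠ 1) (hy : y ∈ Cfsg.sigmaCore N) (hy1 : y ≠ 1)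
    (hky : Commute k y) (c : G) : c * (k * y) * c⁻¹ ∉ Cfsg.sigmaCore L := by
  intro hw
  obtain ⟨p, hp, hpd⟩ := exists_prime_dvd_orderOf hk1
  obtain ⟨q, hq, hqd⟩ := exists_prime_dvd_orderOf hy1
  have hpκ : p ∈ Cfsg.kappa N :=
    hKN.2.1 p hp (hpd.trans (Subgroup.orderOf_dvd_natCard KN hk))
  have hpσ : p ∉ Cfsg.sigma N := hpκ.2.2.1
  have hqσ : q ∈ Cfsg.sigma N :=
    Cfsg.Agent.Lead.BG12.mem_sigma_of_dvd_card_sigmaCore hq (prime_dvd_orderOf_mem hy hqd)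
  have hcop : (orderOf k).Coprime (orderOf y) := by
    apply Nat.coprime_of_dvd
    intro t ht h1 h2
    exact (hKN.2.1 t ht (h1.trans (Subgroup.orderOf_dvd_natCard KN hk))).2.2.1
      (Cfsg.Agent.Lead.BG12.mem_sigma_of_dvd_card_sigmaCore ht (prime_dvd_orderOf_mem hy h2))
  have hord : orderOf (c * (k * y) * c⁻¹) = orderOf k * orderOf y := by
    rw [conj_orderOf']
    exact hky.orderOf_mul_eq_mul_orderOf_of_coprime hcop
  have hpL : p ∈ Cfsg.sigma L :=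
    Cfsg.Agent.Lead.BG12.mem_sigma_of_dvd_card_sigmaCore hp
      (prime_dvd_orderOf_mem hw (by rw [hord]; exact Dvd.dvd.mul_right hpd _))
  have hqL : q ∈ Cfsg.sigma L :=
    Cfsg.Agent.Lead.BG12.mem_sigma_of_dvd_card_sigmaCore hq
      (prime_dvd_orderOf_mem hw (by rw [hord]; exact Dvd.dvd.mul_left hqd _))
  obtain ⟨u, hu⟩ := (Cfsg.Agent.S1378.result hG).2 N L hN hL ⟨q, hqσ, hqL⟩
  apply hpσ
  rw [hu, sigma_map_conj hG hN u] at hpL
  exact hpL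

/-- **Any two `Ẑ`-families are conjugate**: elements `k y` of the second land in a conjugate of the
`Ẑ` of the first. -/
theorem conj_into_zhat (hG : Cfsg.IsMinSimpleOddOrder G) {M K Ms N KN Ns : Subgroup G}
    (f : Fam M K Ms) (f1 : Fam N KN Ns) {k y : G} (hk : k ∈ KN) (hk1 : k ≠ 1)
    (hy : y ∈ Cfsg.sigmaCore N ⊓ Subgroup.centralizer (KN : Set G)) (hy1 : y ≠ 1) :
    ∃ c : G, c * (k * y) * c⁻¹ ∈ Zhat K (Cfsg.sigmaCore M ⊓ Subgroup.centralizer (K : Set G)) := by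
  classical
  -- the two sets of conjugates intersect
  set A : Set G := {a : G | ∃ g : G,
      ∃ z ∈ Zhat K (Cfsg.sigmaCore M ⊓ Subgroup.centralizer (K : Set G)), a = g * z * g⁻¹} with hA
  set B : Set G := {a : G | ∃ g : G,
      ∃ z ∈ Zhat KN (Cfsg.sigmaCore N ⊓ Subgroup.centralizer (KN : Set G)), a = g * z * g⁻¹}
    with hB
  have h1 : Nat.card G < 2 * A.ncard := f.half hG
  have h2 : Nat.card G < 2 * B.ncard := f1.half hG
  have hne : (A ∩ B).Nonempty := by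
    by_contra hcon
    rw [Set.not_nonempty_iff_eq_empty] at hcon
    have h3 := Set.ncard_union_add_ncard_inter A B
    rw [hcon, Set.ncard_empty, add_zero] at h3
    have h4 : (A ∪ B).ncard ≤ Nat.card G := by
      rw [← Set.ncard_univ]
      exact Set.ncard_le_ncard (Set.subset_univ _)
    omega
  obtain ⟨a, ⟨g, z, hz, hag⟩, ⟨g', z', hz', hag'⟩⟩ := hne
  -- `z = c z' c⁻¹`
  set c := g⁻¹ * g' with hc
  have hzc : z = c * z' * c⁻¹ := by
    have : z = g⁻¹ * (g * z * g⁻¹) * g := by group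
    rw [this, ← hag, hag', hc]; group
  refine ⟨c, ?_⟩
  have hyc : y * k = k * y := (Subgroup.mem_centralizer_iff.1 hy.2 k hk).symm
  have hkyZ1 : k * y ∈ KN ⊔ (Cfsg.sigmaCore N ⊓ Subgroup.centralizer (KN : Set G)) :=
    Subgroup.mul_mem _ (Subgroup.mem_sup_left hk) (Subgroup.mem_sup_right hy)
  have hcomm1 : (k * y) * z' = z' * (k * y) := f1.Z_comm hG _ hkyZ1 _ hz'.1
  -- `w = c (k y) c⁻¹` commutes with `z`, hence lies in `Z`
  set w := c * (k * y) * c⁻¹ with hw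
  have hwz : w * z * w⁻¹ = z := by
    rw [hzc, hw]
    have e : c * (k * y) * c⁻¹ * (c * z' * c⁻¹) * (c * (k * y) * c⁻¹)⁻¹ =
        c * ((k * y) * z' * (k * y)⁻¹) * c⁻¹ := by group
    rw [e, hcomm1]; group
  have hwZ : w ∈ K ⊔ (Cfsg.sigmaCore M ⊓ Subgroup.centralizer (K : Set G)) := by
    apply f.zhat_ti hG z hz w
    rw [hwz]; exact hz.1
  obtain ⟨F, hF⟩ := exists_finset_pair M Ms
  rw [← f.That_eq hG hF, mem_That]
  refine ⟨hwZ, ?_⟩
  intro L hL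
  have hLco : IsCoatom L := by
    rcases (hF L).1 hL with rfl | rfl
    · exact f.coatom
    · exact f.emb.coatom
  exact conj_mul_not_mem_sigmaCore hG f1.coatom f1.hall hLco hk hk1 hy.1 hy1 hyc.symm c

end Cfsg.Agent.Helper2.BG148
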