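import Mathlib
import Cfsg.Agent.Helper1.BTFilt
import Cfsg.Agent.Helper7.BNParabolic
import Cfsg.Agent.S1042
import Cfsg.Agent.S1048

set_option autoImplicit false

/-!
# Borel–Tits (S2154): the identification step

For a weight function `ψ` on the root indices of a Chevalley datum (one of the seven tabulated
data) and the set `J` of the fundamental roots on which `ψ` vanishes, the matrix-filtration
subgroups of helper1's `BTFilt` are identified inside the Chevalley group: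

* `btf_PSub (wt ψ) ⊓ G ≤ P_J` (the standard parabolic subgroup of the Prelude), and
* `btf_USub (wt ψ) ⊓ G ≤ U_J` (its unipotent radical).

The hypotheses on `ψ` are stated in raw form (membership of the generators in the filtration
subgroups), so the file does not depend on how `ψ` is produced.
-/

namespace Cfsg.Agent.Helper2.BTIdent

open Cfsg Cfsg.Lie Cfsg.Agent.Helper1.BTFilt

variable {F : Type*} [Field F] [Fintype F] (D : ChevalleyDatum)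

/-- The weight of the coordinate module attached to a function `ψ` on root indices: the Cartan
part has weight `0`, the root vector `e_s` has weight `ψ s`. -/
def bt2_wt (ψ : ℕ → ℝ) : D.Idx → ℝ := Sum.elim (fun _ => 0) (fun s => ψ s.val)

@[simp] theorem bt2_wt_inl (ψ : ℕ → ℝ) (i : Fin D.rank) : bt2_wt D ψ (Sum.inl i) = 0 := rfl

@[simp] theorem bt2_wt_inr (ψ : ℕ → ℝ) (s : Fin D.nroots) : bt2_wt D ψ (Sum.inr s) = ψ s.val := rfl

/-- `B ≤ P̂`: the Borel subgroup lies in the filtration parabolic. -/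
theorem bt2_borel_le (ψ : ℕ → ℝ)
    (hB : ∀ (r : ℕ) (t : F) (g : GL D.Idx F), D.IsPosRoot r →
      (g : Matrix D.Idx D.Idx F) = D.x F r t → g ∈ btf_PSub (bt2_wt D ψ))
    (hH : D.diagonalSubgroup F ≤ btf_LSub (bt2_wt D ψ)) :
    D.borelSubgroup F ≤ btf_PSub (bt2_wt D ψ) := by
  unfold ChevalleyDatum.borelSubgroup
  refine sup_le ?_ (hH.trans (btf_LSub_le_PSub _))
  unfold ChevalleyDatum.posUnipotent
  rw [Subgroup.closure_le]
  rintro g ⟨r, t, hr, hg⟩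
  exact hB r t g hr hg

/-- `U_J ≤ Û_{>0}`. -/
theorem bt2_rad_le (ψ : ℕ → ℝ) (J : Set ℕ)
    (hUJ : ∀ (r : ℕ) (t : F) (g : GL D.Idx F), D.IsPosRoot r → ¬ D.InRootSub J r →
      (g : Matrix D.Idx D.Idx F) = D.x F r t → g ∈ btf_UposSub (bt2_wt D ψ)) :
    D.unipotentRadical F J ≤ btf_UposSub (bt2_wt D ψ) := by
  unfold ChevalleyDatum.unipotentRadical
  rw [Subgroup.closure_le]
  rintro g ⟨r, t, hr, hrJ, hg⟩
  exact hUJ r t g hr hrJ hg

/-- `L_J ≤ L̂`: the Levi subgroup preserves the grading. -/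
theorem bt2_levi_le (ψ : ℕ → ℝ) (J : Set ℕ)
    (hLJ : ∀ (r : ℕ) (t : F) (g : GL D.Idx F), D.InRootSub J r →
      (g : Matrix D.Idx D.Idx F) = D.x F r t → g ∈ btf_LSub (bt2_wt D ψ))
    (hH : D.diagonalSubgroup F ≤ btf_LSub (bt2_wt D ψ)) :
    D.leviSubgroup F J ≤ btf_LSub (bt2_wt D ψ) := by
  unfold ChevalleyDatum.leviSubgroup
  refine sup_le hH ?_
  rw [Subgroup.closure_le]
  rintro g ⟨r, t, hr, hg⟩
  exact hLJ r t g hr hg

/-- First half of the identification: `P̂ ⊓ G ≤ P_J`. -/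
theorem bt2_ident_P
    (hD : D ∈ [Cfsg.Lie.chevG2, Cfsg.Lie.chevB2, Cfsg.Lie.chevD4, Cfsg.Lie.chevF4,
      Cfsg.Lie.chevE6, Cfsg.Lie.chevE7, Cfsg.Lie.chevE8])
    (ψ : ℕ → ℝ) (J : Set ℕ)
    (hJ : ∀ j, j ∈ J ↔ j < D.rank ∧ ψ (D.simple j) = 0)
    (hB : ∀ (r : ℕ) (t : F) (g : GL D.Idx F), D.IsPosRoot r →
      (g : Matrix D.Idx D.Idx F) = D.x F r t → g ∈ btf_PSub (bt2_wt D ψ))
    (hH : D.diagonalSubgroup F ≤ btf_LSub (bt2_wt D ψ))
    (hn : ∀ i < D.rank, ∀ g : GL D.Idx F, (g : Matrix D.Idx D.Idx F) = D.nMat F (D.simple i) 1 →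
      g ∈ btf_PSub (bt2_wt D ψ) → ψ (D.simple i) = 0) :
    btf_PSub (bt2_wt D ψ) ⊓ D.group F ≤ D.parabolicSubgroup F J := by
  obtain ⟨P, hPB, -, hPS⟩ := Cfsg.Agent.S1042.result (F := F) D hD
  have hBle := bt2_borel_le D ψ hB hH
  -- the overgroup of `B` inside `G`
  set M : Subgroup ↥(D.group F) := (btf_PSub (bt2_wt D ψ)).subgroupOf (D.group F) with hM
  have hBM : P.B ≤ M := by
    rw [hPB, hM]
    intro y hy
    rw [Subgroup.mem_subgroupOf] at hy ⊢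
    exact hBle hy
  have hMeq := Cfsg.Agent.Helper7.BN.eq_parabolic_of_le P M hBM
  -- the parabolic of `S ∩ M` lies in `P_J`
  have hle : P.parabolic (P.S ∩ (M : Set ↥(D.group F))) ≤
      (D.parabolicSubgroup F J).subgroupOf (D.group F) := by
    unfold Cfsg.BNPair.parabolic
    refine sup_le ?_ ?_
    · rw [hPB]
      intro y hy
      rw [Subgroup.mem_subgroupOf] at hy ⊢
      exact (le_sup_left : D.borelSubgroup F ≤ D.parabolicSubgroup F J) hy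
    · rw [Subgroup.closure_le]
      rintro y ⟨hyS, hyM⟩
      rw [hPS] at hyS
      obtain ⟨i, hi, hyi⟩ := hyS
      have hyP : (y : GL D.Idx F) ∈ btf_PSub (bt2_wt D ψ) := by
        have := hyM
        rw [hM] at this
        exact Subgroup.mem_subgroupOf.1 this
      have hψ := hn i hi (y : GL D.Idx F) hyi hyP
      have hiJ : i ∈ J := (hJ i).2 ⟨hi, hψ⟩
      show y ∈ (D.parabolicSubgroup F J).subgroupOf (D.group F)
      rw [Subgroup.mem_subgroupOf]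
      unfold ChevalleyDatum.parabolicSubgroup
      refine (le_sup_right : _ ≤ D.borelSubgroup F ⊔ _) (Subgroup.subset_closure ?_)
      exact ⟨i, hiJ, hi, hyi⟩
  rintro x ⟨hxP, hxG⟩
  have hxM : (⟨x, hxG⟩ : ↥(D.group F)) ∈ M := by
    rw [hM, Subgroup.mem_subgroupOf]
    exact hxP
  rw [hMeq] at hxM
  have := hle hxM
  rw [Subgroup.mem_subgroupOf] at this
  exact this

/-- Second half of the identification: `Û ⊓ G ≤ U_J`. -/
theorem bt2_ident_U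
    (hD : D ∈ [Cfsg.Lie.chevG2, Cfsg.Lie.chevB2, Cfsg.Lie.chevD4, Cfsg.Lie.chevF4,
      Cfsg.Lie.chevE6, Cfsg.Lie.chevE7, Cfsg.Lie.chevE8])
    (ψ : ℕ → ℝ) (J : Set ℕ)
    (hJ : ∀ j, j ∈ J ↔ j < D.rank ∧ ψ (D.simple j) = 0)
    (hB : ∀ (r : ℕ) (t : F) (g : GL D.Idx F), D.IsPosRoot r →
      (g : Matrix D.Idx D.Idx F) = D.x F r t → g ∈ btf_PSub (bt2_wt D ψ))
    (hUJ : ∀ (r : ℕ) (t : F) (g : GL D.Idx F), D.IsPosRoot r → ¬ D.InRootSub J r →
      (g : Matrix D.Idx D.Idx F) = D.x F r t → g ∈ btf_UposSub (bt2_wt D ψ))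
    (hLJ : ∀ (r : ℕ) (t : F) (g : GL D.Idx F), D.InRootSub J r →
      (g : Matrix D.Idx D.Idx F) = D.x F r t → g ∈ btf_LSub (bt2_wt D ψ))
    (hH : D.diagonalSubgroup F ≤ btf_LSub (bt2_wt D ψ))
    (hn : ∀ i < D.rank, ∀ g : GL D.Idx F, (g : Matrix D.Idx D.Idx F) = D.nMat F (D.simple i) 1 →
      g ∈ btf_PSub (bt2_wt D ψ) → ψ (D.simple i) = 0) :
    btf_USub (bt2_wt D ψ) ⊓ D.group F ≤ D.unipotentRadical F J := by
  obtain ⟨hnorm, hsup, -⟩ := Cfsg.Agent.S1048.result (F := F) D hD J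
  have hP := bt2_ident_P D hD ψ J hJ hB hH hn
  have hrad := bt2_rad_le D ψ J hUJ
  have hlevi := bt2_levi_le D ψ J hLJ hH
  rintro x ⟨hxU, hxG⟩
  have hxPJ : x ∈ D.parabolicSubgroup F J :=
    hP ⟨btf_USub_le_PSub _ hxU, hxG⟩
  -- `P_J = U_J L_J` with `U_J` normalised by `L_J`
  have hLn : D.leviSubgroup F J ≤ Subgroup.normalizer (D.unipotentRadical F J : Set (GL D.Idx F)) := by
    refine le_trans ?_ hnorm
    rw [← hsup]
    exact le_sup_right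
  rw [← hsup] at hxPJ
  have hxPJ' : x ∈ ((D.unipotentRadical F J ⊔ D.leviSubgroup F J : Subgroup (GL D.Idx F)) :
      Set (GL D.Idx F)) := hxPJ
  rw [Subgroup.coe_mul_of_right_le_normalizer_left _ _ hLn] at hxPJ'
  obtain ⟨u, hu, l, hl, rfl⟩ := hxPJ'
  -- the Levi part is trivial
  have hl1 : l ∈ btf_UposSub (bt2_wt D ψ) := by
    have h1 : u * l ∈ btf_UposSub (bt2_wt D ψ) := btf_USub_le_UposSub _ hxU
    have h2 : u⁻¹ ∈ btf_UposSub (bt2_wt D ψ) := Subgroup.inv_mem _ (hrad hu)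
    have := Subgroup.mul_mem _ h2 h1
    rwa [inv_mul_cancel_left] at this
  have hl2 : l ∈ btf_LSub (bt2_wt D ψ) := hlevi hl
  have hl0 : l ∈ (btf_UposSub (bt2_wt D ψ) ⊓ btf_LSub (bt2_wt D ψ) : Subgroup (GL D.Idx F)) :=
    ⟨hl1, hl2⟩
  rw [btf_UposSub_inf_LSub, Subgroup.mem_bot] at hl0
  subst hl0
  show u * 1 ∈ D.unipotentRadical F J
  rw [mul_one]
  exact hu

/-- **Identification**: `P̂ ⊓ G ≤ P_J` and `Û ⊓ G ≤ U_J`. -/
theorem bt2_ident
    (hD : D ∈ [Cfsg.Lie.chevG2, Cfsg.Lie.chevB2, Cfsg.Lie.chevD4, Cfsg.Lie.chevF4,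
      Cfsg.Lie.chevE6, Cfsg.Lie.chevE7, Cfsg.Lie.chevE8])
    (ψ : ℕ → ℝ) (J : Set ℕ)
    (hJ : ∀ j, j ∈ J ↔ j < D.rank ∧ ψ (D.simple j) = 0)
    (hB : ∀ (r : ℕ) (t : F) (g : GL D.Idx F), D.IsPosRoot r →
      (g : Matrix D.Idx D.Idx F) = D.x F r t → g ∈ btf_PSub (bt2_wt D ψ))
    (hUJ : ∀ (r : ℕ) (t : F) (g : GL D.Idx F), D.IsPosRoot r → ¬ D.InRootSub J r →
      (g : Matrix D.Idx D.Idx F) = D.x F r t → g ∈ btf_UposSub (bt2_wt D ψ))
    (hLJ : ∀ (r : ℕ) (t : F) (g : GL D.Idx F), D.InRootSub J r →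
      (g : Matrix D.Idx D.Idx F) = D.x F r t → g ∈ btf_LSub (bt2_wt D ψ))
    (hH : D.diagonalSubgroup F ≤ btf_LSub (bt2_wt D ψ))
    (hn : ∀ i < D.rank, ∀ g : GL D.Idx F, (g : Matrix D.Idx D.Idx F) = D.nMat F (D.simple i) 1 →
      g ∈ btf_PSub (bt2_wt D ψ) → ψ (D.simple i) = 0) :
    btf_PSub (bt2_wt D ψ) ⊓ D.group F ≤ D.parabolicSubgroup F J ∧
      btf_USub (bt2_wt D ψ) ⊓ D.group F ≤ D.unipotentRadical F J :=
  ⟨bt2_ident_P D hD ψ J hJ hB hH hn, bt2_ident_U D hD ψ J hJ hB hUJ hLJ hH hn⟩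

end Cfsg.Agent.Helper2.BTIdent
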