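import Mathlib

set_option autoImplicit false

/-!
The abstract Sylow 2-subgroup of `SU₃(4)`: pairs `(a, c)` over the field with 16 elements with
`c + c⁴ = a⁵` and product `(a,c)(a',c') = (a+a', c+c'+a⁴a')`.
-/

namespace Cfsg.Agent.Helper2.U34

/-- A field of characteristic 2 in which `a¹⁶ = a`. -/
class IsF16 (F : Type*) [Field F] : Prop where
  two : (2 : F) = 0
  pow16 : ∀ a : F, a ^ 16 = a

variable {F : Type*} [Field F]

theorem isF16_of_card [Fintype F] (hF : Fintype.card F = 16) : IsF16 F := by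
  constructor
  · have h := FiniteField.cast_card_eq_zero F
    rw [hF] at h
    have h4 : (2 : F) ^ 4 = 0 := by
      rw [← h]
      norm_num
    exact pow_eq_zero_iff (by norm_num) |>.mp h4
  · intro a
    have h := FiniteField.pow_card a
    rwa [hF] at h

variable [hF16 : IsF16 F]

theorem frob4 (x y : F) : (x + y) ^ 4 = x ^ 4 + y ^ 4 := by
  have h2 := hF16.two
  linear_combination ((2)*x*y^3 + (3)*x^2*y^2 + (2)*x^3*y) * h2

theorem add_self (x : F) : x + x = 0 := by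
  have h2 := hF16.two
  linear_combination x * h2

/-- The underlying type. -/
def U (F : Type*) [Field F] : Type _ := {p : F × F // p.2 + p.2 ^ 4 = p.1 ^ 5}

@[ext] theorem U.ext {p q : U F} (h1 : p.1.1 = q.1.1) (h2 : p.1.2 = q.1.2) : p = q :=
  Subtype.ext (Prod.ext h1 h2)

instance : Mul (U F) :=
  ⟨fun p q => ⟨(p.1.1 + q.1.1, p.1.2 + q.1.2 + p.1.1 ^ 4 * q.1.1), by
    obtain ⟨⟨a, c⟩, hc⟩ := p
    obtain ⟨⟨a', c'⟩, hc'⟩ := q
    have h2 := hF16.two
    have ha := hF16.pow16 a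
    simp only at hc hc' ⊢
    linear_combination ((-2)*a*a'^4 + (-5)*a^2*a'^3 + (-5)*a^3*a'^2 + (-2)*a^4*a' + (6)*a^4*a'*c*c'^2 + (6)*a^4*a'*c^2*c' + (2)*a^4*a'*c^3 + (2)*a^4*a'*c'^3 + (6)*a^8*a'^2*c*c' + (3)*a^8*a'^2*c^2 + (3)*a^8*a'^2*c'^2 + (2)*a^12*a'^3*c + (2)*a^12*a'^3*c' + (2)*c*c'^3 + (3)*c^2*c'^2 + (2)*c^3*c') * h2 + (1) * hc + (1) * hc' + ((1)*a'^4) * ha⟩⟩

instance : One (U F) := ⟨⟨(0, 0), by simp⟩⟩

instance : Inv (U F) :=
  ⟨fun p => ⟨(p.1.1, p.1.2 + p.1.1 ^ 5), by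
    obtain ⟨⟨a, c⟩, hc⟩ := p
    have h2 := hF16.two
    have ha := hF16.pow16 a
    simp only at hc ⊢
    linear_combination ((1)*a^5 + (2)*a^5*c^3 + (3)*a^10*c^2 + (2)*a^15*c) * h2 + (1) * hc + ((1)*a^4) * ha⟩⟩

@[simp] theorem mul_fst (p q : U F) : (p * q).1.1 = p.1.1 + q.1.1 := rfl
@[simp] theorem mul_snd (p q : U F) : (p * q).1.2 = p.1.2 + q.1.2 + p.1.1 ^ 4 * q.1.1 := rfl
@[simp] theorem one_fst : (1 : U F).1.1 = 0 := rfl
@[simp] theorem one_snd : (1 : U F).1.2 = 0 := rfl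
@[simp] theorem inv_fst (p : U F) : (p⁻¹).1.1 = p.1.1 := rfl
@[simp] theorem inv_snd (p : U F) : (p⁻¹).1.2 = p.1.2 + p.1.1 ^ 5 := rfl

instance : Group (U F) where
  mul_assoc p q r := by
    have h2 := hF16.two
    apply U.ext
    · simp only [mul_fst]; ring
    · simp only [mul_fst, mul_snd]
      generalize p.1.1 = a
      generalize q.1.1 = a'
      generalize r.1.1 = a''
      generalize p.1.2 = c
      generalize q.1.2 = c'
      generalize r.1.2 = c''
      linear_combination ((2)*a*a'^3*a'' + (3)*a^2*a'^2*a'' + (2)*a^3*a'*a'') * h2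
  one_mul p := by
    apply U.ext
    · simp
    · simp
  mul_one p := by
    apply U.ext
    · simp
    · simp
  inv_mul_cancel p := by
    have h2 := hF16.two
    apply U.ext
    · simp only [mul_fst, inv_fst, one_fst]
      exact add_self _
    · simp only [mul_snd, inv_fst, inv_snd, one_snd]
      generalize p.1.1 = a
      generalize p.1.2 = c
      linear_combination ((1)*a^5 + (1)*c) * h2

end Cfsg.Agent.Helper2.U34
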