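import Mathlib
import Cfsg.Agent.Helper2.U34A
import Cfsg.Agent.Helper8.UnitaryLines

set_option autoImplicit false

/-!
Structure of the abstract Sylow 2-subgroup of `SU₃(4)`.
-/

namespace Cfsg.Agent.Helper2.U34

open scoped commutatorElement

/-- The abstract properties of a Sylow 2-subgroup of `U₃(4)`. -/
def IsU34 (G : Type*) [Group G] : Prop :=
  Nat.card G = 64 ∧ Nat.card (Subgroup.center G) = 4 ∧ (∀ z ∈ Subgroup.center G, z ^ 2 = 1) ∧
  (∀ x : G, orderOf x = 2 → x ∈ Subgroup.center G) ∧ (∀ x y : G, ⁅x, y⁆ ∈ Subgroup.center G) ∧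
  (∀ z ∈ Subgroup.center G, ∃ x y : G, ⁅x, y⁆ = z) ∧ (∀ x : G, x ^ 2 ∈ Subgroup.center G)

variable {F : Type*} [Field F] [Fintype F]

theorem hK_of (hF : Fintype.card F = 16) : Fintype.card F = 4 ^ 2 := by rw [hF]; norm_num

section
variable [hF16 : IsF16 F]

theorem fix5 (a : F) : (a ^ 5) ^ 4 = a ^ 5 := by
  have ha := hF16.pow16 a
  linear_combination ((1)*a^4) * ha

/-- First coordinate as a homomorphism. -/
def pi (F : Type*) [Field F] [IsF16 F] : U F →* Multiplicative F where
  toFun p := Multiplicative.ofAdd p.1.1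
  map_one' := rfl
  map_mul' _ _ := rfl

theorem commutator_fst (x y : U F) : (⁅x, y⁆).1.1 = 0 := by
  have h : pi F ⁅x, y⁆ = 1 := by
    rw [map_commutatorElement, commutatorElement_eq_one_iff_commute]
    exact Commute.all _ _
  exact h

theorem sq_fst (x : U F) : (x ^ 2).1.1 = 0 := by
  rw [pow_two, mul_fst]
  exact add_self _

end

/-- A chosen solution of `c + c⁴ = a⁵`. -/
noncomputable def sol (hF : Fintype.card F = 16) (a : F) : F :=
  haveI := isF16_of_card hF
  Classical.choose (Cfsg.Agent.Helper8.UnitaryLines.exists_trace (hK_of hF) (fix5 a))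

theorem sol_spec (hF : Fintype.card F = 16) (a : F) : sol hF a + sol hF a ^ 4 = a ^ 5 := by
  haveI := isF16_of_card hF
  exact Classical.choose_spec (Cfsg.Agent.Helper8.UnitaryLines.exists_trace (hK_of hF) (fix5 a))

/-- An element with prescribed first coordinate. -/
noncomputable def lift (hF : Fintype.card F = 16) (a : F) : U F := ⟨(a, sol hF a), sol_spec hF a⟩

@[simp] theorem lift_fst (hF : Fintype.card F = 16) (a : F) : (lift hF a).1.1 = a := rfl
@[simp] theorem lift_snd (hF : Fintype.card F = 16) (a : F) : (lift hF a).1.2 = sol hF a := rfl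

section
variable [hF16 : IsF16 F]

theorem mem_center_iff (hF : Fintype.card F = 16) (p : U F) :
    p ∈ Subgroup.center (U F) ↔ p.1.1 = 0 := by
  have h2 := hF16.two
  constructor
  · intro hp
    rw [Subgroup.mem_center_iff] at hp
    have h1 := congrArg (fun x : U F => x.1.2) (hp (lift hF 1))
    simp only [mul_snd, lift_fst, lift_snd] at h1
    have ha4 : p.1.1 ^ 4 = p.1.1 := by linear_combination (-1 : F) * h1
    obtain ⟨ω, hω⟩ := Cfsg.Agent.Helper8.GUOrder.exists_not_fixed (hK_of hF)
    have h3 := congrArg (fun x : U F => x.1.2) (hp (lift hF ω))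
    simp only [mul_snd, lift_fst, lift_snd] at h3
    rw [ha4] at h3
    have h4 : p.1.1 * (ω ^ 4 - ω) = 0 := by linear_combination h3
    rcases mul_eq_zero.mp h4 with h | h
    · exact h
    · exact absurd (by linear_combination h) hω
  · intro hp
    rw [Subgroup.mem_center_iff]
    intro g
    apply U.ext
    · simp only [mul_fst]; ring
    · simp only [mul_snd, hp]; ring

/-- The group has order 64. -/
theorem card_U (hF : Fintype.card F = 16) : Nat.card (U F) = 64 := by
  have h2 := hF16.two
  let e : U F ≃ F × {z : F // z ^ 4 = z} :=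
    { toFun := fun p => (p.1.1, ⟨p.1.2 + sol hF p.1.1, by
        have hc := p.2
        have hs := sol_spec hF p.1.1
        generalize sol hF p.1.1 = s at hs ⊢
        obtain ⟨⟨a, c⟩, hc'⟩ := p
        simp only at hc hs ⊢
        linear_combination ((1)*a^5 + (-1)*c + (2)*c*s^3 + (3)*c^2*s^2 + (2)*c^3*s + (-1)*s) * h2 + (1) * hc + (1) * hs⟩)
      invFun := fun x => ⟨(x.1, x.2.1 + sol hF x.1), by
        have hz := x.2.2
        have hs := sol_spec hF x.1
        generalize sol hF x.1 = s at hs ⊢
        obtain ⟨a, ⟨z, hz'⟩⟩ := x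
        simp only at hz hs ⊢
        linear_combination ((2)*s*z^3 + (3)*s^2*z^2 + (2)*s^3*z + (1)*z) * h2 + (1) * hz + (1) * hs⟩
      left_inv := by
        intro p
        apply U.ext
        · rfl
        · change p.1.2 + sol hF p.1.1 + sol hF p.1.1 = p.1.2
          rw [add_assoc, add_self, add_zero]
      right_inv := by
        intro x
        apply Prod.ext
        · rfl
        · apply Subtype.ext
          change x.2.1 + sol hF x.1 + sol hF x.1 = x.2.1
          rw [add_assoc, add_self, add_zero] }
  rw [Nat.card_congr e, Nat.card_prod, Nat.card_eq_fintype_card, hF,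
    Cfsg.Agent.Helper8.UnitaryLines.card_fixed (hK_of hF)]

theorem card_center (hF : Fintype.card F = 16) : Nat.card (Subgroup.center (U F)) = 4 := by
  have h2 := hF16.two
  let e : Subgroup.center (U F) ≃ {z : F // z ^ 4 = z} :=
    { toFun := fun p => ⟨p.1.1.2, by
        have h0 := (mem_center_iff hF p.1).mp p.2
        have hc := p.1.2
        rw [h0] at hc
        generalize p.1.1.2 = c at hc ⊢
        linear_combination hc - c * h2⟩
      invFun := fun z => ⟨⟨(0, z.1), by
        have hz := z.2
        generalize z.1 = c at hz ⊢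
        simp only
        linear_combination hz + c * h2⟩, (mem_center_iff hF _).mpr rfl⟩
      left_inv := by
        intro p
        apply Subtype.ext
        apply U.ext
        · exact ((mem_center_iff hF p.1).mp p.2).symm
        · rfl
      right_inv := by
        intro z
        rfl }
  rw [Nat.card_congr e, Cfsg.Agent.Helper8.UnitaryLines.card_fixed (hK_of hF)]

theorem isU34_U (hF : Fintype.card F = 16) : IsU34 (U F) := by
  have h2 := hF16.two
  refine ⟨card_U hF, card_center hF, ?_, ?_, ?_, ?_, ?_⟩
  · intro z hz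
    have h0 := (mem_center_iff hF z).mp hz
    apply U.ext
    · rw [sq_fst]; rfl
    · rw [pow_two, mul_snd, h0]
      change z.1.2 + z.1.2 + 0 ^ 4 * 0 = 0
      rw [add_self]; ring
  · intro x hx
    rw [mem_center_iff hF]
    have h1 : x ^ 2 = 1 := by rw [← hx]; exact pow_orderOf_eq_one x
    have h3 := congrArg (fun y : U F => y.1.2) h1
    rw [pow_two] at h3
    simp only [mul_snd, one_snd] at h3
    rw [add_self, zero_add] at h3
    have h5 : x.1.1 ^ 5 = 0 := by linear_combination h3
    exact pow_eq_zero_iff (by norm_num) |>.mp h5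
  · intro x y
    rw [mem_center_iff hF]
    exact commutator_fst x y
  · intro z hz
    have h0 := (mem_center_iff hF z).mp hz
    have hd : z.1.2 ^ 4 = z.1.2 := by
      have hc := z.2
      rw [h0] at hc
      linear_combination hc - z.1.2 * h2
    obtain ⟨b, hb⟩ := Cfsg.Agent.Helper8.UnitaryLines.exists_trace (hK_of hF) hd
    refine ⟨lift hF 1, lift hF b, ?_⟩
    have hxy : lift hF 1 * lift hF b = lift hF b * lift hF 1 * z := by
      apply U.ext
      · simp only [mul_fst, lift_fst, h0]; ring
      · simp only [mul_snd, mul_fst, lift_fst, lift_snd, h0]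
        linear_combination (-(b ^ 4)) * h2 + hb
    have hcomm := Subgroup.mem_center_iff.mp hz
    rw [commutatorElement_def, hxy, hcomm (lift hF b * lift hF 1)]
    group
  · intro x
    rw [mem_center_iff hF]
    exact sq_fst x

end

end Cfsg.Agent.Helper2.U34
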