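import Mathlib
import Cfsg.Agent.Helper2.U34B

set_option autoImplicit false

/-!
Transport of the abstract `U₃(4)`-Sylow properties along isomorphisms, and their consequences.
-/

namespace Cfsg.Agent.Helper2.U34

open scoped commutatorElement

theorem mem_center_equiv {A B : Type*} [Group A] [Group B] (e : A ≃* B) (z : A) :
    e z ∈ Subgroup.center B ↔ z ∈ Subgroup.center A := by
  rw [Subgroup.mem_center_iff, Subgroup.mem_center_iff]
  constructor
  · intro h g
    apply e.injective
    rw [map_mul, map_mul]
    exact h (e g)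
  · intro h b
    obtain ⟨g, rfl⟩ := e.surjective b
    rw [← map_mul, ← map_mul, h g]

theorem isU34_of_equiv {A B : Type*} [Group A] [Group B] (e : A ≃* B) (h : IsU34 B) : IsU34 A := by
  obtain ⟨h1, h2, h3, h4, h5, h6, h7⟩ := h
  refine ⟨?_, ?_, ?_, ?_, ?_, ?_, ?_⟩
  · rw [Nat.card_congr e.toEquiv, h1]
  · rw [← h2]
    exact Nat.card_congr (Equiv.subtypeEquiv e.toEquiv (fun z => (mem_center_equiv e z).symm))
  · intro z hz
    have := h3 (e z) ((mem_center_equiv e z).mpr hz)
    rw [← map_pow] at this
    exact (map_eq_one_iff e e.injective).mp this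
  · intro x hx
    rw [← mem_center_equiv e]
    apply h4
    rw [MulEquiv.orderOf_eq, hx]
  · intro x y
    rw [← mem_center_equiv e, map_commutatorElement]
    exact h5 _ _
  · intro z hz
    obtain ⟨x, y, hxy⟩ := h6 (e z) ((mem_center_equiv e z).mpr hz)
    refine ⟨e.symm x, e.symm y, ?_⟩
    apply e.injective
    rw [map_commutatorElement, MulEquiv.apply_symm_apply, MulEquiv.apply_symm_apply, hxy]
  · intro x
    rw [← mem_center_equiv e, map_pow]
    exact h7 _

theorem final {G : Type*} [Group G] (h : IsU34 G) :
    Nat.card G = 64 ∧ IsKleinFour (Subgroup.center G) ∧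
      Subgroup.center G = Subgroup.closure {x : G | orderOf x = 2} ∧
      Subgroup.center G = commutator G ∧ Nat.card (G ⧸ Subgroup.center G) = 16 ∧
      ∀ x : G ⧸ Subgroup.center G, x ^ 2 = 1 := by
  obtain ⟨h1, h2, h3, h4, h5, h6, h7⟩ := h
  refine ⟨h1, ?_, ?_, ?_, ?_, ?_⟩
  · refine ⟨h2, ?_⟩
    have hdvd : Monoid.exponent (Subgroup.center G) ∣ 2 := by
      apply Monoid.exponent_dvd_of_forall_pow_eq_one
      intro z
      apply Subtype.ext
      rw [Subgroup.coe_pow, Subgroup.coe_one]
      exact h3 z.1 z.2
    rcases (Nat.dvd_prime Nat.prime_two).mp hdvd with h | h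
    · exfalso
      have hs : Subsingleton (Subgroup.center G) := Monoid.exp_eq_one_iff.mp h
      have : Nat.card (Subgroup.center G) = 1 := Nat.card_unique
      omega
    · exact h
  · apply le_antisymm
    · intro z hz
      by_cases hz1 : z = 1
      · rw [hz1]; exact Subgroup.one_mem _
      · apply Subgroup.subset_closure
        exact orderOf_eq_prime (h3 z hz) hz1
    · rw [Subgroup.closure_le]
      intro x hx
      exact h4 x hx
  · apply le_antisymm
    · intro z hz
      obtain ⟨x, y, hxy⟩ := h6 z hz
      rw [← hxy]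
      exact Subgroup.commutator_mem_commutator (Subgroup.mem_top x) (Subgroup.mem_top y)
    · rw [commutator_def, Subgroup.commutator_le]
      intro x _ y _
      exact h5 x y
  · have := Subgroup.card_eq_card_quotient_mul_card_subgroup (Subgroup.center G)
    rw [h1, h2] at this
    omega
  · intro x
    induction x using QuotientGroup.induction_on with
    | H g =>
      rw [← QuotientGroup.mk_pow, QuotientGroup.eq_one_iff]
      exact h7 g

end Cfsg.Agent.Helper2.U34
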