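import Mathlib
import Cfsg.Prelude.Def_Classical
import Cfsg.Agent.Helper2.U34C
import Cfsg.Agent.Helper8.SUCenter

set_option autoImplicit false

/-!
The embedding of the abstract group into `SU₃(4)`.
-/

namespace Cfsg.Agent.Helper2.U34

open Matrix

variable {F : Type*} [Field F]

/-- The matrix of the element `(a, c)`. -/
def Mat (a c : F) : Matrix (Fin 3) (Fin 3) F := !![1 + c, c, a ^ 4; c, 1 + c, a ^ 4; a, a, 1]

section
variable [hF16 : IsF16 F]

theorem Mat_unitary {a c : F} (hc : c + c ^ 4 = a ^ 5) :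
    (Mat a c)ᵀ * (Mat a c).map (· ^ 4) = 1 := by
  have h2 := hF16.two
  have ha := hF16.pow16 a
  ext i j
  fin_cases i <;> fin_cases j <;> simp [Mat, Matrix.mul_apply, Fin.sum_univ_three]
  · linear_combination ((1)*a^5 + (2)*c + (5)*c^2 + (5)*c^3 + (2)*c^4 + (1)*c^5) * h2 + hc
  · linear_combination ((1)*a^5 + (2)*c^2 + (3)*c^3 + (2)*c^4 + (1)*c^5) * h2 + hc
  · linear_combination ((1)*a + (1)*a^16*c) * h2 + ha
  · linear_combination ((1)*a^5 + (2)*c^2 + (3)*c^3 + (2)*c^4 + (1)*c^5) * h2 + hc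
  · linear_combination ((1)*a^5 + (2)*c + (5)*c^2 + (5)*c^3 + (2)*c^4 + (1)*c^5) * h2 + hc
  · linear_combination ((1)*a + (1)*a^16*c) * h2 + ha
  · linear_combination ((1)*a^4 + (2)*a^4*c + (3)*a^4*c^2 + (2)*a^4*c^3 + (1)*a^4*c^4) * h2
  · linear_combination ((1)*a^4 + (2)*a^4*c + (3)*a^4*c^2 + (2)*a^4*c^3 + (1)*a^4*c^4) * h2
  · linear_combination (a^20) * h2

theorem Mat_det (a c : F) : (Mat a c).det = 1 := by
  have h2 := hF16.two
  rw [Matrix.det_fin_three]
  simp [Mat]
  linear_combination ((-1)*a^5 + (1)*c) * h2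

theorem Mat_mul (a c a' c' : F) : Mat a c * Mat a' c' = Mat (a + a') (c + c' + a ^ 4 * a') := by
  have h2 := hF16.two
  ext i j
  fin_cases i <;> fin_cases j <;> simp [Mat, Matrix.mul_apply, Fin.sum_univ_three]
  · linear_combination ((1)*c*c') * h2
  · linear_combination ((1)*c*c') * h2
  · linear_combination ((-2)*a*a'^3 + (-3)*a^2*a'^2 + (-2)*a^3*a' + (1)*a'^4*c) * h2
  · linear_combination ((1)*c*c') * h2
  · linear_combination ((1)*c*c') * h2
  · linear_combination ((-2)*a*a'^3 + (-3)*a^2*a'^2 + (-2)*a^3*a' + (1)*a'^4*c) * h2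
  · linear_combination ((1)*a*c') * h2
  · linear_combination ((1)*a*c') * h2
  · linear_combination ((1)*a*a'^4) * h2

end

theorem Mat_injective {a c a' c' : F} (h : Mat a c = Mat a' c') : a = a' ∧ c = c' := by
  constructor
  · have := congrFun (congrFun h 2) 0
    simpa [Mat] using this
  · have := congrFun (congrFun h 0) 1
    simpa [Mat] using this

variable [Fintype F]

/-- The embedding into `SU₃(4)`. -/
noncomputable def iota (hF : Fintype.card F = 16) :
    haveI := isF16_of_card hF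
    U F →* Cfsg.SU 3 F 4 :=
  haveI := isF16_of_card hF
  MonoidHom.mk' (fun p => Cfsg.Agent.Helper8.SUCenter.mkSU (hK_of hF) (Mat p.1.1 p.1.2)
      (Mat_unitary p.2) (Mat_det _ _)) (by
    intro p q
    apply Subtype.ext
    apply Subtype.ext
    exact (Mat_mul p.1.1 p.1.2 q.1.1 q.1.2).symm)

theorem iota_injective (hF : Fintype.card F = 16) :
    haveI := isF16_of_card hF
    Function.Injective (iota hF) := by
  haveI := isF16_of_card hF
  intro p q h
  have h1 : Mat p.1.1 p.1.2 = Mat q.1.1 q.1.2 := by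
    have := congrArg (fun x : Cfsg.SU 3 F 4 =>
      ((x : Matrix.SpecialLinearGroup (Fin 3) F) : Matrix (Fin 3) (Fin 3) F)) h
    exact this
  obtain ⟨h2, h3⟩ := Mat_injective h1
  exact U.ext h2 h3

end Cfsg.Agent.Helper2.U34
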