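import Mathlib
import Cfsg.Prelude.Def_Classical
import Cfsg.Agent.Helper2.U34D
import Cfsg.Agent.Helper8.SUCenter
import Cfsg.Agent.Helper8.GUOrder

set_option autoImplicit false

/-!
The Sylow 2-subgroups of `PSU₃(4)`.
-/

namespace Cfsg.Agent.Helper2.U34

open Matrix

variable {F : Type*} [Field F] [Fintype F]

theorem card_SU34 (hF : Fintype.card F = 16) : Nat.card (Cfsg.SU 3 F 4) = 62400 := by
  have h1 := Cfsg.Agent.Helper8.GUOrder.card_SU (n := 3) (hK_of hF) (by norm_num)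
  rw [Cfsg.Agent.Helper8.GUOrder.card_GU (hK_of hF) 3] at h1
  have h2 : (4 ^ (3 * (3 - 1) / 2) *
      ∏ i ∈ Finset.range 3, (if Even i then 4 ^ (i + 1) + 1 else 4 ^ (i + 1) - 1) : ℕ) = 312000 := by
    decide
  rw [h2] at h1
  omega

theorem center_SU34 (hF : Fintype.card F = 16) : Subgroup.center (Cfsg.SU 3 F 4) = ⊥ := by
  apply Subgroup.eq_bot_of_card_eq
  rw [Cfsg.Agent.Helper8.SUCenter.card_center (hK_of hF) (by norm_num)]
  norm_num

theorem mk_injective (hF : Fintype.card F = 16) :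
    Function.Injective (QuotientGroup.mk' (Subgroup.center (Cfsg.SU 3 F 4))) := by
  rw [← MonoidHom.ker_eq_bot_iff, QuotientGroup.ker_mk', center_SU34 hF]

theorem card_PSU34 (hF : Fintype.card F = 16) : Nat.card (Cfsg.PSU 3 F 4) = 62400 := by
  rw [← card_SU34 hF]
  exact (Nat.card_congr (Equiv.ofBijective _
    ⟨mk_injective hF, QuotientGroup.mk'_surjective _⟩)).symm

theorem main (hF : Fintype.card F = 16) (S : Sylow 2 (Cfsg.PSU 3 F 4)) :
    IsU34 ↥(S : Subgroup (Cfsg.PSU 3 F 4)) := by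
  haveI := isF16_of_card hF
  have hfin : Finite (Cfsg.PSU 3 F 4) := Nat.finite_of_card_ne_zero (by rw [card_PSU34 hF]; norm_num)
  let f : U F →* Cfsg.PSU 3 F 4 :=
    (QuotientGroup.mk' (Subgroup.center (Cfsg.SU 3 F 4))).comp (iota hF)
  have hf : Function.Injective f := (mk_injective hF).comp (iota_injective hF)
  let e₁ : U F ≃* f.range := MonoidHom.ofInjective hf
  have hcardV : Nat.card f.range = 64 := by
    rw [← Nat.card_congr e₁.toEquiv, card_U hF]
  have hpV : IsPGroup 2 f.range := IsPGroup.of_card (n := 6) (by rw [hcardV]; norm_num)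
  obtain ⟨P, hVP⟩ := hpV.exists_le_sylow
  have hcardP : ∀ Q : Sylow 2 (Cfsg.PSU 3 F 4), Nat.card Q = 64 := by
    intro Q
    rw [Sylow.card_eq_multiplicity, card_PSU34 hF]
    have h62400 : (62400 : ℕ) = 2 ^ 6 * 975 := by norm_num
    rw [h62400, Nat.factorization_mul (by norm_num) (by norm_num), Finsupp.add_apply,
      Nat.Prime.factorization_pow Nat.prime_two, Finsupp.single_eq_same,
      Nat.factorization_eq_zero_of_not_dvd (by norm_num)]
    norm_num
  have hVP' : f.range = (P : Subgroup (Cfsg.PSU 3 F 4)) :=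
    Subgroup.eq_of_le_of_card_ge hVP (by rw [hcardV]; exact (hcardP P).le)
  obtain ⟨g, hg⟩ := MulAction.exists_smul_eq (Cfsg.PSU 3 F 4) P S
  let e₂ : f.range ≃* (P : Subgroup (Cfsg.PSU 3 F 4)) := MulEquiv.subgroupCongr hVP'
  let e₃ : (P : Subgroup (Cfsg.PSU 3 F 4)) ≃* ((g • P : Sylow 2 (Cfsg.PSU 3 F 4)) :
      Subgroup (Cfsg.PSU 3 F 4)) := Sylow.equivSMul P g
  let e₄ : ((g • P : Sylow 2 (Cfsg.PSU 3 F 4)) : Subgroup (Cfsg.PSU 3 F 4)) ≃*
      (S : Subgroup (Cfsg.PSU 3 F 4)) := MulEquiv.subgroupCongr (congrArg Sylow.toSubgroup hg)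
  exact isU34_of_equiv (((e₁.trans e₂).trans e₃).trans e₄).symm (isU34_U hF)

end Cfsg.Agent.Helper2.U34
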