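import Mathlib
import Cfsg.Prelude.Def_TwoFusion
import Cfsg.Prelude.Def_Local
import Cfsg.Prelude.Def_CaseTheorems
import Cfsg.Agent.Helper2.Invol
import Cfsg.Agent.Helper2.PComp1
import Cfsg.Agent.Helper1.Fitting2
import Cfsg.Agent.S1181
import Cfsg.Agent.S1182

set_option autoImplicit false

/-!
# Glauberman's Z*-theorem: group-theoretic preliminaries
-/

namespace Cfsg.Agent.Helper2.ZStar

open Cfsg.Agent.Helper2 Cfsg.Agent.Helper1

universe u

variable {G : Type u} [Group G]

/-- An isolated involution stays isolated in every subgroup containing it. -/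
theorem isolated_subtype {x : G} (hx : Cfsg.IsIsolatedInvolution x) (H : Subgroup G)
    (hxH : x ∈ H) : Cfsg.IsIsolatedInvolution (⟨x, hxH⟩ : H) := by
  refine ⟨?_, ?_⟩
  · rw [Subgroup.orderOf_mk]; exact hx.1
  · intro g hc
    apply Subtype.ext
    have h1 : Commute x ((g : G) * x * (g : G)⁻¹) := by
      have := congrArg Subtype.val hc.eq
      show x * ((g : G) * x * (g : G)⁻¹) = (g : G) * x * (g : G)⁻¹ * x
      simpa using this
    simpa using hx.2 (g : G) h1

/-- An isolated involution central in a normal subgroup is central. -/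
theorem mem_center_of_isolated_of_normal {x : G} (hx : Cfsg.IsIsolatedInvolution x)
    (N : Subgroup G) [hN : N.Normal] (hxN : x ∈ N) (hc : ∀ n ∈ N, n * x = x * n) :
    x ∈ Subgroup.center G := by
  rw [Subgroup.mem_center_iff]
  intro g
  have h1 : g * x * g⁻¹ ∈ N := hN.conj_mem x hxN g
  have h2 : Commute x (g * x * g⁻¹) := (hc _ h1).symm
  have h3 := hx.2 g h2
  calc g * x = g * x * g⁻¹ * g := by group
    _ = x * g := by rw [h3]

/-- the commutator `[x, g]` of an involution is `x * (g x g⁻¹)`. -/
theorem comm_eq {x : G} (hxx : x * x = 1) (g : G) :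
    x * g * x⁻¹ * g⁻¹ = x * (g * x * g⁻¹) := by
  have : x⁻¹ = x := inv_eq_of_mul_eq_one_left hxx
  rw [this]; group

/-- If all commutators of an isolated involution with `G` are trivial it is central;
conversely. -/
theorem comm_mem_of_center {x : G} (hx : x ∈ Subgroup.center G) (K : Subgroup G) (g : G) :
    x * g * x⁻¹ * g⁻¹ ∈ K := by
  have h := Subgroup.mem_center_iff.mp hx g
  have : x * g * x⁻¹ * g⁻¹ = 1 := by
    rw [← h]; group
  rw [this]; exact K.one_mem

/-- An involution is not in the odd core. -/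
theorem not_mem_oddCore [Finite G] {x : G} (hx : orderOf x = 2) : x ∉ Cfsg.oddCore G := by
  intro h
  have h1 : (Nat.card (Cfsg.oddCore G)).Coprime 2 := card_pPrimeCore_coprime 2
  have h2 : orderOf (⟨x, h⟩ : Cfsg.oddCore G) ∣ Nat.card (Cfsg.oddCore G) := orderOf_dvd_natCard _
  rw [Subgroup.orderOf_mk, hx] at h2
  have := Nat.Coprime.eq_one_of_dvd h1.symm h2
  omega

end Cfsg.Agent.Helper2.ZStar
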