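import Mathlib
import Cfsg.Agent.Helper2.ZStarA

set_option autoImplicit false

/-!
# Glauberman's Z*-theorem: the dihedral analysis
-/

namespace Cfsg.Agent.Helper2.ZStar

open Cfsg.Agent.Helper2 Cfsg.Agent.Helper1

universe u

variable {G : Type u} [Group G]

/-- The product of an isolated involution with a non-conjugate involution has order `2 * odd`. -/
theorem orderOf_mul_eq [Finite G] {x : G} (hx : Cfsg.IsIsolatedInvolution x) {y : G}
    (hy : orderOf y = 2) (hxy : ¬ IsConj x y) : ∃ k : ℕ, orderOf (x * y) = 2 * (2 * k + 1) := by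
  have hxx : x * x = 1 := mul_self_of_orderOf_two hx.1
  have hyy : y * y = 1 := mul_self_of_orderOf_two hy
  have hpos : 0 < orderOf (x * y) := orderOf_pos _
  rcases Nat.even_or_odd' (orderOf (x * y)) with ⟨m', hm | hm⟩
  · rcases Nat.even_or_odd' m' with ⟨k, hk | hk⟩
    · exfalso
      have hpow : (x * y) ^ (2 * m') = 1 := by rw [← hm]; exact pow_orderOf_eq_one _
      have hcomm := commute_invol_mul_pow hxx hyy m' hpow
      have hconj := invol_mul_pow_even hxx hyy k
      rw [← hk] at hconj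
      rw [hconj] at hcomm
      have h1 := hx.2 _ hcomm
      rw [← hconj] at h1
      have h2 : (x * y) ^ m' = 1 := by
        have := congrArg (fun t => x * t) h1
        simpa [← mul_assoc, hxx] using this
      have hdvd : orderOf (x * y) ∣ m' := orderOf_dvd_of_pow_eq_one h2
      rw [hm] at hdvd hpos
      have hm'pos : 0 < m' := by omega
      have := Nat.le_of_dvd hm'pos hdvd
      omega
    · exact ⟨k, by rw [hm, hk]⟩
  · exfalso
    apply hxy
    have hpow : (x * y) ^ (2 * m' + 1) = 1 := by rw [← hm]; exact pow_orderOf_eq_one _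
    have := conj_of_pow_odd hxx hyy m' hpow
    exact isConj_iff.mpr ⟨_, this⟩

/-- The dihedral decomposition of `x * y`. -/
theorem exists_decomp [Finite G] {x : G} (hx : Cfsg.IsIsolatedInvolution x) {y : G}
    (hy : orderOf y = 2) (hxy : ¬ IsConj x y) :
    ∃ (z : G) (j : ℕ) (w : G), orderOf z = 2 ∧ Commute z x ∧ Commute z y ∧
      x * y = z * (x * y * x⁻¹ * y⁻¹) ^ j ∧ x * z = w * y * w⁻¹ := by
  have hxx : x * x = 1 := mul_self_of_orderOf_two hx.1
  have hyy : y * y = 1 := mul_self_of_orderOf_two hy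
  have hxi : x⁻¹ = x := inv_eq_of_mul_eq_one_left hxx
  have hyi : y⁻¹ = y := inv_eq_of_mul_eq_one_left hyy
  obtain ⟨k, hk⟩ := orderOf_mul_eq hx hy hxy
  set g := x * y with hg
  set n := 2 * k + 1 with hn
  have hg2n : g ^ (2 * n) = 1 := by rw [← hk]; exact pow_orderOf_eq_one _
  have hzz : g ^ n * g ^ n = 1 := by rw [← pow_add, ← two_mul]; exact hg2n
  have hz1 : g ^ n ≠ 1 := by
    apply pow_ne_one_of_lt_orderOf (by omega)
    rw [hk]; omega
  have hzi : (g ^ n)⁻¹ = g ^ n := inv_eq_of_mul_eq_one_left hzz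
  have hzx : Commute (g ^ n) x := by
    show g ^ n * x = x * g ^ n
    rw [hg, pow_mul_invol hxx n]
    congr 1
    rw [← inv_mul_invol hxx hyy, inv_pow, ← hg, hzi]
  have hzg : Commute (g ^ n) g := (Commute.refl g).pow_left n
  have hyxg : y = x * g := by rw [hg, ← mul_assoc, hxx, one_mul]
  refine ⟨g ^ n, k + 1, (y * x) ^ k, orderOf_two_of_mul_self hzz hz1, hzx, ?_, ?_, ?_⟩
  · rw [hyxg]; exact hzx.mul_right hzg
  · have e : x * y * x⁻¹ * y⁻¹ = g ^ 2 := by
      rw [hxi, hyi, hg, pow_two]; group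
    rw [e, ← pow_mul, ← pow_add]
    have : n + 2 * (k + 1) = 2 * n + 1 := by omega
    rw [this, pow_succ, hg2n, one_mul]
  · rw [hg, hn]; exact invol_mul_pow_odd hxx hyy k

/-- The central involution of the dihedral group is conjugate to `x * y`. -/
theorem conj_mul [Finite G] {x : G} (hx : Cfsg.IsIsolatedInvolution x) {y : G}
    (hc : Commute x y) {y₂ : G} (a : G) (hy₂ : y₂ = a * y * a⁻¹) {z w : G} (hzx : Commute z x)
    (hw : x * z = w * y₂ * w⁻¹) : ∃ c : G, z = c * (x * y) * c⁻¹ := by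
  have hxx : x * x = 1 := mul_self_of_orderOf_two hx.1
  have hconj : (w * a) * y * (w * a)⁻¹ = x * z := by
    rw [hw, hy₂]; group
  have hcomm : Commute (x * z) x := by
    show x * z * x = x * (x * z)
    rw [mul_assoc, hzx.eq]
  obtain ⟨c, -, hcx, hcy⟩ := Cfsg.Agent.S1182.result x hx ⊤
    (by rw [Subgroup.normalizer_eq_top]; exact Subgroup.mem_top _) y (x * z)
    (Subgroup.mem_top _) (Subgroup.mem_top _) hc.symm hcomm (w * a) (Subgroup.mem_top _) hconj
  refine ⟨c, ?_⟩
  have h1 : z = x * (x * z) := by rw [← mul_assoc, hxx, one_mul]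
  rw [h1, ← hcy]
  have := hcx.eq
  calc x * (c * y * c⁻¹) = (x * c) * y * c⁻¹ := by group
    _ = (c * x) * y * c⁻¹ := by rw [this]
    _ = c * (x * y) * c⁻¹ := by group

/-- Under the inductive hypothesis in `C_G(z)`, the odd part lies in `O(C_G(z))`. -/
theorem pow_comm_mem_core {x y z : G} (hzx : Commute z x) (hzy : Commute z y)
    (hIH : ∀ (a b : ↥(Subgroup.centralizer ({z} : Set G))), (a : G) = x →
      a * b * a⁻¹ * b⁻¹ ∈ Cfsg.oddCore ↥(Subgroup.centralizer ({z} : Set G))) (j : ℕ) :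
    (x * y * x⁻¹ * y⁻¹) ^ j ∈ Cfsg.centralizerPPrimeCore 2 z := by
  have hxC : x ∈ Subgroup.centralizer ({z} : Set G) := by
    rw [Subgroup.mem_centralizer_singleton_iff]; exact hzx.eq.symm
  have hyC : y ∈ Subgroup.centralizer ({z} : Set G) := by
    rw [Subgroup.mem_centralizer_singleton_iff]; exact hzy.eq.symm
  apply Subgroup.pow_mem
  have := hIH ⟨x, hxC⟩ ⟨y, hyC⟩ rfl
  exact ⟨_, this, rfl⟩

end Cfsg.Agent.Helper2.ZStar
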