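import Mathlib
import Cfsg.Prelude.Def_Characters
import Cfsg.Prelude.Def_Blocks
import Cfsg.Agent.Helper2.ZStarB
import Cfsg.Agent.Helper6.BrauerAppD
import Cfsg.Agent.Helper6.BlockKernel
import Cfsg.Agent.Helper6.PrincipalDefect
import Cfsg.Agent.Helper6.HeightZeroTrunc
import Cfsg.Agent.S0942
import Cfsg.Agent.Helper6.StructConst

set_option autoImplicit false

/-!
# Glauberman's Z*-theorem: the character-theoretic step
-/

namespace Cfsg.Agent.Helper2.ZStar

open Cfsg.Agent.Helper2 Cfsg.Agent.Helper1 Cfsg.Agent.Helper6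
open scoped ComplexConjugate

universe u

variable {G : Type u} [Group G]

/-- The inductive hypothesis in the centralizers of involutions. -/
def LocalHyp (G : Type u) [Group G] : Prop :=
  ∀ z : G, orderOf z = 2 → ∀ a b : ↥(Subgroup.centralizer ({z} : Set G)),
    Cfsg.IsIsolatedInvolution a →
      a * b * a⁻¹ * b⁻¹ ∈ Cfsg.oddCore ↥(Subgroup.centralizer ({z} : Set G))

variable [Finite G] {M : Ideal Cfsg.AlgInt}

theorem not_isConj_of_commute {x : G} (hx : Cfsg.IsIsolatedInvolution x) {y : G}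
    (hc : Commute x y) (hne : y ≠ x) : ¬ IsConj x y := by
  intro h
  obtain ⟨c, hc'⟩ := isConj_iff.mp h
  apply hne
  rw [← hc']
  exact hx.2 c (hc' ▸ hc)

theorem char_mul_conj (hM : Cfsg.IsPModular 2 M) (hL : LocalHyp G) {x : G}
    (hx : Cfsg.IsIsolatedInvolution x) {y : G} (hy : orderOf y = 2) (hc : Commute x y)
    (hne : y ≠ x) (χ : Cfsg.IrrCharacter G) (hχ : χ ∈ Cfsg.principalBlock M G) (y₂ : G)
    (h : IsConj y y₂) : (χ : G → ℂ) (x * y₂) = (χ : G → ℂ) (x * y) := by
  obtain ⟨a, ha⟩ := isConj_iff.mp h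
  have hy₂ : orderOf y₂ = 2 := by
    rw [← ha]
    have : a * y * a⁻¹ = MulAut.conj a y := rfl
    rw [this, MulEquiv.orderOf_eq]; exact hy
  have hnc : ¬ IsConj x y₂ := fun h' =>
    not_isConj_of_commute hx hc hne (h'.trans h.symm)
  obtain ⟨z, j, w, hz, hzx, hzy, hdec, hw⟩ := exists_decomp hx hy₂ hnc
  obtain ⟨c, hc'⟩ := conj_mul hx hc a ha.symm hzx hw
  have hcore := pow_comm_mem_core hzx hzy (fun a' b' ha' => by
    apply hL z hz a' b'
    have hxC : x ∈ Subgroup.centralizer ({z} : Set G) := by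
      rw [Subgroup.mem_centralizer_singleton_iff]; exact hzx.eq.symm
    have : a' = ⟨x, hxC⟩ := Subtype.ext ha'
    rw [this]
    exact isolated_subtype hx _ hxC) j
  haveI : Fact (Nat.Prime 2) := ⟨Nat.prime_two⟩
  have h1 := Cfsg.Agent.S0942.result 2 M hM z ⟨1, by rw [hz, pow_one]⟩ _ hcore χ hχ
  rw [← hdec] at h1
  rw [h1, hc']
  exact (IsCharacter.isClassFunction (IsIrrCharacter.isCharacter χ.2)) (x * y) c

/-- Class multiplication: if `χ (x' * y')` is constant on `class u × class v` then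
`χ u * χ v = χ 1 * χ (u * v)`. -/
theorem char_mul_of_const (χ : Cfsg.IrrCharacter G) (u v : G)
    (hc : ∀ x y : G, IsConj u x → IsConj v y → (χ : G → ℂ) (x * y) = (χ : G → ℂ) (u * v)) :
    (χ : G → ℂ) u * (χ : G → ℂ) v = (χ : G → ℂ) 1 * (χ : G → ℂ) (u * v) := by
  classical
  haveI : Fintype G := Fintype.ofFinite G
  have hχ1 : (χ : G → ℂ) 1 ≠ 0 := IsIrrCharacter.apply_one_ne_zero χ.2
  have h1 : ∑ y ∈ classFinset v, ∑ x ∈ classFinset u, (χ : G → ℂ) (x * y) =
      Cfsg.centralChar (χ : G → ℂ) u *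
        (((Subgroup.centralizer ({v} : Set G)).index : ℂ) * (χ : G → ℂ) v) := by
    simp only [sum_classFinset_char_mul]
    rw [← Finset.mul_sum, sum_classFinset_char]
  have h2 : ∑ y ∈ classFinset v, ∑ x ∈ classFinset u, (χ : G → ℂ) (x * y) =
      ((Subgroup.centralizer ({v} : Set G)).index : ℂ) *
        (((Subgroup.centralizer ({u} : Set G)).index : ℂ) * (χ : G → ℂ) (u * v)) := by
    have : ∀ y ∈ classFinset v, ∑ x ∈ classFinset u, (χ : G → ℂ) (x * y) =
        ((Subgroup.centralizer ({u} : Set G)).index : ℂ) * (χ : G → ℂ) (u * v) := by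
      intro y hy
      rw [mem_classFinset] at hy
      rw [← card_classFinset, ← nsmul_eq_mul, ← Finset.sum_const]
      apply Finset.sum_congr rfl
      intro x hx
      rw [mem_classFinset] at hx
      exact hc x y hx hy
    rw [Finset.sum_congr rfl this, Finset.sum_const, nsmul_eq_mul, card_classFinset]
  rw [h1] at h2
  unfold Cfsg.centralChar at h2
  have hu0 : ((Subgroup.centralizer ({u} : Set G)).index : ℂ) ≠ 0 := by
    have : (Subgroup.centralizer ({u} : Set G)).index ≠ 0 := Subgroup.index_ne_zero_of_finite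
    exact_mod_cast this
  have hv0 : ((Subgroup.centralizer ({v} : Set G)).index : ℂ) ≠ 0 := by
    have : (Subgroup.centralizer ({v} : Set G)).index ≠ 0 := Subgroup.index_ne_zero_of_finite
    exact_mod_cast this
  field_simp at h2
  linear_combination h2

theorem char_mul_eq (hM : Cfsg.IsPModular 2 M) (hL : LocalHyp G) {x : G}
    (hx : Cfsg.IsIsolatedInvolution x) {y : G} (hy : orderOf y = 2) (hc : Commute x y)
    (hne : y ≠ x) (χ : Cfsg.IrrCharacter G) (hχ : χ ∈ Cfsg.principalBlock M G) :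
    (χ : G → ℂ) x * (χ : G → ℂ) y = (χ : G → ℂ) 1 * (χ : G → ℂ) (x * y) := by
  apply char_mul_of_const χ x y
  intro x' y' hx' hy'
  obtain ⟨a, ha⟩ := isConj_iff.mp hx'
  have hcf := IsCharacter.isClassFunction (IsIrrCharacter.isCharacter χ.2)
  have h1 : (χ : G → ℂ) (x' * y') = (χ : G → ℂ) (x * (a⁻¹ * y' * a)) := by
    rw [← hcf (x' * y') a⁻¹, ← ha]
    congr 1
    group
  rw [h1]
  apply char_mul_conj hM hL hx hy hc hne χ hχ
  have : IsConj y' (a⁻¹ * y' * a) := isConj_iff.mpr ⟨a⁻¹, by rw [inv_inv]⟩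
  exact hy'.trans this

theorem char_trichotomy (hM : Cfsg.IsPModular 2 M) (hL : LocalHyp G) {x : G}
    (hx : Cfsg.IsIsolatedInvolution x) {y : G} (hy : orderOf y = 2) (hc : Commute x y)
    (hne : y ≠ x) (χ : Cfsg.IrrCharacter G) (hχ : χ ∈ Cfsg.principalBlock M G) :
    (χ : G → ℂ) y = 0 ∨ (χ : G → ℂ) x = (χ : G → ℂ) 1 ∨ (χ : G → ℂ) x = -(χ : G → ℂ) 1 := by
  have hxx : x * x = 1 := mul_self_of_orderOf_two hx.1
  have hyy : y * y = 1 := mul_self_of_orderOf_two hy
  have e1 := char_mul_eq hM hL hx hy hc hne χ hχ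
  have hxy2 : orderOf (x * y) = 2 := by
    apply orderOf_two_of_mul_self
    · calc x * y * (x * y) = x * (y * x) * y := by group
        _ = x * (x * y) * y := by rw [hc.eq]
        _ = (x * x) * (y * y) := by group
        _ = 1 := by rw [hxx, hyy, one_mul]
    · intro h
      have : y = x := by
        have h2 : x * y = x * x := by rw [h, hxx]
        exact mul_left_cancel h2
      exact hne this
  have hcxy : Commute x (x * y) := by
    show x * (x * y) = x * y * x
    rw [mul_assoc, hc.eq]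
  have hnexy : x * y ≠ x := by
    intro h
    have : y = 1 := by
      have h2 : x * y = x * 1 := by rw [h, mul_one]
      exact mul_left_cancel h2
    rw [this, orderOf_one] at hy
    omega
  have e2 := char_mul_eq hM hL hx hxy2 hcxy hnexy χ hχ
  have e3 : x * (x * y) = y := by rw [← mul_assoc, hxx, one_mul]
  rw [e3] at e2
  have key : ((χ : G → ℂ) x - (χ : G → ℂ) 1) * ((χ : G → ℂ) x + (χ : G → ℂ) 1) *
      (χ : G → ℂ) y = 0 := by
    have : (χ : G → ℂ) x * ((χ : G → ℂ) x * (χ : G → ℂ) y) =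
        (χ : G → ℂ) 1 * ((χ : G → ℂ) 1 * (χ : G → ℂ) y) := by
      rw [e1, ← e2]; ring
    linear_combination this
  rcases mul_eq_zero.mp key with h | h
  · rcases mul_eq_zero.mp h with h | h
    · right; left; exact sub_eq_zero.mp h
    · right; right; exact eq_neg_of_add_eq_zero_left h
  · left; exact h

open Classical in
/-- The key consequence: a nonprincipal character of the principal block with `x` in its
kernel. -/
theorem exists_char (hM : Cfsg.IsPModular 2 M) (hL : LocalHyp G) {x : G}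
    (hx : Cfsg.IsIsolatedInvolution x) {y : G} (hy : orderOf y = 2) (hc : Commute x y)
    (hne : y ≠ x) :
    ∃ χ : Cfsg.IrrCharacter G, χ ≠ trivIrr G ∧ (χ : G → ℂ) x = (χ : G → ℂ) 1 := by
  haveI : Fintype G := Fintype.ofFinite G
  haveI : Finite (Cfsg.IrrCharacter G) := irr_finite
  haveI : Fintype (Cfsg.IrrCharacter G) := Fintype.ofFinite _
  haveI : Fact (Nat.Prime 2) := ⟨Nat.prime_two⟩
  by_contra hcon
  push Not at hcon
  have hy1 : y ≠ 1 := by
    intro h; rw [h, orderOf_one] at hy; omega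
  have h1 := principal_section_orth hM (1 : G) y ⟨0, by simp⟩ ⟨1, by rw [hy, pow_one]⟩
  rw [if_neg (by rw [isConj_one_right]; exact hy1), finsum_mem_eq_sum_ite] at h1
  have h2 := principal_section_orth hM x y ⟨1, by rw [hx.1, pow_one]⟩ ⟨1, by rw [hy, pow_one]⟩
  rw [if_neg (not_isConj_of_commute hx hc hne), finsum_mem_eq_sum_ite] at h2
  have h3 : ∑ χ : Cfsg.IrrCharacter G, (if χ = trivIrr G then (2 : ℂ) else 0) =
      (∑ i : Cfsg.IrrCharacter G, if i ∈ Cfsg.principalBlock M G then
        (i : G → ℂ) 1 * conj ((i : G → ℂ) y) else 0) +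
      ∑ i : Cfsg.IrrCharacter G, if i ∈ Cfsg.principalBlock M G then
        (i : G → ℂ) x * conj ((i : G → ℂ) y) else 0 := by
    rw [← Finset.sum_add_distrib]
    apply Finset.sum_congr rfl
    intro χ _
    by_cases hχB : χ ∈ Cfsg.principalBlock M G
    · rw [if_pos hχB, if_pos hχB]
      by_cases ht : χ = trivIrr G
      · rw [if_pos ht, ht]
        simp [trivIrr]
        norm_num
      · rw [if_neg ht]
        rcases char_trichotomy hM hL hx hy hc hne χ hχB with h | h | h
        · rw [h]; simp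
        · exact absurd (hcon χ ht) (not_not.mpr h)
        · rw [h]; ring
    · rw [if_neg hχB, if_neg hχB]
      by_cases ht : χ = trivIrr G
      · exact absurd (ht ▸ trivIrr_mem_principalBlock hM.2.1) hχB
      · rw [if_neg ht]; simp
  rw [h1, h2, add_zero, Finset.sum_ite_eq' Finset.univ (trivIrr G) (fun _ => (2 : ℂ))] at h3
  simp at h3

/-- A proper normal subgroup containing `x`. -/
theorem exists_normal (hM : Cfsg.IsPModular 2 M) (hL : LocalHyp G) {x : G}
    (hx : Cfsg.IsIsolatedInvolution x) {y : G} (hy : orderOf y = 2) (hc : Commute x y)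
    (hne : y ≠ x) : ∃ N : Subgroup G, N.Normal ∧ N ≠ ⊤ ∧ x ∈ N := by
  classical
  haveI : Fintype G := Fintype.ofFinite G
  obtain ⟨χ, hχ1, hχx⟩ := exists_char hM hL hx hy hc hne
  refine ⟨kerSub χ, kerSub_normal χ, ?_, (mem_kerSub χ x).mpr hχx⟩
  intro htop
  have hall : ∀ g : G, (χ : G → ℂ) g = (χ : G → ℂ) 1 := by
    intro g
    rw [← mem_kerSub, htop]; exact Subgroup.mem_top g
  have hne' : (χ : G → ℂ) ≠ (fun _ : G => (1 : ℂ)) := by
    intro h
    apply hχ1
    exact Subtype.ext h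
  have h0 := classInner_irr_ne χ.2 isIrrCharacter_one hne'
  unfold Cfsg.classInner at h0
  have h1 : ∑ g : G, (χ : G → ℂ) g * conj ((fun _ : G => (1 : ℂ)) g) =
      (Nat.card G : ℂ) * (χ : G → ℂ) 1 := by
    simp only [map_one, mul_one]
    rw [Finset.sum_congr rfl (fun g _ => hall g)]
    simp [Nat.card_eq_fintype_card]
  rw [h1] at h0
  have hG0 : (Nat.card G : ℂ) ≠ 0 := by
    have : 0 < Nat.card G := Nat.card_pos
    exact_mod_cast this.ne'
  have h2 : (χ : G → ℂ) 1 = 0 := by
    rw [← mul_assoc, inv_mul_cancel₀ hG0, one_mul] at h0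
    exact h0
  exact IsIrrCharacter.apply_one_ne_zero χ.2 h2

end Cfsg.Agent.Helper2.ZStar
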