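import Mathlib
import Cfsg.Agent.Helper2.ZStarC
import Cfsg.Agent.Helper5.ZStarMin2
import Cfsg.Agent.Helper6.PowCongr
import Cfsg.Agent.S0016

set_option autoImplicit false
set_option linter.style.haveILetI false

/-!
# Glauberman's Z*-theorem, modulo the Brauer–Suzuki theorem
-/

namespace Cfsg.Agent.Helper2.ZStar

open Cfsg.Agent.Helper2 Cfsg.Agent.Helper1 Cfsg.Agent.Helper6

universe u

/-- The Brauer–Suzuki theorem as a hypothesis (in a fixed universe). -/
def BSHyp : Prop := ∀ (G : Type u) [Group G] [Finite G] (S : Sylow 2 G) (n : ℕ),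
  Nonempty ((S : Subgroup G) ≃* QuaternionGroup (2 ^ (n + 1))) →
  (∀ N : Subgroup G, N.Normal → Odd (Nat.card N) → N = ⊥) → Nat.card (Subgroup.center G) = 2

variable {G : Type u} [Group G]

/-- The inductive hypothesis for proper quotients. -/
def QuotHyp (G : Type u) [Group G] : Prop :=
  ∀ (N : Subgroup G) [N.Normal], N ≠ ⊥ → ∀ a : G ⧸ N, Cfsg.IsIsolatedInvolution a →
    ∀ b : G ⧸ N, a * b * a⁻¹ * b⁻¹ ∈ Cfsg.oddCore (G ⧸ N)

/-- The inductive hypothesis for proper subgroups. -/
def SubHyp (G : Type u) [Group G] : Prop :=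
  ∀ H : Subgroup G, H ≠ ⊤ → ∀ a : H, Cfsg.IsIsolatedInvolution a →
    ∀ b : H, a * b * a⁻¹ * b⁻¹ ∈ Cfsg.oddCore H

theorem odd_normal_eq_bot [Finite G] (hO : Cfsg.oddCore G = ⊥) (N : Subgroup G) (hN : N.Normal)
    (hodd : Odd (Nat.card N)) : N = ⊥ := by
  rw [eq_bot_iff, ← hO]
  apply le_pPrimeCore hN
  have h2 : ¬ 2 ∣ Nat.card N := by
    rw [← even_iff_two_dvd]; exact Nat.not_even_iff_odd.mpr hodd
  exact ((Nat.Prime.coprime_iff_not_dvd Nat.prime_two).mpr h2).symm

/-- The case of a central involution. -/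
theorem center_of_central_invol [Finite G] (hQ : QuotHyp G) (hO : Cfsg.oddCore G = ⊥) {x : G}
    (hx : Cfsg.IsIsolatedInvolution x) {z : G} (hz : z ∈ Subgroup.center G)
    (hz2 : orderOf z = 2) : x ∈ Subgroup.center G := by
  by_cases hzx : z = x
  · rw [← hzx]; exact hz
  have hxx : x * x = 1 := mul_self_of_orderOf_two hx.1
  have hzz : z * z = 1 := mul_self_of_orderOf_two hz2
  haveI hZn : (Subgroup.zpowers z).Normal := by
    refine ⟨fun n hn g => ?_⟩
    have hnc : n ∈ Subgroup.center G := (Subgroup.zpowers_le.mpr hz) hn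
    have : g * n * g⁻¹ = n := by
      rw [Subgroup.mem_center_iff.mp hnc g, mul_inv_cancel_right]
    rw [this]; exact hn
  have hZcard : Nat.card (Subgroup.zpowers z) = 2 := by rw [Nat.card_zpowers, hz2]
  have hZne : Subgroup.zpowers z ≠ ⊥ := by
    intro h
    rw [h, Subgroup.card_bot] at hZcard
    omega
  have hmemZ : ∀ a ∈ Subgroup.zpowers z, a = 1 ∨ a = z := by
    intro a ha
    obtain ⟨k, rfl⟩ := Subgroup.mem_zpowers_iff.mp ha
    rcases Int.even_or_odd' k with ⟨m, hm | hm⟩
    · left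
      rw [hm, zpow_mul, zpow_two, hzz, one_zpow]
    · right
      rw [hm, zpow_add, zpow_mul, zpow_two, hzz, one_zpow, one_mul, zpow_one]
  have hxZ : x ∉ Subgroup.zpowers z := by
    intro h
    rcases hmemZ x h with h | h
    · exact ne_one_of_orderOf_two hx.1 h
    · exact hzx h.symm
  have hiso := (Cfsg.Agent.S1181.result x hx (Subgroup.zpowers z) hxZ).2
  have hcore : Cfsg.oddCore (G ⧸ Subgroup.zpowers z) = ⊥ := by
    haveI : Fact (Nat.Prime 2) := ⟨Nat.prime_two⟩
    have h1 := Cfsg.Agent.Helper5.comap_pPrimeCore_quotient_le (p := 2) hO (Subgroup.zpowers z)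
      (IsPGroup.of_card (n := 1) (by rw [hZcard, pow_one]))
      (fun n hn g => (Subgroup.mem_center_iff.mp ((Subgroup.zpowers_le.mpr hz) hn) g).symm)
    rw [eq_bot_iff]
    intro q hq
    obtain ⟨g, rfl⟩ := QuotientGroup.mk_surjective q
    have : g ∈ Subgroup.zpowers z := h1 hq
    rw [Subgroup.mem_bot]
    exact (QuotientGroup.eq_one_iff g).mpr this
  rw [Subgroup.mem_center_iff]
  intro g
  have h2 := hQ (Subgroup.zpowers z) hZne _ hiso (QuotientGroup.mk g)
  rw [hcore, Subgroup.mem_bot] at h2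
  have h3 : x * g * x⁻¹ * g⁻¹ ∈ Subgroup.zpowers z := by
    rw [← QuotientGroup.eq_one_iff]
    simpa using h2
  rw [comm_eq hxx] at h3
  have hodd := odd_orderOf_mul_conj_of_isolated hx g
  rcases hmemZ _ h3 with h | h
  · have h4 : x * g * x⁻¹ * g⁻¹ = 1 := by rw [comm_eq hxx]; exact h
    calc g * x = 1 * (g * x) := (one_mul _).symm
      _ = (x * g * x⁻¹ * g⁻¹) * (g * x) := by rw [h4]
      _ = x * g := by group
  · exfalso
    rw [h, hz2] at hodd
    exact (Nat.not_even_iff_odd.mpr hodd) even_two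

/-- The case of a unique involution commuting with `x`. -/
theorem center_of_unique (BS : BSHyp.{u}) [Finite G] (hO : Cfsg.oddCore G = ⊥)
    (hcz : ¬ ∃ z ∈ Subgroup.center G, orderOf z = 2) {x : G} (hx : orderOf x = 2)
    (huniq : ∀ y : G, orderOf y = 2 → Commute x y → y = x) : x ∈ Subgroup.center G := by
  haveI : Fact (Nat.Prime 2) := ⟨Nat.prime_two⟩
  have hxx : x * x = 1 := mul_self_of_orderOf_two hx
  have hxp : IsPGroup 2 (Subgroup.zpowers x) :=
    IsPGroup.of_card (n := 1) (by rw [Nat.card_zpowers, hx, pow_one])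
  obtain ⟨S, hS⟩ := hxp.exists_le_sylow
  have hxS : x ∈ (S : Subgroup G) := hS (Subgroup.mem_zpowers x)
  -- `x` is central in `S`
  haveI : Nontrivial (S : Subgroup G) :=
    ⟨⟨⟨x, hxS⟩, 1, fun h => ne_one_of_orderOf_two hx (congrArg Subtype.val h)⟩⟩
  have hxc : ∀ s ∈ (S : Subgroup G), Commute x s := by
    haveI := S.2.center_nontrivial
    obtain ⟨u, hu1⟩ := exists_ne (1 : Subgroup.center (S : Subgroup G))
    obtain ⟨k, hk⟩ := (S.2.to_subgroup (Subgroup.center _)) u
    have hk0 : orderOf u ≠ 1 := by rw [Ne, orderOf_eq_one_iff]; exact hu1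
    obtain ⟨j, hj⟩ : ∃ j, orderOf u = 2 ^ j := by
      have : orderOf u ∣ 2 ^ k := orderOf_dvd_of_pow_eq_one hk
      obtain ⟨j, -, hj⟩ := (Nat.dvd_prime_pow Nat.prime_two).mp this
      exact ⟨j, hj⟩
    have hj0 : j ≠ 0 := by rintro rfl; rw [pow_zero] at hj; exact hk0 hj
    obtain ⟨j', rfl⟩ := Nat.exists_eq_succ_of_ne_zero hj0
    have hv : orderOf (u ^ 2 ^ j') = 2 := by
      rw [orderOf_pow' u (pow_ne_zero _ two_ne_zero), hj, pow_succ, Nat.gcd_eq_right
        (Dvd.intro _ rfl), Nat.mul_div_cancel_left _ (pow_pos two_pos _)]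
    set v : Subgroup.center (S : Subgroup G) := u ^ 2 ^ j' with hvdef
    have hvG : orderOf ((v : (S : Subgroup G)) : G) = 2 := by
      rw [Subgroup.orderOf_coe, Subgroup.orderOf_coe]; exact hv
    have hvc : ∀ s : (S : Subgroup G), s * (v : (S : Subgroup G)) = (v : (S : Subgroup G)) * s :=
      fun s => (Subgroup.mem_center_iff.mp v.2 s)
    have hvx : ((v : (S : Subgroup G)) : G) = x := by
      apply huniq _ hvG
      have := congrArg Subtype.val (hvc ⟨x, hxS⟩)
      exact this
    intro s hs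
    have := congrArg Subtype.val (hvc ⟨s, hs⟩)
    rw [← hvx]
    exact this.symm
  -- unique subgroup of order 2 in `S`
  have hsub : ∀ H : Subgroup (S : Subgroup G), Nat.card H = 2 →
      H = Subgroup.zpowers (⟨x, hxS⟩ : (S : Subgroup G)) := by
    intro H hH
    haveI : Nontrivial H := by
      rw [← Finite.one_lt_card_iff_nontrivial, hH]; omega
    obtain ⟨h, hh1⟩ := exists_ne (1 : H)
    have ho : orderOf h = 2 := by
      have hd : orderOf h ∣ 2 := by
        have := orderOf_dvd_natCard h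
        rwa [hH] at this
      rcases (Nat.dvd_prime Nat.prime_two).mp hd with h1 | h2
      · exact absurd (orderOf_eq_one_iff.mp h1) hh1
      · exact h2
    have hoG : orderOf (((h : H) : (S : Subgroup G)) : G) = 2 := by
      rw [Subgroup.orderOf_coe, Subgroup.orderOf_coe]; exact ho
    have hhx : (((h : H) : (S : Subgroup G)) : G) = x :=
      huniq _ hoG (hxc _ ((h : H) : (S : Subgroup G)).2)
    have hxH : (⟨x, hxS⟩ : (S : Subgroup G)) ∈ H := by
      have : (⟨x, hxS⟩ : (S : Subgroup G)) = (h : (S : Subgroup G)) := Subtype.ext hhx.symm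
      rw [this]; exact h.2
    symm
    apply Subgroup.eq_of_le_of_card_ge (Subgroup.zpowers_le.mpr hxH)
    rw [hH, Nat.card_zpowers, Subgroup.orderOf_mk, hx]
  have hcyc_case : IsCyclic (S : Subgroup G) → x ∈ Subgroup.center G := by
    intro hcyc
    have hdvd : 2 ∣ Nat.card G := hx ▸ orderOf_dvd_natCard x
    have hmin : (Nat.card G).minFac = 2 := (Nat.minFac_eq_two_iff _).mpr hdvd
    have hcomp := IsCyclic.isComplement' hmin hcyc
    set K := (MonoidHom.transferSylow S (hcyc.normalizer_le_centralizer hmin)).ker with hK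
    have hKn : K.Normal := by rw [hK]; infer_instance
    have hKodd : Odd (Nat.card K) := by
      have h1 := hcomp.card_mul
      have h2 : ¬ 2 ∣ Nat.card K := by
        intro h
        have h3 := S.card_eq_multiplicity
        have h4 : Nat.card K = (S : Subgroup G).index := hcomp.index_eq_card.symm
        rw [h4] at h
        exact S.not_dvd_index h
      exact Nat.odd_iff.mpr (Nat.two_dvd_ne_zero.mp h2)
    have hKbot : K = ⊥ := odd_normal_eq_bot hO K hKn hKodd
    have hStop : (S : Subgroup G) = ⊤ := by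
      rw [hKbot] at hcomp
      exact Subgroup.isComplement'_bot_left.mp hcomp
    rw [Subgroup.mem_center_iff]
    intro g
    exact (hxc g (hStop ▸ Subgroup.mem_top g)).eq.symm
  rcases Cfsg.Agent.S0016.result 2 S.2 (fun H K hH hK => (hsub H hH).trans (hsub K hK).symm)
    with hcyc | ⟨-, n, ⟨e⟩⟩
  · exact hcyc_case hcyc
  · rcases Nat.eq_zero_or_pos n with rfl | hn
    · apply hcyc_case
      rw [pow_zero] at e
      haveI := QuaternionGroup.quaternionGroup_one_isCyclic
      exact isCyclic_of_surjective e.symm e.symm.surjective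
    · exfalso
      obtain ⟨m, rfl⟩ := Nat.exists_eq_succ_of_ne_zero hn.ne'
      have hc2 := BS G S m ⟨e⟩ (fun N hN hodd => odd_normal_eq_bot hO N hN hodd)
      obtain ⟨z, hz⟩ := exists_prime_orderOf_dvd_card' (G := Subgroup.center G) 2
        (by rw [hc2])
      apply hcz
      exact ⟨z, z.2, by rw [Subgroup.orderOf_coe]; exact hz⟩

/-- The inductive step. -/
theorem step (BS : BSHyp.{u}) [Finite G] (hQ : QuotHyp G) (hS : SubHyp G) {x : G}
    (hx : Cfsg.IsIsolatedInvolution x) (g : G) : x * g * x⁻¹ * g⁻¹ ∈ Cfsg.oddCore G := by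
  by_cases hO : Cfsg.oddCore G = ⊥
  swap
  · have hxN : x ∉ Cfsg.oddCore G := not_mem_oddCore hx.1
    have hiso := (Cfsg.Agent.S1181.result x hx (Cfsg.oddCore G) hxN).2
    have h1 := hQ (Cfsg.oddCore G) hO _ hiso (QuotientGroup.mk g)
    have h2 : Cfsg.oddCore (G ⧸ Cfsg.oddCore G) = ⊥ := pPrimeCore_quotient_pPrimeCore 2
    rw [h2, Subgroup.mem_bot] at h1
    rw [← QuotientGroup.eq_one_iff]
    simpa using h1
  · apply comm_mem_of_center
    by_cases hcz : ∃ z ∈ Subgroup.center G, orderOf z = 2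
    · obtain ⟨z, hz, hz2⟩ := hcz
      exact center_of_central_invol hQ hO hx hz hz2
    · have hL : LocalHyp G := by
        intro z hz a b ha
        apply hS _ _ a ha b
        intro htop
        apply hcz
        refine ⟨z, ?_, hz⟩
        rw [Subgroup.mem_center_iff]
        intro g'
        have : g' ∈ Subgroup.centralizer ({z} : Set G) := htop ▸ Subgroup.mem_top g'
        rw [Subgroup.mem_centralizer_singleton_iff] at this
        exact this
      by_cases hy : ∃ y : G, orderOf y = 2 ∧ Commute x y ∧ y ≠ x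
      · obtain ⟨y, hy2, hc, hne⟩ := hy
        obtain ⟨M, hM⟩ := exists_isPModular 2 Nat.prime_two
        obtain ⟨N, hNn, hNtop, hxN⟩ := exists_normal hM hL hx hy2 hc hne
        haveI := hNn
        apply mem_center_of_isolated_of_normal hx N hxN
        intro n hn
        have h1 := hS N hNtop ⟨x, hxN⟩ (isolated_subtype hx N hxN) ⟨n, hn⟩
        have h2 : (Cfsg.oddCore ↥N).map N.subtype ≤ Cfsg.oddCore G := pPrimeCore_normal_le 2 N
        rw [hO] at h2
        have h3 : N.subtype (⟨x, hxN⟩ * ⟨n, hn⟩ * ⟨x, hxN⟩⁻¹ * ⟨n, hn⟩⁻¹) = 1 := by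
          rw [← Subgroup.mem_bot]
          exact h2 ⟨_, h1, rfl⟩
        have h4 : x * n * x⁻¹ * n⁻¹ = 1 := by simpa using h3
        calc n * x = 1 * (n * x) := (one_mul _).symm
          _ = (x * n * x⁻¹ * n⁻¹) * (n * x) := by rw [h4]
          _ = x * n := by group
      · push Not at hy
        exact center_of_unique BS hO hcz hx.1 (fun y hy2 hc => hy y hy2 hc)

/-- **Glauberman's Z*-theorem**, modulo the Brauer–Suzuki theorem. -/
theorem zstar (BS : BSHyp.{u}) : ∀ (n : ℕ) (G : Type u) [Group G] [Finite G], Nat.card G = n →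
    ∀ x : G, Cfsg.IsIsolatedInvolution x → ∀ g : G, x * g * x⁻¹ * g⁻¹ ∈ Cfsg.oddCore G := by
  intro n
  induction n using Nat.strong_induction_on with
  | _ n ih =>
  intro G _ _ hcard x hx g
  apply step BS _ _ hx g
  · intro N _ hN a ha b
    refine ih (Nat.card (G ⧸ N)) ?_ (G ⧸ N) rfl a ha b
    rw [← hcard, Subgroup.card_eq_card_quotient_mul_card_subgroup N]
    have h1 : 1 < Nat.card N := by
      rw [Finite.one_lt_card_iff_nontrivial]
      exact (Subgroup.nontrivial_iff_ne_bot N).mpr hN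
    have h2 : 0 < Nat.card (G ⧸ N) := Nat.card_pos
    nlinarith
  · intro H hH a ha b
    refine ih (Nat.card H) ?_ H rfl a ha b
    rw [← hcard]
    exact Cfsg.Agent.Helper1.card_lt_card_of_lt (lt_top_iff_ne_top.mpr hH) |>.trans_eq
      (Subgroup.card_top)

end Cfsg.Agent.Helper2.ZStar
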