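import Mathlib
import Cfsg.Agent.Helper2.CyclicSylow2

set_option autoImplicit false

/-! Facts on generalized quaternion groups and on groups with cyclic Sylow 2-subgroups,
used for the Brauer-Suzuki chain. -/

namespace Cfsg.Agent.Helper2.BSuzA

open QuaternionGroup

open scoped commutatorElement

theorem zmod_two_mul_eq_zero (k : ℕ) [NeZero k] (i : ZMod (2 * k)) (h : i + i = 0) :
    i = 0 ∨ i = (k : ZMod (2 * k)) := by
  haveI : NeZero (2 * k) := ⟨by have := NeZero.ne k; omega⟩
  have hk : 0 < k := Nat.pos_of_ne_zero (NeZero.ne k)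
  have h1 : ((i.val + i.val : ℕ) : ZMod (2 * k)) = 0 := by
    rw [Nat.cast_add, ZMod.natCast_zmod_val]; exact h
  rw [ZMod.natCast_eq_zero_iff] at h1
  have h2 : i.val < 2 * k := ZMod.val_lt i
  obtain ⟨c, hc⟩ := h1
  have hc2 : c < 2 := by
    by_contra hcc
    push Not at hcc
    have : 2 * k * 2 ≤ 2 * k * c := Nat.mul_le_mul_left _ hcc
    omega
  interval_cases c
  · left
    have : i.val = 0 := by omega
    exact (ZMod.val_eq_zero i).mp this
  · right
    have hik : i.val = k := by omega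
    calc i = ((i.val : ℕ) : ZMod (2 * k)) := (ZMod.natCast_zmod_val i).symm
      _ = (k : ZMod (2 * k)) := by rw [hik]

theorem a_k_ne_one (k : ℕ) [NeZero k] : (a (k : ZMod (2 * k)) : QuaternionGroup k) ≠ 1 := by
  haveI : NeZero (2 * k) := ⟨by have := NeZero.ne k; omega⟩
  have hk : 0 < k := Nat.pos_of_ne_zero (NeZero.ne k)
  intro h
  rw [one_def] at h
  have h1 : (k : ZMod (2 * k)) = 0 := by injection h
  rw [ZMod.natCast_eq_zero_iff] at h1
  have := Nat.le_of_dvd hk h1
  omega

theorem a_k_sq (k : ℕ) [NeZero k] : (a (k : ZMod (2 * k)) : QuaternionGroup k) ^ 2 = 1 := by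
  rw [pow_two, a_mul_a, one_def]
  congr 1
  have : ((k + k : ℕ) : ZMod (2 * k)) = 0 := by
    rw [ZMod.natCast_eq_zero_iff]; exact ⟨1, by ring⟩
  rw [← this, Nat.cast_add]

theorem orderOf_a_k (k : ℕ) [NeZero k] : orderOf (a (k : ZMod (2 * k)) : QuaternionGroup k) = 2 :=
  orderOf_eq_prime (a_k_sq k) (a_k_ne_one k)

/-- the unique involution of a generalized quaternion group -/
theorem invol_unique (k : ℕ) [NeZero k] (q : QuaternionGroup k) (hq : orderOf q = 2) :
    q = a (k : ZMod (2 * k)) := by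
  rcases q with i | i
  · have h1 : (a i : QuaternionGroup k) ^ 2 = 1 := by rw [← hq]; exact pow_orderOf_eq_one _
    rw [pow_two, a_mul_a, one_def] at h1
    have h2 : i + i = 0 := by injection h1
    rcases zmod_two_mul_eq_zero k i h2 with h | h
    · exfalso
      rw [h] at hq
      have : (a 0 : QuaternionGroup k) = 1 := a_zero
      rw [this, orderOf_one] at hq
      omega
    · rw [h]
  · exfalso
    rw [orderOf_xa] at hq
    omega

theorem a_inv (k : ℕ) (i : ZMod (2 * k)) : (a i : QuaternionGroup k)⁻¹ = a (-i) := by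
  rw [inv_eq_iff_mul_eq_one, a_mul_a, add_neg_cancel, a_zero]

theorem xa_inv (k : ℕ) [NeZero k] (i : ZMod (2 * k)) :
    (xa i : QuaternionGroup k)⁻¹ = xa ((k : ZMod (2 * k)) + i) := by
  rw [inv_eq_iff_mul_eq_one, xa_mul_xa, one_def]
  congr 1
  have : ((k + k : ℕ) : ZMod (2 * k)) = 0 := by
    rw [ZMod.natCast_eq_zero_iff]; exact ⟨1, by ring⟩
  rw [Nat.cast_add] at this
  linear_combination this

theorem a_two_mul_mem (k : ℕ) [NeZero k] (m : ZMod (2 * k)) :
    (a (2 * m) : QuaternionGroup k) ∈ Subgroup.zpowers (a 2 : QuaternionGroup k) := by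
  haveI : NeZero (2 * k) := ⟨by have := NeZero.ne k; omega⟩
  rw [Subgroup.mem_zpowers_iff]
  refine ⟨(m.val : ℤ), ?_⟩
  have h2 : (a 2 : QuaternionGroup k) = (a 1) ^ 2 := by rw [a_one_pow]; norm_num
  rw [zpow_natCast, h2, ← pow_mul, a_one_pow]
  congr 1
  rw [Nat.cast_mul, ZMod.natCast_zmod_val]
  norm_num

/-- every commutator of a generalized quaternion group lies in `⟨a 2⟩` -/
theorem commutator_mem (k : ℕ) [NeZero k] (p q : QuaternionGroup k) :
    ⁅p, q⁆ ∈ Subgroup.zpowers (a 2 : QuaternionGroup k) := by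
  have hkk : ((k : ZMod (2 * k)) + k) = 0 := by
    have : ((k + k : ℕ) : ZMod (2 * k)) = 0 := by
      rw [ZMod.natCast_eq_zero_iff]; exact ⟨1, by ring⟩
    rwa [Nat.cast_add] at this
  rcases p with i | i <;> rcases q with j | j
  · have : ⁅(a i : QuaternionGroup k), a j⁆ = a (2 * 0) := by
      rw [commutatorElement_def, a_inv, a_inv, a_mul_a, a_mul_a, a_mul_a]
      congr 1; ring
    rw [this]; exact a_two_mul_mem k 0
  · have : ⁅(a i : QuaternionGroup k), xa j⁆ = a (2 * i) := by
      rw [commutatorElement_def, a_inv, xa_inv, a_mul_xa, xa_mul_a, xa_mul_xa]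
      congr 1; linear_combination hkk
    rw [this]; exact a_two_mul_mem k i
  · have : ⁅(xa i : QuaternionGroup k), a j⁆ = a (2 * (-j)) := by
      rw [commutatorElement_def, a_inv, xa_inv, xa_mul_a, xa_mul_xa, a_mul_a]
      congr 1; linear_combination hkk
    rw [this]; exact a_two_mul_mem k (-j)
  · have : ⁅(xa i : QuaternionGroup k), xa j⁆ = a (2 * (j - i)) := by
      rw [commutatorElement_def, xa_inv, xa_inv, xa_mul_xa, a_mul_xa, xa_mul_xa]
      congr 1; linear_combination hkk
    rw [this]; exact a_two_mul_mem k (j - i)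

theorem a_mem_zpowers (k : ℕ) [NeZero k] (j : ZMod (2 * k)) :
    (a j : QuaternionGroup k) ∈ Subgroup.zpowers (a 1 : QuaternionGroup k) := by
  haveI : NeZero (2 * k) := ⟨by have := NeZero.ne k; omega⟩
  rw [Subgroup.mem_zpowers_iff]
  refine ⟨(j.val : ℤ), ?_⟩
  rw [zpow_natCast, a_one_pow, ZMod.natCast_zmod_val]

/-- a normal subgroup not inside the cyclic maximal subgroup contains `a 2` -/
theorem a_two_mem_of_normal (k : ℕ) [NeZero k] (N : Subgroup (QuaternionGroup k)) [hN : N.Normal]
    (hle : ¬ N ≤ Subgroup.zpowers (a 1 : QuaternionGroup k)) : (a 2 : QuaternionGroup k) ∈ N := by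
  obtain ⟨x, hxN, hxZ⟩ := SetLike.not_le_iff_exists.mp hle
  obtain ⟨i, rfl⟩ : ∃ i, x = xa i := by
    rcases x with j | j
    · exact absurd (a_mem_zpowers k j) hxZ
    · exact ⟨j, rfl⟩
  have h1 : a 1 * xa i * (a 1)⁻¹ ∈ N := hN.conj_mem _ hxN _
  have h2 := N.mul_mem h1 (N.inv_mem hxN)
  have h3 : (a 1 * xa i * (a 1)⁻¹ * (xa i)⁻¹ : QuaternionGroup k) = a 2 := by
    rw [mul_inv_eq_iff_eq_mul, a_inv, a_mul_xa, xa_mul_a, a_mul_xa]
    congr 1
    ring
  rwa [h3] at h2

/-- a non-cyclic normal subgroup of a generalized quaternion group contains all commutators -/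
theorem commutator_mem_of_normal_not_cyclic (k : ℕ) [NeZero k] (N : Subgroup (QuaternionGroup k))
    [hN : N.Normal] (hnc : ¬ IsCyclic N) (p q : QuaternionGroup k) : ⁅p, q⁆ ∈ N := by
  have hle : ¬ N ≤ Subgroup.zpowers (a 1 : QuaternionGroup k) := by
    intro hle
    apply hnc
    haveI : IsCyclic (Subgroup.zpowers (a 1 : QuaternionGroup k)) := inferInstance
    exact isCyclic_of_injective (Subgroup.inclusion hle) (Subgroup.inclusion_injective hle)
  have h2 := a_two_mem_of_normal k N hle
  have h3 : Subgroup.zpowers (a 2 : QuaternionGroup k) ≤ N := by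
    rw [Subgroup.zpowers_le]; exact h2
  exact h3 (commutator_mem k p q)

/-- the centre of a generalized quaternion group of order at least 8 -/
theorem center_elts (k : ℕ) [NeZero k] (hk : 2 ≤ k) (z : QuaternionGroup k)
    (hz : ∀ q : QuaternionGroup k, q * z = z * q) : z = 1 ∨ z = a (k : ZMod (2 * k)) := by
  rcases z with i | i
  · have h1 := hz (xa 0)
    rw [xa_mul_a, a_mul_xa] at h1
    have h2 : (0 : ZMod (2 * k)) + i = 0 - i := by injection h1
    have h3 : i + i = 0 := by linear_combination h2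
    rcases zmod_two_mul_eq_zero k i h3 with h | h
    · left; rw [h]; exact a_zero
    · right; rw [h]
  · exfalso
    have h1 := hz (a 1)
    rw [a_mul_xa, xa_mul_a] at h1
    have h2 : i - 1 = i + 1 := by injection h1
    have h3 : ((2 : ℕ) : ZMod (2 * k)) = 0 := by
      have : (2 : ZMod (2 * k)) = 0 := by linear_combination -h2
      simpa using this
    rw [ZMod.natCast_eq_zero_iff] at h3
    have := Nat.le_of_dvd (by norm_num) h3
    omega

end Cfsg.Agent.Helper2.BSuzA
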