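import Mathlib
import Cfsg.Agent.Helper2.BSuzA

set_option autoImplicit false

/-! Groups with cyclic Sylow 2-subgroups: the elements of odd order form a normal subgroup.
Involutions of groups whose Sylow 2-subgroups have a unique involution. -/

namespace Cfsg.Agent.Helper2.BSuzB

open scoped Pointwise

universe u

/-- In a finite group all of whose Sylow 2-subgroups are cyclic, the elements of odd order form a
normal subgroup. -/
theorem exists_odd_subgroup : ∀ (m : ℕ) (G : Type u) [Group G] [Finite G], Nat.card G = m →
    (∀ T : Sylow 2 G, IsCyclic (T : Subgroup G)) →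
    ∃ N : Subgroup G, N.Normal ∧ ∀ g : G, g ∈ N ↔ Odd (orderOf g) := by
  intro m
  induction m using Nat.strong_induction_on with
  | _ m ih =>
  intro G _ _ hm hcyc
  haveI : Fact (Nat.Prime 2) := ⟨Nat.prime_two⟩
  by_cases hodd : Odd (Nat.card G)
  · refine ⟨⊤, inferInstance, fun g => ⟨fun _ => ?_, fun _ => Subgroup.mem_top g⟩⟩
    exact Odd.of_dvd_nat hodd (orderOf_dvd_natCard g)
  · have heven : Even (Nat.card G) := Nat.not_odd_iff_even.mp hodd
    obtain ⟨T⟩ : Nonempty (Sylow 2 G) := inferInstance
    obtain ⟨H, hH⟩ := Cfsg.Agent.Helper2.exists_index_two_of_cyclic_sylow_two heven T (hcyc T)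
    haveI hHn : H.Normal := Subgroup.normal_of_index_eq_two hH
    have hcardH : Nat.card H < m := by
      have h1 := H.card_mul_index
      rw [hH, hm] at h1
      have hpos : 0 < Nat.card H := Nat.card_pos
      omega
    have hcycH : ∀ T' : Sylow 2 H, IsCyclic (T' : Subgroup H) := by
      intro T'
      obtain ⟨P, hP⟩ := (T'.2.map H.subtype).exists_le_sylow
      haveI := hcyc P
      let f : (T' : Subgroup H) →* (P : Subgroup G) :=
        { toFun := fun t => ⟨((t : H) : G), hP (Subgroup.mem_map_of_mem _ t.2)⟩
          map_one' := rfl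
          map_mul' := fun _ _ => rfl }
      apply isCyclic_of_injective f
      intro s t hst
      have h1 : (((s : H) : G)) = ((t : H) : G) :=
        congrArg (fun z : (P : Subgroup G) => (z : G)) hst
      exact Subtype.ext (Subtype.ext h1)
    obtain ⟨N, hNn, hN⟩ := ih (Nat.card H) hcardH H rfl hcycH
    have hmem : ∀ g : G, g ∈ N.map H.subtype ↔ Odd (orderOf g) := by
      intro g
      constructor
      · rintro ⟨h, hh, rfl⟩
        have := (hN h).mp hh
        rwa [Subgroup.coe_subtype, Subgroup.orderOf_coe]
      · intro hg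
        have hgH : g ∈ H := by
          have h2 : g ^ 2 ∈ H := Subgroup.sq_mem_of_index_two hH g
          obtain ⟨c, hc⟩ := hg
          have h3 : (g ^ 2) ^ (c + 1) = g := by
            rw [← pow_mul]
            have : 2 * (c + 1) = orderOf g + 1 := by omega
            rw [this, pow_succ, pow_orderOf_eq_one, one_mul]
          rw [← h3]
          exact H.pow_mem h2 _
        refine ⟨⟨g, hgH⟩, (hN ⟨g, hgH⟩).mpr ?_, rfl⟩
        rwa [← Subgroup.orderOf_coe] 
    refine ⟨N.map H.subtype, ⟨fun n hn g => ?_⟩, hmem⟩
    rw [hmem] at hn ⊢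
    rwa [← MulAut.conj_apply, MulEquiv.orderOf_eq]

end Cfsg.Agent.Helper2.BSuzB
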