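import Mathlib
import Cfsg.Agent.Helper2.BSuzB

set_option autoImplicit false

/-! Involutions of groups whose Sylow 2-subgroups have a unique involution. -/

namespace Cfsg.Agent.Helper2.BSuzC

open scoped Pointwise commutatorElement

universe u

variable {H : Type*} [Group H]

theorem mem_conj_smul_iff (S : Subgroup H) (g y : H) :
    y ∈ MulAut.conj g • S ↔ g⁻¹ * y * g ∈ S := by
  rw [Subgroup.mem_pointwise_smul_iff_inv_smul_mem]
  simp [MulAut.smul_def, MulAut.conj_inv_apply]

/-- every involution is conjugate to the unique involution of the Sylow 2-subgroup -/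
theorem invol_conj [Finite H] (S : Sylow 2 H) (x : H)
    (huniq : ∀ t ∈ (S : Subgroup H), orderOf t = 2 → t = x) (t : H) (ht : orderOf t = 2) :
    ∃ g : H, t = g * x * g⁻¹ := by
  haveI : Fact (Nat.Prime 2) := ⟨Nat.prime_two⟩
  have hp : IsPGroup 2 (Subgroup.zpowers t) := by
    apply IsPGroup.of_card (n := 1)
    rw [Nat.card_zpowers, ht, pow_one]
  obtain ⟨P, hP⟩ := hp.exists_le_sylow
  obtain ⟨g, hg⟩ := MulAction.exists_smul_eq H S P
  have hPS : (P : Subgroup H) = MulAut.conj g • (S : Subgroup H) := by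
    rw [← hg]; exact Sylow.coe_subgroup_smul
  have h1 : t ∈ MulAut.conj g • (S : Subgroup H) := by
    rw [← hPS]; exact hP (Subgroup.mem_zpowers t)
  rw [mem_conj_smul_iff] at h1
  have h2 : orderOf (g⁻¹ * t * g) = 2 := by
    have : g⁻¹ * t * g = MulAut.conj g⁻¹ t := by simp [MulAut.conj_apply]
    rw [this, MulEquiv.orderOf_eq, ht]
  have h3 := huniq _ h1 h2
  refine ⟨g, ?_⟩
  rw [← h3]; group

/-- a normal subgroup of even order contains every involution -/
theorem invol_mem_of_normal [Finite H] (S : Sylow 2 H) (x : H)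
    (huniq : ∀ t ∈ (S : Subgroup H), orderOf t = 2 → t = x) (M : Subgroup H) [hM : M.Normal]
    (heven : Even (Nat.card M)) (t : H) (ht : orderOf t = 2) : t ∈ M := by
  haveI : Fact (Nat.Prime 2) := ⟨Nat.prime_two⟩
  obtain ⟨s, hs⟩ := exists_prime_orderOf_dvd_card' (G := M) 2 (even_iff_two_dvd.mp heven)
  have hs' : orderOf (s : H) = 2 := by rw [Subgroup.orderOf_coe]; exact hs
  obtain ⟨g, hg⟩ := invol_conj S x huniq (s : H) hs'
  obtain ⟨g', hg'⟩ := invol_conj S x huniq t ht
  have hx : x ∈ M := by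
    have h1 := hM.conj_mem _ s.2 g⁻¹
    rw [hg] at h1
    have : g⁻¹ * (g * x * g⁻¹) * g⁻¹⁻¹ = x := by group
    rwa [this] at h1
  rw [hg']
  exact hM.conj_mem _ hx g'

end Cfsg.Agent.Helper2.BSuzC
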