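import Mathlib
import Cfsg.Agent.Helper2.BSuzC

set_option autoImplicit false

/-! From "there is a normal subgroup of even order with non-abelian quotient" (S0845) to
"the Sylow 2-subgroups of the subgroup generated by the involutions are cyclic" (S0846). -/

namespace Cfsg.Agent.Helper2.BSuzD

open scoped Pointwise commutatorElement

universe u

/-- the conclusion of S0845, for all groups of one universe -/
def NormalEvenHyp : Prop :=
  ∀ (H : Type u) [Group H] [Finite H] (S : Sylow 2 H) (n : ℕ)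
    (_ : (S : Subgroup H) ≃* QuaternionGroup (2 ^ (n + 2))),
    ∃ M : Subgroup H, M.Normal ∧ Even (Nat.card M) ∧ ¬ commutator H ≤ M

variable {G : Type u} [Group G]

/-- the involution of a generalized quaternion Sylow 2-subgroup -/
theorem exists_unique_invol (S : Sylow 2 G) (k : ℕ) [NeZero k]
    (e : (S : Subgroup G) ≃* QuaternionGroup k) :
    ∃ x : G, x ∈ (S : Subgroup G) ∧ orderOf x = 2 ∧
      ∀ t ∈ (S : Subgroup G), orderOf t = 2 → t = x := by
  refine ⟨((e.symm (QuaternionGroup.a (k : ZMod (2 * k)))) : G), (e.symm _).2, ?_, ?_⟩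
  · rw [Subgroup.orderOf_coe, MulEquiv.orderOf_eq, BSuzA.orderOf_a_k]
  · intro t htS ht
    have h1 : orderOf (e ⟨t, htS⟩) = 2 := by
      rw [MulEquiv.orderOf_eq, ← Subgroup.orderOf_coe]; exact ht
    have h2 := BSuzA.invol_unique k _ h1
    have h3 : (⟨t, htS⟩ : (S : Subgroup G)) = e.symm (QuaternionGroup.a (k : ZMod (2 * k))) := by
      rw [← h2, e.symm_apply_apply]
    exact congrArg Subtype.val h3

/-- if `S ⊓ M` is not cyclic for a normal subgroup `M`, then `M` contains all commutators of `S` -/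
theorem commutator_mem_of_inf_not_cyclic (S : Sylow 2 G) (k : ℕ) [NeZero k]
    (e : (S : Subgroup G) ≃* QuaternionGroup k) (M : Subgroup G) [hM : M.Normal]
    (hnc : ¬ IsCyclic ↥((S : Subgroup G) ⊓ M)) (s₁ s₂ : G) (h₁ : s₁ ∈ (S : Subgroup G))
    (h₂ : s₂ ∈ (S : Subgroup G)) : ⁅s₁, s₂⁆ ∈ M := by
  set R' : Subgroup (S : Subgroup G) := M.subgroupOf (S : Subgroup G) with hR'
  haveI : R'.Normal := by rw [hR']; infer_instance
  set N : Subgroup (QuaternionGroup k) := R'.map e.toMonoidHom with hN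
  haveI : N.Normal := Subgroup.Normal.map inferInstance _ e.surjective
  have hncN : ¬ IsCyclic N := by
    intro hc
    apply hnc
    let f : ↥((S : Subgroup G) ⊓ M) →* N :=
      { toFun := fun y => ⟨e ⟨y.1, y.2.1⟩, ⟨⟨y.1, y.2.1⟩, Subgroup.mem_subgroupOf.mpr y.2.2, rfl⟩⟩
        map_one' := by
          apply Subtype.ext
          exact map_one e
        map_mul' := fun a b => by
          apply Subtype.ext
          exact map_mul e ⟨a.1, a.2.1⟩ ⟨b.1, b.2.1⟩ }
    apply isCyclic_of_injective f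
    intro a b hab
    have h1 : e ⟨a.1, a.2.1⟩ = e ⟨b.1, b.2.1⟩ := congrArg Subtype.val hab
    have h2 := e.injective h1
    have h3 : (a.1 : G) = b.1 := congrArg (fun z : (S : Subgroup G) => (z : G)) h2
    exact Subtype.ext h3
  have h3 := BSuzA.commutator_mem_of_normal_not_cyclic k N hncN (e ⟨s₁, h₁⟩) (e ⟨s₂, h₂⟩)
  rw [← map_commutatorElement] at h3
  obtain ⟨r, hr, hre⟩ := h3
  have h4 : r = ⁅(⟨s₁, h₁⟩ : (S : Subgroup G)), ⟨s₂, h₂⟩⁆ := e.injective hre
  rw [h4] at hr
  have hr' : ((⁅(⟨s₁, h₁⟩ : (S : Subgroup G)), ⟨s₂, h₂⟩⁆ : (S : Subgroup G)) : G) ∈ M :=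
    Subgroup.mem_subgroupOf.mp hr
  simpa [commutatorElement_def] using hr'

end Cfsg.Agent.Helper2.BSuzD
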