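import Mathlib
import Cfsg.Agent.Helper2.BSuzD

set_option autoImplicit false

/-! S0846 from S0845: Sylow 2-subgroups of the subgroup generated by the involutions are cyclic
when the Sylow 2-subgroups of the group are generalized quaternion of order at least 16. -/

namespace Cfsg.Agent.Helper2.BSuzE

open scoped Pointwise commutatorElement

open Cfsg.Agent.Helper2.BSuzD

universe u

variable {G : Type u} [Group G]

/-- commutators of `M ⊔ S` lie in the normal subgroup `M` when those of `S` do -/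
theorem commutator_sup_mem (M S : Subgroup G) [hM : M.Normal]
    (hS : ∀ s₁ ∈ S, ∀ s₂ ∈ S, ⁅s₁, s₂⁆ ∈ M) (a b : G) (ha : a ∈ M ⊔ S) (hb : b ∈ M ⊔ S) :
    ⁅a, b⁆ ∈ M := by
  have hset : ((M ⊔ S : Subgroup G) : Set G) = (M : Set G) * (S : Set G) := Subgroup.normal_mul M S
  have ha' : a ∈ (M : Set G) * (S : Set G) := by rw [← hset]; exact ha
  have hb' : b ∈ (M : Set G) * (S : Set G) := by rw [← hset]; exact hb
  obtain ⟨m₁, hm₁, s₁, hs₁, h1⟩ := ha'
  obtain ⟨m₂, hm₂, s₂, hs₂, h2⟩ := hb'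
  have h1' : m₁ * s₁ = a := h1
  have h2' : m₂ * s₂ = b := h2
  rw [← h1', ← h2']
  have key : (QuotientGroup.mk' M) ⁅m₁ * s₁, m₂ * s₂⁆ = 1 := by
    rw [map_commutatorElement, map_mul, map_mul]
    have e1 : (QuotientGroup.mk' M) m₁ = 1 := (QuotientGroup.eq_one_iff m₁).mpr hm₁
    have e2 : (QuotientGroup.mk' M) m₂ = 1 := (QuotientGroup.eq_one_iff m₂).mpr hm₂
    rw [e1, e2, one_mul, one_mul, ← map_commutatorElement]
    exact (QuotientGroup.eq_one_iff _).mpr (hS s₁ hs₁ s₂ hs₂)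
  exact (QuotientGroup.eq_one_iff _).mp key

theorem sylow_invol_closure_cyclic [Finite G] (h845 : NormalEvenHyp.{u}) (S : Sylow 2 G) (n : ℕ)
    (e : (S : Subgroup G) ≃* QuaternionGroup (2 ^ (n + 2)))
    (Q : Sylow 2 ↥(Subgroup.closure {g : G | orderOf g = 2})) : IsCyclic Q := by
  classical
  haveI : Fact (Nat.Prime 2) := ⟨Nat.prime_two⟩
  haveI : NeZero (2 ^ (n + 2)) := ⟨by positivity⟩
  obtain ⟨x, hxS, hx2, huniq⟩ := exists_unique_invol S (2 ^ (n + 2)) e
  generalize hJ : Subgroup.closure {g : G | orderOf g = 2} = J at Q ⊢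
  -- a normal subgroup of even order of least order
  have hex : ∃ m, ∃ M : Subgroup G, M.Normal ∧ Even (Nat.card M) ∧ Nat.card M = m := by
    refine ⟨_, ⊤, inferInstance, ?_, rfl⟩
    rw [even_iff_two_dvd, ← hx2]
    exact Subgroup.orderOf_dvd_natCard _ (Subgroup.mem_top x)
  obtain ⟨M0, hM0n, hM0e, hM0c⟩ := Nat.find_spec hex
  have hmin : ∀ M : Subgroup G, M.Normal → Even (Nat.card M) → Nat.card M0 ≤ Nat.card M := by
    intro M hMn hMe
    rw [hM0c]
    exact Nat.find_min' hex ⟨M, hMn, hMe, rfl⟩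
  haveI := hM0n
  have hinvM0 : ∀ t : G, orderOf t = 2 → t ∈ M0 :=
    BSuzC.invol_mem_of_normal S x huniq M0 hM0e
  have hJM0 : J ≤ M0 := by
    rw [← hJ, Subgroup.closure_le]
    exact fun t ht => hinvM0 t ht
  by_cases hcyc : IsCyclic ↥((S : Subgroup G) ⊓ M0)
  · -- `Q` embeds into a conjugate of `S ⊓ M0`
    have hQ2 : IsPGroup 2 ((Q : Subgroup J).map J.subtype) := Q.2.map _
    obtain ⟨P, hP⟩ := hQ2.exists_le_sylow
    obtain ⟨g, hg⟩ := MulAction.exists_smul_eq G S P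
    have hPS : (P : Subgroup G) = MulAut.conj g • (S : Subgroup G) := by
      rw [← hg]; exact Sylow.coe_subgroup_smul
    let f₀ : (Q : Subgroup J) →* G :=
      (MulAut.conj g⁻¹).toMonoidHom.comp (J.subtype.comp (Q : Subgroup J).subtype)
    have hf₀ : ∀ q : (Q : Subgroup J), f₀ q ∈ (S : Subgroup G) ⊓ M0 := by
      intro q
      have hq1 : ((q : J) : G) ∈ (P : Subgroup G) := hP ⟨(q : J), q.2, rfl⟩
      rw [hPS, BSuzC.mem_conj_smul_iff] at hq1
      have hq2 : ((q : J) : G) ∈ M0 := hJM0 (q : J).2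
      have hq3 : g⁻¹ * ((q : J) : G) * g⁻¹⁻¹ ∈ M0 := hM0n.conj_mem _ hq2 _
      rw [inv_inv] at hq3
      have hval : f₀ q = g⁻¹ * ((q : J) : G) * g := by
        simp [f₀, MulAut.conj_apply]
      rw [hval]
      exact ⟨hq1, hq3⟩
    let f : (Q : Subgroup J) →* ↥((S : Subgroup G) ⊓ M0) := f₀.codRestrict _ hf₀
    apply isCyclic_of_injective f
    rw [MonoidHom.injective_codRestrict]
    intro a b hab
    have h1 : ((a : J) : G) = ((b : J) : G) := (MulAut.conj g⁻¹).injective hab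
    exact Subtype.ext (Subtype.ext h1)
  · exfalso
    have hD : ∀ s₁ ∈ (S : Subgroup G), ∀ s₂ ∈ (S : Subgroup G), ⁅s₁, s₂⁆ ∈ M0 :=
      fun s₁ h₁ s₂ h₂ => commutator_mem_of_inf_not_cyclic S _ e M0 hcyc s₁ s₂ h₁ h₂
    set G1 : Subgroup G := M0 ⊔ (S : Subgroup G) with hG1
    have hS1 : (S : Subgroup G) ≤ G1 := le_sup_right
    have hM01 : M0 ≤ G1 := le_sup_left
    set S1 : Sylow 2 G1 := S.subtype hS1 with hS1def
    have hS1coe : (S1 : Subgroup G1) = (S : Subgroup G).subgroupOf G1 := Sylow.coe_subtype _ _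
    let e1 : (S1 : Subgroup G1) ≃* QuaternionGroup (2 ^ (n + 2)) :=
      ((MulEquiv.subgroupCongr hS1coe).trans (Subgroup.subgroupOfEquivOfLe hS1)).trans e
    obtain ⟨M1, hM1n, hM1e, hM1c⟩ := h845 G1 S1 n e1
    haveI := hM1n
    have huniq1 : ∀ t ∈ (S1 : Subgroup G1), orderOf t = 2 → t = ⟨x, hS1 hxS⟩ := by
      intro t ht hto
      rw [hS1coe, Subgroup.mem_subgroupOf] at ht
      have h1 : orderOf (t : G) = 2 := by rw [Subgroup.orderOf_coe]; exact hto
      exact Subtype.ext (huniq _ ht h1)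
    have hinvM1 : ∀ t : G1, orderOf t = 2 → t ∈ M1 :=
      BSuzC.invol_mem_of_normal S1 ⟨x, hS1 hxS⟩ huniq1 M1 hM1e
    set L : Subgroup G := (M1.map G1.subtype) ⊓ M0 with hL
    have hinvL : ∀ t : G, orderOf t = 2 → t ∈ L := by
      intro t ht
      have h0 := hinvM0 t ht
      refine ⟨⟨⟨t, hM01 h0⟩, hinvM1 _ ?_, rfl⟩, h0⟩
      rw [← Subgroup.orderOf_coe]; exact ht
    have hxLG : x ∈ L.normalCore := by
      intro b
      apply hinvL
      have : b * x * b⁻¹ = MulAut.conj b x := by simp [MulAut.conj_apply]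
      rw [this, MulEquiv.orderOf_eq, hx2]
    have hLGe : Even (Nat.card L.normalCore) := by
      rw [even_iff_two_dvd, ← hx2]
      exact Subgroup.orderOf_dvd_natCard _ hxLG
    have h1 := hmin L.normalCore inferInstance hLGe
    have hle : L.normalCore ≤ M0 := (Subgroup.normalCore_le L).trans inf_le_right
    have heq : L.normalCore = M0 := Subgroup.eq_of_le_of_card_ge hle h1
    have hM0L : M0 ≤ M1.map G1.subtype := by
      rw [← heq]; exact (Subgroup.normalCore_le L).trans inf_le_left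
    apply hM1c
    rw [commutator_def, Subgroup.commutator_le]
    intro g₁ _ g₂ _
    have h2 : ⁅(g₁ : G), (g₂ : G)⁆ ∈ M0 :=
      commutator_sup_mem M0 (S : Subgroup G) hD _ _ g₁.2 g₂.2
    obtain ⟨m, hm, hmeq⟩ := hM0L h2
    have h3 : m = ⁅g₁, g₂⁆ := by
      apply Subtype.ext
      rw [← Subgroup.coe_subtype, hmeq]
      simp [commutatorElement_def]
    rwa [← h3]

end Cfsg.Agent.Helper2.BSuzE
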