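import Mathlib
import Cfsg.Agent.Helper2.BSuzE

set_option autoImplicit false

/-! S0847 from S0845: the Brauer-Suzuki theorem for generalized quaternion Sylow 2-subgroups of
order at least 16. -/

namespace Cfsg.Agent.Helper2.BSuzF

open scoped Pointwise commutatorElement

open Cfsg.Agent.Helper2.BSuzD

universe u

variable {G : Type u} [Group G]

theorem invol_closure_normal : (Subgroup.closure {g : G | orderOf g = 2}).Normal := by
  have h : Group.conjugatesOfSet {g : G | orderOf g = 2} = {g : G | orderOf g = 2} := by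
    apply Set.Subset.antisymm
    · intro y hy
      rw [Group.mem_conjugatesOfSet_iff] at hy
      obtain ⟨a, ha, hay⟩ := hy
      obtain ⟨c, hc⟩ := isConj_iff.mp hay
      have : y = MulAut.conj c a := by rw [← hc]; simp [MulAut.conj_apply]
      rw [Set.mem_setOf_eq, this, MulEquiv.orderOf_eq]
      exact ha
    · exact Group.subset_conjugatesOfSet
  have h2 : Subgroup.normalClosure {g : G | orderOf g = 2} =
      Subgroup.closure {g : G | orderOf g = 2} := by
    unfold Subgroup.normalClosure
    rw [h]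
  rw [← h2]
  infer_instance

/-- a finite group all of whose elements have odd order has odd order -/
theorem odd_card_of_forall_odd {H : Type*} [Group H] [Finite H]
    (h : ∀ g : H, Odd (orderOf g)) : Odd (Nat.card H) := by
  haveI : Fact (Nat.Prime 2) := ⟨Nat.prime_two⟩
  by_contra hn
  have heven : Even (Nat.card H) := Nat.not_odd_iff_even.mp hn
  obtain ⟨s, hs⟩ := exists_prime_orderOf_dvd_card' (G := H) 2 (even_iff_two_dvd.mp heven)
  have := h s
  rw [hs] at this
  exact absurd this (by decide)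

/-- an element all of whose odd-order powers are trivial has 2-power order -/
theorem pow_two_pow_eq_one_of {H : Type*} [Group H] [Finite H] (z : H)
    (h : ∀ k : ℕ, Odd (orderOf (z ^ k)) → z ^ k = 1) : ∃ a : ℕ, z ^ (2 ^ a) = 1 := by
  have hpos : orderOf z ≠ 0 := (orderOf_pos z).ne'
  obtain ⟨a, m, hm, hzm⟩ := Nat.exists_eq_two_pow_mul_odd hpos
  refine ⟨a, h _ ?_⟩
  have h1 : orderOf (z ^ (2 ^ a)) = m := by
    rw [orderOf_pow' z (by positivity), hzm]
    have : Nat.gcd (2 ^ a * m) (2 ^ a) = 2 ^ a := Nat.gcd_eq_right (Dvd.intro _ rfl)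
    rw [this, Nat.mul_div_cancel_left _ (by positivity)]
  rw [h1]; exact hm

theorem center_card_two [Finite G] (h845 : NormalEvenHyp.{u}) (S : Sylow 2 G) (n : ℕ)
    (e : (S : Subgroup G) ≃* QuaternionGroup (2 ^ (n + 2)))
    (hO : ∀ N : Subgroup G, N.Normal → Odd (Nat.card N) → N = ⊥) :
    Nat.card (Subgroup.center G) = 2 := by
  classical
  haveI : Fact (Nat.Prime 2) := ⟨Nat.prime_two⟩
  haveI : NeZero (2 ^ (n + 2)) := ⟨by positivity⟩
  have hk2 : 2 ≤ 2 ^ (n + 2) := by
    calc 2 = 2 ^ 1 := by norm_num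
      _ ≤ 2 ^ (n + 2) := Nat.pow_le_pow_right (by norm_num) (by omega)
  obtain ⟨x, hxS, hx2, huniq⟩ := exists_unique_invol S (2 ^ (n + 2)) e
  set J := Subgroup.closure {g : G | orderOf g = 2} with hJ
  haveI hJn : J.Normal := invol_closure_normal
  have hcycJ : ∀ T : Sylow 2 J, IsCyclic (T : Subgroup J) :=
    fun T => BSuzE.sylow_invol_closure_cyclic h845 S n e T
  obtain ⟨N, hNn, hN⟩ := BSuzB.exists_odd_subgroup (Nat.card J) J rfl hcycJ
  -- the odd-order elements of `J` form a normal subgroup of `G` of odd order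
  have hN'n : (N.map J.subtype).Normal := by
    refine ⟨fun y hy g => ?_⟩
    obtain ⟨j, hj, rfl⟩ := hy
    have hjJ : g * (j : G) * g⁻¹ ∈ J := hJn.conj_mem _ j.2 g
    refine ⟨⟨g * (j : G) * g⁻¹, hjJ⟩, (hN _).mpr ?_, rfl⟩
    have h1 : Odd (orderOf j) := (hN j).mp hj
    have h2 : orderOf (⟨g * (j : G) * g⁻¹, hjJ⟩ : J) = orderOf j := by
      rw [← Subgroup.orderOf_coe, ← Subgroup.orderOf_coe j]
      have : g * (j : G) * g⁻¹ = MulAut.conj g (j : G) := by simp [MulAut.conj_apply]
      show orderOf (g * (j : G) * g⁻¹) = orderOf (j : G)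
      rw [this, MulEquiv.orderOf_eq]
    rw [h2]; exact h1
  have hN'odd : Odd (Nat.card (N.map J.subtype)) := by
    rw [Nat.card_congr (N.equivMapOfInjective J.subtype J.subtype_injective).symm.toEquiv]
    apply odd_card_of_forall_odd
    intro g
    rw [← Subgroup.orderOf_coe]
    exact (hN g).mp g.2
  have hN'bot := hO _ hN'n hN'odd
  have hJodd : ∀ j : J, Odd (orderOf j) → j = 1 := by
    intro j hj
    have h1 : (j : G) ∈ N.map J.subtype := ⟨j, (hN j).mpr hj, rfl⟩
    rw [hN'bot, Subgroup.mem_bot] at h1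
    exact Subtype.ext h1
  -- `J` is a 2-group, hence cyclic
  have hJ2 : IsPGroup 2 J := by
    intro j
    exact pow_two_pow_eq_one_of j (fun k hk => hJodd _ hk)
  have hJcyc : IsCyclic J := by
    have htop : IsPGroup 2 (⊤ : Subgroup J) := hJ2.to_subgroup _
    obtain ⟨T, hT⟩ := htop.exists_le_sylow
    have hTtop : (T : Subgroup J) = ⊤ := top_le_iff.mp hT
    haveI := hcycJ T
    rw [hTtop] at this
    exact isCyclic_of_surjective (Subgroup.topEquiv (G := J)).toMonoidHom
      (Subgroup.topEquiv (G := J)).surjective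
  -- every involution equals `x`
  have hxJ : x ∈ J := Subgroup.subset_closure hx2
  have hinv : ∀ t : G, orderOf t = 2 → t = x := by
    intro t ht
    have htJ : t ∈ J := Subgroup.subset_closure ht
    have h1 : (⟨t, htJ⟩ : J) = ⟨x, hxJ⟩ := by
      apply Cfsg.Agent.Helper2.eq_of_orderOf_two_of_isCyclic
      · rw [← Subgroup.orderOf_coe]; exact ht
      · rw [← Subgroup.orderOf_coe]; exact hx2
    exact congrArg Subtype.val h1
  have hxc : x ∈ Subgroup.center G := by
    rw [Subgroup.mem_center_iff]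
    intro g
    have h1 : orderOf (g * x * g⁻¹) = 2 := by
      have : g * x * g⁻¹ = MulAut.conj g x := by simp [MulAut.conj_apply]
      rw [this, MulEquiv.orderOf_eq, hx2]
    have h2 := hinv _ h1
    calc g * x = g * x * g⁻¹ * g := by group
      _ = x * g := by rw [h2]
  have hx1 : x ≠ 1 := by
    intro h; rw [h, orderOf_one] at hx2; omega
  -- the elements of the centre
  have hcen : ∀ z ∈ Subgroup.center G, z = 1 ∨ z = x := by
    intro z hz
    have hzc : ∀ g : G, g * z = z * g := fun g => (Subgroup.mem_center_iff.mp hz) g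
    obtain ⟨a, ha⟩ : ∃ a : ℕ, z ^ (2 ^ a) = 1 := by
      apply pow_two_pow_eq_one_of
      intro k hk
      have hwc : z ^ k ∈ Subgroup.center G := Subgroup.pow_mem _ hz k
      have hnorm : (Subgroup.zpowers (z ^ k)).Normal := by
        refine ⟨fun y hy g => ?_⟩
        obtain ⟨i, rfl⟩ := Subgroup.mem_zpowers_iff.mp hy
        have h1 : (z ^ k) ^ i ∈ Subgroup.center G := Subgroup.zpow_mem _ hwc i
        have h2 : g * (z ^ k) ^ i * g⁻¹ = (z ^ k) ^ i := by
          rw [(Subgroup.mem_center_iff.mp h1) g]; group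
        rw [h2]; exact Subgroup.zpow_mem_zpowers _ _
      have hodd : Odd (Nat.card (Subgroup.zpowers (z ^ k))) := by
        rw [Nat.card_zpowers]; exact hk
      have := hO _ hnorm hodd
      rw [Subgroup.zpowers_eq_bot] at this
      exact this
    have hz2 : IsPGroup 2 (Subgroup.zpowers z) := by
      rintro ⟨y, hy⟩
      obtain ⟨i, rfl⟩ := Subgroup.mem_zpowers_iff.mp hy
      refine ⟨a, Subtype.ext ?_⟩
      show (z ^ i) ^ (2 ^ a) = 1
      rw [← zpow_natCast, ← zpow_mul, mul_comm, zpow_mul, zpow_natCast, ha, one_zpow]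
    obtain ⟨P, hP⟩ := hz2.exists_le_sylow
    obtain ⟨g, hg⟩ := MulAction.exists_smul_eq G S P
    have hPS : (P : Subgroup G) = MulAut.conj g • (S : Subgroup G) := by
      rw [← hg]; exact Sylow.coe_subgroup_smul
    have hzS : z ∈ (S : Subgroup G) := by
      have h1 : z ∈ MulAut.conj g • (S : Subgroup G) := by
        rw [← hPS]; exact hP (Subgroup.mem_zpowers z)
      rw [BSuzC.mem_conj_smul_iff] at h1
      have h2 : g⁻¹ * z * g = z := by
        rw [mul_assoc, ← hzc g]; group
      rwa [h2] at h1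
    have hez : ∀ q : QuaternionGroup (2 ^ (n + 2)), q * e ⟨z, hzS⟩ = e ⟨z, hzS⟩ * q := by
      intro q
      obtain ⟨s, rfl⟩ := e.surjective q
      rw [← map_mul, ← map_mul]
      congr 1
      exact Subtype.ext (hzc s)
    rcases BSuzA.center_elts _ hk2 _ hez with h | h
    · left
      have h1 : (⟨z, hzS⟩ : (S : Subgroup G)) = 1 := by
        apply e.injective; rw [h, map_one]
      exact congrArg Subtype.val h1
    · right
      apply huniq z hzS
      have h1 : orderOf (⟨z, hzS⟩ : (S : Subgroup G)) = 2 := by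
        rw [← MulEquiv.orderOf_eq e, h, BSuzA.orderOf_a_k]
      rw [← Subgroup.orderOf_coe] at h1
      exact h1
  rw [Nat.card_eq_two_iff]
  refine ⟨1, ⟨x, hxc⟩, ?_, ?_⟩
  · intro h
    exact hx1 (congrArg Subtype.val h).symm
  · ext ⟨z, hz⟩
    simp only [Set.mem_insert_iff, Set.mem_singleton_iff, Set.mem_univ, iff_true]
    rcases hcen z hz with h | h
    · left; exact Subtype.ext h
    · right; exact Subtype.ext h

end Cfsg.Agent.Helper2.BSuzF
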