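import Mathlib

set_option autoImplicit false

/-! Generators of a subgroup isomorphic to a generalized quaternion group. -/

namespace Cfsg.Agent.Helper2.QuatGen

open QuaternionGroup

theorem conj_rel (k : ℕ) :
    (xa 0 * a 1 * (xa 0)⁻¹ : QuaternionGroup k) = (a 1)⁻¹ := by
  have hinv : (a 1 : QuaternionGroup k)⁻¹ = a (-1) := by
    rw [inv_eq_iff_mul_eq_one, a_mul_a, add_neg_cancel, a_zero]
  rw [hinv, mul_inv_eq_iff_eq_mul, xa_mul_a, a_mul_xa]
  congr 1
  ring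

theorem sq_rel (k : ℕ) : (xa 0 * xa 0 : QuaternionGroup k) = (a 1) ^ k := by
  rw [xa_mul_xa, a_one_pow]
  congr 1
  ring

theorem elts (k : ℕ) [NeZero k] (q : QuaternionGroup k) :
    ∃ i : ℕ, q = (a 1) ^ i ∨ q = xa 0 * (a 1) ^ i := by
  haveI : NeZero (2 * k) := ⟨by have := NeZero.ne k; omega⟩
  rcases q with i | i
  · exact ⟨i.val, Or.inl (by rw [a_one_pow, ZMod.natCast_zmod_val])⟩
  · exact ⟨i.val, Or.inr (by rw [a_one_pow, ZMod.natCast_zmod_val, xa_mul_a, zero_add])⟩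

theorem quat_gens {G : Type*} [Group G] (Y : Subgroup G) (k : ℕ) [NeZero k]
    (e : Y ≃* QuaternionGroup k) :
    ∃ a' b' : G, a' ∈ Y ∧ b' ∈ Y ∧ orderOf a' = 2 * k ∧ b' * a' * b'⁻¹ = a'⁻¹ ∧
      b' * b' = a' ^ k ∧ ∀ y ∈ Y, ∃ i : ℕ, y = a' ^ i ∨ y = b' * a' ^ i := by
  refine ⟨(e.symm (a 1)).1, (e.symm (xa 0)).1, (e.symm (a 1)).2, (e.symm (xa 0)).2, ?_, ?_, ?_, ?_⟩
  · rw [Subgroup.orderOf_coe, MulEquiv.orderOf_eq, orderOf_a_one]
  · have h1 := congrArg e.symm (conj_rel k)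
    rw [map_mul, map_mul, map_inv, map_inv] at h1
    exact congrArg Subtype.val h1
  · have h1 := congrArg e.symm (sq_rel k)
    rw [map_mul, map_pow] at h1
    exact congrArg Subtype.val h1
  · intro y hy
    obtain ⟨i, hi⟩ := elts k (e ⟨y, hy⟩)
    refine ⟨i, ?_⟩
    rcases hi with hi | hi
    · left
      have h1 := congrArg e.symm hi
      rw [e.symm_apply_apply, map_pow] at h1
      exact congrArg Subtype.val h1
    · right
      have h1 := congrArg e.symm hi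
      rw [e.symm_apply_apply, map_mul, map_pow] at h1
      exact congrArg Subtype.val h1

end Cfsg.Agent.Helper2.QuatGen
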