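import Mathlib
import Cfsg.Agent.S0842
import Cfsg.Agent.Helper2.QuatGen
import Cfsg.Agent.Helper2.BSuzA
import Cfsg.Agent.Helper2.BSuzC
import Cfsg.Agent.Helper2.BSuzD

/-!
# The local set-up for the Brauer–Suzuki theorem (generalized quaternion of order ≥ 16)
-/

set_option autoImplicit false
set_option linter.style.haveILetI false

namespace Cfsg.Agent.Helper2.BSuzG

open Cfsg.Agent.Helper2
open scoped commutatorElement

theorem quat_setup {G : Type*} [Group G] [Finite G] (S : Sylow 2 G) (n : ℕ)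
    (e : (S : Subgroup G) ≃* QuaternionGroup (2 ^ (n + 2))) (D : Subgroup G)
    (hD : D = ⁅(S : Subgroup G), (S : Subgroup G)⁆) :
    ∃ (a b z : G) (K : Subgroup G),
      a ∈ Subgroup.centralizer (D : Set G) ∧
      b ∈ Subgroup.normalizer (D : Set G) ∧ b ∉ Subgroup.centralizer (D : Set G) ∧
      orderOf a = 2 ^ (n + 3) ∧ b * a * b⁻¹ = a⁻¹ ∧
      Nat.card D = 2 ^ (n + 2) ∧
      Odd (Nat.card K) ∧ K ≤ Subgroup.centralizer (D : Set G) ∧
      Subgroup.normalizer (D : Set G) ≤ Subgroup.normalizer (K : Set G) ∧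
      K ⊔ Subgroup.zpowers a = Subgroup.centralizer (D : Set G) ∧
      ((Subgroup.centralizer (D : Set G)).subgroupOf
        (Subgroup.normalizer (D : Set G))).index = 2 ∧
      orderOf z = 2 ∧ (∀ t ∈ Subgroup.normalizer (D : Set G), orderOf t = 2 → t = z) := by
  classical
  haveI : Fact (Nat.Prime 2) := ⟨Nat.prime_two⟩
  obtain ⟨K, hKodd, hKC, hNK, hKS, hKSC, hidx⟩ := Cfsg.Agent.S0842.result S n e D hD
  obtain ⟨k, hk⟩ : ∃ k, 2 ^ (n + 2) = k := ⟨_, rfl⟩
  rw [hk] at e
  haveI : NeZero k := ⟨by rw [← hk]; positivity⟩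
  have hk4 : 4 ≤ k := by
    rw [← hk]
    calc 4 = 2 ^ 2 := by norm_num
      _ ≤ 2 ^ (n + 2) := Nat.pow_le_pow_right (by norm_num) (by omega)
  have h2k : 2 * k = 2 ^ (n + 3) := by rw [← hk]; ring
  set a' : G := ((e.symm (QuaternionGroup.a 1)) : G) with ha'
  set b' : G := ((e.symm (QuaternionGroup.xa 0)) : G) with hb'
  have haS : a' ∈ (S : Subgroup G) := (e.symm (QuaternionGroup.a 1)).2
  have hbS : b' ∈ (S : Subgroup G) := (e.symm (QuaternionGroup.xa 0)).2
  have hoa : orderOf a' = 2 * k := by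
    rw [ha', Subgroup.orderOf_coe, MulEquiv.orderOf_eq, QuaternionGroup.orderOf_a_one]
  have hrel : b' * a' * b'⁻¹ = a'⁻¹ := by
    have h1 := congrArg e.symm (QuatGen.conj_rel k)
    rw [map_mul, map_mul, map_inv, map_inv] at h1
    exact congrArg Subtype.val h1
  have hnf : ∀ y ∈ (S : Subgroup G), ∃ i : ℕ, y = a' ^ i ∨ y = b' * a' ^ i := by
    intro y hy
    obtain ⟨i, hi⟩ := QuatGen.elts k (e ⟨y, hy⟩)
    refine ⟨i, ?_⟩
    rcases hi with hi | hi
    · left
      have h1 := congrArg e.symm hi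
      rw [e.symm_apply_apply, map_pow] at h1
      exact congrArg Subtype.val h1
    · right
      have h1 := congrArg e.symm hi
      rw [e.symm_apply_apply, map_mul, map_pow] at h1
      exact congrArg Subtype.val h1
  -- D = ⟨a'^2⟩
  have ha2D : a' ^ 2 ∈ D := by
    have h1 : ⁅b', a'⁆ ∈ D := by rw [hD]; exact Subgroup.commutator_mem_commutator hbS haS
    rw [commutatorElement_def, hrel] at h1
    have h2 : a'⁻¹ * a'⁻¹ = (a' ^ 2)⁻¹ := by group
    rw [h2] at h1
    exact inv_mem_iff.mp h1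
  have hDle : D ≤ Subgroup.zpowers (a' ^ 2) := by
    rw [hD, Subgroup.commutator_le]
    intro g₁ hg₁ g₂ hg₂
    have h1 := BSuzA.commutator_mem k (e ⟨g₁, hg₁⟩) (e ⟨g₂, hg₂⟩)
    rw [← map_commutatorElement] at h1
    obtain ⟨j, hj⟩ := Subgroup.mem_zpowers_iff.mp h1
    have h2 : (QuaternionGroup.a 2 : QuaternionGroup k) = (QuaternionGroup.a 1) ^ 2 := by
      rw [QuaternionGroup.a_one_pow]; norm_num
    rw [h2] at hj
    have h3 := congrArg e.symm hj
    rw [e.symm_apply_apply, map_zpow, map_pow] at h3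
    have h4 := congrArg Subtype.val h3
    rw [Subgroup.mem_zpowers_iff]
    refine ⟨j, ?_⟩
    rw [ha']
    have h5 : ((((e.symm (QuaternionGroup.a 1)) ^ 2) ^ j : (S : Subgroup G)) : G) =
        (((e.symm (QuaternionGroup.a 1)) : G) ^ 2) ^ j := by
      simp
    rw [← h5, h4]
    rfl
  have hDeq : D = Subgroup.zpowers (a' ^ 2) :=
    le_antisymm hDle (by rw [Subgroup.zpowers_le]; exact ha2D)
  have hoa2 : orderOf (a' ^ 2) = k := by
    rw [orderOf_pow' a' (by norm_num), hoa]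
    have : Nat.gcd (2 * k) 2 = 2 := Nat.gcd_eq_right ⟨k, rfl⟩
    rw [this]
    exact Nat.mul_div_cancel_left k (by norm_num)
  have hcardD : Nat.card D = k := by rw [hDeq, Nat.card_zpowers, hoa2]
  have hDS : D ≤ (S : Subgroup G) := by
    rw [hDeq, Subgroup.zpowers_le]; exact Subgroup.pow_mem _ haS 2
  have hSN : (S : Subgroup G) ≤ Subgroup.normalizer (D : Set G) := by
    intro s hs
    apply Subgroup.mem_normalizer_fintype
    intro x hx
    have h1 : ⁅s, x⁆ ∈ D := by rw [hD]; exact Subgroup.commutator_mem_commutator hs (hDS hx)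
    have h2 : s * x * s⁻¹ = ⁅s, x⁆ * x := by rw [commutatorElement_def]; group
    rw [h2]; exact D.mul_mem h1 hx
  have haC : a' ∈ Subgroup.centralizer (D : Set G) := by
    rw [Subgroup.mem_centralizer_iff]
    intro d hd
    rw [SetLike.mem_coe, hDeq] at hd
    obtain ⟨j, rfl⟩ := Subgroup.mem_zpowers_iff.mp hd
    exact (((Commute.refl a').pow_left 2).zpow_left j).eq
  have hb2 : b' * a' ^ 2 * b'⁻¹ = (a' ^ 2)⁻¹ := by
    have : b' * a' ^ 2 * b'⁻¹ = (b' * a' * b'⁻¹) * (b' * a' * b'⁻¹) := by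
      rw [pow_two]; group
    rw [this, hrel]; group
  have hbnC : b' ∉ Subgroup.centralizer (D : Set G) := by
    intro hbC
    have h1 := (Subgroup.mem_centralizer_iff.mp hbC) (a' ^ 2) ha2D
    have h2 : b' * a' ^ 2 * b'⁻¹ = a' ^ 2 := by rw [← h1]; group
    rw [hb2] at h2
    have h4 : a' ^ 4 = 1 := by
      have h5 : a' ^ 4 = a' ^ 2 * a' ^ 2 := by rw [← pow_add]
      rw [h5]
      nth_rewrite 1 [← h2]
      group
    have h5 := orderOf_dvd_of_pow_eq_one h4
    rw [hoa] at h5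
    have := Nat.le_of_dvd (by norm_num) h5
    omega
  have hSC : (S : Subgroup G) ⊓ Subgroup.centralizer (D : Set G) = Subgroup.zpowers a' := by
    apply le_antisymm
    · rintro y ⟨hyS, hyC⟩
      obtain ⟨i, hi | hi⟩ := hnf y hyS
      · rw [hi]; exact Subgroup.pow_mem _ (Subgroup.mem_zpowers a') _
      · exfalso
        apply hbnC
        have h1 : b' = y * (a' ^ i)⁻¹ := by rw [hi]; group
        rw [h1]
        exact Subgroup.mul_mem _ hyC (Subgroup.inv_mem _ (Subgroup.pow_mem _ haC i))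
    · rw [Subgroup.zpowers_le]
      exact ⟨haS, haC⟩
  rw [hSC] at hKSC
  -- the involution
  obtain ⟨z, hzS, hz2, hzuniq⟩ := BSuzD.exists_unique_invol S k e
  have hzD : z ∈ D := by
    have heven : 2 ∣ Nat.card D := by
      rw [hcardD, ← hk]; exact ⟨2 ^ (n + 1), by ring⟩
    obtain ⟨s, hs⟩ := exists_prime_orderOf_dvd_card' (G := D) 2 heven
    have hs' : orderOf (s : G) = 2 := by rw [Subgroup.orderOf_coe]; exact hs
    have := hzuniq (s : G) (hDS s.2) hs'
    rw [← this]; exact s.2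
  have hzcent : ∀ g ∈ Subgroup.normalizer (D : Set G), g * z * g⁻¹ = z := by
    intro g hg
    have h1 : g * z * g⁻¹ ∈ D := (Subgroup.mem_normalizer_iff.mp hg z).mp hzD
    apply hzuniq _ (hDS h1)
    have : g * z * g⁻¹ = MulAut.conj g z := by rw [MulAut.conj_apply]
    rw [this, MulEquiv.orderOf_eq, hz2]
  refine ⟨a', b', z, K, haC, hSN hbS, hbnC, by rw [hoa, h2k], hrel, by rw [hcardD, hk], hKodd, hKC,
    hNK, hKSC, hidx, hz2, ?_⟩
  intro t htN ht2
  set N := Subgroup.normalizer (D : Set G) with hN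
  let S' : Sylow 2 N := S.subtype hSN
  have huniq' : ∀ t' ∈ (S' : Subgroup N), orderOf t' = 2 → t' = ⟨z, hSN hzS⟩ := by
    intro t' ht' hot'
    have h1 : (t' : G) ∈ (S : Subgroup G) := by
      have : t' ∈ (S : Subgroup G).subgroupOf N := by
        rw [← Sylow.coe_subtype S hSN]; exact ht'
      exact Subgroup.mem_subgroupOf.mp this
    have h2 : orderOf (t' : G) = 2 := by rw [Subgroup.orderOf_coe]; exact hot'
    exact Subtype.ext (hzuniq _ h1 h2)
  have hot : orderOf (⟨t, htN⟩ : N) = 2 := by rw [← Subgroup.orderOf_coe]; exact ht2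
  obtain ⟨g, hg⟩ := BSuzC.invol_conj S' ⟨z, hSN hzS⟩ huniq' ⟨t, htN⟩ hot
  have h3 := congrArg Subtype.val hg
  simp only [Subgroup.coe_mul, Subgroup.coe_inv] at h3
  rw [h3]
  exact hzcent g g.2

end Cfsg.Agent.Helper2.BSuzG
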