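import Mathlib
import Cfsg.Prelude.Def_Characters
import Cfsg.Agent.Helper6.Linear
import Cfsg.Agent.Helper6.NormalInd
import Cfsg.Agent.Helper6.NormalInd2
import Cfsg.Agent.Helper6.TIFrob
import Cfsg.Agent.Helper6.Induced
import Cfsg.Agent.Helper6.Degrees
import Cfsg.Agent.Helper6.OddReal
import Cfsg.Agent.Helper6.NormTwo

/-!
# Induction of `1 - λ` from a normal subgroup of index two

For a normal subgroup `C` of index two in `N` and a linear character `λ` of `C` that is not
`N`-invariant, the function `θ = (1_C - λ)^N` is a generalized character of `N` of norm three,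
vanishing at the identity and containing the principal character once.
-/

set_option autoImplicit false
set_option linter.style.haveILetI false

namespace Cfsg.Agent.Helper2.BSuzH

open Cfsg.Agent.Helper6
open scoped ComplexConjugate

universe u

variable {N : Type u} [Group N]

/-- the function `1 - λ` on `C` -/
noncomputable def phi (C : Subgroup N) (lam : C →* ℂˣ) : C → ℂ :=
  fun y => (1 : ℂ) - ((lam y : ℂˣ) : ℂ)

/-- the complex valued function of a linear character -/
noncomputable def lamC (C : Subgroup N) (lam : C →* ℂˣ) : C → ℂ :=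
  fun y => ((lam y : ℂˣ) : ℂ)

theorem phi_eq (C : Subgroup N) (lam : C →* ℂˣ) :
    phi C lam = (fun _ => (1 : ℂ)) - lamC C lam := rfl

theorem lamC_irr (C : Subgroup N) (lam : C →* ℂˣ) : Cfsg.IsIrrCharacter C (lamC C lam) :=
  isIrrCharacter_of_hom lam

theorem ind_isGeneralizedCharacter [Fintype N] (C : Subgroup N) (lam : C →* ℂˣ) :
    Cfsg.IsGeneralizedCharacter N (Cfsg.indFun C (phi C lam)) := by
  refine ⟨Cfsg.indFun C (fun _ => (1 : ℂ)), Cfsg.indFun C (lamC C lam), ?_, ?_, ?_⟩
  · exact isCharacter_indFun C _ isCharacter_one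
  · exact isCharacter_indFun C _ (IsIrrCharacter.isCharacter (lamC_irr C lam))
  · rw [phi_eq, indFun_sub]

theorem ind_apply_one [Fintype N] (C : Subgroup N) (lam : C →* ℂˣ) :
    Cfsg.indFun C (phi C lam) 1 = 0 := by
  rw [indFun_apply_one]
  unfold phi
  simp

theorem ind_apply_off [Fintype N] (C : Subgroup N) [hC : C.Normal] (lam : C →* ℂˣ) (y : N)
    (hy : y ∉ C) : Cfsg.indFun C (phi C lam) y = 0 :=
  indFun_normal_apply_off C _ y hy

theorem ind_apply_of_trivial [Fintype N] (C : Subgroup N) [hC : C.Normal] (lam : C →* ℂˣ)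
    (y : N) (hy : y ∈ C)
    (htriv : ∀ x : N, ∀ h : x * y * x⁻¹ ∈ C, lam ⟨x * y * x⁻¹, h⟩ = 1) :
    Cfsg.indFun C (phi C lam) y = 0 := by
  have h1 := indFun_normal_apply C (phi C lam) ⟨y, hy⟩
  rw [show ((⟨y, hy⟩ : C) : N) = y from rfl] at h1
  rw [h1]
  have h2 : ∀ x : N, conjFun C (phi C lam) x⁻¹ ⟨y, hy⟩ = 0 := by
    intro x
    unfold conjFun phi
    rw [htriv x⁻¹ _]
    simp
  simp [h2]

theorem lamC_ne_one (C : Subgroup N) [hC : C.Normal] (lam : C →* ℂˣ) (b : N) (a₀ : C)
    (hb : lam ⟨b * a₀ * b⁻¹, hC.conj_mem a₀ a₀.2 b⟩ ≠ lam a₀) :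
    lamC C lam ≠ (fun _ => (1 : ℂ)) := by
  intro h
  apply hb
  have h1 := congrFun h ⟨b * a₀ * b⁻¹, hC.conj_mem a₀ a₀.2 b⟩
  have h2 := congrFun h a₀
  unfold lamC at h1 h2
  apply Units.ext
  rw [h1, h2]

theorem ind_inner_one [Fintype N] (C : Subgroup N) [hC : C.Normal] (lam : C →* ℂˣ) (b : N)
    (a₀ : C) (hb : lam ⟨b * a₀ * b⁻¹, hC.conj_mem a₀ a₀.2 b⟩ ≠ lam a₀) :
    Cfsg.classInner (Cfsg.indFun C (phi C lam)) (fun _ => (1 : ℂ)) = 1 := by
  classical
  haveI : Fintype C := Fintype.ofFinite C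
  rw [frobenius_reciprocity C _ _ (IsCharacter.isClassFunction isCharacter_one)]
  rw [phi_eq, classInner_sub_left, classInner_irr_self (isIrrCharacter_one (G := C)),
    classInner_irr_ne (lamC_irr C lam) (isIrrCharacter_one (G := C))
      (lamC_ne_one C lam b a₀ hb), sub_zero]

theorem conjFun_lamC_of_mem (C : Subgroup N) [hC : C.Normal] (lam : C →* ℂˣ) (x : N)
    (hx : x ∈ C) : conjFun C (lamC C lam) x = lamC C lam := by
  funext h
  unfold conjFun lamC
  have h1 : (⟨x * h * x⁻¹, hC.conj_mem h h.2 x⟩ : C) = ⟨x, hx⟩ * h * ⟨x, hx⟩⁻¹ := by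
    apply Subtype.ext
    simp
  rw [h1, map_mul, map_mul, map_inv, mul_comm, inv_mul_cancel_left]

theorem conjFun_lamC_iff (C : Subgroup N) [hC : C.Normal] (hidx : C.index = 2) (lam : C →* ℂˣ)
    (b : N) (a₀ : C) (hb : lam ⟨b * a₀ * b⁻¹, hC.conj_mem a₀ a₀.2 b⟩ ≠ lam a₀) (x : N) :
    conjFun C (lamC C lam) x = lamC C lam ↔ x ∈ C := by
  constructor
  · intro hx
    by_contra hxC
    have hbC : b ∉ C := by
      intro hbC
      apply hb
      have := congrFun (conjFun_lamC_of_mem C lam b hbC) a₀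
      unfold conjFun lamC at this
      exact Units.ext this
    have hxb : x⁻¹ * b ∈ C := by
      rw [Subgroup.mul_mem_iff_of_index_two hidx, inv_mem_iff]
      exact ⟨fun h => absurd h hxC, fun h => absurd h hbC⟩
    have h1 : x ∈ conjStab C (lamC C lam) := hx
    have h2 : x⁻¹ * b ∈ conjStab C (lamC C lam) := conjFun_lamC_of_mem C lam _ hxb
    have h3 : b ∈ conjStab C (lamC C lam) := by
      have := (conjStab C (lamC C lam)).mul_mem h1 h2
      rwa [mul_inv_cancel_left] at this
    apply hb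
    have := congrFun ((mem_conjStab C (lamC C lam) b).mp h3) a₀
    unfold conjFun lamC at this
    exact Units.ext this
  · exact conjFun_lamC_of_mem C lam x

theorem conjFun_phi (C : Subgroup N) [hC : C.Normal] (lam : C →* ℂˣ) (x : N) :
    conjFun C (phi C lam) x = (fun _ => (1 : ℂ)) - conjFun C (lamC C lam) x := rfl

theorem inner_phi_conj [Finite N] (C : Subgroup N) [Fintype C] [hC : C.Normal] (hidx : C.index = 2)
    (lam : C →* ℂˣ) (b : N) (a₀ : C)
    (hb : lam ⟨b * a₀ * b⁻¹, hC.conj_mem a₀ a₀.2 b⟩ ≠ lam a₀) (x : N) [Decidable (x ∈ C)] :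
    Cfsg.classInner (phi C lam) (conjFun C (phi C lam) x) = 1 + if x ∈ C then 1 else 0 := by
  have hirr1 := isIrrCharacter_one (G := C)
  have hlam := lamC_irr C lam
  have hne := lamC_ne_one C lam b a₀ hb
  have hconj : Cfsg.IsIrrCharacter C (conjFun C (lamC C lam) x) := conjFun_isIrr C hlam x
  have hconj_ne : conjFun C (lamC C lam) x ≠ (fun _ => (1 : ℂ)) := by
    intro h
    apply hne
    have h2 : conjFun C (conjFun C (lamC C lam) x) x⁻¹ = conjFun C (fun _ => (1 : ℂ)) x⁻¹ := by
      rw [h]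
    rw [conjFun_mul, mul_inv_cancel, conjFun_one] at h2
    rw [h2]
    rfl
  rw [conjFun_phi, phi_eq, classInner_sub_left, classInner_sub_right, classInner_sub_right,
    classInner_irr_self hirr1, classInner_irr_ne hirr1 hconj (fun h => hconj_ne h.symm),
    classInner_irr_ne hlam hirr1 hne]
  split_ifs with hx
  · rw [conjFun_lamC_of_mem C lam x hx, classInner_irr_self hlam]
    ring
  · have hne2 : lamC C lam ≠ conjFun C (lamC C lam) x := by
      intro h
      exact hx ((conjFun_lamC_iff C hidx lam b a₀ hb x).mp h.symm)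
    rw [classInner_irr_ne hlam hconj hne2]
    ring

theorem ind_norm [Fintype N] (C : Subgroup N) [hC : C.Normal] (hidx : C.index = 2)
    (lam : C →* ℂˣ) (b : N) (a₀ : C)
    (hb : lam ⟨b * a₀ * b⁻¹, hC.conj_mem a₀ a₀.2 b⟩ ≠ lam a₀) :
    Cfsg.classInner (Cfsg.indFun C (phi C lam)) (Cfsg.indFun C (phi C lam)) = 3 := by
  classical
  haveI : Fintype C := Fintype.ofFinite C
  rw [frobenius_reciprocity C _ _ (indFun_isClassFunction C _)]
  have hfun : (fun h : C => Cfsg.indFun C (phi C lam) h) =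
      ∑ x : N, (Nat.card C : ℂ)⁻¹ • conjFun C (phi C lam) x⁻¹ := by
    ext h
    rw [indFun_normal_apply, Finset.sum_apply, Finset.mul_sum]
    rfl
  rw [hfun, classInner_sum_right]
  have hterm : ∀ x : N, Cfsg.classInner (phi C lam)
      ((Nat.card C : ℂ)⁻¹ • conjFun C (phi C lam) x⁻¹) =
      (Nat.card C : ℂ)⁻¹ * (1 + if x ∈ C then 1 else 0) := by
    intro x
    rw [classInner_smul_right, map_inv₀, Complex.conj_natCast,
      inner_phi_conj C hidx lam b a₀ hb x⁻¹]
    congr 2
    simp only [inv_mem_iff]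
  simp_rw [hterm]
  rw [← Finset.mul_sum, Finset.sum_add_distrib, Finset.sum_const, Finset.card_univ,
    Finset.sum_boole, nsmul_eq_mul, mul_one]
  have hcardC : (Finset.univ.filter (fun x : N => x ∈ C)).card = Nat.card C := by
    rw [Nat.card_eq_fintype_card, Fintype.card_subtype]
  have hcardN : Fintype.card N = Nat.card C * 2 := by
    rw [← Nat.card_eq_fintype_card, ← hidx, C.card_mul_index]
  rw [hcardC, hcardN]
  have hCne : (Nat.card C : ℂ) ≠ 0 := by
    have : 0 < Nat.card C := Nat.card_pos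
    exact_mod_cast this.ne'
  push_cast
  field_simp
  norm_num

end Cfsg.Agent.Helper2.BSuzH
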