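import Mathlib
import Cfsg.Prelude.Def_Characters
import Cfsg.Agent.Helper6.NormTwo
import Cfsg.Agent.Helper6.IndFun2
import Cfsg.Agent.Helper6.Degrees
import Cfsg.Agent.Helper6.OddReal

/-!
# Generalized characters of norm two and three

A signed version of the norm-two decomposition and the resulting decomposition
`Θ = 1 - χ₁ + χ₂` of a generalized character of norm three vanishing at the identity
and containing the principal character once.
-/

set_option autoImplicit false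
set_option linter.style.haveILetI false

namespace Cfsg.Agent.Helper2.BSuzI

open Cfsg.Agent.Helper6
open scoped ComplexConjugate

universe u

variable {G : Type u} [Group G]

/-- A generalized character of norm `2` is a signed sum of two distinct irreducible characters. -/
theorem exists_signed_of_norm_two [Fintype G] {θ : G → ℂ}
    (hθ : Cfsg.IsGeneralizedCharacter G θ) (hnorm : Cfsg.classInner θ θ = 2) :
    ∃ (a b : G → ℂ) (ca cb : ℤ), Cfsg.IsIrrCharacter G a ∧ Cfsg.IsIrrCharacter G b ∧ a ≠ b ∧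
      (ca = 1 ∨ ca = -1) ∧ (cb = 1 ∨ cb = -1) ∧ θ = (ca : ℂ) • a + (cb : ℂ) • b := by
  classical
  haveI : Finite (Cfsg.IrrCharacter G) := irr_finite
  haveI : Fintype (Cfsg.IrrCharacter G) := Fintype.ofFinite _
  have hcf := IsGeneralizedCharacter.isClassFunction hθ
  have hc : ∀ χ : Cfsg.IrrCharacter G, ∃ c : ℤ, Cfsg.classInner θ (χ : G → ℂ) = c := fun χ =>
    IsGeneralizedCharacter.classInner_irr_int hθ χ.2
  choose c hc using hc
  have hc' : ∀ χ : Cfsg.IrrCharacter G, Cfsg.classInner (χ : G → ℂ) θ = c χ := by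
    intro χ
    rw [classInner_conj_symm, hc, map_intCast]
  have hsumC : ((∑ χ : Cfsg.IrrCharacter G, c χ * c χ : ℤ) : ℂ) = 2 := by
    rw [← hnorm, classInner_self_expansion θ hcf θ]
    push_cast
    apply Finset.sum_congr rfl
    intro χ _
    rw [hc, hc']
  have hsum : ∑ χ : Cfsg.IrrCharacter G, c χ * c χ = 2 := by exact_mod_cast hsumC
  have hex1 : ∃ χ₁ : Cfsg.IrrCharacter G, c χ₁ ≠ 0 := by
    by_contra hcon
    push Not at hcon
    simp [hcon] at hsum
  obtain ⟨χ₁, hχ₁⟩ := hex1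
  have hsplit1 := Finset.add_sum_erase Finset.univ (fun χ => c χ * c χ) (Finset.mem_univ χ₁)
  rw [hsum] at hsplit1
  have hnn : ∀ s : Finset (Cfsg.IrrCharacter G), 0 ≤ ∑ χ ∈ s, c χ * c χ := fun s =>
    Finset.sum_nonneg (fun χ _ => mul_self_nonneg _)
  have hc1sq : c χ₁ * c χ₁ = 1 := by
    have hpos : 1 ≤ c χ₁ * c χ₁ := by
      have := mul_self_pos.mpr hχ₁
      omega
    have hle : c χ₁ * c χ₁ ≤ 2 := by
      have := hnn (Finset.univ.erase χ₁)
      omega
    by_contra hne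
    have h2 : c χ₁ * c χ₁ = 2 := by omega
    have habs : |c χ₁| * |c χ₁| = 2 := by rw [← abs_mul, h2]; rfl
    have : |c χ₁| ≤ 1 ∨ 2 ≤ |c χ₁| := by omega
    rcases this with h | h
    · have := abs_nonneg (c χ₁)
      nlinarith
    · nlinarith
  have hrest1 : ∑ χ ∈ Finset.univ.erase χ₁, c χ * c χ = 1 := by omega
  have hex2 : ∃ χ₂ ∈ Finset.univ.erase χ₁, c χ₂ ≠ 0 := by
    by_contra hcon
    push Not at hcon
    rw [Finset.sum_eq_zero (fun χ hχ => by rw [hcon χ hχ, mul_zero])] at hrest1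
    exact zero_ne_one hrest1
  obtain ⟨χ₂, hχ₂mem, hχ₂⟩ := hex2
  have hne12 : χ₂ ≠ χ₁ := (Finset.mem_erase.mp hχ₂mem).1
  have hsplit2 := Finset.add_sum_erase (Finset.univ.erase χ₁) (fun χ => c χ * c χ) hχ₂mem
  rw [hrest1] at hsplit2
  have hc2sq : c χ₂ * c χ₂ = 1 := by
    have hpos : 1 ≤ c χ₂ * c χ₂ := by
      have := mul_self_pos.mpr hχ₂
      omega
    have := hnn ((Finset.univ.erase χ₁).erase χ₂)
    omega
  have hrest2 : ∑ χ ∈ (Finset.univ.erase χ₁).erase χ₂, c χ * c χ = 0 := by omega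
  have hothers : ∀ χ : Cfsg.IrrCharacter G, χ ≠ χ₁ → χ ≠ χ₂ → c χ = 0 := by
    intro χ hn1 hn2
    have hmem : χ ∈ (Finset.univ.erase χ₁).erase χ₂ :=
      Finset.mem_erase.mpr ⟨hn2, Finset.mem_erase.mpr ⟨hn1, Finset.mem_univ _⟩⟩
    have := (Finset.sum_eq_zero_iff_of_nonneg (fun χ _ => mul_self_nonneg (c χ))).mp hrest2 χ hmem
    exact mul_self_eq_zero.mp this
  have hexp : θ = (c χ₁ : ℂ) • (χ₁ : G → ℂ) + (c χ₂ : ℂ) • (χ₂ : G → ℂ) := by
    conv_lhs => rw [classFunction_expansion θ hcf]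
    rw [← Finset.add_sum_erase Finset.univ _ (Finset.mem_univ χ₁),
      ← Finset.add_sum_erase (Finset.univ.erase χ₁) _ hχ₂mem, hc, hc]
    rw [Finset.sum_eq_zero, add_zero]
    intro χ hχ
    have hn2 : χ ≠ χ₂ := (Finset.mem_erase.mp hχ).1
    have hn1 : χ ≠ χ₁ := (Finset.mem_erase.mp (Finset.mem_erase.mp hχ).2).1
    rw [hc, hothers χ hn1 hn2, Int.cast_zero, zero_smul]
  have hsign1 : c χ₁ = 1 ∨ c χ₁ = -1 := by
    have : (c χ₁ - 1) * (c χ₁ + 1) = 0 := by ring_nf; linarith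
    rcases mul_eq_zero.mp this with h | h
    · left; omega
    · right; omega
  have hsign2 : c χ₂ = 1 ∨ c χ₂ = -1 := by
    have : (c χ₂ - 1) * (c χ₂ + 1) = 0 := by ring_nf; linarith
    rcases mul_eq_zero.mp this with h | h
    · left; omega
    · right; omega
  have hne12' : (χ₁ : G → ℂ) ≠ (χ₂ : G → ℂ) := fun h => hne12 (Subtype.ext h).symm
  exact ⟨χ₁, χ₂, c χ₁, c χ₂, χ₁.2, χ₂.2, hne12', hsign1, hsign2, hexp⟩

/-- A generalized character of norm `3`, vanishing at the identity and containing the principal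
character exactly once, has the shape `1 - χ₁ + χ₂` with `χ₁ 1 = χ₂ 1 + 1`. -/
theorem norm_three_decomp [Fintype G] {Θ : G → ℂ} (hΘ : Cfsg.IsGeneralizedCharacter G Θ)
    (hnorm : Cfsg.classInner Θ Θ = 3) (hone : Cfsg.classInner Θ (fun _ => (1 : ℂ)) = 1)
    (hΘ1 : Θ 1 = 0) :
    ∃ χ₁ χ₂ : G → ℂ, Cfsg.IsIrrCharacter G χ₁ ∧ Cfsg.IsIrrCharacter G χ₂ ∧
      χ₁ ≠ (fun _ => (1 : ℂ)) ∧ χ₂ ≠ (fun _ => (1 : ℂ)) ∧ χ₁ 1 = χ₂ 1 + 1 ∧
      Θ = (fun _ => (1 : ℂ)) - χ₁ + χ₂ := by
  classical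
  have hirr1 : Cfsg.IsIrrCharacter G (fun _ => (1 : ℂ)) := isIrrCharacter_one
  set one : G → ℂ := fun _ => (1 : ℂ) with hone_def
  -- τ = Θ - 1
  have hτ : Cfsg.IsGeneralizedCharacter G (Θ - one) := by
    obtain ⟨α, β, hα, hβ, rfl⟩ := hΘ
    refine ⟨α, β + one, hα, IsCharacter.add hβ (IsIrrCharacter.isCharacter hirr1), ?_⟩
    abel
  have hone' : Cfsg.classInner one Θ = 1 := by
    rw [classInner_conj_symm, hone, map_one]
  have hnormτ : Cfsg.classInner (Θ - one) (Θ - one) = 2 := by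
    rw [classInner_sub_left, classInner_sub_right, classInner_sub_right, hnorm, hone, hone',
      classInner_irr_self hirr1]
    norm_num
  have hτone : Cfsg.classInner (Θ - one) one = 0 := by
    rw [classInner_sub_left, hone, classInner_irr_self hirr1, sub_self]
  obtain ⟨a, b, ca, cb, ha, hb, hab, hca, hcb, hexp⟩ := exists_signed_of_norm_two hτ hnormτ
  -- neither constituent is principal
  have hinner : (ca : ℂ) * Cfsg.classInner a one + (cb : ℂ) * Cfsg.classInner b one = 0 := by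
    rw [← hτone, hexp, classInner_add_left, classInner_smul_left, classInner_smul_left]
  have ha1 : a ≠ one := by
    intro h
    have hb1 : b ≠ one := fun h' => hab (h.trans h'.symm)
    rw [h, classInner_irr_self hirr1, classInner_irr_ne hb hirr1 hb1, mul_one, mul_zero,
      add_zero] at hinner
    rcases hca with h' | h' <;> rw [h'] at hinner <;> norm_num at hinner
  have hb1 : b ≠ one := by
    intro h
    rw [h, classInner_irr_self hirr1, classInner_irr_ne ha hirr1 ha1, mul_one, mul_zero,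
      zero_add] at hinner
    rcases hcb with h' | h' <;> rw [h'] at hinner <;> norm_num at hinner
  obtain ⟨d₁, hd₁, -, hd₁pos⟩ := IsIrrCharacter.degree_dvd_card ha
  obtain ⟨d₂, hd₂, -, hd₂pos⟩ := IsIrrCharacter.degree_dvd_card hb
  have hval : (ca : ℂ) * d₁ + (cb : ℂ) * d₂ = -1 := by
    have := congrFun hexp 1
    simp only [Pi.sub_apply, Pi.add_apply, Pi.smul_apply, smul_eq_mul, hd₁, hd₂, hΘ1,
      hone_def] at this
    rw [← this]; ring
  have hvalZ : ca * d₁ + cb * d₂ = -1 := by exact_mod_cast hval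
  have h1' : (0 : ℤ) < d₁ := by exact_mod_cast hd₁pos
  have h2' : (0 : ℤ) < d₂ := by exact_mod_cast hd₂pos
  have hΘeq : Θ = one + ((ca : ℂ) • a + (cb : ℂ) • b) := by
    rw [← hexp]; abel
  rcases hca with s1 | s1 <;> rcases hcb with s2 | s2
  · exfalso
    rw [s1, s2] at hvalZ
    omega
  · -- ca = 1, cb = -1 : Θ = 1 + a - b
    refine ⟨b, a, hb, ha, hb1, ha1, ?_, ?_⟩
    · rw [s1, s2] at hvalZ
      have : (d₂ : ℤ) = d₁ + 1 := by omega
      rw [hd₁, hd₂]
      exact_mod_cast this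
    · rw [hΘeq, s1, s2]
      funext g
      simp only [Pi.add_apply, Pi.sub_apply, Pi.smul_apply, smul_eq_mul]
      push_cast
      ring
  · refine ⟨a, b, ha, hb, ha1, hb1, ?_, ?_⟩
    · rw [s1, s2] at hvalZ
      have : (d₁ : ℤ) = d₂ + 1 := by omega
      rw [hd₁, hd₂]
      exact_mod_cast this
    · rw [hΘeq, s1, s2]
      funext g
      simp only [Pi.add_apply, Pi.sub_apply, Pi.smul_apply, smul_eq_mul]
      push_cast
      ring
  · exfalso
    rw [s1, s2] at hvalZ
    omega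

end Cfsg.Agent.Helper2.BSuzI
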