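import Mathlib

/-!
# A linear character of order four on a group with a normal odd-order complement to a cyclic
2-subgroup
-/

set_option autoImplicit false
set_option linter.style.haveILetI false

namespace Cfsg.Agent.Helper2.BSuzK

universe u

/-- the imaginary unit as a unit of `ℂ` -/
noncomputable def unitI : ℂˣ := Units.mk0 Complex.I Complex.I_ne_zero

theorem unitI_pow_four : unitI ^ 4 = 1 := by
  apply Units.ext
  simp [unitI, Complex.I_pow_four]

theorem unitI_val : ((unitI : ℂˣ) : ℂ) = Complex.I := rfl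

theorem unitI_inv_ne : unitI⁻¹ ≠ unitI := by
  intro h
  have h1 : unitI * unitI = 1 := by
    nth_rewrite 1 [← h]
    exact inv_mul_cancel _
  have h2 := congrArg (fun v : ℂˣ => (v : ℂ)) h1
  simp only [Units.val_mul, unitI_val, Complex.I_mul_I, Units.val_one] at h2
  norm_num at h2

theorem exists_lam {C : Type u} [Group C] [Finite C] (K : Subgroup C) [hK : K.Normal]
    (hodd : Odd (Nat.card K)) (a : C) (m : ℕ) (ha : orderOf a = 2 ^ (m + 2))
    (hgen : K ⊔ Subgroup.zpowers a = ⊤) :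
    ∃ lam : C →* ℂˣ, lam a = unitI ∧ (∀ k ∈ K, lam k = 1) ∧
      ∀ y : C, ¬ 2 ^ (m + 1) ∣ orderOf y → lam y = 1 := by
  classical
  set abar : C ⧸ K := (a : C ⧸ K) with habar
  have hgenQ : ∀ q : C ⧸ K, q ∈ Subgroup.zpowers abar := by
    intro q
    have h1 : (K ⊔ Subgroup.zpowers a).map (QuotientGroup.mk' K) = ⊤ := by
      rw [hgen]
      exact Subgroup.map_top_of_surjective _ (QuotientGroup.mk'_surjective K)
    rw [Subgroup.map_sup, QuotientGroup.map_mk'_self, bot_sup_eq, MonoidHom.map_zpowers] at h1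
    have h2 : q ∈ (⊤ : Subgroup (C ⧸ K)) := Subgroup.mem_top q
    rw [← h1] at h2
    exact h2
  -- order of the image of a
  have hord : orderOf abar = 2 ^ (m + 2) := by
    have h1 : orderOf abar ∣ 2 ^ (m + 2) := by
      rw [← ha]
      exact orderOf_map_dvd (QuotientGroup.mk' K) a
    obtain ⟨s, hs, hs'⟩ := (Nat.dvd_prime_pow Nat.prime_two).mp h1
    have h2 : abar ^ (2 ^ s) = 1 := by rw [← hs']; exact pow_orderOf_eq_one _
    have h3 : a ^ (2 ^ s) ∈ K := by
      rw [← QuotientGroup.eq_one_iff, QuotientGroup.mk_pow]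
      exact h2
    have h4 : orderOf (a ^ (2 ^ s)) ∣ Nat.card K := by
      have := orderOf_dvd_natCard (⟨a ^ (2 ^ s), h3⟩ : K)
      rwa [← Subgroup.orderOf_coe] at this
    have h5 : orderOf (a ^ (2 ^ s)) ∣ 2 ^ (m + 2) := by
      rw [← ha]; exact orderOf_pow_dvd _
    have h6 : Nat.Coprime (Nat.card K) (2 ^ (m + 2)) :=
      Nat.Coprime.pow_right _ (Nat.coprime_two_right.mpr hodd)
    have h7 : orderOf (a ^ (2 ^ s)) = 1 := Nat.eq_one_of_dvd_coprimes h6 h4 h5
    rw [orderOf_eq_one_iff] at h7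
    have h8 := orderOf_dvd_of_pow_eq_one h7
    rw [ha] at h8
    have h9 : m + 2 ≤ s := (Nat.pow_dvd_pow_iff_le_right (by norm_num)).mp h8
    have : s = m + 2 := le_antisymm hs h9
    rw [hs', this]
  have hdvd : orderOf unitI ∣ orderOf abar := by
    rw [hord]
    have h1 : orderOf unitI ∣ 4 := orderOf_dvd_of_pow_eq_one unitI_pow_four
    have h2 : 4 ∣ 2 ^ (m + 2) := ⟨2 ^ m, by ring⟩
    exact h1.trans h2
  set f : C ⧸ K →* ℂˣ := monoidHomOfForallMemZpowers hgenQ hdvd with hf
  have hfa : f abar = unitI := monoidHomOfForallMemZpowers_apply_gen hgenQ hdvd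
  refine ⟨f.comp (QuotientGroup.mk' K), ?_, ?_, ?_⟩
  · rw [MonoidHom.comp_apply]
    exact hfa
  · intro k hk
    rw [MonoidHom.comp_apply]
    have : (QuotientGroup.mk' K) k = 1 := by
      rw [QuotientGroup.mk'_apply, QuotientGroup.eq_one_iff]; exact hk
    rw [this, map_one]
  · intro y hy
    rw [MonoidHom.comp_apply]
    set q : C ⧸ K := (QuotientGroup.mk' K) y with hq
    have hqmem : q ∈ Submonoid.powers abar := by
      rw [mem_powers_iff_mem_zpowers]; exact hgenQ q
    obtain ⟨j, hj⟩ := (Submonoid.mem_powers_iff _ _).mp hqmem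
    have h1 : orderOf q ∣ orderOf y := orderOf_map_dvd (QuotientGroup.mk' K) y
    have h2 : orderOf q ∣ 2 ^ (m + 2) := by
      rw [← hord, ← hj]; exact orderOf_pow_dvd _
    obtain ⟨s, hs, hs'⟩ := (Nat.dvd_prime_pow Nat.prime_two).mp h2
    have hsm : s ≤ m := by
      by_contra hcon
      push Not at hcon
      apply hy
      have : 2 ^ (m + 1) ∣ 2 ^ s := pow_dvd_pow 2 hcon
      rw [← hs'] at this
      exact this.trans h1
    have h3 : q ^ (2 ^ m) = 1 := by
      apply orderOf_dvd_iff_pow_eq_one.mp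
      rw [hs']; exact pow_dvd_pow 2 hsm
    rw [← hj, ← pow_mul] at h3
    have h4 := orderOf_dvd_of_pow_eq_one h3
    rw [hord] at h4
    have h5 : 4 ∣ j := by
      have h6 : 2 ^ m * 4 ∣ 2 ^ m * j := by
        have : 2 ^ (m + 2) = 2 ^ m * 4 := by ring
        rw [this, mul_comm j] at h4
        exact h4
      exact Nat.dvd_of_mul_dvd_mul_left (by positivity) h6
    obtain ⟨t, ht⟩ := h5
    rw [← hj, map_pow, hfa, ht, pow_mul, unitI_pow_four, one_pow]

end Cfsg.Agent.Helper2.BSuzK
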