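import Mathlib
import Cfsg.Agent.Helper2.QuatGen
import Cfsg.Agent.Lead.SylowLemmas

set_option autoImplicit false

/-! The commutator subgroup `D` of a generalized quaternion Sylow `2`-subgroup and its
centralizer. -/

namespace Cfsg.Agent.Helper2.QuatSylowD

open scoped commutatorElement

/-- in a cyclic group the subgroups are ordered by divisibility of their orders -/
theorem le_of_card_dvd_of_cyclic {G : Type*} [Group G] (Z : Subgroup G) [Finite Z]
    (hZ : IsCyclic Z) (A B : Subgroup G) (hA : A ≤ Z) (hB : B ≤ Z)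
    (h : Nat.card A ∣ Nat.card B) : A ≤ B := by
  classical
  haveI : Fintype Z := Fintype.ofFinite Z
  haveI : Finite A := Finite.of_injective (Subgroup.inclusion hA) (Subgroup.inclusion_injective hA)
  haveI : Finite B := Finite.of_injective (Subgroup.inclusion hB) (Subgroup.inclusion_injective hB)
  intro x hxA
  have hxB : x ^ Nat.card B = 1 := by
    obtain ⟨c, hc⟩ := h
    have h1 : x ^ Nat.card A = 1 := by
      have h2 : (⟨x, hxA⟩ : A) ^ Nat.card A = 1 := pow_card_eq_one'
      have := congrArg Subtype.val h2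
      rw [Subgroup.coe_pow, Subgroup.coe_one] at this
      exact this
    rw [hc, pow_mul, h1, one_pow]
  set T : Finset Z := Finset.univ.filter (fun a : Z => a ^ Nat.card B = 1) with hT
  have hTc : T.card ≤ Nat.card B := IsCyclic.card_pow_eq_one_le Nat.card_pos
  set B' : Finset Z := Finset.univ.filter (fun a : Z => a ∈ B.subgroupOf Z) with hB'
  have hB'T : B' ⊆ T := by
    intro a ha
    rw [hB', Finset.mem_filter] at ha
    rw [hT, Finset.mem_filter]
    refine ⟨Finset.mem_univ _, ?_⟩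
    have h2 : (⟨(a : G), Subgroup.mem_subgroupOf.mp ha.2⟩ : B) ^ Nat.card B = 1 := pow_card_eq_one'
    have h3 := congrArg Subtype.val h2
    rw [Subgroup.coe_pow, Subgroup.coe_one] at h3
    apply Subtype.ext
    rw [Subgroup.coe_pow, Subgroup.coe_one]
    exact h3
  have hB'card : B'.card = Nat.card B := by
    rw [← Cfsg.Agent.Lead.card_subgroupOf_of_le hB, Nat.card_eq_fintype_card, hB',
      Fintype.card_subtype]
  have hEq : B' = T := Finset.eq_of_subset_of_card_le hB'T (by rw [hB'card]; exact hTc)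
  have hx : (⟨x, hA hxA⟩ : Z) ∈ T := by
    rw [hT, Finset.mem_filter]
    refine ⟨Finset.mem_univ _, ?_⟩
    apply Subtype.ext
    rw [Subgroup.coe_pow, Subgroup.coe_one]
    exact hxB
  rw [← hEq, hB', Finset.mem_filter] at hx
  exact Subgroup.mem_subgroupOf.mp hx.2

/-- basic facts on `D = S'` for a generalized quaternion Sylow `2`-subgroup `S` of order at
least 16 -/
theorem quatD_facts {G : Type*} [Group G] [Finite G] (S : Sylow 2 G) (n : ℕ)
    (e : (S : Subgroup G) ≃* QuaternionGroup (2 ^ (n + 2))) (D : Subgroup G)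
    (hD : D = ⁅(S : Subgroup G), (S : Subgroup G)⁆) :
    ∃ a' : G, a' ∈ (S : Subgroup G) ∧ D ≤ Subgroup.zpowers a' ∧
      Subgroup.zpowers a' ≤ Subgroup.centralizer (D : Set G) ∧
      Nat.card (Subgroup.zpowers a') =
        2 ^ (Nat.card (Subgroup.centralizer (D : Set G))).factorization 2 ∧
      Subgroup.normalizer (D : Set G) ≤
        Subgroup.normalizer (Subgroup.centralizer (D : Set G) : Set G) ∧
      D ≤ (S : Subgroup G) ∧ (S : Subgroup G) ≤ Subgroup.normalizer (D : Set G) ∧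
      (S : Subgroup G) ⊓ Subgroup.centralizer (D : Set G) = Subgroup.zpowers a' := by
  classical
  haveI : Fact (Nat.Prime 2) := ⟨Nat.prime_two⟩
  obtain ⟨k, hk⟩ : ∃ k, 2 ^ (n + 2) = k := ⟨_, rfl⟩
  rw [hk] at e
  haveI : NeZero k := ⟨by rw [← hk]; positivity⟩
  have hk4 : 4 ≤ k := by
    rw [← hk]
    calc 4 = 2 ^ 2 := by norm_num
      _ ≤ 2 ^ (n + 2) := Nat.pow_le_pow_right (by norm_num) (by omega)
  obtain ⟨a', b', haS, hbS, hoa, hrel, hbb, hnf⟩ := QuatGen.quat_gens (S : Subgroup G) k e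
  set Z := Subgroup.zpowers a' with hZ
  have hZS : Z ≤ (S : Subgroup G) := by rw [hZ, Subgroup.zpowers_le]; exact haS
  have hcardS : Nat.card (S : Subgroup G) = 4 * k := by
    rw [Nat.card_congr e.toEquiv, Nat.card_eq_fintype_card, QuaternionGroup.card]
  have hcardZ : Nat.card Z = 2 * k := by rw [hZ, Nat.card_zpowers, hoa]
  have hidxZ : (Z.subgroupOf (S : Subgroup G)).index = 2 := by
    have h1 := (Z.subgroupOf (S : Subgroup G)).card_mul_index
    rw [Cfsg.Agent.Lead.card_subgroupOf_of_le hZS, hcardZ, hcardS] at h1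
    have h2 : 2 * k * (Z.subgroupOf (S : Subgroup G)).index = 2 * k * 2 := by rw [h1]; ring
    exact Nat.eq_of_mul_eq_mul_left (by positivity) h2
  haveI hZn : (Z.subgroupOf (S : Subgroup G)).Normal := Subgroup.normal_of_index_eq_two hidxZ
  have hDZ : D ≤ Z := by
    rw [hD, Subgroup.commutator_le]
    intro g₁ hg₁ g₂ hg₂
    have h1 : ((⟨g₁, hg₁⟩ : ↥(S : Subgroup G)) * ⟨g₂, hg₂⟩ * ⟨g₁, hg₁⟩⁻¹ * ⟨g₂, hg₂⟩⁻¹) ∈
        Z.subgroupOf (S : Subgroup G) := by
      rw [Subgroup.mul_mem_iff_of_index_two hidxZ, inv_mem_iff]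
      constructor
      · intro h
        have h' := hZn.conj_mem _ h (⟨g₁, hg₁⟩⁻¹)
        have e' : (⟨g₁, hg₁⟩ : ↥(S : Subgroup G))⁻¹ * (⟨g₁, hg₁⟩ * ⟨g₂, hg₂⟩ * ⟨g₁, hg₁⟩⁻¹) *
            (⟨g₁, hg₁⟩ : ↥(S : Subgroup G))⁻¹⁻¹ = ⟨g₂, hg₂⟩ := by group
        rwa [e'] at h'
      · intro h
        exact hZn.conj_mem _ h _
    rw [Subgroup.mem_subgroupOf] at h1
    simpa [commutatorElement_def] using h1
  have ha2D : a' ^ 2 ∈ D := by
    have h1 : ⁅b', a'⁆ ∈ D := by rw [hD]; exact Subgroup.commutator_mem_commutator hbS haS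
    rw [commutatorElement_def, hrel] at h1
    have h2 : a'⁻¹ * a'⁻¹ = (a' ^ 2)⁻¹ := by group
    rw [h2] at h1
    exact inv_mem_iff.mp h1
  have hDS : D ≤ (S : Subgroup G) := hDZ.trans hZS
  have hSN : (S : Subgroup G) ≤ Subgroup.normalizer (D : Set G) := by
    intro s hs
    apply Subgroup.mem_normalizer_fintype
    intro x hx
    have h1 : ⁅s, x⁆ ∈ D := by rw [hD]; exact Subgroup.commutator_mem_commutator hs (hDS hx)
    have h2 : s * x * s⁻¹ = ⁅s, x⁆ * x := by rw [commutatorElement_def]; group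
    rw [h2]; exact D.mul_mem h1 hx
  set C := Subgroup.centralizer (D : Set G) with hC
  set N := Subgroup.normalizer (D : Set G) with hN
  have hCN : C ≤ N := Subgroup.centralizer_le_normalizer _
  have hZC : Z ≤ C := by
    rw [hZ, Subgroup.zpowers_le, hC, Subgroup.mem_centralizer_iff]
    intro d hd
    obtain ⟨j, rfl⟩ := Subgroup.mem_zpowers_iff.mp (hDZ hd)
    exact ((Commute.refl a').zpow_left j).eq
  have hSC : (S : Subgroup G) ⊓ C = Z := by
    apply le_antisymm
    · rintro y ⟨hyS, hyC⟩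
      obtain ⟨i, hi | hi⟩ := hnf y hyS
      · rw [hi]; exact Subgroup.pow_mem _ (Subgroup.mem_zpowers a') _
      · exfalso
        have h1 := (Subgroup.mem_centralizer_iff.mp hyC) (a' ^ 2) ha2D
        rw [hi] at h1
        have hba : b' * a' = a'⁻¹ * b' := by rw [← hrel]; group
        have hba2 : b' * a' ^ 2 = (a' ^ 2)⁻¹ * b' := by
          rw [pow_two, ← mul_assoc, hba, mul_assoc, hba]; group
        have h2 : b' * a' ^ i * a' ^ 2 = (a' ^ 2)⁻¹ * (b' * a' ^ i) := by
          rw [mul_assoc, ← pow_add, add_comm, pow_add, ← mul_assoc, hba2, mul_assoc]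
        rw [h2] at h1
        have h3 : a' ^ 2 = (a' ^ 2)⁻¹ := mul_right_cancel h1
        have h4 : a' ^ 4 = 1 := by
          have h5 : a' ^ 4 = a' ^ 2 * a' ^ 2 := by rw [← pow_add]
          rw [h5]
          nth_rewrite 1 [h3]
          group
        have h5 := orderOf_dvd_of_pow_eq_one h4
        rw [hoa] at h5
        have := Nat.le_of_dvd (by norm_num) h5
        omega
    · exact le_inf hZS hZC
  have hNC : N ≤ Subgroup.normalizer (C : Set G) := by
    intro g hg
    apply Subgroup.mem_normalizer_fintype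
    intro c hc
    rw [SetLike.mem_coe, hC, Subgroup.mem_centralizer_iff] at hc ⊢
    intro d hd
    have h1 : g⁻¹ * d * g ∈ D := by
      have := (Subgroup.mem_normalizer_iff.mp (N.inv_mem hg) d).mp hd
      simpa using this
    have h2 := hc _ h1
    calc d * (g * c * g⁻¹) = g * ((g⁻¹ * d * g) * c) * g⁻¹ := by group
      _ = g * (c * (g⁻¹ * d * g)) * g⁻¹ := by rw [h2]
      _ = g * c * g⁻¹ * d := by group
  have hcardSN : Nat.card (S : Subgroup G) = 2 ^ (Nat.card N).factorization 2 := by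
    apply Cfsg.Agent.Lead.card_eq_ppart_of_le hSN le_top S.2
    rw [Subgroup.card_top]; exact S.card_eq_multiplicity
  have hcardZC : Nat.card Z = 2 ^ (Nat.card C).factorization 2 := by
    rw [← hSC]
    exact Cfsg.Agent.Lead.card_inf_eq_ppart_of_normal hSN hCN hNC S.2 hcardSN
  exact ⟨a', haS, hDZ, hZC, hcardZC, hNC, hDS, hSN, hSC⟩

end Cfsg.Agent.Helper2.QuatSylowD
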