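import Mathlib
import Cfsg.Prelude.Def_Characters
import Cfsg.Agent.S0843
import Cfsg.Agent.Helper2.BSuzG
import Cfsg.Agent.Helper2.BSuzH
import Cfsg.Agent.Helper2.BSuzI
import Cfsg.Agent.Helper2.BSuzK
import Cfsg.Agent.Helper6.IndFun2

/-!
# The exceptional characters in the Brauer–Suzuki situation
-/

set_option autoImplicit false
set_option linter.style.haveILetI false
set_option maxHeartbeats 1600000

namespace Cfsg.Agent.Helper2.BSuzJ

open Cfsg.Agent.Helper2 Cfsg.Agent.Helper6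
open scoped commutatorElement ComplexConjugate

universe u

theorem bs_main {G : Type u} [Group G] [Fintype G] (S : Sylow 2 G) (n : ℕ)
    (e : (S : Subgroup G) ≃* QuaternionGroup (2 ^ (n + 2))) :
    ∃ (H : Subgroup G) (X : Set G) (θ : H → ℂ) (χ₁ χ₂ : G → ℂ) (z : G),
      (∀ g : G, g ∉ H → ∀ s ∈ X, g * s * g⁻¹ ∉ X) ∧ (∀ s ∈ X, s⁻¹ ∈ X) ∧
      (∀ s ∈ X, 4 ∣ orderOf s) ∧
      (∀ x : H, (x : G) ∉ X → θ x = 0) ∧ θ 1 = 0 ∧
      orderOf z = 2 ∧ (∀ t ∈ H, orderOf t = 2 → t = z) ∧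
      Cfsg.IsIrrCharacter G χ₁ ∧ Cfsg.IsIrrCharacter G χ₂ ∧
      χ₁ ≠ (fun _ => (1 : ℂ)) ∧ χ₂ ≠ (fun _ => (1 : ℂ)) ∧ χ₁ 1 = χ₂ 1 + 1 ∧
      Cfsg.indFun H θ = (fun _ => (1 : ℂ)) - χ₁ + χ₂ := by
  classical
  obtain ⟨D, hD⟩ : ∃ D : Subgroup G, D = ⁅(S : Subgroup G), (S : Subgroup G)⁆ := ⟨_, rfl⟩
  obtain ⟨a, b, z, K, haC, hbN, hbnC, hoa, hrel, hcardD, hKodd, hKC, hNK, hKa, hidx, hz2, hzuniq⟩ :=
    BSuzG.quat_setup S n e D hD
  obtain ⟨hX1, hX2, hX3⟩ := Cfsg.Agent.S0843.result S n e D hD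
  set C := Subgroup.centralizer (D : Set G) with hC
  set N := Subgroup.normalizer (D : Set G) with hN
  have hCN : C ≤ N := Subgroup.centralizer_le_normalizer _
  obtain ⟨X, hXdef⟩ : ∃ X : Set G, X = {y : G | y ∈ C ∧ Nat.card D ∣ orderOf y} := ⟨_, rfl⟩
  have hXmem : ∀ y : G, y ∈ X ↔ (y ∈ C ∧ Nat.card D ∣ orderOf y) := by
    intro y; rw [hXdef]; rfl
  have haX : a ∈ X := by
    rw [hXmem]
    refine ⟨haC, ?_⟩
    rw [hcardD, hoa]
    exact pow_dvd_pow 2 (by omega)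
  have hHN : Subgroup.normalizer X = N := by
    apply le_antisymm
    · intro g hg
      have h1 := (Subgroup.mem_set_normalizer_iff.mp hg a).mp haX
      rw [hXmem] at h1
      have h2 := (hXmem a).mp haX
      exact hX2 g a h2.1 h2.2 h1.1
    · intro g hg
      rw [Subgroup.mem_set_normalizer_iff]
      intro y
      constructor
      · intro hy
        rw [hXmem] at hy ⊢
        exact hX3 g y hg hy.1 hy.2
      · intro hy
        rw [hXmem] at hy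
        have h1 := hX3 g⁻¹ (g * y * g⁻¹) (N.inv_mem hg) hy.1 hy.2
        have h2 : g⁻¹ * (g * y * g⁻¹) * g⁻¹⁻¹ = y := by group
        rw [h2] at h1
        rw [hXmem]
        exact h1
  set H := Subgroup.normalizer X with hH
  have hCH : C ≤ H := by rw [hHN]; exact hCN
  have hTI' : ∀ g : G, g ∉ H → ∀ s ∈ X, g * s * g⁻¹ ∉ X := by
    intro g hg s hs hgs
    apply hg
    rw [hHN]
    have h2 := (hXmem s).mp hs
    have h1 := (hXmem _).mp hgs
    exact hX2 g s h2.1 h2.2 h1.1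
  have hTI : ∀ g : G, g ∉ H → ∀ t ∈ X, g * t * g⁻¹ ∈ X → t = 1 := by
    intro g hg t ht hgt
    exact absurd hgt (hTI' g hg t ht)
  have hXinv : ∀ s ∈ X, s⁻¹ ∈ X := by
    intro s hs
    rw [hXmem] at hs ⊢
    exact ⟨C.inv_mem hs.1, by rw [orderOf_inv]; exact hs.2⟩
  have hX4 : ∀ s ∈ X, 4 ∣ orderOf s := by
    intro s hs
    rw [hXmem, hcardD] at hs
    exact Dvd.dvd.trans ⟨2 ^ n, by ring⟩ hs.2
  -- the subgroup C' of H
  set C' : Subgroup H := C.subgroupOf H with hC'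
  have hidx' : C'.index = 2 := by
    rw [hC']
    have : ∀ M : Subgroup G, M = N → (C.subgroupOf M).index = 2 := by
      intro M hM; rw [hM]; exact hidx
    exact this H hHN
  haveI hC'n : C'.Normal := Subgroup.normal_of_index_eq_two hidx'
  -- the linear character on C
  set K₀ : Subgroup C := K.subgroupOf C with hK₀
  haveI hK₀n : K₀.Normal := by
    rw [hK₀]
    exact Subgroup.normal_subgroupOf_of_le_normalizer (hCN.trans hNK)
  have hK₀odd : Odd (Nat.card K₀) := by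
    rw [hK₀, Nat.card_congr (Subgroup.subgroupOfEquivOfLe hKC).toEquiv]
    exact hKodd
  have hoa' : orderOf (⟨a, haC⟩ : C) = 2 ^ (n + 1 + 2) := by
    rw [← Subgroup.orderOf_coe]; exact hoa
  have hgen : K₀ ⊔ Subgroup.zpowers (⟨a, haC⟩ : C) = ⊤ := by
    rw [eq_top_iff]
    intro y _
    have hy : (y : G) ∈ K ⊔ Subgroup.zpowers a := by rw [hKa]; exact y.2
    have h1 : (Subgroup.zpowers a) ≤ C := by rw [Subgroup.zpowers_le]; exact haC
    have h2 : K ⊔ Subgroup.zpowers a ≤ C := sup_le hKC h1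
    have h3 : (K ⊔ Subgroup.zpowers a).subgroupOf C =
        K.subgroupOf C ⊔ (Subgroup.zpowers a).subgroupOf C :=
      Subgroup.subgroupOf_sup hKC h1
    have h4 : y ∈ (K ⊔ Subgroup.zpowers a).subgroupOf C := Subgroup.mem_subgroupOf.mpr hy
    rw [h3] at h4
    have h5 : (Subgroup.zpowers a).subgroupOf C = Subgroup.zpowers (⟨a, haC⟩ : C) := by
      ext w
      rw [Subgroup.mem_subgroupOf, Subgroup.mem_zpowers_iff, Subgroup.mem_zpowers_iff]
      constructor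
      · rintro ⟨j, hj⟩
        exact ⟨j, Subtype.ext (by simpa using hj)⟩
      · rintro ⟨j, hj⟩
        exact ⟨j, by rw [← hj]; simp⟩
    rw [h5] at h4
    exact h4
  obtain ⟨lam0, hlam_a, -, hlam_triv⟩ :=
    BSuzK.exists_lam (C := C) K₀ hK₀odd ⟨a, haC⟩ (n + 1) hoa' hgen
  set lam : C' →* ℂˣ := lam0.comp (Subgroup.subgroupOfEquivOfLe hCH).toMonoidHom with hlam
  have hlam_apply : ∀ (y : H) (hy : y ∈ C'), lam ⟨y, hy⟩ = lam0 ⟨(y : G), hy⟩ := by
    intro y hy; rfl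
  have hbH : b ∈ H := by rw [hHN]; exact hbN
  have haC' : (⟨a, hCH haC⟩ : H) ∈ C' := Subgroup.mem_subgroupOf.mpr haC
  have hb : lam ⟨(⟨b, hbH⟩ : H) * ((⟨⟨a, hCH haC⟩, haC'⟩ : C') : H) * (⟨b, hbH⟩ : H)⁻¹,
      hC'n.conj_mem _ (⟨⟨a, hCH haC⟩, haC'⟩ : C').2 _⟩ ≠ lam ⟨⟨a, hCH haC⟩, haC'⟩ := by
    rw [hlam_apply, hlam_apply]
    have h1 : (⟨((⟨b, hbH⟩ : H) * ((⟨⟨a, hCH haC⟩, haC'⟩ : C') : H) * (⟨b, hbH⟩ : H)⁻¹ : H),
        hC'n.conj_mem _ (⟨⟨a, hCH haC⟩, haC'⟩ : C').2 _⟩ : C) = (⟨a, haC⟩ : C)⁻¹ := by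
      apply Subtype.ext
      simp only [Subgroup.coe_mul, Subgroup.coe_inv]
      exact hrel
    rw [h1, map_inv]
    show (lam0 ⟨a, haC⟩)⁻¹ ≠ lam0 ⟨a, haC⟩
    rw [hlam_a]
    exact BSuzK.unitI_inv_ne
  set θ : H → ℂ := Cfsg.indFun C' (BSuzH.phi C' lam) with hθ
  have hθgen : Cfsg.IsGeneralizedCharacter H θ := BSuzH.ind_isGeneralizedCharacter C' lam
  have hθ1 : θ 1 = 0 := BSuzH.ind_apply_one C' lam
  have hθone : Cfsg.classInner θ (fun _ => (1 : ℂ)) = 1 := BSuzH.ind_inner_one C' lam _ _ hb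
  have hθnorm : Cfsg.classInner θ θ = 3 := BSuzH.ind_norm C' hidx' lam _ _ hb
  have hθX : ∀ x : H, (x : G) ∉ X → θ x = 0 := by
    intro x hx
    by_cases hxC : x ∈ C'
    · apply BSuzH.ind_apply_of_trivial C' lam x hxC
      intro g hg
      rw [hlam_apply]
      apply hlam_triv
      rw [← Subgroup.orderOf_coe]
      show ¬ 2 ^ (n + 1 + 1) ∣ orderOf ((g : G) * (x : G) * ((g⁻¹ : H) : G))
      intro hdvd
      apply hx
      have hgH : (g : G) ∈ Subgroup.normalizer X := g.2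
      rw [Subgroup.mem_set_normalizer_iff.mp hgH (x : G), hXmem]
      refine ⟨Subgroup.mem_subgroupOf.mp hg, ?_⟩
      rw [hcardD]
      simpa using hdvd
    · exact BSuzH.ind_apply_off C' lam x hxC
  -- induction to G
  have hθcf : Cfsg.IsClassFunction H θ := IsGeneralizedCharacter.isClassFunction hθgen
  have hΘgen : Cfsg.IsGeneralizedCharacter G (Cfsg.indFun H θ) := by
    obtain ⟨α, β, hα, hβ, hαβ⟩ := hθgen
    refine ⟨Cfsg.indFun H α, Cfsg.indFun H β, isCharacter_indFun H α hα,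
      isCharacter_indFun H β hβ, ?_⟩
    rw [hαβ, indFun_sub]
  have hΘnorm : Cfsg.classInner (Cfsg.indFun H θ) (Cfsg.indFun H θ) = 3 := by
    have := indFun_TI_inner X hTI θ θ hθcf hθX hθX hθ1
    rw [← hθnorm]
    convert this
  have hΘone : Cfsg.classInner (Cfsg.indFun H θ) (fun _ => (1 : ℂ)) = 1 := by
    rw [frobenius_reciprocity H θ _ (IsCharacter.isClassFunction isCharacter_one)]
    exact hθone
  have hΘ1 : Cfsg.indFun H θ 1 = 0 := by
    rw [indFun_apply_one, hθ1, mul_zero]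
  obtain ⟨χ₁, χ₂, h1, h2, h3, h4, h5, h6⟩ := BSuzI.norm_three_decomp hΘgen hΘnorm hΘone hΘ1
  refine ⟨H, X, θ, χ₁, χ₂, z, hTI', hXinv, hX4, hθX, hθ1, hz2, ?_, h1, h2, h3, h4, h5, h6⟩
  intro t ht
  rw [hHN] at ht
  exact hzuniq t ht

end Cfsg.Agent.Helper2.BSuzJ
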