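import Mathlib
import Cfsg.Prelude.Def_Characters
import Cfsg.Prelude.Def_Blocks
import Cfsg.Agent.Helper6.StructConst
import Cfsg.Agent.Helper6.Inflation
import Cfsg.Agent.Helper6.Linear
import Cfsg.Agent.Helper6.RepEigen
import Cfsg.Agent.Helper6.IrrDegree

/-!
# Character sums over pairs of conjugate involutions and kernels
-/

set_option autoImplicit false
set_option linter.style.haveILetI false

namespace Cfsg.Agent.Helper2.BSuzL

open Cfsg.Agent.Helper6 Module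
open scoped ComplexConjugate commutatorElement

universe u

variable {G : Type u} [Group G]

/-- the sum of an irreducible character over the products of pairs from a class -/
theorem sum_pairs_irr [Fintype G] (χ : Cfsg.IrrCharacter G) (z : G) :
    ∑ p ∈ classFinset z ×ˢ classFinset z, (χ : G → ℂ) (p.1 * p.2) =
      ((Subgroup.centralizer ({z} : Set G)).index : ℂ) ^ 2 * (χ : G → ℂ) z ^ 2 /
        (χ : G → ℂ) 1 := by
  have hχ1 : (χ : G → ℂ) 1 ≠ 0 := IsIrrCharacter.apply_one_ne_zero χ.2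
  rw [Finset.sum_product_right]
  simp only [sum_classFinset_char_mul]
  rw [← Finset.mul_sum, sum_classFinset_char]
  unfold Cfsg.centralChar
  field_simp

theorem kernel_of_sum_zero [Fintype G] (χ₁ χ₂ : G → ℂ) (h1 : Cfsg.IsIrrCharacter G χ₁)
    (h2 : Cfsg.IsIrrCharacter G χ₂) (z : G) (hdeg : χ₁ 1 = χ₂ 1 + 1) (hz : χ₁ z = χ₂ z + 1)
    (hsum : ∑ p ∈ classFinset z ×ˢ classFinset z,
      ((1 : ℂ) - χ₁ (p.1 * p.2) + χ₂ (p.1 * p.2)) = 0) : χ₁ z = χ₁ 1 := by
  have hd1 : χ₁ 1 ≠ 0 := IsIrrCharacter.apply_one_ne_zero h1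
  have hd2 : χ₂ 1 ≠ 0 := IsIrrCharacter.apply_one_ne_zero h2
  rw [Finset.sum_add_distrib, Finset.sum_sub_distrib] at hsum
  have e1 := sum_pairs_irr (⟨χ₁, h1⟩ : Cfsg.IrrCharacter G) z
  have e2 := sum_pairs_irr (⟨χ₂, h2⟩ : Cfsg.IrrCharacter G) z
  simp only at e1 e2
  rw [e1, e2, Finset.sum_const, Finset.card_product, card_classFinset, nsmul_eq_mul,
    mul_one] at hsum
  set k : ℂ := ((Subgroup.centralizer ({z} : Set G)).index : ℂ) with hk
  have hk0 : k ≠ 0 := by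
    rw [hk]
    have : (Subgroup.centralizer ({z} : Set G)).index ≠ 0 := Subgroup.index_ne_zero_of_finite
    exact_mod_cast this
  push_cast at hsum
  rw [← hk] at hsum
  have h3 : (1 : ℂ) - χ₁ z ^ 2 / χ₁ 1 + χ₂ z ^ 2 / χ₂ 1 = 0 := by
    have h4 : k * k * ((1 : ℂ) - χ₁ z ^ 2 / χ₁ 1 + χ₂ z ^ 2 / χ₂ 1) = 0 := by
      rw [← hsum]; ring
    rcases mul_eq_zero.mp h4 with h5 | h5
    · exact absurd (mul_self_eq_zero.mp h5) hk0
    · exact h5
  rw [hz, hdeg] at h3
  have hd2' : χ₂ 1 + 1 ≠ 0 := by rw [← hdeg]; exact hd1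
  field_simp at h3
  have h6 : (χ₂ 1 - χ₂ z) ^ 2 = 0 := by
    have h3' : χ₂ 1 * (χ₂ 1 + 1 - (χ₂ z + 1) ^ 2) + χ₂ z ^ 2 * (χ₂ 1 + 1) = 0 := by
      rw [h3]; ring
    rw [← h3']; ring
  have h7 : χ₂ 1 - χ₂ z = 0 := by
    exact pow_eq_zero_iff (by norm_num) |>.mp h6
  rw [hz, hdeg]
  rw [sub_eq_zero] at h7
  rw [h7]

theorem exists_normal_even [Finite G] (χ₁ : G → ℂ) (h1 : Cfsg.IsIrrCharacter G χ₁) (z : G)
    (hz2 : orderOf z = 2) (hker : χ₁ z = χ₁ 1) (hdeg : χ₁ 1 ≠ 1) :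
    ∃ M : Subgroup G, M.Normal ∧ Even (Nat.card M) ∧ ¬ commutator G ≤ M := by
  classical
  obtain ⟨n₁, ρ, hirr, hρ⟩ := h1
  have hmem : ∀ g : G, g ∈ (ρ : G →* _).ker ↔ χ₁ g = χ₁ 1 := by
    intro g
    rw [MonoidHom.mem_ker, ← hρ, Representation.char_one, char_eq_finrank_iff]
    rfl
  refine ⟨(ρ : G →* _).ker, inferInstance, ?_, ?_⟩
  · have hzM : z ∈ (ρ : G →* _).ker := (hmem z).mpr hker
    have h2 := orderOf_dvd_natCard (⟨z, hzM⟩ : (ρ : G →* _).ker)
    rw [← Subgroup.orderOf_coe] at h2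
    simp only at h2
    rw [hz2] at h2
    exact even_iff_two_dvd.mpr h2
  · intro hle
    set M : Subgroup G := (ρ : G →* _).ker with hM
    have hψ : Cfsg.IsIrrCharacter G χ₁ := ⟨n₁, ρ, hirr, hρ⟩
    obtain ⟨ψ', hψ'⟩ := exists_deflate M (⟨χ₁, hψ⟩ : Cfsg.IrrCharacter G)
      (fun g hg => (hmem g).mp hg)
    have hcomm : ∀ x y : G ⧸ M, x * y = y * x := by
      intro x y
      induction x using QuotientGroup.induction_on with
      | H x =>
      induction y using QuotientGroup.induction_on with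
      | H y =>
      rw [← QuotientGroup.mk_mul, ← QuotientGroup.mk_mul, QuotientGroup.eq]
      apply hle
      have h3 : (x * y)⁻¹ * (y * x) = ⁅y⁻¹, x⁻¹⁆ := by
        rw [commutatorElement_def]; group
      rw [h3]
      exact Subgroup.commutator_mem_commutator (Subgroup.mem_top _) (Subgroup.mem_top _)
    have h4 := (comm_iff_forall_irr_degree_one (G := G ⧸ M)).mp hcomm ψ'
    apply hdeg
    have h5 := congrFun hψ' 1
    simp only [Function.comp_apply, QuotientGroup.mk_one] at h5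
    rw [h5, h4]

end Cfsg.Agent.Helper2.BSuzL
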