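import Mathlib
import Cfsg.Prelude.Def_Characters
import Cfsg.Agent.Helper6.IndFun

/-!
# Vanishing of an induced function away from elements of order divisible by four
-/

set_option autoImplicit false

namespace Cfsg.Agent.Helper2.BSuzM

open Cfsg.Agent.Helper6

universe u

variable {G : Type u} [Group G]

theorem indFun_eq_zero [Fintype G] (H : Subgroup G) (X : Set G) (θ : H → ℂ)
    (hX4 : ∀ s ∈ X, 4 ∣ orderOf s) (hθX : ∀ x : H, (x : G) ∉ X → θ x = 0) (g : G)
    (hg : ¬ 4 ∣ orderOf g) : Cfsg.indFun H θ g = 0 := by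
  rw [indFun_apply]
  have h1 : ∀ x : G, Cfsg.extendByZero H θ (x⁻¹ * g * x) = 0 := by
    intro x
    by_cases hmem : x⁻¹ * g * x ∈ H
    · rw [extendByZero_mem _ _ hmem]
      apply hθX
      intro hX
      apply hg
      have h2 := hX4 _ hX
      have h3 : x⁻¹ * g * x = MulAut.conj x⁻¹ g := by rw [MulAut.conj_apply, inv_inv]
      rw [show ((⟨x⁻¹ * g * x, hmem⟩ : H) : G) = x⁻¹ * g * x from rfl, h3,
        MulEquiv.orderOf_eq] at h2
      exact h2
    · exact extendByZero_not_mem _ _ hmem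
  simp [h1]

end Cfsg.Agent.Helper2.BSuzM
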