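import Mathlib
import Cfsg.Agent.Helper2.ZStarD
import Cfsg.Agent.S0216
import Cfsg.Agent.S0847

set_option autoImplicit false
set_option linter.style.haveILetI false

/-!
# Glauberman's Z*-theorem: glue lemmas (Brauer–Suzuki from the `Q₈` case, Sylow form)
-/

namespace Cfsg.Agent.Helper2.ZStar

open Cfsg.Agent.Helper2 Cfsg.Agent.Helper1

universe u

/-- The Brauer–Suzuki theorem for `Q₈` as a hypothesis (in a fixed universe). -/
def Q8Hyp : Prop := ∀ (G : Type u) [Group G] [Finite G] (S : Sylow 2 G),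
  Nonempty ((S : Subgroup G) ≃* QuaternionGroup 2) →
  (∀ N : Subgroup G, N.Normal → Odd (Nat.card N) → N = ⊥) → Nat.card (Subgroup.center G) = 2

theorem bsHyp_of_q8Hyp (h : Q8Hyp.{u}) : BSHyp.{u} := by
  intro G _ _ S n he hO
  cases n with
  | zero => exact h G S he hO
  | succ m =>
    obtain ⟨e⟩ := he
    exact Cfsg.Agent.S0847.result S m e hO

variable {G : Type u} [Group G]

/-- An involution of a Sylow `2`-subgroup `P` with no other conjugate in `P` is isolated. -/
theorem isolated_of_sylow [Finite G] (P : Sylow 2 G) (x : G) (hx : orderOf x = 2)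
    (hxP : x ∈ P) (hiso : ∀ g : G, g * x * g⁻¹ ∈ P → g * x * g⁻¹ = x) :
    Cfsg.IsIsolatedInvolution x := by
  refine ⟨hx, fun g hc => ?_⟩
  have hodd := (Cfsg.Agent.S0216.result P x hx hxP).mp hiso g
  have hxx : x * x = 1 := mul_self_of_orderOf_two hx
  have hxi : x⁻¹ = x := inv_eq_of_mul_eq_one_left hxx
  set v := g * x * g⁻¹ with hv
  have hvv : v * v = 1 := by
    rw [hv]
    calc g * x * g⁻¹ * (g * x * g⁻¹) = g * (x * x) * g⁻¹ := by group
      _ = 1 := by rw [hxx]; group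
  have hvi : v⁻¹ = v := inv_eq_of_mul_eq_one_left hvv
  have hcomm : x * g * x⁻¹ * g⁻¹ = x * v := by
    rw [hv, hxi]; group
  rw [hcomm] at hodd
  have hsq : (x * v) ^ 2 = 1 := by
    rw [pow_two]
    calc x * v * (x * v) = x * (v * x) * v := by group
      _ = x * (x * v) * v := by rw [hc.eq]
      _ = (x * x) * (v * v) := by group
      _ = 1 := by rw [hxx, hvv, one_mul]
  have hd : orderOf (x * v) ∣ 2 := orderOf_dvd_of_pow_eq_one hsq
  have h1 : orderOf (x * v) = 1 := by
    rcases (Nat.dvd_prime Nat.prime_two).mp hd with h | h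
    · exact h
    · exfalso
      rw [h] at hodd
      exact (Nat.not_even_iff_odd.mpr hodd) even_two
  have h2 : x * v = 1 := orderOf_eq_one_iff.mp h1
  calc v = v⁻¹ := hvi.symm
    _ = x := (inv_eq_of_mul_eq_one_left h2)

theorem oddCore_odd_card [Finite G] : Odd (Nat.card (Cfsg.oddCore G)) := by
  have h := card_pPrimeCore_coprime (G := G) 2
  rw [← Nat.not_even_iff_odd, even_iff_two_dvd]
  intro hd
  have : (2 : ℕ) ∣ Nat.gcd (Nat.card (Cfsg.pPrimeCore 2 G)) 2 := Nat.dvd_gcd hd dvd_rfl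
  rw [Nat.Coprime] at h
  rw [h] at this
  omega

/-- The Z*-theorem in Sylow form, modulo Brauer–Suzuki. -/
theorem zstar_sylow (BS : BSHyp.{u}) [Finite G] (P : Sylow 2 G) (x : G) (hx : orderOf x = 2)
    (hxP : x ∈ P) (hiso : ∀ g : G, g * x * g⁻¹ ∈ P → g * x * g⁻¹ = x) :
    ∃ N : Subgroup G, N.Normal ∧ Odd (Nat.card N) ∧ ∀ g : G, (x * g * x⁻¹ * g⁻¹) ∈ N :=
  ⟨Cfsg.oddCore G, inferInstance, oddCore_odd_card,
    zstar BS (Nat.card G) G rfl x (isolated_of_sylow P x hx hxP hiso)⟩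

end Cfsg.Agent.Helper2.ZStar
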