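import Mathlib
import Cfsg.Agent.Helper2.ZStarE
import Cfsg.Agent.Helper1.Fitting2

set_option autoImplicit false
set_option linter.style.haveILetI false

/-!
# Weakly closed elements of a Sylow subgroup: powers
-/

namespace Cfsg.Agent.Helper2.ZStar

open Cfsg.Agent.Helper2 Cfsg.Agent.Helper1

universe u

variable {G : Type u} [Group G]

/-- A weakly closed element of a subgroup is central in it. -/
theorem wc_commute (S : Subgroup G) (x : G)
    (hiso : ∀ g : G, g * x * g⁻¹ ∈ S → g * x * g⁻¹ = x) (hxS : x ∈ S) (s : G) (hs : s ∈ S) :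
    s * x = x * s := by
  have h1 : s * x * s⁻¹ ∈ S := S.mul_mem (S.mul_mem hs hxS) (S.inv_mem hs)
  have h2 := hiso s h1
  calc s * x = s * x * s⁻¹ * s := by group
    _ = x * s := by rw [h2]

theorem isPGroup_zpowers_of_pow {p : ℕ} [Fact p.Prime] {H : Type*} [Group H] (a : H) (k : ℕ)
    (ha : a ^ p ^ k = 1) : IsPGroup p (Subgroup.zpowers a) := by
  have hd : orderOf a ∣ p ^ k := orderOf_dvd_of_pow_eq_one ha
  obtain ⟨j, -, hj⟩ := (Nat.dvd_prime_pow Fact.out).mp hd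
  exact IsPGroup.of_card (n := j) (by rw [Nat.card_zpowers, hj])

/-- In a Sylow `p`-subgroup, powers of a weakly closed element are weakly closed. -/
theorem wc_pow {p : ℕ} [Fact p.Prime] [Finite G] (S : Sylow p G) (x : G) (hxS : x ∈ S)
    (hiso : ∀ g : G, g * x * g⁻¹ ∈ S → g * x * g⁻¹ = x) (j : ℕ) (g : G)
    (hg : g * x ^ j * g⁻¹ ∈ S) : g * x ^ j * g⁻¹ = x ^ j := by
  have hconj : g * x ^ j * g⁻¹ = (g * x * g⁻¹) ^ j := (conj_pow (a := g) (b := x) (i := j)).symm
  set y' := g * x ^ j * g⁻¹ with hy'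
  set x' := g * x * g⁻¹ with hx'
  have hxy' : y' * x = x * y' := wc_commute (S : Subgroup G) x hiso hxS y' hg
  have hxC : x ∈ Subgroup.centralizer ({y'} : Set G) := by
    rw [Subgroup.mem_centralizer_singleton_iff]; exact hxy'.symm
  have hx'C : x' ∈ Subgroup.centralizer ({y'} : Set G) := by
    rw [Subgroup.mem_centralizer_singleton_iff, hconj]
    exact ((Commute.refl x').pow_right j).eq
  obtain ⟨k, hk⟩ := S.2 ⟨x, hxS⟩
  have hxk : x ^ p ^ k = 1 := by
    have := congrArg Subtype.val hk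
    simpa using this
  have hx'k : x' ^ p ^ k = 1 := by
    rw [hx', conj_pow, hxk]; group
  set C := Subgroup.centralizer ({y'} : Set G) with hC
  -- a Sylow subgroup of `C` containing `S ⊓ C`
  have hp1 : IsPGroup p (((S : Subgroup G) ⊓ C).subgroupOf C) :=
    (S.2.to_le inf_le_left).comap_subtype
  obtain ⟨R, hR⟩ := hp1.exists_le_sylow
  have hp2 : IsPGroup p (Subgroup.zpowers (⟨x', hx'C⟩ : C)) := by
    apply isPGroup_zpowers_of_pow _ k
    apply Subtype.ext
    simpa using hx'k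
  obtain ⟨R', hR'⟩ := hp2.exists_le_sylow
  obtain ⟨c, hc⟩ := MulAction.exists_smul_eq C R' R
  have hcx' : c * ⟨x', hx'C⟩ * c⁻¹ ∈ (R : Subgroup C) := by
    rw [← hc, Sylow.coe_subgroup_smul, Subgroup.mem_pointwise_smul_iff_inv_smul_mem]
    have : (MulAut.conj c)⁻¹ • (c * ⟨x', hx'C⟩ * c⁻¹) = (⟨x', hx'C⟩ : C) := by
      rw [← map_inv, MulAut.smul_def, MulAut.conj_apply]; group
    rw [this]
    exact hR' (Subgroup.mem_zpowers _)
  have hp3 : IsPGroup p ((R : Subgroup C).map C.subtype) := R.2.map _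
  obtain ⟨Q, hQ⟩ := hp3.exists_le_sylow
  obtain ⟨u, hu⟩ := MulAction.exists_smul_eq G S Q
  have hxQ : x ∈ (Q : Subgroup G) := by
    apply hQ
    refine ⟨⟨x, hxC⟩, hR ?_, rfl⟩
    rw [Subgroup.mem_subgroupOf]
    exact ⟨hxS, hxC⟩
  have hcxQ : (c : G) * x' * (c : G)⁻¹ ∈ (Q : Subgroup G) := by
    apply hQ
    exact ⟨_, hcx', by simp⟩
  rw [← hu, Sylow.coe_subgroup_smul, Subgroup.mem_pointwise_smul_iff_inv_smul_mem] at hxQ hcxQ
  rw [← map_inv, MulAut.smul_def, MulAut.conj_apply, inv_inv] at hxQ hcxQ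
  -- `u` commutes with `x`
  have hux : u⁻¹ * x * u = x := by
    have := hiso u⁻¹ (by rw [inv_inv]; exact hxQ)
    rwa [inv_inv] at this
  have h2 : u⁻¹ * ((c : G) * x' * (c : G)⁻¹) * u = x := by
    have h3 : (u⁻¹ * (c : G) * g) * x * (u⁻¹ * (c : G) * g)⁻¹ ∈ (S : Subgroup G) := by
      have : (u⁻¹ * (c : G) * g) * x * (u⁻¹ * (c : G) * g)⁻¹ =
          u⁻¹ * ((c : G) * x' * (c : G)⁻¹) * u := by rw [hx']; group
      rw [this]; exact hcxQ
    have h4 := hiso _ h3
    rw [← h4, hx']; group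
  have h5 : (c : G) * x' * (c : G)⁻¹ = x := by
    calc (c : G) * x' * (c : G)⁻¹ = u * (u⁻¹ * ((c : G) * x' * (c : G)⁻¹) * u) * u⁻¹ := by group
      _ = u * x * u⁻¹ := by rw [h2]
      _ = u * (u⁻¹ * x * u) * u⁻¹ := by rw [hux]
      _ = x := by group
  have h6 : (c : G) * y' * (c : G)⁻¹ = x ^ j := by
    rw [hconj, ← conj_pow, h5]
  have h7 : (c : G) * y' * (c : G)⁻¹ = y' := by
    have := Subgroup.mem_centralizer_singleton_iff.mp c.2
    calc (c : G) * y' * (c : G)⁻¹ = y' * (c : G) * (c : G)⁻¹ := by rw [this]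
      _ = y' := by group
  rw [← h7, h6]

end Cfsg.Agent.Helper2.ZStar
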