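import Mathlib
import Cfsg.Agent.Helper2.ZStarF

set_option autoImplicit false
set_option linter.style.haveILetI false

/-!
# The Z*-theorem for weakly closed `2`-elements (modulo Brauer–Suzuki)
-/

namespace Cfsg.Agent.Helper2.ZStar

open Cfsg.Agent.Helper2 Cfsg.Agent.Helper1

universe u

variable {G : Type u} [Group G]

/-- Weak closure of an element of a Sylow subgroup passes to quotients. -/
theorem wc_quotient {p : ℕ} [Fact p.Prime] [Finite G] (S : Sylow p G) (N : Subgroup G) [N.Normal]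
    (x : G) (hxS : x ∈ S) (hiso : ∀ g : G, g * x * g⁻¹ ∈ S → g * x * g⁻¹ = x)
    (q : G ⧸ N)
    (hq : q * (QuotientGroup.mk x : G ⧸ N) * q⁻¹ ∈ (S : Subgroup G).map (QuotientGroup.mk' N)) :
    q * (QuotientGroup.mk x : G ⧸ N) * q⁻¹ = (QuotientGroup.mk x : G ⧸ N) := by
  obtain ⟨g, rfl⟩ := QuotientGroup.mk_surjective q
  obtain ⟨s, hs, hsq⟩ := hq
  set y := g * x * g⁻¹ with hy
  have hsy : s⁻¹ * y ∈ N := by
    rw [← QuotientGroup.eq_one_iff]
    have h1 : (QuotientGroup.mk s : G ⧸ N) = QuotientGroup.mk y := by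
      rw [hy]; simpa using hsq
    rw [QuotientGroup.mk_mul, QuotientGroup.mk_inv, h1, inv_mul_cancel]
  set M := (S : Subgroup G) ⊔ N with hM
  have hSM : (S : Subgroup G) ≤ M := le_sup_left
  have hyM : y ∈ M := by
    have : y = s * (s⁻¹ * y) := by group
    rw [this]
    exact M.mul_mem (hSM hs) ((le_sup_right : N ≤ M) hsy)
  obtain ⟨k, hk⟩ := S.2 ⟨x, hxS⟩
  have hxk : x ^ p ^ k = 1 := by
    have := congrArg Subtype.val hk
    simpa using this
  have hyk : y ^ p ^ k = 1 := by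
    rw [hy, conj_pow, hxk]; group
  have hp2 : IsPGroup p (Subgroup.zpowers (⟨y, hyM⟩ : M)) := by
    apply isPGroup_zpowers_of_pow _ k
    apply Subtype.ext
    simpa using hyk
  obtain ⟨Q, hQ⟩ := hp2.exists_le_sylow
  obtain ⟨m, hm⟩ := MulAction.exists_smul_eq M Q (S.subtype hSM)
  have hmy : m * ⟨y, hyM⟩ * m⁻¹ ∈ ((S.subtype hSM : Sylow p M) : Subgroup M) := by
    rw [← hm, Sylow.coe_subgroup_smul, Subgroup.mem_pointwise_smul_iff_inv_smul_mem]
    have : (MulAut.conj m)⁻¹ • (m * ⟨y, hyM⟩ * m⁻¹) = (⟨y, hyM⟩ : M) := by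
      rw [← map_inv, MulAut.smul_def, MulAut.conj_apply]; group
    rw [this]
    exact hQ (Subgroup.mem_zpowers _)
  rw [Sylow.coe_subtype, Subgroup.mem_subgroupOf] at hmy
  have hmy' : (m : G) * y * (m : G)⁻¹ ∈ (S : Subgroup G) := by simpa using hmy
  have h3 : ((m : G) * g) * x * ((m : G) * g)⁻¹ = x := by
    apply hiso
    have : ((m : G) * g) * x * ((m : G) * g)⁻¹ = (m : G) * y * (m : G)⁻¹ := by rw [hy]; group
    rw [this]; exact hmy'
  have h4 : (m : G) * y * (m : G)⁻¹ = x := by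
    rw [← h3, hy]; group
  -- `m = s' * n'`
  have hmM : (m : G) ∈ ((S : Subgroup G) ⊔ N : Subgroup G) := m.2
  rw [← SetLike.mem_coe, Subgroup.mul_normal, Set.mem_mul] at hmM
  obtain ⟨s', hs', n', hn', hmeq⟩ := hmM
  have hms : (QuotientGroup.mk (m : G) : G ⧸ N) = QuotientGroup.mk s' := by
    rw [← hmeq, QuotientGroup.mk_mul, (QuotientGroup.eq_one_iff n').mpr hn', mul_one]
  have hcomm : s' * x = x * s' := wc_commute (S : Subgroup G) x hiso hxS s' hs'
  have h5 : (QuotientGroup.mk s' : G ⧸ N) * QuotientGroup.mk y * (QuotientGroup.mk s')⁻¹ =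
      QuotientGroup.mk x := by
    rw [← hms, ← QuotientGroup.mk_inv, ← QuotientGroup.mk_mul, ← QuotientGroup.mk_mul, h4]
  have h6 : (QuotientGroup.mk s' : G ⧸ N) * QuotientGroup.mk x =
      QuotientGroup.mk x * QuotientGroup.mk s' := by
    rw [← QuotientGroup.mk_mul, ← QuotientGroup.mk_mul, hcomm]
  have h7 : (QuotientGroup.mk y : G ⧸ N) = QuotientGroup.mk x := by
    calc (QuotientGroup.mk y : G ⧸ N)
        = (QuotientGroup.mk s')⁻¹ * ((QuotientGroup.mk s' : G ⧸ N) * QuotientGroup.mk y *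
            (QuotientGroup.mk s')⁻¹) * QuotientGroup.mk s' := by group
      _ = (QuotientGroup.mk s')⁻¹ * (QuotientGroup.mk x : G ⧸ N) * QuotientGroup.mk s' := by
          rw [h5]
      _ = (QuotientGroup.mk s')⁻¹ * ((QuotientGroup.mk x : G ⧸ N) * QuotientGroup.mk s') := by
          group
      _ = (QuotientGroup.mk s')⁻¹ * ((QuotientGroup.mk s' : G ⧸ N) * QuotientGroup.mk x) := by
          rw [h6]
      _ = QuotientGroup.mk x := by group
  have h8 : (QuotientGroup.mk g : G ⧸ N) * QuotientGroup.mk x * (QuotientGroup.mk g)⁻¹ =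
      QuotientGroup.mk y := by
    rw [hy]; simp
  rw [h8, h7]

/-- The statement of the Z*-theorem for weakly closed `2`-elements of order `m`. -/
def TwoEltStmt (m : ℕ) : Prop :=
  ∀ (H : Type u) [Group H] [Finite H] (T : Sylow 2 H) (y : H), orderOf y = m → y ∈ T →
    (∀ g : H, g * y * g⁻¹ ∈ T → g * y * g⁻¹ = y) →
    ∀ g : H, y * g * y⁻¹ * g⁻¹ ∈ Cfsg.oddCore H

theorem zstar_two_corefree (BS : BSHyp.{u}) (n : ℕ) (IH : ∀ m < n, TwoEltStmt.{u} m)
    [Finite G] (hO : Cfsg.oddCore G = ⊥) (S : Sylow 2 G) (x : G) (hn : orderOf x = n)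
    (hxS : x ∈ S) (hiso : ∀ g : G, g * x * g⁻¹ ∈ S → g * x * g⁻¹ = x) (g : G) :
    x * g = g * x := by
  haveI : Fact (Nat.Prime 2) := ⟨Nat.prime_two⟩
  obtain ⟨k0, hk0⟩ := S.2 ⟨x, hxS⟩
  have hxk0 : x ^ 2 ^ k0 = 1 := by
    have := congrArg Subtype.val hk0
    simpa using this
  obtain ⟨k, hk⟩ : ∃ k, orderOf x = 2 ^ k := by
    have : orderOf x ∣ 2 ^ k0 := orderOf_dvd_of_pow_eq_one hxk0
    obtain ⟨j, -, hj⟩ := (Nat.dvd_prime_pow Nat.prime_two).mp this
    exact ⟨j, hj⟩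
  rcases Nat.eq_zero_or_pos k with rfl | hkpos
  · rw [pow_zero, orderOf_eq_one_iff] at hk
    rw [hk, one_mul, mul_one]
  obtain ⟨k', rfl⟩ := Nat.exists_eq_succ_of_ne_zero hkpos.ne'
  set z := x ^ 2 ^ k' with hz
  have hz2 : orderOf z = 2 := by
    rw [hz, orderOf_pow' x (pow_ne_zero _ two_ne_zero), hk, pow_succ, Nat.gcd_eq_right
      (Dvd.intro _ rfl), Nat.mul_div_cancel_left _ (pow_pos two_pos _)]
  have hzS : z ∈ (S : Subgroup G) := (S : Subgroup G).pow_mem hxS _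
  have hzwc : ∀ g : G, g * z * g⁻¹ ∈ S → g * z * g⁻¹ = z := fun g hg => wc_pow S x hxS hiso _ g hg
  have hzc : ∀ g : G, z * g = g * z := by
    intro g
    have h1 := zstar BS (Nat.card G) G rfl z (isolated_of_sylow S z hz2 hzS hzwc) g
    rw [hO, Subgroup.mem_bot] at h1
    calc z * g = (z * g * z⁻¹ * g⁻¹) * (g * z) := by group
      _ = g * z := by rw [h1, one_mul]
  rcases Nat.eq_zero_or_pos k' with rfl | hk'pos
  · have : z = x := by rw [hz, pow_zero, pow_one]
    rw [← this]; exact hzc g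
  have hzz : z * z = 1 := mul_self_of_orderOf_two hz2
  have hz1 : z ≠ 1 := ne_one_of_orderOf_two hz2
  have hzcen : z ∈ Subgroup.center G := by
    rw [Subgroup.mem_center_iff]; intro g; exact (hzc g).symm
  haveI hZn : (Subgroup.zpowers z).Normal := by
    refine ⟨fun n hn g => ?_⟩
    have hnc : n ∈ Subgroup.center G := (Subgroup.zpowers_le.mpr hzcen) hn
    have : g * n * g⁻¹ = n := by
      rw [Subgroup.mem_center_iff.mp hnc g, mul_inv_cancel_right]
    rw [this]; exact hn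
  have hZcard : Nat.card (Subgroup.zpowers z) = 2 := by rw [Nat.card_zpowers, hz2]
  have hmemZ : ∀ a ∈ Subgroup.zpowers z, a = 1 ∨ a = z := by
    intro a ha
    obtain ⟨k, rfl⟩ := Subgroup.mem_zpowers_iff.mp ha
    rcases Int.even_or_odd' k with ⟨m, hm | hm⟩
    · left
      rw [hm, zpow_mul, zpow_two, hzz, one_zpow]
    · right
      rw [hm, zpow_add, zpow_mul, zpow_two, hzz, one_zpow, one_mul, zpow_one]
  have hcore : Cfsg.oddCore (G ⧸ Subgroup.zpowers z) = ⊥ := by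
    have h1 := Cfsg.Agent.Helper5.comap_pPrimeCore_quotient_le (p := 2) hO (Subgroup.zpowers z)
      (IsPGroup.of_card (n := 1) (by rw [hZcard, pow_one]))
      (fun n hn g => (Subgroup.mem_center_iff.mp ((Subgroup.zpowers_le.mpr hzcen) hn) g).symm)
    rw [eq_bot_iff]
    intro q hq
    obtain ⟨g, rfl⟩ := QuotientGroup.mk_surjective q
    have : g ∈ Subgroup.zpowers z := h1 hq
    rw [Subgroup.mem_bot]
    exact (QuotientGroup.eq_one_iff g).mpr this
  set Sb : Sylow 2 (G ⧸ Subgroup.zpowers z) :=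
    S.mapSurjective (QuotientGroup.mk'_surjective (Subgroup.zpowers z)) with hSb
  have hxb : (QuotientGroup.mk x : G ⧸ Subgroup.zpowers z) ∈ Sb := ⟨x, hxS, rfl⟩
  have hlt : orderOf (QuotientGroup.mk x : G ⧸ Subgroup.zpowers z) < n := by
    have h1 : (QuotientGroup.mk x : G ⧸ Subgroup.zpowers z) ^ 2 ^ k' = 1 := by
      rw [← QuotientGroup.mk_pow, QuotientGroup.eq_one_iff]
      exact Subgroup.mem_zpowers z
    have h2 : orderOf (QuotientGroup.mk x : G ⧸ Subgroup.zpowers z) ≤ 2 ^ k' :=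
      Nat.le_of_dvd (pow_pos two_pos _) (orderOf_dvd_of_pow_eq_one h1)
    rw [← hn, hk, pow_succ]
    have : 0 < 2 ^ k' := pow_pos two_pos _
    omega
  have h3 := IH _ hlt (G ⧸ Subgroup.zpowers z) Sb _ rfl hxb
    (fun q hq => wc_quotient S (Subgroup.zpowers z) x hxS hiso q hq) (QuotientGroup.mk g)
  rw [hcore, Subgroup.mem_bot] at h3
  have h4 : x * g * x⁻¹ * g⁻¹ ∈ Subgroup.zpowers z := by
    rw [← QuotientGroup.eq_one_iff]
    simpa using h3
  rcases hmemZ _ h4 with h | h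
  · calc x * g = (x * g * x⁻¹ * g⁻¹) * (g * x) := by group
      _ = g * x := by rw [h, one_mul]
  · exfalso
    have h5 : g * x * g⁻¹ = z * x := by
      have : g * x * g⁻¹ = (x * g * x⁻¹ * g⁻¹)⁻¹ * x := by group
      rw [this, h, inv_eq_of_mul_eq_one_left hzz]
    have h6 : g * x * g⁻¹ = x := by
      apply hiso
      rw [h5]
      exact (S : Subgroup G).mul_mem hzS hxS
    rw [h6] at h5
    apply hz1
    calc z = z * x * x⁻¹ := by group
      _ = 1 := by rw [← h5, mul_inv_cancel]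

/-- **The Z*-theorem for weakly closed `2`-elements**, modulo the Brauer–Suzuki theorem. -/
theorem zstar_two (BS : BSHyp.{u}) : ∀ n : ℕ, TwoEltStmt.{u} n := by
  intro n
  induction n using Nat.strong_induction_on with
  | _ n IH =>
  intro G _ _ S x hn hxS hiso g
  haveI : Fact (Nat.Prime 2) := ⟨Nat.prime_two⟩
  have hO : Cfsg.oddCore (G ⧸ Cfsg.oddCore G) = ⊥ := pPrimeCore_quotient_pPrimeCore 2
  set Sb : Sylow 2 (G ⧸ Cfsg.oddCore G) :=
    S.mapSurjective (QuotientGroup.mk'_surjective (Cfsg.oddCore G)) with hSb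
  have hxb : (QuotientGroup.mk x : G ⧸ Cfsg.oddCore G) ∈ Sb := ⟨x, hxS, rfl⟩
  have hwc : ∀ q : G ⧸ Cfsg.oddCore G, q * (QuotientGroup.mk x : G ⧸ Cfsg.oddCore G) * q⁻¹ ∈ Sb →
      q * (QuotientGroup.mk x : G ⧸ Cfsg.oddCore G) * q⁻¹ = QuotientGroup.mk x :=
    fun q hq => wc_quotient S (Cfsg.oddCore G) x hxS hiso q hq
  have hle : orderOf (QuotientGroup.mk x : G ⧸ Cfsg.oddCore G) ≤ n := by
    rw [← hn]
    exact Nat.le_of_dvd (orderOf_pos x) (orderOf_map_dvd (QuotientGroup.mk' (Cfsg.oddCore G)) x)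
  have key : (QuotientGroup.mk x : G ⧸ Cfsg.oddCore G) * QuotientGroup.mk g =
      QuotientGroup.mk g * QuotientGroup.mk x := by
    rcases hle.lt_or_eq with hlt | heq
    · have h1 := IH _ hlt (G ⧸ Cfsg.oddCore G) Sb _ rfl hxb hwc (QuotientGroup.mk g)
      rw [hO, Subgroup.mem_bot] at h1
      calc (QuotientGroup.mk x : G ⧸ Cfsg.oddCore G) * QuotientGroup.mk g
          = ((QuotientGroup.mk x : G ⧸ Cfsg.oddCore G) * QuotientGroup.mk g *
              (QuotientGroup.mk x)⁻¹ * (QuotientGroup.mk g)⁻¹) *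
              (QuotientGroup.mk g * QuotientGroup.mk x) := by group
        _ = QuotientGroup.mk g * QuotientGroup.mk x := by rw [h1, one_mul]
    · exact zstar_two_corefree BS n IH hO Sb _ heq hxb hwc (QuotientGroup.mk g)
  rw [← QuotientGroup.eq_one_iff]
  have : ((x * g * x⁻¹ * g⁻¹ : G) : G ⧸ Cfsg.oddCore G) =
      (QuotientGroup.mk x : G ⧸ Cfsg.oddCore G) * QuotientGroup.mk g *
        (QuotientGroup.mk x)⁻¹ * (QuotientGroup.mk g)⁻¹ := by simp
  rw [this, key]; group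

/-- The Z*-theorem for weakly closed `2`-elements, usable form. -/
theorem zstar_two' (BS : BSHyp.{u}) [Finite G] (S : Sylow 2 G) (x : G) (hxS : x ∈ S)
    (hiso : ∀ g : G, g * x * g⁻¹ ∈ S → g * x * g⁻¹ = x) (g : G) :
    x * g * x⁻¹ * g⁻¹ ∈ Cfsg.oddCore G :=
  zstar_two BS (orderOf x) G S x rfl hxS hiso g

end Cfsg.Agent.Helper2.ZStar
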