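import Mathlib
import Cfsg.Agent.Helper2.QD2

set_option autoImplicit false

/-! Odd-order automorphisms of subgroups of dihedral `2`-groups. -/

namespace Cfsg.Agent.Helper2.DihSub

open DihedralGroup

/-- automorphisms of odd order of a cyclic 2-group are trivial -/
theorem cyclic_two_aut_odd_trivial {Q : Type*} [Group Q] [Finite Q] (hc : IsCyclic Q)
    (hQ : IsPGroup 2 Q) (β : MulAut Q) (t : ℕ) (ht : Odd t) (hβ : β ^ t = 1) : β = 1 := by
  haveI : Fact (Nat.Prime 2) := ⟨Nat.prime_two⟩
  obtain ⟨j, hj⟩ := IsPGroup.iff_card.mp hQ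
  have hcard : ∃ i, Nat.card (MulAut Q) = 2 ^ i := by
    rw [IsCyclic.card_mulAut, hj]
    rcases Nat.eq_zero_or_pos j with h0 | h0
    · subst h0
      exact ⟨0, by simp⟩
    · exact ⟨j - 1, by rw [Nat.totient_prime_pow Nat.prime_two h0]; simp⟩
  obtain ⟨i, hi⟩ := hcard
  haveI : Finite (MulAut Q) := Nat.finite_of_card_ne_zero (by rw [hi]; positivity)
  have h1 : orderOf β ∣ 2 ^ i := hi ▸ orderOf_dvd_natCard β
  have h2 : orderOf β ∣ t := orderOf_dvd_of_pow_eq_one hβ
  have hcop : Nat.Coprime (2 ^ i) t := by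
    apply Nat.Coprime.pow_left
    rw [Nat.coprime_two_left]
    exact ht
  have h3 : orderOf β = 1 := Nat.eq_one_of_dvd_coprimes hcop h1 h2
  exact orderOf_eq_one_iff.mp h3

/-- automorphisms of odd order of a group of dihedral type of order at least 8 are trivial -/
theorem dihedral_type_aut_odd_trivial {Q : Type*} [Group Q] [Finite Q] (C₀ : Subgroup Q)
    (hC : IsCyclic C₀) (hidx : C₀.index = 2) (a : ℕ) (ha : 2 ≤ a) (hcard : Nat.card C₀ = 2 ^ a)
    (hout : ∀ q, q ∉ C₀ → q * q = 1) (β : MulAut Q) (t : ℕ) (ht : Odd t) (hβ : β ^ t = 1) :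
    β = 1 := by
  obtain ⟨g, hg⟩ := hC.exists_generator
  have hgo : orderOf g = 2 ^ a := by
    rw [← hcard]; exact orderOf_eq_card_of_forall_mem_zpowers hg
  have hxo : orderOf (g : Q) = 2 ^ a := by rw [Subgroup.orderOf_coe]; exact hgo
  have hz : Subgroup.zpowers (g : Q) = C₀ := by
    apply le_antisymm
    · rw [Subgroup.zpowers_le]; exact g.2
    · intro c hc
      obtain ⟨k, hk⟩ := Subgroup.mem_zpowers_iff.mp (hg ⟨c, hc⟩)
      rw [Subgroup.mem_zpowers_iff]
      exact ⟨k, by have := congrArg Subtype.val hk; simpa using this⟩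
  have hne : C₀ ≠ ⊤ := by
    intro h; rw [h, Subgroup.index_top] at hidx; omega
  obtain ⟨y, -, hy⟩ := SetLike.exists_of_lt (lt_top_iff_ne_top.mpr hne)
  have h4 : 4 ≤ 2 ^ a := by
    calc 4 = 2 ^ 2 := by norm_num
      _ ≤ 2 ^ a := Nat.pow_le_pow_right (by norm_num) ha
  apply QD.aut_odd_trivial (g : Q) y a hxo (by rw [hz]; exact hidx) (by rw [hz]; exact hy)
    (hout y hy) _ β t ht hβ
  intro α
  rw [hz]
  by_contra hα
  have h1 := hout _ hα
  rw [← map_mul, ← map_one α] at h1
  have h2 : (g : Q) * (g : Q) = 1 := α.injective h1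
  have h3 : orderOf (g : Q) ∣ 2 := orderOf_dvd_of_pow_eq_one (by rw [pow_two]; exact h2)
  rw [hxo] at h3
  have := Nat.le_of_dvd (by norm_num) h3
  omega

/-- the rotation subgroup -/
def rot (m : ℕ) : Subgroup (DihedralGroup m) := Subgroup.zpowers (r 1)

theorem mem_rot_iff (m : ℕ) (d : DihedralGroup m) : d ∈ rot m ↔ ∃ j, d = r j := by
  unfold rot
  constructor
  · intro hd
    obtain ⟨k, rfl⟩ := Subgroup.mem_zpowers_iff.mp hd
    rw [r_one_zpow]
    exact ⟨_, rfl⟩
  · rintro ⟨j, rfl⟩
    rw [Subgroup.mem_zpowers_iff]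
    refine ⟨ZMod.cast j, ?_⟩
    rw [r_one_zpow, ZMod.intCast_cast, ZMod.cast_id', id]

theorem rot_index (m : ℕ) [NeZero m] : (rot m).index = 2 := by
  have h1 := (rot m).card_mul_index
  have h2 : Nat.card (rot m) = m := by
    unfold rot; rw [Nat.card_zpowers, orderOf_r_one]
  rw [h2, DihedralGroup.nat_card] at h1
  have hm : 0 < m := Nat.pos_of_ne_zero (NeZero.ne m)
  have : m * (rot m).index = m * 2 := by rw [h1]; ring
  exact Nat.eq_of_mul_eq_mul_left hm this

/-- A 2-group embedding in a dihedral group is cyclic, a four-group, or has no automorphism of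
odd order. -/
theorem sub_cases {Q : Type*} [Group Q] [Finite Q] (hQ : IsPGroup 2 Q) (m : ℕ) [NeZero m]
    (f : Q →* DihedralGroup m) (hf : Function.Injective f) :
    IsCyclic Q ∨ IsKleinFour Q ∨
      ∀ (β : MulAut Q) (t : ℕ), Odd t → β ^ t = 1 → β = 1 := by
  haveI : Fact (Nat.Prime 2) := ⟨Nat.prime_two⟩
  set C₀ := (rot m).comap f with hC₀
  have hC₀c : IsCyclic C₀ := by
    haveI : IsCyclic (rot m) := by unfold rot; infer_instance
    let f' : C₀ →* rot m :=
      { toFun := fun c => ⟨f c.1, c.2⟩
        map_one' := by ext; simp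
        map_mul' := fun a b => by ext; simp }
    apply isCyclic_of_injective f'
    intro a b hab
    have : f a.1 = f b.1 := congrArg Subtype.val hab
    exact Subtype.ext (hf this)
  by_cases htop : C₀ = ⊤
  · left
    have e : C₀ ≃* Q := (MulEquiv.subgroupCongr htop).trans Subgroup.topEquiv
    haveI := hC₀c
    exact @isCyclic_of_surjective Q C₀ _ _ (C₀ ≃* Q) _ _ _ e e.surjective
  · have hnorm : (rot m).Normal := Subgroup.normal_of_index_eq_two (rot_index m)
    have hidx : C₀.index = 2 := by
      rw [hC₀, Subgroup.index_comap]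
      have h1 : (rot m).relIndex f.range ∣ 2 := by
        rw [← rot_index m]; exact Subgroup.relIndex_dvd_index_of_normal (rot m) f.range
      rcases (Nat.dvd_prime Nat.prime_two).mp h1 with h2 | h2
      · exfalso
        apply htop
        rw [Subgroup.relIndex_eq_one] at h2
        rw [eq_top_iff]
        intro q _
        exact h2 ⟨q, rfl⟩
      · exact h2
    have hout : ∀ q, q ∉ C₀ → q * q = 1 := by
      intro q hq
      have h1 : f q ∉ rot m := hq
      rw [mem_rot_iff] at h1
      push Not at h1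
      apply hf
      rw [map_mul, map_one]
      rcases hfq : f q with j | i
      · exact absurd hfq (h1 j)
      · rw [sr_mul_sr, sub_self, one_def]
    obtain ⟨a, ha⟩ := IsPGroup.iff_card.mp (hQ.to_subgroup C₀)
    have hcardQ : Nat.card Q = 2 * 2 ^ a := by
      rw [← C₀.card_mul_index, ha, hidx]; ring
    rcases Nat.lt_or_ge a 2 with ha2 | ha2
    · interval_cases a
      · left
        haveI : Fact (Nat.card Q).Prime := by
          rw [hcardQ]; exact ⟨by norm_num⟩
        exact isCyclic_of_prime_card rfl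
      · right; left
        have hsq : ∀ q : Q, q ^ 2 = 1 := by
          intro q
          by_cases hq : q ∈ C₀
          · have h1 : (⟨q, hq⟩ : C₀) ^ Nat.card C₀ = 1 := pow_card_eq_one'
            rw [ha, pow_one] at h1
            exact congrArg Subtype.val h1
          · rw [pow_two]; exact hout q hq
        refine ⟨by rw [hcardQ]; norm_num, ?_⟩
        apply Nat.dvd_antisymm
        · exact Monoid.exponent_dvd_of_forall_pow_eq_one hsq
        · have hne : Monoid.exponent Q ≠ 1 := by
            intro h1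
            rw [Monoid.exp_eq_one_iff] at h1
            have := Nat.card_eq_one_iff_unique.mpr ⟨h1, ⟨1⟩⟩
            rw [hcardQ] at this
            omega
          have hd : Monoid.exponent Q ∣ 2 := Monoid.exponent_dvd_of_forall_pow_eq_one hsq
          rcases (Nat.dvd_prime Nat.prime_two).mp hd with h2 | h2
          · exact absurd h2 hne
          · rw [h2]
    · right; right
      exact dihedral_type_aut_odd_trivial C₀ hC₀c hidx a ha2 ha hout

end Cfsg.Agent.Helper2.DihSub
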