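import Mathlib
import Cfsg.Prelude.Def_Transfer
import Cfsg.Agent.Helper2.DihSub
import Cfsg.Agent.Helper1.FrobPCompl

set_option autoImplicit false

/-! Frobenius' criterion relative to a fixed Sylow subgroup; normal complements and normalizers. -/

namespace Cfsg.Agent.Helper2.DihSylow

open Subgroup

open scoped Pointwise

universe u

variable {X : Type u} [Group X]

/-- Frobenius' condition can be checked on subgroups of a fixed Sylow subgroup. -/
theorem plocalCentral_of_sylow [Finite X] {p : ℕ} [Fact p.Prime] (S : Sylow p X)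
    (h : ∀ Q : Subgroup X, Q ≤ S → ∀ g ∈ normalizer (Q : Set X), Nat.Coprime (orderOf g) p →
      g ∈ centralizer (Q : Set X)) : Cfsg.Agent.Helper1.PLocalCentral p X := by
  intro Q hQ g hg hcop
  obtain ⟨P, hQP⟩ := hQ.exists_le_sylow
  obtain ⟨x, hx⟩ := MulAction.exists_smul_eq X P S
  have hS : (S : Subgroup X) = MulAut.conj x • (P : Subgroup X) := by
    rw [← hx]; exact Sylow.coe_subgroup_smul
  set Q' := Q.map (MulAut.conj x).toMonoidHom with hQ'
  have mem_Q' : ∀ y, y ∈ Q' ↔ x⁻¹ * y * x ∈ Q := by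
    intro y
    constructor
    · rintro ⟨q, hq, rfl⟩
      change x⁻¹ * (x * q * x⁻¹) * x ∈ Q
      have : x⁻¹ * (x * q * x⁻¹) * x = q := by group
      rw [this]; exact hq
    · intro hy
      refine ⟨x⁻¹ * y * x, hy, ?_⟩
      change x * (x⁻¹ * y * x) * x⁻¹ = y
      group
  have hQ'S : Q' ≤ S := by
    intro y hy
    rw [hS]
    obtain ⟨q, hq, rfl⟩ := hy
    exact Subgroup.smul_mem_pointwise_smul q (MulAut.conj x) _ (hQP hq)
  have hg' : x * g * x⁻¹ ∈ normalizer (Q' : Set X) := by
    rw [Subgroup.mem_normalizer_iff]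
    intro y
    rw [mem_Q', mem_Q', Subgroup.mem_normalizer_iff.mp hg (x⁻¹ * y * x)]
    have : x⁻¹ * (x * g * x⁻¹ * y * (x * g * x⁻¹)⁻¹) * x = g * (x⁻¹ * y * x) * g⁻¹ := by group
    rw [this]
  have hord : orderOf (x * g * x⁻¹) = orderOf g := (MulAut.conj x).orderOf_eq g
  have hc := h Q' hQ'S _ hg' (by rw [hord]; exact hcop)
  rw [Subgroup.mem_centralizer_iff] at hc ⊢
  intro q hq
  have h1 := hc (x * q * x⁻¹) ⟨q, hq, rfl⟩
  have h2 : x * (q * g) * x⁻¹ = x * (g * q) * x⁻¹ := by
    calc x * (q * g) * x⁻¹ = (x * q * x⁻¹) * (x * g * x⁻¹) := by group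
      _ = (x * g * x⁻¹) * (x * q * x⁻¹) := h1
      _ = x * (g * q) * x⁻¹ := by group
  exact mul_left_cancel (mul_right_cancel h2)

/-- if the induced automorphism is trivial then the element centralizes -/
theorem mem_centralizer_of_aut_eq_one (Q : Subgroup X) (g : X) (hg : g ∈ normalizer (Q : Set X))
    (h : Q.normalizerMonoidHom ⟨g, hg⟩ = 1) : g ∈ centralizer (Q : Set X) := by
  have h2 : (⟨g, hg⟩ : normalizer (Q : Set X)) ∈ Q.normalizerMonoidHom.ker := h
  rw [Subgroup.normalizerMonoidHom_ker, Subgroup.mem_subgroupOf] at h2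
  exact h2

/-- the induced automorphism of an element of odd order has odd order -/
theorem aut_pow_eq_one (Q : Subgroup X) (g : X) (hg : g ∈ normalizer (Q : Set X)) :
    (Q.normalizerMonoidHom ⟨g, hg⟩) ^ orderOf g = 1 := by
  rw [← map_pow]
  have : (⟨g, hg⟩ : normalizer (Q : Set X)) ^ orderOf g = 1 := by
    apply Subtype.ext
    simp [pow_orderOf_eq_one]
  rw [this, map_one]

/-- If the normalizer of `Q` is generated by the centralizer and a `p`-subgroup, then elements of
order prime to `p` of the normalizer centralize `Q`. -/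
theorem mem_centralizer_of_normalizer_eq_sup [Finite X] {p : ℕ} [Fact p.Prime] (Q T : Subgroup X)
    (hT : IsPGroup p T) (hTN : T ≤ normalizer (Q : Set X))
    (hN : normalizer (Q : Set X) = centralizer (Q : Set X) ⊔ T) (g : X)
    (hg : g ∈ normalizer (Q : Set X)) (hcop : Nat.Coprime (orderOf g) p) :
    g ∈ centralizer (Q : Set X) := by
  apply mem_centralizer_of_aut_eq_one Q g hg
  have hCN : centralizer (Q : Set X) ≤ normalizer (Q : Set X) :=
    Subgroup.centralizer_le_normalizer _
  have htop : (⊤ : Subgroup (normalizer (Q : Set X))) =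
      (centralizer (Q : Set X)).subgroupOf (normalizer (Q : Set X)) ⊔
        T.subgroupOf (normalizer (Q : Set X)) := by
    rw [← Subgroup.subgroupOf_sup hCN hTN, ← hN, Subgroup.subgroupOf_self]
  have hrange : Q.normalizerMonoidHom.range =
      (T.subgroupOf (normalizer (Q : Set X))).map Q.normalizerMonoidHom := by
    rw [MonoidHom.range_eq_map, htop, Subgroup.map_sup]
    have : ((centralizer (Q : Set X)).subgroupOf (normalizer (Q : Set X))).map
        Q.normalizerMonoidHom = ⊥ := by
      rw [← Subgroup.normalizerMonoidHom_ker]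
      exact (Subgroup.map_eq_bot_iff _).mpr le_rfl
    rw [this, bot_sup_eq]
  have hTp : IsPGroup p (T.subgroupOf (normalizer (Q : Set X))) :=
    hT.of_equiv (Subgroup.subgroupOfEquivOfLe hTN).symm
  have hmp : IsPGroup p ((T.subgroupOf (normalizer (Q : Set X))).map Q.normalizerMonoidHom) :=
    hTp.map _
  have hmem : Q.normalizerMonoidHom ⟨g, hg⟩ ∈
      (T.subgroupOf (normalizer (Q : Set X))).map Q.normalizerMonoidHom := by
    rw [← hrange]; exact ⟨_, rfl⟩
  obtain ⟨k, hk⟩ := hmp ⟨_, hmem⟩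
  have hk' : (Q.normalizerMonoidHom ⟨g, hg⟩) ^ p ^ k = 1 := by
    have := congrArg Subtype.val hk
    simpa using this
  have h1 : orderOf (Q.normalizerMonoidHom ⟨g, hg⟩) ∣ p ^ k := orderOf_dvd_of_pow_eq_one hk'
  have h2 : orderOf (Q.normalizerMonoidHom ⟨g, hg⟩) ∣ orderOf g :=
    orderOf_dvd_of_pow_eq_one (aut_pow_eq_one Q g hg)
  have h3 : Nat.Coprime (p ^ k) (orderOf g) := (Nat.Coprime.pow_right k hcop).symm
  have h4 : orderOf (Q.normalizerMonoidHom ⟨g, hg⟩) = 1 := Nat.eq_one_of_dvd_coprimes h3 h1 h2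
  exact orderOf_eq_one_iff.mp h4

/-- With a normal complement `K` to `S`, normalizers of subgroups of `S` are controlled. -/
theorem normalizer_eq_of_complement (K S U : Subgroup X) [hK : K.Normal]
    (hc : K.IsComplement' S) (hUS : U ≤ S) :
    normalizer (U : Set X) = centralizer (U : Set X) ⊔ (S ⊓ normalizer (U : Set X)) := by
  have hdisj : K ⊓ S = ⊥ := hc.disjoint.eq_bot
  apply le_antisymm
  · intro n hn
    obtain ⟨⟨⟨k, hk⟩, ⟨s, hs⟩⟩, hks, -⟩ := hc.existsUnique n
    simp only at hks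
    -- a general step
    have step : ∀ (n k s : X), k ∈ K → s ∈ S → k * s = n → n ∈ normalizer (U : Set X) →
        ∀ u ∈ U, n * u * n⁻¹ = s * u * s⁻¹ := by
      intro n k s hk hs hks hn u hu
      have h1 : n * u * n⁻¹ ∈ U := (Subgroup.mem_normalizer_iff.mp hn u).mp hu
      set w := s * u * s⁻¹ with hw
      have hwS : w ∈ S := S.mul_mem (S.mul_mem hs (hUS hu)) (S.inv_mem hs)
      have h2 : n * u * n⁻¹ = k * w * k⁻¹ := by rw [← hks, hw]; group
      have h3 : k * w * k⁻¹ * w⁻¹ ∈ K := by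
        have : k * w * k⁻¹ * w⁻¹ = k * (w * k⁻¹ * w⁻¹) := by group
        rw [this]
        exact K.mul_mem hk (hK.conj_mem _ (K.inv_mem hk) w)
      have h4 : k * w * k⁻¹ * w⁻¹ ∈ S := by
        apply S.mul_mem _ (S.inv_mem hwS)
        rw [← h2]; exact hUS h1
      have h5 : k * w * k⁻¹ * w⁻¹ ∈ K ⊓ S := ⟨h3, h4⟩
      rw [hdisj, Subgroup.mem_bot] at h5
      rw [h2]
      exact mul_inv_eq_one.mp h5
    have h1 := step n k s hk hs hks hn
    have hn' : n⁻¹ ∈ normalizer (U : Set X) := Subgroup.inv_mem _ hn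
    have h2 := step n⁻¹ (s⁻¹ * k⁻¹ * s) s⁻¹
      (by
        have := hK.conj_mem _ (K.inv_mem hk) s⁻¹
        simpa using this)
      (S.inv_mem hs) (by rw [← hks]; group) hn'
    have hsN : s ∈ normalizer (U : Set X) := by
      rw [Subgroup.mem_normalizer_iff]
      intro u
      constructor
      · intro hu
        rw [← h1 u hu]
        exact (Subgroup.mem_normalizer_iff.mp hn u).mp hu
      · intro hu
        have h3 := h2 _ hu
        have h4 : n⁻¹ * (s * u * s⁻¹) * n⁻¹⁻¹ ∈ U :=
          (Subgroup.mem_normalizer_iff.mp hn' _).mp hu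
        rw [h3] at h4
        have : s⁻¹ * (s * u * s⁻¹) * s⁻¹⁻¹ = u := by group
        rwa [this] at h4
    have hkC : k ∈ centralizer (U : Set X) := by
      rw [Subgroup.mem_centralizer_iff]
      intro u hu
      -- u = s * u₀ * s⁻¹ with u₀ ∈ U
      have hu₀ : s⁻¹ * u * s ∈ U := by
        have := (Subgroup.mem_normalizer_iff.mp (Subgroup.inv_mem _ hsN) u).mp hu
        simpa using this
      have h3 := h1 _ hu₀
      have h4 : s * (s⁻¹ * u * s) * s⁻¹ = u := by group
      rw [h4, ← hks] at h3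
      have h5 : k * s * (s⁻¹ * u * s) * (k * s)⁻¹ = k * u * k⁻¹ := by group
      rw [h5] at h3
      calc u * k = (k * u * k⁻¹) * k := by rw [h3]
        _ = k * u := by group
    rw [← hks]
    exact Subgroup.mul_mem_sup hkC ⟨hs, hsN⟩
  · exact sup_le (Subgroup.centralizer_le_normalizer _) inf_le_right

end Cfsg.Agent.Helper2.DihSylow
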