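import Mathlib

set_option autoImplicit false

/-! Automorphisms of prime order and fixed points; odd-order elements acting on 2-subgroups. -/

namespace Cfsg.Agent.Helper2.OddAut

open Subgroup

/-- the fixed subgroup of an automorphism -/
def fixSub {Q : Type*} [Group Q] (σ : MulAut Q) : Subgroup Q where
  carrier := {q | σ q = q}
  one_mem' := map_one σ
  mul_mem' := by
    intro a b ha hb
    change σ (a * b) = a * b
    rw [map_mul, ha, hb]
  inv_mem' := by
    intro a ha
    change σ a⁻¹ = a⁻¹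
    rw [map_inv, ha]

theorem mem_fixSub {Q : Type*} [Group Q] (σ : MulAut Q) (q : Q) : q ∈ fixSub σ ↔ σ q = q := Iff.rfl

theorem fixSub_ne_top {Q : Type*} [Group Q] (σ : MulAut Q) (hσ : σ ≠ 1) : fixSub σ ≠ ⊤ := by
  intro h
  apply hσ
  ext q
  have : q ∈ fixSub σ := by rw [h]; exact Subgroup.mem_top q
  exact this

theorem card_modEq_fixSub {Q : Type*} [Group Q] [Finite Q] (σ : MulAut Q) (r : ℕ) [hr : Fact r.Prime]
    (hσ : orderOf σ = r) : Nat.card Q ≡ Nat.card (fixSub σ) [MOD r] := by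
  have hA : IsPGroup r (Subgroup.zpowers σ) := by
    apply IsPGroup.of_card (n := 1)
    rw [Nat.card_zpowers, hσ, pow_one]
  have h1 := hA.card_modEq_card_fixedPoints Q
  have h2 : MulAction.fixedPoints (Subgroup.zpowers σ) Q = (fixSub σ : Set Q) := by
    ext q
    constructor
    · intro hq
      exact hq ⟨σ, Subgroup.mem_zpowers σ⟩
    · intro hq a
      have h3 : σ ∈ MulAction.stabilizer (MulAut Q) q := hq
      have h4 : Subgroup.zpowers σ ≤ MulAction.stabilizer (MulAut Q) q := by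
        rw [Subgroup.zpowers_le]; exact h3
      exact h4 a.2
  rw [h2] at h1
  exact h1

/-- an element normalizing but not centralizing `Q` induces an automorphism of prime order -/
theorem exists_prime_aut {G : Type*} [Group G] [Finite G] (Q : Subgroup G) (g : G)
    (hg : g ∈ normalizer (Q : Set G)) (hgc : g ∉ centralizer (Q : Set G)) :
    ∃ (r : ℕ) (σ : MulAut Q), r.Prime ∧ r ∣ orderOf g ∧ orderOf σ = r := by
  set σ₀ := Q.normalizerMonoidHom ⟨g, hg⟩ with hσ₀
  have h1 : σ₀ ≠ 1 := by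
    intro h
    have h2 : (⟨g, hg⟩ : normalizer (Q : Set G)) ∈ Q.normalizerMonoidHom.ker := h
    rw [Subgroup.normalizerMonoidHom_ker, Subgroup.mem_subgroupOf] at h2
    exact hgc h2
  have h2 : orderOf σ₀ ∣ orderOf g := by
    have := orderOf_map_dvd Q.normalizerMonoidHom (⟨g, hg⟩ : normalizer (Q : Set G))
    rwa [Subgroup.orderOf_mk] at this
  have h3 : orderOf σ₀ ≠ 1 := by
    rw [Ne, orderOf_eq_one_iff]; exact h1
  have h4 : orderOf σ₀ ≠ 0 := by
    intro h0
    rw [h0, zero_dvd_iff] at h2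
    exact (orderOf_pos g).ne' h2
  have hr := Nat.minFac_prime h3
  refine ⟨(orderOf σ₀).minFac, σ₀ ^ (orderOf σ₀ / (orderOf σ₀).minFac), hr,
    (Nat.minFac_dvd _).trans h2, ?_⟩
  exact orderOf_pow_orderOf_div h4 (Nat.minFac_dvd _)

/-- If an element of odd order normalizes and does not centralize a 2-subgroup of order at most
`8`, then `3` divides its order and `4 ∣ |Q|`, or `7` divides its order and `|Q| = 8`. -/
theorem odd_action_small {G : Type*} [Group G] [Finite G] (Q : Subgroup G) (hQ : IsPGroup 2 Q)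
    (hQ8 : Nat.card Q ∣ 8) (g : G)
    (hg : g ∈ normalizer (Q : Set G)) (hgc : g ∉ centralizer (Q : Set G))
    (hodd : Nat.Coprime (orderOf g) 2) :
    (3 ∣ orderOf g ∧ 4 ∣ Nat.card Q) ∨ (7 ∣ orderOf g ∧ Nat.card Q = 8) := by
  obtain ⟨r, σ, hr, hrg, hσ⟩ := exists_prime_aut Q g hg hgc
  haveI : Fact r.Prime := ⟨hr⟩
  have hr2 : r ≠ 2 := by
    rintro rfl
    have := Nat.Coprime.eq_one_of_dvd hodd.symm hrg
    omega
  have hmod := card_modEq_fixSub σ r hσ
  have hσ1 : σ ≠ 1 := by
    rintro rfl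
    rw [orderOf_one] at hσ
    exact hr.one_lt.ne hσ
  have hne := fixSub_ne_top σ hσ1
  obtain ⟨k, hk⟩ := IsPGroup.iff_card.mp hQ
  obtain ⟨j, hj⟩ := IsPGroup.iff_card.mp (hQ.to_subgroup (fixSub σ))
  have hlt : Nat.card (fixSub σ) < Nat.card Q := by
    have hle := Subgroup.card_le_card_group (fixSub σ)
    rcases hle.lt_or_eq with h | h
    · exact h
    · exact absurd ((Subgroup.card_eq_iff_eq_top _).mp h) hne
  rw [hk, hj] at hlt hmod
  rw [hk] at hQ8 ⊢
  have hjk : j < k := (Nat.pow_lt_pow_iff_right (by norm_num)).mp hlt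
  have hk3 : k ≤ 3 := by
    have : 2 ^ k ∣ 2 ^ 3 := hQ8
    exact (Nat.pow_dvd_pow_iff_le_right (by norm_num)).mp this
  have hdvd : r ∣ 2 ^ k - 2 ^ j := (Nat.modEq_iff_dvd' hlt.le).mp hmod.symm
  have hr7 : r ≤ 7 := by
    have h1 : 2 ^ k - 2 ^ j ≤ 7 := by
      have : 2 ^ k ≤ 2 ^ 3 := Nat.pow_le_pow_right (by norm_num) hk3
      have : 0 < 2 ^ j := by positivity
      omega
    have h2 : 0 < 2 ^ k - 2 ^ j := Nat.sub_pos_of_lt hlt
    exact (Nat.le_of_dvd h2 hdvd).trans h1
  have hr' := hr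
  interval_cases k <;> interval_cases j <;> interval_cases r <;> simp_all (config := {decide := true})
  all_goals omega

end Cfsg.Agent.Helper2.OddAut
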