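import Mathlib
import Cfsg.Agent.Helper2.ZStarG
import Cfsg.Agent.S0201

set_option autoImplicit false
set_option linter.style.haveILetI false

/-!
# Glauberman's Z*-theorem, unconditional forms
-/

namespace Cfsg.Agent.Helper2.ZStar

open Cfsg.Agent.Helper2 Cfsg.Agent.Helper1

universe u

/-- The Brauer–Suzuki theorem (S0201 = S0847 + the `Q₈` case by helper4), in the `BSHyp` form. -/
theorem bsHyp : BSHyp.{u} := by
  intro G _ _ S n he hO
  obtain ⟨e⟩ := he
  exact Cfsg.Agent.S0201.result S n e hO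

variable {G : Type u} [Group G] [Finite G]

/-- **Glauberman's Z*-theorem**: an isolated involution is central modulo `O(G)`. -/
theorem glauberman_zstar (x : G) (hx : Cfsg.IsIsolatedInvolution x) (g : G) :
    x * g * x⁻¹ * g⁻¹ ∈ Cfsg.oddCore G :=
  zstar bsHyp (Nat.card G) G rfl x hx g

/-- **Glauberman's Z*-theorem**, Sylow form. -/
theorem glauberman_zstar_sylow (P : Sylow 2 G) (x : G) (hx : orderOf x = 2)
    (hxP : x ∈ P) (hiso : ∀ g : G, g * x * g⁻¹ ∈ P → g * x * g⁻¹ = x) :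
    ∃ N : Subgroup G, N.Normal ∧ Odd (Nat.card N) ∧ ∀ g : G, (x * g * x⁻¹ * g⁻¹) ∈ N :=
  zstar_sylow bsHyp P x hx hxP hiso

/-- **Glauberman's Z*-theorem** for weakly closed `2`-elements of a Sylow `2`-subgroup. -/
theorem glauberman_zstar_two (S : Sylow 2 G) (x : G) (hxS : x ∈ S)
    (hiso : ∀ g : G, g * x * g⁻¹ ∈ S → g * x * g⁻¹ = x) (g : G) :
    x * g * x⁻¹ * g⁻¹ ∈ Cfsg.oddCore G :=
  zstar_two' bsHyp S x hxS hiso g

end Cfsg.Agent.Helper2.ZStar
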