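import Mathlib
import Cfsg.Agent.Helper2.Conj
import Cfsg.Agent.Helper2.Invol

set_option autoImplicit false

namespace Cfsg.Agent.Helper2

variable {G : Type*} [Group G]

/-- The elements of a Klein four subgroup. -/
theorem klein_elements (P : Subgroup G) (hP : IsKleinFour P) :
    ∃ a b : G, a ∈ P ∧ b ∈ P ∧ a ≠ 1 ∧ b ≠ 1 ∧ a ≠ b := by
  have := hP
  obtain ⟨a, ha⟩ : ∃ a : P, a ≠ 1 := by
    by_contra h
    push Not at h
    apply IsKleinFour.not_isCyclic (G := P)
    refine ⟨⟨1, fun x => ⟨0, by simp [h x]⟩⟩⟩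
  obtain ⟨b, hb1, hba⟩ : ∃ b : P, b ≠ 1 ∧ b ≠ a := by
    by_contra h
    push Not at h
    apply IsKleinFour.not_isCyclic (G := P)
    refine ⟨⟨a, fun x => ?_⟩⟩
    by_cases hx : x = 1
    · exact ⟨0, by simp [hx]⟩
    · exact ⟨1, by simp [h x hx]⟩
  refine ⟨a, b, a.2, b.2, ?_, ?_, ?_⟩
  · intro h; apply ha; exact Subtype.ext h
  · intro h; apply hb1; exact Subtype.ext h
  · intro h; apply hba; exact Subtype.ext h.symm

theorem klein_mem_cases (P : Subgroup G) (hP : IsKleinFour P) {x y : G} (hx : x ∈ P) (hy : y ∈ P)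
    (hx1 : x ≠ 1) (hy1 : y ≠ 1) (hxy : x ≠ y) {z : G} (hz : z ∈ P) :
    z = 1 ∨ z = x ∨ z = y ∨ z = x * y := by
  have := hP
  by_contra hne
  push Not at hne
  have := IsKleinFour.eq_mul_of_ne_all (G := P) (x := ⟨x, hx⟩) (y := ⟨y, hy⟩) (z := ⟨z, hz⟩)
    (by intro h; exact hx1 (congrArg Subtype.val h))
    (by intro h; exact hy1 (congrArg Subtype.val h))
    (by intro h; exact hxy (congrArg Subtype.val h))
    (by intro h; exact hne.1 (congrArg Subtype.val h))
    (by intro h; exact hne.2.1 (congrArg Subtype.val h))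
    (by intro h; exact hne.2.2.1 (congrArg Subtype.val h))
  exact hne.2.2.2 (congrArg Subtype.val this)

theorem klein_mul_self (P : Subgroup G) (hP : IsKleinFour P) {x : G} (hx : x ∈ P) : x * x = 1 := by
  have := hP
  exact congrArg Subtype.val (IsKleinFour.mul_self (G := P) ⟨x, hx⟩)

theorem klein_comm (P : Subgroup G) (hP : IsKleinFour P) {x y : G} (hx : x ∈ P) (hy : y ∈ P) :
    x * y = y * x := by
  have := hP
  have := IsKleinFour.isMulCommutative (G := P)
  exact congrArg Subtype.val (mul_comm' (⟨x, hx⟩ : P) ⟨y, hy⟩)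

/-- Burnside's fusion lemma for an abelian Sylow subgroup: the normalizer controls fusion. -/
theorem abelian_sylow_fusion [Finite G] {p : ℕ} [Fact p.Prime] (P : Sylow p G)
    (hab : ∀ x ∈ (P : Subgroup G), ∀ y ∈ (P : Subgroup G), x * y = y * x)
    {a : G} (ha : a ∈ (P : Subgroup G)) (g : G) (hg : g * a * g⁻¹ ∈ (P : Subgroup G)) :
    ∃ n ∈ Subgroup.normalizer ((P : Subgroup G) : Set G), n * a * n⁻¹ = g * a * g⁻¹ := by
  have hW : Cfsg.IsWeaklyClosed (P : Subgroup G) (P : Subgroup G) := by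
    refine ⟨le_rfl, fun h hh => ?_⟩
    have heq : Nat.card (cj h (P : Subgroup G)) = Nat.card (P : Subgroup G) :=
      Subgroup.card_map_of_injective (MulAut.conj h).injective
    exact Subgroup.eq_of_le_of_card_ge hh heq.ge
  have h1 : (P : Subgroup G) ≤ Subgroup.centralizer {g * a * g⁻¹} := by
    intro x hx
    rw [Subgroup.mem_centralizer_singleton_iff]
    exact hab _ hx _ hg
  have h2 : cj g (P : Subgroup G) ≤ Subgroup.centralizer {g * a * g⁻¹} := by
    rw [cj_le_iff]
    intro x hx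
    rw [Subgroup.mem_centralizer_singleton_iff]
    calc g * x * g⁻¹ * (g * a * g⁻¹) = g * (x * a) * g⁻¹ := by group
      _ = g * (a * x) * g⁻¹ := by rw [hab x hx a ha]
      _ = g * a * g⁻¹ * (g * x * g⁻¹) := by group
  obtain ⟨c, hc, hcg⟩ := weaklyClosed_fusion P P hW _ h1 g h2
  refine ⟨c * g, (mem_normalizer_iff_cj _ _).mpr hcg, ?_⟩
  rw [Subgroup.mem_centralizer_singleton_iff] at hc
  calc c * g * a * (c * g)⁻¹ = c * (g * a * g⁻¹) * c⁻¹ := by group
    _ = (g * a * g⁻¹) * c * c⁻¹ := by rw [hc]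
    _ = g * a * g⁻¹ := by group

/-- For an abelian Sylow `p`-subgroup `P`, `N(P)/C(P)` is a `p'`-group: if a `p`-power of
`n ∈ N(P)` centralizes `P` then so does `n`. -/
theorem mem_centralizer_of_pow_mem [Finite G] {p : ℕ} [hp : Fact p.Prime] (P : Sylow p G)
    (hab : ∀ x ∈ (P : Subgroup G), ∀ y ∈ (P : Subgroup G), x * y = y * x)
    {n : G} (hn : n ∈ Subgroup.normalizer ((P : Subgroup G) : Set G)) (k : ℕ)
    (hk : n ^ (p ^ k) ∈ Subgroup.centralizer ((P : Subgroup G) : Set G)) :
    n ∈ Subgroup.centralizer ((P : Subgroup G) : Set G) := by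
  obtain ⟨j, m, hm, horder⟩ := Nat.exists_eq_pow_mul_and_not_dvd (orderOf_pos n).ne' p
    hp.out.ne_one
  have hm0 : m ≠ 0 := by rintro rfl; simp at hm
  have hord : orderOf (n ^ m) = p ^ j := by
    rw [orderOf_pow_of_dvd hm0 (horder ▸ dvd_mul_left m (p ^ j)), horder,
      Nat.mul_div_cancel _ (Nat.pos_of_ne_zero hm0)]
  have hnm : n ^ m ∈ (P : Subgroup G) := by
    have hz : IsPGroup p (Subgroup.zpowers (n ^ m)) := by
      apply IsPGroup.of_card (n := j)
      rw [Nat.card_zpowers, hord]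
    have hle : Subgroup.zpowers (n ^ m) ≤ Subgroup.normalizer ((P : Subgroup G) : Set G) := by
      rw [Subgroup.zpowers_le]
      exact Subgroup.pow_mem _ hn m
    have hsup := IsPGroup.to_sup_of_normal_right' hz P.isPGroup' hle
    have := P.is_maximal' hsup le_sup_right
    rw [← this]
    exact (le_sup_left : Subgroup.zpowers (n ^ m) ≤ _) (Subgroup.mem_zpowers _)
  have hnmC : n ^ m ∈ Subgroup.centralizer ((P : Subgroup G) : Set G) := by
    rw [Subgroup.mem_centralizer_iff]
    intro x hx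
    exact hab x hx _ hnm
  have hcop : Nat.Coprime m (p ^ k) :=
    Nat.Coprime.pow_right k ((Nat.Prime.coprime_iff_not_dvd hp.out).2 hm).symm
  have hbez : (m : ℤ) * Int.gcdA m (p ^ k : ℕ) + ((p ^ k : ℕ) : ℤ) * Int.gcdB m (p ^ k : ℕ) = 1 := by
    have := Int.gcd_eq_gcd_ab (m : ℤ) ((p ^ k : ℕ) : ℤ)
    rw [Int.gcd_natCast_natCast, hcop.gcd_eq_one] at this
    exact_mod_cast this.symm
  have : n = (n ^ m) ^ (Int.gcdA m (p ^ k : ℕ)) * (n ^ (p ^ k)) ^ (Int.gcdB m (p ^ k : ℕ)) := by
    rw [← zpow_natCast n m, ← zpow_natCast n (p ^ k), ← zpow_mul, ← zpow_mul, ← zpow_add, hbez,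
      zpow_one]
  rw [this]
  exact Subgroup.mul_mem _ (Subgroup.zpow_mem _ hnmC _) (Subgroup.zpow_mem _ hk _)

/-- Counting lemma: a three-element list closed under the "two equal ⇒ all equal" rule has
one or three distinct members. -/
theorem card_three_classes {α : Type*} (p : α → Prop) (A B C : α)
    (hp : ∀ s, p s ↔ s = A ∨ s = B ∨ s = C)
    (h1 : A = B → B = C) (h2 : A = C → B = C) (h3 : B = C → A = B) :
    (Nat.card {s // p s} = 1 ∨ Nat.card {s // p s} = 3) ∧ (Nat.card {s // p s} = 3 ↔ A ≠ B) := by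
  have hset : {s | p s} = {A, B, C} := by
    ext s
    simp [hp s]
  have hcard : Nat.card {s // p s} = Set.ncard {s | p s} := (Nat.card_coe_set_eq _)
  rw [hcard, hset]
  by_cases hAB : A = B
  · have hBC := h1 hAB
    subst hAB
    subst hBC
    simp
  · have hAC : A ≠ C := fun h => hAB (h3 (h2 h))
    have hBC : B ≠ C := fun h => hAB (h3 h)
    have : Set.ncard {A, B, C} = 3 := Set.ncard_eq_three.mpr ⟨A, B, C, hAB, hAC, hBC, rfl⟩
    simp [this, hAB]

/-- In a group with Klein four Sylow 2-subgroup, if two distinct involutions `x, y` of `P` are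
conjugate, then `y` is conjugate to `x * y`. -/
theorem klein_fusion_cycle [Finite G] (P : Sylow 2 G) (hP : IsKleinFour (P : Subgroup G))
    {x y : G} (hx : x ∈ (P : Subgroup G)) (hy : y ∈ (P : Subgroup G))
    (hx1 : x ≠ 1) (hy1 : y ≠ 1) (hxy : x ≠ y) (hc : IsConj x y) : IsConj y (x * y) := by
  obtain ⟨g, hg⟩ := isConj_iff.mp hc
  have hab : ∀ u ∈ (P : Subgroup G), ∀ v ∈ (P : Subgroup G), u * v = v * u :=
    fun u hu v hv => klein_comm _ hP hu hv
  obtain ⟨n, hn, hnx⟩ := abelian_sylow_fusion P hab hx g (by rw [hg]; exact hy)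
  rw [hg] at hnx
  have hnP : ∀ u ∈ (P : Subgroup G), n * u * n⁻¹ ∈ (P : Subgroup G) := fun u hu =>
    (Subgroup.mem_normalizer_iff.mp hn u).mp hu
  have hw := hnP y hy
  refine isConj_iff.mpr ⟨n, ?_⟩
  rcases klein_mem_cases _ hP hx hy hx1 hy1 hxy hw with h | h | h | h
  · exfalso; apply hy1
    calc y = n⁻¹ * (n * y * n⁻¹) * n := by group
      _ = 1 := by rw [h]; group
  · -- swap: impossible
    exfalso
    have hsq : n ^ (2 ^ 1) ∈ Subgroup.centralizer ((P : Subgroup G) : Set G) := by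
      rw [pow_one, pow_two, Subgroup.mem_centralizer_iff]
      intro u hu
      have hxx : n * n * x = x * (n * n) := by
        calc n * n * x = n * (n * x * n⁻¹) * n := by group
          _ = n * y * n := by rw [hnx]
          _ = (n * y * n⁻¹) * n * n := by group
          _ = x * (n * n) := by rw [h]; group
      have hyy : n * n * y = y * (n * n) := by
        calc n * n * y = n * (n * y * n⁻¹) * n := by group
          _ = n * x * n := by rw [h]
          _ = (n * x * n⁻¹) * n * n := by group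
          _ = y * (n * n) := by rw [hnx]; group
      rcases klein_mem_cases _ hP hx hy hx1 hy1 hxy hu with h' | h' | h' | h'
      · rw [h']; simp
      · rw [h']; exact hxx.symm
      · rw [h']; exact hyy.symm
      · rw [h']
        calc x * y * (n * n) = x * (y * (n * n)) := by group
          _ = x * (n * n * y) := by rw [hyy]
          _ = (x * (n * n)) * y := by group
          _ = n * n * x * y := by rw [hxx]
          _ = n * n * (x * y) := by group
    have hnC := mem_centralizer_of_pow_mem P hab hn 1 hsq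
    rw [Subgroup.mem_centralizer_iff] at hnC
    apply hxy
    calc x = x * n * n⁻¹ := by group
      _ = n * x * n⁻¹ := by rw [hnC x hx]
      _ = y := hnx
  · exfalso; apply hxy
    calc x = n⁻¹ * (n * x * n⁻¹) * n := by group
      _ = n⁻¹ * (n * y * n⁻¹) * n := by rw [hnx, h]
      _ = y := by group
  · exact h

end Cfsg.Agent.Helper2
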