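import Mathlib
import Cfsg.Agent.Helper2.BaerSuzuki
import Cfsg.Agent.Helper2.Dihedral
import Cfsg.Agent.Helper2.KleinSylow
import Cfsg.Agent.Helper5.Cores

set_option autoImplicit false

namespace Cfsg.Agent.Helper2

variable {G : Type*} [Group G]

/-- An element of odd order with `r² = 1` is trivial. -/
theorem eq_one_of_sq_eq_one_of_odd {r : G} (hr : Odd (orderOf r)) (h : r * r = 1) : r = 1 := by
  have h1 : orderOf r ∣ 2 := orderOf_dvd_of_pow_eq_one (by rw [pow_two]; exact h)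
  have h2 : orderOf r = 1 := by
    rcases (Nat.dvd_prime Nat.prime_two).mp h1 with h3 | h3
    · exact h3
    · rw [h3] at hr; exact absurd hr (by decide)
  exact orderOf_eq_one_iff.mp h2

/-- An element of odd order inverting an element of odd order: the latter is trivial. -/
theorem eq_one_of_odd_inverts {s r : G} (hs : Odd (orderOf s)) (hr : Odd (orderOf r))
    (h : s * r * s⁻¹ = r⁻¹) : r = 1 := by
  have key : ∀ k : ℕ, s ^ k * r * (s ^ k)⁻¹ = if Even k then r else r⁻¹ := by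
    intro k
    induction k with
    | zero => simp
    | succ k ih =>
      have h1 : s ^ (k + 1) * r * (s ^ (k + 1))⁻¹ = s * (s ^ k * r * (s ^ k)⁻¹) * s⁻¹ := by
        rw [pow_succ']; group
      rw [h1, ih]
      by_cases hk : Even k
      · have hk' : ¬ Even (k + 1) := by
          rw [Nat.even_add_one]; exact not_not.mpr hk
        rw [if_pos hk, if_neg hk', h]
      · have hk' : Even (k + 1) := by
          rw [Nat.even_add_one]; exact hk
        rw [if_neg hk, if_pos hk']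
        have : s * r⁻¹ * s⁻¹ = (s * r * s⁻¹)⁻¹ := by group
        rw [this, h, inv_inv]
  have h1 := key (orderOf s)
  rw [pow_orderOf_eq_one, if_neg (Nat.not_even_iff_odd.mpr hs)] at h1
  have h2 : r = r⁻¹ := by simpa using h1
  apply eq_one_of_sq_eq_one_of_odd hr
  calc r * r = r * r⁻¹ := by rw [← h2]
    _ = 1 := mul_inv_cancel r

/-- An involution inverting `y` of odd order is conjugate to `y * u`. -/
theorem exists_conj_eq_mul_of_odd {u y : G} (hu : u * u = 1) (hy : Odd (orderOf y))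
    (h : u * y * u⁻¹ = y⁻¹) : ∃ g : G, g * u * g⁻¹ = y * u := by
  obtain ⟨j, hj⟩ := hy
  refine ⟨y ^ (j + 1), ?_⟩
  have huinv : u⁻¹ = u := inv_eq_of_mul_eq_one_left hu
  have h1 : u * (y ^ (j + 1))⁻¹ * u⁻¹ = y ^ (j + 1) := by
    have : u * (y ^ (j + 1))⁻¹ * u⁻¹ = ((u * y * u⁻¹) ^ (j + 1))⁻¹ := by
      rw [conj_pow]; group
    rw [this, h, inv_pow, inv_inv]
  have h2 : y ^ (j + 1) * y ^ (j + 1) = y := by
    rw [← pow_add]
    have : j + 1 + (j + 1) = orderOf y + 1 := by omega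
    rw [this, pow_succ, pow_orderOf_eq_one, one_mul]
  calc y ^ (j + 1) * u * (y ^ (j + 1))⁻¹
      = y ^ (j + 1) * (u * (y ^ (j + 1))⁻¹ * u⁻¹) * u := by group
    _ = y ^ (j + 1) * y ^ (j + 1) * u := by rw [h1]
    _ = y * u := by rw [h2]

/-- Baer–Suzuki consequence: an involution outside `O_2(G)` inverts a nontrivial element of odd
order. -/
theorem exists_odd_inverted_of_not_mem_pCore [Finite G] {u : G} (hu : u * u = 1)
    (hnot : u ∉ Cfsg.pCore 2 G) : ∃ y : G, y ≠ 1 ∧ Odd (orderOf y) ∧ u * y * u⁻¹ = y⁻¹ := by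
  have : Fact (Nat.Prime 2) := ⟨Nat.prime_two⟩
  have huinv : u⁻¹ = u := inv_eq_of_mul_eq_one_left hu
  by_contra hno
  push Not at hno
  apply hnot
  set X := Subgroup.zpowers u with hX
  have hXp : IsPGroup 2 X := by
    intro g
    refine ⟨1, ?_⟩
    obtain ⟨i, hi⟩ := g.2
    apply Subtype.ext
    rw [Subgroup.coe_pow, Subgroup.coe_one, ← hi]
    change (u ^ i) ^ 2 ^ 1 = 1
    rw [pow_one, ← zpow_natCast, ← zpow_mul, mul_comm, zpow_mul, zpow_natCast, pow_two, hu,
      one_zpow]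
  have hall : ∀ g : G, IsPGroup 2 ↥(X ⊔ cj g X) := by
    intro g
    set t := g * u * g⁻¹ with ht
    have htt : t * t = 1 := by
      rw [ht]
      calc g * u * g⁻¹ * (g * u * g⁻¹) = g * (u * u) * g⁻¹ := by group
        _ = 1 := by rw [hu]; group
    have hle : X ⊔ cj g X ≤ Subgroup.closure ({u, t} : Set G) := by
      apply sup_le
      · rw [hX, Subgroup.zpowers_le]
        exact Subgroup.subset_closure (Or.inl rfl)
      · rw [cj_le_iff]
        intro x hx
        obtain ⟨i, rfl⟩ := hx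
        change g * u ^ i * g⁻¹ ∈ _
        have : g * u ^ i * g⁻¹ = t ^ i := by rw [ht, conj_zpow]
        rw [this]
        have htc : t ∈ Subgroup.closure ({u, t} : Set G) :=
          Subgroup.subset_closure (Set.mem_insert_of_mem _ rfl)
        exact Subgroup.zpow_mem _ htc i
    apply IsPGroup.to_le _ hle
    set r := u * t with hr
    have hrn : orderOf r ≠ 0 := (orderOf_pos r).ne'
    obtain ⟨k, m, hm, hkm⟩ := Nat.exists_eq_two_pow_mul_odd hrn
    have hconj : u * r * u⁻¹ = r⁻¹ := by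
      rw [hr, inv_mul_invol hu htt, huinv]
      calc u * (u * t) * u = (u * u) * t * u := by group
        _ = t * u := by rw [hu, one_mul]
    have hy1 : r ^ (2 ^ k) = 1 := by
      by_contra hne
      apply hno _ hne
      · apply Odd.of_dvd_nat hm
        apply orderOf_dvd_of_pow_eq_one
        rw [← pow_mul, ← hkm, pow_orderOf_eq_one]
      · rw [← conj_pow, hconj, inv_pow]
    intro d
    obtain ⟨i, hi | hi⟩ := mem_closure_pair_invol hu htt d.2
    · refine ⟨k, ?_⟩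
      apply Subtype.ext
      rw [Subgroup.coe_pow, Subgroup.coe_one, hi]
      change (r ^ i) ^ 2 ^ k = 1
      rw [← zpow_natCast, ← zpow_mul, mul_comm, zpow_mul, zpow_natCast, hy1, one_zpow]
    · refine ⟨1, ?_⟩
      apply Subtype.ext
      rw [Subgroup.coe_pow, Subgroup.coe_one, hi, pow_one, pow_two]
      change u * r ^ i * (u * r ^ i) = 1
      rw [invol_mul_zpow hu htt i]
      calc r ^ (-i) * u * (r ^ (-i) * u) = r ^ (-i) * (u * r ^ (-i)) * u := by group
        _ = r ^ (-i) * (r ^ (- -i) * u) * u := by rw [invol_mul_zpow hu htt (-i)]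
        _ = r ^ (-i) * r ^ i * (u * u) := by rw [neg_neg]; group
        _ = 1 := by rw [hu, mul_one, ← zpow_add, neg_add_cancel, zpow_zero]
  obtain ⟨N, hN, hNp, hXN⟩ := baer_suzuki X hXp hall
  exact Cfsg.Agent.Helper5.le_pCore hN hNp (hXN (Subgroup.mem_zpowers u))

theorem odd_orderOf_mul_self {y : G} (hy : Odd (orderOf y)) : Odd (orderOf (y * y)) := by
  rw [← pow_two]
  exact Odd.of_dvd_nat hy (orderOf_pow_dvd 2)

theorem mul_self_ne_one_of_odd {y : G} (hy : Odd (orderOf y)) (hy1 : y ≠ 1) : y * y ≠ 1 :=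
  fun h => hy1 (eq_one_of_sq_eq_one_of_odd hy h)

/-- Key computation: a conjugate of `w = v v'` commuting with none of `v, v', w`. -/
theorem klein_conj_not_commute {v v' y y' : G} (hv : v * v = 1) (hv' : v' * v' = 1)
    (hvv : v * v' = v' * v) (hy : Odd (orderOf y)) (hy' : Odd (orderOf y'))
    (hy1 : y ≠ 1) (hy'1 : y' ≠ 1)
    (h1 : v * y * v⁻¹ = y) (h2 : v * y' * v⁻¹ = y'⁻¹)
    (h3 : v' * y' * v'⁻¹ = y') (h4 : v' * y * v'⁻¹ = y⁻¹) :
    v * ((y' * y) * (v * v') * (y' * y)⁻¹) ≠ ((y' * y) * (v * v') * (y' * y)⁻¹) * v ∧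
    v' * ((y' * y) * (v * v') * (y' * y)⁻¹) ≠ ((y' * y) * (v * v') * (y' * y)⁻¹) * v' ∧
    (v * v') * ((y' * y) * (v * v') * (y' * y)⁻¹) ≠
      ((y' * y) * (v * v') * (y' * y)⁻¹) * (v * v') := by
  have hvinv : v⁻¹ = v := inv_eq_of_mul_eq_one_left hv
  have hv'inv : v'⁻¹ = v' := inv_eq_of_mul_eq_one_left hv'
  obtain ⟨w, hw⟩ : ∃ w, w = v * v' := ⟨_, rfl⟩
  obtain ⟨z, hz⟩ : ∃ z, z = y * y := ⟨_, rfl⟩
  obtain ⟨s, hs⟩ : ∃ s, s = y' * y' := ⟨_, rfl⟩
  have hzodd : Odd (orderOf z) := by rw [hz]; exact odd_orderOf_mul_self hy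
  have hsodd : Odd (orderOf s) := by rw [hs]; exact odd_orderOf_mul_self hy'
  have hz1 : z ≠ 1 := by rw [hz]; exact mul_self_ne_one_of_odd hy hy1
  have hs1 : s ≠ 1 := by rw [hs]; exact mul_self_ne_one_of_odd hy' hy'1
  have hwinv : w⁻¹ = w := by
    rw [hw, mul_inv_rev, hvinv, hv'inv, hvv]
  -- conjugation action on `w`
  have hvw : v * w * v⁻¹ = w := by
    rw [hw, hvinv]
    calc v * (v * v') * v = (v * v) * (v' * v) := by group
      _ = v * v' := by rw [hv, one_mul, hvv]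
  have hv'w : v' * w * v'⁻¹ = w := by
    rw [hw, hv'inv]
    calc v' * (v * v') * v' = (v' * v) * (v' * v') := by group
      _ = v * v' := by rw [hv', mul_one, hvv]
  have hww : w * w * w⁻¹ = w := by group
  -- conjugation action on `y, y', z, s`
  have hwy : w * y * w⁻¹ = y⁻¹ := by
    rw [hw]
    calc v * v' * y * (v * v')⁻¹ = v * (v' * y * v'⁻¹) * v⁻¹ := by group
      _ = v * y⁻¹ * v⁻¹ := by rw [h4]
      _ = (v * y * v⁻¹)⁻¹ := by group
      _ = y⁻¹ := by rw [h1]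
  have hwy' : w * y' * w⁻¹ = y'⁻¹ := by
    rw [hw]
    calc v * v' * y' * (v * v')⁻¹ = v * (v' * y' * v'⁻¹) * v⁻¹ := by group
      _ = v * y' * v⁻¹ := by rw [h3]
      _ = y'⁻¹ := h2
  have hvz : v * z * v⁻¹ = z := by
    rw [hz]
    calc v * (y * y) * v⁻¹ = (v * y * v⁻¹) * (v * y * v⁻¹) := by group
      _ = y * y := by rw [h1]
  have hv'z : v' * z * v'⁻¹ = z⁻¹ := by
    rw [hz]
    calc v' * (y * y) * v'⁻¹ = (v' * y * v'⁻¹) * (v' * y * v'⁻¹) := by group
      _ = y⁻¹ * y⁻¹ := by rw [h4]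
      _ = (y * y)⁻¹ := by group
  have hwz : w * z * w⁻¹ = z⁻¹ := by
    rw [hz]
    calc w * (y * y) * w⁻¹ = (w * y * w⁻¹) * (w * y * w⁻¹) := by group
      _ = y⁻¹ * y⁻¹ := by rw [hwy]
      _ = (y * y)⁻¹ := by group
  have hvs : v * s * v⁻¹ = s⁻¹ := by
    rw [hs]
    calc v * (y' * y') * v⁻¹ = (v * y' * v⁻¹) * (v * y' * v⁻¹) := by group
      _ = y'⁻¹ * y'⁻¹ := by rw [h2]
      _ = (y' * y')⁻¹ := by group
  -- the conjugate
  obtain ⟨t, ht⟩ : ∃ t, t = (y' * y) * w * (y' * y)⁻¹ := ⟨_, rfl⟩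
  have ht' : t = y' * z * y' * w := by
    have e1 : w * y⁻¹ = y * w := by
      calc w * y⁻¹ = (w * y * w⁻¹)⁻¹ * w := by group
        _ = y * w := by rw [hwy, inv_inv]
    have e2 : w * y'⁻¹ = y' * w := by
      calc w * y'⁻¹ = (w * y' * w⁻¹)⁻¹ * w := by group
        _ = y' * w := by rw [hwy', inv_inv]
    rw [ht, hz]
    calc y' * y * w * (y' * y)⁻¹ = y' * y * (w * y⁻¹) * y'⁻¹ := by group
      _ = y' * y * (y * w) * y'⁻¹ := by rw [e1]
      _ = y' * y * y * (w * y'⁻¹) := by group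
      _ = y' * y * y * (y' * w) := by rw [e2]
      _ = y' * (y * y) * y' * w := by group
  rw [← hw, ← ht]
  refine ⟨?_, ?_, ?_⟩
  · intro hc
    have hconj : v * t * v⁻¹ = t := by rw [hc]; group
    have hvt : v * t * v⁻¹ = y'⁻¹ * z * y'⁻¹ * w := by
      rw [ht']
      calc v * (y' * z * y' * w) * v⁻¹
          = (v * y' * v⁻¹) * (v * z * v⁻¹) * (v * y' * v⁻¹) * (v * w * v⁻¹) := by group
        _ = y'⁻¹ * z * y'⁻¹ * w := by rw [h2, hvz, hvw]
    rw [hconj, ht'] at hvt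
    have e : y' * z * y' = y'⁻¹ * z * y'⁻¹ := mul_right_cancel hvt
    have hz' : z = s * z * s := by
      calc z = y' * (y'⁻¹ * z * y'⁻¹) * y' := by group
        _ = y' * (y' * z * y') * y' := by rw [e]
        _ = (y' * y') * z * (y' * y') := by group
        _ = s * z * s := by rw [hs]
    have e2 : z * s = s⁻¹ * z := by
      calc z * s = s⁻¹ * (s * z * s) := by group
        _ = s⁻¹ * z := by rw [← hz']
    have hinv : z * s * z⁻¹ = s⁻¹ := by rw [e2]; group
    exact hs1 (eq_one_of_odd_inverts hzodd hsodd hinv)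
  · intro hc
    have hconj : v' * t * v'⁻¹ = t := by rw [hc]; group
    have hvt : v' * t * v'⁻¹ = y' * z⁻¹ * y' * w := by
      rw [ht']
      calc v' * (y' * z * y' * w) * v'⁻¹
          = (v' * y' * v'⁻¹) * (v' * z * v'⁻¹) * (v' * y' * v'⁻¹) * (v' * w * v'⁻¹) := by group
        _ = y' * z⁻¹ * y' * w := by rw [h3, hv'z, hv'w]
    rw [hconj, ht'] at hvt
    have e : y' * z * y' = y' * z⁻¹ * y' := mul_right_cancel hvt
    have e2 : z = z⁻¹ := by
      have e3 : y' * z = y' * z⁻¹ := mul_right_cancel e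
      exact mul_left_cancel e3
    apply hz1
    apply eq_one_of_sq_eq_one_of_odd hzodd
    calc z * z = z * z⁻¹ := by rw [← e2]
      _ = 1 := mul_inv_cancel z
  · intro hc
    have hconj : w * t * w⁻¹ = t := by rw [hc]; group
    have hvt : w * t * w⁻¹ = y'⁻¹ * z⁻¹ * y'⁻¹ * w := by
      rw [ht']
      calc w * (y' * z * y' * w) * w⁻¹
          = (w * y' * w⁻¹) * (w * z * w⁻¹) * (w * y' * w⁻¹) * (w * w * w⁻¹) := by group
        _ = y'⁻¹ * z⁻¹ * y'⁻¹ * w := by rw [hwy', hwz, hww]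
    rw [hconj, ht'] at hvt
    have e : y' * z * y' = y'⁻¹ * z⁻¹ * y'⁻¹ := mul_right_cancel hvt
    -- (E1) : s z s z = 1
    have E1 : s * z * s * z = 1 := by
      calc s * z * s * z = y' * (y' * z * y') * y' * z := by rw [hs]; group
        _ = y' * (y'⁻¹ * z⁻¹ * y'⁻¹) * y' * z := by rw [e]
        _ = 1 := by group
    -- (E2) : conjugate by `v`
    have E2 : s⁻¹ * z * s⁻¹ * z = 1 := by
      calc s⁻¹ * z * s⁻¹ * z = (v * s * v⁻¹) * (v * z * v⁻¹) * (v * s * v⁻¹) * (v * z * v⁻¹) := by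
            rw [hvs, hvz]
        _ = v * (s * z * s * z) * v⁻¹ := by group
        _ = 1 := by rw [E1]; group
    have e3 : s * z * s = s⁻¹ * z * s⁻¹ := by
      calc s * z * s = (s * z * s * z) * z⁻¹ := by group
        _ = (s⁻¹ * z * s⁻¹ * z) * z⁻¹ := by rw [E1, E2]
        _ = s⁻¹ * z * s⁻¹ := by group
    have e4 : z⁻¹ * (s * s) * (z⁻¹)⁻¹ = (s * s)⁻¹ := by
      have e5 : (s * s) * z * (s * s) = z := by
        calc (s * s) * z * (s * s) = s * (s * z * s) * s := by group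
          _ = s * (s⁻¹ * z * s⁻¹) * s := by rw [e3]
          _ = z := by group
      calc z⁻¹ * (s * s) * (z⁻¹)⁻¹ = z⁻¹ * ((s * s) * z * (s * s)) * (s * s)⁻¹ := by group
        _ = z⁻¹ * z * (s * s)⁻¹ := by rw [e5]
        _ = (s * s)⁻¹ := by group
    have hzinv : Odd (orderOf z⁻¹) := by rw [orderOf_inv]; exact hzodd
    have hss := eq_one_of_odd_inverts hzinv (odd_orderOf_mul_self hsodd) e4
    exact hs1 (eq_one_of_sq_eq_one_of_odd hsodd hss)

theorem klein_inf_pCore_ne_bot [Finite G] (A : Subgroup G) (hA : IsKleinFour ↥A)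
    (h : ∀ a ∈ A, a ≠ 1 → ∀ g : G, A ⊓ Subgroup.centralizer ({g * a * g⁻¹} : Set G) ≠ ⊥) :
    A ⊓ Cfsg.pCore 2 G ≠ ⊥ := by
  intro hbot
  have hnot : ∀ u ∈ A, u ≠ 1 → u ∉ Cfsg.pCore 2 G := by
    intro u hu hu1 hmem
    have : u ∈ A ⊓ Cfsg.pCore 2 G := ⟨hu, hmem⟩
    rw [hbot, Subgroup.mem_bot] at this
    exact hu1 this
  have hstar : ∀ a ∈ A, a ≠ 1 → ∀ g : G,
      ∃ x ∈ A, x ≠ 1 ∧ x * (g * a * g⁻¹) = (g * a * g⁻¹) * x := by
    intro a ha ha1 g
    have h1 := h a ha ha1 g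
    rw [Ne, Subgroup.eq_bot_iff_forall] at h1
    push Not at h1
    obtain ⟨x, hx, hx1⟩ := h1
    refine ⟨x, hx.1, hx1, ?_⟩
    have h2 : x ∈ Subgroup.centralizer ({g * a * g⁻¹} : Set G) := hx.2
    rw [Subgroup.mem_centralizer_singleton_iff] at h2
    exact h2
  have key1 : ∀ u ∈ A, u ≠ 1 → ∃ y v, y ≠ 1 ∧ Odd (orderOf y) ∧ u * y * u⁻¹ = y⁻¹ ∧ v ∈ A ∧
      v ≠ 1 ∧ v ≠ u ∧ v * y * v⁻¹ = y := by
    intro u hu hu1
    have huu := klein_mul_self A hA hu
    obtain ⟨y, hy1, hyodd, hinv⟩ := exists_odd_inverted_of_not_mem_pCore huu (hnot u hu hu1)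
    obtain ⟨g, hg⟩ := exists_conj_eq_mul_of_odd huu hyodd hinv
    obtain ⟨v, hv, hv1, hvc⟩ := hstar u hu hu1 g
    rw [hg] at hvc
    have hvu : v * u = u * v := klein_comm A hA hv hu
    have hvy : v * y = y * v := by
      have : v * y * u = y * v * u := by
        calc v * y * u = v * (y * u) := by group
          _ = y * u * v := hvc
          _ = y * (u * v) := by group
          _ = y * (v * u) := by rw [hvu]
          _ = y * v * u := by group
      exact mul_right_cancel this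
    refine ⟨y, v, hy1, hyodd, hinv, hv, hv1, ?_, ?_⟩
    · rintro rfl
      have : y = y⁻¹ := by
        calc y = v * y * v⁻¹ := by rw [hvy]; group
          _ = y⁻¹ := hinv
      apply hy1
      apply eq_one_of_sq_eq_one_of_odd hyodd
      calc y * y = y * y⁻¹ := by rw [← this]
        _ = 1 := mul_inv_cancel y
    · rw [hvy]; group
  obtain ⟨a, b, ha, hb, ha1, hb1, hab⟩ := klein_elements A hA
  obtain ⟨y, v, hy1, hyodd, hay, hv, hv1, hva, hvy⟩ := key1 a ha ha1
  obtain ⟨y', v', hy'1, hy'odd, hvy', hv', hv'1, hv'v, hv'y'⟩ := key1 v hv hv1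
  have hv'y : v' * y * v'⁻¹ = y⁻¹ := by
    rcases klein_mem_cases A hA ha hv ha1 hv1 hva.symm hv' with h0 | h0 | h0 | h0
    · exact absurd h0 hv'1
    · rw [h0]; exact hay
    · exact absurd h0 hv'v
    · rw [h0]
      calc a * v * y * (a * v)⁻¹ = a * (v * y * v⁻¹) * a⁻¹ := by group
        _ = a * y * a⁻¹ := by rw [hvy]
        _ = y⁻¹ := hay
  have hvv : v * v = 1 := klein_mul_self A hA hv
  have hv'v' : v' * v' = 1 := klein_mul_self A hA hv'
  have hcomm : v * v' = v' * v := klein_comm A hA hv hv'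
  obtain ⟨n1, n2, n3⟩ :=
    klein_conj_not_commute hvv hv'v' hcomm hyodd hy'odd hy1 hy'1 hvy hvy' hv'y' hv'y
  have hw : v * v' ∈ A := mul_mem hv hv'
  have hw1 : v * v' ≠ 1 := by
    intro h0
    apply hv'v
    have h1 : v' = v⁻¹ := (inv_eq_of_mul_eq_one_right h0).symm
    rw [h1, inv_eq_of_mul_eq_one_left hvv]
  obtain ⟨x, hx, hx1, hxc⟩ := hstar (v * v') hw hw1 (y' * y)
  rcases klein_mem_cases A hA hv hv' hv1 hv'1 hv'v.symm hx with h0 | h0 | h0 | h0
  · exact hx1 h0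
  · rw [h0] at hxc; exact n1 hxc
  · rw [h0] at hxc; exact n2 hxc
  · rw [h0] at hxc; exact n3 hxc

end Cfsg.Agent.Helper2
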