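import Mathlib

set_option autoImplicit false

/-!
General lemmas for the proof that no finite group has exactly 21 Sylow 5-subgroups (helper2).
-/

namespace Cfsg.Agent.Helper2.Syl21

open MulAction

/-- For a `p`-group acting on a finite set, an invariant subset is congruent mod `p` to its set of
fixed points. -/
theorem ncard_modEq_of_invariant {H : Type*} [Group H] {Ω : Type*} [MulAction H Ω]
    [Finite Ω] {p : ℕ} [Fact p.Prime] (hH : IsPGroup p H) (F : Set Ω)
    (hF : ∀ h : H, ∀ x ∈ F, h • x ∈ F) :
    F.ncard ≡ (F ∩ MulAction.fixedPoints H Ω).ncard [MOD p] := by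
  let S : SubMulAction H Ω := ⟨F, fun h x hx => hF h x hx⟩
  have h1 := hH.card_modEq_card_fixedPoints (↥S)
  have h2 : Nat.card ↥S = F.ncard := Nat.card_coe_set_eq F
  have h3 : Nat.card (fixedPoints H ↥S) = (F ∩ MulAction.fixedPoints H Ω).ncard := by
    rw [← Nat.card_coe_set_eq]
    apply Nat.card_congr
    refine
      { toFun := fun x => ⟨x.1.1, x.1.2, fun h => ?_⟩
        invFun := fun y => ⟨⟨y.1, y.2.1⟩, fun h => ?_⟩
        left_inv := fun x => rfl
        right_inv := fun y => rfl }
    · have := x.2 h
      exact congrArg Subtype.val this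
    · apply Subtype.ext
      exact y.2.2 h
  rw [h2, h3] at h1
  exact h1

/-- If a group acts on a finite set fixing a point `a`, and every other orbit has size divisible
by `m`, then the set has size `≡ 1 (mod m)`. -/
theorem card_modEq_one_of_orbit_dvd {H : Type*} [Group H] {Ω : Type*} [MulAction H Ω]
    [Finite Ω] (m : ℕ) (a : Ω) (ha : ∀ h : H, h • a = a)
    (hm : ∀ b : Ω, b ≠ a → m ∣ (MulAction.orbit H b).ncard) :
    Nat.card Ω ≡ 1 [MOD m] := by
  classical
  have hfin : Fintype (orbitRel.Quotient H Ω) := Fintype.ofFinite _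
  have e := MulAction.selfEquivSigmaOrbits' H Ω
  have h1 : Nat.card Ω = ∑ ω : orbitRel.Quotient H Ω, Nat.card ω.orbit := by
    rw [Nat.card_congr e, Nat.card_sigma]
  set ω₀ : orbitRel.Quotient H Ω := Quotient.mk'' a with hω₀
  have h2 : ∑ ω : orbitRel.Quotient H Ω, Nat.card ω.orbit =
      Nat.card ω₀.orbit + ∑ ω ∈ Finset.univ.erase ω₀, Nat.card ω.orbit := by
    exact (Finset.add_sum_erase Finset.univ (fun ω : orbitRel.Quotient H Ω => Nat.card ω.orbit)
      (Finset.mem_univ ω₀)).symm
  have h3 : Nat.card ω₀.orbit = 1 := by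
    have : ω₀.orbit = {a} := by
      rw [hω₀, MulAction.orbitRel.Quotient.orbit_mk]
      ext x
      constructor
      · rintro ⟨h, rfl⟩
        exact ha h
      · intro hx
        rw [Set.mem_singleton_iff] at hx
        rw [hx]
        exact MulAction.mem_orbit_self a
    rw [this]
    simp
  have h4 : m ∣ ∑ ω ∈ Finset.univ.erase ω₀, Nat.card ω.orbit := by
    apply Finset.dvd_sum
    intro ω hω
    rw [Finset.mem_erase] at hω
    induction ω using Quotient.inductionOn' with
    | h b =>
      have hb : b ≠ a := by
        intro hba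
        apply hω.1
        rw [hba]
      have : MulAction.orbitRel.Quotient.orbit (Quotient.mk'' b : orbitRel.Quotient H Ω) =
          MulAction.orbit H b :=
        MulAction.orbitRel.Quotient.orbit_mk b
      rw [this, Nat.card_coe_set_eq]
      exact hm b hb
  rw [h1, h2, h3]
  obtain ⟨c, hc⟩ := h4
  rw [hc]
  show (1 + m * c) % m = 1 % m
  rw [Nat.add_mul_mod_self_left]

/-- An involution on 21 points with exactly 11 fixed points is an odd permutation. -/
theorem sign_eq_neg_one_of_eleven {α : Type*} [Fintype α] [DecidableEq α] (σ : Equiv.Perm α)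
    (h2 : σ ^ 2 = 1) (hcard : Fintype.card α = 21)
    (hfix : (Finset.univ.filter (fun x => σ x = x)).card = 11) :
    Equiv.Perm.sign σ = -1 := by
  have hsupp : σ.support = Finset.univ.filter (fun x => ¬ σ x = x) := by
    ext x
    rw [Equiv.Perm.mem_support, Finset.mem_filter]
    simp
  have hsc : σ.support.card = 10 := by
    have := Finset.card_filter_add_card_filter_not (s := (Finset.univ : Finset α))
      (fun x => σ x = x)
    rw [hfix, ← hsupp, Finset.card_univ, hcard] at this
    omega
  have hne : σ ≠ 1 := by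
    intro h
    rw [h] at hsc
    simp at hsc
  have ho : orderOf σ = 2 := orderOf_eq_prime h2 hne
  obtain ⟨n, hn⟩ := Equiv.Perm.cycleType_prime_order (σ := σ) (by rw [ho]; exact Nat.prime_two)
  rw [ho] at hn
  have hsum := Equiv.Perm.sum_cycleType σ
  rw [hn, Multiset.sum_replicate, hsc, smul_eq_mul] at hsum
  have hn6 : n = 4 := by omega
  rw [Equiv.Perm.sign_of_cycleType, hn, Multiset.sum_replicate, Multiset.card_replicate, hn6]
  decide

end Cfsg.Agent.Helper2.Syl21
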