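import Mathlib
import Cfsg.Agent.Helper2.Syl21A
import Cfsg.Agent.Helper4.SylFewA

set_option autoImplicit false

namespace Cfsg.Agent.Helper2.Syl21

open MulAction
open Cfsg.Agent.Helper4

/-- A group with a homomorphism to `ℤˣ` taking the value `-1` has a subgroup of index two. -/
theorem index_ker_eq_two_of_neg_one {G : Type*} [Group G] (f : G →* ℤˣ) (t : G)
    (ht : f t = -1) : f.ker.index = 2 := by
  rw [Subgroup.index_ker]
  have hd := Subgroup.card_subgroup_dvd_card f.range
  have h2 : Nat.card ℤˣ = 2 := by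
    rw [Nat.card_eq_fintype_card]; exact Fintype.card_units_int
  rw [h2] at hd
  have hne : Nat.card f.range ≠ 1 := by
    intro h1
    have hbot : f.range = ⊥ := Subgroup.card_eq_one.1 h1
    have : f t ∈ f.range := ⟨t, rfl⟩
    rw [hbot, Subgroup.mem_bot, ht] at this
    exact absurd this (by decide)
  have hle := Nat.le_of_dvd (by norm_num) hd
  have hpos : 0 < Nat.card f.range := Nat.card_pos
  omega

/-- Fixed points of an element of prime order `r ≠ 5` centralizing a Sylow 5-subgroup, in a group
acting faithfully on its twenty-one Sylow 5-subgroups and having no subgroup of index two. -/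
theorem fixed_of_centralizer21 {G : Type*} [Group G] [Finite G] [Fact (Nat.Prime 5)]
    (h21 : Nat.card (Sylow 5 G) = 21)
    (hfaith : ∀ g : G, (∀ Q : Sylow 5 G, g • Q = Q) → g = 1)
    (hno2 : ∀ H : Subgroup G, H.index ≠ 2)
    (P : Sylow 5 G) (g : G) (hg : g ∈ Subgroup.centralizer ((P : Subgroup G) : Set G))
    (r : ℕ) (hr : r.Prime) (hgr : orderOf g = r) (hr5 : r ≠ 5) :
    (r = 2 → ∀ Q : Sylow 5 G, g • Q = Q → Q = P) ∧ r ≠ 7 := by
  haveI : Fact r.Prime := ⟨hr⟩
  have hgP : g • P = P := by
    rw [Sylow.smul_eq_iff_mem_normalizer]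
    exact Subgroup.centralizer_le_normalizer _ hg
  have hcomm : ∀ (x : (P : Subgroup G)) (R : Sylow 5 G), g • (x • R) = x • (g • R) := by
    intro x R
    rw [Subgroup.smul_def, Subgroup.smul_def, ← mul_smul, ← mul_smul]
    congr 1
    exact ((Subgroup.mem_centralizer_iff.1 hg) x x.2).symm
  obtain ⟨F, hF⟩ : ∃ F : Set (Sylow 5 G), F = {R | g • R = R} := ⟨_, rfl⟩
  have hmemF : ∀ R : Sylow 5 G, R ∈ F ↔ g • R = R := by
    intro R; rw [hF]; rfl
  have hmod : Nat.card (Sylow 5 G) ≡ F.ncard [MOD r] := by
    have hz : IsPGroup r (Subgroup.zpowers g) := by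
      apply IsPGroup.of_card (n := 1)
      rw [Nat.card_zpowers, hgr, pow_one]
    have h1 := hz.card_modEq_card_fixedPoints (Sylow 5 G)
    have h2 : fixedPoints (Subgroup.zpowers g) (Sylow 5 G) = F := by
      ext R
      rw [mem_fixedPoints, hmemF]
      constructor
      · intro h
        exact h ⟨g, Subgroup.mem_zpowers g⟩
      · intro h y
        have hle : Subgroup.zpowers g ≤ stabilizer G R := by
          rw [Subgroup.zpowers_le]; exact h
        exact hle y.2
    rw [h2, Nat.card_coe_set_eq] at h1
    exact h1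
  have hFP : P ∈ F := (hmemF P).2 hgP
  have hmod5 : F.ncard ≡ 1 [MOD 5] := by
    have hinv : ∀ x : (P : Subgroup G), ∀ R ∈ F, x • R ∈ F := by
      intro x R hR
      rw [hmemF] at hR ⊢
      rw [hcomm, hR]
    have h1 := ncard_modEq_of_invariant (H := (P : Subgroup G)) P.isPGroup' F hinv
    have h2 : F ∩ MulAction.fixedPoints (P : Subgroup G) (Sylow 5 G) = {P} := by
      ext Q
      rw [Set.mem_inter_iff, Set.mem_singleton_iff,
        P.isPGroup'.sylow_mem_fixedPoints_iff]
      constructor
      · rintro ⟨-, hle⟩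
        exact (sylow_eq_of_le P Q hle).symm
      · intro h
        rw [h]
        exact ⟨hFP, le_refl _⟩
    rw [h2, Set.ncard_singleton] at h1
    exact h1
  have hFle : F.ncard ≤ 21 := by
    rw [← h21, ← Set.ncard_univ]
    exact Set.ncard_le_ncard (Set.subset_univ _) (Set.toFinite _)
  have hg1 : g ≠ 1 := by
    intro h
    rw [h, orderOf_one] at hgr
    exact hr.ne_one hgr.symm
  have hFne : F.ncard ≠ 21 := by
    intro h
    have hFuniv : F = Set.univ := by
      apply Set.eq_of_subset_of_ncard_le (Set.subset_univ _) _ (Set.toFinite _)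
      rw [Set.ncard_univ, h21, h]
    apply hg1
    apply hfaith
    intro Q
    rw [← hmemF, hFuniv]
    trivial
  rw [h21] at hmod
  have h5 : F.ncard % 5 = 1 := hmod5
  have hcases : F.ncard = 1 ∨ F.ncard = 6 ∨ F.ncard = 11 ∨ F.ncard = 16 := by omega
  constructor
  · intro hr2
    rw [hr2] at hmod
    have hodd : F.ncard % 2 = 1 := by
      have : 21 % 2 = F.ncard % 2 := hmod
      omega
    have h1or11 : F.ncard = 1 ∨ F.ncard = 11 := by omega
    have h1 : F.ncard = 1 := by
      rcases h1or11 with h | h
      · exact h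
      · exfalso
        classical
        haveI : Fintype (Sylow 5 G) := Fintype.ofFinite _
        obtain ⟨f, hf⟩ : ∃ f : G →* ℤˣ,
            f = (Equiv.Perm.sign).comp (MulAction.toPermHom G (Sylow 5 G)) := ⟨_, rfl⟩
        have hft : f g = -1 := by
          rw [hf, MonoidHom.comp_apply]
          refine sign_eq_neg_one_of_eleven _ ?_ ?_ ?_
          · rw [← map_pow, ← hr2, ← hgr, pow_orderOf_eq_one, map_one]
          · rw [← Nat.card_eq_fintype_card, h21]
          · rw [← h, ← Set.ncard_coe_finset]
            congr 1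
            ext Q
            rw [Finset.mem_coe, Finset.mem_filter, hmemF]
            simp
        exact hno2 _ (index_ker_eq_two_of_neg_one f g hft)
    intro Q hQ
    obtain ⟨a, ha⟩ := Set.ncard_eq_one.1 h1
    have hPa : P = a := by
      have := hFP
      rw [ha, Set.mem_singleton_iff] at this
      exact this
    have hQa : Q = a := by
      have : Q ∈ F := (hmemF Q).2 hQ
      rw [ha, Set.mem_singleton_iff] at this
      exact this
    rw [hQa, hPa]
  · intro hr7
    rw [hr7] at hmod
    have : 21 % 7 = F.ncard % 7 := hmod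
    omega

end Cfsg.Agent.Helper2.Syl21
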