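import Mathlib
import Cfsg.Agent.Helper2.Syl21A
import Cfsg.Agent.Helper4.SylFewA

set_option autoImplicit false

namespace Cfsg.Agent.Helper2.Syl21

open MulAction
open Cfsg.Agent.Helper4

/-- Membership in a conjugate Sylow subgroup. -/
theorem mem_smul_sylow_iff {G : Type*} [Group G] {p : ℕ} (g x : G) (Q : Sylow p G) :
    x ∈ ((g • Q : Sylow p G) : Subgroup G) ↔ g⁻¹ * x * g ∈ (Q : Subgroup G) := by
  rw [Sylow.coe_subgroup_smul, Subgroup.mem_pointwise_smul_iff_inv_smul_mem]
  simp [MulAut.smul_def, MulAut.conj_inv_apply]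

/-- The case `N_G(P) ≤ C_G(P)`: Burnside's transfer theorem gives a normal 5-complement; its
Sylow 7-subgroups are permuted by `P`, which then centralizes one of them. -/
theorem false_of_normalizer_le_centralizer {G : Type*} [Group G] [Finite G]
    [Fact (Nat.Prime 5)] (P : Sylow 5 G) (hP5 : Nat.card (P : Subgroup G) = 5)
    (hNC : Subgroup.normalizer ((P : Subgroup G) : Set G) ≤
      Subgroup.centralizer ((P : Subgroup G) : Set G))
    (h7G : 7 ∣ Nat.card G) (h49 : ¬ 49 ∣ Nat.card G)
    (h7C : ∀ c ∈ Subgroup.centralizer ((P : Subgroup G) : Set G), orderOf c ≠ 7) : False := by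
  haveI : Fact (Nat.Prime 7) := ⟨by norm_num⟩
  obtain ⟨K, hK⟩ : ∃ K : Subgroup G, K = (MonoidHom.transferSylow P hNC).ker := ⟨_, rfl⟩
  haveI : K.Normal := by rw [hK]; infer_instance
  have hKidx : K.index = 5 := by
    rw [hK, (MonoidHom.ker_transferSylow_isComplement' P hNC).symm.index_eq_card, hP5]
  have hKcard : Nat.card K * 5 = Nat.card G := by rw [← hKidx]; exact K.card_mul_index
  have hfact : (Nat.card G).factorization 5 = 1 := by
    have h1 := P.card_eq_multiplicity
    rw [hP5] at h1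
    have h2 : (5 : ℕ) ^ 1 = 5 ^ (Nat.card G).factorization 5 := by rw [pow_one]; exact h1
    exact (Nat.pow_right_injective (by norm_num : 2 ≤ 5) h2).symm
  have h25 : ¬ 25 ∣ Nat.card G := by
    have := Nat.pow_succ_factorization_not_dvd (n := Nat.card G) (Nat.card_pos.ne')
      (by norm_num : Nat.Prime 5)
    rw [hfact] at this
    exact this
  have h5K : ¬ 5 ∣ Nat.card K := by
    intro h
    apply h25
    rw [← hKcard]
    obtain ⟨m, hm⟩ := h
    exact ⟨m, by rw [hm]; ring⟩
  have h5G : 5 ∣ Nat.card G := ⟨Nat.card K, by rw [← hKcard]; ring⟩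
  have hn7 : Nat.card (Sylow 7 K) = Nat.card (Sylow 7 G) :=
    card_sylow_of_normal_of_not_dvd_index 7 K (by rw [hKidx]; norm_num)
  obtain ⟨S'⟩ : Nonempty (Sylow 7 K) := inferInstance
  have hn7K : Nat.card (Sylow 7 K) ∣ Nat.card K :=
    (Sylow.card_dvd_index S').trans (Subgroup.index_dvd_card _)
  obtain ⟨S⟩ : Nonempty (Sylow 7 G) := inferInstance
  have hNSidx : (Subgroup.normalizer ((S : Subgroup G) : Set G)).index = Nat.card (Sylow 7 G) :=
    (S.card_eq_index_normalizer).symm
  have h5idx : ¬ 5 ∣ (Subgroup.normalizer ((S : Subgroup G) : Set G)).index := by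
    intro h
    apply h5K
    rw [hNSidx, ← hn7] at h
    exact h.trans hn7K
  have h5NS : 5 ∣ Nat.card (Subgroup.normalizer ((S : Subgroup G) : Set G)) := by
    have h1 := (Subgroup.normalizer ((S : Subgroup G) : Set G)).card_mul_index
    rw [← h1] at h5G
    rcases (Nat.Prime.dvd_mul (by norm_num : Nat.Prime 5)).1 h5G with h | h
    · exact h
    · exact absurd h h5idx
  obtain ⟨h, hh⟩ := exists_prime_orderOf_dvd_card' 5 h5NS
  have hS7 : Nat.card (S : Subgroup G) = 7 :=
    SylFew.sylow_card_eq_prime_of_sq_not_dvd S h7G (by norm_num; exact h49)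
  have hcyc : IsCyclic (S : Subgroup G) := isCyclic_of_prime_card hS7
  have hAut : Nat.card (MulAut (S : Subgroup G)) = 6 := by
    rw [hcyc.card_mulAut, hS7, Nat.totient_prime (by norm_num : Nat.Prime 7)]
  have hh' : h ∈ ((S : Subgroup G).normalizerMonoidHom).ker := by
    rw [MonoidHom.mem_ker]
    have h5 : ((S : Subgroup G).normalizerMonoidHom h) ^ 5 = 1 := by
      rw [← map_pow, ← hh, pow_orderOf_eq_one, map_one]
    have h6 : ((S : Subgroup G).normalizerMonoidHom h) ^ 6 = 1 := by
      rw [← hAut]; exact pow_card_eq_one'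
    have : ((S : Subgroup G).normalizerMonoidHom h) ^ 6 =
        ((S : Subgroup G).normalizerMonoidHom h) ^ 5 * (S : Subgroup G).normalizerMonoidHom h :=
      pow_succ _ 5
    rw [h6, h5, one_mul] at this
    exact this.symm
  rw [Subgroup.normalizerMonoidHom_ker, Subgroup.mem_subgroupOf] at hh'
  have h7S : 7 ∣ Nat.card (S : Subgroup G) := by rw [hS7]
  obtain ⟨s, hs⟩ := exists_prime_orderOf_dvd_card' 7 h7S
  have hso : orderOf (s : G) = 7 := by rw [Subgroup.orderOf_coe]; exact hs
  have hho : orderOf (h : G) = 5 := by rw [Subgroup.orderOf_coe]; exact hh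
  have hcomm : Commute (s : G) (h : G) := (Subgroup.mem_centralizer_iff.1 hh') s s.2
  have hQcard : Nat.card (Subgroup.zpowers (h : G)) = 5 ^ (Nat.card G).factorization 5 := by
    rw [Nat.card_zpowers, hho, hfact, pow_one]
  obtain ⟨g, hg⟩ := MulAction.exists_smul_eq G (Sylow.ofCard (Subgroup.zpowers (h : G)) hQcard) P
  apply h7C (g * s * g⁻¹)
  · rw [Subgroup.mem_centralizer_iff]
    intro p hp
    have hp' : p ∈ ((g • Sylow.ofCard (Subgroup.zpowers (h : G)) hQcard : Sylow 5 G) :
        Subgroup G) := by rw [hg]; exact hp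
    rw [mem_smul_sylow_iff] at hp'
    have hp'' : g⁻¹ * p * g ∈ Subgroup.zpowers (h : G) := hp'
    obtain ⟨k, hk⟩ := Subgroup.mem_zpowers_iff.1 hp''
    have hc2 : Commute (s : G) (g⁻¹ * p * g) := by
      rw [← hk]
      exact Commute.zpow_right hcomm k
    have := hc2.eq
    calc p * (g * s * g⁻¹) = g * ((g⁻¹ * p * g) * s) * g⁻¹ := by group
      _ = g * (s * (g⁻¹ * p * g)) * g⁻¹ := by rw [this]
      _ = g * s * g⁻¹ * p := by group
  · have h1 := (MulAut.conj g).orderOf_eq (s : G)
    rw [MulAut.conj_apply] at h1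
    rw [h1, hso]

end Cfsg.Agent.Helper2.Syl21
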