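import Mathlib
import Cfsg.Agent.Helper2.Syl21A
import Cfsg.Agent.Helper2.Syl21C
import Cfsg.Agent.Helper2.ThompsonTransfer

set_option autoImplicit false

namespace Cfsg.Agent.Helper2.Syl21

open MulAction

/-- The centralizer of `P` is normalized by the normalizer of `P`. -/
theorem conj_mem_centralizer_of_mem_normalizer {G : Type*} [Group G] (P : Subgroup G) (n c : G)
    (hn : n ∈ Subgroup.normalizer (P : Set G)) (hc : c ∈ Subgroup.centralizer (P : Set G)) :
    n * c * n⁻¹ ∈ Subgroup.centralizer (P : Set G) := by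
  rw [Subgroup.mem_centralizer_iff]
  intro p hp
  have hq : n⁻¹ * p * n ∈ P := by
    have h1 := (Subgroup.mem_normalizer_iff.1 hn (n⁻¹ * p * n))
    have h2 : n * (n⁻¹ * p * n) * n⁻¹ = p := by group
    rw [h2] at h1
    exact h1.2 hp
  have hcq := (Subgroup.mem_centralizer_iff.1 hc) (n⁻¹ * p * n) hq
  calc p * (n * c * n⁻¹) = n * ((n⁻¹ * p * n) * c) * n⁻¹ := by group
    _ = n * (c * (n⁻¹ * p * n)) * n⁻¹ := by rw [hcq]
    _ = n * c * n⁻¹ * p := by group

theorem pow_smul_eq_of_smul_eq {G Ω : Type*} [Group G] [MulAction G Ω] (t : G) (Q : Ω)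
    (h : t • Q = Q) (m : ℕ) : t ^ m • Q = Q := by
  have h1 : t ∈ stabilizer G Q := h
  exact (stabilizer G Q).pow_mem h1 m

/-- A nontrivial 2-element centralizing `P` fixes only `P`, if this holds for involutions. -/
theorem eq_of_two_element_fixes {G : Type*} [Group G] [Finite G] [Fact (Nat.Prime 5)]
    (P : Sylow 5 G)
    (hfix2 : ∀ x ∈ Subgroup.centralizer ((P : Subgroup G) : Set G), orderOf x = 2 →
      ∀ Q : Sylow 5 G, x • Q = Q → Q = P)
    (T : Sylow 2 G) (t : G) (htT : t ∈ T)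
    (htC : t ∈ Subgroup.centralizer ((P : Subgroup G) : Set G)) (ht1 : t ≠ 1)
    (Q : Sylow 5 G) (hQ : t • Q = Q) : Q = P := by
  obtain ⟨k, hk⟩ := (IsPGroup.iff_orderOf.1 T.isPGroup') ⟨t, htT⟩
  rw [Subgroup.orderOf_mk] at hk
  have hk0 : k ≠ 0 := by
    intro h0
    rw [h0, pow_zero, orderOf_eq_one_iff] at hk
    exact ht1 hk
  have h2 : 2 ∣ orderOf t := by
    rw [hk]; exact dvd_pow_self 2 hk0
  have ho : orderOf (t ^ (orderOf t / 2)) = 2 :=
    orderOf_pow_orderOf_div (orderOf_pos t).ne' h2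
  exact hfix2 _ (Subgroup.pow_mem _ htC _) ho Q (pow_smul_eq_of_smul_eq t Q hQ _)

/-- In a finite cyclic group, at most `e` elements satisfy `a ^ e = 1`. -/
theorem card_pow_eq_one_le' {A : Type*} [Group A] [Finite A] [IsCyclic A] (e : ℕ) (he : 0 < e) :
    Nat.card {a : A // a ^ e = 1} ≤ e := by
  classical
  haveI : Fintype A := Fintype.ofFinite A
  rw [Nat.card_eq_fintype_card, Fintype.card_subtype]
  exact IsCyclic.card_pow_eq_one_le he

/-- A homomorphism to a finite cyclic group whose values all square to one and which is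
nontrivial has image of order two. -/
theorem card_range_eq_two {T A : Type*} [Group T] [Group A] [Finite A] [IsCyclic A]
    (ψ : T →* A) (h1 : ∀ t, ψ t ^ 2 = 1) (h2 : ∃ t, ψ t ≠ 1) : Nat.card ψ.range = 2 := by
  have hle : Nat.card ψ.range ≤ 2 := by
    refine le_trans ?_ (card_pow_eq_one_le' (A := A) 2 (by norm_num))
    apply Nat.card_le_card_of_injective
      (fun a : ψ.range => (⟨a.1, by obtain ⟨t, ht⟩ := a.2; rw [← ht]; exact h1 t⟩ :
        {a : A // a ^ 2 = 1}))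
    intro a b hab
    apply Subtype.ext
    have := congrArg (fun z : {a : A // a ^ 2 = 1} => z.1) hab
    exact this
  have hne : Nat.card ψ.range ≠ 1 := by
    intro h
    have hbot : ψ.range = ⊥ := Subgroup.card_eq_one.1 h
    obtain ⟨t, ht⟩ := h2
    apply ht
    have : ψ t ∈ ψ.range := ⟨t, rfl⟩
    rw [hbot, Subgroup.mem_bot] at this
    exact this
  have hpos : 0 < Nat.card ψ.range := Nat.card_pos
  omega

/-- Data extracted from a nontrivial homomorphism to a cyclic group of order four: a power map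
`ψ = ρ ^ e` (with `e = 2 ^ (n - 1)`, `n ∈ {1, 2}`) with image of order two. -/
theorem exists_pow_hom {T A : Type*} [Group T] [Group A] [Finite A] [IsCyclic A]
    (hA : Nat.card A = 4) (ρ : T →* A) (hne : ∃ t, ρ t ≠ 1) :
    ∃ (e n : ℕ) (ψ : T →* A), ((e = 1 ∧ n = 1) ∨ (e = 2 ∧ n = 2)) ∧
      (∀ t, ψ t = ρ t ^ e) ∧ (∀ t, ψ t ^ 2 = 1) ∧ (∃ t, ψ t ≠ 1) := by
  have hcomm : ∀ a b : A, Commute a b := fun a b =>
    (IsCyclic.commGroup (α := A)).mul_comm a b
  have pw : ∀ e : ℕ, ∃ ψ : T →* A, ∀ t, ψ t = ρ t ^ e := by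
    intro e
    exact ⟨{ toFun := fun t => ρ t ^ e
             map_one' := by simp
             map_mul' := fun a b => by rw [map_mul, (hcomm _ _).mul_pow] }, fun t => rfl⟩
  by_cases hsq : ∀ t, ρ t ^ 2 = 1
  · obtain ⟨ψ, hψ⟩ := pw 1
    refine ⟨1, 1, ψ, Or.inl ⟨rfl, rfl⟩, hψ, ?_, ?_⟩
    · intro t
      rw [hψ, pow_one]
      exact hsq t
    · obtain ⟨t, ht⟩ := hne
      exact ⟨t, by rw [hψ, pow_one]; exact ht⟩
  · push Not at hsq
    obtain ⟨t₁, ht₁⟩ := hsq
    obtain ⟨ψ, hψ⟩ := pw 2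
    refine ⟨2, 2, ψ, Or.inr ⟨rfl, rfl⟩, hψ, ?_, ?_⟩
    · intro t
      rw [hψ, ← pow_mul]
      have := pow_card_eq_one' (x := ρ t)
      rw [hA] at this
      exact this
    · exact ⟨t₁, by rw [hψ]; exact ht₁⟩

end Cfsg.Agent.Helper2.Syl21
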