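import Mathlib
import Cfsg.Prelude
import Cfsg.Agent.Helper2.BG148b

set_option autoImplicit false

/-!
Bender–Glauberman 14.8-type statement: the union of the `M`-conjugates of `Ẑ` is `A₀(M) ∖ A(M)` and it
is a TI-subset of `G` (S1371).
-/

namespace Cfsg.Agent.Helper2.BG148

open Cfsg
open scoped Pointwise
open Cfsg.Agent.Helper2.BG144 Cfsg.Agent.Helper2.BG147K Cfsg.Agent.Helper1.BG147

universe u

variable {G : Type u} [Group G] [Finite G]

section

variable {M K U : Subgroup G}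

/-- `M ≤ N(U M_σ)` -/
theorem le_normalizer_U_sup (hKU : Cfsg.IsSigmaDecomposition M K U) :
    M ≤ Subgroup.normalizer ((U ⊔ Cfsg.sigmaCore M : Subgroup G) : Set G) := by
  have hUM : U ≤ M := hKU.compl.1
  have hKM : K ≤ M := hKU.hall.1
  have hσn : M ≤ Subgroup.normalizer ((Cfsg.sigmaCore M : Subgroup G) : Set G) :=
    Cfsg.Agent.Lead.BG12.le_normalizer_sigmaCore M
  have hMle : M ≤ U ⊔ (K ⊔ Cfsg.sigmaCore M) := by
    intro m hm
    obtain ⟨a, ha, b, hb, rfl⟩ := hKU.compl.2.2.2 m hm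
    exact Subgroup.mul_mem _ (Subgroup.mem_sup_left ha) (Subgroup.mem_sup_right hb)
  refine hMle.trans ?_
  have hU : U ≤ Subgroup.normalizer ((U ⊔ Cfsg.sigmaCore M : Subgroup G) : Set G) :=
    le_sup_left.trans Subgroup.le_normalizer
  have hσ : Cfsg.sigmaCore M ≤
      Subgroup.normalizer ((U ⊔ Cfsg.sigmaCore M : Subgroup G) : Set G) :=
    le_sup_right.trans Subgroup.le_normalizer
  have hK : K ≤ Subgroup.normalizer ((U ⊔ Cfsg.sigmaCore M : Subgroup G) : Set G) := by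
    intro k hk
    have h1 : k ∈ Subgroup.normalizer ((U : Subgroup G) : Set G) := hKU.normal hk
    have h2 : k ∈ Subgroup.normalizer ((Cfsg.sigmaCore M : Subgroup G) : Set G) := hσn (hKM hk)
    have h3 : (U ⊔ Cfsg.sigmaCore M).map (MulAut.conj k).toMonoidHom =
        U ⊔ Cfsg.sigmaCore M := by
      rw [Subgroup.map_sup]
      congr 1
      · ext w
        rw [mem_map_conj_iff]
        constructor
        · rintro ⟨a, ha, rfl⟩
          exact (Subgroup.mem_normalizer_iff.1 h1 a).1 ha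
        · intro hw
          refine ⟨k⁻¹ * w * k, ?_, by group⟩
          have := (Subgroup.mem_normalizer_iff.1 (Subgroup.inv_mem _ h1) w).1 hw
          simpa using this
      · ext w
        rw [mem_map_conj_iff]
        constructor
        · rintro ⟨a, ha, rfl⟩
          exact (Subgroup.mem_normalizer_iff.1 h2 a).1 ha
        · intro hw
          refine ⟨k⁻¹ * w * k, ?_, by group⟩
          have := (Subgroup.mem_normalizer_iff.1 (Subgroup.inv_mem _ h2) w).1 hw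
          simpa using this
    rw [Subgroup.mem_normalizer_iff]
    intro w
    constructor
    · intro hw
      have hw' : k * w * k⁻¹ ∈ (U ⊔ Cfsg.sigmaCore M).map (MulAut.conj k).toMonoidHom :=
        (mem_map_conj_iff).2 ⟨w, hw, rfl⟩
      rw [h3] at hw'
      exact hw'
    · intro hw
      have hw' : k * w * k⁻¹ ∈ (U ⊔ Cfsg.sigmaCore M).map (MulAut.conj k).toMonoidHom := by
        rw [h3]; exact hw
      rw [mem_map_conj_iff] at hw'
      obtain ⟨a, ha, hka⟩ := hw'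
      have : a = w := by
        have e : a = k⁻¹ * (k * a * k⁻¹) * k := by group
        rw [e, hka]; group
      rw [← this]; exact ha
  exact sup_le hU (sup_le hK hσ)

theorem conj_mem_U_sup (hKU : Cfsg.IsSigmaDecomposition M K U) {m a : G} (hm : m ∈ M)
    (ha : a ∈ U ⊔ Cfsg.sigmaCore M) : m * a * m⁻¹ ∈ U ⊔ Cfsg.sigmaCore M :=
  (Subgroup.mem_normalizer_iff.1 (le_normalizer_U_sup hKU hm) a).1 ha

/-- `|M| = |K| · |U M_σ|` -/
theorem card_eq_K_mul (hKU : Cfsg.IsSigmaDecomposition M K U) :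
    Nat.card M = Nat.card K * Nat.card ↥(U ⊔ Cfsg.sigmaCore M) := by
  have hUM : U ≤ M := hKU.compl.1
  have hKM : K ≤ M := hKU.hall.1
  have hσn : M ≤ Subgroup.normalizer ((Cfsg.sigmaCore M : Subgroup G) : Set G) :=
    Cfsg.Agent.Lead.BG12.le_normalizer_sigmaCore M
  have h1 := Cfsg.Agent.Helper1.IsComplIn_card_mul hKU.compl
  have h2 : Nat.card ↥(Cfsg.sigmaCore M ⊔ K) = Nat.card K * Nat.card (Cfsg.sigmaCore M) :=
    Cfsg.Agent.Helper1.card_sup_of_le_normalizer (hKM.trans hσn)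
      (Cfsg.Agent.Helper4.BG14.kappa_inf_sigmaCore_eq_bot hKU.hall.2.1)
  have h3 : U ⊓ Cfsg.sigmaCore M = ⊥ := by
    rw [eq_bot_iff, ← hKU.compl.2.2.1]
    exact inf_le_inf_left _ le_sup_right
  have h4 : Nat.card ↥(Cfsg.sigmaCore M ⊔ U) = Nat.card U * Nat.card (Cfsg.sigmaCore M) :=
    Cfsg.Agent.Helper1.card_sup_of_le_normalizer (hUM.trans hσn) h3
  rw [sup_comm] at h2 h4
  rw [← h1, h2, h4]; ring

/-- `K ∩ U M_σ = 1` -/
theorem K_inf_U_sup (hM : IsCoatom M) (hKU : Cfsg.IsSigmaDecomposition M K U) :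
    K ⊓ (U ⊔ Cfsg.sigmaCore M) = ⊥ := by
  have hcard := card_eq_K_mul hKU
  rw [← Subgroup.card_eq_one]
  by_contra hne
  obtain ⟨p, hp, hpd⟩ := Nat.exists_prime_and_dvd hne
  have hpK : p ∣ Nat.card K := hpd.trans (Subgroup.card_dvd_of_le inf_le_left)
  have hpκ := hKU.hall.2.1 p hp hpK
  have h2 := Cfsg.Agent.Helper1.relIndex_mul_card_of_le hKU.hall.1
  have h3 : K.relIndex M = Nat.card ↥(U ⊔ Cfsg.sigmaCore M) := by
    have : K.relIndex M * Nat.card K = Nat.card ↥(U ⊔ Cfsg.sigmaCore M) * Nat.card K := by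
      rw [h2, hcard]; ring
    exact Nat.eq_of_mul_eq_mul_right Nat.card_pos this
  apply hKU.hall.2.2 p hp hpκ
  rw [h3]
  exact hpd.trans (Subgroup.card_dvd_of_le inf_le_right)

/-- an element of `M` whose order is prime to `|K|` lies in `U M_σ` -/
theorem mem_U_sup_of_coprime (hKU : Cfsg.IsSigmaDecomposition M K U) {c : G} (hc : c ∈ M)
    (hcop : ∀ p : ℕ, p.Prime → p ∣ orderOf c → p ∉ Cfsg.kappa M) :
    c ∈ U ⊔ Cfsg.sigmaCore M := by
  have hle : U ⊔ Cfsg.sigmaCore M ≤ M :=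
    sup_le hKU.compl.1 Cfsg.Agent.Lead.BG12.sigmaCore_le
  refine Cfsg.Agent.Lead.BG12.mem_of_pow_eq_one_of_coprime_relIndex
    (le_normalizer_U_sup hKU) ?_ hc (pow_orderOf_eq_one c)
  have h2 := Cfsg.Agent.Helper1.relIndex_mul_card_of_le hle
  have h3 : (U ⊔ Cfsg.sigmaCore M).relIndex M = Nat.card K := by
    have : (U ⊔ Cfsg.sigmaCore M).relIndex M * Nat.card ↥(U ⊔ Cfsg.sigmaCore M) =
        Nat.card K * Nat.card ↥(U ⊔ Cfsg.sigmaCore M) := by
      rw [h2, card_eq_K_mul hKU]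
    exact Nat.eq_of_mul_eq_mul_right Nat.card_pos this
  rw [h3]
  apply Nat.coprime_of_dvd
  intro p hp h1 h4
  exact hcop p hp h1 (hKU.hall.2.1 p hp h4)

end

/-- **S1371, first half**: the `M`-conjugates of `Ẑ` are `A₀(M) ∖ A(M)`. -/
theorem conj_zhat_eq (hG : Cfsg.IsMinSimpleOddOrder G) {M K U Ms : Subgroup G} (hM : IsCoatom M)
    (hKU : Cfsg.IsSigmaDecomposition M K U) (f : Fam M K Ms) :
    {a : G | ∃ m ∈ M, ∃ z ∈ Zhat K (Cfsg.sigmaCore M ⊓ Subgroup.centralizer (K : Set G)),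
      a = m * z * m⁻¹} = Cfsg.sigmaA0 M K \ Cfsg.sigmaA M U := by
  have P := f.p142 hG
  have hZM : K ⊔ (Cfsg.sigmaCore M ⊓ Subgroup.centralizer (K : Set G)) ≤ M := Z_le f.hall
  have hσn : M ≤ Subgroup.normalizer ((Cfsg.sigmaCore M : Subgroup G) : Set G) :=
    Cfsg.Agent.Lead.BG12.le_normalizer_sigmaCore M
  ext a
  constructor
  · rintro ⟨m, hm, z, hz, rfl⟩
    have hzM : z ∈ M := hZM hz.1
    refine ⟨⟨⟨M.mul_mem (M.mul_mem hm hzM) (M.inv_mem hm), ?_⟩, ?_⟩, ?_⟩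
    · -- centralizes a nonidentity element of `M_σ`
      obtain ⟨y0, hy0⟩ := (Subgroup.ne_bot_iff_exists_ne_one).1 P.kstar_ne
      have hy0' : (y0 : G) ∈ Cfsg.sigmaCore M ⊓ Subgroup.centralizer (K : Set G) := y0.2
      have hy0ne : (y0 : G) ≠ 1 := fun h => hy0 (Subtype.ext h)
      refine ⟨m * y0 * m⁻¹, (Subgroup.mem_normalizer_iff.1 (hσn hm) _).1 hy0'.1, ?_, ?_⟩
      · intro h
        apply hy0ne
        have e : (y0 : G) = m⁻¹ * (m * y0 * m⁻¹) * m := by group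
        rw [e, h]; group
      · have hc : z * y0 = y0 * z := f.Z_comm hG z hz.1 y0 (Subgroup.mem_sup_right hy0')
        have e1 : m * z * m⁻¹ * (m * y0 * m⁻¹) = m * (z * y0) * m⁻¹ := by group
        have e2 : m * y0 * m⁻¹ * (m * z * m⁻¹) = m * (y0 * z) * m⁻¹ := by group
        rw [e1, e2, hc]
    · -- not an `M`-conjugate of an element of `K^#`
      rintro ⟨k, hk, hk1, m', hm', heq⟩
      have hk' : (m'⁻¹ * m) * z * (m'⁻¹ * m)⁻¹ = k := by
        have e : (m'⁻¹ * m) * z * (m'⁻¹ * m)⁻¹ = m'⁻¹ * (m * z * m⁻¹) * m' := by group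
        rw [e, heq]; group
      have hgZ := f.zhat_ti hG z hz (m'⁻¹ * m) (by rw [hk']; exact Subgroup.mem_sup_left hk)
      have := Zhat_normal f.comm hgZ hz
      rw [hk'] at this
      exact this.2 (Or.inl hk)
    · -- not in `U M_σ`
      rintro ⟨-, ha⟩
      have hz' : z ∈ U ⊔ Cfsg.sigmaCore M := by
        have := conj_mem_U_sup hKU (M.inv_mem hm) ha
        have e : m⁻¹ * (m * z * m⁻¹) * m⁻¹⁻¹ = z := by group
        rwa [e] at this
      have hz'' : z ∈ (K : Set G) * ((Cfsg.sigmaCore M ⊓ Subgroup.centralizer (K : Set G) :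
          Subgroup G) : Set G) := by rw [← coe_sup_eq_mul f.comm]; exact hz.1
      obtain ⟨k, hk, y, hy, rfl⟩ := Set.mem_mul.1 hz''
      have hy' : y ∈ Cfsg.sigmaCore M ⊓ Subgroup.centralizer (K : Set G) := hy
      have hk' : k ∈ K ⊓ (U ⊔ Cfsg.sigmaCore M) := by
        refine ⟨hk, ?_⟩
        have e : k = k * y * y⁻¹ := by group
        rw [e]
        exact Subgroup.mul_mem _ hz' (Subgroup.inv_mem _ (Subgroup.mem_sup_right hy'.1))
      rw [K_inf_U_sup hM hKU, Subgroup.mem_bot] at hk'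
      apply hz.2
      right
      rw [hk', one_mul]
      exact hy
  · rintro ⟨⟨hσH, hnK⟩, hnA⟩
    have haM : a ∈ M := hσH.1
    have haU : a ∉ U ⊔ Cfsg.sigmaCore M := fun h => hnA ⟨hσH, h⟩
    have ha1 : a ≠ 1 := by
      intro h
      apply haU
      rw [h]; exact Subgroup.one_mem _
    -- the `κ(M)`-decomposition of `a`
    obtain ⟨b, c, hb, hc, hbc, hbκ, hcκ⟩ := exists_pi_decomp (Cfsg.kappa M) a (orderOf_pos a)
    have hbM : b ∈ M := (Subgroup.zpowers_le.2 haM) hb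
    have hcM : c ∈ M := (Subgroup.zpowers_le.2 haM) hc
    have hcU : c ∈ U ⊔ Cfsg.sigmaCore M := mem_U_sup_of_coprime hKU hcM hcκ
    have hb1 : b ≠ 1 := by
      intro h
      apply haU
      rw [hbc, h, one_mul]; exact hcU
    -- conjugate `⟨b⟩` into `K`
    have hsolv : Group.IsSolvable ↥M := hG.2.2.2 M hM.1
    obtain ⟨g, hg, hle⟩ := exists_conj_hall_ge hsolv f.hall (Subgroup.zpowers_le.2 hbM)
      (fun p hp hd => hbκ p hp (by rwa [Nat.card_zpowers] at hd))
    have hbg := hle (Subgroup.mem_zpowers b)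
    rw [mem_map_conj_iff] at hbg
    obtain ⟨b', hb', hb'eq⟩ := hbg
    have hb'eq' : b' = g⁻¹ * b * g := by rw [← hb'eq]; group
    have hb'1 : b' ≠ 1 := by
      intro h
      apply hb1
      rw [← hb'eq, h]; group
    have hcomm : Commute (g⁻¹ * a * g) b' := by
      have h0 : Commute a b := commute_of_mem_zpowers hb (Commute.refl a)
      rw [hb'eq']
      unfold Commute SemiconjBy
      have e1 : g⁻¹ * a * g * (g⁻¹ * b * g) = g⁻¹ * (a * b) * g := by group
      have e2 : g⁻¹ * b * g * (g⁻¹ * a * g) = g⁻¹ * (b * a) * g := by group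
      rw [e1, e2, h0.eq]
    have hZb : Subgroup.zpowers b' ≠ ⊥ := fun h => hb'1 (Subgroup.zpowers_eq_bot.1 h)
    obtain ⟨X, hXle, hXp⟩ := exists_prime_subgroup hZb
    have hXK : X ≤ K := hXle.trans (Subgroup.zpowers_le.2 hb')
    have hnorm := P.norm_eq X hXK hXp
    have ha'M : g⁻¹ * a * g ∈ M := M.mul_mem (M.mul_mem (M.inv_mem hg) haM) hg
    have ha'N : g⁻¹ * a * g ∈ Subgroup.normalizer (X : Set G) := by
      apply Subgroup.centralizer_le_normalizer
      rw [Subgroup.mem_centralizer_iff]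
      intro h hh
      obtain ⟨n, rfl⟩ := Subgroup.mem_zpowers_iff.1 (hXle hh)
      exact (hcomm.zpow_right n).eq.symm
    have ha'Z : g⁻¹ * a * g ∈
        K ⊔ (Cfsg.sigmaCore M ⊓ Subgroup.centralizer (K : Set G)) := by
      rw [← hnorm]; exact ⟨ha'M, ha'N⟩
    refine ⟨g, hg, g⁻¹ * a * g, ⟨ha'Z, ?_⟩, by group⟩
    rintro (h | h)
    · apply hnK
      refine ⟨g⁻¹ * a * g, h, ?_, g, hg, by group⟩
      intro h0
      apply ha1
      have e : a = g * (g⁻¹ * a * g) * g⁻¹ := by group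
      rw [e, h0]; group
    · apply haU
      have e : a = g * (g⁻¹ * a * g) * g⁻¹ := by group
      rw [e]
      have h' : g⁻¹ * a * g ∈ Cfsg.sigmaCore M ⊓ Subgroup.centralizer (K : Set G) := h
      exact conj_mem_U_sup hKU hg (Subgroup.mem_sup_right h'.1)

/-- **S1371, second half**: the union of the `M`-conjugates of `Ẑ` is a TI-subset of `G`. -/
theorem conj_zhat_ti (hG : Cfsg.IsMinSimpleOddOrder G) {M K Ms : Subgroup G} (f : Fam M K Ms) :
    Cfsg.IsTISubset {a : G | ∃ m ∈ M,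
      ∃ z ∈ Zhat K (Cfsg.sigmaCore M ⊓ Subgroup.centralizer (K : Set G)), a = m * z * m⁻¹} := by
  intro g hg x hx hgx
  exfalso
  apply hg
  obtain ⟨m, hm, z, hz, rfl⟩ := hx
  obtain ⟨m', hm', z', hz', heq⟩ := hgx
  have hgM : g ∈ M := by
    have h1 : (m'⁻¹ * g * m) * z * (m'⁻¹ * g * m)⁻¹ = z' := by
      have e : (m'⁻¹ * g * m) * z * (m'⁻¹ * g * m)⁻¹ =
          m'⁻¹ * (g * (m * z * m⁻¹) * g⁻¹) * m' := by group
      rw [e, heq]; group
    have h2 := f.zhat_ti hG z hz (m'⁻¹ * g * m) (by rw [h1]; exact hz'.1)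
    have h3 : m'⁻¹ * g * m ∈ M := Z_le f.hall h2
    have e : g = m' * (m'⁻¹ * g * m) * m⁻¹ := by group
    rw [e]; exact M.mul_mem (M.mul_mem hm' h3) (M.inv_mem hm)
  rw [Subgroup.mem_set_normalizer_iff]
  intro h
  constructor
  · rintro ⟨m1, hm1, z1, hz1, rfl⟩
    exact ⟨g * m1, M.mul_mem hgM hm1, z1, hz1, by group⟩
  · rintro ⟨m1, hm1, z1, hz1, heq1⟩
    refine ⟨g⁻¹ * m1, M.mul_mem (M.inv_mem hgM) hm1, z1, hz1, ?_⟩
    have e : h = g⁻¹ * (g * h * g⁻¹) * g := by group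
    rw [e, heq1]; group

end Cfsg.Agent.Helper2.BG148
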