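import Mathlib
import Cfsg.Prelude
import Cfsg.Agent.Helper2.BG148c

set_option autoImplicit false

/-!
Bender–Glauberman 14.7(f): every maximal subgroup `H` with `κ(H) ≠ ∅` is conjugate to `M` or `M*`.
-/

namespace Cfsg.Agent.Helper2.BG148

open Cfsg
open scoped Pointwise
open Cfsg.Agent.Helper2.BG144 Cfsg.Agent.Helper2.BG147K Cfsg.Agent.Helper1.BG147

universe u

variable {G : Type u} [Group G] [Finite G]

omit [Finite G] in
theorem centralizer_map_conj_le {X H : Subgroup G} (c : G)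
    (h : Subgroup.centralizer (X : Set G) ≤ H) :
    Subgroup.centralizer ((X.map (MulAut.conj c).toMonoidHom : Subgroup G) : Set G) ≤
      H.map (MulAut.conj c).toMonoidHom := by
  intro g hg
  rw [mem_map_conj_iff]
  refine ⟨c⁻¹ * g * c, h ?_, by group⟩
  rw [Subgroup.mem_centralizer_iff]
  intro x hx
  have hx' : c * x * c⁻¹ ∈ X.map (MulAut.conj c).toMonoidHom :=
    (mem_map_conj_iff).2 ⟨x, hx, rfl⟩
  have h1 := Subgroup.mem_centralizer_iff.1 hg _ hx'
  calc x * (c⁻¹ * g * c) = c⁻¹ * (c * x * c⁻¹ * g) * c := by group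
    _ = c⁻¹ * (g * (c * x * c⁻¹)) * c := by rw [h1]
    _ = c⁻¹ * g * c * x := by group

omit [Finite G] in
theorem card_map_conj (X : Subgroup G) (c : G) :
    Nat.card ↥(X.map (MulAut.conj c).toMonoidHom) = Nat.card X :=
  (Nat.card_congr (X.equivMapOfInjective _ (MulAut.conj c).injective).toEquiv).symm

/-- **Every maximal subgroup with `κ ≠ ∅` is conjugate to `M` or `M*`** (BG 14.7(f)). -/
theorem conj_eq_or (hG : Cfsg.IsMinSimpleOddOrder G) {M K Ms H KH Hs : Subgroup G}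
    (f : Fam M K Ms) (f1 : Fam H KH Hs) :
    ∃ g : G, H = M.map (MulAut.conj g).toMonoidHom ∨ H = Ms.map (MulAut.conj g).toMonoidHom := by
  have P := f.p142 hG
  have P1 := f1.p142 hG
  have Ps : P142 Ms (Cfsg.sigmaCore M ⊓ Subgroup.centralizer (K : Set G)) :=
    Cfsg.Agent.Helper4.BG147H.hyp142 hG Ms _ f.emb.coatom f.emb.hall P.kstar_ne
  obtain ⟨k0, hk0⟩ := (Subgroup.ne_bot_iff_exists_ne_one).1 f1.ne_bot
  obtain ⟨y0, hy0⟩ := (Subgroup.ne_bot_iff_exists_ne_one).1 P1.kstar_ne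
  set k : G := (k0 : G) with hkdef
  set y : G := (y0 : G) with hydef
  have hk : k ∈ KH := k0.2
  have hy : y ∈ Cfsg.sigmaCore H ⊓ Subgroup.centralizer (KH : Set G) := y0.2
  have hk1 : k ≠ 1 := fun h => hk0 (Subtype.ext h)
  have hy1 : y ≠ 1 := fun h => hy0 (Subtype.ext h)
  obtain ⟨c, hc⟩ := conj_into_zhat hG f f1 hk hk1 hy hy1
  have hky : Commute k y := (Subgroup.mem_centralizer_iff.1 hy.2 k hk)
  -- `y' = y ^ o(k) = (k y) ^ o(k)`
  have hpow : (k * y) ^ orderOf k = y ^ orderOf k := by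
    rw [hky.mul_pow, pow_orderOf_eq_one, one_mul]
  have hcop : (orderOf k).Coprime (orderOf y) := by
    apply Nat.coprime_of_dvd
    intro t ht h1 h2
    exact (f1.hall.2.1 t ht (h1.trans (Subgroup.orderOf_dvd_natCard KH hk))).2.2.1
      (Cfsg.Agent.Lead.BG12.mem_sigma_of_dvd_card_sigmaCore ht (prime_dvd_orderOf_mem hy.1 h2))
  have hy'1 : y ^ orderOf k ≠ 1 := by
    intro h
    have h1 : orderOf y ∣ orderOf k := orderOf_dvd_of_pow_eq_one h
    have h2 : orderOf y = 1 := hcop.symm.eq_one_of_dvd h1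
    exact hy1 (orderOf_eq_one_iff.1 h2)
  have hZy : Subgroup.zpowers (y ^ orderOf k) ≠ ⊥ := fun h => hy'1 (Subgroup.zpowers_eq_bot.1 h)
  obtain ⟨X, hXle, hXp⟩ := exists_prime_subgroup hZy
  have hXKs : X ≤ Cfsg.sigmaCore H ⊓ Subgroup.centralizer (KH : Set G) :=
    hXle.trans (Subgroup.zpowers_le.2 (Subgroup.pow_mem _ hy _))
  have hu := P1.uniq X hXKs hXp
  -- the conjugate `X'`
  have hX'p : (Nat.card ↥(X.map (MulAut.conj c).toMonoidHom)).Prime := by
    rw [card_map_conj]; exact hXp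
  have hX'Z : X.map (MulAut.conj c).toMonoidHom ≤
      K ⊔ (Cfsg.sigmaCore M ⊓ Subgroup.centralizer (K : Set G)) := by
    intro v hv
    rw [mem_map_conj_iff] at hv
    obtain ⟨x, hx, rfl⟩ := hv
    obtain ⟨n, rfl⟩ := Subgroup.mem_zpowers_iff.1 (hXle hx)
    have e : c * (y ^ orderOf k) ^ n * c⁻¹ = ((c * (k * y) * c⁻¹) ^ orderOf k) ^ n := by
      rw [← hpow]
      have e1 : c * ((k * y) ^ orderOf k) ^ n * c⁻¹ =
          (MulAut.conj c) (((k * y) ^ orderOf k) ^ n) := by rw [MulAut.conj_apply]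
      have e2 : c * (k * y) * c⁻¹ = (MulAut.conj c) (k * y) := by rw [MulAut.conj_apply]
      rw [e1, e2, map_zpow, map_pow]
    rw [e]
    exact Subgroup.zpow_mem _ (Subgroup.pow_mem _ hc.1 _) _
  have hcoat := isCoatom_map_conj f1.coatom c
  have hcent := centralizer_map_conj_le c hu.1
  refine ⟨c⁻¹, ?_⟩
  have hback : ∀ L : Subgroup G, H.map (MulAut.conj c).toMonoidHom = L →
      H = L.map (MulAut.conj c⁻¹).toMonoidHom := by
    intro L hL
    rw [← hL]
    ext v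
    rw [mem_map_conj_iff]
    constructor
    · intro hv
      exact ⟨c * v * c⁻¹, (mem_map_conj_iff).2 ⟨v, hv, rfl⟩, by group⟩
    · rintro ⟨a, ha, rfl⟩
      rw [mem_map_conj_iff] at ha
      obtain ⟨b, hb, rfl⟩ := ha
      have : c⁻¹ * (c * b * c⁻¹) * c⁻¹⁻¹ = b := by group
      rw [this]; exact hb
  rcases prime_le_or_le f.hall hX'Z hX'p with h | h
  · right
    have h' : X.map (MulAut.conj c).toMonoidHom ≤ Cfsg.sigmaCore Ms ⊓ Subgroup.centralizer
        ((Cfsg.sigmaCore M ⊓ Subgroup.centralizer (K : Set G) : Subgroup G) : Set G) := by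
      rw [← f.emb.K_eq]; exact h
    exact hback Ms ((Ps.uniq _ h' hX'p).2 _ hcoat hcent)
  · left
    exact hback M ((P.uniq _ h hX'p).2 _ hcoat hcent)

/-- Version for an arbitrary maximal subgroup `H` with `κ(H) ≠ ∅`. -/
theorem conj_eq_or_of_kappa_nonempty (hG : Cfsg.IsMinSimpleOddOrder G) {M K Ms H : Subgroup G}
    (f : Fam M K Ms) (hH : IsCoatom H) (hκ : (Cfsg.kappa H).Nonempty) :
    ∃ g : G, H = M.map (MulAut.conj g).toMonoidHom ∨ H = Ms.map (MulAut.conj g).toMonoidHom := by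
  have hsolv : Group.IsSolvable ↥H := hG.2.2.2 H hH.1
  obtain ⟨KH, hKH, -⟩ := exists_hall_ge hsolv (Cfsg.kappa H) (bot_le : (⊥ : Subgroup G) ≤ H)
    (fun p hp hd => by
      rw [Subgroup.card_bot] at hd
      exact absurd (Nat.dvd_one.1 hd) hp.one_lt.ne')
  have hKH1 : KH ≠ ⊥ := by
    intro h
    obtain ⟨p, hp⟩ := hκ
    have hpP : p.Prime := hp.1
    have hpd : p ∣ Nat.card H := hp.2.1
    apply hKH.2.2 p hpP hp
    have h2 := Cfsg.Agent.Helper1.relIndex_mul_card_of_le hKH.1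
    rw [h, Subgroup.card_bot, mul_one] at h2
    rw [h, h2]; exact hpd
  obtain ⟨Hs, f1⟩ := exists_fam hG hH hKH hKH1
  exact conj_eq_or hG f f1

end Cfsg.Agent.Helper2.BG148
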