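import Mathlib
import Cfsg.Prelude
import Cfsg.Agent.Helper2.BG148d
import Cfsg.Agent.S1446
import Cfsg.Agent.S1417
import Cfsg.Agent.S1418
import Cfsg.Agent.S1420
import Cfsg.Agent.S1432
import Cfsg.Agent.Lead.BG114a
import Cfsg.Agent.Lead.BG127b
import Cfsg.Agent.Helper1.NilpCoprime

set_option autoImplicit false

/-!
Bender–Glauberman Lemma 14.12 (toward S1435): the `τ₂`-kill.

If `K ≤ H` has prime order `p ∉ σ(H)`, acts fixed-point-freely on `H_σ`, `C_G(k) ≤ M*` for `k ∈ K^#`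
with `K ≤ M*_σ`, and `Q ≤ H` is a `K`-invariant `s`-subgroup with `s ∈ τ₂(H)`, `s ∉ σ(M*) ∪ κ(M*)` and
`Q ∩ M* = 1`, then `Q = 1`.
-/

namespace Cfsg.Agent.Helper2.BG1412

open Cfsg
open scoped Pointwise

universe u

variable {G : Type u} [Group G] [Finite G]

omit [Finite G] in
/-- in a group of prime order, a fixed point of one nonidentity element is fixed by all -/
theorem fixed_of_fixed_prime {K : Subgroup G} {p : ℕ} (hp : p.Prime) (hK : Nat.card K = p)
    {k : G} (hk : k ∈ K) (hk1 : k ≠ 1) {t : G} (ht : k * t * k⁻¹ = t) :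
    ∀ k' ∈ K, k' * t * k'⁻¹ = t := by
  haveI := Fact.mk hp
  have hgen : ∀ x : ↥K, x ∈ Subgroup.zpowers (⟨k, hk⟩ : ↥K) := by
    have h1 : (⟨k, hk⟩ : ↥K) ≠ 1 := fun h => hk1 (congrArg Subtype.val h)
    have := zpowers_eq_top_of_prime_card hK h1
    intro x; rw [this]; exact Subgroup.mem_top x
  intro k' hk'
  obtain ⟨n, hn⟩ := Subgroup.mem_zpowers_iff.1 (hgen ⟨k', hk'⟩)
  have hn' : k ^ n = k' := by
    have := congrArg Subtype.val hn
    simpa using this
  have hc : Commute k t := by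
    unfold Commute SemiconjBy
    calc k * t = k * t * k⁻¹ * k := by group
      _ = t * k := by rw [ht]
  rw [← hn']
  have := (hc.zpow_left n).eq
  rw [this]; group

/-- **The `τ₂`-kill.** -/
theorem tau2_kill (hG : Cfsg.IsMinSimpleOddOrder G) {H Ms K Q : Subgroup G} (hH : IsCoatom H)
    (hMs : IsCoatom Ms) {p s : ℕ} (hp : p.Prime) (hs : s.Prime) (hsp : s ≠ p)
    (hKcard : Nat.card K = p) (hKH : K ≤ H) (hpσ : p ∉ Cfsg.sigma H)
    (hfix : ∀ k ∈ K, k ≠ 1 → Cfsg.sigmaCore H ⊓ Subgroup.centralizer ({k} : Set G) = ⊥)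
    (hsτ : s ∈ Cfsg.tau2 H) (hQH : Q ≤ H) (hQs : IsPGroup s Q)
    (hKQ : K ≤ Subgroup.normalizer (Q : Set G))
    (hKMs : K ≤ Cfsg.sigmaCore Ms)
    (hCK : ∀ k ∈ K, k ≠ 1 → Subgroup.centralizer ({k} : Set G) ≤ Ms)
    (hsσ : s ∉ Cfsg.sigma Ms) (hsκ : s ∉ Cfsg.kappa Ms) (hQMs : Q ⊓ Ms = ⊥) : Q = ⊥ := by
  classical
  haveI := Fact.mk hs
  haveI := Fact.mk hp
  have hsσH : s ∉ Cfsg.sigma H := hsτ.2.1
  -- a nonidentity element of `K`
  have hK1 : K ≠ ⊥ := by
    intro h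
    rw [h, Subgroup.card_bot] at hKcard
    exact hp.one_lt.ne hKcard
  obtain ⟨k0', hk0'⟩ := (Subgroup.ne_bot_iff_exists_ne_one).1 hK1
  obtain ⟨k0, hk0, hk01⟩ : ∃ k0 ∈ K, k0 ≠ 1 := ⟨k0', k0'.2, fun h => hk0' (Subtype.ext h)⟩
  have hKp : IsPGroup p K := IsPGroup.of_card (n := 1) (by rw [hKcard, pow_one])
  -- `Q K` is a `σ(H)'`-group
  have hdisj : K ⊓ Q = ⊥ := by
    apply (Subgroup.disjoint_of_coprime_natCard _).eq_bot
    obtain ⟨n, hn⟩ := IsPGroup.iff_card.1 hQs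
    rw [hKcard, hn]
    exact Nat.Coprime.pow_right _ ((Nat.coprime_primes hp hs).2 (Ne.symm hsp))
  have hYcard : Nat.card ↥(Q ⊔ K) = Nat.card K * Nat.card Q :=
    Cfsg.Agent.Helper1.card_sup_of_le_normalizer hKQ hdisj
  have hYH : Q ⊔ K ≤ H := sup_le hQH hKH
  have hYσ : ∀ t : ℕ, t.Prime → t ∣ Nat.card ↥(Q ⊔ K) → t ∉ Cfsg.sigma H := by
    intro t ht htd
    rw [hYcard, hKcard] at htd
    rcases (Nat.Prime.dvd_mul ht).1 htd with h | h
    · rw [(Nat.prime_dvd_prime_iff_eq ht hp).1 h]; exact hpσ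
    · obtain ⟨n, hn⟩ := IsPGroup.iff_card.1 hQs
      rw [hn] at h
      rw [(Nat.prime_dvd_prime_iff_eq ht hs).1 (ht.dvd_of_dvd_pow h)]; exact hsσH
  obtain ⟨E, hE, hYE⟩ := Cfsg.Agent.Lead.BG12.exists_compl_sigmaCore_ge hG hH hYH hYσ
  have hQE : Q ≤ E := le_sup_left.trans hYE
  have hKE : K ≤ E := le_sup_right.trans hYE
  have hEH : E ≤ H := hE.1
  obtain ⟨A, hAE, hAe, hAcard⟩ := Cfsg.Agent.Lead.BG127.exists_elementary_le_compl hG hH hE hsτ
  obtain ⟨⟨hEA, -⟩, -, -⟩ := Cfsg.Agent.S1418.result hG H hH E hE s hsτ A ⟨hAE, hAe, hAcard⟩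
  obtain ⟨-, -, -, hCA, -, -⟩ :=
    Cfsg.Agent.S1417.result hG H hH s hsτ A ⟨hAE.trans hEH, hAe, hAcard⟩
  obtain ⟨habel, -, -, -⟩ := Cfsg.Agent.S1420.result hG H hH E hE
  have hAs : IsPGroup s A := by
    apply IsPGroup.of_card (n := 2); exact hAcard
  -- `Q` centralizes `A`
  have hQA : ∀ q ∈ Q, ∀ a ∈ A, q * a = a * q := by
    have hN : IsPGroup s ↥(Q ⊔ A) :=
      IsPGroup.to_sup_of_normal_right' hQs hAs (hQE.trans hEA)
    have hNnil : Group.IsNilpotent ↥(Q ⊔ A) := hN.isNilpotent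
    have hNH : Q ⊔ A ≤ H := sup_le hQH (hAE.trans hEH)
    have hNσ : ∀ t : ℕ, t.Prime → t ∣ Nat.card ↥(Q ⊔ A) → t ∉ Cfsg.sigma H := by
      intro t ht htd
      obtain ⟨n, hn⟩ := IsPGroup.iff_card.1 hN
      rw [hn] at htd
      rw [(Nat.prime_dvd_prime_iff_eq ht hs).1 (ht.dvd_of_dvd_pow htd)]; exact hsσH
    have hcomm := habel (Q ⊔ A) hNH hNnil hNσ
    intro q hq a ha
    have := hcomm.is_comm.comm (⟨q, Subgroup.mem_sup_left hq⟩ : ↥(Q ⊔ A))
      ⟨a, Subgroup.mem_sup_right ha⟩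
    exact congrArg Subtype.val this
  by_cases hα : ∃ t ∈ A, t ≠ 1 ∧ ∀ k ∈ K, k * t * k⁻¹ = t
  · -- case (α)
    obtain ⟨t, htA, ht1, htK⟩ := hα
    have htc : t ∈ Subgroup.centralizer ({k0} : Set G) := by
      rw [Subgroup.mem_centralizer_singleton_iff]
      have := htK k0 hk0
      symm
      calc k0 * t = k0 * t * k0⁻¹ * k0 := by group
        _ = t * k0 := by rw [this]
    have htMs : t ∈ Ms := hCK k0 hk0 hk01 htc
    have hto : orderOf t = s := orderOf_eq_prime (hAe.2 t htA) ht1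
    have hσ' : ∀ q : ℕ, q.Prime → q ∣ orderOf t → q ∉ Cfsg.sigma Ms := by
      intro q hq hqd
      rw [hto] at hqd
      rw [(Nat.prime_dvd_prime_iff_eq hq hs).1 hqd]; exact hsσ
    rcases Cfsg.Agent.S1432.result hG Ms hMs k0 (hKMs hk0) hk01 t ⟨htMs, htc⟩ ht1 hσ' with
      ⟨hκ, -⟩ | ⟨-, -, hle, -⟩
    · exfalso
      apply hsκ
      exact hκ s hs (by rw [hto])
    · rw [eq_bot_iff, ← hQMs]
      refine le_inf le_rfl ?_
      intro q hq
      apply hle
      rw [Subgroup.mem_centralizer_singleton_iff]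
      exact hQA q hq t htA
  · -- case (β)
    exfalso
    push Not at hα
    have hfixA : ∀ k ∈ K, k ≠ 1 → ∀ a ∈ A, k * a * k⁻¹ = a → a = 1 := by
      intro k hk hk1 a ha hka
      by_contra ha1
      obtain ⟨k', hk', hne⟩ := hα a ha ha1
      exact hne (fixed_of_fixed_prime hp hKcard hk hk1 hka k' hk')
    have hσn : H ≤ Subgroup.normalizer ((Cfsg.sigmaCore H : Subgroup G) : Set G) :=
      Cfsg.Agent.Lead.BG12.le_normalizer_sigmaCore H
    have hAσ : A ⊓ Cfsg.sigmaCore H = ⊥ := by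
      rw [eq_bot_iff, ← hE.2.2.1]
      exact inf_le_inf_right _ hAE
    set J := Cfsg.sigmaCore H ⊔ A with hJ
    have hJ1 : J ≠ ⊥ := by
      intro h
      apply Cfsg.Agent.Lead.BG12.sigmaCore_ne_bot hG hH
      rw [eq_bot_iff, ← h]; exact le_sup_left
    have hAn : A ≤ Subgroup.normalizer ((Cfsg.sigmaCore H : Subgroup G) : Set G) :=
      (hAE.trans hEH).trans hσn
    have hJset : (J : Set G) = (Cfsg.sigmaCore H : Set G) * (A : Set G) := by
      rw [hJ]
      exact Subgroup.coe_mul_of_right_le_normalizer_left _ _ hAn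
    have hKJ : K ≤ Subgroup.normalizer (J : Set G) := by
      intro k hk
      have h1 : k ∈ Subgroup.normalizer ((Cfsg.sigmaCore H : Subgroup G) : Set G) :=
        hσn (hKH hk)
      have h2 : k ∈ Subgroup.normalizer (A : Set G) := hEA (hKE hk)
      have hmem : ∀ k' : G, k' ∈ Subgroup.normalizer ((Cfsg.sigmaCore H : Subgroup G) : Set G) →
          k' ∈ Subgroup.normalizer (A : Set G) → ∀ j ∈ J, k' * j * k'⁻¹ ∈ J := by
        intro k' h1' h2' j hj
        have hj' : j ∈ (Cfsg.sigmaCore H : Set G) * (A : Set G) := by rw [← hJset]; exact hj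
        obtain ⟨h, hh, a, ha, rfl⟩ := Set.mem_mul.1 hj'
        have e : k' * (h * a) * k'⁻¹ = (k' * h * k'⁻¹) * (k' * a * k'⁻¹) := by group
        rw [e]
        exact Subgroup.mul_mem _
          (Subgroup.mem_sup_left ((Subgroup.mem_normalizer_iff.1 h1' h).1 hh))
          (Subgroup.mem_sup_right ((Subgroup.mem_normalizer_iff.1 h2' a).1 ha))
      rw [Subgroup.mem_normalizer_iff]
      intro j
      constructor
      · exact hmem k h1 h2 j
      · intro hj
        have := hmem k⁻¹ (Subgroup.inv_mem _ h1) (Subgroup.inv_mem _ h2) _ hj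
        have e : k⁻¹ * (k * j * k⁻¹) * k⁻¹⁻¹ = j := by group
        rwa [e] at this
    have hfrobJ : ∀ k ∈ K, k ≠ 1 → J ⊓ Subgroup.centralizer ({k} : Set G) = ⊥ := by
      intro k hk hk1
      rw [eq_bot_iff]
      rintro j ⟨hj, hjc⟩
      rw [Subgroup.mem_bot]
      have hj' : j ∈ (Cfsg.sigmaCore H : Set G) * (A : Set G) := by rw [← hJset]; exact hj
      obtain ⟨h, hh, a, ha, rfl⟩ := Set.mem_mul.1 hj'
      have hh' : h ∈ Cfsg.sigmaCore H := hh
      have ha' : a ∈ A := ha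
      have hc : k * (h * a) = (h * a) * k :=
        ((Subgroup.mem_centralizer_singleton_iff (g := k) (k := h * a)).1 hjc).symm
      have h1 : k ∈ Subgroup.normalizer ((Cfsg.sigmaCore H : Subgroup G) : Set G) :=
        hσn (hKH hk)
      have h2 : k ∈ Subgroup.normalizer (A : Set G) := hEA (hKE hk)
      have e1 : (k * h * k⁻¹) * (k * a * k⁻¹) = h * a := by
        have : (k * h * k⁻¹) * (k * a * k⁻¹) = k * (h * a) * k⁻¹ := by group
        rw [this, hc]; group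
      have hmem1 : h⁻¹ * (k * h * k⁻¹) ∈ Cfsg.sigmaCore H :=
        Subgroup.mul_mem _ (Subgroup.inv_mem _ hh') ((Subgroup.mem_normalizer_iff.1 h1 h).1 hh')
      have hmem2 : a * (k * a * k⁻¹)⁻¹ ∈ A :=
        Subgroup.mul_mem _ ha' (Subgroup.inv_mem _ ((Subgroup.mem_normalizer_iff.1 h2 a).1 ha'))
      have e2 : h⁻¹ * (k * h * k⁻¹) = a * (k * a * k⁻¹)⁻¹ := by
        have : k * h * k⁻¹ = h * a * (k * a * k⁻¹)⁻¹ := by rw [← e1]; group
        rw [this]; group
      have h3 : a * (k * a * k⁻¹)⁻¹ ∈ A ⊓ Cfsg.sigmaCore H := ⟨hmem2, e2 ▸ hmem1⟩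
      rw [hAσ, Subgroup.mem_bot] at h3
      have h4 : k * a * k⁻¹ = a := by
        have : a = (a * (k * a * k⁻¹)⁻¹) * (k * a * k⁻¹) := by group
        rw [h3, one_mul] at this
        exact this.symm
      have ha1 : a = 1 := hfixA k hk hk1 a ha' h4
      rw [ha1, mul_one] at hc ⊢
      have h5 : h ∈ Cfsg.sigmaCore H ⊓ Subgroup.centralizer ({k} : Set G) := by
        refine ⟨hh', ?_⟩
        change h ∈ Subgroup.centralizer ({k} : Set G)
        rw [Subgroup.mem_centralizer_singleton_iff]; exact hc.symm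
      rw [hfix k hk hk1, Subgroup.mem_bot] at h5
      exact h5
    haveI hJnil : Group.IsNilpotent ↥J :=
      Cfsg.Agent.S1446.nilpotent_of_fpf J K hJ1 hK1 hKJ hfrobJ
    -- `A` centralizes `H_σ`
    have hcent : Cfsg.sigmaCore H ≤ Subgroup.centralizer (A : Set G) := by
      intro h hh
      rw [Subgroup.mem_centralizer_iff]
      intro a ha
      have hcop : (orderOf (⟨a, Subgroup.mem_sup_right ha⟩ : ↥J)).Coprime
          (orderOf (⟨h, Subgroup.mem_sup_left hh⟩ : ↥J)) := by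
        rw [← Subgroup.orderOf_coe, ← Subgroup.orderOf_coe]
        apply Nat.coprime_of_dvd
        intro t ht h1 h2
        have h3 : t ∣ s := by
          have : orderOf a ∣ s := orderOf_dvd_of_pow_eq_one (hAe.2 a ha)
          exact h1.trans this
        rw [(Nat.prime_dvd_prime_iff_eq ht hs).1 h3] at h2
        exact hsσH (Cfsg.Agent.Lead.BG12.mem_sigma_of_dvd_card_sigmaCore hs
          (h2.trans (Subgroup.orderOf_dvd_natCard _ hh)))
      have := Cfsg.Agent.Helper1.commute_of_coprime_orderOf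
        (⟨a, Subgroup.mem_sup_right ha⟩ : ↥J) ⟨h, Subgroup.mem_sup_left hh⟩ hcop
      exact congrArg Subtype.val this
    apply Cfsg.Agent.Lead.BG12.sigmaCore_ne_bot hG hH
    rw [eq_bot_iff, ← hCA]
    exact le_inf le_rfl hcent

end Cfsg.Agent.Helper2.BG1412
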