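import Mathlib
import Cfsg.Prelude
import Cfsg.Agent.Helper2.BG1412a

set_option autoImplicit false

/-!
Bender–Glauberman Lemma 14.12 (toward S1435): generic coprime-action lemmas.

* `sigmaCore_le_centralizer_of_fpf`: if `K` acts fixed-point-freely on `H_σ` and on a `K`-invariant
  subgroup `B ≤ H` of order coprime to `|H_σ|`, then `B` centralizes `H_σ`.
* `deltaSub V k`: for an abelian subgroup `V` normalized by `k`, the subgroup `{v⁻¹ (k v k⁻¹)}`;
  it is invariant under everything commuting with `k` and normalizing `V`, and `k` acts on it without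
  fixed points when `k ^ p = 1` and `V` is a `q`-group, `q ≠ p`.
-/

namespace Cfsg.Agent.Helper2.BG1412

open Cfsg
open scoped Pointwise

universe u

variable {G : Type u} [Group G]

/-- membership in the normalizer from closure under conjugation by `k` and `k⁻¹` -/
theorem mem_normalizer_of_conj_mem {B : Subgroup G} {k : G}
    (h1 : ∀ b ∈ B, k * b * k⁻¹ ∈ B) (h2 : ∀ b ∈ B, k⁻¹ * b * k ∈ B) :
    k ∈ Subgroup.normalizer (B : Set G) := by
  rw [Subgroup.mem_normalizer_iff]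
  intro b
  constructor
  · exact h1 b
  · intro hb
    have := h2 _ hb
    have e : k⁻¹ * (k * b * k⁻¹) * k = b := by group
    rwa [e] at this

section fpf

variable [Finite G]

/-- **Fixed-point-free action forces centralization.** -/
theorem sigmaCore_le_centralizer_of_fpf (hG : Cfsg.IsMinSimpleOddOrder G) {H K B : Subgroup G}
    (hH : IsCoatom H) (hK1 : K ≠ ⊥) (hKH : K ≤ H) (hBH : B ≤ H)
    (hKB : K ≤ Subgroup.normalizer (B : Set G))
    (hcop : (Nat.card B).Coprime (Nat.card (Cfsg.sigmaCore H)))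
    (hfix : ∀ k ∈ K, k ≠ 1 → Cfsg.sigmaCore H ⊓ Subgroup.centralizer ({k} : Set G) = ⊥)
    (hfixB : ∀ k ∈ K, k ≠ 1 → B ⊓ Subgroup.centralizer ({k} : Set G) = ⊥) :
    Cfsg.sigmaCore H ≤ Subgroup.centralizer (B : Set G) := by
  classical
  have hσn : H ≤ Subgroup.normalizer ((Cfsg.sigmaCore H : Subgroup G) : Set G) :=
    Cfsg.Agent.Lead.BG12.le_normalizer_sigmaCore H
  have hBσ : B ⊓ Cfsg.sigmaCore H = ⊥ := (Subgroup.disjoint_of_coprime_natCard hcop).eq_bot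
  have hfixA : ∀ k ∈ K, k ≠ 1 → ∀ a ∈ B, k * a * k⁻¹ = a → a = 1 := by
    intro k hk hk1 a ha hka
    have h : a ∈ B ⊓ Subgroup.centralizer ({k} : Set G) := by
      refine ⟨ha, ?_⟩
      change a ∈ Subgroup.centralizer ({k} : Set G)
      rw [Subgroup.mem_centralizer_singleton_iff]
      calc a * k = k * a * k⁻¹ * k := by rw [hka]
        _ = k * a := by group
    rw [hfixB k hk hk1, Subgroup.mem_bot] at h
    exact h
  set J := Cfsg.sigmaCore H ⊔ B with hJ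
  have hJ1 : J ≠ ⊥ := by
    intro h
    apply Cfsg.Agent.Lead.BG12.sigmaCore_ne_bot hG hH
    rw [eq_bot_iff, ← h]; exact le_sup_left
  have hBn : B ≤ Subgroup.normalizer ((Cfsg.sigmaCore H : Subgroup G) : Set G) := hBH.trans hσn
  have hJset : (J : Set G) = (Cfsg.sigmaCore H : Set G) * (B : Set G) := by
    rw [hJ]
    exact Subgroup.coe_mul_of_right_le_normalizer_left _ _ hBn
  have hKJ : K ≤ Subgroup.normalizer (J : Set G) := by
    intro k hk
    have h1 : k ∈ Subgroup.normalizer ((Cfsg.sigmaCore H : Subgroup G) : Set G) :=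
      hσn (hKH hk)
    have h2 : k ∈ Subgroup.normalizer (B : Set G) := hKB hk
    have hmem : ∀ k' : G, k' ∈ Subgroup.normalizer ((Cfsg.sigmaCore H : Subgroup G) : Set G) →
        k' ∈ Subgroup.normalizer (B : Set G) → ∀ j ∈ J, k' * j * k'⁻¹ ∈ J := by
      intro k' h1' h2' j hj
      have hj' : j ∈ (Cfsg.sigmaCore H : Set G) * (B : Set G) := by rw [← hJset]; exact hj
      obtain ⟨h, hh, a, ha, rfl⟩ := Set.mem_mul.1 hj'
      have e : k' * (h * a) * k'⁻¹ = (k' * h * k'⁻¹) * (k' * a * k'⁻¹) := by group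
      rw [e]
      exact Subgroup.mul_mem _
        (Subgroup.mem_sup_left ((Subgroup.mem_normalizer_iff.1 h1' h).1 hh))
        (Subgroup.mem_sup_right ((Subgroup.mem_normalizer_iff.1 h2' a).1 ha))
    apply mem_normalizer_of_conj_mem
    · exact hmem k h1 h2
    · intro j hj
      have := hmem k⁻¹ (Subgroup.inv_mem _ h1) (Subgroup.inv_mem _ h2) j hj
      rwa [inv_inv] at this
  have hfrobJ : ∀ k ∈ K, k ≠ 1 → J ⊓ Subgroup.centralizer ({k} : Set G) = ⊥ := by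
    intro k hk hk1
    rw [eq_bot_iff]
    rintro j ⟨hj, hjc⟩
    rw [Subgroup.mem_bot]
    have hj' : j ∈ (Cfsg.sigmaCore H : Set G) * (B : Set G) := by rw [← hJset]; exact hj
    obtain ⟨h, hh, a, ha, rfl⟩ := Set.mem_mul.1 hj'
    have hh' : h ∈ Cfsg.sigmaCore H := hh
    have ha' : a ∈ B := ha
    have hc : k * (h * a) = (h * a) * k :=
      ((Subgroup.mem_centralizer_singleton_iff (g := k) (k := h * a)).1 hjc).symm
    have h1 : k ∈ Subgroup.normalizer ((Cfsg.sigmaCore H : Subgroup G) : Set G) :=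
      hσn (hKH hk)
    have h2 : k ∈ Subgroup.normalizer (B : Set G) := hKB hk
    have e1 : (k * h * k⁻¹) * (k * a * k⁻¹) = h * a := by
      have : (k * h * k⁻¹) * (k * a * k⁻¹) = k * (h * a) * k⁻¹ := by group
      rw [this, hc]; group
    have hmem1 : h⁻¹ * (k * h * k⁻¹) ∈ Cfsg.sigmaCore H :=
      Subgroup.mul_mem _ (Subgroup.inv_mem _ hh') ((Subgroup.mem_normalizer_iff.1 h1 h).1 hh')
    have hmem2 : a * (k * a * k⁻¹)⁻¹ ∈ B :=
      Subgroup.mul_mem _ ha' (Subgroup.inv_mem _ ((Subgroup.mem_normalizer_iff.1 h2 a).1 ha'))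
    have e2 : h⁻¹ * (k * h * k⁻¹) = a * (k * a * k⁻¹)⁻¹ := by
      have : k * h * k⁻¹ = h * a * (k * a * k⁻¹)⁻¹ := by rw [← e1]; group
      rw [this]; group
    have h3 : a * (k * a * k⁻¹)⁻¹ ∈ B ⊓ Cfsg.sigmaCore H := ⟨hmem2, e2 ▸ hmem1⟩
    rw [hBσ, Subgroup.mem_bot] at h3
    have h4 : k * a * k⁻¹ = a := by
      have : a = (a * (k * a * k⁻¹)⁻¹) * (k * a * k⁻¹) := by group
      rw [h3, one_mul] at this
      exact this.symm
    have ha1 : a = 1 := hfixA k hk hk1 a ha' h4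
    rw [ha1, mul_one] at hc ⊢
    have h5 : h ∈ Cfsg.sigmaCore H ⊓ Subgroup.centralizer ({k} : Set G) := by
      refine ⟨hh', ?_⟩
      change h ∈ Subgroup.centralizer ({k} : Set G)
      rw [Subgroup.mem_centralizer_singleton_iff]; exact hc.symm
    rw [hfix k hk hk1, Subgroup.mem_bot] at h5
    exact h5
  haveI hJnil : Group.IsNilpotent ↥J :=
    Cfsg.Agent.S1446.nilpotent_of_fpf J K hJ1 hK1 hKJ hfrobJ
  intro h hh
  rw [Subgroup.mem_centralizer_iff]
  intro a ha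
  have hcop' : (orderOf (⟨a, Subgroup.mem_sup_right ha⟩ : ↥J)).Coprime
      (orderOf (⟨h, Subgroup.mem_sup_left hh⟩ : ↥J)) := by
    rw [← Subgroup.orderOf_coe, ← Subgroup.orderOf_coe]
    exact Nat.Coprime.coprime_dvd_left (Subgroup.orderOf_dvd_natCard _ ha)
      (Nat.Coprime.coprime_dvd_right (Subgroup.orderOf_dvd_natCard _ hh) hcop)
  have := Cfsg.Agent.Helper1.commute_of_coprime_orderOf
    (⟨a, Subgroup.mem_sup_right ha⟩ : ↥J) ⟨h, Subgroup.mem_sup_left hh⟩ hcop'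
  exact congrArg Subtype.val this

end fpf

/-! ### The subgroup `{v⁻¹ (k v k⁻¹)}` of an abelian group -/

/-- For an abelian subgroup `V` normalized by `k`, the subgroup of all `v⁻¹ (k v k⁻¹)`, `v ∈ V`. -/
def deltaSub (V : Subgroup G) (k : G) (hV : ∀ a ∈ V, ∀ b ∈ V, a * b = b * a)
    (hk : k ∈ Subgroup.normalizer (V : Set G)) : Subgroup G where
  carrier := {w | ∃ v ∈ V, w = v⁻¹ * (k * v * k⁻¹)}
  one_mem' := ⟨1, V.one_mem, by group⟩
  mul_mem' := by
    rintro a b ⟨v, hv, rfl⟩ ⟨u, hu, rfl⟩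
    refine ⟨v * u, V.mul_mem hv hu, ?_⟩
    have hx : k * v * k⁻¹ ∈ V := (Subgroup.mem_normalizer_iff.1 hk v).1 hv
    have hc : u⁻¹ * (v⁻¹ * (k * v * k⁻¹)) = (v⁻¹ * (k * v * k⁻¹)) * u⁻¹ :=
      hV _ (V.inv_mem hu) _ (V.mul_mem (V.inv_mem hv) hx)
    calc v⁻¹ * (k * v * k⁻¹) * (u⁻¹ * (k * u * k⁻¹))
        = (v⁻¹ * (k * v * k⁻¹) * u⁻¹) * (k * u * k⁻¹) := by group
      _ = (u⁻¹ * (v⁻¹ * (k * v * k⁻¹))) * (k * u * k⁻¹) := by rw [hc]
      _ = (v * u)⁻¹ * (k * (v * u) * k⁻¹) := by group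
  inv_mem' := by
    rintro a ⟨v, hv, rfl⟩
    refine ⟨v⁻¹, V.inv_mem hv, ?_⟩
    have hx : k * v * k⁻¹ ∈ V := (Subgroup.mem_normalizer_iff.1 hk v).1 hv
    have hc : (k * v * k⁻¹)⁻¹ * v = v * (k * v * k⁻¹)⁻¹ := hV _ (V.inv_mem hx) _ hv
    calc (v⁻¹ * (k * v * k⁻¹))⁻¹ = (k * v * k⁻¹)⁻¹ * v := by group
      _ = v * (k * v * k⁻¹)⁻¹ := hc
      _ = v⁻¹⁻¹ * (k * v⁻¹ * k⁻¹) := by group

theorem mem_deltaSub {V : Subgroup G} {k : G} {hV : ∀ a ∈ V, ∀ b ∈ V, a * b = b * a}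
    {hk : k ∈ Subgroup.normalizer (V : Set G)} {w : G} :
    w ∈ deltaSub V k hV hk ↔ ∃ v ∈ V, w = v⁻¹ * (k * v * k⁻¹) := Iff.rfl

theorem deltaSub_le (V : Subgroup G) (k : G) (hV : ∀ a ∈ V, ∀ b ∈ V, a * b = b * a)
    (hk : k ∈ Subgroup.normalizer (V : Set G)) : deltaSub V k hV hk ≤ V := by
  rintro w ⟨v, hv, rfl⟩
  exact V.mul_mem (V.inv_mem hv) ((Subgroup.mem_normalizer_iff.1 hk v).1 hv)

/-- `deltaSub V k` is normalized by every element normalizing `V` and commuting with `k`. -/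
theorem mem_normalizer_deltaSub (V : Subgroup G) (k : G) (hV : ∀ a ∈ V, ∀ b ∈ V, a * b = b * a)
    (hk : k ∈ Subgroup.normalizer (V : Set G)) {k' : G}
    (hk' : k' ∈ Subgroup.normalizer (V : Set G)) (hkk : k' * k = k * k') :
    k' ∈ Subgroup.normalizer ((deltaSub V k hV hk : Subgroup G) : Set G) := by
  have key : ∀ c : G, c ∈ Subgroup.normalizer (V : Set G) → c * k = k * c →
      ∀ w ∈ deltaSub V k hV hk, c * w * c⁻¹ ∈ deltaSub V k hV hk := by
    rintro c hc hck w ⟨v, hv, rfl⟩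
    refine ⟨c * v * c⁻¹, (Subgroup.mem_normalizer_iff.1 hc v).1 hv, ?_⟩
    have hck' : c⁻¹ * k⁻¹ = k⁻¹ * c⁻¹ := by
      have := congrArg (fun t => t⁻¹) hck
      simp only [mul_inv_rev] at this
      exact this.symm
    calc c * (v⁻¹ * (k * v * k⁻¹)) * c⁻¹
        = c * v⁻¹ * c⁻¹ * ((c * k) * v * (k⁻¹ * c⁻¹)) := by group
      _ = c * v⁻¹ * c⁻¹ * ((k * c) * v * (c⁻¹ * k⁻¹)) := by rw [hck, hck']
      _ = (c * v * c⁻¹)⁻¹ * (k * (c * v * c⁻¹) * k⁻¹) := by group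
  apply mem_normalizer_of_conj_mem
  · exact key k' hk' hkk
  · intro w hw
    have hinv : k'⁻¹ * k = k * k'⁻¹ := by
      calc k'⁻¹ * k = k'⁻¹ * (k * k') * k'⁻¹ := by group
        _ = k'⁻¹ * (k' * k) * k'⁻¹ := by rw [hkk]
        _ = k * k'⁻¹ := by group
    have := key k'⁻¹ (Subgroup.inv_mem _ hk') hinv w hw
    rwa [inv_inv] at this

/-- `k` has no fixed points on `deltaSub V k` when `k ^ p = 1` and `V` is a `q`-group, `q ≠ p`. -/
theorem deltaSub_fixed_eq_one (V : Subgroup G) (k : G) (hV : ∀ a ∈ V, ∀ b ∈ V, a * b = b * a)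
    (hk : k ∈ Subgroup.normalizer (V : Set G)) {p q : ℕ} (hp : p.Prime) (hq : q.Prime)
    (hqp : q ≠ p) (hkp : k ^ p = 1) (hVq : IsPGroup q V) {z : G} (hz : z ∈ deltaSub V k hV hk)
    (hfix : k * z * k⁻¹ = z) : z = 1 := by
  obtain ⟨v, hv, rfl⟩ := hz
  set z := v⁻¹ * (k * v * k⁻¹) with hzdef
  have hkv : k * v * k⁻¹ = v * z := by rw [hzdef]; group
  have hzpow : ∀ i : ℕ, k * z ^ i * k⁻¹ = z ^ i := by
    intro i
    induction i with
    | zero => simp
    | succ i ih =>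
      calc k * z ^ (i + 1) * k⁻¹ = (k * z ^ i * k⁻¹) * (k * z * k⁻¹) := by rw [pow_succ]; group
        _ = z ^ (i + 1) := by rw [ih, hfix, pow_succ]
  have hpow : ∀ i : ℕ, k ^ i * v * (k ^ i)⁻¹ = v * z ^ i := by
    intro i
    induction i with
    | zero => simp
    | succ i ih =>
      calc k ^ (i + 1) * v * (k ^ (i + 1))⁻¹ = k * (k ^ i * v * (k ^ i)⁻¹) * k⁻¹ := by
            rw [pow_succ']; group
        _ = k * (v * z ^ i) * k⁻¹ := by rw [ih]
        _ = (k * v * k⁻¹) * (k * z ^ i * k⁻¹) := by group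
        _ = v * z ^ (i + 1) := by rw [hkv, hzpow i, pow_succ']; group
  have h1 := hpow p
  rw [hkp, inv_one, one_mul, mul_one] at h1
  have hzp : z ^ p = 1 := by
    have : v * z ^ p = v * 1 := by rw [mul_one]; exact h1.symm
    exact mul_left_cancel this
  have hzV : z ∈ V := deltaSub_le V k hV hk ⟨v, hv, rfl⟩
  obtain ⟨n, hn⟩ := hVq ⟨z, hzV⟩
  have hzq : z ^ q ^ n = 1 := by
    have := congrArg Subtype.val hn
    simpa using this
  have h2 : orderOf z ∣ Nat.gcd p (q ^ n) :=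
    Nat.dvd_gcd (orderOf_dvd_of_pow_eq_one hzp) (orderOf_dvd_of_pow_eq_one hzq)
  have h3 : Nat.gcd p (q ^ n) = 1 :=
    Nat.Coprime.pow_right n ((Nat.coprime_primes hp hq).2 (Ne.symm hqp))
  rw [h3, Nat.dvd_one] at h2
  exact orderOf_eq_one_iff.1 h2

/-- if `deltaSub V k` is trivial then `k` centralizes `V` -/
theorem commute_of_deltaSub_eq_bot (V : Subgroup G) (k : G) (hV : ∀ a ∈ V, ∀ b ∈ V, a * b = b * a)
    (hk : k ∈ Subgroup.normalizer (V : Set G)) (h : deltaSub V k hV hk = ⊥) :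
    ∀ v ∈ V, k * v = v * k := by
  intro v hv
  have h1 : v⁻¹ * (k * v * k⁻¹) ∈ deltaSub V k hV hk := ⟨v, hv, rfl⟩
  rw [h, Subgroup.mem_bot] at h1
  calc k * v = v * (v⁻¹ * (k * v * k⁻¹)) * k := by group
    _ = v * k := by rw [h1, mul_one]

end Cfsg.Agent.Helper2.BG1412
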