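import Mathlib
import Cfsg.Prelude
import Cfsg.Agent.Helper2.BG1412b
import Cfsg.Agent.Helper3.BG144b
import Cfsg.Agent.Helper1.BG15P2b
import Cfsg.Agent.S1351
import Cfsg.Agent.S1352
import Cfsg.Agent.S1364
import Cfsg.Agent.S1423
import Cfsg.Agent.S1431
import Cfsg.Agent.S1404

set_option autoImplicit false
set_option maxHeartbeats 800000
set_option linter.unusedSectionVars false
set_option linter.style.haveILetI false

/-!
Bender–Glauberman Lemma 14.12 (toward S1435): the context `Ctx` and the fixed-point-free kill.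
-/

namespace Cfsg.Agent.Helper2.BG1412

open Cfsg Cfsg.Agent.Helper1.BG147 Cfsg.Agent.Helper1.BGV
open scoped Pointwise

universe u

variable {G : Type u} [Group G] [Finite G]

/-- The situation of BG Lemma 14.12 after the first steps: `M` of type `P₂` with `M*`, and a maximal
subgroup `H ⊇ K` with `κ(H) = ∅`, `p = |K| ∉ σ(H)`, `K` acting fixed-point-freely on `H_σ`, and `H`
not conjugate to `M`. -/
structure Ctx (M K U Ms H : Subgroup G) (p : ℕ) : Prop where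
  hM : IsCoatom M
  hKU : Cfsg.IsSigmaDecomposition M K U
  hK1 : K ≠ ⊥
  hU1 : U ≠ ⊥
  hMs : IsCoatom Ms
  hKst : K = Cfsg.sigmaCore Ms ⊓ Subgroup.centralizer
    ((Cfsg.sigmaCore M ⊓ Subgroup.centralizer (K : Set G) : Subgroup G) : Set G)
  hKstH : Cfsg.IsPiHallOf (Cfsg.kappa Ms) (Cfsg.sigmaCore M ⊓ Subgroup.centralizer (K : Set G)) Ms
  hH : IsCoatom H
  hp : p.Prime
  hKcard : Nat.card K = p
  hKH : K ≤ H
  hκ : Cfsg.kappa H = ∅
  hpσ : p ∉ Cfsg.sigma H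
  hfix : ∀ k ∈ K, k ≠ 1 → Cfsg.sigmaCore H ⊓ Subgroup.centralizer ({k} : Set G) = ⊥
  hconj : ∀ g : G, H ≠ M.map (MulAut.conj g).toMonoidHom

section

variable {M K U Ms H : Subgroup G} {p : ℕ}

theorem Ctx.P (hG : Cfsg.IsMinSimpleOddOrder G) (c : Ctx M K U Ms H p) : P142 M K :=
  Cfsg.Agent.Helper4.BG147H.hyp142 hG M K c.hM c.hKU.hall c.hK1

theorem Ctx.Ps (hG : Cfsg.IsMinSimpleOddOrder G) (c : Ctx M K U Ms H p) :
    P142 Ms (Cfsg.sigmaCore M ⊓ Subgroup.centralizer (K : Set G)) :=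
  Cfsg.Agent.Helper4.BG147H.hyp142 hG Ms _ c.hMs c.hKstH (c.P hG).kstar_ne

theorem Ctx.K_le_sigmaCore (c : Ctx M K U Ms H p) : K ≤ Cfsg.sigmaCore Ms := by
  have h := c.hKst
  intro k hk
  rw [h] at hk
  exact hk.1

theorem Ctx.K_le_Ms (c : Ctx M K U Ms H p) : K ≤ Ms :=
  c.K_le_sigmaCore.trans (Subgroup.map_subtype_le _)

theorem Ctx.p_mem_sigma (c : Ctx M K U Ms H p) : p ∈ Cfsg.sigma Ms := by
  apply Cfsg.Agent.Lead.BG12.mem_sigma_of_dvd_card_sigmaCore c.hp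
  rw [← c.hKcard]
  exact Subgroup.card_dvd_of_le c.K_le_sigmaCore

theorem Ctx.isPGroup (c : Ctx M K U Ms H p) : IsPGroup p K :=
  IsPGroup.of_card (n := 1) (by rw [c.hKcard, pow_one])

theorem Ctx.orderOf_eq (c : Ctx M K U Ms H p) {k : G} (hk : k ∈ K) (hk1 : k ≠ 1) :
    orderOf k = p := by
  have h1 : orderOf k ∣ p := by
    rw [← c.hKcard]; exact Subgroup.orderOf_dvd_natCard _ hk
  rcases (Nat.dvd_prime c.hp).1 h1 with h | h
  · exact absurd (orderOf_eq_one_iff.1 h) hk1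
  · exact h

theorem Ctx.pow_eq_one (c : Ctx M K U Ms H p) {k : G} (hk : k ∈ K) : k ^ p = 1 := by
  by_cases hk1 : k = 1
  · rw [hk1, one_pow]
  · rw [← c.orderOf_eq hk hk1]; exact pow_orderOf_eq_one k

theorem Ctx.comm (c : Ctx M K U Ms H p) : ∀ a ∈ K, ∀ b ∈ K, a * b = b * a := by
  intro a ha b hb
  haveI := c.hKU.cyclic
  have := (IsCyclic.isMulCommutative (α := ↥K)).is_comm.comm ⟨a, ha⟩ ⟨b, hb⟩
  exact congrArg Subtype.val this

/-- `C_G(k) ≤ M*` for `k ∈ K^#`. -/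
theorem Ctx.cent_le (hG : Cfsg.IsMinSimpleOddOrder G) (c : Ctx M K U Ms H p) :
    ∀ k ∈ K, k ≠ 1 → Subgroup.centralizer ({k} : Set G) ≤ Ms := by
  intro k hk hk1
  have hX : Subgroup.zpowers k ≤ Cfsg.sigmaCore Ms ⊓ Subgroup.centralizer
      ((Cfsg.sigmaCore M ⊓ Subgroup.centralizer (K : Set G) : Subgroup G) : Set G) := by
    rw [← c.hKst]; exact Subgroup.zpowers_le.2 hk
  have hXp : (Nat.card (Subgroup.zpowers k)).Prime := by
    rw [Nat.card_zpowers, c.orderOf_eq hk hk1]; exact c.hp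
  have := ((c.Ps hG).uniq _ hX hXp).1
  rwa [Cfsg.Agent.Helper1.BGX.centralizer_zpowers_eq] at this

/-- `H` is the unique maximal subgroup ... for `M*`: uniqueness of `M*` over `C_G(k)`. -/
theorem Ctx.cent_uniq (hG : Cfsg.IsMinSimpleOddOrder G) (c : Ctx M K U Ms H p) :
    ∀ k ∈ K, k ≠ 1 → ∀ L : Subgroup G, IsCoatom L → Subgroup.centralizer ({k} : Set G) ≤ L →
      L = Ms := by
  intro k hk hk1
  have hX : Subgroup.zpowers k ≤ Cfsg.sigmaCore Ms ⊓ Subgroup.centralizer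
      ((Cfsg.sigmaCore M ⊓ Subgroup.centralizer (K : Set G) : Subgroup G) : Set G) := by
    rw [← c.hKst]; exact Subgroup.zpowers_le.2 hk
  have hXp : (Nat.card (Subgroup.zpowers k)).Prime := by
    rw [Nat.card_zpowers, c.orderOf_eq hk hk1]; exact c.hp
  have := ((c.Ps hG).uniq _ hX hXp).2
  rwa [Cfsg.Agent.Helper1.BGX.centralizer_zpowers_eq] at this

theorem Ctx.exists_ne_one (c : Ctx M K U Ms H p) : ∃ k ∈ K, k ≠ 1 := by
  obtain ⟨k0', hk0'⟩ := (Subgroup.ne_bot_iff_exists_ne_one).1 c.hK1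
  exact ⟨k0', k0'.2, fun h => hk0' (Subtype.ext h)⟩

/-- `C_G(K) ≤ M*`. -/
theorem Ctx.centK_le (hG : Cfsg.IsMinSimpleOddOrder G) (c : Ctx M K U Ms H p) :
    Subgroup.centralizer (K : Set G) ≤ Ms := by
  obtain ⟨k, hk, hk1⟩ := c.exists_ne_one
  refine le_trans ?_ (c.cent_le hG k hk hk1)
  exact Subgroup.centralizer_le (Set.singleton_subset_iff.2 hk)

/-- `K` lies in the normal `p`-subgroup `O_p(M*)` of `M*`. -/
theorem Ctx.K_le_pcore (hG : Cfsg.IsMinSimpleOddOrder G) (c : Ctx M K U Ms H p) :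
    haveI := Fact.mk c.hp
    K ≤ pcoreOf p Ms := by
  haveI := Fact.mk c.hp
  obtain ⟨-, hcyc⟩ := Cfsg.Agent.S1351.result hG Ms c.hMs
  obtain ⟨⟨Us, hKUs⟩, -⟩ := Cfsg.Agent.S1352.result hG Ms c.hMs _ (hcyc _ c.hKstH) c.hKstH
  obtain ⟨-, -, hle, -⟩ := Cfsg.Agent.S1364.result hG Ms c.hMs _ Us hKUs (c.P hG).kstar_ne
  rw [← c.hKst] at hle
  exact le_pCoreOf_of_le_fittingOf c.isPGroup
    (hle.trans (Cfsg.Agent.Helper4.BG15.fittingHallOf_le_fittingOf Ms))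

/-- `M ≠ M*`. -/
theorem Ctx.ne (c : Ctx M K U Ms H p) : M ≠ Ms := by
  intro h
  have h1 : p ∈ Cfsg.kappa M := c.hKU.hall.2.1 p c.hp (by rw [c.hKcard])
  have h2 := c.p_mem_sigma
  rw [← h] at h2
  exact h1.2.2.1 h2

/-- `M ∩ M* = K K*`. -/
theorem Ctx.inf_eq (hG : Cfsg.IsMinSimpleOddOrder G) (c : Ctx M K U Ms H p) :
    M ⊓ Ms = K ⊔ (Cfsg.sigmaCore M ⊓ Subgroup.centralizer (K : Set G)) := by
  have m := member_self c.hM c.hKU.hall c.hK1
  have ms : Member (K ⊔ (Cfsg.sigmaCore M ⊓ Subgroup.centralizer (K : Set G))) Ms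
      (Cfsg.sigmaCore M ⊓ Subgroup.centralizer (K : Set G)) :=
    ⟨c.hMs, c.hKstH, (c.P hG).kstar_ne, by rw [← c.hKst, sup_comm]⟩
  exact m.inf_eq hG (Cfsg.Agent.Helper4.BG147H.hyp142 hG) ms c.ne

end

end Cfsg.Agent.Helper2.BG1412
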