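import Mathlib
import Cfsg.Prelude
import Cfsg.Agent.Helper2.BG1412c

set_option autoImplicit false
set_option maxHeartbeats 1600000
set_option linter.unusedSectionVars false
set_option linter.style.haveILetI false

/-!
Bender–Glauberman Lemma 14.12 (toward S1435): the fixed-point-free kill.

In the context `Ctx`, a `K`-invariant `q`-subgroup `Q` of `H` with `q ∉ σ(H)`, `q ≠ p`, on which `K`
acts without fixed points, is trivial.
-/

namespace Cfsg.Agent.Helper2.BG1412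

open Cfsg Cfsg.Agent.Helper1.BG147 Cfsg.Agent.Helper1.BGV
open scoped Pointwise

universe u

variable {G : Type u} [Group G] [Finite G]

variable {M K U Ms H : Subgroup G} {p : ℕ}

/-- **The fixed-point-free kill.** -/
theorem Ctx.fpf_kill (hG : Cfsg.IsMinSimpleOddOrder G) (c : Ctx M K U Ms H p) {q : ℕ}
    (hq : q.Prime) (hqp : q ≠ p) (hqσ : q ∉ Cfsg.sigma H) {Q : Subgroup G} (hQH : Q ≤ H)
    (hQq : IsPGroup q Q) (hKQ : K ≤ Subgroup.normalizer (Q : Set G))
    (hfixQ : ∀ k ∈ K, k ≠ 1 → Q ⊓ Subgroup.centralizer ({k} : Set G) = ⊥) : Q = ⊥ := by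
  classical
  by_contra hQ1
  haveI := Fact.mk hq
  haveI := Fact.mk c.hp
  have h142 := Cfsg.Agent.Helper4.BG147H.hyp142 hG
  obtain ⟨k0, hk0, hk01⟩ := c.exists_ne_one
  -- coprimality
  have hcopQ : (Nat.card Q).Coprime (Nat.card (Cfsg.sigmaCore H)) := by
    obtain ⟨n, hn⟩ := IsPGroup.iff_card.1 hQq
    rw [hn]
    apply Nat.Coprime.pow_left
    rw [Nat.Prime.coprime_iff_not_dvd hq]
    intro h
    exact hqσ (Cfsg.Agent.Lead.BG12.mem_sigma_of_dvd_card_sigmaCore hq h)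
  have hcent := sigmaCore_le_centralizer_of_fpf hG c.hH c.hK1 c.hKH hQH hKQ hcopQ c.hfix hfixQ
  -- an element of order `q`
  obtain ⟨x, hxQ, hxo⟩ : ∃ x ∈ Q, orderOf x = q := by
    have hd : q ∣ Nat.card Q := by
      obtain ⟨n, hn⟩ := IsPGroup.iff_card.1 hQq
      rw [hn]
      cases n with
      | zero =>
        exfalso; apply hQ1
        rw [pow_zero] at hn
        exact Subgroup.card_eq_one.1 hn
      | succ n => exact dvd_pow_self q (Nat.succ_ne_zero n)
    obtain ⟨x, hx⟩ := exists_prime_orderOf_dvd_card' (G := Q) q hd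
    exact ⟨x, x.2, by rw [Subgroup.orderOf_coe]; exact hx⟩
  have hx1 : x ≠ 1 := by
    rintro rfl
    rw [orderOf_one] at hxo
    exact hq.one_lt.ne hxo
  have hxH : x ∈ H := hQH hxQ
  obtain ⟨h0, hh0, hh01⟩ : ∃ h ∈ Cfsg.sigmaCore H, h ≠ 1 := by
    have := Cfsg.Agent.Lead.BG12.sigmaCore_ne_bot hG c.hH
    obtain ⟨h, hh⟩ := (Subgroup.ne_bot_iff_exists_ne_one).1 this
    exact ⟨h, h.2, fun e => hh (Subtype.ext e)⟩
  have hxh : x * h0 = h0 * x := Subgroup.mem_centralizer_iff.1 (hcent hh0) x hxQ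
  have hqτ : q ∈ Cfsg.tau2 H := by
    rcases Cfsg.Agent.Helper3.BG144.mem_kappa_or_tau2 hG c.hH hh0 hh01 hqσ hxH hxo hxh with h | h
    · rw [c.hκ] at h; exact absurd h (Set.notMem_empty _)
    · exact h
  have hKp : IsPGroup p K := c.isPGroup
  have hdisj : K ⊓ Q = ⊥ :=
    (Subgroup.disjoint_of_coprime_natCard
      (isPGroup_card_coprime_card (Ne.symm hqp) hKp hQq)).eq_bot
  have hYcard : Nat.card ↥(Q ⊔ K) = Nat.card K * Nat.card Q :=
    Cfsg.Agent.Helper1.card_sup_of_le_normalizer hKQ hdisj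
  have hYH : Q ⊔ K ≤ H := sup_le hQH c.hKH
  have hYprime : ∀ t : ℕ, t.Prime → t ∣ Nat.card ↥(Q ⊔ K) → t = p ∨ t = q := by
    intro t ht htd
    rw [hYcard, c.hKcard] at htd
    rcases (Nat.Prime.dvd_mul ht).1 htd with h | h
    · exact Or.inl ((Nat.prime_dvd_prime_iff_eq ht c.hp).1 h)
    · obtain ⟨n, hn⟩ := IsPGroup.iff_card.1 hQq
      rw [hn] at h
      exact Or.inr ((Nat.prime_dvd_prime_iff_eq ht hq).1 (ht.dvd_of_dvd_pow h))
  have hYσ : ∀ t : ℕ, t.Prime → t ∣ Nat.card ↥(Q ⊔ K) → t ∉ Cfsg.sigma H := by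
    intro t ht htd
    rcases hYprime t ht htd with rfl | rfl
    · exact c.hpσ
    · exact hqσ
  obtain ⟨E, hE, hYE⟩ := Cfsg.Agent.Lead.BG12.exists_compl_sigmaCore_ge hG c.hH hYH hYσ
  have hQE : Q ≤ E := le_sup_left.trans hYE
  have hKE : K ≤ E := le_sup_right.trans hYE
  have hEH : E ≤ H := hE.1
  -- `H` is the unique maximal subgroup containing `C_G(x)`
  obtain ⟨habel, -, -, h1420⟩ := Cfsg.Agent.S1420.result hG H c.hH E hE
  obtain ⟨hCxH, hCxuniq⟩ := h1420 x hxH hx1 (by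
      intro r hr hrd
      rw [hxo] at hrd
      rw [(Nat.prime_dvd_prime_iff_eq hr hq).1 hrd]; exact hqτ) ⟨hxH, h0, hh0, hh01, hxh⟩
  by_cases hA : q ∈ Cfsg.sigma Ms
  · -- case (A): `q ∈ σ(M*)`
    obtain ⟨-, -, -, h4⟩ := Cfsg.Agent.S1431.result hG Ms c.hMs _ c.hKstH (c.P hG).kstar_ne
    have hY : Q ⊔ K ≤ Cfsg.sigmaCore Ms := by
      apply h4
      · intro t ht htd
        rcases hYprime t ht htd with rfl | rfl
        · exact c.p_mem_sigma
        · exact hA
      · rw [← c.hKst]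
        intro h
        apply c.hK1
        rw [eq_bot_iff, ← h]
        exact le_inf le_sup_right le_rfl
    have hxMs : x ∈ Ms := (Subgroup.map_subtype_le _) (hY (Subgroup.mem_sup_left hxQ))
    have hKpc := c.K_le_pcore hG
    have hcomm : x * k0 * x⁻¹ * k0⁻¹ ∈ pcoreOf p Ms ⊓ Q := by
      constructor
      · have h1 : x * k0 * x⁻¹ ∈ pcoreOf p Ms :=
          (Subgroup.mem_normalizer_iff.1 (le_normalizer_pCoreOf p Ms hxMs) k0).1 (hKpc hk0)
        exact Subgroup.mul_mem _ h1 (Subgroup.inv_mem _ (hKpc hk0))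
      · have h1 : k0 * x⁻¹ * k0⁻¹ ∈ Q :=
          (Subgroup.mem_normalizer_iff.1 (hKQ hk0) x⁻¹).1 (Q.inv_mem hxQ)
        have e : x * k0 * x⁻¹ * k0⁻¹ = x * (k0 * x⁻¹ * k0⁻¹) := by group
        rw [e]; exact Q.mul_mem hxQ h1
    have hbot : pcoreOf p Ms ⊓ Q = ⊥ :=
      (Subgroup.disjoint_of_coprime_natCard
        (isPGroup_card_coprime_card (Ne.symm hqp) (pCoreOf_isPGroup p Ms) hQq)).eq_bot
    rw [hbot, Subgroup.mem_bot] at hcomm
    have hxk : x * k0 = k0 * x := by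
      calc x * k0 = (x * k0 * x⁻¹ * k0⁻¹) * (k0 * x) := by group
        _ = k0 * x := by rw [hcomm, one_mul]
    have hmem : x ∈ Q ⊓ Subgroup.centralizer ({k0} : Set G) := by
      refine ⟨hxQ, ?_⟩
      change x ∈ Subgroup.centralizer ({k0} : Set G)
      rw [Subgroup.mem_centralizer_singleton_iff]; exact hxk
    rw [hfixQ k0 hk0 hk01, Subgroup.mem_bot] at hmem
    exact hx1 hmem
  · by_cases hB : q ∈ Cfsg.kappa Ms
    · -- case (B): `q ∈ κ(M*)`
      obtain ⟨A, hAE, hAe, hAcard⟩ :=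
        Cfsg.Agent.Lead.BG127.exists_elementary_le_compl hG c.hH hE hqτ
      obtain ⟨⟨hEA, -⟩, -, -⟩ := Cfsg.Agent.S1418.result hG H c.hH E hE q hqτ A ⟨hAE, hAe, hAcard⟩
      obtain ⟨-, -, -, hCA, -, -⟩ :=
        Cfsg.Agent.S1417.result hG H c.hH q hqτ A ⟨hAE.trans hEH, hAe, hAcard⟩
      have hAs : IsPGroup q A := IsPGroup.of_card (n := 2) hAcard
      -- `Q` centralizes `A`
      have hQA : ∀ z ∈ Q, ∀ a ∈ A, z * a = a * z := by
        have hN : IsPGroup q ↥(Q ⊔ A) :=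
          IsPGroup.to_sup_of_normal_right' hQq hAs (hQE.trans hEA)
        have hNnil : Group.IsNilpotent ↥(Q ⊔ A) := hN.isNilpotent
        have hNH : Q ⊔ A ≤ H := sup_le hQH (hAE.trans hEH)
        have hNσ : ∀ t : ℕ, t.Prime → t ∣ Nat.card ↥(Q ⊔ A) → t ∉ Cfsg.sigma H := by
          intro t ht htd
          obtain ⟨n, hn⟩ := IsPGroup.iff_card.1 hN
          rw [hn] at htd
          rw [(Nat.prime_dvd_prime_iff_eq ht hq).1 (ht.dvd_of_dvd_pow htd)]; exact hqσ
        have hcomm := habel (Q ⊔ A) hNH hNnil hNσ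
        intro z hz a ha
        have := hcomm.is_comm.comm (⟨z, Subgroup.mem_sup_left hz⟩ : ↥(Q ⊔ A))
          ⟨a, Subgroup.mem_sup_right ha⟩
        exact congrArg Subtype.val this
      -- `K` is not fixed-point-free on `A`
      have hnot : ¬ ∀ k ∈ K, k ≠ 1 → A ⊓ Subgroup.centralizer ({k} : Set G) = ⊥ := by
        intro hfixA
        have hcopA : (Nat.card A).Coprime (Nat.card (Cfsg.sigmaCore H)) := by
          rw [hAcard]
          apply Nat.Coprime.pow_left
          rw [Nat.Prime.coprime_iff_not_dvd hq]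
          intro h
          exact hqσ (Cfsg.Agent.Lead.BG12.mem_sigma_of_dvd_card_sigmaCore hq h)
        have := sigmaCore_le_centralizer_of_fpf hG c.hH c.hK1 c.hKH (hAE.trans hEH)
          (hKE.trans hEA) hcopA c.hfix hfixA
        apply Cfsg.Agent.Lead.BG12.sigmaCore_ne_bot hG c.hH
        rw [eq_bot_iff, ← hCA]; exact le_inf le_rfl this
      push Not at hnot
      obtain ⟨k1, hk1K, hk11, hne⟩ := hnot
      obtain ⟨y', hy'⟩ := (Subgroup.ne_bot_iff_exists_ne_one).1 hne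
      obtain ⟨y, ⟨hyA, hyC⟩, hy1⟩ : ∃ y, y ∈ A ⊓ Subgroup.centralizer ({k1} : Set G) ∧ y ≠ 1 :=
        ⟨y', y'.2, fun h => hy' (Subtype.ext h)⟩
      have hyMs : y ∈ Ms := c.cent_le hG k1 hk1K hk11 hyC
      have hyo : orderOf y = q := orderOf_eq_prime (hAe.2 y hyA) hy1
      have hxy : x * y = y * x := hQA x hxQ y hyA
      -- conjugate `y` into `K*`
      have hsolvMs : Group.IsSolvable ↥Ms := hG.2.2.2 Ms c.hMs.1
      obtain ⟨m, hm, hYm⟩ := Cfsg.Agent.Helper2.BG148.exists_conj_hall_ge hsolvMs c.hKstH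
        (Y := Subgroup.zpowers y) (Subgroup.zpowers_le.2 hyMs) (by
          intro t ht htd
          rw [Nat.card_zpowers, hyo] at htd
          rw [(Nat.prime_dvd_prime_iff_eq ht hq).1 htd]; exact hB)
      obtain ⟨y₀, hy₀, hyy₀⟩ := hYm (Subgroup.mem_zpowers y)
      have hyy₀' : m * y₀ * m⁻¹ = y := hyy₀
      have hy₀o : orderOf y₀ = q := by
        rw [← hyo, ← hyy₀']
        exact (Cfsg.Agent.Helper2.BG148.conj_orderOf' m y₀).symm
      have hy₀1 : y₀ ≠ 1 := by
        rintro rfl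
        rw [orderOf_one] at hy₀o
        exact hq.one_lt.ne hy₀o
      have hX : Subgroup.zpowers y₀ ≤ Cfsg.sigmaCore M ⊓ Subgroup.centralizer (K : Set G) :=
        Subgroup.zpowers_le.2 hy₀
      have hXp : (Nat.card (Subgroup.zpowers y₀)).Prime := by
        rw [Nat.card_zpowers, hy₀o]; exact hq
      obtain ⟨hCy₀, -⟩ := (c.P hG).uniq _ hX hXp
      rw [Cfsg.Agent.Helper1.BGX.centralizer_zpowers_eq] at hCy₀
      -- the conjugate `x₀ = m⁻¹ x m` lies in `M`
      set x₀ := m⁻¹ * x * m with hx₀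
      have hx₀y₀ : x₀ * y₀ = y₀ * x₀ := by
        have e1 : y₀ = m⁻¹ * y * m := by rw [← hyy₀']; group
        rw [hx₀, e1]
        calc m⁻¹ * x * m * (m⁻¹ * y * m) = m⁻¹ * (x * y) * m := by group
          _ = m⁻¹ * (y * x) * m := by rw [hxy]
          _ = m⁻¹ * y * m * (m⁻¹ * x * m) := by group
      have hx₀M : x₀ ∈ M := by
        apply hCy₀
        rw [Subgroup.mem_centralizer_singleton_iff]
        exact hx₀y₀
      have hx₀o : orderOf x₀ = q := by
        rw [← hxo, hx₀]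
        have := Cfsg.Agent.Helper2.BG148.conj_orderOf' m⁻¹ x
        rw [inv_inv] at this
        exact this
      have hx₀1 : x₀ ≠ 1 := by
        intro h
        rw [h, orderOf_one] at hx₀o
        exact hq.one_lt.ne hx₀o
      -- `q ∈ β(M)`
      have hqd : q ∣ Nat.card (Cfsg.sigmaCore M) := by
        have h1 : q ∣ Nat.card ↥(Cfsg.sigmaCore M ⊓ Subgroup.centralizer (K : Set G)) := by
          rw [← hy₀o]; exact Subgroup.orderOf_dvd_natCard _ hy₀
        exact h1.trans (Subgroup.card_dvd_of_le inf_le_left)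
      have hβ : q ∈ Cfsg.beta M :=
        Cfsg.Agent.Helper1.BG15P2.mem_beta_of_dvd_card_sigmaCore hG h142 c.hM c.hKU c.hK1 c.hU1
          hq hqd
      have hqσM : q ∈ Cfsg.sigma M := Cfsg.Agent.Helper4.BG10.mem_sigma_of_mem_beta hG c.hM hβ
      obtain ⟨⟨-, huniq⟩, -, -⟩ := Cfsg.Agent.S1423.result hG M c.hM q hqσM
        (Subgroup.zpowers x₀) (Subgroup.zpowers_le.2 hx₀M) (by rw [Nat.card_zpowers, hx₀o])
        default (Or.inl hβ)
      rw [Cfsg.Agent.Helper1.BGX.centralizer_zpowers_eq] at huniq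
      have hH' : IsCoatom (H.map (MulAut.conj m⁻¹).toMonoidHom) :=
        Cfsg.Agent.Helper2.BG144.isCoatom_map_conj c.hH m⁻¹
      have hle' : Subgroup.centralizer ({x₀} : Set G) ≤ H.map (MulAut.conj m⁻¹).toMonoidHom := by
        intro g hg
        rw [Subgroup.mem_centralizer_singleton_iff] at hg
        have h1 : m * g * m⁻¹ ∈ H := by
          apply hCxH
          rw [Subgroup.mem_centralizer_singleton_iff]
          have e : x = m * x₀ * m⁻¹ := by rw [hx₀]; group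
          rw [e]
          calc m * g * m⁻¹ * (m * x₀ * m⁻¹) = m * (g * x₀) * m⁻¹ := by group
            _ = m * (x₀ * g) * m⁻¹ := by rw [hg]
            _ = m * x₀ * m⁻¹ * (m * g * m⁻¹) := by group
        refine ⟨m * g * m⁻¹, h1, ?_⟩
        simp [mul_assoc]
      have hHM := huniq _ hH' hle'
      apply c.hconj m
      rw [← hHM, Cfsg.Agent.Helper2.BG144.map_conj_map_conj, mul_inv_cancel,
        Cfsg.Agent.Helper2.BG144.map_conj_one]
    · -- case (C)
      apply hQ1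
      refine tau2_kill hG c.hH c.hMs c.hp hq hqp c.hKcard c.hKH c.hpσ c.hfix hqτ hQH hQq hKQ
        c.K_le_sigmaCore (c.cent_le hG) hA hB ?_
      rw [eq_bot_iff]
      intro z hz
      rw [Subgroup.mem_bot]
      by_contra hz1
      obtain ⟨hzQ, hzMs⟩ := hz
      have hzMs' : z ∈ Ms := hzMs
      have hk0σ : k0 ∈ Cfsg.sigmaCore Ms := c.K_le_sigmaCore hk0
      have hc1 : z * k0 * z⁻¹ * k0⁻¹ ∈ Cfsg.sigmaCore Ms := by
        have h1 : z * k0 * z⁻¹ ∈ Cfsg.sigmaCore Ms :=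
          (Subgroup.mem_normalizer_iff.1
            (Cfsg.Agent.Lead.BG12.le_normalizer_sigmaCore Ms hzMs') k0).1 hk0σ
        exact Subgroup.mul_mem _ h1 (Subgroup.inv_mem _ hk0σ)
      have hc2 : z * k0 * z⁻¹ * k0⁻¹ ∈ Q := by
        have h1 : k0 * z⁻¹ * k0⁻¹ ∈ Q :=
          (Subgroup.mem_normalizer_iff.1 (hKQ hk0) z⁻¹).1 (Q.inv_mem hzQ)
        have e : z * k0 * z⁻¹ * k0⁻¹ = z * (k0 * z⁻¹ * k0⁻¹) := by group
        rw [e]; exact Q.mul_mem hzQ h1
      have hc3 : z * k0 * z⁻¹ * k0⁻¹ ≠ 1 := by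
        intro h
        have hzk : z * k0 = k0 * z := by
          calc z * k0 = (z * k0 * z⁻¹ * k0⁻¹) * (k0 * z) := by group
            _ = k0 * z := by rw [h, one_mul]
        have hmem : z ∈ Q ⊓ Subgroup.centralizer ({k0} : Set G) := by
          refine ⟨hzQ, ?_⟩
          change z ∈ Subgroup.centralizer ({k0} : Set G)
          rw [Subgroup.mem_centralizer_singleton_iff]; exact hzk
        rw [hfixQ k0 hk0 hk01, Subgroup.mem_bot] at hmem
        exact hz1 hmem
      -- a nontrivial `q`-element of `M*_σ`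
      apply hA
      apply Cfsg.Agent.Lead.BG12.mem_sigma_of_dvd_card_sigmaCore hq
      set w := z * k0 * z⁻¹ * k0⁻¹ with hw
      have hwo : orderOf w ∣ Nat.card Q := Subgroup.orderOf_dvd_natCard _ hc2
      obtain ⟨n, hn⟩ := IsPGroup.iff_card.1 hQq
      rw [hn] at hwo
      obtain ⟨j, -, hj⟩ := (Nat.dvd_prime_pow hq).1 hwo
      have hj0 : j ≠ 0 := by
        rintro rfl
        rw [pow_zero] at hj
        exact hc3 (orderOf_eq_one_iff.1 hj)
      have : q ∣ orderOf w := by rw [hj]; exact dvd_pow_self q hj0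
      exact this.trans (Subgroup.orderOf_dvd_natCard _ hc1)

end Cfsg.Agent.Helper2.BG1412
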