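import Mathlib
import Cfsg.Prelude
import Cfsg.Agent.Helper2.BG1412d

set_option autoImplicit false
set_option maxHeartbeats 1600000
set_option linter.unusedSectionVars false
set_option linter.style.haveILetI false

/-!
Bender–Glauberman Lemma 14.12 (toward S1435): the last two clauses.

In the context `Ctx`, if moreover `H_σ ∩ M* = 1`, then `H ∩ M*` is a complement of `H_σ` in `H` and
`K ≤ F(H ∩ M*)`.
-/

namespace Cfsg.Agent.Helper2.BG1412

open Cfsg Cfsg.Agent.Helper1.BG147 Cfsg.Agent.Helper1.BGV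
open scoped Pointwise

universe u

variable {G : Type u} [Group G] [Finite G]

variable {M K U Ms H : Subgroup G} {p : ℕ}

/-- `K` centralizes every `K`-invariant `q`-subgroup of `H`, `q ∉ σ(H)`. -/
theorem Ctx.commute_of_invariant (hG : Cfsg.IsMinSimpleOddOrder G) (c : Ctx M K U Ms H p) {q : ℕ}
    (hq : q.Prime) (hqσ : q ∉ Cfsg.sigma H) {V : Subgroup G} (hVH : V ≤ H)
    (hVq : IsPGroup q V) (hKV : K ≤ Subgroup.normalizer (V : Set G)) :
    ∀ k ∈ K, ∀ v ∈ V, k * v = v * k := by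
  classical
  haveI := Fact.mk hq
  haveI := Fact.mk c.hp
  obtain ⟨E0, hE0, -⟩ := Cfsg.Agent.Lead.BG12.exists_compl_sigmaCore_ge hG c.hH
    (bot_le : (⊥ : Subgroup G) ≤ H) (by
      intro r hr hd
      rw [Subgroup.card_bot] at hd
      exact absurd (Nat.dvd_one.1 hd) hr.one_lt.ne')
  obtain ⟨habel, -, -, -⟩ := Cfsg.Agent.S1420.result hG H c.hH E0 hE0
  by_cases hqp : q = p
  · -- `V K` is a `p`-group
    subst hqp
    have hN : IsPGroup q ↥(K ⊔ V) :=
      IsPGroup.to_sup_of_normal_right' c.isPGroup hVq hKV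
    have hNnil : Group.IsNilpotent ↥(K ⊔ V) := hN.isNilpotent
    have hNH : K ⊔ V ≤ H := sup_le c.hKH hVH
    have hNσ : ∀ t : ℕ, t.Prime → t ∣ Nat.card ↥(K ⊔ V) → t ∉ Cfsg.sigma H := by
      intro t ht htd
      obtain ⟨n, hn⟩ := IsPGroup.iff_card.1 hN
      rw [hn] at htd
      rw [(Nat.prime_dvd_prime_iff_eq ht hq).1 (ht.dvd_of_dvd_pow htd)]; exact hqσ
    have hcomm := habel (K ⊔ V) hNH hNnil hNσ
    intro k hk v hv
    have := hcomm.is_comm.comm (⟨k, Subgroup.mem_sup_left hk⟩ : ↥(K ⊔ V))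
      ⟨v, Subgroup.mem_sup_right hv⟩
    exact congrArg Subtype.val this
  · -- `V` is abelian
    have hVσ : ∀ t : ℕ, t.Prime → t ∣ Nat.card ↥V → t ∉ Cfsg.sigma H := by
      intro t ht htd
      obtain ⟨n, hn⟩ := IsPGroup.iff_card.1 hVq
      rw [hn] at htd
      rw [(Nat.prime_dvd_prime_iff_eq ht hq).1 (ht.dvd_of_dvd_pow htd)]; exact hqσ
    have hVab := habel V hVH hVq.isNilpotent hVσ
    have hV : ∀ a ∈ V, ∀ b ∈ V, a * b = b * a := by
      intro a ha b hb
      have := hVab.is_comm.comm (⟨a, ha⟩ : ↥V) ⟨b, hb⟩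
      exact congrArg Subtype.val this
    intro k hk
    by_cases hk1 : k = 1
    · intro v _; rw [hk1, one_mul, mul_one]
    · have hkV : k ∈ Subgroup.normalizer (V : Set G) := hKV hk
      apply commute_of_deltaSub_eq_bot V k hV hkV
      apply c.fpf_kill hG hq hqp hqσ ((deltaSub_le V k hV hkV).trans hVH)
        (hVq.to_le (deltaSub_le V k hV hkV))
      · intro k' hk'
        exact mem_normalizer_deltaSub V k hV hkV (hKV hk') (c.comm k' hk' k hk)
      · intro k1 hk1K hk11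
        rw [eq_bot_iff]
        rintro z ⟨hzW, hzC⟩
        rw [Subgroup.mem_bot]
        have hzC' : z * k1 = k1 * z := Subgroup.mem_centralizer_singleton_iff.1 hzC
        have hfix1 : k1 * z * k1⁻¹ = z := by rw [← hzC']; group
        have hfixk := fixed_of_fixed_prime c.hp c.hKcard hk1K hk11 hfix1 k hk
        exact deltaSub_fixed_eq_one V k hV hkV c.hp hq hqp (c.pow_eq_one hk) hVq hzW hfixk

/-- **The last two clauses of BG Lemma 14.12.** -/
theorem Ctx.compl (hG : Cfsg.IsMinSimpleOddOrder G) (c : Ctx M K U Ms H p)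
    (hHσMs : Cfsg.sigmaCore H ⊓ Ms = ⊥) :
    K ≤ Cfsg.fittingOf (H ⊓ Ms) ∧ Cfsg.IsComplIn (H ⊓ Ms) (Cfsg.sigmaCore H) H := by
  classical
  haveI := Fact.mk c.hp
  obtain ⟨E, hE, hKE⟩ := Cfsg.Agent.Lead.BG12.exists_compl_sigmaCore_ge hG c.hH c.hKH (by
    intro r hr hd
    rw [c.hKcard] at hd
    rw [(Nat.prime_dvd_prime_iff_eq hr c.hp).1 hd]; exact c.hpσ)
  have hEH : E ≤ H := hE.1
  have hsolvE : Group.IsSolvable ↥E :=
    Cfsg.Agent.Helper1.isSolvable_of_le hEH (hG.2.2.2 H c.hH.1)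
  -- `K` centralizes `F(E)`
  have hKC : ∀ k ∈ K, k ∈ Subgroup.centralizer ((Cfsg.fittingOf E : Subgroup G) : Set G) := by
    intro k hk
    apply mem_centralizer_fittingOf
    intro r hr y hy
    haveI := Fact.mk hr
    by_cases hbot : pcoreOf r E = ⊥
    · rw [hbot, Subgroup.mem_bot] at hy
      rw [hy, one_mul, mul_one]
    · have hrd : r ∣ Nat.card ↥(pcoreOf r E) := by
        obtain ⟨n, hn⟩ := IsPGroup.iff_card.1 (pCoreOf_isPGroup r E)
        rw [hn]
        cases n with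
        | zero =>
          exfalso; apply hbot
          rw [pow_zero] at hn
          exact Subgroup.card_eq_one.1 hn
        | succ n => exact dvd_pow_self r (Nat.succ_ne_zero n)
      have hrσ : r ∉ Cfsg.sigma H :=
        Cfsg.Agent.Helper4.BG12.not_mem_sigma_of_dvd_card_compl hG c.hH hE hr
          (hrd.trans (Subgroup.card_dvd_of_le (pCoreOf_le r E)))
      exact c.commute_of_invariant hG hr hrσ ((pCoreOf_le r E).trans hEH)
        (pCoreOf_isPGroup r E) (hKE.trans (le_normalizer_pCoreOf r E)) k hk y hy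
  have hKF : K ≤ Cfsg.fittingOf E := fun k hk =>
    inf_centralizer_fittingOf_le E hsolvE ⟨hKE hk, hKC k hk⟩
  -- `F(E) ≤ C(K) ≤ M*`
  have hFMs : Cfsg.fittingOf E ≤ Ms := by
    intro f hf
    apply c.centK_le hG
    rw [Subgroup.mem_centralizer_iff]
    intro k hk
    exact (Subgroup.mem_centralizer_iff.1 (hKC k hk) f hf).symm
  -- `E ≤ M*`
  have hEMs : E ≤ Ms := by
    intro g hg
    obtain ⟨h1404, -⟩ := Cfsg.Agent.S1404.result hG Ms c.hMs p c.p_mem_sigma K c.isPGroup c.hK1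
      c.K_le_Ms
    have hle : K.map (MulAut.conj g).toMonoidHom ≤ Ms := by
      rintro _ ⟨k, hk, rfl⟩
      apply hFMs
      exact (Subgroup.mem_normalizer_iff.1 (le_normalizer_fittingOf E hg) k).1 (hKF hk)
    obtain ⟨m, hm, cc, hcc, rfl⟩ := h1404 g hle
    exact Ms.mul_mem hm (c.centK_le hG hcc)
  -- `H ∩ M* = E`
  have hEq : H ⊓ Ms = E := by
    apply le_antisymm
    · rintro d ⟨hdH, hdMs⟩
      obtain ⟨e, he, s, hs, rfl⟩ := hE.2.2.2 d hdH
      have hsMs : s ∈ Ms := by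
        have : s = e⁻¹ * (e * s) := by group
        rw [this]; exact Ms.mul_mem (Ms.inv_mem (hEMs he)) hdMs
      have hs' : s ∈ Cfsg.sigmaCore H ⊓ Ms := ⟨hs, hsMs⟩
      rw [hHσMs, Subgroup.mem_bot] at hs'
      rw [hs', mul_one]; exact he
    · exact le_inf hEH hEMs
  rw [hEq]
  exact ⟨hKF, hE⟩

end Cfsg.Agent.Helper2.BG1412
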