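import Mathlib
import Cfsg.Prelude
import Cfsg.Agent.Helper2.BG1412e
import Cfsg.Agent.S1366
import Cfsg.Agent.S1378

set_option autoImplicit false
set_option maxHeartbeats 1600000
set_option linter.unusedSectionVars false
set_option linter.style.haveILetI false

/-!
Bender–Glauberman Lemma 14.12 (toward S1435): the first part.  From the hypotheses of the lemma
(`M` of type `P₂`, `R` a Sylow `r`-subgroup of `U`, `H ⊇ N_G(R)` maximal) we establish the context
`Ctx` and the clauses `U ≤ H_σ`, `M ∩ H = U K`, `N_H(U) ≰ M`, `H_σ ∩ M* = 1`.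
-/

namespace Cfsg.Agent.Helper2.BG1412

open Cfsg Cfsg.Agent.Helper1.BG147 Cfsg.Agent.Helper1.BGV
open scoped Pointwise

universe u

variable {G : Type u} [Group G] [Finite G]

/-- The hypotheses of BG Lemma 14.12; `Rg` is a Sylow `r`-subgroup of `U`. -/
structure Setup (M K U Ms H : Subgroup G) (r : ℕ) (Rg : Subgroup G) : Prop where
  hM : IsCoatom M
  hKU : Cfsg.IsSigmaDecomposition M K U
  hK1 : K ≠ ⊥
  hU1 : U ≠ ⊥
  hMs : IsCoatom Ms
  hKst : K = Cfsg.sigmaCore Ms ⊓ Subgroup.centralizer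
    ((Cfsg.sigmaCore M ⊓ Subgroup.centralizer (K : Set G) : Subgroup G) : Set G)
  hKstH : Cfsg.IsPiHallOf (Cfsg.kappa Ms) (Cfsg.sigmaCore M ⊓ Subgroup.centralizer (K : Set G)) Ms
  hH : IsCoatom H
  hr : r.Prime
  hRgU : Rg ≤ U
  hRgr : IsPGroup r Rg
  hRgcard : Nat.card Rg = r ^ (Nat.card U).factorization r
  hRg1 : Rg ≠ ⊥
  hNR : Subgroup.normalizer (Rg : Set G) ≤ H

section

variable {M K U Ms H : Subgroup G} {r : ℕ} {Rg : Subgroup G}

theorem Setup.P (hG : Cfsg.IsMinSimpleOddOrder G) (s : Setup M K U Ms H r Rg) : P142 M K :=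
  Cfsg.Agent.Helper4.BG147H.hyp142 hG M K s.hM s.hKU.hall s.hK1

theorem Setup.Ps (hG : Cfsg.IsMinSimpleOddOrder G) (s : Setup M K U Ms H r Rg) :
    P142 Ms (Cfsg.sigmaCore M ⊓ Subgroup.centralizer (K : Set G)) :=
  Cfsg.Agent.Helper4.BG147H.hyp142 hG Ms _ s.hMs s.hKstH (s.P hG).kstar_ne

theorem Setup.notP1 (hG : Cfsg.IsMinSimpleOddOrder G) (s : Setup M K U Ms H r Rg) : NotP1 M :=
  notP1_of_U_ne_bot hG s.hM s.hKU s.hU1

theorem Setup.card_prime (hG : Cfsg.IsMinSimpleOddOrder G) (s : Setup M K U Ms H r Rg) :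
    (Nat.card K).Prime := by
  obtain ⟨q, hq, hqM, hqκ, hqσ⟩ := s.notP1 hG
  exact (card_K_prime hG (Cfsg.Agent.Helper4.BG147H.hyp142 hG) s.hM s.hKU.hall s.hK1 hq hqM
    hqκ hqσ).1

theorem Setup.U_hall (hG : Cfsg.IsMinSimpleOddOrder G) (s : Setup M K U Ms H r Rg) :
    Cfsg.IsPiHallOf {q | q.Prime ∧ q ∉ Cfsg.kappa M ∧ q ∉ Cfsg.sigma M} U M :=
  Cfsg.Agent.Helper1.BG15P2.decomp_U_hall hG s.hM s.hKU

/-- `U` is abelian. -/
theorem Setup.U_comm (hG : Cfsg.IsMinSimpleOddOrder G) (s : Setup M K U Ms H r Rg) :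
    ∀ a ∈ U, ∀ b ∈ U, a * b = b * a := by
  obtain ⟨U', hU'c, hU'h, -, -⟩ := (s.P hG).exU
  have hsolvM : Group.IsSolvable ↥M := hG.2.2.2 M s.hM.1
  obtain ⟨g, -, hUg⟩ := Cfsg.Agent.Helper2.BG148.exists_conj_hall_ge hsolvM hU'h
    (Y := U) s.hKU.compl.1 (s.U_hall hG).2.1
  intro a ha b hb
  obtain ⟨a', ha', rfl⟩ := hUg ha
  obtain ⟨b', hb', rfl⟩ := hUg hb
  have hc : a' * b' = b' * a' := by
    have := hU'c.is_comm.comm (⟨a', ha'⟩ : ↥U') ⟨b', hb'⟩
    exact congrArg Subtype.val this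
  simp only [MulEquiv.coe_toMonoidHom, MulAut.conj_apply]
  calc g * a' * g⁻¹ * (g * b' * g⁻¹) = g * (a' * b') * g⁻¹ := by group
    _ = g * (b' * a') * g⁻¹ := by rw [hc]
    _ = g * b' * g⁻¹ * (g * a' * g⁻¹) := by group

/-- `U ∩ K K* = 1`. -/
theorem Setup.U_inf_Z (hG : Cfsg.IsMinSimpleOddOrder G) (s : Setup M K U Ms H r Rg) :
    U ⊓ (K ⊔ (Cfsg.sigmaCore M ⊓ Subgroup.centralizer (K : Set G))) = ⊥ := by
  have hcopZ : (Nat.card U).Coprime
      (Nat.card ↥(K ⊔ (Cfsg.sigmaCore M ⊓ Subgroup.centralizer (K : Set G)))) := by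
    rw [card_Z s.hKU.hall]
    apply Nat.coprime_of_dvd
    intro t ht h1 h2
    have hU := Cfsg.Agent.Helper4.BG15.decomp_U_primes hG s.hM s.hKU ht h1
    rcases (Nat.Prime.dvd_mul ht).mp h2 with h | h
    · exact hU.2 (s.hKU.hall.2.1 t ht h)
    · exact hU.1 (Cfsg.Agent.Lead.BG12.mem_sigma_of_dvd_card_sigmaCore ht
        (h.trans (Subgroup.card_dvd_of_le inf_le_left)))
  exact (Subgroup.disjoint_of_coprime_natCard hcopZ).eq_bot

/-- `C_U(k) = 1` for `k ∈ K^#`. -/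
theorem Setup.U_inf_centralizer (hG : Cfsg.IsMinSimpleOddOrder G) (s : Setup M K U Ms H r Rg) :
    ∀ k ∈ K, k ≠ 1 → U ⊓ Subgroup.centralizer ({k} : Set G) = ⊥ := by
  intro k hk hk1
  have hZ := inf_centralizer_eq_Z s.hKU.hall (s.P hG) s.hKU.cyclic hk hk1
  rw [eq_bot_iff, ← s.U_inf_Z hG, ← hZ]
  intro u hu
  exact ⟨hu.1, s.hKU.compl.1 hu.1, hu.2⟩

/-- In the abelian group `U`, a Sylow `t`-subgroup contains every `t`-element. -/
theorem Setup.mem_sylow (hG : Cfsg.IsMinSimpleOddOrder G) (s : Setup M K U Ms H r Rg) {t : ℕ}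
    [ht : Fact t.Prime] (T : Sylow t U) {u : G} (hu : u ∈ U) {n : ℕ} (hun : u ^ t ^ n = 1) :
    u ∈ (T : Subgroup U).map U.subtype := by
  have hcomm := s.U_comm hG
  let u' : ↥U := ⟨u, hu⟩
  haveI hN : (Subgroup.zpowers u').Normal := by
    constructor
    intro x hx g
    have : g * x * g⁻¹ = x := by
      apply Subtype.ext
      push_cast
      rw [hcomm _ g.2 _ x.2]; group
    rw [this]; exact hx
  have hp : IsPGroup t ↥(Subgroup.zpowers u') := by
    have ho : orderOf u' ∣ t ^ n := by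
      apply orderOf_dvd_of_pow_eq_one
      apply Subtype.ext
      push_cast
      exact hun
    obtain ⟨j, -, hj⟩ := (Nat.dvd_prime_pow ht.out).1 ho
    exact IsPGroup.of_card (n := j) (by rw [Nat.card_zpowers, hj])
  have := hp.le_sylow_of_normal T (Subgroup.mem_zpowers u')
  exact ⟨u', this, rfl⟩

/-- `K` normalizes every Sylow subgroup of `U`. -/
theorem Setup.K_le_normalizer_sylow (hG : Cfsg.IsMinSimpleOddOrder G)
    (s : Setup M K U Ms H r Rg) {t : ℕ} [ht : Fact t.Prime] (T : Sylow t U) :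
    K ≤ Subgroup.normalizer (((T : Subgroup U).map U.subtype : Subgroup G) : Set G) := by
  have key : ∀ c : G, c ∈ Subgroup.normalizer (U : Set G) →
      ∀ x ∈ (T : Subgroup U).map U.subtype, c * x * c⁻¹ ∈ (T : Subgroup U).map U.subtype := by
    rintro c hc _ ⟨x, hx, rfl⟩
    obtain ⟨n, hn⟩ := T.isPGroup' ⟨x, hx⟩
    have hn' : (x : G) ^ t ^ n = 1 := by
      have := congrArg (fun y : ↥(T : Subgroup U) => ((y : ↥U) : G)) hn
      simpa using this
    apply s.mem_sylow hG T ((Subgroup.mem_normalizer_iff.1 hc _).1 x.2) (n := n)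
    rw [conj_pow, hn']; group
  intro k hk
  apply mem_normalizer_of_conj_mem
  · exact key k (s.hKU.normal hk)
  · intro x hx
    have := key k⁻¹ (Subgroup.inv_mem _ (s.hKU.normal hk)) x hx
    rwa [inv_inv] at this

/-- `U` centralizes (hence normalizes) its subgroups. -/
theorem Setup.U_le_normalizer (hG : Cfsg.IsMinSimpleOddOrder G) (s : Setup M K U Ms H r Rg)
    {T : Subgroup G} (hT : T ≤ U) : U ≤ Subgroup.normalizer (T : Set G) := by
  intro u hu
  rw [Subgroup.mem_normalizer_iff]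
  intro x
  constructor
  · intro hx
    have : u * x * u⁻¹ = x := by rw [s.U_comm hG u hu x (hT hx)]; group
    rw [this]; exact hx
  · intro hx
    have hxU : u * x * u⁻¹ ∈ U := hT hx
    have hxU' : x ∈ U := by
      have : x = u⁻¹ * (u * x * u⁻¹) * u := by group
      rw [this]; exact U.mul_mem (U.mul_mem (U.inv_mem hu) hxU) hu
    have : u * x * u⁻¹ = x := by rw [s.U_comm hG u hu x hxU']; group
    rwa [this] at hx

/-- `Rg` is (the image of) a Sylow `r`-subgroup of `U`. -/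
theorem Setup.exists_sylow (s : Setup M K U Ms H r Rg) :
    haveI := Fact.mk s.hr
    ∃ T : Sylow r U, ((T : Subgroup U).map U.subtype : Subgroup G) = Rg := by
  haveI := Fact.mk s.hr
  have hcard' : Nat.card (Rg.subgroupOf U) = r ^ (Nat.card U).factorization r := by
    rw [Cfsg.Agent.Lead.card_subgroupOf_of_le s.hRgU]; exact s.hRgcard
  refine ⟨Sylow.ofCard (Rg.subgroupOf U) hcard', ?_⟩
  rw [Sylow.coe_ofCard, Subgroup.map_subgroupOf_eq_of_le s.hRgU]

theorem Setup.K_le_normalizer_Rg (hG : Cfsg.IsMinSimpleOddOrder G)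
    (s : Setup M K U Ms H r Rg) : K ≤ Subgroup.normalizer (Rg : Set G) := by
  haveI := Fact.mk s.hr
  obtain ⟨T, hT⟩ := s.exists_sylow
  rw [← hT]
  exact s.K_le_normalizer_sylow hG T

theorem Setup.K_le_H (hG : Cfsg.IsMinSimpleOddOrder G) (s : Setup M K U Ms H r Rg) : K ≤ H :=
  (s.K_le_normalizer_Rg hG).trans s.hNR

theorem Setup.U_le_H (hG : Cfsg.IsMinSimpleOddOrder G) (s : Setup M K U Ms H r Rg) : U ≤ H :=
  (s.U_le_normalizer hG s.hRgU).trans s.hNR

theorem Setup.r_dvd (s : Setup M K U Ms H r Rg) : r ∣ Nat.card U := by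
  haveI := Fact.mk s.hr
  have h1 : r ∣ Nat.card Rg := by
    obtain ⟨n, hn⟩ := IsPGroup.iff_card.1 s.hRgr
    rw [hn]
    cases n with
    | zero =>
      exfalso; apply s.hRg1
      rw [pow_zero] at hn
      exact Subgroup.card_eq_one.1 hn
    | succ n => exact dvd_pow_self r (Nat.succ_ne_zero n)
  exact h1.trans (Subgroup.card_dvd_of_le s.hRgU)

/-- `|Rg|` is the full `r`-part of `|M|`. -/
theorem Setup.card_Rg (hG : Cfsg.IsMinSimpleOddOrder G) (s : Setup M K U Ms H r Rg) :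
    Nat.card Rg = r ^ (Nat.card M).factorization r := by
  rw [s.hRgcard]
  congr 1
  have hc := Cfsg.Agent.Helper4.BG15.decomp_card s.hKU
  have hr' := Cfsg.Agent.Helper4.BG15.decomp_U_primes hG s.hM s.hKU s.hr s.r_dvd
  rw [← hc, Nat.factorization_mul Nat.card_pos.ne' (Nat.mul_ne_zero Nat.card_pos.ne'
    Nat.card_pos.ne'), Finsupp.add_apply]
  have h0 : (Nat.card K * Nat.card (Cfsg.sigmaCore M)).factorization r = 0 := by
    apply Nat.factorization_eq_zero_of_not_dvd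
    intro h
    rcases (Nat.Prime.dvd_mul s.hr).1 h with h | h
    · exact hr'.2 (s.hKU.hall.2.1 r s.hr h)
    · exact hr'.1 (Cfsg.Agent.Lead.BG12.mem_sigma_of_dvd_card_sigmaCore s.hr h)
  rw [h0, add_zero]

/-- `r ∉ σ(M)`. -/
theorem Setup.r_not_mem (hG : Cfsg.IsMinSimpleOddOrder G) (s : Setup M K U Ms H r Rg) :
    r ∉ Cfsg.sigma M :=
  (Cfsg.Agent.Helper4.BG15.decomp_U_primes hG s.hM s.hKU s.hr s.r_dvd).1

/-- `H` is not conjugate to `M`. -/
theorem Setup.not_conj (hG : Cfsg.IsMinSimpleOddOrder G) (s : Setup M K U Ms H r Rg) :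
    ∀ g : G, H ≠ M.map (MulAut.conj g).toMonoidHom := by
  intro g hHM
  haveI := Fact.mk s.hr
  have hRgH : Rg ≤ H := Subgroup.le_normalizer.trans s.hNR
  have hcardH : Nat.card H = Nat.card M := by
    rw [hHM]; exact Subgroup.card_map_of_injective (MulAut.conj g).injective
  have h1 : r ∈ Cfsg.sigma H :=
    Cfsg.Agent.Lead.BG12.mem_sigma_of_normalizer_le hRgH s.hRg1 s.hRgr
      (by rw [hcardH]; exact s.card_Rg hG) s.hNR
  rw [hHM, Cfsg.Agent.Helper2.BG144.sigma_map_conj hG s.hM g] at h1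
  exact s.r_not_mem hG h1

end

end Cfsg.Agent.Helper2.BG1412
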