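import Mathlib
import Cfsg.Prelude
import Cfsg.Agent.Helper2.BG1412f

set_option autoImplicit false
set_option maxHeartbeats 1600000
set_option linter.unusedSectionVars false
set_option linter.style.haveILetI false

/-!
Bender–Glauberman Lemma 14.12 (toward S1435): from `Setup` to `Ctx`.
-/

namespace Cfsg.Agent.Helper2.BG1412

open Cfsg Cfsg.Agent.Helper1.BG147 Cfsg.Agent.Helper1.BGV
open scoped Pointwise

universe u

variable {G : Type u} [Group G] [Finite G]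

variable {M K U Ms H : Subgroup G} {r : ℕ} {Rg : Subgroup G}

theorem Setup.K_le_sigmaCore (s : Setup M K U Ms H r Rg) : K ≤ Cfsg.sigmaCore Ms := by
  have h := s.hKst
  intro k hk
  rw [h] at hk
  exact hk.1

theorem Setup.K_le_Ms (s : Setup M K U Ms H r Rg) : K ≤ Ms :=
  s.K_le_sigmaCore.trans (Subgroup.map_subtype_le _)

theorem Setup.p_mem_sigma (hG : Cfsg.IsMinSimpleOddOrder G) (s : Setup M K U Ms H r Rg) :
    Nat.card K ∈ Cfsg.sigma Ms :=
  Cfsg.Agent.Lead.BG12.mem_sigma_of_dvd_card_sigmaCore (s.card_prime hG)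
    (Subgroup.card_dvd_of_le s.K_le_sigmaCore)

theorem Setup.isPGroup (s : Setup M K U Ms H r Rg) : IsPGroup (Nat.card K) K :=
  IsPGroup.of_card (n := 1) (by rw [pow_one])

theorem Setup.orderOf_eq (hG : Cfsg.IsMinSimpleOddOrder G) (s : Setup M K U Ms H r Rg) {k : G}
    (hk : k ∈ K) (hk1 : k ≠ 1) : orderOf k = Nat.card K := by
  have h1 : orderOf k ∣ Nat.card K := Subgroup.orderOf_dvd_natCard _ hk
  rcases (Nat.dvd_prime (s.card_prime hG)).1 h1 with h | h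
  · exact absurd (orderOf_eq_one_iff.1 h) hk1
  · exact h

/-- `C_G(k) ≤ M*` and `M*` is the only maximal subgroup containing `C_G(k)`, for `k ∈ K^#`. -/
theorem Setup.cent_uniq (hG : Cfsg.IsMinSimpleOddOrder G) (s : Setup M K U Ms H r Rg) :
    ∀ k ∈ K, k ≠ 1 → Subgroup.centralizer ({k} : Set G) ≤ Ms ∧
      ∀ L : Subgroup G, IsCoatom L → Subgroup.centralizer ({k} : Set G) ≤ L → L = Ms := by
  intro k hk hk1
  have hX : Subgroup.zpowers k ≤ Cfsg.sigmaCore Ms ⊓ Subgroup.centralizer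
      ((Cfsg.sigmaCore M ⊓ Subgroup.centralizer (K : Set G) : Subgroup G) : Set G) := by
    rw [← s.hKst]; exact Subgroup.zpowers_le.2 hk
  have hXp : (Nat.card (Subgroup.zpowers k)).Prime := by
    rw [Nat.card_zpowers, s.orderOf_eq hG hk hk1]; exact s.card_prime hG
  have := (s.Ps hG).uniq _ hX hXp
  rwa [Cfsg.Agent.Helper1.BGX.centralizer_zpowers_eq] at this

theorem Setup.exists_ne_one (s : Setup M K U Ms H r Rg) : ∃ k ∈ K, k ≠ 1 := by
  obtain ⟨k0', hk0'⟩ := (Subgroup.ne_bot_iff_exists_ne_one).1 s.hK1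
  exact ⟨k0', k0'.2, fun h => hk0' (Subtype.ext h)⟩

theorem Setup.centK_le (hG : Cfsg.IsMinSimpleOddOrder G) (s : Setup M K U Ms H r Rg) :
    Subgroup.centralizer (K : Set G) ≤ Ms := by
  obtain ⟨k, hk, hk1⟩ := s.exists_ne_one
  refine le_trans ?_ (s.cent_uniq hG k hk hk1).1
  exact Subgroup.centralizer_le (Set.singleton_subset_iff.2 hk)

theorem Setup.ne (hG : Cfsg.IsMinSimpleOddOrder G) (s : Setup M K U Ms H r Rg) : M ≠ Ms := by
  intro h
  have h1 : Nat.card K ∈ Cfsg.kappa M := s.hKU.hall.2.1 _ (s.card_prime hG) dvd_rfl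
  have h2 := s.p_mem_sigma hG
  rw [← h] at h2
  exact h1.2.2.1 h2

theorem Setup.inf_eq (hG : Cfsg.IsMinSimpleOddOrder G) (s : Setup M K U Ms H r Rg) :
    M ⊓ Ms = K ⊔ (Cfsg.sigmaCore M ⊓ Subgroup.centralizer (K : Set G)) := by
  have m := member_self s.hM s.hKU.hall s.hK1
  have ms : Member (K ⊔ (Cfsg.sigmaCore M ⊓ Subgroup.centralizer (K : Set G))) Ms
      (Cfsg.sigmaCore M ⊓ Subgroup.centralizer (K : Set G)) :=
    ⟨s.hMs, s.hKstH, (s.P hG).kstar_ne, by rw [← s.hKst, sup_comm]⟩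
  exact m.inf_eq hG (Cfsg.Agent.Helper4.BG147H.hyp142 hG) ms (s.ne hG)

/-- `U ∩ M* = 1`. -/
theorem Setup.U_inf_Ms (hG : Cfsg.IsMinSimpleOddOrder G) (s : Setup M K U Ms H r Rg) :
    U ⊓ Ms = ⊥ := by
  rw [eq_bot_iff, ← s.U_inf_Z hG, ← s.inf_eq hG]
  intro u hu
  exact ⟨hu.1, s.hKU.compl.1 hu.1, hu.2⟩

/-- `H ≠ M*`. -/
theorem Setup.H_ne_Ms (hG : Cfsg.IsMinSimpleOddOrder G) (s : Setup M K U Ms H r Rg) :
    H ≠ Ms := by
  intro h
  apply s.hU1
  rw [eq_bot_iff, ← s.U_inf_Ms hG]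
  exact le_inf le_rfl (h ▸ s.U_le_H hG)

/-- `H` is not conjugate to `M*`. -/
theorem Setup.not_conj_Ms (hG : Cfsg.IsMinSimpleOddOrder G) (s : Setup M K U Ms H r Rg) :
    ∀ g : G, H ≠ Ms.map (MulAut.conj g).toMonoidHom := by
  intro g hHMs
  haveI := Fact.mk (s.card_prime hG)
  obtain ⟨h1404, -⟩ := Cfsg.Agent.S1404.result hG Ms s.hMs (Nat.card K) (s.p_mem_sigma hG) K
    s.isPGroup s.hK1 s.K_le_Ms
  have hle : K.map (MulAut.conj g⁻¹).toMonoidHom ≤ Ms := by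
    rintro _ ⟨k, hk, rfl⟩
    have hkH : k ∈ H := s.K_le_H hG hk
    rw [hHMs] at hkH
    obtain ⟨m, hm, rfl⟩ := hkH
    simp only [MulEquiv.coe_toMonoidHom, MulAut.conj_apply, inv_inv]
    have : g⁻¹ * (g * m * g⁻¹) * g = m := by group
    rw [this]; exact hm
  obtain ⟨m, hm, cc, hcc, hg⟩ := h1404 g⁻¹ hle
  have hgMs : g ∈ Ms := by
    have h1 : g⁻¹ ∈ Ms := by rw [hg]; exact Ms.mul_mem hm (s.centK_le hG hcc)
    have := Ms.inv_mem h1
    rwa [inv_inv] at this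
  apply s.H_ne_Ms hG
  rw [hHMs]
  ext y
  constructor
  · rintro ⟨m', hm', rfl⟩
    simp only [MulEquiv.coe_toMonoidHom, MulAut.conj_apply]
    exact Ms.mul_mem (Ms.mul_mem hgMs hm') (Ms.inv_mem hgMs)
  · intro hy
    refine ⟨g⁻¹ * y * g, Ms.mul_mem (Ms.mul_mem (Ms.inv_mem hgMs) hy) hgMs, ?_⟩
    simp only [MulEquiv.coe_toMonoidHom, MulAut.conj_apply]
    group

/-- The family data for `(M, K, M*)`. -/
theorem Setup.fam (hG : Cfsg.IsMinSimpleOddOrder G) (s : Setup M K U Ms H r Rg) :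
    Cfsg.Agent.Helper2.BG148.Fam M K Ms := by
  obtain ⟨Ms', f⟩ := Cfsg.Agent.Helper2.BG148.exists_fam hG s.hM s.hKU.hall s.hK1
  have huniq := Cfsg.Agent.S1366.result hG M s.hM K U s.hKU s.hK1
  have h1 : Ms' = Ms :=
    huniq.unique ⟨f.emb.coatom, f.emb.K_eq, f.emb.hall⟩ ⟨s.hMs, s.hKst, s.hKstH⟩
  rw [← h1]; exact f

/-- `κ(H) = ∅`. -/
theorem Setup.kappa_empty (hG : Cfsg.IsMinSimpleOddOrder G) (s : Setup M K U Ms H r Rg) :
    Cfsg.kappa H = ∅ := by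
  by_contra h
  have hne : (Cfsg.kappa H).Nonempty := Set.nonempty_iff_ne_empty.2 h
  obtain ⟨g, hg | hg⟩ :=
    Cfsg.Agent.Helper2.BG148.conj_eq_or_of_kappa_nonempty hG (s.fam hG) s.hH hne
  · exact s.not_conj hG g hg
  · exact s.not_conj_Ms hG g hg

/-- `p = |K| ∉ σ(H)`. -/
theorem Setup.p_not_mem (hG : Cfsg.IsMinSimpleOddOrder G) (s : Setup M K U Ms H r Rg) :
    Nat.card K ∉ Cfsg.sigma H := by
  intro h
  obtain ⟨g, hg⟩ := (Cfsg.Agent.S1378.result hG).2 Ms H s.hMs s.hH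
    ⟨Nat.card K, s.p_mem_sigma hG, h⟩
  exact s.not_conj_Ms hG g hg

/-- `K` acts without fixed points on `H_σ`. -/
theorem Setup.hfix (hG : Cfsg.IsMinSimpleOddOrder G) (s : Setup M K U Ms H r Rg) :
    ∀ k ∈ K, k ≠ 1 → Cfsg.sigmaCore H ⊓ Subgroup.centralizer ({k} : Set G) = ⊥ := by
  intro k hk hk1
  haveI := Fact.mk (s.card_prime hG)
  rw [eq_bot_iff]
  rintro y ⟨hy, hyC⟩
  rw [Subgroup.mem_bot]
  by_contra hy1
  have hyk : y * k = k * y := Subgroup.mem_centralizer_singleton_iff.1 hyC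
  have hkH : k ∈ H := s.K_le_H hG hk
  have hτ : Nat.card K ∈ Cfsg.tau2 H := by
    rcases Cfsg.Agent.Helper3.BG144.mem_kappa_or_tau2 hG s.hH hy hy1 (s.p_not_mem hG) hkH
      (s.orderOf_eq hG hk hk1) hyk.symm with h | h
    · rw [s.kappa_empty hG] at h; exact absurd h (Set.notMem_empty _)
    · exact h
  obtain ⟨E0, hE0, -⟩ := Cfsg.Agent.Lead.BG12.exists_compl_sigmaCore_ge hG s.hH
    (bot_le : (⊥ : Subgroup G) ≤ H) (by
      intro t ht hd
      rw [Subgroup.card_bot] at hd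
      exact absurd (Nat.dvd_one.1 hd) ht.one_lt.ne')
  obtain ⟨-, -, -, h1420⟩ := Cfsg.Agent.S1420.result hG H s.hH E0 hE0
  obtain ⟨hle, huniq⟩ := h1420 k hkH hk1 (by
      intro t ht htd
      rw [s.orderOf_eq hG hk hk1] at htd
      rw [(Nat.prime_dvd_prime_iff_eq ht (s.card_prime hG)).1 htd]; exact hτ)
    ⟨hkH, y, hy, hy1, hyk.symm⟩
  have := (s.cent_uniq hG k hk hk1).2 H s.hH hle
  exact s.H_ne_Ms hG this

/-- **The context of the second half.** -/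
theorem Setup.ctx (hG : Cfsg.IsMinSimpleOddOrder G) (s : Setup M K U Ms H r Rg) :
    Ctx M K U Ms H (Nat.card K) :=
  ⟨s.hM, s.hKU, s.hK1, s.hU1, s.hMs, s.hKst, s.hKstH, s.hH, s.card_prime hG, rfl, s.K_le_H hG,
    s.kappa_empty hG, s.p_not_mem hG, s.hfix hG, s.not_conj hG⟩

end Cfsg.Agent.Helper2.BG1412
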