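import Mathlib
import Cfsg.Prelude
import Cfsg.Agent.Helper2.BG1412g

set_option autoImplicit false
set_option maxHeartbeats 1600000
set_option linter.unusedSectionVars false
set_option linter.style.haveILetI false

/-!
Bender–Glauberman Lemma 14.12 (toward S1435): `U ≤ H_σ`, `M ∩ H = U K`, `N_H(U) ≰ M`,
`H_σ ∩ M* = 1`.
-/

namespace Cfsg.Agent.Helper2.BG1412

open Cfsg Cfsg.Agent.Helper1.BG147 Cfsg.Agent.Helper1.BGV
open scoped Pointwise

universe u

variable {G : Type u} [Group G] [Finite G]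

variable {M K U Ms H : Subgroup G} {r : ℕ} {Rg : Subgroup G}

/-- A Sylow `t`-subgroup of `U` is trivial when `t ∈ τ₂(H)`. -/
theorem Setup.sylow_kill (hG : Cfsg.IsMinSimpleOddOrder G) (s : Setup M K U Ms H r Rg) {t : ℕ}
    [ht : Fact t.Prime] (T : Sylow t U) (htτ : t ∈ Cfsg.tau2 H) :
    ((T : Subgroup U).map U.subtype : Subgroup G) = ⊥ := by
  classical
  by_contra hT1
  set Tg : Subgroup G := (T : Subgroup U).map U.subtype with hTg
  have hTgU : Tg ≤ U := Subgroup.map_subtype_le _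
  have hTgt : IsPGroup t Tg := T.isPGroup'.map _
  have hp := s.card_prime hG
  haveI := Fact.mk hp
  have c := s.ctx hG
  have htd : t ∣ Nat.card U := by
    have h1 : t ∣ Nat.card Tg := by
      obtain ⟨n, hn⟩ := IsPGroup.iff_card.1 hTgt
      rw [hn]
      cases n with
      | zero =>
        exfalso; apply hT1
        rw [pow_zero] at hn
        exact Subgroup.card_eq_one.1 hn
      | succ n => exact dvd_pow_self t (Nat.succ_ne_zero n)
    exact h1.trans (Subgroup.card_dvd_of_le hTgU)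
  have htM := Cfsg.Agent.Helper4.BG15.decomp_U_primes hG s.hM s.hKU ht.out htd
  have htp : t ≠ Nat.card K := by
    intro h
    apply htM.2
    rw [h]
    exact s.hKU.hall.2.1 _ hp dvd_rfl
  have hKT : K ≤ Subgroup.normalizer (Tg : Set G) := s.K_le_normalizer_sylow hG T
  have hTMs : Tg ⊓ Ms = ⊥ := by
    rw [eq_bot_iff, ← s.U_inf_Ms hG]
    exact inf_le_inf_right _ hTgU
  -- `t ∉ σ(M*)`
  have htσ : t ∉ Cfsg.sigma Ms := by
    intro hσ
    have hdisj : K ⊓ Tg = ⊥ :=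
      (Subgroup.disjoint_of_coprime_natCard
        (isPGroup_card_coprime_card (Ne.symm htp) s.isPGroup hTgt)).eq_bot
    have hYcard : Nat.card ↥(Tg ⊔ K) = Nat.card K * Nat.card Tg :=
      Cfsg.Agent.Helper1.card_sup_of_le_normalizer hKT hdisj
    obtain ⟨-, -, -, h4⟩ := Cfsg.Agent.S1431.result hG Ms s.hMs _ s.hKstH (s.P hG).kstar_ne
    have hY : Tg ⊔ K ≤ Cfsg.sigmaCore Ms := by
      apply h4
      · intro q hq hqd
        rw [hYcard] at hqd
        rcases (Nat.Prime.dvd_mul hq).1 hqd with h | h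
        · rw [(Nat.prime_dvd_prime_iff_eq hq hp).1 h]; exact s.p_mem_sigma hG
        · obtain ⟨n, hn⟩ := IsPGroup.iff_card.1 hTgt
          rw [hn] at h
          rw [(Nat.prime_dvd_prime_iff_eq hq ht.out).1 (hq.dvd_of_dvd_pow h)]; exact hσ
      · rw [← s.hKst]
        intro h
        apply s.hK1
        rw [eq_bot_iff, ← h]
        exact le_inf le_sup_right le_rfl
    apply hT1
    rw [eq_bot_iff, ← hTMs]
    exact le_inf le_rfl (le_sup_left.trans (hY.trans (Subgroup.map_subtype_le _)))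
  -- `t ∉ κ(M*)`
  have htκ : t ∉ Cfsg.kappa Ms := by
    intro hκ
    have h1 : ¬ t ∣ (Cfsg.sigmaCore M ⊓ Subgroup.centralizer (K : Set G)).relIndex Ms :=
      s.hKstH.2.2 t ht.out hκ
    have h2 : t ∣ Nat.card Ms := hκ.2.1
    have h3 := Cfsg.Agent.Helper1.relIndex_mul_card_of_le s.hKstH.1
    rw [← h3] at h2
    rcases (Nat.Prime.dvd_mul ht.out).1 h2 with h | h
    · exact h1 h
    · exact htM.1 (Cfsg.Agent.Lead.BG12.mem_sigma_of_dvd_card_sigmaCore ht.out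
        (h.trans (Subgroup.card_dvd_of_le inf_le_left)))
  apply hT1
  exact tau2_kill hG s.hH s.hMs hp ht.out htp rfl c.hKH c.hpσ c.hfix htτ
    (hTgU.trans (s.U_le_H hG)) hTgt hKT s.K_le_sigmaCore (fun k hk hk1 => (s.cent_uniq hG k hk hk1).1)
    htσ htκ hTMs

/-- `r ∈ σ(H)`. -/
theorem Setup.r_mem_sigma (hG : Cfsg.IsMinSimpleOddOrder G) (s : Setup M K U Ms H r Rg) :
    r ∈ Cfsg.sigma H := by
  haveI := Fact.mk s.hr
  rcases Cfsg.Agent.Lead.BG12.lemma122a hG s.hH s.hRgr s.hRg1 s.hNR with h | h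
  · exact h
  · exfalso
    obtain ⟨T, hT⟩ := s.exists_sylow
    apply s.hRg1
    rw [← hT]
    exact s.sylow_kill hG T h

theorem Setup.Rg_le_sigmaCore (hG : Cfsg.IsMinSimpleOddOrder G) (s : Setup M K U Ms H r Rg) :
    Rg ≤ Cfsg.sigmaCore H := by
  haveI := Fact.mk s.hr
  exact Cfsg.Agent.Lead.BG12.le_sigmaCore' hG s.hH (s.r_mem_sigma hG)
    (Subgroup.le_normalizer.trans s.hNR) s.hRgr

/-- `U ≤ H_σ`. -/
theorem Setup.U_le_sigmaCore (hG : Cfsg.IsMinSimpleOddOrder G) (s : Setup M K U Ms H r Rg) :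
    U ≤ Cfsg.sigmaCore H := by
  classical
  obtain ⟨x', hx'⟩ := (Subgroup.ne_bot_iff_exists_ne_one).1 s.hRg1
  obtain ⟨x, hxR, hx1⟩ : ∃ x ∈ Rg, x ≠ 1 := ⟨x', x'.2, fun h => hx' (Subtype.ext h)⟩
  have hxσ : x ∈ Cfsg.sigmaCore H := s.Rg_le_sigmaCore hG hxR
  intro u hu
  apply Cfsg.Agent.Helper2.BG147K.mem_sigmaCore_of_primes hG s.hH (s.U_le_H hG hu)
  intro t ht htd
  by_contra htσ
  haveI := Fact.mk ht
  set y := u ^ (orderOf u / t) with hy
  have hyo : orderOf y = t := orderOf_pow_orderOf_div (orderOf_pos u).ne' htd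
  have hyU : y ∈ U := U.pow_mem hu _
  have hyx : y * x = x * y := s.U_comm hG y hyU x (s.hRgU hxR)
  rcases Cfsg.Agent.Helper3.BG144.mem_kappa_or_tau2 hG s.hH hxσ hx1 htσ (s.U_le_H hG hyU) hyo
    hyx with h | h
  · rw [s.kappa_empty hG] at h; exact absurd h (Set.notMem_empty _)
  · have T : Sylow t U := default
    have hT := s.sylow_kill hG T h
    have hyT : y ∈ (T : Subgroup U).map U.subtype :=
      s.mem_sylow hG T hyU (n := 1) (by rw [pow_one, ← hyo]; exact pow_orderOf_eq_one y)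
    rw [hT, Subgroup.mem_bot] at hyT
    rw [hyT, orderOf_one] at hyo
    exact ht.one_lt.ne hyo

/-- `H_σ ∩ L_σ = 1` when `H` is not conjugate to `L`. -/
theorem sigmaCore_inf_sigmaCore_eq_bot (hG : Cfsg.IsMinSimpleOddOrder G) {H L : Subgroup G}
    (hH : IsCoatom H) (hL : IsCoatom L)
    (hconj : ∀ g : G, H ≠ L.map (MulAut.conj g).toMonoidHom) :
    Cfsg.sigmaCore H ⊓ Cfsg.sigmaCore L = ⊥ := by
  by_contra h
  have hcard : Nat.card ↥(Cfsg.sigmaCore H ⊓ Cfsg.sigmaCore L) ≠ 1 :=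
    fun h1 => h (Subgroup.card_eq_one.1 h1)
  obtain ⟨t, ht, htd⟩ := Nat.exists_prime_and_dvd hcard
  have h1 : t ∈ Cfsg.sigma H := Cfsg.Agent.Lead.BG12.mem_sigma_of_dvd_card_sigmaCore ht
    (htd.trans (Subgroup.card_dvd_of_le inf_le_left))
  have h2 : t ∈ Cfsg.sigma L := Cfsg.Agent.Lead.BG12.mem_sigma_of_dvd_card_sigmaCore ht
    (htd.trans (Subgroup.card_dvd_of_le inf_le_right))
  obtain ⟨g, hg⟩ := (Cfsg.Agent.S1378.result hG).2 L H hL hH ⟨t, h2, h1⟩
  exact hconj g hg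

/-- `H ∩ M_σ = 1`. -/
theorem Setup.H_inf_sigmaCore (hG : Cfsg.IsMinSimpleOddOrder G) (s : Setup M K U Ms H r Rg) :
    H ⊓ Cfsg.sigmaCore M = ⊥ := by
  obtain ⟨q, hq, hqM, hqκ, hqσ⟩ := s.notP1 hG
  obtain ⟨hCU, -⟩ := sigmaCore_inf_centralizer_hall_eq_bot hG s.hM (s.U_hall hG) hq hqM hqκ hqσ
  have hbot := sigmaCore_inf_sigmaCore_eq_bot hG s.hH s.hM (s.not_conj hG)
  rw [eq_bot_iff, ← hCU]
  rintro d ⟨hdH, hdσ⟩
  refine ⟨hdσ, ?_⟩
  change d ∈ Subgroup.centralizer (U : Set G)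
  rw [Subgroup.mem_centralizer_iff]
  intro u hu
  have huσ : u ∈ Cfsg.sigmaCore H := s.U_le_sigmaCore hG hu
  have huM : u ∈ M := s.hKU.compl.1 hu
  have hc : d * u * d⁻¹ * u⁻¹ ∈ Cfsg.sigmaCore H ⊓ Cfsg.sigmaCore M := by
    constructor
    · have h1 : d * u * d⁻¹ ∈ Cfsg.sigmaCore H :=
        (Subgroup.mem_normalizer_iff.1
          (Cfsg.Agent.Lead.BG12.le_normalizer_sigmaCore H hdH) u).1 huσ
      exact Subgroup.mul_mem _ h1 (Subgroup.inv_mem _ huσ)
    · have h1 : u * d⁻¹ * u⁻¹ ∈ Cfsg.sigmaCore M :=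
        (Subgroup.mem_normalizer_iff.1
          (Cfsg.Agent.Lead.BG12.le_normalizer_sigmaCore M huM) d⁻¹).1
            (Subgroup.inv_mem _ hdσ)
      have e : d * u * d⁻¹ * u⁻¹ = d * (u * d⁻¹ * u⁻¹) := by group
      rw [e]; exact Subgroup.mul_mem _ hdσ h1
  rw [hbot, Subgroup.mem_bot] at hc
  calc u * d = (d * u * d⁻¹ * u⁻¹)⁻¹ * (d * u) := by group
    _ = d * u := by rw [hc, inv_one, one_mul]

/-- `M ∩ H = U K`. -/
theorem Setup.inf_H (hG : Cfsg.IsMinSimpleOddOrder G) (s : Setup M K U Ms H r Rg) :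
    M ⊓ H = U ⊔ K := by
  apply le_antisymm
  · rintro d ⟨hdM, hdH⟩
    obtain ⟨u, hu, b, hb, rfl⟩ := s.hKU.compl.2.2.2 d hdM
    have hbH : b ∈ H := by
      have : b = u⁻¹ * (u * b) := by group
      rw [this]; exact H.mul_mem (H.inv_mem (s.U_le_H hG hu)) hdH
    rw [sup_comm] at hb
    obtain ⟨n, hn, k, hk, rfl⟩ := Cfsg.Agent.Helper1.mem_sup_of_le_normalizer
      (s.hKU.hall.1.trans (Cfsg.Agent.Lead.BG12.le_normalizer_sigmaCore M)) hb
    have hnH : n ∈ H := by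
      have : n = (n * k) * k⁻¹ := by group
      rw [this]; exact H.mul_mem hbH (H.inv_mem (s.K_le_H hG hk))
    have hn1 : n ∈ H ⊓ Cfsg.sigmaCore M := ⟨hnH, hn⟩
    rw [s.H_inf_sigmaCore hG, Subgroup.mem_bot] at hn1
    rw [hn1, one_mul]
    exact Subgroup.mul_mem _ (Subgroup.mem_sup_left hu) (Subgroup.mem_sup_right hk)
  · exact sup_le (le_inf s.hKU.compl.1 (s.U_le_H hG)) (le_inf s.hKU.hall.1 (s.K_le_H hG))

/-- `K ∩ H_σ = 1`. -/
theorem Setup.K_inf_sigmaCore (hG : Cfsg.IsMinSimpleOddOrder G) (s : Setup M K U Ms H r Rg) :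
    K ⊓ Cfsg.sigmaCore H = ⊥ := by
  apply (Subgroup.disjoint_of_coprime_natCard _).eq_bot
  rw [Nat.Prime.coprime_iff_not_dvd (s.card_prime hG)]
  intro h
  exact s.p_not_mem hG
    (Cfsg.Agent.Lead.BG12.mem_sigma_of_dvd_card_sigmaCore (s.card_prime hG) h)

/-- `N_H(U) ≰ M`. -/
theorem Setup.not_normalizer_le (hG : Cfsg.IsMinSimpleOddOrder G) (s : Setup M K U Ms H r Rg) :
    ¬ H ⊓ Subgroup.normalizer (U : Set G) ≤ M := by
  intro hN
  have hp := s.card_prime hG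
  have hnil : Group.IsNilpotent ↥(Cfsg.sigmaCore H) := by
    apply isNilpotent_sigmaCore_of_notP1 hG s.hH
    refine ⟨Nat.card K, hp, ?_, ?_, s.p_not_mem hG⟩
    · exact Subgroup.card_dvd_of_le (s.K_le_H hG)
    · rw [s.kappa_empty hG]; exact Set.notMem_empty _
  have hUσ := s.U_le_sigmaCore hG
  have hEq : U = Cfsg.sigmaCore H := by
    by_contra hne
    have hlt : U < Cfsg.sigmaCore H := lt_of_le_of_ne hUσ hne
    obtain ⟨x, hxσ, hxN, hxU⟩ :=
      Cfsg.Agent.Helper1.exists_mem_normalizer_not_mem_of_isNilpotent hnil hlt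
    have hxH : x ∈ H := (Subgroup.map_subtype_le _) hxσ
    have hxM : x ∈ M := hN ⟨hxH, hxN⟩
    have hx : x ∈ U ⊔ K := by rw [← s.inf_H hG]; exact ⟨hxM, hxH⟩
    obtain ⟨u, hu, k, hk, rfl⟩ := Cfsg.Agent.Helper1.mem_sup_of_le_normalizer s.hKU.normal hx
    have hkσ : k ∈ Cfsg.sigmaCore H := by
      have : k = u⁻¹ * (u * k) := by group
      rw [this]
      exact Subgroup.mul_mem _ (Subgroup.inv_mem _ (hUσ hu)) hxσ
    have hk1 : k ∈ K ⊓ Cfsg.sigmaCore H := ⟨hk, hkσ⟩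
    rw [s.K_inf_sigmaCore hG, Subgroup.mem_bot] at hk1
    apply hxU
    rw [hk1, mul_one]; exact hu
  have hHN : H ≤ Subgroup.normalizer (U : Set G) := by
    rw [hEq]; exact Cfsg.Agent.Lead.BG12.le_normalizer_sigmaCore H
  have hHM : H ≤ M := le_trans (le_inf le_rfl hHN) hN
  have : H = M := by
    rcases eq_or_lt_of_le hHM with h | h
    · exact h
    · exact absurd (s.hH.2 M h) s.hM.1
  apply s.not_conj hG 1
  rw [Cfsg.Agent.Helper2.BG144.map_conj_one]; exact this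

end Cfsg.Agent.Helper2.BG1412
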