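import Mathlib
import Cfsg.Prelude
import Cfsg.Agent.Helper2.BG1412h

set_option autoImplicit false
set_option maxHeartbeats 1600000
set_option linter.unusedSectionVars false
set_option linter.style.haveILetI false

/-!
Bender–Glauberman Lemma 14.12 (S1435): assembly.
-/

namespace Cfsg.Agent.Helper2.BG1412

open Cfsg Cfsg.Agent.Helper1.BG147 Cfsg.Agent.Helper1.BGV
open scoped Pointwise

universe u

variable {G : Type u} [Group G] [Finite G]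

variable {M K U Ms H : Subgroup G} {r : ℕ} {Rg : Subgroup G}

/-- `H_σ ∩ M* = 1`. -/
theorem Setup.sigmaCore_inf_Ms (hG : Cfsg.IsMinSimpleOddOrder G) (s : Setup M K U Ms H r Rg) :
    Cfsg.sigmaCore H ⊓ Ms = ⊥ := by
  obtain ⟨k, hk, hk1⟩ := s.exists_ne_one
  have hbot := sigmaCore_inf_sigmaCore_eq_bot hG s.hH s.hMs (s.not_conj_Ms hG)
  rw [eq_bot_iff, ← s.hfix hG k hk hk1]
  rintro d ⟨hdσ, hdMs⟩
  refine ⟨hdσ, ?_⟩
  change d ∈ Subgroup.centralizer ({k} : Set G)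
  rw [Subgroup.mem_centralizer_singleton_iff]
  have hkσ : k ∈ Cfsg.sigmaCore Ms := s.K_le_sigmaCore hk
  have hkH : k ∈ H := s.K_le_H hG hk
  have hdMs' : d ∈ Ms := hdMs
  have hc : d * k * d⁻¹ * k⁻¹ ∈ Cfsg.sigmaCore H ⊓ Cfsg.sigmaCore Ms := by
    constructor
    · have h1 : k * d⁻¹ * k⁻¹ ∈ Cfsg.sigmaCore H :=
        (Subgroup.mem_normalizer_iff.1
          (Cfsg.Agent.Lead.BG12.le_normalizer_sigmaCore H hkH) d⁻¹).1 (Subgroup.inv_mem _ hdσ)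
      have e : d * k * d⁻¹ * k⁻¹ = d * (k * d⁻¹ * k⁻¹) := by group
      rw [e]; exact Subgroup.mul_mem _ hdσ h1
    · have h1 : d * k * d⁻¹ ∈ Cfsg.sigmaCore Ms :=
        (Subgroup.mem_normalizer_iff.1
          (Cfsg.Agent.Lead.BG12.le_normalizer_sigmaCore Ms hdMs') k).1 hkσ
      exact Subgroup.mul_mem _ h1 (Subgroup.inv_mem _ hkσ)
  rw [hbot, Subgroup.mem_bot] at hc
  calc d * k = (d * k * d⁻¹ * k⁻¹) * (k * d) := by group
    _ = k * d := by rw [hc, one_mul]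

/-- **Bender–Glauberman Lemma 14.12.** -/
theorem Setup.main (hG : Cfsg.IsMinSimpleOddOrder G) (s : Setup M K U Ms H r Rg) :
    Cfsg.kappa H = ∅ ∧ U ≤ Cfsg.sigmaCore H ∧ M ⊓ H = U ⊔ K ∧
      ¬ H ⊓ Subgroup.normalizer (U : Set G) ≤ M ∧
      K ≤ Cfsg.fittingOf (H ⊓ Ms) ∧ Cfsg.IsComplIn (H ⊓ Ms) (Cfsg.sigmaCore H) H := by
  obtain ⟨h5, h6⟩ := (s.ctx hG).compl hG (s.sigmaCore_inf_Ms hG)
  exact ⟨s.kappa_empty hG, s.U_le_sigmaCore hG, s.inf_H hG, s.not_normalizer_le hG, h5, h6⟩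

end Cfsg.Agent.Helper2.BG1412
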