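import Mathlib
import Cfsg.Prelude.Def_Characters
import Cfsg.Agent.Helper6.RMcKCnt
import Cfsg.Agent.Helper6.Expansion
import Cfsg.Agent.Helper6.Induced

/-!
# Pieces CL4, CL5 of S4807: "lying over" is transitive, and a middle constituent exists
-/

set_option autoImplicit false
set_option linter.style.haveILetI false

namespace Cfsg.Agent.Helper2.RMcK

open Cfsg.Agent.Helper6 Cfsg.Agent.Helper6.RMcK

universe u

variable {Γ : Type u} [Group Γ] [Finite Γ]

/-- Expansion of the multiplicity of `ν` in the restriction of a character `ψ` of `K`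
through the irreducible characters of `K`. -/
theorem ip_res_expand {L K : Subgroup Γ} (hLK : L ≤ K) (ψ : K → ℂ)
    (hψ : Cfsg.IsCharacter K ψ) (ν : L → ℂ) [Fintype (Cfsg.IrrCharacter K)] :
    ip (res hLK ψ) ν =
      ∑ σ : Cfsg.IrrCharacter K, ip ψ (σ : K → ℂ) * ip (res hLK (σ : K → ℂ)) ν := by
  classical
  haveI := Fintype.ofFinite K
  haveI := Fintype.ofFinite L
  have hexp := classFunction_expansion ψ (IsCharacter.isClassFunction hψ)
  have hres : res hLK ψ = ∑ σ : Cfsg.IrrCharacter K,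
      Cfsg.classInner ψ (σ : K → ℂ) • res hLK (σ : K → ℂ) := by
    funext a
    have := congrFun hexp (Subgroup.inclusion hLK a)
    simp only [Finset.sum_apply, Pi.smul_apply] at this ⊢
    exact this
  rw [ip_eq_classInner, hres, classInner_sum_left]
  apply Finset.sum_congr rfl
  intro σ _
  rw [classInner_smul_left, ip_eq_classInner, ip_eq_classInner]

theorem ip_char_nat {K : Subgroup Γ} {ψ σ : K → ℂ} (hψ : Cfsg.IsCharacter K ψ)
    (hσ : Cfsg.IsCharacter K σ) : ∃ n : ℕ, ip ψ σ = n := by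
  haveI := Fintype.ofFinite K
  rw [ip_eq_classInner]
  exact classInner_char_char_nat hψ hσ

theorem CL4_over_trans (G K L : Subgroup Γ) (hLK : L ≤ K) (hKG : K ≤ G)
    (χ : G → ℂ) (hχ : Cfsg.IsCharacter G χ) (τ : K → ℂ) (hτ : Cfsg.IsIrrCharacter K τ)
    (ν : L → ℂ) (hν : Cfsg.IsIrrCharacter L ν)
    (h1 : Ov hKG χ τ) (h2 : Ov hLK τ ν) : Ov (hLK.trans hKG) χ ν := by
  classical
  haveI : Finite (Cfsg.IrrCharacter K) := irr_finite
  haveI := Fintype.ofFinite (Cfsg.IrrCharacter K)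
  have hψ : Cfsg.IsCharacter K (res hKG χ) := res_isCharacter hKG hχ
  unfold Ov at h1 h2 ⊢
  rw [← res_res hLK hKG χ, ip_res_expand hLK (res hKG χ) hψ ν]
  -- all the terms are natural numbers
  have hterm : ∀ σ : Cfsg.IrrCharacter K, ∃ n : ℕ,
      ip (res hKG χ) (σ : K → ℂ) * ip (res hLK (σ : K → ℂ)) ν = n := by
    intro σ
    obtain ⟨a, ha⟩ := ip_char_nat hψ (IsIrrCharacter.isCharacter σ.2)
    obtain ⟨b, hb⟩ := ip_char_nat (res_isCharacter hLK (IsIrrCharacter.isCharacter σ.2))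
      (IsIrrCharacter.isCharacter hν)
    exact ⟨a * b, by rw [ha, hb, Nat.cast_mul]⟩
  choose f hf using hterm
  rw [Finset.sum_congr rfl (fun σ _ => hf σ), ← Nat.cast_sum, Nat.cast_ne_zero]
  intro hsum
  have h0 := (Finset.sum_eq_zero_iff.1 hsum) ⟨τ, hτ⟩ (Finset.mem_univ _)
  have := hf ⟨τ, hτ⟩
  rw [h0, Nat.cast_zero] at this
  rcases mul_eq_zero.1 this with h | h
  · exact h1 h
  · exact h2 h

theorem CL5_exists_middle (G K L : Subgroup Γ) (hLK : L ≤ K) (hKG : K ≤ G)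
    (χ : G → ℂ) (hχ : Cfsg.IsIrrCharacter G χ)
    (ν : L → ℂ) (hν : Cfsg.IsIrrCharacter L ν) (h : Ov (hLK.trans hKG) χ ν) :
    ∃ τ : Cfsg.IrrCharacter K, Ov hKG χ (τ : K → ℂ) ∧ Ov hLK (τ : K → ℂ) ν := by
  classical
  haveI : Finite (Cfsg.IrrCharacter K) := irr_finite
  haveI := Fintype.ofFinite (Cfsg.IrrCharacter K)
  have hψ : Cfsg.IsCharacter K (res hKG χ) :=
    res_isCharacter hKG (IsIrrCharacter.isCharacter hχ)
  unfold Ov at h ⊢
  rw [← res_res hLK hKG χ, ip_res_expand hLK (res hKG χ) hψ ν] at h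
  obtain ⟨σ, -, hσ⟩ := Finset.exists_ne_zero_of_sum_ne_zero h
  exact ⟨σ, left_ne_zero_of_mul hσ, right_ne_zero_of_mul hσ⟩

end Cfsg.Agent.Helper2.RMcK
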