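import Mathlib
import Cfsg.Prelude.Def_Local

/-!
# Piece E1 of S4807: a `p`-solvable group has a normal `p`- or `p'`-section above any proper
normal subgroup
-/

set_option autoImplicit false

namespace Cfsg.Agent.Helper2.RMcK

universe u

variable {Γ : Type u} [Group Γ] [Finite Γ]

/-- A least index at which a monotone-indexed predicate fails. -/
theorem exists_first_fail {n : ℕ} (P : Fin (n + 1) → Prop) (h0 : P 0) (hn : ¬ P (Fin.last n)) :
    ∃ i : Fin n, P i.castSucc ∧ ¬ P i.succ := by
  induction n with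
  | zero =>
    exfalso
    apply hn
    have : Fin.last 0 = (0 : Fin 1) := rfl
    rw [this]; exact h0
  | succ n ih =>
    by_cases h : P (Fin.last n).castSucc
    · exact ⟨Fin.last n, h, by simpa using hn⟩
    · obtain ⟨i, hi1, hi2⟩ := ih (fun j => P j.castSucc) h0 h
      exact ⟨i.castSucc, hi1, hi2⟩

omit [Finite Γ] in
theorem E1_exists_normal_section (p : ℕ) [Fact p.Prime] (G L : Subgroup Γ)
    (hG : Cfsg.IsPSolvable p G) (hLG : L ≤ G) (hne : L ≠ G)
    (hnorm : G ≤ Subgroup.normalizer (L : Set Γ)) :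
    ∃ K : Subgroup Γ, L ≤ K ∧ L ≠ K ∧ K ≤ G ∧ G ≤ Subgroup.normalizer (K : Set Γ) ∧
      ((∃ m : ℕ, L.relIndex K = p ^ m) ∨ (L.relIndex K).Coprime p) := by
  obtain ⟨n, H, hH0, hHn, hmono, hHnorm, hfac⟩ := hG
  -- `L` as a normal subgroup of `G`
  set L' : Subgroup G := L.subgroupOf G with hL'
  have hL'n : L'.Normal := by
    rw [hL']
    exact (Subgroup.normal_subgroupOf_iff_le_normalizer hLG).2 hnorm
  have hL'top : L' ≠ ⊤ := by
    intro h
    apply hne
    rw [hL', Subgroup.subgroupOf_eq_top] at h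
    exact le_antisymm hLG h
  -- first index with `H i ≤ L'` failing
  obtain ⟨i, hi1, hi2⟩ := exists_first_fail (fun j => H j ≤ L') (by simp [hH0]) (by
    rw [hHn, top_le_iff]; exact hL'top)
  have := hHnorm i.succ
  set K' : Subgroup G := L' ⊔ H i.succ with hK'
  have hK'n : K'.Normal := by rw [hK']; infer_instance
  have hLK' : L' ≤ K' := le_sup_left
  have hneK' : L' ≠ K' := by
    intro h
    apply hi2
    rw [h]
    exact le_sup_right
  -- the index
  have hidx : L'.relIndex K' = L'.relIndex (H i.succ) := by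
    rw [hK']; exact Subgroup.relIndex_sup_left (H i.succ) L'
  have hdvd : L'.relIndex (H i.succ) ∣ (H i.castSucc).relIndex (H i.succ) :=
    Subgroup.relIndex_dvd_of_le_left (H i.succ) hi1
  have hfac' : (∃ m : ℕ, L'.relIndex K' = p ^ m) ∨ (L'.relIndex K').Coprime p := by
    rw [hidx]
    rcases hfac i with ⟨m, hm⟩ | hc
    · left
      rw [hm] at hdvd
      obtain ⟨k, -, hk⟩ := (Nat.dvd_prime_pow (Fact.out : p.Prime)).1 hdvd
      exact ⟨k, hk⟩
    · right
      exact Nat.Coprime.coprime_dvd_left hdvd hc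
  -- back to `Γ`
  have hinj : Function.Injective G.subtype := G.subtype_injective
  have hmapL : L'.map G.subtype = L := by
    rw [hL', Subgroup.map_subgroupOf_eq_of_le hLG]
  refine ⟨K'.map G.subtype, ?_, ?_, ?_, ?_, ?_⟩
  · rw [← hmapL]
    exact Subgroup.map_mono hLK'
  · intro h
    apply hneK'
    rw [← hmapL] at h
    exact Subgroup.map_injective hinj h
  · exact Subgroup.map_subtype_le K'
  · intro g hg
    rw [Subgroup.mem_normalizer_iff]
    intro x
    constructor
    · rintro ⟨y, hy, rfl⟩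
      refine ⟨⟨g, hg⟩ * y * ⟨g, hg⟩⁻¹, hK'n.conj_mem y hy ⟨g, hg⟩, ?_⟩
      simp
    · rintro ⟨y, hy, hyx⟩
      refine ⟨⟨g, hg⟩⁻¹ * y * ⟨g, hg⟩, ?_, ?_⟩
      · have := hK'n.conj_mem y hy (⟨g, hg⟩⁻¹)
        simpa using this
      · have h1 : (G.subtype y : Γ) = g * x * g⁻¹ := hyx
        simp only [map_mul, map_inv, Subgroup.subtype_apply] at h1 ⊢
        rw [h1]
        group
  · have : L.relIndex (K'.map G.subtype) = L'.relIndex K' := by
      conv_lhs => rw [← hmapL]
      exact Subgroup.relIndex_map_map_of_injective L' K' hinj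
    rw [this]
    exact hfac'

end Cfsg.Agent.Helper2.RMcK
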