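import Mathlib
import Cfsg.Prelude.Def_Classical
import Cfsg.Agent.Helper2.U34E

set_option autoImplicit false

/-!
Automorphisms of the abstract Sylow 2-subgroup of `U₃(4)`: an involutory automorphism centralises
the centre, an automorphism of order three centralising the centre is trivial; hence the
automorphism group has no subgroup isomorphic to `S₃`.
-/

namespace Cfsg.Agent.Helper2.U34

open Matrix

variable {F : Type*} [Field F] [Fintype F]

/-- Every Sylow 2-subgroup of `PSU₃(4)` is isomorphic to the abstract group. -/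
theorem equiv_sylow (hF : Fintype.card F = 16) (S : Sylow 2 (Cfsg.PSU 3 F 4)) :
    haveI := isF16_of_card hF
    Nonempty (U F ≃* ↥(S : Subgroup (Cfsg.PSU 3 F 4))) := by
  haveI := isF16_of_card hF
  have hfin : Finite (Cfsg.PSU 3 F 4) := Nat.finite_of_card_ne_zero (by rw [card_PSU34 hF]; norm_num)
  let f : U F →* Cfsg.PSU 3 F 4 :=
    (QuotientGroup.mk' (Subgroup.center (Cfsg.SU 3 F 4))).comp (iota hF)
  have hf : Function.Injective f := (mk_injective hF).comp (iota_injective hF)
  let e₁ : U F ≃* f.range := MonoidHom.ofInjective hf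
  have hcardV : Nat.card f.range = 64 := by
    rw [← Nat.card_congr e₁.toEquiv, card_U hF]
  have hpV : IsPGroup 2 f.range := IsPGroup.of_card (n := 6) (by rw [hcardV]; norm_num)
  obtain ⟨P, hVP⟩ := hpV.exists_le_sylow
  have hcardP : ∀ Q : Sylow 2 (Cfsg.PSU 3 F 4), Nat.card Q = 64 := by
    intro Q
    rw [Sylow.card_eq_multiplicity, card_PSU34 hF]
    have h62400 : (62400 : ℕ) = 2 ^ 6 * 975 := by norm_num
    rw [h62400, Nat.factorization_mul (by norm_num) (by norm_num), Finsupp.add_apply,
      Nat.Prime.factorization_pow Nat.prime_two, Finsupp.single_eq_same,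
      Nat.factorization_eq_zero_of_not_dvd (by norm_num)]
    norm_num
  have hVP' : f.range = (P : Subgroup (Cfsg.PSU 3 F 4)) :=
    Subgroup.eq_of_le_of_card_ge hVP (by rw [hcardV]; exact (hcardP P).le)
  obtain ⟨g, hg⟩ := MulAction.exists_smul_eq (Cfsg.PSU 3 F 4) P S
  let e₂ : f.range ≃* (P : Subgroup (Cfsg.PSU 3 F 4)) := MulEquiv.subgroupCongr hVP'
  let e₃ : (P : Subgroup (Cfsg.PSU 3 F 4)) ≃* ((g • P : Sylow 2 (Cfsg.PSU 3 F 4)) :
      Subgroup (Cfsg.PSU 3 F 4)) := Sylow.equivSMul P g
  let e₄ : ((g • P : Sylow 2 (Cfsg.PSU 3 F 4)) : Subgroup (Cfsg.PSU 3 F 4)) ≃*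
      (S : Subgroup (Cfsg.PSU 3 F 4)) := MulEquiv.subgroupCongr (congrArg Sylow.toSubgroup hg)
  exact ⟨((e₁.trans e₂).trans e₃).trans e₄⟩

section
variable [hF16 : IsF16 F]

/-- The key computation: three nonzero elements `a`, `b`, `a + b` cannot have the same norm. -/
theorem norm_lemma {a b : F} (ha : a ≠ 0) (h1 : a ^ 5 = b ^ 5) (h2' : (a + b) ^ 5 = a ^ 5) :
    False := by
  have h2 := hF16.two
  have e0 : a * (a ^ 3 * b + b ^ 4 + a ^ 4) = 0 := by
    linear_combination h2' + h1 - (2 * a ^ 4 * b + 5 * a ^ 3 * b ^ 2 + 5 * a ^ 2 * b ^ 3 + 2 * a * b ^ 4) * h2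
  have e1 : a ^ 3 * b + b ^ 4 + a ^ 4 = 0 := by
    rcases mul_eq_zero.mp e0 with h | h
    · exact absurd h ha
    · exact h
  have e2' : a ^ 3 * (a ^ 2 + a * b + b ^ 2) = 0 := by
    linear_combination b * e1 + h1
  have e2 : a ^ 2 + a * b + b ^ 2 = 0 := by
    rcases mul_eq_zero.mp e2' with h | h
    · exact absurd (pow_eq_zero_iff (by norm_num) |>.mp h) ha
    · exact h
  have e3 : a ^ 3 = b ^ 3 := by
    linear_combination (a - b) * e2
  have e4' : a ^ 3 * (a - b) ^ 2 = 0 := by
    linear_combination h1 - b ^ 2 * e3 + (a ^ 3 * b ^ 2 - a ^ 4 * b) * h2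
  have e4 : a = b := by
    rcases mul_eq_zero.mp e4' with h | h
    · exact absurd (pow_eq_zero_iff (by norm_num) |>.mp h) ha
    · have := pow_eq_zero_iff (by norm_num) |>.mp h
      linear_combination this
  rw [← e4] at e2
  have : a ^ 2 = 0 := by linear_combination e2 - a ^ 2 * h2
  exact ha (pow_eq_zero_iff (by norm_num) |>.mp this)

theorem sq_snd (x : U F) : (x ^ 2).1.2 = x.1.1 ^ 5 := by
  rw [pow_two, mul_snd, add_self]
  ring

variable (hF : Fintype.card F = 16)
include hF

theorem aut_center (α : MulAut (U F)) (x : U F) (hx : x.1.1 = 0) : (α x).1.1 = 0 := by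
  rw [← mem_center_iff hF] at hx ⊢
  exact (mem_center_equiv α x).mpr hx

/-- The map induced on the Frattini quotient. -/
noncomputable def ind (α : MulAut (U F)) (a : F) : F := (α (lift hF a)).1.1

theorem ind_spec (α : MulAut (U F)) (x : U F) : (α x).1.1 = ind hF α x.1.1 := by
  have hz : ((lift hF x.1.1)⁻¹ * x).1.1 = 0 := by
    rw [mul_fst, inv_fst, lift_fst, add_self]
  have h := aut_center hF α _ hz
  rw [map_mul, mul_fst, map_inv, inv_fst] at h
  unfold ind
  have h2 := hF16.two
  linear_combination h - (α (lift hF x.1.1)).1.1 * h2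

theorem ind_add (α : MulAut (U F)) (a b : F) : ind hF α (a + b) = ind hF α a + ind hF α b := by
  have h := ind_spec hF α (lift hF a * lift hF b)
  rw [map_mul, mul_fst, mul_fst, lift_fst, lift_fst] at h
  exact h.symm

theorem ind_zero (α : MulAut (U F)) : ind hF α 0 = 0 := by
  have h := ind_add hF α 0 0
  rw [add_zero] at h
  exact left_eq_add.mp h

theorem ind_comp (α β : MulAut (U F)) (a : F) : ind hF (α * β) a = ind hF α (ind hF β a) := by
  change ((α * β) (lift hF a)).1.1 = _
  rw [MulAut.mul_apply, ind_spec hF α]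
  rfl

theorem ind_one (a : F) : ind hF (1 : MulAut (U F)) a = a := rfl

/-- Compatibility of the induced map with squaring. -/
theorem ind_sq (α : MulAut (U F)) (x : U F) : (α (x ^ 2)).1.2 = (ind hF α x.1.1) ^ 5 := by
  rw [map_pow, sq_snd, ind_spec hF α]

/-- An automorphism of order dividing three centralising the centre is trivial. -/
theorem aut_L1 (α : MulAut (U F)) (h3 : α ^ 3 = 1) (hZ : ∀ x : U F, x.1.1 = 0 → α x = x) :
    α = 1 := by
  have h2 := hF16.two
  have hA3 : ∀ a, ind hF α (ind hF α (ind hF α a)) = a := by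
    intro a
    rw [← ind_comp, ← ind_comp, ← pow_two, ← pow_succ, h3, ind_one]
  have hN : ∀ a, (ind hF α a) ^ 5 = a ^ 5 := by
    intro a
    have h := ind_sq hF α (lift hF a)
    rw [hZ _ (sq_fst _), sq_snd, lift_fst] at h
    exact h.symm
  have hker : ∀ x, x + ind hF α x + ind hF α (ind hF α x) = 0 → x = 0 := by
    intro x hx
    by_contra hx0
    have hy : ind hF α (ind hF α x) = x + ind hF α x := by
      linear_combination hx - (x + ind hF α x) * h2
    refine norm_lemma hx0 (hN x).symm ?_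
    rw [← hy, hN, hN]
  have hfixP : ∀ v, ind hF α (v + ind hF α v + ind hF α (ind hF α v)) =
      v + ind hF α v + ind hF α (ind hF α v) := by
    intro v
    rw [ind_add, ind_add, hA3]
    ring
  have hP : ∀ v, v + ind hF α v + ind hF α (ind hF α v) = v := by
    intro v
    have hp := hfixP v
    generalize hpe : v + ind hF α v + ind hF α (ind hF α v) = p at hp ⊢
    have h1 : (p + v) + ind hF α (p + v) + ind hF α (ind hF α (p + v)) = 0 := by
      rw [ind_add, ind_add, hp, hp]
      linear_combination (2 * p) * h2 + hpe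
    have := hker _ h1
    linear_combination this - v * h2
  have hA : ∀ v, ind hF α v = v := by
    intro v
    have h1 := hfixP v
    rw [hP v] at h1
    exact h1
  have hsq : ∀ x : U F, α (α x) = x := by
    intro x
    have hz : (x⁻¹ * α x).1.1 = 0 := by
      rw [mul_fst, inv_fst, ind_spec hF α, hA, add_self]
    have h4 : (x⁻¹ * α x) ^ 2 = 1 :=
      (isU34_U hF).2.2.1 _ ((mem_center_iff hF _).mpr hz)
    obtain ⟨z, hz, h1, h4⟩ : ∃ z : U F, z.1.1 = 0 ∧ α x = x * z ∧ z ^ 2 = 1 :=
      ⟨x⁻¹ * α x, hz, by group, h4⟩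
    rw [h1, map_mul, hZ z hz, h1, mul_assoc, ← pow_two, h4, mul_one]
  apply MulEquiv.ext
  intro x
  have h5 : (α ^ 3) x = α (α (α x)) := by
    rw [pow_succ, pow_two]
    rfl
  rw [h3, hsq] at h5
  rw [MulAut.one_apply] at h5 ⊢
  exact h5.symm

end

end Cfsg.Agent.Helper2.U34
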