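import Mathlib

set_option autoImplicit false

/-!
# The standard group `4 ∘ 2^{1+4}` in `GL_4(F)`

Over a field `F` with an element `i`, `i² = -1`: the group generated by the scalar `i`, the diagonal
involutions `B1 = diag(1,-1,1,-1)`, `B2 = diag(1,1,-1,-1)` and the permutation involutions
`C1 = (0 1)(2 3)`, `C2 = (0 2)(1 3)`.  It consists of the 64 matrices `i^a * D * P` with
`D ∈ {diag(1, e₁, e₂, e₁e₂)}` and `P` in the Klein four group of permutation matrices.
(Shared by S6000 / S6001.)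
-/

namespace Cfsg.Agent.Helper2.SymT

open Matrix

variable {F : Type*} [Field F]

/-- `diag(1,-1,1,-1)`. -/
def B1m : Matrix (Fin 4) (Fin 4) F := !![1, 0, 0, 0; 0, -1, 0, 0; 0, 0, 1, 0; 0, 0, 0, -1]

/-- `diag(1,1,-1,-1)`. -/
def B2m : Matrix (Fin 4) (Fin 4) F := !![1, 0, 0, 0; 0, 1, 0, 0; 0, 0, -1, 0; 0, 0, 0, -1]

/-- the permutation matrix of `(0 1)(2 3)`. -/
def C1m : Matrix (Fin 4) (Fin 4) F := !![0, 1, 0, 0; 1, 0, 0, 0; 0, 0, 0, 1; 0, 0, 1, 0]

/-- the permutation matrix of `(0 2)(1 3)`. -/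
def C2m : Matrix (Fin 4) (Fin 4) F := !![0, 0, 1, 0; 0, 0, 0, 1; 1, 0, 0, 0; 0, 1, 0, 0]

theorem B1m_sq : (B1m : Matrix (Fin 4) (Fin 4) F) * B1m = 1 := by
  ext i j; fin_cases i <;> fin_cases j <;> simp [B1m, Matrix.mul_apply, Fin.sum_univ_four]

theorem B2m_sq : (B2m : Matrix (Fin 4) (Fin 4) F) * B2m = 1 := by
  ext i j; fin_cases i <;> fin_cases j <;> simp [B2m, Matrix.mul_apply, Fin.sum_univ_four]

theorem C1m_sq : (C1m : Matrix (Fin 4) (Fin 4) F) * C1m = 1 := by
  ext i j; fin_cases i <;> fin_cases j <;> simp [C1m, Matrix.mul_apply, Fin.sum_univ_four]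

theorem C2m_sq : (C2m : Matrix (Fin 4) (Fin 4) F) * C2m = 1 := by
  ext i j; fin_cases i <;> fin_cases j <;> simp [C2m, Matrix.mul_apply, Fin.sum_univ_four]

theorem B1m_C1m : (B1m : Matrix (Fin 4) (Fin 4) F) * C1m = -(C1m * B1m) := by
  ext i j; fin_cases i <;> fin_cases j <;> simp [B1m, C1m, Matrix.mul_apply, Fin.sum_univ_four]

theorem B2m_C2m : (B2m : Matrix (Fin 4) (Fin 4) F) * C2m = -(C2m * B2m) := by
  ext i j; fin_cases i <;> fin_cases j <;> simp [B2m, C2m, Matrix.mul_apply, Fin.sum_univ_four]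

theorem B1m_B2m : (B1m : Matrix (Fin 4) (Fin 4) F) * B2m = B2m * B1m := by
  ext i j; fin_cases i <;> fin_cases j <;> simp [B1m, B2m, Matrix.mul_apply, Fin.sum_univ_four]

theorem B1m_C2m : (B1m : Matrix (Fin 4) (Fin 4) F) * C2m = C2m * B1m := by
  ext i j; fin_cases i <;> fin_cases j <;> simp [B1m, C2m, Matrix.mul_apply, Fin.sum_univ_four]

theorem C1m_B2m : (C1m : Matrix (Fin 4) (Fin 4) F) * B2m = B2m * C1m := by
  ext i j; fin_cases i <;> fin_cases j <;> simp [C1m, B2m, Matrix.mul_apply, Fin.sum_univ_four]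

theorem C1m_C2m : (C1m : Matrix (Fin 4) (Fin 4) F) * C2m = C2m * C1m := by
  ext i j; fin_cases i <;> fin_cases j <;> simp [C1m, C2m, Matrix.mul_apply, Fin.sum_univ_four]

/-- the four standard involutions as elements of `GL_4(F)`. -/
def B1g : GL (Fin 4) F := ⟨B1m, B1m, B1m_sq, B1m_sq⟩
/-- see `B1g`. -/
def B2g : GL (Fin 4) F := ⟨B2m, B2m, B2m_sq, B2m_sq⟩
/-- see `B1g`. -/
def C1g : GL (Fin 4) F := ⟨C1m, C1m, C1m_sq, C1m_sq⟩
/-- see `B1g`. -/
def C2g : GL (Fin 4) F := ⟨C2m, C2m, C2m_sq, C2m_sq⟩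

@[simp] theorem B1g_val : ((B1g : GL (Fin 4) F) : Matrix (Fin 4) (Fin 4) F) = B1m := rfl
@[simp] theorem B2g_val : ((B2g : GL (Fin 4) F) : Matrix (Fin 4) (Fin 4) F) = B2m := rfl
@[simp] theorem C1g_val : ((C1g : GL (Fin 4) F) : Matrix (Fin 4) (Fin 4) F) = C1m := rfl
@[simp] theorem C2g_val : ((C2g : GL (Fin 4) F) : Matrix (Fin 4) (Fin 4) F) = C2m := rfl

/-- the scalar matrix `c • 1` in `GL_4(F)`. -/
def scg (c : Fˣ) : GL (Fin 4) F := Matrix.GeneralLinearGroup.scalar (Fin 4) c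

@[simp] theorem scg_val (c : Fˣ) :
    ((scg c : GL (Fin 4) F) : Matrix (Fin 4) (Fin 4) F) = (c : F) • (1 : Matrix (Fin 4) (Fin 4) F) := by
  unfold scg
  simp [Matrix.GeneralLinearGroup.scalar, Matrix.smul_one_eq_diagonal]

theorem scg_comm (c : Fˣ) (g : GL (Fin 4) F) : scg c * g = g * scg c := by
  apply Units.ext
  rw [Units.val_mul, Units.val_mul, scg_val]
  simp

theorem scg_mul (c c' : Fˣ) : scg c * scg c' = (scg (c * c') : GL (Fin 4) F) := by
  unfold scg; rw [map_mul]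

theorem scg_one : (scg 1 : GL (Fin 4) F) = 1 := by
  unfold scg; rw [map_one]

theorem scg_pow (c : Fˣ) (k : ℕ) : scg c ^ k = (scg (c ^ k) : GL (Fin 4) F) := by
  unfold scg; rw [map_pow]

theorem scg_injective : Function.Injective (scg : Fˣ → GL (Fin 4) F) := by
  intro c c' h
  have h1 := congrArg (fun u : GL (Fin 4) F => (u : Matrix (Fin 4) (Fin 4) F) 0 0) h
  simp only [scg_val, Matrix.smul_apply, Matrix.one_apply_eq, smul_eq_mul, mul_one] at h1
  exact Units.ext h1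

theorem scg_inv (c : Fˣ) : (scg c)⁻¹ = (scg c⁻¹ : GL (Fin 4) F) := by
  unfold scg; rw [map_inv]

/-- a square root of `-1` as a unit. -/
def iu (i : F) (hi : i ^ 2 = -1) : Fˣ :=
  Units.mk0 i (by
    intro h
    rw [h] at hi
    have : (0 : F) = -1 := by simpa using hi
    have h1 : (1 : F) = 0 := by
      have := congrArg (fun t => -t) this
      simpa using this.symm
    exact one_ne_zero h1)

@[simp] theorem iu_val (i : F) (hi : i ^ 2 = -1) : ((iu i hi : Fˣ) : F) = i := rfl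

/-- the standard group `4 ∘ 2^{1+4}`. -/
def R0 (i : F) (hi : i ^ 2 = -1) : Subgroup (GL (Fin 4) F) :=
  Subgroup.closure {scg (iu i hi), B1g, C1g, B2g, C2g}

theorem scg_i_mem (i : F) (hi : i ^ 2 = -1) : scg (iu i hi) ∈ R0 i hi :=
  Subgroup.subset_closure (by simp)

theorem B1g_mem (i : F) (hi : i ^ 2 = -1) : B1g ∈ R0 i hi :=
  Subgroup.subset_closure (by simp)

theorem C1g_mem (i : F) (hi : i ^ 2 = -1) : C1g ∈ R0 i hi :=
  Subgroup.subset_closure (by simp)

theorem B2g_mem (i : F) (hi : i ^ 2 = -1) : B2g ∈ R0 i hi :=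
  Subgroup.subset_closure (by simp)

theorem C2g_mem (i : F) (hi : i ^ 2 = -1) : C2g ∈ R0 i hi :=
  Subgroup.subset_closure (by simp)

/-- scalars `c` with `c⁴ = 1` lie in `R0`. -/
theorem scg_mem_of_pow_four (i : F) (hi : i ^ 2 = -1) (c : Fˣ) (hc : (c : F) ^ 4 = 1) :
    scg c ∈ R0 i hi := by
  have h1 : ((c : F) ^ 2 - 1) * ((c : F) ^ 2 - i ^ 2) = 0 := by
    rw [hi]; ring_nf; rw [hc]; ring
  have hpow : ∀ k : ℕ, scg (iu i hi ^ k) ∈ R0 i hi := fun k => by
    rw [← scg_pow]; exact Subgroup.pow_mem _ (scg_i_mem i hi) k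
  rcases mul_eq_zero.mp h1 with h | h
  · have h2 : ((c : F) - 1) * ((c : F) + 1) = 0 := by rw [← h]; ring
    rcases mul_eq_zero.mp h2 with h3 | h3
    · have : c = iu i hi ^ 0 := by
        apply Units.ext
        rw [pow_zero, Units.val_one]
        exact sub_eq_zero.mp h3
      rw [this]; exact hpow 0
    · have : c = iu i hi ^ 2 := by
        apply Units.ext
        rw [Units.val_pow_eq_pow_val, iu_val, hi]
        exact eq_neg_of_add_eq_zero_left h3
      rw [this]; exact hpow 2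
  · have h2 : ((c : F) - i) * ((c : F) + i) = 0 := by rw [← h]; ring
    rcases mul_eq_zero.mp h2 with h3 | h3
    · have : c = iu i hi ^ 1 := by
        apply Units.ext
        rw [pow_one, iu_val]
        exact sub_eq_zero.mp h3
      rw [this]; exact hpow 1
    · have : c = iu i hi ^ 3 := by
        apply Units.ext
        rw [Units.val_pow_eq_pow_val, iu_val]
        have : i ^ 3 = -i := by
          calc i ^ 3 = i ^ 2 * i := by ring
            _ = -i := by rw [hi]; ring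
        rw [this]
        exact eq_neg_of_add_eq_zero_left h3
      rw [this]; exact hpow 3

end Cfsg.Agent.Helper2.SymT
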