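import Mathlib
import Cfsg.Agent.Helper2.SymTC

set_option autoImplicit false

/-!
# Explicit elements of the normalizer of the standard group `R0 = 4 ∘ 2^{1+4}` in `GL_4(F)`

* `S0g = diag(-1,1,1,1)` (a reflection),
* `P3g` = the permutation matrix of the 3-cycle `1 → 2 → 3 → 1` (order 3, eigenvalues `1,1,ω,ω²`),
* `T1g = T ⊗ 1`, `T2g = 1 ⊗ T` with `T = [[1,1],[i,-i]]` (`T³ = 2(1+i)`; order 3 modulo scalars),
* `T2g * P3g` has order 5 modulo scalars: `(T2 P3)⁵ = 4(1+i)`.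
-/

namespace Cfsg.Agent.Helper2.SymT

open Matrix

variable {F : Type*} [Field F]

/-- `diag(-1,1,1,1)`. -/
def S0m : Matrix (Fin 4) (Fin 4) F := !![-1, 0, 0, 0; 0, 1, 0, 0; 0, 0, 1, 0; 0, 0, 0, 1]

/-- the permutation matrix of `e₁ → e₂ → e₃ → e₁`. -/
def P3m : Matrix (Fin 4) (Fin 4) F := !![1, 0, 0, 0; 0, 0, 0, 1; 0, 1, 0, 0; 0, 0, 1, 0]

/-- the inverse of `P3m`. -/
def P3m' : Matrix (Fin 4) (Fin 4) F := !![1, 0, 0, 0; 0, 0, 1, 0; 0, 0, 0, 1; 0, 1, 0, 0]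

/-- `T ⊗ 1`, `T = [[1,1],[i,-i]]`. -/
def T1m (i : F) : Matrix (Fin 4) (Fin 4) F := !![1, 1, 0, 0; i, -i, 0, 0; 0, 0, 1, 1; 0, 0, i, -i]

/-- twice the inverse of `T1m`. -/
def T1m' (i : F) : Matrix (Fin 4) (Fin 4) F := !![1, -i, 0, 0; 1, i, 0, 0; 0, 0, 1, -i; 0, 0, 1, i]

/-- `1 ⊗ T`. -/
def T2m (i : F) : Matrix (Fin 4) (Fin 4) F := !![1, 0, 1, 0; 0, 1, 0, 1; i, 0, -i, 0; 0, i, 0, -i]

/-- twice the inverse of `T2m`. -/
def T2m' (i : F) : Matrix (Fin 4) (Fin 4) F := !![1, 0, -i, 0; 0, 1, 0, -i; 1, 0, i, 0; 0, 1, 0, i]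

theorem S0m_sq : (S0m : Matrix (Fin 4) (Fin 4) F) * S0m = 1 := by
  ext i j; fin_cases i <;> fin_cases j <;> simp [S0m, Matrix.mul_apply, Fin.sum_univ_four]

theorem P3m_mul : (P3m : Matrix (Fin 4) (Fin 4) F) * P3m' = 1 := by
  ext i j; fin_cases i <;> fin_cases j <;> simp [P3m, P3m', Matrix.mul_apply, Fin.sum_univ_four]

theorem P3m'_mul : (P3m' : Matrix (Fin 4) (Fin 4) F) * P3m = 1 := by
  ext i j; fin_cases i <;> fin_cases j <;> simp [P3m, P3m', Matrix.mul_apply, Fin.sum_univ_four]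

theorem T1m_mul (i : F) (hi : i ^ 2 = -1) : T1m i * T1m' i = (2 : F) • (1 : Matrix (Fin 4) (Fin 4) F) := by
  have hi' : i * i = -1 := by rw [← pow_two]; exact hi
  ext a b
  fin_cases a <;> fin_cases b <;>
    simp [T1m, T1m', Matrix.mul_apply, Fin.sum_univ_four, hi'] <;> norm_num

theorem T1m'_mul (i : F) (hi : i ^ 2 = -1) : T1m' i * T1m i = (2 : F) • (1 : Matrix (Fin 4) (Fin 4) F) := by
  have hi' : i * i = -1 := by rw [← pow_two]; exact hi
  ext a b
  fin_cases a <;> fin_cases b <;>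
    simp [T1m, T1m', Matrix.mul_apply, Fin.sum_univ_four, hi'] <;> norm_num

theorem T2m_mul (i : F) (hi : i ^ 2 = -1) : T2m i * T2m' i = (2 : F) • (1 : Matrix (Fin 4) (Fin 4) F) := by
  have hi' : i * i = -1 := by rw [← pow_two]; exact hi
  ext a b
  fin_cases a <;> fin_cases b <;>
    simp [T2m, T2m', Matrix.mul_apply, Fin.sum_univ_four, hi'] <;> norm_num

theorem T2m'_mul (i : F) (hi : i ^ 2 = -1) : T2m' i * T2m i = (2 : F) • (1 : Matrix (Fin 4) (Fin 4) F) := by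
  have hi' : i * i = -1 := by rw [← pow_two]; exact hi
  ext a b
  fin_cases a <;> fin_cases b <;>
    simp [T2m, T2m', Matrix.mul_apply, Fin.sum_univ_four, hi'] <;> norm_num

/-- `S0` as an element of `GL_4(F)`. -/
def S0g : GL (Fin 4) F := ⟨S0m, S0m, S0m_sq, S0m_sq⟩

/-- `P3` as an element of `GL_4(F)`. -/
def P3g : GL (Fin 4) F := ⟨P3m, P3m', P3m_mul, P3m'_mul⟩

/-- `T ⊗ 1` as an element of `GL_4(F)`. -/
def T1g (i : F) (hi : i ^ 2 = -1) (h2 : (2 : F) ≠ 0) : GL (Fin 4) F :=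
  ⟨T1m i, (2 : F)⁻¹ • T1m' i,
    by rw [Matrix.mul_smul, T1m_mul i hi, smul_smul, inv_mul_cancel₀ h2, one_smul],
    by rw [Matrix.smul_mul, T1m'_mul i hi, smul_smul, inv_mul_cancel₀ h2, one_smul]⟩

/-- `1 ⊗ T` as an element of `GL_4(F)`. -/
def T2g (i : F) (hi : i ^ 2 = -1) (h2 : (2 : F) ≠ 0) : GL (Fin 4) F :=
  ⟨T2m i, (2 : F)⁻¹ • T2m' i,
    by rw [Matrix.mul_smul, T2m_mul i hi, smul_smul, inv_mul_cancel₀ h2, one_smul],
    by rw [Matrix.smul_mul, T2m'_mul i hi, smul_smul, inv_mul_cancel₀ h2, one_smul]⟩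

@[simp] theorem S0g_val : ((S0g : GL (Fin 4) F) : Matrix (Fin 4) (Fin 4) F) = S0m := rfl
@[simp] theorem P3g_val : ((P3g : GL (Fin 4) F) : Matrix (Fin 4) (Fin 4) F) = P3m := rfl
@[simp] theorem T1g_val (i : F) (hi : i ^ 2 = -1) (h2 : (2 : F) ≠ 0) :
    ((T1g i hi h2 : GL (Fin 4) F) : Matrix (Fin 4) (Fin 4) F) = T1m i := rfl
@[simp] theorem T2g_val (i : F) (hi : i ^ 2 = -1) (h2 : (2 : F) ≠ 0) :
    ((T2g i hi h2 : GL (Fin 4) F) : Matrix (Fin 4) (Fin 4) F) = T2m i := rfl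

/-! ### the conjugation relations -/

theorem S0_C1 : (S0m : Matrix (Fin 4) (Fin 4) F) * C1m = -1 * (B2m * C1m) * S0m := by
  ext i j; fin_cases i <;> fin_cases j <;>
    simp [S0m, C1m, B2m, Matrix.mul_apply, Fin.sum_univ_four]

theorem S0_C2 : (S0m : Matrix (Fin 4) (Fin 4) F) * C2m = -1 * (B1m * C2m) * S0m := by
  ext i j; fin_cases i <;> fin_cases j <;>
    simp [S0m, C2m, B1m, Matrix.mul_apply, Fin.sum_univ_four]

theorem S0_B1 : (S0m : Matrix (Fin 4) (Fin 4) F) * B1m = B1m * S0m := by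
  ext i j; fin_cases i <;> fin_cases j <;>
    simp [S0m, B1m, Matrix.mul_apply, Fin.sum_univ_four]

theorem S0_B2 : (S0m : Matrix (Fin 4) (Fin 4) F) * B2m = B2m * S0m := by
  ext i j; fin_cases i <;> fin_cases j <;>
    simp [S0m, B2m, Matrix.mul_apply, Fin.sum_univ_four]

theorem P3_B1 : (P3m : Matrix (Fin 4) (Fin 4) F) * B1m = (B1m * B2m) * P3m := by
  ext i j; fin_cases i <;> fin_cases j <;>
    simp [P3m, B1m, B2m, Matrix.mul_apply, Fin.sum_univ_four]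

theorem P3_B2 : (P3m : Matrix (Fin 4) (Fin 4) F) * B2m = B1m * P3m := by
  ext i j; fin_cases i <;> fin_cases j <;>
    simp [P3m, B1m, B2m, Matrix.mul_apply, Fin.sum_univ_four]

theorem P3_C1 : (P3m : Matrix (Fin 4) (Fin 4) F) * C1m = C2m * P3m := by
  ext i j; fin_cases i <;> fin_cases j <;>
    simp [P3m, C1m, C2m, Matrix.mul_apply, Fin.sum_univ_four]

theorem P3_C2 : (P3m : Matrix (Fin 4) (Fin 4) F) * C2m = (C1m * C2m) * P3m := by
  ext i j; fin_cases i <;> fin_cases j <;>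
    simp [P3m, C1m, C2m, Matrix.mul_apply, Fin.sum_univ_four]

theorem T1_B1 (i : F) (hi : i ^ 2 = -1) : T1m i * B1m = (i • (C1m * B1m)) * T1m i := by
  have hi' : i * i = -1 := by rw [← pow_two]; exact hi
  ext a b; fin_cases a <;> fin_cases b <;>
    simp [T1m, C1m, B1m, Matrix.mul_apply, Fin.sum_univ_four, hi']

theorem T1_C1 (i : F) : T1m i * C1m = B1m * T1m i := by
  ext a b; fin_cases a <;> fin_cases b <;>
    simp [T1m, C1m, B1m, Matrix.mul_apply, Fin.sum_univ_four]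

theorem T1_B2 (i : F) : T1m i * B2m = B2m * T1m i := by
  ext a b; fin_cases a <;> fin_cases b <;>
    simp [T1m, B2m, Matrix.mul_apply, Fin.sum_univ_four]

theorem T1_C2 (i : F) : T1m i * C2m = C2m * T1m i := by
  ext a b; fin_cases a <;> fin_cases b <;>
    simp [T1m, C2m, Matrix.mul_apply, Fin.sum_univ_four]

theorem T2_B2 (i : F) (hi : i ^ 2 = -1) : T2m i * B2m = (i • (C2m * B2m)) * T2m i := by
  have hi' : i * i = -1 := by rw [← pow_two]; exact hi
  ext a b; fin_cases a <;> fin_cases b <;>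
    simp [T2m, C2m, B2m, Matrix.mul_apply, Fin.sum_univ_four, hi']

theorem T2_C2 (i : F) : T2m i * C2m = B2m * T2m i := by
  ext a b; fin_cases a <;> fin_cases b <;>
    simp [T2m, C2m, B2m, Matrix.mul_apply, Fin.sum_univ_four]

theorem T2_B1 (i : F) : T2m i * B1m = B1m * T2m i := by
  ext a b; fin_cases a <;> fin_cases b <;>
    simp [T2m, B1m, Matrix.mul_apply, Fin.sum_univ_four]

theorem T2_C1 (i : F) : T2m i * C1m = C1m * T2m i := by
  ext a b; fin_cases a <;> fin_cases b <;>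
    simp [T2m, C1m, Matrix.mul_apply, Fin.sum_univ_four]

/-! ### membership in the normalizer -/

/-- criterion for membership in the normalizer of `R0` (finite field). -/
theorem mem_normalizer_R0 [Finite F] (i : F) (hi : i ^ 2 = -1) (g : GL (Fin 4) F)
    (h1 : g * B1g * g⁻¹ ∈ R0 i hi) (h2 : g * C1g * g⁻¹ ∈ R0 i hi)
    (h3 : g * B2g * g⁻¹ ∈ R0 i hi) (h4 : g * C2g * g⁻¹ ∈ R0 i hi) :
    g ∈ Subgroup.normalizer (R0 i hi : Set (GL (Fin 4) F)) := by
  have : Finite ((R0 i hi : Subgroup (GL (Fin 4) F)) : Set (GL (Fin 4) F)) :=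
    Set.toFinite _ |>.to_subtype
  apply Subgroup.mem_normalizer_fintype
  have hle : R0 i hi ≤ (R0 i hi).comap (MulAut.conj g).toMonoidHom := by
    unfold R0
    rw [Subgroup.closure_le]
    intro x hx
    simp only [Set.mem_insert_iff, Set.mem_singleton_iff] at hx
    rw [SetLike.mem_coe, Subgroup.mem_comap]
    change g * x * g⁻¹ ∈ Subgroup.closure _
    rcases hx with rfl | rfl | rfl | rfl | rfl
    · rw [← scg_comm, mul_assoc, mul_inv_cancel, mul_one]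
      exact scg_i_mem i hi
    · exact h1
    · exact h2
    · exact h3
    · exact h4
  intro n hn
  exact hle hn

/-- from a matrix relation `g * s = r * g` to `g * s * g⁻¹ = r`. -/
theorem conj_eq_of_rel {g s r : GL (Fin 4) F}
    (h : (g : Matrix (Fin 4) (Fin 4) F) * (s : Matrix (Fin 4) (Fin 4) F) =
      (r : Matrix (Fin 4) (Fin 4) F) * (g : Matrix (Fin 4) (Fin 4) F)) : g * s * g⁻¹ = r := by
  have : g * s = r * g := Units.ext (by rw [Units.val_mul, Units.val_mul]; exact h)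
  rw [this, mul_assoc, mul_inv_cancel, mul_one]

theorem neg_one_mem (i : F) (hi : i ^ 2 = -1) : scg (iu i hi ^ 2) ∈ R0 i hi := by
  rw [← scg_pow]; exact Subgroup.pow_mem _ (scg_i_mem i hi) 2

theorem scg_neg_one_val (i : F) (hi : i ^ 2 = -1) :
    ((scg (iu i hi ^ 2) : GL (Fin 4) F) : Matrix (Fin 4) (Fin 4) F) = -1 := by
  rw [scg_val, Units.val_pow_eq_pow_val, iu_val, hi, neg_smul, one_smul]

theorem S0g_mem_normalizer [Finite F] (i : F) (hi : i ^ 2 = -1) :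
    S0g ∈ Subgroup.normalizer (R0 i hi : Set (GL (Fin 4) F)) := by
  apply mem_normalizer_R0
  · rw [conj_eq_of_rel (r := B1g) (S0_B1 (F := F))]
    exact B1g_mem i hi
  · rw [conj_eq_of_rel (r := scg (iu i hi ^ 2) * (B2g * C1g)) (by
      rw [Units.val_mul, Units.val_mul, scg_neg_one_val]
      exact S0_C1 (F := F))]
    exact mul_mem (neg_one_mem i hi) (mul_mem (B2g_mem i hi) (C1g_mem i hi))
  · rw [conj_eq_of_rel (r := B2g) (S0_B2 (F := F))]
    exact B2g_mem i hi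
  · rw [conj_eq_of_rel (r := scg (iu i hi ^ 2) * (B1g * C2g)) (by
      rw [Units.val_mul, Units.val_mul, scg_neg_one_val]
      exact S0_C2 (F := F))]
    exact mul_mem (neg_one_mem i hi) (mul_mem (B1g_mem i hi) (C2g_mem i hi))

theorem P3g_mem_normalizer [Finite F] (i : F) (hi : i ^ 2 = -1) :
    P3g ∈ Subgroup.normalizer (R0 i hi : Set (GL (Fin 4) F)) := by
  apply mem_normalizer_R0
  · rw [conj_eq_of_rel (r := B1g * B2g) (P3_B1 (F := F))]
    exact mul_mem (B1g_mem i hi) (B2g_mem i hi)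
  · rw [conj_eq_of_rel (r := C2g) (P3_C1 (F := F))]
    exact C2g_mem i hi
  · rw [conj_eq_of_rel (r := B1g) (P3_B2 (F := F))]
    exact B1g_mem i hi
  · rw [conj_eq_of_rel (r := C1g * C2g) (P3_C2 (F := F))]
    exact mul_mem (C1g_mem i hi) (C2g_mem i hi)

theorem T1g_mem_normalizer [Finite F] (i : F) (hi : i ^ 2 = -1) (h2 : (2 : F) ≠ 0) :
    T1g i hi h2 ∈ Subgroup.normalizer (R0 i hi : Set (GL (Fin 4) F)) := by
  apply mem_normalizer_R0
  · rw [conj_eq_of_rel (r := scg (iu i hi) * (C1g * B1g)) (by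
      rw [Units.val_mul, Units.val_mul, scg_val, iu_val, Matrix.smul_mul, Matrix.one_mul]
      exact T1_B1 i hi)]
    exact mul_mem (scg_i_mem i hi) (mul_mem (C1g_mem i hi) (B1g_mem i hi))
  · rw [conj_eq_of_rel (r := B1g) (T1_C1 i)]
    exact B1g_mem i hi
  · rw [conj_eq_of_rel (r := B2g) (T1_B2 i)]
    exact B2g_mem i hi
  · rw [conj_eq_of_rel (r := C2g) (T1_C2 i)]
    exact C2g_mem i hi

theorem T2g_mem_normalizer [Finite F] (i : F) (hi : i ^ 2 = -1) (h2 : (2 : F) ≠ 0) :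
    T2g i hi h2 ∈ Subgroup.normalizer (R0 i hi : Set (GL (Fin 4) F)) := by
  apply mem_normalizer_R0
  · rw [conj_eq_of_rel (r := B1g) (T2_B1 i)]
    exact B1g_mem i hi
  · rw [conj_eq_of_rel (r := C1g) (T2_C1 i)]
    exact C1g_mem i hi
  · rw [conj_eq_of_rel (r := scg (iu i hi) * (C2g * B2g)) (by
      rw [Units.val_mul, Units.val_mul, scg_val, iu_val, Matrix.smul_mul, Matrix.one_mul]
      exact T2_B2 i hi)]
    exact mul_mem (scg_i_mem i hi) (mul_mem (C2g_mem i hi) (B2g_mem i hi))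
  · rw [conj_eq_of_rel (r := B2g) (T2_C2 i)]
    exact B2g_mem i hi

theorem scg_mem_normalizer (R : Subgroup (GL (Fin 4) F)) (c : Fˣ) :
    scg c ∈ Subgroup.normalizer (R : Set (GL (Fin 4) F)) := by
  rw [Subgroup.mem_normalizer_iff]
  intro h
  rw [scg_comm, mul_assoc, mul_inv_cancel, mul_one]

end Cfsg.Agent.Helper2.SymT
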