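import Mathlib

set_option autoImplicit false
set_option linter.style.haveILetI false
set_option linter.unusedSectionVars false

/-!
# Zassenhaus project, piece SD: general group-theoretic lemmas

* elements of order `2` and `3`;
* cyclic groups: uniqueness of the subgroup of a given order, automorphisms of cyclic `3`-groups;
* conjugacy of elements of order `p` when the Sylow `p`-subgroups are cyclic;
* a Frattini argument (`alpha_core`).
-/

namespace Cfsg.Agent.Helper2.ZasSD

section basics

variable {G : Type*} [Group G]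

theorem orderOf_conj_eq (g x : G) : orderOf (g * x * g⁻¹) = orderOf x :=
  (MulAut.conj g).orderOf_eq x

theorem orderOf_two_iff {x : G} : orderOf x = 2 ↔ x * x = 1 ∧ x ≠ 1 := by
  constructor
  · intro h
    refine ⟨?_, ?_⟩
    · have := pow_orderOf_eq_one x
      rwa [h, pow_two] at this
    · rintro rfl
      rw [orderOf_one] at h
      omega
  · rintro ⟨h1, h2⟩
    haveI : Fact (Nat.Prime 2) := ⟨Nat.prime_two⟩
    exact orderOf_eq_prime (by rw [pow_two]; exact h1) h2

theorem orderOf_three_iff {x : G} : orderOf x = 3 ↔ x ^ 3 = 1 ∧ x ≠ 1 := by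
  constructor
  · intro h
    refine ⟨?_, ?_⟩
    · have := pow_orderOf_eq_one x
      rwa [h] at this
    · rintro rfl
      rw [orderOf_one] at h
      omega
  · rintro ⟨h1, h2⟩
    haveI : Fact (Nat.Prime 3) := ⟨Nat.prime_three⟩
    exact orderOf_eq_prime h1 h2

theorem inv_eq_self_of_sq {x : G} (h : x * x = 1) : x⁻¹ = x :=
  inv_eq_of_mul_eq_one_left h

theorem inv_eq_sq_of_cube {a : G} (h : a ^ 3 = 1) : a⁻¹ = a ^ 2 := by
  apply inv_eq_of_mul_eq_one_left
  rw [← pow_succ, h]

theorem inv_ne_self_of_orderOf_three {a : G} (h : orderOf a = 3) : a⁻¹ ≠ a := by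
  obtain ⟨h3, h1⟩ := orderOf_three_iff.mp h
  intro hinv
  apply h1
  have h2 : a * a = 1 := by
    calc a * a = a⁻¹ * a := by rw [hinv]
      _ = 1 := inv_mul_cancel a
  calc a = a ^ 3 * (a * a)⁻¹ := by rw [pow_succ, pow_two]; group
    _ = 1 := by rw [h3, h2]; simp

theorem orderOf_inv_three {a : G} (h : orderOf a = 3) : orderOf a⁻¹ = 3 := by
  rw [orderOf_inv]; exact h

theorem mem_zpowers_three {a y : G} (ha : orderOf a = 3) (hy : y ∈ Subgroup.zpowers a) :
    y = 1 ∨ y = a ∨ y = a⁻¹ := by
  obtain ⟨h3, -⟩ := orderOf_three_iff.mp ha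
  obtain ⟨k, rfl⟩ := Subgroup.mem_zpowers_iff.mp hy
  have hk : a ^ k = a ^ (k % 3) := by
    have := zpow_mod_orderOf a k
    rw [ha] at this
    exact_mod_cast this.symm
  have h0 : 0 ≤ k % 3 := Int.emod_nonneg k (by norm_num)
  have h1 : k % 3 < 3 := Int.emod_lt_of_pos k (by norm_num)
  rw [hk]
  obtain ⟨n, hn⟩ : ∃ n : ℕ, k % 3 = n := ⟨(k % 3).toNat, by omega⟩
  rw [hn, zpow_natCast]
  have hn3 : n < 3 := by omega
  interval_cases n
  · left; simp
  · right; left; simp
  · right; right; rw [inv_eq_sq_of_cube h3]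

/-- A point normalized by an element is centralized or inverted. -/
theorem conj_eq_or_inv_of_mem_zpowers {a g : G} (ha : orderOf a = 3)
    (h : g * a * g⁻¹ ∈ Subgroup.zpowers a) : g * a * g⁻¹ = a ∨ g * a * g⁻¹ = a⁻¹ := by
  rcases mem_zpowers_three ha h with h1 | h1 | h1
  · exfalso
    have : orderOf (g * a * g⁻¹) = 3 := by rw [orderOf_conj_eq]; exact ha
    rw [h1, orderOf_one] at this
    omega
  · exact Or.inl h1
  · exact Or.inr h1

theorem zpowers_eq_of_mem_three {a b : G} (ha : orderOf a = 3) (hb : orderOf b = 3)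
    (h : b ∈ Subgroup.zpowers a) : Subgroup.zpowers b = Subgroup.zpowers a := by
  rcases mem_zpowers_three ha h with h1 | h1 | h1
  · rw [h1, orderOf_one] at hb; omega
  · rw [h1]
  · rw [h1, Subgroup.zpowers_inv]

end basics

section cyclic

/-- In a finite cyclic group the elements `b` with `b ^ n = 1` lie in the subgroup generated by
an element of order `n`. -/
theorem mem_zpowers_of_pow_eq_one_cyclic {C : Type*} [Group C] [Finite C] [IsCyclic C] {a b : C}
    {n : ℕ} (hn : 0 < n) (ha : orderOf a = n) (hb : b ^ n = 1) : b ∈ Subgroup.zpowers a := by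
  classical
  have : Fintype C := Fintype.ofFinite C
  have hle := IsCyclic.card_pow_eq_one_le (α := C) (n := n) hn
  set T : Finset C := Finset.univ.filter (fun z : C => z ^ n = 1) with hT
  set Z : Finset C := Finset.univ.filter (fun z : C => z ∈ Subgroup.zpowers a) with hZ
  have hZT : Z ⊆ T := by
    intro z hz
    rw [hZ, Finset.mem_filter] at hz
    rw [hT, Finset.mem_filter]
    refine ⟨Finset.mem_univ _, ?_⟩
    obtain ⟨k, rfl⟩ := Subgroup.mem_zpowers_iff.mp hz.2
    rw [← zpow_natCast, ← zpow_mul, mul_comm, zpow_mul, zpow_natCast, ← ha, pow_orderOf_eq_one,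
      one_zpow]
  have hZcard : Z.card = n := by
    have h1 : Z.card = Nat.card (Subgroup.zpowers a) := by
      rw [Nat.card_eq_fintype_card, Fintype.card_subtype]
    rw [h1, Nat.card_zpowers, ha]
  have hTZ : T = Z := by
    symm
    apply Finset.eq_of_subset_of_card_le hZT
    rw [hZcard]
    exact hle
  have hbT : b ∈ T := by
    rw [hT, Finset.mem_filter]
    exact ⟨Finset.mem_univ _, hb⟩
  rw [hTZ, hZ, Finset.mem_filter] at hbT
  exact hbT.2

theorem cyclic_invol_unique {C : Type*} [Group C] [Finite C] [IsCyclic C] {u v : C}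
    (hu : u ^ 2 = 1) (hv : v ^ 2 = 1) (hu1 : u ≠ 1) (hv1 : v ≠ 1) : u = v := by
  have huo : orderOf u = 2 := by
    haveI : Fact (Nat.Prime 2) := ⟨Nat.prime_two⟩
    exact orderOf_eq_prime hu hu1
  have h := mem_zpowers_of_pow_eq_one_cyclic (by norm_num) huo hv
  obtain ⟨k, hk⟩ := Subgroup.mem_zpowers_iff.mp h
  have hk2 : u ^ k = u ^ (k % 2) := by
    have := zpow_mod_orderOf u k
    rw [huo] at this
    exact this.symm
  rcases Int.emod_two_eq_zero_or_one k with h0 | h0
  · rw [hk2, h0, zpow_zero] at hk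
    exact absurd hk.symm hv1
  · rw [hk2, h0, zpow_one] at hk
    exact hk

/-- An automorphism of `2`-power order of a cyclic `3`-group which fixes an element of order `3`
is trivial. -/
theorem cyc3_aut_trivial {Q : Type*} [Group Q] [Finite Q] [IsCyclic Q] (k : ℕ)
    (hcard : Nat.card Q = 3 ^ k) (β : MulAut Q) (j : ℕ) (hβ : β ^ (2 ^ j) = 1) (x : Q)
    (hx : orderOf x = 3) (hfix : β x = x) : β = 1 := by
  have hk : k ≠ 0 := by
    rintro rfl
    have h1 : orderOf x ∣ Nat.card Q := orderOf_dvd_natCard x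
    rw [hx, hcard] at h1
    norm_num at h1
  obtain ⟨k', rfl⟩ : ∃ k', k = k' + 1 := ⟨k - 1, by omega⟩
  have hcycU : IsCyclic (ZMod (Nat.card Q))ˣ := by
    rw [hcard]
    exact ZMod.isCyclic_units_of_prime_pow 3 Nat.prime_three (by norm_num) (k' + 1)
  have hcycA : IsCyclic (MulAut Q) :=
    isCyclic_of_injective (IsCyclic.mulAutMulEquiv Q).toMonoidHom (IsCyclic.mulAutMulEquiv Q).injective
  have hcardA : Nat.card (MulAut Q) = 3 ^ k' * 2 := by
    rw [IsCyclic.card_mulAut, hcard, Nat.totient_prime_pow_succ Nat.prime_three]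
  have hfinA : Finite (MulAut Q) := by
    apply Nat.finite_of_card_ne_zero
    rw [hcardA]; positivity
  -- `β² = 1`
  have hβ2 : β ^ 2 = 1 := by
    have h1 : orderOf β ∣ 2 ^ j := orderOf_dvd_of_pow_eq_one hβ
    have h2 : orderOf β ∣ 3 ^ k' * 2 := by rw [← hcardA]; exact orderOf_dvd_natCard β
    have h3 : Nat.Coprime (orderOf β) (3 ^ k') := by
      apply Nat.Coprime.coprime_dvd_left h1
      apply Nat.Coprime.pow
      norm_num
    have h4 : orderOf β ∣ 2 := h3.dvd_of_dvd_mul_left h2
    exact orderOf_dvd_iff_pow_eq_one.mp h4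
  -- the inversion
  have hcomm : ∀ a b : Q, a * b = b * a := fun a b => (IsCyclic.commGroup (α := Q)).mul_comm a b
  let ι : MulAut Q :=
    { toFun := fun z => z⁻¹
      invFun := fun z => z⁻¹
      left_inv := fun z => inv_inv z
      right_inv := fun z => inv_inv z
      map_mul' := fun a b => by rw [mul_inv_rev, hcomm] }
  have hι2 : ι ^ 2 = 1 := by
    ext z
    rw [pow_two]
    change (z⁻¹)⁻¹ = z
    exact inv_inv z
  have hx1 : x⁻¹ ≠ x := inv_ne_self_of_orderOf_three hx
  have hι1 : ι ≠ 1 := by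
    intro h
    apply hx1
    have := congrArg (fun f : MulAut Q => f x) h
    exact this
  by_contra hβ1
  have := cyclic_invol_unique hβ2 hι2 hβ1 hι1
  apply hx1
  rw [this] at hfix
  exact hfix

end cyclic

section sylow

variable {G : Type*} [Group G] [Finite G]

/-- If the Sylow `p`-subgroups of `G` are cyclic then so are those of every subgroup. -/
theorem sylow_cyclic_of_le {p : ℕ} [Fact p.Prime] (hcyc : ∀ P : Sylow p G, IsCyclic P)
    (H : Subgroup G) (P : Sylow p H) : IsCyclic P := by
  have hP : IsPGroup p ((P : Subgroup H).map H.subtype) :=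
    P.isPGroup'.map H.subtype
  obtain ⟨Q, hQ⟩ := hP.exists_le_sylow
  have := hcyc Q
  have h1 : IsCyclic ((P : Subgroup H).map H.subtype) := Subgroup.isCyclic_of_le hQ
  exact isCyclic_of_injective
    (Subgroup.equivMapOfInjective (P : Subgroup H) H.subtype H.subtype_injective).toMonoidHom
    (Subgroup.equivMapOfInjective (P : Subgroup H) H.subtype H.subtype_injective).injective

/-- If the Sylow `p`-subgroups are cyclic, the subgroups of order `p` are conjugate. -/
theorem exists_conj_mem_zpowers {p : ℕ} [hp : Fact p.Prime] (hcyc : ∀ P : Sylow p G, IsCyclic P)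
    {a d : G} (ha : orderOf a = p) (hd : orderOf d = p) :
    ∃ n : G, a ∈ Subgroup.zpowers (n * d * n⁻¹) := by
  have hpa : IsPGroup p (Subgroup.zpowers a) := by
    apply IsPGroup.of_card (n := 1)
    rw [Nat.card_zpowers, ha, pow_one]
  have hpd : IsPGroup p (Subgroup.zpowers d) := by
    apply IsPGroup.of_card (n := 1)
    rw [Nat.card_zpowers, hd, pow_one]
  obtain ⟨P, hP⟩ := hpa.exists_le_sylow
  obtain ⟨P', hP'⟩ := hpd.exists_le_sylow
  obtain ⟨n, hn⟩ := MulAction.exists_smul_eq G P' P
  refine ⟨n, ?_⟩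
  have hndP : n * d * n⁻¹ ∈ (P : Subgroup G) := by
    rw [← hn, Sylow.coe_subgroup_smul]
    exact Subgroup.smul_mem_pointwise_smul d (MulAut.conj n) _
      (hP' (Subgroup.mem_zpowers d))
  have haP : a ∈ (P : Subgroup G) := hP (Subgroup.mem_zpowers a)
  have := hcyc P
  have h1 : orderOf (⟨n * d * n⁻¹, hndP⟩ : (P : Subgroup G)) = p := by
    rw [Subgroup.orderOf_mk, orderOf_conj_eq, hd]
  have h2 : (⟨a, haP⟩ : (P : Subgroup G)) ^ p = 1 := by
    apply Subtype.ext
    rw [Subgroup.coe_pow, Subgroup.coe_one]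
    change a ^ p = 1
    rw [← ha]; exact pow_orderOf_eq_one a
  have h3 := mem_zpowers_of_pow_eq_one_cyclic hp.out.pos h1 h2
  obtain ⟨k, hk⟩ := Subgroup.mem_zpowers_iff.mp h3
  rw [Subgroup.mem_zpowers_iff]
  refine ⟨k, ?_⟩
  have := congrArg Subtype.val hk
  simpa using this

end sylow

end Cfsg.Agent.Helper2.ZasSD
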