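import Mathlib
import Cfsg.Agent.Helper2.ZasSD2

set_option autoImplicit false
set_option linter.style.haveILetI false
set_option linter.unusedSectionVars false

/-!
# Zassenhaus project, piece SD: the Frattini argument

If a finite group `G` with cyclic Sylow `3`-subgroups has a central element `d` of order `3` and
permutes the three involutions `t, s, ts` of a four-group, then it cannot induce the full
symmetric group on them.
-/

namespace Cfsg.Agent.Helper2.ZasSD

open Subgroup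

open scoped Pointwise

theorem alpha_core {G : Type*} [Group G] [Finite G] (hcyc : ∀ P : Sylow 3 G, IsCyclic P)
    (t s d q y : G) (ht : t * t = 1) (hs : s * s = 1) (ht1 : t ≠ 1)
    (hs1 : s ≠ 1) (hne : t ≠ s)
    (hd : orderOf d = 3) (hdc : ∀ g : G, g * d = d * g)
    (hnorm : ∀ g x : G, (x = t ∨ x = s ∨ x = t * s) →
      (g * x * g⁻¹ = t ∨ g * x * g⁻¹ = s ∨ g * x * g⁻¹ = t * s))
    (hq1 : q * t * q⁻¹ = s) (hq2 : q * s * q⁻¹ = t * s) (kq : ℕ) (hq3 : q ^ (3 ^ kq) = 1)
    (hy1 : y * t * y⁻¹ = t) (hy2 : y * s * y⁻¹ = t * s) : False := by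
  classical
  haveI : Fact (Nat.Prime 3) := ⟨Nat.prime_three⟩
  have htts : t ≠ t * s := by
    intro h
    apply hs1
    have := congrArg (fun x => t * x) h
    simp only [← mul_assoc, ht, one_mul] at this
    exact this.symm
  have hsts : s ≠ t * s := by
    intro h
    apply ht1
    have := congrArg (fun x => x * s) h
    simp only [mul_assoc, hs, mul_one] at this
    exact this.symm
  -- the action on the three involutions
  let Ω := {x : G // x = t ∨ x = s ∨ x = t * s}
  letI : MulAction G Ω :=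
    { smul := fun g x => ⟨g * x.1 * g⁻¹, hnorm g x.1 x.2⟩
      one_smul := fun x => by
        apply Subtype.ext
        change 1 * x.1 * 1⁻¹ = x.1
        simp
      mul_smul := fun g h x => by
        apply Subtype.ext
        change g * h * x.1 * (g * h)⁻¹ = g * (h * x.1 * h⁻¹) * g⁻¹
        group }
  have hsmul : ∀ (g : G) (x : Ω), ((g • x : Ω) : G) = g * x.1 * g⁻¹ := fun g x => rfl
  have : Fintype Ω := Fintype.ofFinite Ω
  let φ : G →* Equiv.Perm Ω := MulAction.toPermHom G Ω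
  let χ : G →* ℤˣ := Equiv.Perm.sign.comp φ
  have hφ : ∀ (g : G) (x : Ω), φ g x = g • x := fun g x => rfl
  -- elements centralizing `t` and `s` are even
  have hχ_cent : ∀ g : G, g * t * g⁻¹ = t → g * s * g⁻¹ = s → χ g = 1 := by
    intro g h1 h2
    have : φ g = 1 := by
      ext x
      rw [hφ, Equiv.Perm.one_apply, hsmul]
      rcases x.2 with h | h | h
      · rw [h, h1]
      · rw [h, h2]
      · rw [h]
        calc g * (t * s) * g⁻¹ = (g * t * g⁻¹) * (g * s * g⁻¹) := by group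
          _ = t * s := by rw [h1, h2]
    change Equiv.Perm.sign (φ g) = 1
    rw [this, map_one]
  -- `q` is even
  have hχq : χ q = 1 := by
    have h1 : χ q ^ (3 ^ kq) = 1 := by rw [← map_pow, hq3, map_one]
    rcases Int.units_eq_one_or (χ q) with h | h
    · exact h
    · exfalso
      rw [h] at h1
      have hodd : Odd (3 ^ kq) := Odd.pow (by decide)
      rw [hodd.neg_one_pow] at h1
      exact absurd h1 (by decide)
  -- `y` is odd
  have hχy : χ y = -1 := by
    have : φ y = Equiv.swap (⟨s, Or.inr (Or.inl rfl)⟩ : Ω) ⟨t * s, Or.inr (Or.inr rfl)⟩ := by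
      ext x
      rw [hφ, hsmul]
      rcases x.2 with h | h | h
      · have hx : x = ⟨t, Or.inl rfl⟩ := Subtype.ext h
        rw [hx, Equiv.swap_apply_of_ne_of_ne]
        · exact hy1
        · intro h'; exact hne (congrArg Subtype.val h')
        · intro h'; exact htts (congrArg Subtype.val h')
      · have hx : x = ⟨s, Or.inr (Or.inl rfl)⟩ := Subtype.ext h
        rw [hx, Equiv.swap_apply_left]
        exact hy2
      · have hx : x = ⟨t * s, Or.inr (Or.inr rfl)⟩ := Subtype.ext h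
        rw [hx, Equiv.swap_apply_right]
        change y * (t * s) * y⁻¹ = s
        calc y * (t * s) * y⁻¹ = (y * t * y⁻¹) * (y * s * y⁻¹) := by group
          _ = t * (t * s) := by rw [hy1, hy2]
          _ = s := by rw [← mul_assoc, ht, one_mul]
    change Equiv.Perm.sign (φ y) = -1
    rw [this]
    apply Equiv.Perm.sign_swap
    intro h'
    exact hsts (congrArg Subtype.val h')
  -- the even subgroup
  set M₁ : Subgroup G := χ.ker with hM₁
  have hqM : q ∈ M₁ := MonoidHom.mem_ker.mpr hχq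
  have hdM : d ∈ M₁ := by
    apply MonoidHom.mem_ker.mpr
    apply hχ_cent
    · rw [← hdc t]; group
    · rw [← hdc s]; group
  -- a Sylow `3`-subgroup of `M₁` containing `q`
  have hqp : IsPGroup 3 (Subgroup.zpowers (⟨q, hqM⟩ : M₁)) := by
    rw [IsPGroup.iff_card]
    have h1 : orderOf (⟨q, hqM⟩ : M₁) ∣ 3 ^ kq := by
      apply orderOf_dvd_of_pow_eq_one
      apply Subtype.ext
      rw [Subgroup.coe_pow]
      exact hq3
    obtain ⟨i, -, hi⟩ := (Nat.dvd_prime_pow Nat.prime_three).mp h1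
    exact ⟨i, by rw [Nat.card_zpowers, hi]⟩
  obtain ⟨P, hP⟩ := hqp.exists_le_sylow
  have hqP : (⟨q, hqM⟩ : M₁) ∈ (P : Subgroup M₁) := hP (Subgroup.mem_zpowers _)
  -- `d` lies in `P`
  have hdP : (⟨d, hdM⟩ : M₁) ∈ (P : Subgroup M₁) := by
    have hdp : IsPGroup 3 (Subgroup.zpowers (⟨d, hdM⟩ : M₁)) := by
      apply IsPGroup.of_card (n := 1)
      rw [Nat.card_zpowers, Subgroup.orderOf_mk, hd, pow_one]
    have hnorm' : Subgroup.zpowers (⟨d, hdM⟩ : M₁) ≤ Subgroup.normalizer ((P : Subgroup M₁) : Set M₁) := by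
      intro z hz
      obtain ⟨k, rfl⟩ := Subgroup.mem_zpowers_iff.mp hz
      rw [Subgroup.mem_normalizer_iff]
      intro h
      have hcomm : (⟨d, hdM⟩ : M₁) ^ k * h * ((⟨d, hdM⟩ : M₁) ^ k)⁻¹ = h := by
        have h1 : Commute (⟨d, hdM⟩ : M₁) h := by
          apply Subtype.ext
          exact (hdc h.1).symm
        have h2 : Commute ((⟨d, hdM⟩ : M₁) ^ k) h := h1.zpow_left k
        rw [h2.eq]; group
      rw [hcomm]
    have hsup : IsPGroup 3 ((P : Subgroup M₁) ⊔ Subgroup.zpowers (⟨d, hdM⟩ : M₁) : Subgroup M₁) :=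
      IsPGroup.to_sup_of_normal_left' P.isPGroup' hdp hnorm'
    have heq := P.is_maximal' hsup le_sup_left
    have : Subgroup.zpowers (⟨d, hdM⟩ : M₁) ≤ (P : Subgroup M₁) := by
      rw [← heq]; exact le_sup_right
    exact this (Subgroup.mem_zpowers _)
  -- Frattini
  set Q₃ : Subgroup G := (P : Subgroup M₁).map M₁.subtype with hQ₃
  have hfr := Sylow.normalizer_sup_eq_top P
  have hy_mem : y ∈ (normalizer (Q₃ : Set G) ⊔ M₁ : Subgroup G) := by
    rw [hQ₃, hfr]; exact Subgroup.mem_top y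
  have hset : ((normalizer (Q₃ : Set G) ⊔ M₁ : Subgroup G) : Set G) =
      (normalizer (Q₃ : Set G) : Set G) * (M₁ : Set G) := Subgroup.mul_normal _ _
  have hy_mem' : y ∈ (normalizer (Q₃ : Set G) : Set G) * (M₁ : Set G) := by
    rw [← hset]; exact hy_mem
  obtain ⟨n, hn, x, hx, hnx⟩ := Set.mem_mul.mp hy_mem'
  have hχn : χ n = -1 := by
    have h1 : χ y = χ n * χ x := by rw [← hnx, map_mul]
    have h2 : χ x = 1 := MonoidHom.mem_ker.mp hx
    rw [h2, mul_one, hχy] at h1
    exact h1.symm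
  -- the `2`-part of `n`
  obtain ⟨a, b, hb, hab⟩ := Nat.exists_eq_two_pow_mul_odd (orderOf_pos n).ne'
  set n' := n ^ b with hn'
  have hn'N : n' ∈ normalizer (Q₃ : Set G) := Subgroup.pow_mem _ hn b
  have hχn' : χ n' = -1 := by
    rw [hn', map_pow, hχn, hb.neg_one_pow]
  have hn'pow : n' ^ (2 ^ a) = 1 := by
    rw [hn', ← pow_mul, mul_comm, ← hab, pow_orderOf_eq_one]
  -- `Q₃` is a cyclic `3`-group
  have hPcyc : IsCyclic (P : Subgroup M₁) := sylow_cyclic_of_le hcyc M₁ P
  have eQ : (P : Subgroup M₁) ≃* Q₃ :=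
    Subgroup.equivMapOfInjective (P : Subgroup M₁) M₁.subtype M₁.subtype_injective
  have hQcyc : IsCyclic Q₃ := isCyclic_of_surjective eQ.toMonoidHom eQ.surjective
  obtain ⟨k, hk⟩ := IsPGroup.iff_card.mp P.isPGroup'
  have hQcard : Nat.card Q₃ = 3 ^ k := by rw [← Nat.card_congr eQ.toEquiv]; exact hk
  have hqQ : q ∈ Q₃ := ⟨⟨q, hqM⟩, hqP, rfl⟩
  have hdQ : d ∈ Q₃ := ⟨⟨d, hdM⟩, hdP, rfl⟩
  -- the automorphism induced by `n'`
  set β : MulAut Q₃ := Q₃.normalizerMonoidHom ⟨n', hn'N⟩ with hβ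
  have hβpow : β ^ (2 ^ a) = 1 := by
    rw [hβ, ← map_pow]
    have : (⟨n', hn'N⟩ : normalizer (Q₃ : Set G)) ^ (2 ^ a) = 1 := by
      apply Subtype.ext
      rw [Subgroup.coe_pow]
      exact hn'pow
    rw [this, map_one]
  have hβd : β ⟨d, hdQ⟩ = ⟨d, hdQ⟩ := by
    apply Subtype.ext
    rw [hβ]
    simp only [Subgroup.normalizerMonoidHom_apply_apply_coe]
    rw [hdc n']; group
  have hβ1 : β = 1 := cyc3_aut_trivial k hQcard β a hβpow ⟨d, hdQ⟩
    (by rw [Subgroup.orderOf_mk]; exact hd) hβd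
  have hcomm : n' * q = q * n' := by
    have := congrArg (fun f : MulAut Q₃ => ((f ⟨q, hqQ⟩ : Q₃) : G)) hβ1
    simp only [hβ, Subgroup.normalizerMonoidHom_apply_apply_coe, MulAut.one_apply] at this
    calc n' * q = (n' * q * n'⁻¹) * n' := by group
      _ = q * n' := by rw [this]
  -- conclusion
  have hkey : ∀ g : G, g * q = q * g → g * t * g⁻¹ = t → χ g = 1 := by
    intro g hgq hgt
    apply hχ_cent g hgt
    calc g * s * g⁻¹ = g * (q * t * q⁻¹) * g⁻¹ := by rw [hq1]
      _ = (g * q) * t * (g * q)⁻¹ := by group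
      _ = (q * g) * t * (q * g)⁻¹ := by rw [hgq]
      _ = q * (g * t * g⁻¹) * q⁻¹ := by group
      _ = s := by rw [hgt, hq1]
  have hq1' : q⁻¹ * s * q = t := by rw [← hq1]; group
  have hq2' : q⁻¹ * (t * s) * q = s := by rw [← hq2]; group
  have hcomm' : n' * q⁻¹ = q⁻¹ * n' := by
    calc n' * q⁻¹ = q⁻¹ * (q * n') * q⁻¹ := by group
      _ = q⁻¹ * (n' * q) * q⁻¹ := by rw [hcomm]
      _ = q⁻¹ * n' := by group
  rcases hnorm n' t (Or.inl rfl) with h | h | h
  · have := hkey n' hcomm h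
    rw [hχn'] at this
    exact absurd this (by decide)
  · have h1 : χ (q⁻¹ * n') = 1 := by
      apply hkey
      · calc q⁻¹ * n' * q = q⁻¹ * (n' * q) := by group
          _ = q⁻¹ * (q * n') := by rw [hcomm]
          _ = q * (q⁻¹ * n') := by group
      · calc q⁻¹ * n' * t * (q⁻¹ * n')⁻¹ = q⁻¹ * (n' * t * n'⁻¹) * q := by group
          _ = t := by rw [h, hq1']
    rw [map_mul, map_inv, hχq, hχn'] at h1
    exact absurd h1 (by decide)
  · have h1 : χ (q⁻¹ * q⁻¹ * n') = 1 := by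
      apply hkey
      · calc q⁻¹ * q⁻¹ * n' * q = q⁻¹ * q⁻¹ * (n' * q) := by group
          _ = q⁻¹ * q⁻¹ * (q * n') := by rw [hcomm]
          _ = q * (q⁻¹ * q⁻¹ * n') := by group
      · calc q⁻¹ * q⁻¹ * n' * t * (q⁻¹ * q⁻¹ * n')⁻¹
            = q⁻¹ * (q⁻¹ * (n' * t * n'⁻¹) * q) * q := by
              simp only [mul_inv_rev, inv_inv, mul_assoc]
          _ = t := by rw [h, hq2', hq1']
    rw [map_mul, map_mul, map_inv, hχq, hχn'] at h1
    exact absurd h1 (by decide)

end Cfsg.Agent.Helper2.ZasSD
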