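import Mathlib

set_option autoImplicit false

/-!
# Zassenhaus project, piece SD: facts about `A₄`, `A₅`, `S₄` and their transport to subgroups
-/

namespace Cfsg.Agent.Helper2.ZasSD

/-! ### decidable facts -/

set_option maxRecDepth 100000 in
theorem a4_no6 : ∀ x y : alternatingGroup (Fin 4), x ^ 2 = 1 → x ≠ 1 → y ^ 3 = 1 → y ≠ 1 →
    x * y ≠ y * x := by decide

set_option maxRecDepth 100000 in
theorem a4_no4 : ∀ x : alternatingGroup (Fin 4), x ^ 4 = 1 → x ^ 2 = 1 := by decide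

set_option maxRecDepth 100000 in
theorem a4_inv_mul : ∀ x y : alternatingGroup (Fin 4), x ^ 2 = 1 → y ^ 2 = 1 → (x * y) ^ 2 = 1 := by
  decide

set_option maxRecDepth 100000 in
theorem a4_inv_card : Fintype.card {x : alternatingGroup (Fin 4) // x ^ 2 = 1} = 4 := by decide

set_option maxRecDepth 100000 in
theorem a4_exists_inv : ∃ u v : alternatingGroup (Fin 4), u ^ 2 = 1 ∧ v ^ 2 = 1 ∧ u ≠ 1 ∧ v ≠ 1 ∧
    u ≠ v ∧ u * v = v * u := by decide

set_option maxRecDepth 100000 in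
theorem a5_no4 : ∀ x : alternatingGroup (Fin 5), x ^ 4 = 1 → x ^ 2 = 1 := by decide

set_option maxRecDepth 1000000 in
theorem a5_no6 : ∀ x y : alternatingGroup (Fin 5), x ^ 2 = 1 → x ≠ 1 → y ^ 3 = 1 → y ≠ 1 →
    x * y ≠ y * x := by decide

set_option maxRecDepth 1000000 in
set_option synthInstance.maxSize 1000 in
set_option synthInstance.maxHeartbeats 200000 in
theorem a5_klein_norm : ∀ u v : alternatingGroup (Fin 5), u ^ 2 = 1 → v ^ 2 = 1 → u ≠ 1 → v ≠ 1 →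
    u ≠ v → u * v = v * u →
    ∃ a : alternatingGroup (Fin 5), a ^ 3 = 1 ∧ a ≠ 1 ∧ a * u * a⁻¹ = v ∧ a * v * a⁻¹ = u * v := by
  decide

set_option maxRecDepth 100000 in
theorem a5_exists_inv : ∃ u v : alternatingGroup (Fin 5), u ^ 2 = 1 ∧ v ^ 2 = 1 ∧ u ≠ 1 ∧ v ≠ 1 ∧
    u ≠ v ∧ u * v = v * u := by decide

set_option maxRecDepth 100000 in
theorem s4_fact : ∀ y a : Equiv.Perm (Fin 4), y ^ 4 = 1 → y ^ 2 ≠ 1 → a ^ 3 = 1 → a ≠ 1 →
    y ^ 2 * a * (y ^ 2)⁻¹ ≠ a⁻¹ := by decide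

set_option maxRecDepth 100000 in
theorem s4_exists_inv : ∃ u a : Equiv.Perm (Fin 4), u ^ 2 = 1 ∧ u ≠ 1 ∧ a ^ 3 = 1 ∧ a ≠ 1 ∧
    u * a * u⁻¹ = a⁻¹ := by decide

theorem a4_card : Nat.card (alternatingGroup (Fin 4)) = 12 := by
  rw [Nat.card_eq_fintype_card]; decide

theorem a5_card : Nat.card (alternatingGroup (Fin 5)) = 60 := by
  rw [Nat.card_eq_fintype_card]; decide

theorem s4_card : Nat.card (Equiv.Perm (Fin 4)) = 24 := by
  rw [Nat.card_eq_fintype_card]; decide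

/-! ### transport along an isomorphism from a subgroup -/

section transport

variable {S : Type*} [Group S] {T : Subgroup S} {A : Type*} [Group A]

theorem tr_pow_eq_one (f : T ≃* A) {x : S} (hx : x ∈ T) (k : ℕ) :
    f ⟨x, hx⟩ ^ k = 1 ↔ x ^ k = 1 := by
  rw [← map_pow, MulEquiv.map_eq_one_iff]
  constructor
  · intro h
    have := congrArg Subtype.val h
    simpa using this
  · intro h
    apply Subtype.ext
    simpa using h

theorem tr_eq_one (f : T ≃* A) {x : S} (hx : x ∈ T) : f ⟨x, hx⟩ = 1 ↔ x = 1 := by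
  rw [MulEquiv.map_eq_one_iff]
  constructor
  · intro h
    exact congrArg Subtype.val h
  · intro h
    exact Subtype.ext h

theorem tr_eq (f : T ≃* A) {x y : S} (hx : x ∈ T) (hy : y ∈ T) :
    f ⟨x, hx⟩ = f ⟨y, hy⟩ ↔ x = y := by
  rw [f.injective.eq_iff]
  constructor
  · intro h
    exact congrArg Subtype.val h
  · intro h
    exact Subtype.ext h

theorem tr_mul (f : T ≃* A) {x y : S} (hx : x ∈ T) (hy : y ∈ T) :
    f ⟨x * y, T.mul_mem hx hy⟩ = f ⟨x, hx⟩ * f ⟨y, hy⟩ := by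
  rw [← map_mul]; rfl

theorem tr_inv (f : T ≃* A) {x : S} (hx : x ∈ T) :
    f ⟨x⁻¹, T.inv_mem hx⟩ = (f ⟨x, hx⟩)⁻¹ := by
  rw [← map_inv]; rfl

end transport

section A4

variable {S : Type*} [Group S] {T : Subgroup S}

theorem a4T_card (f : T ≃* alternatingGroup (Fin 4)) : Nat.card T = 12 := by
  rw [Nat.card_congr f.toEquiv, a4_card]

theorem a4T_no6 (f : T ≃* alternatingGroup (Fin 4)) {x y : S} (hx : x ∈ T) (hy : y ∈ T)
    (hx2 : x ^ 2 = 1) (hx1 : x ≠ 1) (hy3 : y ^ 3 = 1) (hy1 : y ≠ 1) : x * y ≠ y * x := by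
  intro h
  apply a4_no6 (f ⟨x, hx⟩) (f ⟨y, hy⟩) ((tr_pow_eq_one f hx 2).mpr hx2)
    (fun h1 => hx1 ((tr_eq_one f hx).mp h1)) ((tr_pow_eq_one f hy 3).mpr hy3)
    (fun h1 => hy1 ((tr_eq_one f hy).mp h1))
  rw [← tr_mul f hx hy, ← tr_mul f hy hx, tr_eq]
  exact h

theorem a4T_no4 (f : T ≃* alternatingGroup (Fin 4)) {x : S} (hx : x ∈ T) (h : x ^ 4 = 1) :
    x ^ 2 = 1 :=
  (tr_pow_eq_one f hx 2).mp (a4_no4 _ ((tr_pow_eq_one f hx 4).mpr h))

/-- the four-group of `A₄` -/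
def a4V4 : Subgroup (alternatingGroup (Fin 4)) where
  carrier := {x | x ^ 2 = 1}
  mul_mem' := fun {a b} ha hb => a4_inv_mul a b ha hb
  one_mem' := by simp
  inv_mem' := fun {a} ha => by
    change a⁻¹ ^ 2 = 1
    have ha : a ^ 2 = 1 := ha
    rw [inv_pow, ha, inv_one]

theorem a4V4_card : Nat.card a4V4 = 4 := by
  have : Nat.card a4V4 = Nat.card {x : alternatingGroup (Fin 4) // x ^ 2 = 1} := rfl
  rw [this, Nat.card_eq_fintype_card, a4_inv_card]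

/-- the involutions of a subgroup isomorphic to `A₄` form a subgroup of order `4` -/
theorem a4T_exists_four (f : T ≃* alternatingGroup (Fin 4)) :
    ∃ W : Subgroup S, (∀ x, x ∈ W ↔ x ∈ T ∧ x ^ 2 = 1) ∧ Nat.card W = 4 := by
  set g : alternatingGroup (Fin 4) →* S := T.subtype.comp f.symm.toMonoidHom with hg
  have hginj : Function.Injective g := T.subtype_injective.comp f.symm.injective
  refine ⟨a4V4.map g, ?_, ?_⟩
  · intro x
    constructor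
    · rintro ⟨a, ha, rfl⟩
      refine ⟨(f.symm a).2, ?_⟩
      have ha2 : a ^ 2 = 1 := ha
      rw [← map_pow, ha2, map_one]
    · rintro ⟨hx, hx2⟩
      refine ⟨f ⟨x, hx⟩, (tr_pow_eq_one f hx 2).mpr hx2, ?_⟩
      simp [hg]
  · rw [← Nat.card_congr (Subgroup.equivMapOfInjective a4V4 g hginj).toEquiv, a4V4_card]

theorem exists_inv_of_equiv {A : Type*} [Group A] (f : T ≃* A)
    (h : ∃ u v : A, u ^ 2 = 1 ∧ v ^ 2 = 1 ∧ u ≠ 1 ∧ v ≠ 1 ∧ u ≠ v ∧ u * v = v * u) :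
    ∃ u v : S, u ∈ T ∧ v ∈ T ∧ u ^ 2 = 1 ∧ v ^ 2 = 1 ∧ u ≠ 1 ∧ v ≠ 1 ∧ u ≠ v ∧ u * v = v * u := by
  obtain ⟨u, v, hu2, hv2, hu1, hv1, huv, hc⟩ := h
  refine ⟨(f.symm u : T), (f.symm v : T), (f.symm u).2, (f.symm v).2, ?_, ?_, ?_, ?_, ?_, ?_⟩
  · have : (f.symm u) ^ 2 = 1 := by rw [← map_pow, hu2, map_one]
    simpa using congrArg Subtype.val this
  · have : (f.symm v) ^ 2 = 1 := by rw [← map_pow, hv2, map_one]
    simpa using congrArg Subtype.val this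
  · intro h
    apply hu1
    have : f.symm u = 1 := Subtype.ext h
    simpa using this
  · intro h
    apply hv1
    have : f.symm v = 1 := Subtype.ext h
    simpa using this
  · intro h
    apply huv
    have : f.symm u = f.symm v := Subtype.ext h
    exact f.symm.injective this
  · have : f.symm u * f.symm v = f.symm v * f.symm u := by
      rw [← map_mul, ← map_mul, hc]
    simpa using congrArg Subtype.val this

theorem a4T_exists_inv (f : T ≃* alternatingGroup (Fin 4)) :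
    ∃ u v : S, u ∈ T ∧ v ∈ T ∧ u ^ 2 = 1 ∧ v ^ 2 = 1 ∧ u ≠ 1 ∧ v ≠ 1 ∧ u ≠ v ∧ u * v = v * u :=
  exists_inv_of_equiv f a4_exists_inv

theorem a5T_exists_inv (f : T ≃* alternatingGroup (Fin 5)) :
    ∃ u v : S, u ∈ T ∧ v ∈ T ∧ u ^ 2 = 1 ∧ v ^ 2 = 1 ∧ u ≠ 1 ∧ v ≠ 1 ∧ u ≠ v ∧ u * v = v * u :=
  exists_inv_of_equiv f a5_exists_inv

end A4

section A5

variable {S : Type*} [Group S] {T : Subgroup S}

theorem a5T_card (f : T ≃* alternatingGroup (Fin 5)) : Nat.card T = 60 := by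
  rw [Nat.card_congr f.toEquiv, a5_card]

theorem a5T_no4 (f : T ≃* alternatingGroup (Fin 5)) {x : S} (hx : x ∈ T) (h : x ^ 4 = 1) :
    x ^ 2 = 1 :=
  (tr_pow_eq_one f hx 2).mp (a5_no4 _ ((tr_pow_eq_one f hx 4).mpr h))

theorem a5T_no6 (f : T ≃* alternatingGroup (Fin 5)) {x y : S} (hx : x ∈ T) (hy : y ∈ T)
    (hx2 : x ^ 2 = 1) (hx1 : x ≠ 1) (hy3 : y ^ 3 = 1) (hy1 : y ≠ 1) : x * y ≠ y * x := by
  intro h
  apply a5_no6 (f ⟨x, hx⟩) (f ⟨y, hy⟩) ((tr_pow_eq_one f hx 2).mpr hx2)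
    (fun h1 => hx1 ((tr_eq_one f hx).mp h1)) ((tr_pow_eq_one f hy 3).mpr hy3)
    (fun h1 => hy1 ((tr_eq_one f hy).mp h1))
  rw [← tr_mul f hx hy, ← tr_mul f hy hx, tr_eq]
  exact h

theorem a5T_klein_norm (f : T ≃* alternatingGroup (Fin 5)) {u v : S} (hu : u ∈ T) (hv : v ∈ T)
    (hu2 : u ^ 2 = 1) (hv2 : v ^ 2 = 1) (hu1 : u ≠ 1) (hv1 : v ≠ 1) (huv : u ≠ v)
    (hc : u * v = v * u) :
    ∃ a ∈ T, a ^ 3 = 1 ∧ a ≠ 1 ∧ a * u * a⁻¹ = v ∧ a * v * a⁻¹ = u * v := by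
  obtain ⟨a, ha3, ha1, h1, h2⟩ := a5_klein_norm (f ⟨u, hu⟩) (f ⟨v, hv⟩)
    ((tr_pow_eq_one f hu 2).mpr hu2) ((tr_pow_eq_one f hv 2).mpr hv2)
    (fun h1 => hu1 ((tr_eq_one f hu).mp h1)) (fun h1 => hv1 ((tr_eq_one f hv).mp h1))
    (fun h1 => huv ((tr_eq f hu hv).mp h1))
    (by rw [← tr_mul f hu hv, ← tr_mul f hv hu, tr_eq]; exact hc)
  refine ⟨(f.symm a : T), (f.symm a).2, ?_, ?_, ?_, ?_⟩
  · have : (f.symm a) ^ 3 = 1 := by rw [← map_pow, ha3, map_one]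
    simpa using congrArg Subtype.val this
  · intro h
    apply ha1
    have : f.symm a = 1 := Subtype.ext h
    simpa using this
  · have : f.symm a * ⟨u, hu⟩ * (f.symm a)⁻¹ = ⟨v, hv⟩ := by
      apply f.injective
      rw [map_mul, map_mul, map_inv, f.apply_symm_apply, h1]
    simpa using congrArg Subtype.val this
  · have : f.symm a * ⟨v, hv⟩ * (f.symm a)⁻¹ = ⟨u, hu⟩ * ⟨v, hv⟩ := by
      apply f.injective
      rw [map_mul, map_mul, map_inv, f.apply_symm_apply, h2, map_mul]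
    simpa using congrArg Subtype.val this

theorem a5T_simple (f : T ≃* alternatingGroup (Fin 5)) : IsSimpleGroup T := by
  have : IsSimpleGroup (alternatingGroup (Fin 5)) := alternatingGroup.isSimpleGroup (by simp)
  exact (MulEquiv.isSimpleGroup_congr f).mpr inferInstance

end A5

section S4

variable {S : Type*} [Group S] {T : Subgroup S}

theorem s4T_card (f : T ≃* Equiv.Perm (Fin 4)) : Nat.card T = 24 := by
  rw [Nat.card_congr f.toEquiv, s4_card]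

theorem s4T_fact (f : T ≃* Equiv.Perm (Fin 4)) {y a : S} (hy : y ∈ T) (ha : a ∈ T)
    (hy4 : y ^ 4 = 1) (hy2 : y ^ 2 ≠ 1) (ha3 : a ^ 3 = 1) (ha1 : a ≠ 1) :
    y ^ 2 * a * (y ^ 2)⁻¹ ≠ a⁻¹ := by
  intro h
  apply s4_fact (f ⟨y, hy⟩) (f ⟨a, ha⟩) ((tr_pow_eq_one f hy 4).mpr hy4)
    (fun h1 => hy2 ((tr_pow_eq_one f hy 2).mp h1)) ((tr_pow_eq_one f ha 3).mpr ha3)
    (fun h1 => ha1 ((tr_eq_one f ha).mp h1))
  have h1 : (⟨y, hy⟩ : T) ^ 2 * ⟨a, ha⟩ * ((⟨y, hy⟩ : T) ^ 2)⁻¹ = (⟨a, ha⟩ : T)⁻¹ := by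
    apply Subtype.ext
    simpa using h
  have := congrArg f h1
  rw [map_mul, map_mul, map_inv, map_pow, map_inv] at this
  exact this

theorem s4T_exists_inv (f : T ≃* Equiv.Perm (Fin 4)) :
    ∃ u a : S, u ^ 2 = 1 ∧ u ≠ 1 ∧ a ^ 3 = 1 ∧ a ≠ 1 ∧ u * a * u⁻¹ = a⁻¹ := by
  obtain ⟨u, a, hu2, hu1, ha3, ha1, h⟩ := s4_exists_inv
  refine ⟨(f.symm u : T), (f.symm a : T), ?_, ?_, ?_, ?_, ?_⟩
  · have : (f.symm u) ^ 2 = 1 := by rw [← map_pow, hu2, map_one]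
    simpa using congrArg Subtype.val this
  · intro h
    apply hu1
    have : f.symm u = 1 := Subtype.ext h
    simpa using this
  · have : (f.symm a) ^ 3 = 1 := by rw [← map_pow, ha3, map_one]
    simpa using congrArg Subtype.val this
  · intro h
    apply ha1
    have : f.symm a = 1 := Subtype.ext h
    simpa using this
  · have : f.symm u * f.symm a * (f.symm u)⁻¹ = (f.symm a)⁻¹ := by
      rw [← map_mul, ← map_inv, ← map_mul, h, map_inv]
    simpa using congrArg Subtype.val this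

end S4

end Cfsg.Agent.Helper2.ZasSD
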