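import Mathlib

set_option autoImplicit false
set_option linter.style.haveILetI false
set_option linter.unusedSectionVars false

/-!
# Zassenhaus project, piece SD: computations in the dihedral group `DihedralGroup (4k)`
-/

namespace Cfsg.Agent.Helper2.ZasSD

open DihedralGroup

section dih

variable (k : ℕ) [NeZero k]

instance neZero_four_mul : NeZero (4 * k) := ⟨by have := NeZero.ne k; omega⟩

/-- the element `2k` of `ZMod (4k)` -/
def hlf : ZMod (4 * k) := ((2 * k : ℕ) : ZMod (4 * k))

theorem hlf_add_hlf : hlf k + hlf k = 0 := by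
  unfold hlf
  rw [← Nat.cast_add]
  have : 2 * k + 2 * k = 4 * k := by ring
  rw [this, ZMod.natCast_self]

theorem hlf_ne_zero : hlf k ≠ 0 := by
  unfold hlf
  intro h
  rw [ZMod.natCast_eq_zero_iff] at h
  have hk : 0 < k := Nat.pos_of_ne_zero (NeZero.ne k)
  have := Nat.le_of_dvd (by omega) h
  omega

theorem neg_hlf : -hlf k = hlf k := by
  have := hlf_add_hlf k
  exact neg_eq_of_add_eq_zero_left this

/-- the two-torsion of `ZMod (4k)` -/
theorem two_torsion (j : ZMod (4 * k)) (h : j + j = 0) : j = 0 ∨ j = hlf k := by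
  have hk : 0 < k := Nat.pos_of_ne_zero (NeZero.ne k)
  have hj : j = ((j.val : ℕ) : ZMod (4 * k)) := (ZMod.natCast_zmod_val j).symm
  have hlt : j.val < 4 * k := ZMod.val_lt j
  have h2 : ((j.val + j.val : ℕ) : ZMod (4 * k)) = 0 := by
    rw [Nat.cast_add, ← hj]; exact h
  rw [ZMod.natCast_eq_zero_iff] at h2
  obtain ⟨c, hc⟩ := h2
  have hc' : c = 0 ∨ c = 1 := by
    rcases Nat.lt_or_ge c 2 with h | h
    · omega
    · exfalso
      have : 4 * k * 2 ≤ 4 * k * c := Nat.mul_le_mul_left _ h
      omega
  rcases hc' with rfl | rfl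
  · left
    have : j.val = 0 := by omega
    rw [hj, this, Nat.cast_zero]
  · right
    have : j.val = 2 * k := by omega
    rw [hj, this]; rfl

theorem r_hlf_sq : (r (hlf k) : DihedralGroup (4 * k)) * r (hlf k) = 1 := by
  rw [r_mul_r, hlf_add_hlf]; rfl

theorem r_hlf_ne_one : (r (hlf k) : DihedralGroup (4 * k)) ≠ 1 := by
  intro h
  rw [one_def] at h
  injection h with h
  exact hlf_ne_zero k h

/-- `r (2k)` is central -/
theorem r_hlf_central (z : DihedralGroup (4 * k)) : z * r (hlf k) = r (hlf k) * z := by
  rcases z with j | j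
  · rw [r_mul_r, r_mul_r, add_comm]
  · rw [sr_mul_r, r_mul_sr]
    congr 1
    have := hlf_add_hlf k
    linear_combination this

/-- the central involution is unique -/
theorem central_invol_unique (z : DihedralGroup (4 * k)) (hz : z * z = 1) (hz1 : z ≠ 1)
    (hc : ∀ w : DihedralGroup (4 * k), w * z = z * w) : z = r (hlf k) := by
  rcases z with j | j
  · rw [r_mul_r, one_def] at hz
    injection hz with hz
    rcases two_torsion k j hz with h | h
    · exfalso; apply hz1; rw [h]; rfl
    · rw [h]
  · exfalso
    have h1 := hc (r 1)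
    rw [r_mul_sr, sr_mul_r] at h1
    injection h1 with h1
    have h2 : (1 : ZMod (4 * k)) + 1 = 0 := by linear_combination -h1
    rcases two_torsion k 1 h2 with h | h
    · have hk : 0 < k := Nat.pos_of_ne_zero (NeZero.ne k)
      haveI : Fact (1 < 4 * k) := ⟨by omega⟩
      exact one_ne_zero h
    · have hk : 0 < k := Nat.pos_of_ne_zero (NeZero.ne k)
      have h3 : ((1 : ℕ) : ZMod (4 * k)) = ((2 * k : ℕ) : ZMod (4 * k)) := by
        rw [Nat.cast_one]; exact h
      rw [ZMod.natCast_eq_natCast_iff'] at h3
      rw [Nat.mod_eq_of_lt (by omega), Nat.mod_eq_of_lt (by omega)] at h3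
      omega

/-- the element of order `4` -/
def qtr : ZMod (4 * k) := ((k : ℕ) : ZMod (4 * k))

theorem qtr_add_qtr : qtr k + qtr k = hlf k := by
  unfold qtr hlf
  rw [← Nat.cast_add]
  congr 1
  ring

theorem r_qtr_sq : (r (qtr k) : DihedralGroup (4 * k)) * r (qtr k) = r (hlf k) := by
  rw [r_mul_r, qtr_add_qtr]

theorem r_qtr_conj_sr (i : ZMod (4 * k)) :
    (r (qtr k) : DihedralGroup (4 * k)) * sr i * (r (qtr k))⁻¹ = sr i * r (hlf k) := by
  rw [inv_r, r_mul_sr, sr_mul_r, sr_mul_r]
  congr 1
  have h1 := qtr_add_qtr k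
  have h2 := hlf_add_hlf k
  linear_combination -h1 - h2

theorem r_qtr_conj_r (i : ZMod (4 * k)) :
    (r (qtr k) : DihedralGroup (4 * k)) * r i * (r (qtr k))⁻¹ = r i := by
  rw [inv_r, r_mul_r, r_mul_r]
  congr 1
  ring

/-- commuting distinct involutions of the dihedral group -/
theorem comm_invol_cases (x y : DihedralGroup (4 * k)) (hx : x * x = 1) (hy : y * y = 1)
    (hx1 : x ≠ 1) (hy1 : y ≠ 1) (hxy : x ≠ y) (hc : x * y = y * x) :
    ∃ i, (x = r (hlf k) ∧ y = sr i) ∨ (x = sr i ∧ y = r (hlf k)) ∨
      (x = sr i ∧ y = sr (i + hlf k)) := by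
  rcases x with a | a <;> rcases y with b | b
  · exfalso
    rw [r_mul_r, one_def] at hx hy
    injection hx with hx
    injection hy with hy
    rcases two_torsion k a hx with h | h
    · apply hx1; rw [h]; rfl
    · rcases two_torsion k b hy with h' | h'
      · apply hy1; rw [h']; rfl
      · apply hxy; rw [h, h']
  · refine ⟨b, Or.inl ⟨?_, rfl⟩⟩
    rw [r_mul_r, one_def] at hx
    injection hx with hx
    rcases two_torsion k a hx with h | h
    · exfalso; apply hx1; rw [h]; rfl
    · rw [h]
  · refine ⟨a, Or.inr (Or.inl ⟨rfl, ?_⟩)⟩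
    rw [r_mul_r, one_def] at hy
    injection hy with hy
    rcases two_torsion k b hy with h | h
    · exfalso; apply hy1; rw [h]; rfl
    · rw [h]
  · refine ⟨a, Or.inr (Or.inr ⟨rfl, ?_⟩)⟩
    rw [sr_mul_sr, sr_mul_sr] at hc
    injection hc with hc
    have h2 : (b - a) + (b - a) = 0 := by linear_combination hc
    rcases two_torsion k (b - a) h2 with h | h
    · exfalso
      apply hxy
      have : b = a := by linear_combination h
      rw [this]
    · congr 1
      linear_combination h

theorem sr_mul_r_hlf (i : ZMod (4 * k)) :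
    (sr i : DihedralGroup (4 * k)) * r (hlf k) = sr (i + hlf k) := sr_mul_r i (hlf k)

/-- no elementary abelian subgroup of order `8` -/
theorem no_e8 (x y z : DihedralGroup (4 * k)) (hx : x * x = 1) (hy : y * y = 1) (hz : z * z = 1)
    (hx1 : x ≠ 1) (hy1 : y ≠ 1) (hz1 : z ≠ 1) (hxy : x ≠ y) (hc : x * y = y * x)
    (hxz : x * z = z * x) (hyz : y * z = z * y) : z = x ∨ z = y ∨ z = x * y := by
  -- reduce to the case where `z` commutes with a reflection `sr i`
  have key : ∀ i : ZMod (4 * k), (sr i : DihedralGroup (4 * k)) * z = z * sr i →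
      z = r (hlf k) ∨ z = sr i ∨ z = sr (i + hlf k) := by
    intro i hi
    rcases z with c | c
    · left
      rw [r_mul_r, one_def] at hz
      injection hz with hz
      rcases two_torsion k c hz with h | h
      · exfalso; apply hz1; rw [h]; rfl
      · rw [h]
    · right
      rw [sr_mul_sr, sr_mul_sr] at hi
      injection hi with hi
      have h2 : (c - i) + (c - i) = 0 := by linear_combination hi
      rcases two_torsion k (c - i) h2 with h | h
      · left
        congr 1
        linear_combination h
      · right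
        congr 1
        linear_combination h
  obtain ⟨i, h | h | h⟩ := comm_invol_cases k x y hx hy hx1 hy1 hxy hc
  · obtain ⟨rfl, rfl⟩ := h
    rcases key i hyz with h1 | h1 | h1
    · left; exact h1
    · right; left; exact h1
    · right; right
      rw [h1, r_mul_sr]
      congr 1
      have := hlf_add_hlf k
      linear_combination this
  · obtain ⟨rfl, rfl⟩ := h
    rcases key i hxz with h1 | h1 | h1
    · right; left; exact h1
    · left; exact h1
    · right; right
      rw [h1, sr_mul_r]
  · obtain ⟨rfl, rfl⟩ := h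
    rcases key i hxz with h1 | h1 | h1
    · right; right
      rw [h1, sr_mul_sr]
      congr 1
      ring
    · left; exact h1
    · right; left; exact h1

end dih

end Cfsg.Agent.Helper2.ZasSD
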