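import Mathlib
import Cfsg.Prelude.Def_Transfer
import Cfsg.Agent.Lead.DihedralInvolutions
import Cfsg.Agent.Lead.FourConnected
import Cfsg.Agent.Helper2.DihSub
import Cfsg.Agent.Helper5.SylowSub
import Cfsg.Agent.Helper2.ZasSD2
import Cfsg.Agent.Helper2.ZasSD4

set_option autoImplicit false
set_option linter.style.haveILetI false
set_option linter.unusedSectionVars false

/-!
# Zassenhaus project, piece SD: consequences of dihedral Sylow `2`-subgroups

For a finite group `S` all of whose Sylow `2`-subgroups are isomorphic to `DihedralGroup (4k)`.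
-/

namespace Cfsg.Agent.Helper2.ZasSD

open DihedralGroup Subgroup

variable {S : Type*} [Group S]

section emb

variable {k : ℕ} [NeZero k] {R : Subgroup S}

/-- the embedding of the dihedral group with image `R` -/
def dphi (e : R ≃* DihedralGroup (4 * k)) : DihedralGroup (4 * k) →* S := R.subtype.comp e.symm.toMonoidHom

theorem dphi_mem (e : R ≃* DihedralGroup (4 * k)) (a : DihedralGroup (4 * k)) : dphi e a ∈ R := (e.symm a).2

theorem dphi_apply_e (e : R ≃* DihedralGroup (4 * k)) {x : S} (hx : x ∈ R) : dphi e (e ⟨x, hx⟩) = x := by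
  simp [dphi]

theorem dphi_injective (e : R ≃* DihedralGroup (4 * k)) : Function.Injective (dphi e) :=
  R.subtype_injective.comp e.symm.injective

theorem dphi_eq_one (e : R ≃* DihedralGroup (4 * k)) {a : DihedralGroup (4 * k)} : dphi e a = 1 ↔ a = 1 := by
  constructor
  · intro h
    apply dphi_injective e
    rw [h, map_one]
  · rintro rfl
    exact map_one _

/-- the structure of a four-subgroup of a dihedral subgroup -/
theorem ld8_sub (e : R ≃* DihedralGroup (4 * k)) {u v : S} (hu : u ∈ R) (hv : v ∈ R) (hu2 : orderOf u = 2) (hv2 : orderOf v = 2)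
    (huv : u ≠ v) (hc : u * v = v * u) :
    ∃ t y, (t = u ∨ t = v ∨ t = u * v) ∧ y ∈ R ∧ y * y = t ∧ (∀ w ∈ R, w * t = t * w) ∧
      (∀ z ∈ R, orderOf z = 2 → (∀ w ∈ R, w * z = z * w) → z = t) ∧
      (∀ x, (x = u ∨ x = v ∨ x = u * v) → x ≠ t → y * x * y⁻¹ = x * t) := by
  obtain ⟨hu_sq, hu1⟩ := orderOf_two_iff.mp hu2
  obtain ⟨hv_sq, hv1⟩ := orderOf_two_iff.mp hv2
  set φ := dphi e with hφ
  set x' := e ⟨u, hu⟩ with hx'
  set y' := e ⟨v, hv⟩ with hy'
  have hφx : φ x' = u := dphi_apply_e e hu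
  have hφy : φ y' = v := dphi_apply_e e hv
  have hinj := dphi_injective e
  have h1 : x' * x' = 1 := by
    apply hinj; rw [map_mul, hφx, map_one]; exact hu_sq
  have h2 : y' * y' = 1 := by
    apply hinj; rw [map_mul, hφy, map_one]; exact hv_sq
  have h3 : x' ≠ 1 := by
    intro h; apply hu1; rw [← hφx, h, map_one]
  have h4 : y' ≠ 1 := by
    intro h; apply hv1; rw [← hφy, h, map_one]
  have h5 : x' ≠ y' := by
    intro h; apply huv; rw [← hφx, ← hφy, h]
  have h6 : x' * y' = y' * x' := by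
    apply hinj; rw [map_mul, map_mul, hφx, hφy]; exact hc
  obtain ⟨i, hcases⟩ := comm_invol_cases k x' y' h1 h2 h3 h4 h5 h6
  set t := φ (r (hlf k)) with ht
  set y := φ (r (qtr k)) with hy
  -- every element of `{u, v, uv}` is `t` or the image of a reflection
  have hform : (t = u ∨ t = v ∨ t = u * v) ∧
      ∀ x, (x = u ∨ x = v ∨ x = u * v) → x = t ∨ ∃ j, x = φ (sr j) := by
    rcases hcases with ⟨hx, hy⟩ | ⟨hx, hy⟩ | ⟨hx, hy⟩
    · have hut : u = t := by rw [← hφx, hx]
      have hvs : v = φ (sr i) := by rw [← hφy, hy]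
      refine ⟨Or.inl hut.symm, ?_⟩
      rintro x (rfl | rfl | rfl)
      · exact Or.inl hut
      · exact Or.inr ⟨i, hvs⟩
      · right
        refine ⟨i - hlf k, ?_⟩
        rw [hut, hvs, ht, ← map_mul, r_mul_sr]
    · have hus : u = φ (sr i) := by rw [← hφx, hx]
      have hvt : v = t := by rw [← hφy, hy]
      refine ⟨Or.inr (Or.inl hvt.symm), ?_⟩
      rintro x (rfl | rfl | rfl)
      · exact Or.inr ⟨i, hus⟩
      · exact Or.inl hvt
      · right
        refine ⟨i + hlf k, ?_⟩
        rw [hus, hvt, ht, ← map_mul, sr_mul_r]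
    · have hus : u = φ (sr i) := by rw [← hφx, hx]
      have hvs : v = φ (sr (i + hlf k)) := by rw [← hφy, hy]
      have huvt : u * v = t := by
        rw [hus, hvs, ht, ← map_mul, sr_mul_sr]
        congr 2
        ring
      refine ⟨Or.inr (Or.inr huvt.symm), ?_⟩
      rintro x (rfl | rfl | rfl)
      · exact Or.inr ⟨i, hus⟩
      · exact Or.inr ⟨_, hvs⟩
      · exact Or.inl huvt
  refine ⟨t, y, hform.1, dphi_mem e _, ?_, ?_, ?_, ?_⟩
  · rw [hy, ht, ← map_mul, r_qtr_sq]
  · intro w hw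
    have hw' : w = φ (e ⟨w, hw⟩) := (dphi_apply_e e hw).symm
    rw [hw', ht, ← map_mul, ← map_mul, r_hlf_central]
  · intro z hz hz2 hzc
    obtain ⟨hz_sq, hz1⟩ := orderOf_two_iff.mp hz2
    have hz' : φ (e ⟨z, hz⟩) = z := dphi_apply_e e hz
    have h7 : e ⟨z, hz⟩ = r (hlf k) := by
      apply central_invol_unique k
      · apply hinj; rw [map_mul, hz', map_one]; exact hz_sq
      · intro h; apply hz1; rw [← hz', h, map_one]
      · intro w
        apply hinj
        rw [map_mul, map_mul, hz']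
        exact hzc _ (dphi_mem e w)
    rw [← hz', h7]
  · intro x hx hxt
    rcases hform.2 x hx with h | ⟨j, hj⟩
    · exact absurd h hxt
    · rw [hj, hy, ht, ← map_inv, ← map_mul, ← map_mul, ← map_mul, r_qtr_conj_sr]

/-- no elementary abelian subgroup of order `8` in a dihedral subgroup -/
theorem no_e8_sub (e : R ≃* DihedralGroup (4 * k)) {u v w : S} (hu : u ∈ R) (hv : v ∈ R) (hw : w ∈ R) (hu2 : orderOf u = 2)
    (hv2 : orderOf v = 2) (hw2 : orderOf w = 2) (huv : u ≠ v) (hc : u * v = v * u)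
    (huw : u * w = w * u) (hvw : v * w = w * v) : w = u ∨ w = v ∨ w = u * v := by
  obtain ⟨hu_sq, hu1⟩ := orderOf_two_iff.mp hu2
  obtain ⟨hv_sq, hv1⟩ := orderOf_two_iff.mp hv2
  obtain ⟨hw_sq, hw1⟩ := orderOf_two_iff.mp hw2
  set φ := dphi e with hφ
  have hφx : φ (e ⟨u, hu⟩) = u := dphi_apply_e e hu
  have hφy : φ (e ⟨v, hv⟩) = v := dphi_apply_e e hv
  have hφz : φ (e ⟨w, hw⟩) = w := dphi_apply_e e hw
  have hinj := dphi_injective e
  have := no_e8 k (e ⟨u, hu⟩) (e ⟨v, hv⟩) (e ⟨w, hw⟩)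
    (by apply hinj; rw [map_mul, hφx, map_one]; exact hu_sq)
    (by apply hinj; rw [map_mul, hφy, map_one]; exact hv_sq)
    (by apply hinj; rw [map_mul, hφz, map_one]; exact hw_sq)
    (by intro h; apply hu1; rw [← hφx, h, map_one])
    (by intro h; apply hv1; rw [← hφy, h, map_one])
    (by intro h; apply hw1; rw [← hφz, h, map_one])
    (by intro h; apply huv; rw [← hφx, ← hφy, h])
    (by apply hinj; rw [map_mul, map_mul, hφx, hφy]; exact hc)
    (by apply hinj; rw [map_mul, map_mul, hφx, hφz]; exact huw)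
    (by apply hinj; rw [map_mul, map_mul, hφy, hφz]; exact hvw)
  rcases this with h | h | h
  · left; rw [← hφz, h, hφx]
  · right; left; rw [← hφz, h, hφy]
  · right; right; rw [← hφz, h, map_mul, hφx, hφy]

end emb

end Cfsg.Agent.Helper2.ZasSD
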