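import Mathlib
import Cfsg.Agent.Helper2.ZasSD5

set_option autoImplicit false
set_option linter.style.haveILetI false
set_option linter.unusedSectionVars false

/-!
# Zassenhaus project, piece SD: groups with dihedral Sylow `2`-subgroups, global consequences
-/

namespace Cfsg.Agent.Helper2.ZasSD

open DihedralGroup Subgroup

variable {S : Type*} [Group S] [Finite S] {k : ℕ} [NeZero k]

/-- the structure of a four-subgroup of a Sylow `2`-subgroup -/
theorem ld8 (hD : ∀ R : Sylow 2 S, Nonempty ((R : Subgroup S) ≃* DihedralGroup (4 * k)))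
    (R : Sylow 2 S) {u v : S} (hu : u ∈ (R : Subgroup S)) (hv : v ∈ (R : Subgroup S))
    (hu2 : orderOf u = 2) (hv2 : orderOf v = 2) (huv : u ≠ v) (hc : u * v = v * u) :
    ∃ t y, (t = u ∨ t = v ∨ t = u * v) ∧ y ∈ (R : Subgroup S) ∧ y * y = t ∧
      (∀ w ∈ (R : Subgroup S), w * t = t * w) ∧
      (∀ z ∈ (R : Subgroup S), orderOf z = 2 → (∀ w ∈ (R : Subgroup S), w * z = z * w) → z = t) ∧
      (∀ x, (x = u ∨ x = v ∨ x = u * v) → x ≠ t → y * x * y⁻¹ = x * t) := by
  obtain ⟨e⟩ := hD R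
  exact ld8_sub e hu hv hu2 hv2 huv hc

theorem exists_central_invol
    (hD : ∀ R : Sylow 2 S, Nonempty ((R : Subgroup S) ≃* DihedralGroup (4 * k)))
    (R : Sylow 2 S) :
    ∃ t ∈ (R : Subgroup S), orderOf t = 2 ∧ ∀ w ∈ (R : Subgroup S), w * t = t * w := by
  obtain ⟨e⟩ := hD R
  refine ⟨dphi e (r (hlf k)), dphi_mem e _, ?_, ?_⟩
  · rw [orderOf_two_iff]
    refine ⟨?_, ?_⟩
    · rw [← map_mul, r_hlf_sq, map_one]
    · intro h
      exact r_hlf_ne_one k ((dphi_eq_one e).mp h)
  · intro w hw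
    have hw' : w = dphi e (e ⟨w, hw⟩) := (dphi_apply_e e hw).symm
    rw [hw', ← map_mul, ← map_mul, r_hlf_central]

theorem isPGroup_fourOf {u v : S} (hu : u * u = 1) (hv : v * v = 1) (hc : u * v = v * u)
    (hu1 : u ≠ 1) (hv1 : v ≠ 1) (huv : u ≠ v) :
    IsPGroup 2 (Cfsg.Agent.Lead.fourOf u v hu hv hc) := by
  haveI : Fact (Nat.Prime 2) := ⟨Nat.prime_two⟩
  have h := Cfsg.Agent.Lead.fourOf_isKleinFour u v hu hv hc hu1 hv1 huv
  apply IsPGroup.of_card (n := 2)
  rw [h.card_four]; norm_num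

/-- no elementary abelian subgroup of order `8` -/
theorem no_e8' (hD : ∀ R : Sylow 2 S, Nonempty ((R : Subgroup S) ≃* DihedralGroup (4 * k)))
    {u v w : S} (hu2 : orderOf u = 2) (hv2 : orderOf v = 2) (hw2 : orderOf w = 2) (huv : u ≠ v)
    (hc : u * v = v * u) (huw : u * w = w * u) (hvw : v * w = w * v) :
    w = u ∨ w = v ∨ w = u * v := by
  haveI : Fact (Nat.Prime 2) := ⟨Nat.prime_two⟩
  obtain ⟨hu_sq, hu1⟩ := orderOf_two_iff.mp hu2
  obtain ⟨hv_sq, hv1⟩ := orderOf_two_iff.mp hv2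
  obtain ⟨hw_sq, hw1⟩ := orderOf_two_iff.mp hw2
  set V := Cfsg.Agent.Lead.fourOf u v hu_sq hv_sq hc with hV
  have hVp : IsPGroup 2 V := isPGroup_fourOf hu_sq hv_sq hc hu1 hv1 huv
  have hWp : IsPGroup 2 (zpowers w) := by
    apply IsPGroup.of_card (n := 1)
    rw [Nat.card_zpowers, hw2, pow_one]
  have hnorm : zpowers w ≤ normalizer (V : Set S) := by
    rw [zpowers_le, mem_normalizer_iff]
    have hcomm : ∀ x ∈ V, w * x * w⁻¹ = x := by
      intro x hx
      rw [hV, Cfsg.Agent.Lead.mem_fourOf] at hx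
      rcases hx with rfl | rfl | rfl | rfl
      · simp
      · rw [← huw]; group
      · rw [← hvw]; group
      · calc w * (u * v) * w⁻¹ = (w * u) * v * w⁻¹ := by group
          _ = u * (w * v) * w⁻¹ := by rw [← huw]; group
          _ = u * v := by rw [← hvw]; group
    intro x
    constructor
    · intro hx; rw [hcomm x hx]; exact hx
    · intro hx
      have h1 : w⁻¹ * (w * x * w⁻¹) * w = x := by group
      have h2 : w⁻¹ = w := inv_eq_self_of_sq hw_sq
      have h3 := hcomm _ hx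
      rw [h2] at h1 h3
      rw [h2] at hx
      have : w * (w * x * w) * w = x := h1
      rw [← h1]
      rw [h3]
      exact hx
  have hQp : IsPGroup 2 (V ⊔ zpowers w : Subgroup S) :=
    IsPGroup.to_sup_of_normal_left' hVp hWp hnorm
  obtain ⟨R, hR⟩ := hQp.exists_le_sylow
  obtain ⟨e⟩ := hD R
  have huR : u ∈ (R : Subgroup S) := hR (le_sup_left (a := V) (by
    rw [hV, Cfsg.Agent.Lead.mem_fourOf]; exact Or.inr (Or.inl rfl)))
  have hvR : v ∈ (R : Subgroup S) := hR (le_sup_left (a := V) (by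
    rw [hV, Cfsg.Agent.Lead.mem_fourOf]; exact Or.inr (Or.inr (Or.inl rfl))))
  have hwR : w ∈ (R : Subgroup S) := hR (le_sup_right (b := zpowers w) (mem_zpowers w))
  exact no_e8_sub e huR hvR hwR hu2 hv2 hw2 huv hc huw hvw

/-- an element of odd order normalizing a `2`-subgroup that is neither cyclic nor a four-group
centralizes it -/
theorem aut_dih (hD : ∀ R : Sylow 2 S, Nonempty ((R : Subgroup S) ≃* DihedralGroup (4 * k)))
    (Q : Subgroup S) (hQ : IsPGroup 2 Q) (hnc : ¬ IsCyclic Q) (hnk : ¬ IsKleinFour Q) {a : S}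
    (ha : a ∈ normalizer (Q : Set S)) (hodd : Odd (orderOf a)) : a ∈ centralizer (Q : Set S) := by
  haveI : Fact (Nat.Prime 2) := ⟨Nat.prime_two⟩
  obtain ⟨R, hR⟩ := hQ.exists_le_sylow
  obtain ⟨e⟩ := hD R
  let f : Q →* DihedralGroup (4 * k) := e.toMonoidHom.comp (Subgroup.inclusion hR)
  have hf : Function.Injective f := e.injective.comp (Subgroup.inclusion_injective hR)
  rcases DihSub.sub_cases hQ (4 * k) f hf with h | h | h
  · exact absurd h hnc
  · exact absurd h hnk
  · have h1 : (Q.normalizerMonoidHom ⟨a, ha⟩) ^ orderOf a = 1 := by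
      rw [← map_pow]
      have : (⟨a, ha⟩ : normalizer (Q : Set S)) ^ orderOf a = 1 := by
        apply Subtype.ext
        simp [pow_orderOf_eq_one]
      rw [this, map_one]
    have h2 := h _ _ hodd h1
    have h3 : (⟨a, ha⟩ : normalizer (Q : Set S)) ∈ Q.normalizerMonoidHom.ker := h2
    rw [Subgroup.normalizerMonoidHom_ker, Subgroup.mem_subgroupOf] at h3
    exact h3

section simple

variable [IsSimpleGroup S]

theorem pResidual_two_normal : (Cfsg.pResidual 2 S).Normal := by
  constructor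
  intro n hn g
  unfold Cfsg.pResidual at hn ⊢
  induction hn using Subgroup.closure_induction with
  | mem x hx =>
    apply Subgroup.subset_closure
    change Nat.Coprime (orderOf (g * x * g⁻¹)) 2
    rw [orderOf_conj_eq]
    exact hx
  | one => simp
  | mul x y _ _ hx hy =>
    have : g * (x * y) * g⁻¹ = (g * x * g⁻¹) * (g * y * g⁻¹) := by group
    rw [this]
    exact Subgroup.mul_mem _ hx hy
  | inv x _ hx =>
    have : g * x⁻¹ * g⁻¹ = (g * x * g⁻¹)⁻¹ := by group
    rw [this]
    exact Subgroup.inv_mem _ hx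

theorem not_comm_of_dihedral
    (hD : ∀ R : Sylow 2 S, Nonempty ((R : Subgroup S) ≃* DihedralGroup (4 * k))) :
    ∃ a b : S, a * b ≠ b * a := by
  haveI : Fact (Nat.Prime 2) := ⟨Nat.prime_two⟩
  obtain ⟨R⟩ : Nonempty (Sylow 2 S) := inferInstance
  obtain ⟨e⟩ := hD R
  refine ⟨dphi e (sr 0), dphi e (r 1), ?_⟩
  intro h
  rw [← map_mul, ← map_mul] at h
  have h1 := dphi_injective e h
  rw [sr_mul_r, r_mul_sr] at h1
  injection h1 with h1
  have h2 : (1 : ZMod (4 * k)) + 1 = 0 := by linear_combination h1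
  have hk : 0 < k := Nat.pos_of_ne_zero (NeZero.ne k)
  rcases two_torsion k 1 h2 with h3 | h3
  · haveI : Fact (1 < 4 * k) := ⟨by omega⟩
    exact one_ne_zero h3
  · have h4 : ((1 : ℕ) : ZMod (4 * k)) = ((2 * k : ℕ) : ZMod (4 * k)) := by
      rw [Nat.cast_one]
      exact h3.trans (by rfl)
    rw [ZMod.natCast_eq_natCast_iff'] at h4
    rw [Nat.mod_eq_of_lt (by omega), Nat.mod_eq_of_lt (by omega)] at h4
    omega

theorem pResidual_two_eq_top
    (hD : ∀ R : Sylow 2 S, Nonempty ((R : Subgroup S) ≃* DihedralGroup (4 * k))) :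
    Cfsg.pResidual 2 S = ⊤ := by
  haveI : Fact (Nat.Prime 2) := ⟨Nat.prime_two⟩
  rcases (pResidual_two_normal (S := S)).eq_bot_or_eq_top with h | h
  · exfalso
    -- `S` is a `2`-group
    have hp : IsPGroup 2 S := by
      intro g
      obtain ⟨a, b, hb, hab⟩ := Nat.exists_eq_two_pow_mul_odd (orderOf_pos g).ne'
      refine ⟨a, ?_⟩
      have h1 : g ^ (2 ^ a) ∈ Cfsg.pResidual 2 S := by
        apply Subgroup.subset_closure
        change Nat.Coprime (orderOf (g ^ (2 ^ a))) 2
        rw [orderOf_pow' g (by positivity), hab, Nat.gcd_eq_right (Dvd.intro _ rfl),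
          Nat.mul_div_cancel_left _ (by positivity)]
        exact Nat.coprime_two_right.mpr hb
      rw [h, Subgroup.mem_bot] at h1
      exact h1
    have hnt : Nontrivial (Subgroup.center S) := IsPGroup.center_nontrivial hp
    have hc : Subgroup.center S = ⊤ := by
      rcases (inferInstance : (Subgroup.center S).Normal).eq_bot_or_eq_top with h' | h'
      · exfalso
        rw [h'] at hnt
        exact not_nontrivial _ hnt
      · exact h'
    obtain ⟨a, b, hab⟩ := not_comm_of_dihedral hD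
    apply hab
    have : b ∈ Subgroup.center S := by rw [hc]; exact Subgroup.mem_top b
    exact Subgroup.mem_center_iff.mp this a
  · exact h

/-- all involutions are conjugate -/
theorem invol_conj (hD : ∀ R : Sylow 2 S, Nonempty ((R : Subgroup S) ≃* DihedralGroup (4 * k)))
    {x y : S} (hx : orderOf x = 2) (hy : orderOf y = 2) : ∃ g : S, g * x * g⁻¹ = y := by
  haveI : Fact (Nat.Prime 2) := ⟨Nat.prime_two⟩
  obtain ⟨R⟩ : Nonempty (Sylow 2 S) := inferInstance
  obtain ⟨e⟩ := hD R
  obtain ⟨j, hj⟩ := IsPGroup.iff_card.mp R.isPGroup'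
  have hcard : Nat.card (R : Subgroup S) = 2 * (4 * k) := by
    rw [Nat.card_congr e.toEquiv, DihedralGroup.nat_card]
  have hk : 0 < k := Nat.pos_of_ne_zero (NeZero.ne k)
  have hj3 : 3 ≤ j := by
    by_contra hlt
    push Not at hlt
    have : 2 ^ j ≤ 2 ^ 2 := Nat.pow_le_pow_right (by norm_num) (by omega)
    rw [← hj] at this
    change Nat.card (R : Subgroup S) ≤ 4 at this
    omega
  obtain ⟨n, rfl⟩ : ∃ n, j = n + 1 := ⟨j - 1, by omega⟩
  have h4k : 4 * k = 2 ^ n := by
    have h1 : 2 * (4 * k) = 2 ^ (n + 1) := by rw [← hcard]; exact hj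
    rw [pow_succ] at h1
    omega
  have e' : Nonempty ((R : Subgroup S) ≃* DihedralGroup (2 ^ n)) := by
    rw [← h4k]; exact ⟨e⟩
  exact Cfsg.Agent.Lead.one_class_involutions_of_dihedral R n (by omega) e'
    (pResidual_two_eq_top hD) x y hx hy

end simple

end Cfsg.Agent.Helper2.ZasSD
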