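import Mathlib
import Cfsg.Agent.Helper2.ZasSD6

set_option autoImplicit false
set_option linter.style.haveILetI false
set_option linter.unusedSectionVars false

/-!
# Zassenhaus project, piece SD: the normalizer of a four-group induces `S₃`
-/

namespace Cfsg.Agent.Helper2.ZasSD

open DihedralGroup Subgroup

section algebra

variable {S : Type*} [Group S]

theorem mem_smul_sylow {g : S} {R : Sylow 2 S} {x : S} :
    x ∈ ((g • R : Sylow 2 S) : Subgroup S) ↔ g⁻¹ * x * g ∈ (R : Subgroup S) := by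
  rw [Sylow.coe_subgroup_smul, Subgroup.mem_pointwise_smul_iff_inv_smul_mem]
  rw [MulAut.smul_def, ← map_inv, MulAut.conj_apply, inv_inv]

/-- commuting involutions: basic identities -/
theorem ci_left {u : S} (hu : u * u = 1) (x : S) : u * (u * x) = x := by
  rw [← mul_assoc, hu, one_mul]

theorem ci_right {u : S} (hu : u * u = 1) (x : S) : x * u * u = x := by
  rw [mul_assoc, hu, mul_one]

theorem ci_mid {u v : S} (hv : v * v = 1) (hc : u * v = v * u) : v * (u * v) = u := by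
  rw [hc, ← mul_assoc, hv, one_mul]

theorem ci_mid' {u v : S} (hu : u * u = 1) (hc : u * v = v * u) : u * v * u = v := by
  rw [hc, mul_assoc, hu, mul_one]

theorem mul_ne_left_of_ne_one {u v : S} (hv1 : v ≠ 1) : u * v ≠ u := by
  intro h
  apply hv1
  have := congrArg (fun x => u⁻¹ * x) h
  simpa using this

theorem mul_ne_right_of_ne_one {u v : S} (hu1 : u ≠ 1) : u * v ≠ v := by
  intro h
  apply hu1
  have := congrArg (fun x => x * v⁻¹) h
  simpa using this

theorem mul_sq_of_comm {u v : S} (hu : u * u = 1) (hv : v * v = 1) (hc : u * v = v * u) :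
    u * v * (u * v) = 1 := by
  calc u * v * (u * v) = u * (v * (u * v)) := by group
    _ = u * u := by rw [ci_mid hv hc]
    _ = 1 := hu

theorem orderOf_mul_invol {u v : S} (hu : u * u = 1) (hv : v * v = 1) (hc : u * v = v * u)
    (huv : u ≠ v) : orderOf (u * v) = 2 := by
  rw [orderOf_two_iff]
  refine ⟨mul_sq_of_comm hu hv hc, ?_⟩
  intro h
  apply huv
  calc u = u * (v * v) := by rw [hv, mul_one]
    _ = (u * v) * v := by group
    _ = v := by rw [h, one_mul]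

/-- `g : u ↦ v ↦ uv` implies `g : uv ↦ u` -/
theorem norm3_third {u v g : S} (hv : v * v = 1) (hc : u * v = v * u)
    (h1 : g * u * g⁻¹ = v) (h2 : g * v * g⁻¹ = u * v) : g * (u * v) * g⁻¹ = u := by
  calc g * (u * v) * g⁻¹ = (g * u * g⁻¹) * (g * v * g⁻¹) := by group
    _ = v * (u * v) := by rw [h1, h2]
    _ = u := ci_mid hv hc

/-- the cube of a `3`-cycle centralizes -/
theorem norm3_cube {u v g : S} (hv : v * v = 1) (hc : u * v = v * u)
    (h1 : g * u * g⁻¹ = v) (h2 : g * v * g⁻¹ = u * v) :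
    g ^ 3 * u = u * g ^ 3 ∧ g ^ 3 * v = v * g ^ 3 := by
  have h3 := norm3_third hv hc h1 h2
  have hg3 : g ^ 3 = g * g * g := by rw [pow_succ, pow_succ, pow_one]
  constructor
  · have : g ^ 3 * u * (g ^ 3)⁻¹ = u := by
      calc g ^ 3 * u * (g ^ 3)⁻¹ = g * (g * (g * u * g⁻¹) * g⁻¹) * g⁻¹ := by rw [hg3]; group
        _ = u := by rw [h1, h2, h3]
    calc g ^ 3 * u = (g ^ 3 * u * (g ^ 3)⁻¹) * g ^ 3 := by group
      _ = u * g ^ 3 := by rw [this]
  · have : g ^ 3 * v * (g ^ 3)⁻¹ = v := by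
      calc g ^ 3 * v * (g ^ 3)⁻¹ = g * (g * (g * v * g⁻¹) * g⁻¹) * g⁻¹ := by rw [hg3]; group
        _ = v := by rw [h2, h3, h1]
    calc g ^ 3 * v = (g ^ 3 * v * (g ^ 3)⁻¹) * g ^ 3 := by group
      _ = v * g ^ 3 := by rw [this]

theorem conj_eq_of_comm {c x : S} (h : c * x = x * c) : c * x * c⁻¹ = x := by
  rw [h]; group

theorem comm_pow_of_comm {c x : S} (h : c * x = x * c) (n : ℕ) : c ^ n * x = x * c ^ n :=
  ((Commute.pow_left (show Commute c x from h) n)).eq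

/-- a power `g ^ (3 i + 1)` of a `3`-cycle is again the same `3`-cycle -/
theorem norm3_pow {u v g : S} (hv : v * v = 1) (hc : u * v = v * u)
    (h1 : g * u * g⁻¹ = v) (h2 : g * v * g⁻¹ = u * v) (i : ℕ) :
    g ^ (3 * i + 1) * u * (g ^ (3 * i + 1))⁻¹ = v ∧
      g ^ (3 * i + 1) * v * (g ^ (3 * i + 1))⁻¹ = u * v := by
  obtain ⟨hcu, hcv⟩ := norm3_cube hv hc h1 h2
  have hcv' : (g ^ 3) ^ i * v = v * (g ^ 3) ^ i := comm_pow_of_comm hcv i
  have hcu' : (g ^ 3) ^ i * u = u * (g ^ 3) ^ i := comm_pow_of_comm hcu i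
  have hpow : g ^ (3 * i + 1) = (g ^ 3) ^ i * g := by rw [pow_succ, pow_mul]
  rw [hpow]
  constructor
  · calc (g ^ 3) ^ i * g * u * ((g ^ 3) ^ i * g)⁻¹
        = (g ^ 3) ^ i * (g * u * g⁻¹) * ((g ^ 3) ^ i)⁻¹ := by group
      _ = v := by rw [h1]; exact conj_eq_of_comm hcv'
  · calc (g ^ 3) ^ i * g * v * ((g ^ 3) ^ i * g)⁻¹
        = (g ^ 3) ^ i * (g * v * g⁻¹) * ((g ^ 3) ^ i)⁻¹ := by group
      _ = u * v := by
        rw [h2]
        apply conj_eq_of_comm
        calc (g ^ 3) ^ i * (u * v) = ((g ^ 3) ^ i * u) * v := by group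
          _ = u * ((g ^ 3) ^ i * v) := by rw [hcu']; group
          _ = u * v * (g ^ 3) ^ i := by rw [hcv']; group

/-- from a `3`-cycle to a `3`-cycle of `3`-power order -/
theorem norm3_three [Finite S] {u v g : S} (hv : v * v = 1) (hc : u * v = v * u)
    (h1 : g * u * g⁻¹ = v) (h2 : g * v * g⁻¹ = u * v) :
    ∃ (q : S) (j : ℕ), q ^ (3 ^ j) = 1 ∧ q * u * q⁻¹ = v ∧ q * v * q⁻¹ = u * v := by
  obtain ⟨j, b, hb, hjb⟩ := Nat.exists_eq_pow_mul_and_not_dvd (orderOf_pos g).ne' 3 (by norm_num)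
  have hb2 : b * b % 3 = 1 := by
    have h3 : b % 3 = 1 ∨ b % 3 = 2 := by omega
    rw [Nat.mul_mod]
    rcases h3 with h | h <;> rw [h]
  obtain ⟨i, hi⟩ : ∃ i, b * b = 3 * i + 1 := ⟨b * b / 3, by omega⟩
  refine ⟨g ^ (b * b), j, ?_, ?_⟩
  · rw [← pow_mul]
    have : b * b * 3 ^ j = orderOf g * b := by rw [hjb]; ring
    rw [this, pow_mul, pow_orderOf_eq_one, one_pow]
  · rw [hi]
    exact norm3_pow hv hc h1 h2 i

/-- a point acting as a `3`-cycle, or a point centralizing the four-group together with a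
`3`-element commuting with it and acting as a `3`-cycle -/
theorem point_or_central [Finite S] {u v q : S} {j : ℕ} (hv : v * v = 1)
    (hc : u * v = v * u) (huv : u ≠ v) (hq : q ^ (3 ^ j) = 1)
    (h1 : q * u * q⁻¹ = v) (h2 : q * v * q⁻¹ = u * v) :
    (∃ a, orderOf a = 3 ∧ a * u * a⁻¹ = v ∧ a * v * a⁻¹ = u * v) ∨
      (∃ d, orderOf d = 3 ∧ d * u = u * d ∧ d * v = v * d ∧ q * d = d * q) := by
  have hq1 : q ≠ 1 := by
    rintro rfl
    apply huv
    simpa using h1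
  obtain ⟨i, hi, hoi⟩ := (Nat.dvd_prime_pow Nat.prime_three).mp (orderOf_dvd_of_pow_eq_one hq)
  have hi0 : i ≠ 0 := by
    rintro rfl
    rw [pow_zero, orderOf_eq_one_iff] at hoi
    exact hq1 hoi
  rcases Nat.lt_or_ge i 2 with hlt | hge
  · left
    have : i = 1 := by omega
    rw [this, pow_one] at hoi
    exact ⟨q, hoi, h1, h2⟩
  · right
    obtain ⟨i', rfl⟩ : ∃ i', i = i' + 2 := ⟨i - 2, by omega⟩
    obtain ⟨hcu, hcv⟩ := norm3_cube hv hc h1 h2
    refine ⟨(q ^ 3) ^ (3 ^ i'), ?_, comm_pow_of_comm hcu _, comm_pow_of_comm hcv _, ?_⟩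
    · rw [← pow_mul, orderOf_pow' q (by positivity), hoi]
      have h3 : 3 * 3 ^ i' = 3 ^ (i' + 1) := by ring
      rw [h3, Nat.gcd_eq_right (pow_dvd_pow 3 (by omega)), pow_succ,
        Nat.mul_div_cancel_left _ (by positivity)]
    · rw [← pow_mul]
      exact ((Commute.refl q).pow_right _).eq

end algebra

section sylow

variable {S : Type*} [Group S] [Finite S] {k : ℕ} [NeZero k] [IsSimpleGroup S]

/-- a Sylow `2`-subgroup containing a given `2`-subgroup centralizing the involution `z`,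
in which `z` is central -/
theorem exists_sylow_central
    (hD : ∀ R : Sylow 2 S, Nonempty ((R : Subgroup S) ≃* DihedralGroup (4 * k)))
    {z : S} (hz : orderOf z = 2) (Q : Subgroup S) (hQ : IsPGroup 2 Q)
    (hQz : ∀ x ∈ Q, x * z = z * x) :
    ∃ R : Sylow 2 S, Q ≤ (R : Subgroup S) ∧ z ∈ (R : Subgroup S) ∧
      ∀ w ∈ (R : Subgroup S), w * z = z * w := by
  haveI : Fact (Nat.Prime 2) := ⟨Nat.prime_two⟩
  obtain ⟨R₀⟩ : Nonempty (Sylow 2 S) := inferInstance
  obtain ⟨t₀, ht₀R, ht₀2, ht₀c⟩ := exists_central_invol hD R₀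
  obtain ⟨g, hg⟩ := invol_conj hD ht₀2 hz
  set R₁ : Sylow 2 S := g • R₀ with hR₁
  have hzR₁ : z ∈ (R₁ : Subgroup S) := by
    rw [hR₁, mem_smul_sylow, ← hg]
    have : g⁻¹ * (g * t₀ * g⁻¹) * g = t₀ := by group
    rw [this]; exact ht₀R
  have hzc₁ : ∀ w ∈ (R₁ : Subgroup S), w * z = z * w := by
    intro w hw
    rw [hR₁, mem_smul_sylow] at hw
    have h1 := ht₀c _ hw
    rw [← hg]
    calc w * (g * t₀ * g⁻¹) = g * ((g⁻¹ * w * g) * t₀) * g⁻¹ := by group
      _ = g * (t₀ * (g⁻¹ * w * g)) * g⁻¹ := by rw [h1]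
      _ = g * t₀ * g⁻¹ * w := by group
  set C : Subgroup S := centralizer ({z} : Set S) with hC
  have hmemC : ∀ x, x ∈ C ↔ x * z = z * x := by
    intro x
    rw [hC, mem_centralizer_singleton_iff]
  have hR₁C : (R₁ : Subgroup S) ≤ C := fun w hw => (hmemC w).mpr (hzc₁ w hw)
  have hQC : Q ≤ C := fun x hx => (hmemC x).mpr (hQz x hx)
  obtain ⟨c, hcC, hc⟩ := Cfsg.Agent.Helper5.exists_conj_le_sylow_of_le R₁ C hR₁C Q hQC hQ
  have hcz : c * z = z * c := (hmemC c).mp hcC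
  refine ⟨c⁻¹ • R₁, ?_, ?_, ?_⟩
  · intro x hx
    rw [mem_smul_sylow, inv_inv]
    exact hc x hx
  · rw [mem_smul_sylow, inv_inv, hcz]
    have : z * c * c⁻¹ = z := by group
    rw [this]; exact hzR₁
  · intro w hw
    rw [mem_smul_sylow, inv_inv] at hw
    have h1 := hzc₁ _ hw
    have hcz' : c⁻¹ * z = z * c⁻¹ := by
      calc c⁻¹ * z = c⁻¹ * (z * c) * c⁻¹ := by group
        _ = c⁻¹ * (c * z) * c⁻¹ := by rw [hcz]
        _ = z * c⁻¹ := by group
    have hz' : c⁻¹ * z * c = z := by rw [hcz']; group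
    calc w * z = w * (c⁻¹ * z * c) := by rw [hz']
      _ = c⁻¹ * ((c * w * c⁻¹) * z) * c := by group
      _ = c⁻¹ * (z * (c * w * c⁻¹)) * c := by rw [h1]
      _ = (c⁻¹ * z * c) * w := by group
      _ = z * w := by rw [hz']

/-- the normalizer of a four-group induces a `3`-cycle -/
theorem norm3 (hD : ∀ R : Sylow 2 S, Nonempty ((R : Subgroup S) ≃* DihedralGroup (4 * k)))
    {u v : S} (hu2 : orderOf u = 2) (hv2 : orderOf v = 2) (huv : u ≠ v) (hc : u * v = v * u) :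
    ∃ g : S, g * u * g⁻¹ = v ∧ g * v * g⁻¹ = u * v := by
  haveI : Fact (Nat.Prime 2) := ⟨Nat.prime_two⟩
  obtain ⟨hu_sq, hu1⟩ := orderOf_two_iff.mp hu2
  obtain ⟨hv_sq, hv1⟩ := orderOf_two_iff.mp hv2
  have huv2 : orderOf (u * v) = 2 := orderOf_mul_invol hu_sq hv_sq hc huv
  set V := Cfsg.Agent.Lead.fourOf u v hu_sq hv_sq hc with hV
  have hVp : IsPGroup 2 V := isPGroup_fourOf hu_sq hv_sq hc hu1 hv1 huv
  have huV : u ∈ V := by rw [hV, Cfsg.Agent.Lead.mem_fourOf]; exact Or.inr (Or.inl rfl)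
  have hvV : v ∈ V := by rw [hV, Cfsg.Agent.Lead.mem_fourOf]; exact Or.inr (Or.inr (Or.inl rfl))
  obtain ⟨R, hR⟩ := hVp.exists_le_sylow
  obtain ⟨t, y, ht, -, hyy, htc, -, hconj⟩ := ld8 hD R (hR huV) (hR hvV) hu2 hv2 huv hc
  -- the key step for a pair `(t, s)` of elements of the four-group
  have key : ∀ s, (s = u ∨ s = v ∨ s = u * v) → s ≠ t → orderOf s = 2 →
      (∀ x ∈ V, x * s = s * x) → t * s = s * t →
      ∃ g : S, g * t * g⁻¹ = s ∧ g * s * g⁻¹ = t * s := by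
    intro s hs hst hs2 hsV hts
    obtain ⟨R', hR', hsR', hsc'⟩ := exists_sylow_central hD hs2 V hVp hsV
    obtain ⟨t', y', -, -, hyy', -, huniq', hconj'⟩ :=
      ld8 hD R' (hR' huV) (hR' hvV) hu2 hv2 huv hc
    have hst' : s = t' := huniq' s hsR' hs2 hsc'
    subst hst'
    have h1 : y' * t * y'⁻¹ = t * s := hconj' t ht (Ne.symm hst)
    have h2 : y * s * y⁻¹ = s * t := hconj s hs hst
    have h3 : y * t * y⁻¹ = t := by
      rw [← hyy]; group
    have h4 : y' * s * y'⁻¹ = s := by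
      rw [← hyy']; group
    obtain ⟨hs_sq, -⟩ := orderOf_two_iff.mp hs2
    have ht_sq : t * t = 1 := by
      rcases ht with rfl | rfl | rfl
      · exact hu_sq
      · exact hv_sq
      · exact mul_sq_of_comm hu_sq hv_sq hc
    refine ⟨y * y', ?_, ?_⟩
    · calc y * y' * t * (y * y')⁻¹ = y * (y' * t * y'⁻¹) * y⁻¹ := by group
        _ = (y * t * y⁻¹) * (y * s * y⁻¹) := by rw [h1]; group
        _ = t * (s * t) := by rw [h2, h3]
        _ = s := ci_mid ht_sq hts.symm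
    · calc y * y' * s * (y * y')⁻¹ = y * (y' * s * y'⁻¹) * y⁻¹ := by group
        _ = s * t := by rw [h4, h2]
        _ = t * s := hts.symm
  have hVcomm : ∀ s, (s = u ∨ s = v ∨ s = u * v) → ∀ x ∈ V, x * s = s * x := by
    intro s hs x hx
    have hsV : s ∈ V := by
      rw [hV, Cfsg.Agent.Lead.mem_fourOf]
      rcases hs with h | h | h
      · exact Or.inr (Or.inl h)
      · exact Or.inr (Or.inr (Or.inl h))
      · exact Or.inr (Or.inr (Or.inr h))
    have hK := Cfsg.Agent.Lead.fourOf_isKleinFour u v hu_sq hv_sq hc hu1 hv1 huv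
    exact Cfsg.Agent.Helper2.klein_comm V hK hx hsV
  rcases ht with rfl | rfl | rfl
  · -- `t = u`, take `s = v`
    exact key v (Or.inr (Or.inl rfl)) (Ne.symm huv) hv2 (hVcomm v (Or.inr (Or.inl rfl))) hc
  · -- `t = v`, take `s = u`
    obtain ⟨g, hg1, hg2⟩ := key u (Or.inl rfl) huv hu2 (hVcomm u (Or.inl rfl)) hc.symm
    -- `g : v ↦ u ↦ v u`
    have hg3 : g * (t * u) * g⁻¹ = t := norm3_third hu_sq hc.symm hg1 hg2
    refine ⟨g⁻¹, ?_, ?_⟩
    · rw [inv_inv, ← hg1]; group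
    · rw [inv_inv]
      calc g⁻¹ * t * g = g⁻¹ * (g * (t * u) * g⁻¹) * g := by rw [hg3]
        _ = t * u := by group
        _ = u * t := hc.symm
  · -- `t = u v`, take `s = u`
    have hne : u ≠ u * v := fun h => mul_ne_left_of_ne_one hv1 h.symm
    have hcomm : u * v * u = u * (u * v) := by
      rw [ci_mid' hu_sq hc, ci_left hu_sq]
    obtain ⟨g, hg1, hg2⟩ := key u (Or.inl rfl) hne hu2 (hVcomm u (Or.inl rfl)) hcomm
    have huvu : u * v * u = v := ci_mid' hu_sq hc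
    rw [huvu] at hg2
    refine ⟨g, hg2, ?_⟩
    calc g * v * g⁻¹ = g * (u * v * u) * g⁻¹ := by rw [huvu]
      _ = (g * (u * v) * g⁻¹) * (g * u * g⁻¹) := by group
      _ = u * v := by rw [hg1, hg2]

end sylow

end Cfsg.Agent.Helper2.ZasSD
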