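import Mathlib
import Cfsg.Agent.Helper6.ZasDefs
import Cfsg.Agent.Helper2.ZasSD1
import Cfsg.Agent.Helper2.ZasSD7

set_option autoImplicit false
set_option linter.style.haveILetI false
set_option linter.unusedSectionVars false

/-!
# Zassenhaus project, piece SD: involutions and points

A *point* is a subgroup of order `3`.  Under `SHyp`, an involution commutes with at most one point,
and its centralizer normalizes that point.
-/

namespace Cfsg.Agent.Helper2.ZasSD

open DihedralGroup Subgroup Cfsg.Agent.Helper6.Zas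

section general

variable {S : Type*} [Group S]

/-- in a finite group, an element mapping a subgroup into itself normalizes it -/
theorem mem_normalizer_of_conj_mem [Finite S] (H : Subgroup S) (g : S)
    (h : ∀ x ∈ H, g * x * g⁻¹ ∈ H) : g ∈ normalizer (H : Set S) := by
  have hpow : ∀ n : ℕ, ∀ x ∈ H, g ^ n * x * (g ^ n)⁻¹ ∈ H := by
    intro n
    induction n with
    | zero => intro x hx; simpa using hx
    | succ n ih =>
      intro x hx
      have : g ^ (n + 1) * x * (g ^ (n + 1))⁻¹ = g * (g ^ n * x * (g ^ n)⁻¹) * g⁻¹ := by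
        rw [pow_succ']; group
      rw [this]
      exact h _ (ih x hx)
  rw [mem_normalizer_iff]
  intro x
  constructor
  · exact h x
  · intro hx
    have hpos : 0 < orderOf g := orderOf_pos g
    have hinv : g⁻¹ = g ^ (orderOf g - 1) := by
      apply inv_eq_of_mul_eq_one_left
      rw [← pow_succ, Nat.sub_add_cancel hpos, pow_orderOf_eq_one]
    have := hpow (orderOf g - 1) _ hx
    rw [← hinv] at this
    have h2 : g⁻¹ * (g * x * g⁻¹) * g⁻¹⁻¹ = x := by group
    rwa [h2] at this

theorem mem_fourOf_iff {t s : S} (ht : t * t = 1) (hs : s * s = 1) (hc : t * s = s * t) {x : S} :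
    x ∈ Cfsg.Agent.Lead.fourOf t s ht hs hc ↔ x = 1 ∨ x = t ∨ x = s ∨ x = t * s :=
  Cfsg.Agent.Lead.mem_fourOf

/-- an element mapping `t` and `s` into the four-group normalizes it -/
theorem mem_normalizer_fourOf [Finite S] {t s : S} (ht : t * t = 1) (hs : s * s = 1)
    (hc : t * s = s * t) (g : S)
    (h1 : g * t * g⁻¹ ∈ Cfsg.Agent.Lead.fourOf t s ht hs hc)
    (h2 : g * s * g⁻¹ ∈ Cfsg.Agent.Lead.fourOf t s ht hs hc) :
    g ∈ normalizer ((Cfsg.Agent.Lead.fourOf t s ht hs hc : Subgroup S) : Set S) := by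
  apply mem_normalizer_of_conj_mem
  intro x hx
  rw [mem_fourOf_iff] at hx
  rcases hx with rfl | rfl | rfl | rfl
  · have : g * 1 * g⁻¹ = 1 := by group
    rw [this]
    exact Subgroup.one_mem _
  · exact h1
  · exact h2
  · have : g * (t * s) * g⁻¹ = (g * t * g⁻¹) * (g * s * g⁻¹) := by group
    rw [this]
    exact Subgroup.mul_mem _ h1 h2

/-- the elements of the normalizer of the four-group permute `t, s, ts` -/
theorem normalizer_fourOf_perm {t s : S} (ht : t * t = 1) (hs : s * s = 1)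
    (hc : t * s = s * t) {g : S}
    (hg : g ∈ normalizer ((Cfsg.Agent.Lead.fourOf t s ht hs hc : Subgroup S) : Set S)) {x : S}
    (hx : x = t ∨ x = s ∨ x = t * s) (hx1 : x ≠ 1) :
    g * x * g⁻¹ = t ∨ g * x * g⁻¹ = s ∨ g * x * g⁻¹ = t * s := by
  have hxV : x ∈ Cfsg.Agent.Lead.fourOf t s ht hs hc := by
    rw [mem_fourOf_iff]; exact Or.inr hx
  have := (mem_normalizer_iff.mp hg x).mp hxV
  rw [mem_fourOf_iff] at this
  rcases this with h | h | h | h
  · exfalso
    apply hx1
    have h2 : x = g⁻¹ * (g * x * g⁻¹) * g := by group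
    rw [h2, h]; group
  · exact Or.inl h
  · exact Or.inr (Or.inl h)
  · exact Or.inr (Or.inr h)

end general

section shyp

variable {S : Type*} [Group S] [Finite S] {k : ℕ} [NeZero k] [IsSimpleGroup S]

/-- a proper subgroup: the centralizer of an involution -/
theorem centralizer_ne_top
    (hD : ∀ R : Sylow 2 S, Nonempty ((R : Subgroup S) ≃* DihedralGroup (4 * k)))
    {u : S} (hu1 : u ≠ 1) : centralizer ({u} : Set S) ≠ ⊤ := by
  intro h
  have huc : u ∈ Subgroup.center S := by
    rw [Subgroup.mem_center_iff]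
    intro g
    have : g ∈ centralizer ({u} : Set S) := by rw [h]; exact Subgroup.mem_top g
    rw [mem_centralizer_singleton_iff] at this
    exact this
  rcases (inferInstance : (Subgroup.center S).Normal).eq_bot_or_eq_top with h' | h'
  · rw [h', Subgroup.mem_bot] at huc
    exact hu1 huc
  · obtain ⟨a, b, hab⟩ := not_comm_of_dihedral hD
    apply hab
    have : b ∈ Subgroup.center S := by rw [h']; exact Subgroup.mem_top b
    exact Subgroup.mem_center_iff.mp this a

/-- an involution commutes with at most one point, and its centralizer normalizes that point -/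
theorem invol_point (hD : ∀ R : Sylow 2 S, Nonempty ((R : Subgroup S) ≃* DihedralGroup (4 * k)))
    (hS : SHyp S) {u a : S} (hu : orderOf u = 2) (ha : orderOf a = 3) (hua : u * a = a * u)
    {x : S} (hxu : x * u = u * x) (hx3 : x ^ 3 = 1) : x ∈ zpowers a := by
  obtain ⟨hu_sq, hu1⟩ := orderOf_two_iff.mp hu
  obtain ⟨ha3, ha1⟩ := orderOf_three_iff.mp ha
  set X := centralizer ({u} : Set S) with hX
  have hmemX : ∀ g, g ∈ X ↔ g * u = u * g := by
    intro g
    rw [hX, mem_centralizer_singleton_iff]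
  have hXne : X ≠ ⊤ := centralizer_ne_top hD hu1
  set T := threeGen X with hT
  have hgen : ∀ g, g ∈ X → g ^ 3 = 1 → g ∈ T := by
    intro g hg hg3
    exact Subgroup.subset_closure ⟨hg, hg3⟩
  have hTX : T ≤ X := (Subgroup.closure_le X).mpr (fun g hg => hg.1)
  have haT : a ∈ T := hgen a ((hmemX a).mpr hua.symm) ha3
  have hxT : x ∈ T := hgen x ((hmemX x).mpr hxu) hx3
  have hTcomm : ∀ g ∈ T, g * u = u * g := fun g hg => (hmemX g).mp (hTX hg)
  -- the contradiction from an `E₈`
  have he8 : ∀ u₁ v₁ : S, u₁ ∈ T → v₁ ∈ T → u₁ ^ 2 = 1 → v₁ ^ 2 = 1 → u₁ ≠ 1 → v₁ ≠ 1 →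
      u₁ ≠ v₁ → u₁ * v₁ = v₁ * u₁ → u ∈ T := by
    intro u₁ v₁ hu₁T hv₁T hu₁2 hv₁2 hu₁1 hv₁1 hne hc
    have ho1 : orderOf u₁ = 2 := orderOf_two_iff.mpr ⟨by rw [← pow_two]; exact hu₁2, hu₁1⟩
    have ho2 : orderOf v₁ = 2 := orderOf_two_iff.mpr ⟨by rw [← pow_two]; exact hv₁2, hv₁1⟩
    rcases no_e8' hD ho1 ho2 hu hne hc (hTcomm u₁ hu₁T) (hTcomm v₁ hv₁T) with h | h | h
    · rw [h]; exact hu₁T
    · rw [h]; exact hv₁T
    · rw [h]; exact T.mul_mem hu₁T hv₁T
  rcases hS.hM X hXne with h | h | ⟨⟨f⟩⟩ | ⟨⟨f⟩⟩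
  · exfalso
    apply ha1
    have hsub : Subsingleton T := (Nat.card_eq_one_iff_unique.mp h).1
    have := Subsingleton.elim (⟨a, haT⟩ : T) 1
    exact congrArg Subtype.val this
  · have hle : zpowers a ≤ T := by rw [zpowers_le]; exact haT
    have heq : zpowers a = T := by
      apply Subgroup.eq_of_le_of_card_ge hle
      rw [h, Nat.card_zpowers, ha]
    rw [heq]; exact hxT
  · exfalso
    obtain ⟨u₁, v₁, hu₁T, hv₁T, hu₁2, hv₁2, hu₁1, hv₁1, hne, hc⟩ := a4T_exists_inv f
    have huT := he8 u₁ v₁ hu₁T hv₁T hu₁2 hv₁2 hu₁1 hv₁1 hne hc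
    exact a4T_no6 f huT haT (by rw [pow_two]; exact hu_sq) hu1 ha3 ha1 hua
  · exfalso
    obtain ⟨u₁, v₁, hu₁T, hv₁T, hu₁2, hv₁2, hu₁1, hv₁1, hne, hc⟩ := a5T_exists_inv f
    have huT := he8 u₁ v₁ hu₁T hv₁T hu₁2 hv₁2 hu₁1 hv₁1 hne hc
    exact a5T_no6 f huT haT (by rw [pow_two]; exact hu_sq) hu1 ha3 ha1 hua

/-- the centralizer of an involution normalizes its point -/
theorem invol_point_conj
    (hD : ∀ R : Sylow 2 S, Nonempty ((R : Subgroup S) ≃* DihedralGroup (4 * k)))
    (hS : SHyp S) {u a g : S} (hu : orderOf u = 2) (ha : orderOf a = 3) (hua : u * a = a * u)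
    (hgu : g * u = u * g) : g * a * g⁻¹ = a ∨ g * a * g⁻¹ = a⁻¹ := by
  obtain ⟨ha3, -⟩ := orderOf_three_iff.mp ha
  apply conj_eq_or_inv_of_mem_zpowers ha
  apply invol_point hD hS hu ha hua
  · calc g * a * g⁻¹ * u = g * (a * (g⁻¹ * u * g)) * g⁻¹ := by group
      _ = g * (a * u) * g⁻¹ := by
        have : g⁻¹ * u * g = u := by
          calc g⁻¹ * u * g = g⁻¹ * (u * g) := by group
            _ = g⁻¹ * (g * u) := by rw [hgu]
            _ = u := by group
        rw [this]
      _ = g * (u * a) * g⁻¹ := by rw [hua]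
      _ = (g * u) * a * g⁻¹ := by group
      _ = u * (g * a * g⁻¹) := by rw [hgu]; group
  · rw [conj_pow, ha3]; group

/-- a four-group cannot be normalized nontrivially by one point and centralized by another -/
theorem no_mixed (hS : SHyp S) {t s a d : S} (ht : orderOf t = 2) (hs : orderOf s = 2)
    (hc : t * s = s * t) (hts : t ≠ s) (ha : orderOf a = 3) (hd : orderOf d = 3)
    (hdt : d * t = t * d) (hds : d * s = s * d)
    (ha1 : a * t * a⁻¹ = s) (ha2 : a * s * a⁻¹ = t * s) : False := by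
  haveI : Fact (Nat.Prime 3) := ⟨Nat.prime_three⟩
  obtain ⟨ht_sq, ht1⟩ := orderOf_two_iff.mp ht
  obtain ⟨hs_sq, hs1⟩ := orderOf_two_iff.mp hs
  set V := Cfsg.Agent.Lead.fourOf t s ht_sq hs_sq hc with hV
  set N := normalizer (V : Set S) with hN
  have htV : t ∈ V := by rw [hV, mem_fourOf_iff]; exact Or.inr (Or.inl rfl)
  have hsV : s ∈ V := by rw [hV, mem_fourOf_iff]; exact Or.inr (Or.inr (Or.inl rfl))
  have htsV : t * s ∈ V := V.mul_mem htV hsV
  have haN : a ∈ N := by
    apply mem_normalizer_fourOf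
    · rw [ha1]; exact hsV
    · rw [ha2]; exact htsV
  have hdN : d ∈ N := by
    apply mem_normalizer_fourOf
    · rw [hdt]; have : t * d * d⁻¹ = t := by group
      rw [this]; exact htV
    · rw [hds]; have : s * d * d⁻¹ = s := by group
      rw [this]; exact hsV
  have hcycN : ∀ P : Sylow 3 N, IsCyclic P :=
    sylow_cyclic_of_le (hS.oddSylow 3 (by norm_num)) N
  obtain ⟨n, hn⟩ := exists_conj_mem_zpowers hcycN (a := (⟨a, haN⟩ : N)) (d := (⟨d, hdN⟩ : N))
    (by rw [Subgroup.orderOf_mk]; exact ha) (by rw [Subgroup.orderOf_mk]; exact hd)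
  obtain ⟨j, hj⟩ := Subgroup.mem_zpowers_iff.mp hn
  have hj' : ((n : S) * d * (n : S)⁻¹) ^ j = a := by
    have := congrArg Subtype.val hj
    simpa using this
  -- `n d n⁻¹` centralizes `t`
  have hnt : (n : S)⁻¹ * t * (n : S) ∈ V := by
    have hn' : (n : S)⁻¹ ∈ N := N.inv_mem n.2
    have := (mem_normalizer_iff.mp hn' t).mp htV
    simpa using this
  have hdV : ∀ x ∈ V, d * x = x * d := by
    intro x hx
    rw [hV, mem_fourOf_iff] at hx
    rcases hx with rfl | rfl | rfl | rfl
    · simp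
    · exact hdt
    · exact hds
    · calc d * (t * s) = (d * t) * s := by group
        _ = t * (d * s) := by rw [hdt]; group
        _ = t * s * d := by rw [hds]; group
  have hcomm : ((n : S) * d * (n : S)⁻¹) * t = t * ((n : S) * d * (n : S)⁻¹) := by
    have h1 := hdV _ hnt
    calc (n : S) * d * (n : S)⁻¹ * t = (n : S) * (d * ((n : S)⁻¹ * t * (n : S))) * (n : S)⁻¹ := by
          group
      _ = (n : S) * (((n : S)⁻¹ * t * (n : S)) * d) * (n : S)⁻¹ := by rw [h1]
      _ = t * ((n : S) * d * (n : S)⁻¹) := by group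
  have hat : a * t = t * a := by
    rw [← hj']
    exact ((Commute.zpow_left (show Commute ((n : S) * d * (n : S)⁻¹) t from hcomm) j)).eq
  apply hts
  rw [← ha1, hat]; group

end shyp

end Cfsg.Agent.Helper2.ZasSD
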