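import Mathlib
import Cfsg.Agent.Helper2.ZasSD3
import Cfsg.Agent.Helper2.ZasSD8

set_option autoImplicit false
set_option linter.style.haveILetI false
set_option linter.unusedSectionVars false

/-!
# Zassenhaus project, piece SD: no point centralizes a four-group, case (β)

`y` of order `4` with `y² = t`, normalizing the four-group `⟨t, s⟩` and inverting the point `d`
which centralizes the four-group: contradiction via an `A₅`.
-/

namespace Cfsg.Agent.Helper2.ZasSD

open DihedralGroup Subgroup Cfsg.Agent.Helper6.Zas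

section general

variable {S : Type*} [Group S]

theorem conj_mem_closure {g : S} {A : Set S} {K : Subgroup S}
    (h : ∀ x ∈ A, g * x * g⁻¹ ∈ K) : ∀ x ∈ closure A, g * x * g⁻¹ ∈ K := by
  intro x hx
  induction hx using Subgroup.closure_induction with
  | mem x hx => exact h x hx
  | one => simp
  | mul x y _ _ hx hy =>
    have : g * (x * y) * g⁻¹ = (g * x * g⁻¹) * (g * y * g⁻¹) := by group
    rw [this]
    exact K.mul_mem hx hy
  | inv x _ hx =>
    have : g * x⁻¹ * g⁻¹ = (g * x * g⁻¹)⁻¹ := by group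
    rw [this]
    exact K.inv_mem hx

theorem comm_of_conj_eq {g x : S} (h : g * x * g⁻¹ = x) : g * x = x * g := by
  calc g * x = (g * x * g⁻¹) * g := by group
    _ = x * g := by rw [h]

theorem conj_inv_of_conj_inv {g a : S} (h : g * a * g⁻¹ = a⁻¹) : g * a⁻¹ * g⁻¹ = a := by
  have : g * a⁻¹ * g⁻¹ = (g * a * g⁻¹)⁻¹ := by group
  rw [this, h, inv_inv]

end general

section beta

variable {S : Type*} [Group S] [Finite S] {k : ℕ} [NeZero k] [IsSimpleGroup S]

theorem d1_beta (hD : ∀ R : Sylow 2 S, Nonempty ((R : Subgroup S) ≃* DihedralGroup (4 * k)))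
    (hS : SHyp S) {t s y d : S} (ht : orderOf t = 2) (hs : orderOf s = 2) (hc : t * s = s * t)
    (hts : t ≠ s) (hyy : y * y = t) (hys : y * s * y⁻¹ = s * t) (hd : orderOf d = 3)
    (hdt : d * t = t * d) (hds : d * s = s * d) (hyd : y * d * y⁻¹ = d⁻¹) : False := by
  haveI : Fact (Nat.Prime 2) := ⟨Nat.prime_two⟩
  obtain ⟨ht_sq, ht1⟩ := orderOf_two_iff.mp ht
  obtain ⟨hs_sq, hs1⟩ := orderOf_two_iff.mp hs
  obtain ⟨hd3, hd1⟩ := orderOf_three_iff.mp hd
  have hsi : s⁻¹ = s := inv_eq_self_of_sq hs_sq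
  have hti : t⁻¹ = t := inv_eq_self_of_sq ht_sq
  have hyt : y * t = t * y := by rw [← hyy]; group
  have hys' : y * s = s * t * y := by
    calc y * s = (y * s * y⁻¹) * y := by group
      _ = s * t * y := by rw [hys]
  -- the involution `t₂ = s y`
  set t₂ := s * y with ht₂
  have ht₂_sq : t₂ * t₂ = 1 := by
    calc t₂ * t₂ = s * (y * s) * y := by rw [ht₂]; group
      _ = s * (s * t * y) * y := by rw [hys']
      _ = (s * s) * t * (y * y) := by group
      _ = 1 := by rw [hs_sq, hyy, one_mul, ht_sq]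
  have ht₂1 : t₂ ≠ 1 := by
    intro h
    apply ht1
    have hy : y = s := by
      calc y = s⁻¹ * (s * y) := by group
        _ = s := by rw [← ht₂, h, mul_one, hsi]
    rw [← hyy, hy, hs_sq]
  have ht₂o : orderOf t₂ = 2 := orderOf_two_iff.mpr ⟨ht₂_sq, ht₂1⟩
  have ht₂i : t₂⁻¹ = t₂ := inv_eq_self_of_sq ht₂_sq
  have ht₂t : t₂ * t = t * t₂ := by
    calc t₂ * t = s * (y * t) := by rw [ht₂]; group
      _ = s * (t * y) := by rw [hyt]
      _ = (s * t) * y := by group
      _ = (t * s) * y := by rw [hc]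
      _ = t * t₂ := by rw [ht₂]; group
  have ht₂d : t₂ * d * t₂⁻¹ = d⁻¹ := by
    calc t₂ * d * t₂⁻¹ = s * (y * d * y⁻¹) * s⁻¹ := by rw [ht₂]; group
      _ = s * d⁻¹ * s⁻¹ := by rw [hyd]
      _ = (s * d * s⁻¹)⁻¹ := by group
      _ = d⁻¹ := by rw [← hds]; group
  -- the point of `t₂`
  obtain ⟨g₂, hg₂⟩ := invol_conj hD ht ht₂o
  set a₂ := g₂ * d * g₂⁻¹ with ha₂
  have ha₂o : orderOf a₂ = 3 := by rw [ha₂, orderOf_conj_eq]; exact hd
  obtain ⟨ha₂3, ha₂1⟩ := orderOf_three_iff.mp ha₂o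
  have ht₂a₂ : t₂ * a₂ = a₂ * t₂ := by
    rw [← hg₂, ha₂]
    calc g₂ * t * g₂⁻¹ * (g₂ * d * g₂⁻¹) = g₂ * (t * d) * g₂⁻¹ := by group
      _ = g₂ * (d * t) * g₂⁻¹ := by rw [hdt]
      _ = g₂ * d * g₂⁻¹ * (g₂ * t * g₂⁻¹) := by group
  -- `t` inverts `a₂`
  have hta₂ : t * a₂ * t⁻¹ = a₂⁻¹ := by
    rcases invol_point_conj hD hS ht₂o ha₂o ht₂a₂ ht₂t.symm with h | h
    · exfalso
      have hta : t * a₂ = a₂ * t := comm_of_conj_eq h
      have hmem : a₂ ∈ zpowers d := invol_point hD hS ht hd hdt.symm hta.symm ha₂3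
      have hcomm : t₂ * d = d * t₂ := by
        rcases mem_zpowers_three hd hmem with h1 | h1 | h1
        · exact absurd h1 ha₂1
        · rw [← h1]; exact ht₂a₂
        · have h2 : d = a₂⁻¹ := by rw [h1, inv_inv]
          rw [h2]
          calc t₂ * a₂⁻¹ = (a₂ * t₂⁻¹)⁻¹ := by group
            _ = (a₂ * t₂)⁻¹ := by rw [ht₂i]
            _ = (t₂ * a₂)⁻¹ := by rw [ht₂a₂]
            _ = a₂⁻¹ * t₂⁻¹ := by group
            _ = a₂⁻¹ * t₂ := by rw [ht₂i]
      have : d⁻¹ = d := by rw [← ht₂d, hcomm]; group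
      exact inv_ne_self_of_orderOf_three hd this
    · exact h
  -- the second point
  set a₃ := s * a₂ * s⁻¹ with ha₃
  have ha₃o : orderOf a₃ = 3 := by rw [ha₃, orderOf_conj_eq]; exact ha₂o
  obtain ⟨ha₃3, ha₃1⟩ := orderOf_three_iff.mp ha₃o
  have ht₂s : t₂ * s = s * (t * t₂) := by
    calc t₂ * s = s * (y * s) := by rw [ht₂]; group
      _ = s * (s * t * y) := by rw [hys']
      _ = (s * s) * t * y := by group
      _ = t * y := by rw [hs_sq, one_mul]
      _ = (s * t * s) * y := by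
        have : s * t * s = t := by rw [← hc, mul_assoc, hs_sq, mul_one]
        rw [this]
      _ = s * (t * t₂) := by rw [ht₂]; group
  have ht₂a₃ : t₂ * a₃ * t₂⁻¹ = a₃⁻¹ := by
    have h1 : t * t₂ * a₂ * (t * t₂)⁻¹ = a₂⁻¹ := by
      calc t * t₂ * a₂ * (t * t₂)⁻¹ = t * (t₂ * a₂ * t₂⁻¹) * t⁻¹ := by group
        _ = t * a₂ * t⁻¹ := by rw [ht₂a₂]; group
        _ = a₂⁻¹ := hta₂
    calc t₂ * a₃ * t₂⁻¹ = (t₂ * s) * a₂ * (t₂ * s)⁻¹ := by rw [ha₃]; group
      _ = s * (t * t₂ * a₂ * (t * t₂)⁻¹) * s⁻¹ := by rw [ht₂s]; group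
      _ = s * a₂⁻¹ * s⁻¹ := by rw [h1]
      _ = a₃⁻¹ := by rw [ha₃]; group
  -- the group generated by the two points
  set L := closure ({a₂, a₃} : Set S) with hL
  have ha₂L : a₂ ∈ L := Subgroup.subset_closure (by simp)
  have ha₃L : a₃ ∈ L := Subgroup.subset_closure (by simp)
  have ht₂L : ∀ x ∈ L, t₂ * x * t₂⁻¹ ∈ L := by
    apply conj_mem_closure
    intro x hx
    simp only [Set.mem_insert_iff, Set.mem_singleton_iff] at hx
    rcases hx with h | h
    · rw [h, ht₂a₂]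
      have : a₂ * t₂ * t₂⁻¹ = a₂ := by group
      rw [this]; exact ha₂L
    · rw [h, ht₂a₃]; exact L.inv_mem ha₃L
  rcases hS.hF1 a₂ a₃ ha₂o ha₃o with h | ⟨⟨f⟩⟩ | ⟨⟨f⟩⟩
  · -- order three
    have hle : zpowers a₂ ≤ L := by rw [zpowers_le]; exact ha₂L
    have heq : zpowers a₂ = L := by
      apply Subgroup.eq_of_le_of_card_ge hle
      rw [h, Nat.card_zpowers, ha₂o]
    have hmem : a₃ ∈ zpowers a₂ := by rw [heq]; exact ha₃L
    obtain ⟨j, hj⟩ := Subgroup.mem_zpowers_iff.mp hmem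
    have hcomm : t₂ * a₃ = a₃ * t₂ := by
      rw [← hj]
      exact ((Commute.zpow_right (show Commute t₂ a₂ from ht₂a₂) j)).eq
    have : a₃⁻¹ = a₃ := by rw [← ht₂a₃, hcomm]; group
    exact inv_ne_self_of_orderOf_three ha₃o this
  · -- `A₄`
    have ht₂nL : t₂ ∉ L := by
      intro h
      exact a4T_no6 f h ha₂L (by rw [pow_two]; exact ht₂_sq) ht₂1 ha₂3 ha₂1 ht₂a₂
    obtain ⟨W, hW, hWcard⟩ := a4T_exists_four f
    obtain ⟨u₁, v₁, hu₁L, hv₁L, hu₁2, hv₁2, hu₁1, hv₁1, hne, -⟩ := a4T_exists_inv f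
    have hu₁W : u₁ ∈ W := (hW u₁).mpr ⟨hu₁L, hu₁2⟩
    have hv₁W : v₁ ∈ W := (hW v₁).mpr ⟨hv₁L, hv₁2⟩
    have hWp : IsPGroup 2 W := by
      apply IsPGroup.of_card (n := 2)
      rw [hWcard]; norm_num
    have hZp : IsPGroup 2 (zpowers t₂) := by
      apply IsPGroup.of_card (n := 1)
      rw [Nat.card_zpowers, ht₂o, pow_one]
    have hconjW : ∀ g : S, (∀ x ∈ L, g * x * g⁻¹ ∈ L) → ∀ x ∈ W, g * x * g⁻¹ ∈ W := by
      intro g hg x hx
      obtain ⟨hxL, hx2⟩ := (hW x).mp hx
      rw [hW]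
      refine ⟨hg x hxL, ?_⟩
      rw [conj_pow, hx2]; group
    have hnorm : zpowers t₂ ≤ normalizer (W : Set S) := by
      rw [zpowers_le]
      exact mem_normalizer_of_conj_mem W t₂ (hconjW t₂ ht₂L)
    set Q := W ⊔ zpowers t₂ with hQ
    have hQp : IsPGroup 2 Q := IsPGroup.to_sup_of_normal_left' hWp hZp hnorm
    have ha₂L' : ∀ x ∈ L, a₂ * x * a₂⁻¹ ∈ L := fun x hx =>
      L.mul_mem (L.mul_mem ha₂L hx) (L.inv_mem ha₂L)
    have ha₂Q : a₂ ∈ normalizer (Q : Set S) := by
      apply mem_normalizer_of_conj_mem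
      intro x hx
      have hmap : Q.map (MulAut.conj a₂).toMonoidHom ≤ Q := by
        rw [hQ, Subgroup.map_sup]
        apply sup_le
        · rintro _ ⟨w, hw, rfl⟩
          apply le_sup_left (a := W)
          exact hconjW a₂ ha₂L' w hw
        · rintro _ ⟨w, hw, rfl⟩
          apply le_sup_right (b := zpowers t₂)
          obtain ⟨j, rfl⟩ := Subgroup.mem_zpowers_iff.mp hw
          have hcomm : a₂ * t₂ ^ j = t₂ ^ j * a₂ :=
            ((Commute.zpow_right (show Commute a₂ t₂ from ht₂a₂.symm) j)).eq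
          change a₂ * t₂ ^ j * a₂⁻¹ ∈ zpowers t₂
          rw [hcomm]
          have : t₂ ^ j * a₂ * a₂⁻¹ = t₂ ^ j := by group
          rw [this]
          exact Subgroup.zpow_mem_zpowers t₂ j
      exact hmap ⟨x, hx, rfl⟩
    have hWQ : W ≤ Q := le_sup_left
    have hnc : ¬ IsCyclic Q := by
      intro hcyc
      have hWc : IsCyclic W := Subgroup.isCyclic_of_le hWQ
      have := cyclic_invol_unique (C := W) (u := ⟨u₁, hu₁W⟩) (v := ⟨v₁, hv₁W⟩)
        (by apply Subtype.ext; simpa using hu₁2) (by apply Subtype.ext; simpa using hv₁2)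
        (by intro h; exact hu₁1 (congrArg Subtype.val h))
        (by intro h; exact hv₁1 (congrArg Subtype.val h))
      exact hne (congrArg Subtype.val this)
    have hnk : ¬ IsKleinFour Q := by
      intro hK
      have hcardQ : Nat.card Q = 4 := hK.card_four
      have hWeq : W = Q := by
        apply Subgroup.eq_of_le_of_card_ge hWQ
        rw [hcardQ, hWcard]
      apply ht₂nL
      have : t₂ ∈ W := by
        rw [hWeq]
        exact le_sup_right (b := zpowers t₂) (a := W) (mem_zpowers t₂)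
      exact ((hW t₂).mp this).1
    have hodd : Odd (orderOf a₂) := by rw [ha₂o]; decide
    have hcent := aut_dih hD Q hQp hnc hnk ha₂Q hodd
    rw [mem_centralizer_iff] at hcent
    have h1 := hcent u₁ (hWQ hu₁W)
    exact a4T_no6 f hu₁L ha₂L hu₁2 hu₁1 ha₂3 ha₂1 h1
  · -- `A₅`
    have hcardL : Nat.card L = 60 := a5T_card f
    have hbig : ∀ x : S, orderOf x = 2 → a₃ ∈ closure ({x, a₂} : Set S) → x ∈ L := by
      intro x hx ha₃K
      set K := closure ({x, a₂} : Set S) with hK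
      have ha₂K : a₂ ∈ K := Subgroup.subset_closure (by simp)
      have hxK : x ∈ K := Subgroup.subset_closure (by simp)
      have hLK : L ≤ K := by
        rw [hL, Subgroup.closure_le]
        intro z hz
        simp only [Set.mem_insert_iff, Set.mem_singleton_iff] at hz
        rcases hz with rfl | rfl
        · exact ha₂K
        · exact ha₃K
      have hdvd : 60 ∣ Nat.card K := by rw [← hcardL]; exact Subgroup.card_dvd_of_le hLK
      have hcardK : Nat.card K = 60 := by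
        rcases hS.hF2 x a₂ hx ha₂o with h | ⟨⟨f'⟩⟩ | ⟨⟨f'⟩⟩ | ⟨⟨f'⟩⟩
        · rw [h] at hdvd; norm_num at hdvd
        · rw [a4T_card f'] at hdvd; norm_num at hdvd
        · rw [s4T_card f'] at hdvd; norm_num at hdvd
        · exact a5T_card f'
      have hLeq : L = K := by
        apply Subgroup.eq_of_le_of_card_ge hLK
        rw [hcardK, hcardL]
      rw [hLeq]; exact hxK
    have hsL : s ∈ L := by
      apply hbig s hs
      have h1 : s ∈ closure ({s, a₂} : Set S) := Subgroup.subset_closure (by simp)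
      have h2 : a₂ ∈ closure ({s, a₂} : Set S) := Subgroup.subset_closure (by simp)
      rw [ha₃]
      exact Subgroup.mul_mem _ (Subgroup.mul_mem _ h1 h2) (Subgroup.inv_mem _ h1)
    have hsto : orderOf (s * t) = 2 :=
      orderOf_mul_invol hs_sq ht_sq hc.symm (Ne.symm hts)
    have hstL : s * t ∈ L := by
      apply hbig (s * t) hsto
      have h1 : s * t ∈ closure ({s * t, a₂} : Set S) := Subgroup.subset_closure (by simp)
      have h2 : a₂ ∈ closure ({s * t, a₂} : Set S) := Subgroup.subset_closure (by simp)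
      have h3 : s * t * a₂ * (s * t)⁻¹ = a₃⁻¹ := by
        calc s * t * a₂ * (s * t)⁻¹ = s * (t * a₂ * t⁻¹) * s⁻¹ := by group
          _ = s * a₂⁻¹ * s⁻¹ := by rw [hta₂]
          _ = a₃⁻¹ := by rw [ha₃]; group
      have h4 : a₃⁻¹ ∈ closure ({s * t, a₂} : Set S) := by
        rw [← h3]
        exact Subgroup.mul_mem _ (Subgroup.mul_mem _ h1 h2) (Subgroup.inv_mem _ h1)
      have := Subgroup.inv_mem _ h4
      rwa [inv_inv] at this
    have htL : t ∈ L := by
      have : t = s * (s * t) := by rw [← mul_assoc, hs_sq, one_mul]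
      rw [this]
      exact L.mul_mem hsL hstL
    obtain ⟨a, -, ha3, ha1, h1, h2⟩ := a5T_klein_norm f htL hsL
      (by rw [pow_two]; exact ht_sq) (by rw [pow_two]; exact hs_sq) ht1 hs1 hts hc
    exact no_mixed hS ht hs hc hts (orderOf_three_iff.mpr ⟨ha3, ha1⟩) hd hdt hds h1 h2

end beta

end Cfsg.Agent.Helper2.ZasSD
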