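import Mathlib
import Cfsg.Agent.Helper2.ZasSD9

set_option autoImplicit false
set_option linter.style.haveILetI false
set_option linter.unusedSectionVars false

/-!
# Zassenhaus project, piece SD: no point centralizes a four-group (D1)
-/

namespace Cfsg.Agent.Helper2.ZasSD

open DihedralGroup Subgroup Cfsg.Agent.Helper6.Zas

variable {S : Type*} [Group S] [Finite S] {k : ℕ} [NeZero k] [IsSimpleGroup S]

/-- case (α): `y` centralizes the point `d` -/
theorem d1_alpha (hS : SHyp S) {t s y d q : S} (ht : orderOf t = 2) (hs : orderOf s = 2)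
    (hc : t * s = s * t) (hts : t ≠ s) (hyt : y * t * y⁻¹ = t) (hys : y * s * y⁻¹ = t * s)
    (hd : orderOf d = 3) (hdt : d * t = t * d) (hds : d * s = s * d) (hyd : y * d = d * y)
    (hqd : q * d = d * q) (j : ℕ) (hq : q ^ (3 ^ j) = 1)
    (hq1 : q * t * q⁻¹ = s) (hq2 : q * s * q⁻¹ = t * s) : False := by
  haveI : Fact (Nat.Prime 3) := ⟨Nat.prime_three⟩
  obtain ⟨ht_sq, ht1⟩ := orderOf_two_iff.mp ht
  obtain ⟨hs_sq, hs1⟩ := orderOf_two_iff.mp hs
  set V := Cfsg.Agent.Lead.fourOf t s ht_sq hs_sq hc with hV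
  have htV : t ∈ V := by rw [hV, mem_fourOf_iff]; exact Or.inr (Or.inl rfl)
  have hsV : s ∈ V := by rw [hV, mem_fourOf_iff]; exact Or.inr (Or.inr (Or.inl rfl))
  have htsV : t * s ∈ V := V.mul_mem htV hsV
  set M : Subgroup S := normalizer (V : Set S) ⊓ centralizer ({d} : Set S) with hM
  have hmemM : ∀ g, g ∈ M ↔ g ∈ normalizer (V : Set S) ∧ g * d = d * g := by
    intro g
    rw [hM, Subgroup.mem_inf, mem_centralizer_singleton_iff]
  have hcommN : ∀ g, (∀ x ∈ V, g * x = x * g) → g ∈ normalizer (V : Set S) := by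
    intro g hg
    apply mem_normalizer_of_conj_mem
    intro x hx
    rw [hg x hx]
    have : x * g * g⁻¹ = x := by group
    rw [this]; exact hx
  have hK := Cfsg.Agent.Lead.fourOf_isKleinFour t s ht_sq hs_sq hc ht1 hs1 hts
  have htM : t ∈ M := by
    rw [hmemM]
    exact ⟨hcommN t (fun x hx => Cfsg.Agent.Helper2.klein_comm V hK htV hx), hdt.symm⟩
  have hsM : s ∈ M := by
    rw [hmemM]
    exact ⟨hcommN s (fun x hx => Cfsg.Agent.Helper2.klein_comm V hK hsV hx), hds.symm⟩
  have hdM : d ∈ M := by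
    rw [hmemM]
    refine ⟨hcommN d ?_, rfl⟩
    intro x hx
    rw [hV, mem_fourOf_iff] at hx
    rcases hx with rfl | rfl | rfl | rfl
    · simp
    · exact hdt
    · exact hds
    · calc d * (t * s) = (d * t) * s := by group
        _ = t * (d * s) := by rw [hdt]; group
        _ = t * s * d := by rw [hds]; group
  have hqM : q ∈ M := by
    rw [hmemM]
    refine ⟨?_, hqd⟩
    apply mem_normalizer_fourOf
    · rw [hq1]; exact hsV
    · rw [hq2]; exact htsV
  have hyM : y ∈ M := by
    rw [hmemM]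
    refine ⟨?_, hyd⟩
    apply mem_normalizer_fourOf
    · rw [hyt]; exact htV
    · rw [hys]; exact htsV
  have hcycM : ∀ P : Sylow 3 M, IsCyclic P :=
    sylow_cyclic_of_le (hS.oddSylow 3 (by norm_num)) M
  apply alpha_core hcycM (⟨t, htM⟩ : M) ⟨s, hsM⟩ ⟨d, hdM⟩ ⟨q, hqM⟩ ⟨y, hyM⟩
  · exact Subtype.ext ht_sq
  · exact Subtype.ext hs_sq
  · intro h; exact ht1 (congrArg Subtype.val h)
  · intro h; exact hs1 (congrArg Subtype.val h)
  · intro h; exact hts (congrArg Subtype.val h)
  · rw [Subgroup.orderOf_mk]; exact hd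
  · intro g
    apply Subtype.ext
    exact ((hmemM g.1).mp g.2).2
  · intro g x hx
    have hx' : (x : S) = t ∨ (x : S) = s ∨ (x : S) = t * s := by
      rcases hx with h | h | h
      · exact Or.inl (congrArg Subtype.val h)
      · exact Or.inr (Or.inl (congrArg Subtype.val h))
      · exact Or.inr (Or.inr (congrArg Subtype.val h))
    have hx1 : (x : S) ≠ 1 := by
      rcases hx' with h | h | h
      · rw [h]; exact ht1
      · rw [h]; exact hs1
      · rw [h]
        intro h'
        apply hts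
        calc t = t * (s * s) := by rw [hs_sq, mul_one]
          _ = (t * s) * s := by group
          _ = s := by rw [h', one_mul]
    have := normalizer_fourOf_perm ht_sq hs_sq hc ((hmemM g.1).mp g.2).1 hx' hx1
    rcases this with h | h | h
    · exact Or.inl (Subtype.ext h)
    · exact Or.inr (Or.inl (Subtype.ext h))
    · exact Or.inr (Or.inr (Subtype.ext h))
  · exact Subtype.ext hq1
  · exact Subtype.ext hq2
  · apply Subtype.ext
    rw [Subgroup.coe_pow]
    exact hq
  · exact Subtype.ext hyt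
  · exact Subtype.ext hys

/-- the core case: the central involution of the Sylow subgroup is `t` -/
theorem d1_core (hD : ∀ R : Sylow 2 S, Nonempty ((R : Subgroup S) ≃* DihedralGroup (4 * k)))
    (hS : SHyp S) {t s y d q : S} (ht : orderOf t = 2) (hs : orderOf s = 2)
    (hc : t * s = s * t) (hts : t ≠ s) (hyy : y * y = t) (hys : y * s * y⁻¹ = s * t)
    (hd : orderOf d = 3) (hdt : d * t = t * d) (hds : d * s = s * d)
    (hqd : q * d = d * q) (j : ℕ) (hq : q ^ (3 ^ j) = 1)
    (hq1 : q * t * q⁻¹ = s) (hq2 : q * s * q⁻¹ = t * s) : False := by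
  have hyt : y * t = t * y := by rw [← hyy]; group
  rcases invol_point_conj hD hS ht hd hdt.symm hyt with h | h
  · have hyt' : y * t * y⁻¹ = t := by rw [hyt]; group
    have hys' : y * s * y⁻¹ = t * s := by rw [hys, hc]
    exact d1_alpha hS ht hs hc hts hyt' hys' hd hdt hds (comm_of_conj_eq h) hqd j hq hq1 hq2
  · exact d1_beta hD hS ht hs hc hts hyy hys hd hdt hds h

/-- (D1): no point centralizes a four-group on which a `3`-element commuting with the point acts
as a `3`-cycle -/
theorem d1 (hD : ∀ R : Sylow 2 S, Nonempty ((R : Subgroup S) ≃* DihedralGroup (4 * k)))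
    (hS : SHyp S) {t s d q : S} (ht : orderOf t = 2) (hs : orderOf s = 2)
    (hc : t * s = s * t) (hts : t ≠ s)
    (hd : orderOf d = 3) (hdt : d * t = t * d) (hds : d * s = s * d)
    (hqd : q * d = d * q) (j : ℕ) (hq : q ^ (3 ^ j) = 1)
    (hq1 : q * t * q⁻¹ = s) (hq2 : q * s * q⁻¹ = t * s) : False := by
  haveI : Fact (Nat.Prime 2) := ⟨Nat.prime_two⟩
  obtain ⟨ht_sq, ht1⟩ := orderOf_two_iff.mp ht
  obtain ⟨hs_sq, hs1⟩ := orderOf_two_iff.mp hs
  set V := Cfsg.Agent.Lead.fourOf t s ht_sq hs_sq hc with hV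
  have hVp : IsPGroup 2 V := isPGroup_fourOf ht_sq hs_sq hc ht1 hs1 hts
  have htV : t ∈ V := by rw [hV, mem_fourOf_iff]; exact Or.inr (Or.inl rfl)
  have hsV : s ∈ V := by rw [hV, mem_fourOf_iff]; exact Or.inr (Or.inr (Or.inl rfl))
  obtain ⟨R, hR⟩ := hVp.exists_le_sylow
  obtain ⟨t₀, y, ht₀, -, hyy, -, -, hconj⟩ := ld8 hD R (hR htV) (hR hsV) ht hs hts hc
  have htso : orderOf (t * s) = 2 := orderOf_mul_invol ht_sq hs_sq hc hts
  have hq3 : q * (t * s) * q⁻¹ = t := norm3_third hs_sq hc hq1 hq2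
  have hdts : d * (t * s) = (t * s) * d := by
    calc d * (t * s) = (d * t) * s := by group
      _ = t * (d * s) := by rw [hdt]; group
      _ = t * s * d := by rw [hds]; group
  rcases ht₀ with rfl | rfl | rfl
  · -- the central involution is `t`
    have hys : y * s * y⁻¹ = s * t₀ := hconj s (Or.inr (Or.inl rfl)) (Ne.symm hts)
    exact d1_core hD hS ht hs hc hts hyy hys hd hdt hds hqd j hq hq1 hq2
  · -- the central involution is `s`: use the pair `(s, t s)`
    have hne : t₀ ≠ t * t₀ := fun h => mul_ne_right_of_ne_one ht1 h.symm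
    have hys : y * (t * t₀) * y⁻¹ = t * t₀ * t₀ :=
      hconj (t * t₀) (Or.inr (Or.inr rfl)) (Ne.symm hne)
    have hc' : t₀ * (t * t₀) = t * t₀ * t₀ := by
      rw [ci_mid hs_sq hc, ci_right hs_sq]
    have hq2' : q * (t * t₀) * q⁻¹ = t₀ * (t * t₀) := by
      rw [hq3, ci_mid hs_sq hc]
    exact d1_core hD hS hs htso hc' hne hyy hys hd hds hdts hqd j hq hq2 hq2'
  · -- the central involution is `t s`: use the pair `(t s, t)`
    have hne : t * s ≠ t := mul_ne_left_of_ne_one hs1
    have hys : y * t * y⁻¹ = t * (t * s) :=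
      hconj t (Or.inl rfl) (Ne.symm hne)
    have hc' : t * s * t = t * (t * s) := by
      rw [ci_mid' ht_sq hc, ci_left ht_sq]
    have hq1' : q * t * q⁻¹ = t * s * t := by
      rw [hq1, ci_mid' ht_sq hc]
    exact d1_core hD hS htso ht hc' hne hyy hys hd hdts hdt hqd j hq hq3 hq1'

end Cfsg.Agent.Helper2.ZasSD
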