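import Mathlib
import Cfsg.Agent.Helper2.ZasSD10

set_option autoImplicit false
set_option linter.style.haveILetI false
set_option linter.unusedSectionVars false

/-!
# Zassenhaus project, piece SD: the line of a four-group (D2)
-/

namespace Cfsg.Agent.Helper2.ZasSD

open DihedralGroup Subgroup Cfsg.Agent.Helper6.Zas

variable {S : Type*} [Group S] [Finite S] {k : ℕ} [NeZero k] [IsSimpleGroup S]

/-- every four-group is normalized by a point acting as a `3`-cycle -/
theorem exists_point_norm3
    (hD : ∀ R : Sylow 2 S, Nonempty ((R : Subgroup S) ≃* DihedralGroup (4 * k)))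
    (hS : SHyp S) {t s : S} (ht : orderOf t = 2) (hs : orderOf s = 2)
    (hc : t * s = s * t) (hts : t ≠ s) :
    ∃ a, orderOf a = 3 ∧ a * t * a⁻¹ = s ∧ a * s * a⁻¹ = t * s := by
  obtain ⟨ht_sq, ht1⟩ := orderOf_two_iff.mp ht
  obtain ⟨hs_sq, hs1⟩ := orderOf_two_iff.mp hs
  obtain ⟨g, hg1, hg2⟩ := norm3 hD ht hs hts hc
  obtain ⟨q, j, hq, hq1, hq2⟩ := norm3_three hs_sq hc hg1 hg2
  rcases point_or_central hs_sq hc hts hq hq1 hq2 with h | ⟨d, hd, hdt, hds, hqd⟩
  · exact h
  · exact (d1 hD hS ht hs hc hts hd hdt hds hqd j hq hq1 hq2).elim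

/-- the normalizer of a four-group is a proper subgroup -/
theorem normalizer_fourOf_ne_top
    (hD : ∀ R : Sylow 2 S, Nonempty ((R : Subgroup S) ≃* DihedralGroup (4 * k)))
    {t s : S} (ht_sq : t * t = 1) (hs_sq : s * s = 1) (hc : t * s = s * t) (ht1 : t ≠ 1)
    (hs1 : s ≠ 1) (hts : t ≠ s) :
    normalizer ((Cfsg.Agent.Lead.fourOf t s ht_sq hs_sq hc : Subgroup S) : Set S) ≠ ⊤ := by
  intro h
  set V := Cfsg.Agent.Lead.fourOf t s ht_sq hs_sq hc with hV
  have hVn : V.Normal := Subgroup.normalizer_eq_top_iff.mp h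
  have htV : t ∈ V := by rw [hV, mem_fourOf_iff]; exact Or.inr (Or.inl rfl)
  rcases hVn.eq_bot_or_eq_top with h' | h'
  · rw [h', Subgroup.mem_bot] at htV
    exact ht1 htV
  · obtain ⟨a, b, hab⟩ := not_comm_of_dihedral hD
    apply hab
    have hK := Cfsg.Agent.Lead.fourOf_isKleinFour t s ht_sq hs_sq hc ht1 hs1 hts
    have ha : a ∈ V := by rw [h']; exact Subgroup.mem_top a
    have hb : b ∈ V := by rw [h']; exact Subgroup.mem_top b
    exact Cfsg.Agent.Helper2.klein_comm V hK ha hb

/-- (D2): the elements of order `3` of the normalizer of a four-group generate an `A₄`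
containing the four-group -/
theorem d2 (hD : ∀ R : Sylow 2 S, Nonempty ((R : Subgroup S) ≃* DihedralGroup (4 * k)))
    (hS : SHyp S) {t s : S} (ht : orderOf t = 2) (hs : orderOf s = 2)
    (hc : t * s = s * t) (hts : t ≠ s) (ht_sq : t * t = 1) (hs_sq : s * s = 1) :
    Nonempty (threeGen (normalizer
      ((Cfsg.Agent.Lead.fourOf t s ht_sq hs_sq hc : Subgroup S) : Set S)) ≃*
        alternatingGroup (Fin 4)) ∧
    t ∈ threeGen (normalizer
      ((Cfsg.Agent.Lead.fourOf t s ht_sq hs_sq hc : Subgroup S) : Set S)) ∧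
    s ∈ threeGen (normalizer
      ((Cfsg.Agent.Lead.fourOf t s ht_sq hs_sq hc : Subgroup S) : Set S)) := by
  haveI : Fact (Nat.Prime 2) := ⟨Nat.prime_two⟩
  obtain ⟨-, ht1⟩ := orderOf_two_iff.mp ht
  obtain ⟨-, hs1⟩ := orderOf_two_iff.mp hs
  set V := Cfsg.Agent.Lead.fourOf t s ht_sq hs_sq hc with hV
  set N := normalizer (V : Set S) with hN
  set T := threeGen N with hT
  have hK := Cfsg.Agent.Lead.fourOf_isKleinFour t s ht_sq hs_sq hc ht1 hs1 hts
  have htV : t ∈ V := by rw [hV, mem_fourOf_iff]; exact Or.inr (Or.inl rfl)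
  have hsV : s ∈ V := by rw [hV, mem_fourOf_iff]; exact Or.inr (Or.inr (Or.inl rfl))
  have htsV : t * s ∈ V := V.mul_mem htV hsV
  have hVN : V ≤ N := Subgroup.le_normalizer
  have hNne : N ≠ ⊤ := normalizer_fourOf_ne_top hD ht_sq hs_sq hc ht1 hs1 hts
  obtain ⟨a, hao, ha1, ha2⟩ := exists_point_norm3 hD hS ht hs hc hts
  obtain ⟨ha3, hane⟩ := orderOf_three_iff.mp hao
  have haN : a ∈ N := by
    apply mem_normalizer_fourOf
    · rw [ha1]; exact hsV
    · rw [ha2]; exact htsV
  have hgen : ∀ g, g ∈ N → g ^ 3 = 1 → g ∈ T := fun g hg hg3 =>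
    Subgroup.subset_closure ⟨hg, hg3⟩
  have hTN : T ≤ N := (Subgroup.closure_le N).mpr (fun g hg => hg.1)
  have haT : a ∈ T := hgen a haN ha3
  -- `T` is normalized by `N`
  have hTnorm : ∀ n ∈ N, ∀ x ∈ T, n * x * n⁻¹ ∈ T := by
    intro n hn
    apply conj_mem_closure
    intro x hx
    apply hgen
    · exact N.mul_mem (N.mul_mem hn hx.1) (N.inv_mem hn)
    · rw [conj_pow, hx.2]; group
  have hNV : ∀ n ∈ N, ∀ x ∈ V, n * x * n⁻¹ ∈ V := fun n hn x hx =>
    (mem_normalizer_iff.mp hn x).mp hx
  have hat : ¬ a * t = t * a := by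
    intro h
    apply hts
    rw [← ha1, h]; group
  have hst1 : s * t ≠ 1 := by
    intro h
    apply hts
    calc t = (s * s) * t := by rw [hs_sq, one_mul]
      _ = s * (s * t) := by group
      _ = s := by rw [h, mul_one]
  -- the commutator `[a, t] = s t` lies in `T`
  have hcomm_eq : a * t * a⁻¹ * t⁻¹ = s * t := by
    rw [ha1, inv_eq_self_of_sq ht_sq]
  have hstT : s * t ∈ T := by
    rw [← hcomm_eq]
    have h1 : t * a⁻¹ * t⁻¹ ∈ T := hTnorm t (hVN htV) _ (T.inv_mem haT)
    have : a * t * a⁻¹ * t⁻¹ = a * (t * a⁻¹ * t⁻¹) := by group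
    rw [this]
    exact T.mul_mem haT h1
  rcases hS.hM N hNne with h | h | ⟨⟨f⟩⟩ | ⟨⟨f⟩⟩
  · exfalso
    apply hane
    have hsub : Subsingleton T := (Nat.card_eq_one_iff_unique.mp h).1
    have := Subsingleton.elim (⟨a, haT⟩ : T) 1
    exact congrArg Subtype.val this
  · exfalso
    have hle : zpowers a ≤ T := by rw [zpowers_le]; exact haT
    have heq : zpowers a = T := by
      apply Subgroup.eq_of_le_of_card_ge hle
      rw [h, Nat.card_zpowers, hao]
    have hmem : s * t ∈ zpowers a := by rw [heq]; exact hstT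
    have hsto : orderOf (s * t) = 2 := orderOf_mul_invol hs_sq ht_sq hc.symm (Ne.symm hts)
    have hdvd : orderOf (s * t) ∣ 3 := by
      have h1 : orderOf (⟨s * t, hmem⟩ : zpowers a) ∣ Nat.card (zpowers a) :=
        orderOf_dvd_natCard _
      rw [Subgroup.orderOf_mk, Nat.card_zpowers, hao] at h1
      exact h1
    rw [hsto] at hdvd
    norm_num at hdvd
  · -- `A₄`
    refine ⟨⟨f⟩, ?_⟩
    obtain ⟨W, hW, hWcard⟩ := a4T_exists_four f
    have hWp : IsPGroup 2 W := by
      apply IsPGroup.of_card (n := 2)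
      rw [hWcard]; norm_num
    have hVp : IsPGroup 2 V := isPGroup_fourOf ht_sq hs_sq hc ht1 hs1 hts
    have hNW : ∀ n ∈ N, ∀ x ∈ W, n * x * n⁻¹ ∈ W := by
      intro n hn x hx
      obtain ⟨hxT, hx2⟩ := (hW x).mp hx
      rw [hW]
      refine ⟨hTnorm n hn x hxT, ?_⟩
      rw [conj_pow, hx2]; group
    have hVW : V ≤ normalizer (W : Set S) := fun v hv =>
      mem_normalizer_of_conj_mem W v (hNW v (hVN hv))
    set Q := V ⊔ W with hQ
    have hQp : IsPGroup 2 Q := IsPGroup.to_sup_of_normal_right' hVp hWp hVW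
    have haQ : a ∈ normalizer (Q : Set S) := by
      apply mem_normalizer_of_conj_mem
      intro x hx
      have hmap : Q.map (MulAut.conj a).toMonoidHom ≤ Q := by
        rw [hQ, Subgroup.map_sup]
        apply sup_le
        · rintro _ ⟨w, hw, rfl⟩
          exact le_sup_left (a := V) (hNV a haN w hw)
        · rintro _ ⟨w, hw, rfl⟩
          exact le_sup_right (b := W) (hNW a haN w hw)
      exact hmap ⟨x, hx, rfl⟩
    have hVQ : V ≤ Q := le_sup_left
    have hWQ : W ≤ Q := le_sup_right
    have hnc : ¬ IsCyclic Q := by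
      intro hcyc
      have hVc : IsCyclic V := Subgroup.isCyclic_of_le hVQ
      have := cyclic_invol_unique (C := V) (u := ⟨t, htV⟩) (v := ⟨s, hsV⟩)
        (by apply Subtype.ext; simpa [pow_two] using ht_sq)
        (by apply Subtype.ext; simpa [pow_two] using hs_sq)
        (by intro h; exact ht1 (congrArg Subtype.val h))
        (by intro h; exact hs1 (congrArg Subtype.val h))
      exact hts (congrArg Subtype.val this)
    have hVeqW : V = W := by
      by_cases hnk : IsKleinFour Q
      · have hcardQ : Nat.card Q = 4 := hnk.card_four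
        have h1 : V = Q := by
          apply Subgroup.eq_of_le_of_card_ge hVQ
          rw [hcardQ, hK.card_four]
        have h2 : W = Q := by
          apply Subgroup.eq_of_le_of_card_ge hWQ
          rw [hcardQ, hWcard]
        rw [h1, h2]
      · exfalso
        have hodd : Odd (orderOf a) := by rw [hao]; decide
        have hcent := aut_dih hD Q hQp hnc hnk haQ hodd
        rw [mem_centralizer_iff] at hcent
        exact hat (hcent t (hVQ htV)).symm
    constructor
    · have : t ∈ W := by rw [← hVeqW]; exact htV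
      exact ((hW t).mp this).1
    · have : s ∈ W := by rw [← hVeqW]; exact hsV
      exact ((hW s).mp this).1
  · -- `A₅`
    exfalso
    haveI : IsSimpleGroup T := a5T_simple f
    have hKn : (V.subgroupOf T).Normal := by
      constructor
      intro n hn g
      rw [Subgroup.mem_subgroupOf] at hn ⊢
      have := hNV g.1 (hTN g.2) n.1 hn
      simpa using this
    rcases hKn.eq_bot_or_eq_top with h' | h'
    · have h1 : (⟨s * t, hstT⟩ : T) ∈ V.subgroupOf T := by
        rw [Subgroup.mem_subgroupOf]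
        exact V.mul_mem hsV htV
      rw [h', Subgroup.mem_bot] at h1
      exact hst1 (congrArg Subtype.val h1)
    · have hTV : T ≤ V := by
        intro x hx
        have : (⟨x, hx⟩ : T) ∈ V.subgroupOf T := by rw [h']; exact Subgroup.mem_top _
        rwa [Subgroup.mem_subgroupOf] at this
      have := Subgroup.card_le_of_le hTV
      rw [a5T_card f, hK.card_four] at this
      omega

end Cfsg.Agent.Helper2.ZasSD
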