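import Mathlib
import Cfsg.Agent.Helper2.ZasSD11

set_option autoImplicit false
set_option linter.style.haveILetI false
set_option linter.unusedSectionVars false

/-!
# Zassenhaus project, piece SD: the two `S₄`'s
-/

namespace Cfsg.Agent.Helper2.ZasSD

open DihedralGroup Subgroup Cfsg.Agent.Helper6.Zas

section cfg

variable {S : Type*} [Group S]

/-- In a `D₈`-configuration `y² = t`, `y s y⁻¹ = s t`, the element `s y` is an involution. -/
theorem cfg_sq {t s y : S} (ht_sq : t * t = 1) (hs_sq : s * s = 1)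
    (hyy : y * y = t) (hys : y * s * y⁻¹ = s * t) : s * y * (s * y) = 1 := by
  have hys' : y * s = s * t * y := by
    calc y * s = (y * s * y⁻¹) * y := by group
      _ = s * t * y := by rw [hys]
  calc s * y * (s * y) = s * (y * s) * y := by group
    _ = s * (s * t * y) * y := by rw [hys']
    _ = (s * s) * t * (y * y) := by group
    _ = 1 := by rw [hs_sq, hyy, one_mul, ht_sq]

theorem cfg_ne_one {t s y : S} (ht1 : t ≠ 1) (hs_sq : s * s = 1)
    (hyy : y * y = t) : s * y ≠ 1 := by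
  intro h
  apply ht1
  have hy : y = s := by
    calc y = s⁻¹ * (s * y) := by group
      _ = s := by rw [h, mul_one, inv_eq_self_of_sq hs_sq]
  rw [← hyy, hy, hs_sq]

theorem cfg_comm {t s y : S} (hc : t * s = s * t) (hyy : y * y = t) :
    t * (s * y) = s * y * t := by
  have hyt : y * t = t * y := by rw [← hyy]; group
  calc t * (s * y) = (t * s) * y := by group
    _ = (s * t) * y := by rw [hc]
    _ = s * (t * y) := by group
    _ = s * (y * t) := by rw [hyt]
    _ = s * y * t := by group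

theorem cfg_ne {t s y : S} (ht1 : t ≠ 1) (hs_sq : s * s = 1) (hyy : y * y = t) : t ≠ s * y := by
  intro h
  apply ht1
  have h1 : y * y = s * y := by rw [hyy]; exact h
  have h2 : y = s := mul_right_cancel h1
  rw [← hyy, h2, hs_sq]

/-- the dual configuration -/
theorem cfg_dual {t s y : S} (hyy : y * y = t) (hys : y * s * y⁻¹ = s * t) :
    y * (s * y) * y⁻¹ = s * y * t := by
  have hyt : y * t = t * y := by rw [← hyy]; group
  calc y * (s * y) * y⁻¹ = (y * s * y⁻¹) * y := by group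
    _ = s * t * y := by rw [hys]
    _ = s * (t * y) := by group
    _ = s * (y * t) := by rw [hyt]
    _ = s * y * t := by group

theorem cfg_conj_s {t s y : S} (hs_sq : s * s = 1)
    (hys : y * s * y⁻¹ = s * t) : s * y * s * (s * y)⁻¹ = t * s := by
  calc s * y * s * (s * y)⁻¹ = s * (y * s * y⁻¹) * s⁻¹ := by group
    _ = s * (s * t) * s⁻¹ := by rw [hys]
    _ = (s * s) * t * s⁻¹ := by group
    _ = t * s := by rw [hs_sq, one_mul, inv_eq_self_of_sq hs_sq]

theorem orderOf_four {t y : S} (ht_sq : t * t = 1) (ht1 : t ≠ 1) (hyy : y * y = t) :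
    orderOf y = 4 := by
  haveI : Fact (Nat.Prime 2) := ⟨Nat.prime_two⟩
  have h1 : ¬ y ^ 2 ^ 1 = 1 := by
    rw [pow_one, pow_two, hyy]; exact ht1
  have h2 : y ^ 2 ^ (1 + 1) = 1 := by
    have : y ^ 2 ^ (1 + 1) = (y * y) * (y * y) := by
      norm_num
      rw [show (4 : ℕ) = 2 + 2 from rfl, pow_add, pow_two]
    rw [this, hyy, ht_sq]
  have := orderOf_eq_prime_pow h1 h2
  simpa using this

/-- a point acting as a `3`-cycle on a four-group is not normalized by its involutions -/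
theorem not_norm_point {t s a : S} (ht_sq : t * t = 1) (hs_sq : s * s = 1) (hc : t * s = s * t)
    (hts : t ≠ s) (ha : orderOf a = 3) (ha1 : a * t * a⁻¹ = s) :
    t * a * t⁻¹ ∉ zpowers a := by
  intro h
  obtain ⟨ha3, hane⟩ := orderOf_three_iff.mp ha
  have hti : t⁻¹ = t := inv_eq_self_of_sq ht_sq
  have hcomm_eq : a * t * a⁻¹ * t⁻¹ = s * t := by rw [ha1, hti]
  have hst1 : s * t ≠ 1 := by
    intro h'
    apply hts
    calc t = (s * s) * t := by rw [hs_sq, one_mul]
      _ = s * (s * t) := by group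
      _ = s := by rw [h', mul_one]
  have hst_sq : s * t * (s * t) = 1 := mul_sq_of_comm hs_sq ht_sq hc.symm
  rcases conj_eq_or_inv_of_mem_zpowers ha h with h1 | h1
  · apply hst1
    rw [← hcomm_eq]
    calc a * t * a⁻¹ * t⁻¹ = a * (t * a * t⁻¹)⁻¹ := by group
      _ = 1 := by rw [h1]; group
  · have h2 : s * t = a * a := by
      rw [← hcomm_eq]
      calc a * t * a⁻¹ * t⁻¹ = a * (t * a * t⁻¹)⁻¹ := by group
        _ = a * a := by rw [h1, inv_inv]
    apply hane
    have h3 : a * a * (a * a) = 1 := by rw [← h2]; exact hst_sq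
    calc a = a ^ 3 * a := by rw [ha3, one_mul]
      _ = a * a * (a * a) := by rw [pow_succ, pow_two]; group
      _ = 1 := h3

end cfg

section main

variable {S : Type*} [Group S] [Finite S] {k : ℕ} [NeZero k] [IsSimpleGroup S]

/-- the `S₄` over a four-group in a `D₈`-configuration -/
theorem s4gen (hD : ∀ R : Sylow 2 S, Nonempty ((R : Subgroup S) ≃* DihedralGroup (4 * k)))
    (hS : SHyp S) {t s y : S} (ht : orderOf t = 2) (hs : orderOf s = 2)
    (hc : t * s = s * t) (hts : t ≠ s) (hyy : y * y = t) (hys : y * s * y⁻¹ = s * t)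
    (ht_sq : t * t = 1) (hs_sq : s * s = 1) :
    ∃ τ a : S, orderOf τ = 2 ∧ orderOf a = 3 ∧ y ∈ closure ({τ, a} : Set S) ∧
      threeGen (normalizer ((Cfsg.Agent.Lead.fourOf t s ht_sq hs_sq hc : Subgroup S) : Set S)) ≤
        closure ({τ, a} : Set S) ∧
      Nonempty (closure ({τ, a} : Set S) ≃* Equiv.Perm (Fin 4)) := by
  obtain ⟨-, ht1⟩ := orderOf_two_iff.mp ht
  obtain ⟨-, hs1⟩ := orderOf_two_iff.mp hs
  set V := Cfsg.Agent.Lead.fourOf t s ht_sq hs_sq hc with hV
  set N := normalizer (V : Set S) with hN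
  set T := threeGen N with hT
  have htV : t ∈ V := by rw [hV, mem_fourOf_iff]; exact Or.inr (Or.inl rfl)
  have hsV : s ∈ V := by rw [hV, mem_fourOf_iff]; exact Or.inr (Or.inr (Or.inl rfl))
  have htsV : t * s ∈ V := V.mul_mem htV hsV
  have hVN : V ≤ N := Subgroup.le_normalizer
  obtain ⟨⟨f⟩, htT, hsT⟩ := d2 hD hS ht hs hc hts ht_sq hs_sq
  have hTcard : Nat.card T = 12 := a4T_card f
  -- the involution `τ = s y`
  set τ := s * y with hτ
  have hτ_sq : τ * τ = 1 := cfg_sq ht_sq hs_sq hyy hys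
  have hτ1 : τ ≠ 1 := cfg_ne_one ht1 hs_sq hyy
  have hτo : orderOf τ = 2 := orderOf_two_iff.mpr ⟨hτ_sq, hτ1⟩
  have hτt' : t * τ = τ * t := cfg_comm hc hyy
  have hτt : τ * t * τ⁻¹ = t := by
    rw [← hτt']; group
  have hτs : τ * s * τ⁻¹ = t * s := cfg_conj_s hs_sq hys
  have hτN : τ ∈ N := by
    apply mem_normalizer_fourOf
    · rw [hτt]; exact htV
    · rw [hτs]; exact htsV
  have hgen : ∀ g, g ∈ N → g ^ 3 = 1 → g ∈ T := fun g hg hg3 =>
    Subgroup.subset_closure ⟨hg, hg3⟩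
  have hTnorm : ∀ n ∈ N, ∀ x ∈ T, n * x * n⁻¹ ∈ T := by
    intro n hn
    apply conj_mem_closure
    intro x hx
    apply hgen
    · exact N.mul_mem (N.mul_mem hn hx.1) (N.inv_mem hn)
    · rw [conj_pow, hx.2]; group
  -- a point of `T` acting as a `3`-cycle
  obtain ⟨a₀, ha₀o, ha₀1, ha₀2⟩ := exists_point_norm3 hD hS ht hs hc hts
  obtain ⟨ha₀3, ha₀ne⟩ := orderOf_three_iff.mp ha₀o
  have ha₀N : a₀ ∈ N := by
    apply mem_normalizer_fourOf
    · rw [ha₀1]; exact hsV
    · rw [ha₀2]; exact htsV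
  have ha₀T : a₀ ∈ T := hgen a₀ ha₀N ha₀3
  -- choose a point not normalized by `τ`
  obtain ⟨a, haT, hao, hτa⟩ : ∃ a, a ∈ T ∧ orderOf a = 3 ∧ τ * a * τ⁻¹ ∉ zpowers a := by
    by_cases h : τ * a₀ * τ⁻¹ ∈ zpowers a₀
    · refine ⟨s * a₀ * s⁻¹, hTnorm s (hVN hsV) a₀ ha₀T, by rw [orderOf_conj_eq]; exact ha₀o, ?_⟩
      intro h'
      apply not_norm_point ht_sq hs_sq hc hts ha₀o ha₀1
      -- `t a₀ t⁻¹ = s⁻¹ (τ (s a₀ s⁻¹) τ⁻¹) s` up to the action of `τ` on `a₀`
      have hsi : s⁻¹ = s := inv_eq_self_of_sq hs_sq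
      have hτsτ : τ * s = t * s * τ := by
        calc τ * s = (τ * s * τ⁻¹) * τ := by group
          _ = t * s * τ := by rw [hτs]
      have h1 : τ * (s * a₀ * s⁻¹) * τ⁻¹ = (t * s) * (τ * a₀ * τ⁻¹) * (t * s)⁻¹ := by
        calc τ * (s * a₀ * s⁻¹) * τ⁻¹ = (τ * s) * a₀ * (τ * s)⁻¹ := by group
          _ = (t * s * τ) * a₀ * (t * s * τ)⁻¹ := by rw [hτsτ]
          _ = (t * s) * (τ * a₀ * τ⁻¹) * (t * s)⁻¹ := by group
      rw [h1] at h'
      obtain ⟨i, hi⟩ := Subgroup.mem_zpowers_iff.mp h'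
      -- conjugate back by `s`
      have h2 : t * (τ * a₀ * τ⁻¹) * t⁻¹ = a₀ ^ i := by
        have h3 : (s * a₀ * s⁻¹) ^ i = s * a₀ ^ i * s⁻¹ := by
          rw [conj_zpow]
        rw [h3] at hi
        have h4 : s⁻¹ * (t * s * (τ * a₀ * τ⁻¹) * (t * s)⁻¹) * s = a₀ ^ i := by
          rw [← hi]; group
        rw [← h4]
        have h5 : s⁻¹ * (t * s) = t := by
          rw [hc]; group
        calc t * (τ * a₀ * τ⁻¹) * t⁻¹
            = (s⁻¹ * (t * s)) * (τ * a₀ * τ⁻¹) * (s⁻¹ * (t * s))⁻¹ := by rw [h5]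
          _ = s⁻¹ * (t * s * (τ * a₀ * τ⁻¹) * (t * s)⁻¹) * s := by group
      rcases conj_eq_or_inv_of_mem_zpowers ha₀o h with h6 | h6
      · rw [h6] at h2
        rw [h2]
        exact Subgroup.zpow_mem_zpowers a₀ i
      · rw [h6] at h2
        have h7 : t * a₀ * t⁻¹ = (a₀ ^ i)⁻¹ := by
          rw [← h2]; group
        rw [h7]
        exact Subgroup.inv_mem _ (Subgroup.zpow_mem_zpowers a₀ i)
    · exact ⟨a₀, ha₀T, ha₀o, h⟩
  obtain ⟨ha3, hane⟩ := orderOf_three_iff.mp hao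
  set b := τ * a * τ⁻¹ with hb
  have hbT : b ∈ T := hTnorm τ hτN a haT
  have hbo : orderOf b = 3 := by rw [hb, orderOf_conj_eq]; exact hao
  -- `⟨a, b⟩ = T`
  have hclT : closure ({a, b} : Set S) = T := by
    have hle : closure ({a, b} : Set S) ≤ T := by
      rw [Subgroup.closure_le]
      intro z hz
      simp only [Set.mem_insert_iff, Set.mem_singleton_iff] at hz
      rcases hz with h | h
      · rw [h]; exact haT
      · rw [h]; exact hbT
    have haC : a ∈ closure ({a, b} : Set S) := Subgroup.subset_closure (by simp)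
    have hbC : b ∈ closure ({a, b} : Set S) := Subgroup.subset_closure (by simp)
    rcases hS.hF1 a b hao hbo with h | ⟨⟨f'⟩⟩ | ⟨⟨f'⟩⟩
    · exfalso
      apply hτa
      have hle' : zpowers a ≤ closure ({a, b} : Set S) := by rw [zpowers_le]; exact haC
      have heq : zpowers a = closure ({a, b} : Set S) := by
        apply Subgroup.eq_of_le_of_card_ge hle'
        rw [h, Nat.card_zpowers, hao]
      rw [heq]; exact hbC
    · apply Subgroup.eq_of_le_of_card_ge hle
      rw [hTcard, a4T_card f']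
    · exfalso
      have := Subgroup.card_le_of_le hle
      rw [a5T_card f', hTcard] at this
      omega
  set K := closure ({τ, a} : Set S) with hK
  have hτK : τ ∈ K := Subgroup.subset_closure (by simp)
  have haK : a ∈ K := Subgroup.subset_closure (by simp)
  have hbK : b ∈ K := K.mul_mem (K.mul_mem hτK haK) (K.inv_mem hτK)
  have hTK : T ≤ K := by
    rw [← hclT, Subgroup.closure_le]
    intro z hz
    simp only [Set.mem_insert_iff, Set.mem_singleton_iff] at hz
    rcases hz with h | h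
    · rw [h]; exact haK
    · rw [h]; exact hbK
  have hyK : y ∈ K := by
    have : y = s * τ := by rw [hτ, ← mul_assoc, hs_sq, one_mul]
    rw [this]
    exact K.mul_mem (hTK hsT) hτK
  have hy4 : y ^ 4 = 1 := by
    rw [show (4 : ℕ) = 2 + 2 from rfl, pow_add, pow_two, hyy, ht_sq]
  have hy2 : y ^ 2 ≠ 1 := by rw [pow_two, hyy]; exact ht1
  refine ⟨τ, a, hτo, hao, hyK, hTK, ?_⟩
  have hdvd : 12 ∣ Nat.card K := by rw [← hTcard]; exact Subgroup.card_dvd_of_le hTK
  rcases hS.hF2 τ a hτo hao with h | ⟨⟨f'⟩⟩ | ⟨⟨f'⟩⟩ | ⟨⟨f'⟩⟩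
  · exfalso
    rw [h] at hdvd
    norm_num at hdvd
  · exact (hy2 (a4T_no4 f' hyK hy4)).elim
  · exact ⟨f'⟩
  · exact (hy2 (a5T_no4 f' hyK hy4)).elim

end main

end Cfsg.Agent.Helper2.ZasSD
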