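import Mathlib
import Cfsg.Agent.Helper2.ZasSD12

set_option autoImplicit false
set_option linter.style.haveILetI false
set_option linter.unusedSectionVars false

/-!
# Zassenhaus project, piece SD: the dihedral case is contradictory

`Cfsg.Agent.Helper2.ZasSD.dihedral_thm`: a finite simple group with dihedral Sylow `2`-subgroups
of order at least `8` cannot satisfy `SHyp` and `SDk`.
-/

namespace Cfsg.Agent.Helper2.ZasSD

open DihedralGroup Subgroup Cfsg.Agent.Helper6.Zas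

section main

variable {S : Type*} [Group S] [Finite S] {k : ℕ} [NeZero k] [IsSimpleGroup S]

/-- the two lines of a `D₈`-configuration generate `S` -/
theorem lines_generate
    (hD : ∀ R : Sylow 2 S, Nonempty ((R : Subgroup S) ≃* DihedralGroup (4 * k)))
    (hS : SHyp S) {t s y : S} (ht : orderOf t = 2) (hs : orderOf s = 2)
    (hc : t * s = s * t) (hts : t ≠ s) (hyy : y * y = t)
    (ht_sq : t * t = 1) (hs_sq : s * s = 1) (hτ_sq : s * y * (s * y) = 1)
    (hcτ : t * (s * y) = s * y * t) :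
    threeGen (normalizer ((Cfsg.Agent.Lead.fourOf t s ht_sq hs_sq hc : Subgroup S) : Set S)) ⊔
      threeGen (normalizer
        ((Cfsg.Agent.Lead.fourOf t (s * y) ht_sq hτ_sq hcτ : Subgroup S) : Set S)) = ⊤ := by
  obtain ⟨-, ht1⟩ := orderOf_two_iff.mp ht
  have hτ1 : s * y ≠ 1 := cfg_ne_one ht1 hs_sq hyy
  have hτo : orderOf (s * y) = 2 := orderOf_two_iff.mpr ⟨hτ_sq, hτ1⟩
  have hne : t ≠ s * y := cfg_ne ht1 hs_sq hyy
  set T₁ := threeGen (normalizer
    ((Cfsg.Agent.Lead.fourOf t s ht_sq hs_sq hc : Subgroup S) : Set S)) with hT₁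
  set T₂ := threeGen (normalizer
    ((Cfsg.Agent.Lead.fourOf t (s * y) ht_sq hτ_sq hcτ : Subgroup S) : Set S)) with hT₂
  obtain ⟨⟨f₁⟩, -, hsT₁⟩ := d2 hD hS ht hs hc hts ht_sq hs_sq
  obtain ⟨-, -, hτT₂⟩ := d2 hD hS ht hτo hcτ hne ht_sq hτ_sq
  set Y := T₁ ⊔ T₂ with hY
  by_contra hYne
  have hyY : y ∈ Y := by
    have : y = s * (s * y) := by rw [← mul_assoc, hs_sq, one_mul]
    rw [this]
    exact Y.mul_mem (le_sup_left (a := T₁) hsT₁) (le_sup_right (b := T₂) hτT₂)
  have hy4 : y ^ 4 = 1 := by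
    rw [show (4 : ℕ) = 2 + 2 from rfl, pow_add, pow_two, hyy, ht_sq]
  have hy2 : y ^ 2 ≠ 1 := by rw [pow_two, hyy]; exact ht1
  -- `Y` is generated by its elements of order dividing `3`
  have hthree : threeGen Y = Y := by
    apply le_antisymm
    · exact (Subgroup.closure_le Y).mpr (fun g hg => hg.1)
    · have h1 : T₁ ≤ threeGen Y := by
        refine (Subgroup.closure_le (threeGen Y)).mpr ?_
        intro g hg
        apply Subgroup.subset_closure
        refine ⟨?_, hg.2⟩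
        exact le_sup_left (a := T₁) (Subgroup.subset_closure hg)
      have h2 : T₂ ≤ threeGen Y := by
        refine (Subgroup.closure_le (threeGen Y)).mpr ?_
        intro g hg
        apply Subgroup.subset_closure
        refine ⟨?_, hg.2⟩
        exact le_sup_right (b := T₂) (Subgroup.subset_closure hg)
      exact sup_le h1 h2
  have hcard12 : 12 ≤ Nat.card Y := by
    have := Subgroup.card_le_of_le (le_sup_left : T₁ ≤ Y)
    rw [a4T_card f₁] at this
    exact this
  rcases hS.hM Y hYne with h | h | ⟨⟨f⟩⟩ | ⟨⟨f⟩⟩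
  · rw [hthree] at h; omega
  · rw [hthree] at h; omega
  · have f' : Y ≃* alternatingGroup (Fin 4) := (MulEquiv.subgroupCongr hthree.symm).trans f
    exact hy2 (a4T_no4 f' hyY hy4)
  · have f' : Y ≃* alternatingGroup (Fin 5) := (MulEquiv.subgroupCongr hthree.symm).trans f
    exact hy2 (a5T_no4 f' hyY hy4)

/-- the dihedral case is contradictory (with all Sylow `2`-subgroups dihedral of order `8k`) -/
theorem dihedral_aux
    (hD : ∀ R : Sylow 2 S, Nonempty ((R : Subgroup S) ≃* DihedralGroup (4 * k)))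
    (hS : SHyp S) (hdk : SDk S) : False := by
  haveI : Fact (Nat.Prime 2) := ⟨Nat.prime_two⟩
  -- a `D₈`-configuration
  obtain ⟨R⟩ : Nonempty (Sylow 2 S) := inferInstance
  obtain ⟨e⟩ := hD R
  -- two commuting involutions of `R`
  have hu₀ : orderOf (dphi e (r (hlf k))) = 2 := by
    rw [orderOf_two_iff]
    refine ⟨by rw [← map_mul, r_hlf_sq, map_one], ?_⟩
    intro h
    exact r_hlf_ne_one k ((dphi_eq_one e).mp h)
  have hv₀ : orderOf (dphi e (sr 0)) = 2 := by
    rw [orderOf_two_iff]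
    refine ⟨by rw [← map_mul, sr_mul_self, map_one], ?_⟩
    intro h
    have := (dphi_eq_one e).mp h
    rw [one_def] at this
    cases this
  have huv₀ : dphi e (r (hlf k)) ≠ dphi e (sr 0) := by
    intro h
    have := dphi_injective e h
    cases this
  have hc₀ : dphi e (r (hlf k)) * dphi e (sr 0) = dphi e (sr 0) * dphi e (r (hlf k)) := by
    rw [← map_mul, ← map_mul, r_hlf_central]
  obtain ⟨t, y, ht_mem, -, hyy, -, -, hconj⟩ :=
    ld8 hD R (dphi_mem e _) (dphi_mem e _) hu₀ hv₀ huv₀ hc₀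
  set u₀ := dphi e (r (hlf k)) with hu₀def
  set v₀ := dphi e (sr 0) with hv₀def
  obtain ⟨hu₀_sq, hu₀1⟩ := orderOf_two_iff.mp hu₀
  obtain ⟨hv₀_sq, hv₀1⟩ := orderOf_two_iff.mp hv₀
  -- choose `s` in the four-group different from `t`
  obtain ⟨s, hs, hts, hc, hys⟩ : ∃ s, orderOf s = 2 ∧ t ≠ s ∧ t * s = s * t ∧
      y * s * y⁻¹ = s * t := by
    rcases ht_mem with h | h | h
    · refine ⟨v₀, hv₀, by rw [h]; exact huv₀, by rw [h]; exact hc₀, ?_⟩
      exact hconj v₀ (Or.inr (Or.inl rfl)) (by rw [h]; exact Ne.symm huv₀)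
    · refine ⟨u₀, hu₀, by rw [h]; exact Ne.symm huv₀, by rw [h]; exact hc₀.symm, ?_⟩
      exact hconj u₀ (Or.inl rfl) (by rw [h]; exact huv₀)
    · have hne : u₀ * v₀ ≠ u₀ := mul_ne_left_of_ne_one hv₀1
      refine ⟨u₀, hu₀, by rw [h]; exact hne, ?_, ?_⟩
      · rw [h, ci_mid' hu₀_sq hc₀, ci_left hu₀_sq]
      · exact hconj u₀ (Or.inl rfl) (by rw [h]; exact Ne.symm hne)
  have ht : orderOf t = 2 := by
    rcases ht_mem with h | h | h
    · rw [h]; exact hu₀
    · rw [h]; exact hv₀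
    · rw [h]; exact orderOf_mul_invol hu₀_sq hv₀_sq hc₀ huv₀
  obtain ⟨ht_sq, ht1⟩ := orderOf_two_iff.mp ht
  obtain ⟨hs_sq, hs1⟩ := orderOf_two_iff.mp hs
  -- the dual configuration
  have hτ_sq : s * y * (s * y) = 1 := cfg_sq ht_sq hs_sq hyy hys
  have hτ1 : s * y ≠ 1 := cfg_ne_one ht1 hs_sq hyy
  have hτo : orderOf (s * y) = 2 := orderOf_two_iff.mpr ⟨hτ_sq, hτ1⟩
  have hcτ : t * (s * y) = s * y * t := cfg_comm hc hyy
  have hneτ : t ≠ s * y := cfg_ne ht1 hs_sq hyy
  have hysτ : y * (s * y) * y⁻¹ = s * y * t := cfg_dual hyy hys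
  -- the two `S₄`'s
  obtain ⟨τ₁, a₁, hτ₁o, ha₁o, hy₁, hT₁, ⟨f₁⟩⟩ := s4gen hD hS ht hs hc hts hyy hys ht_sq hs_sq
  obtain ⟨τ₂, a₂, hτ₂o, ha₂o, hy₂, hT₂, -⟩ := s4gen hD hS ht hτo hcτ hneτ hyy hysτ ht_sq hτ_sq
  have hgen : closure ({τ₁, a₁, τ₂, a₂} : Set S) = ⊤ := by
    rw [eq_top_iff, ← lines_generate hD hS ht hs hc hts hyy ht_sq hs_sq hτ_sq hcτ]
    apply sup_le
    · apply hT₁.trans
      apply Subgroup.closure_mono
      intro z hz
      simp only [Set.mem_insert_iff, Set.mem_singleton_iff] at hz ⊢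
      rcases hz with h | h
      · exact Or.inl h
      · exact Or.inr (Or.inl h)
    · apply hT₂.trans
      apply Subgroup.closure_mono
      intro z hz
      simp only [Set.mem_insert_iff, Set.mem_singleton_iff] at hz ⊢
      rcases hz with h | h
      · exact Or.inr (Or.inr (Or.inl h))
      · exact Or.inr (Or.inr (Or.inr h))
  have hyo : orderOf y = 4 := orderOf_four ht_sq ht1 hyy
  -- an involution inverting a point
  obtain ⟨u, a', hu2, hu1, ha'3, ha'1, hinv⟩ := s4T_exists_inv f₁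
  have huo : orderOf u = 2 := orderOf_two_iff.mpr ⟨by rw [← pow_two]; exact hu2, hu1⟩
  obtain ⟨g, hg⟩ := invol_conj hD huo ht
  set a := g * a' * g⁻¹ with ha
  have hao : orderOf a = 3 := by
    rw [ha, orderOf_conj_eq]; exact orderOf_three_iff.mpr ⟨ha'3, ha'1⟩
  obtain ⟨ha3, ha1⟩ := orderOf_three_iff.mp hao
  have hta : t * a * t⁻¹ = a⁻¹ := by
    rw [← hg, ha]
    calc g * u * g⁻¹ * (g * a' * g⁻¹) * (g * u * g⁻¹)⁻¹ = g * (u * a' * u⁻¹) * g⁻¹ := by group
      _ = g * a'⁻¹ * g⁻¹ := by rw [hinv]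
      _ = (g * a' * g⁻¹)⁻¹ := by group
  have hy4 : y ^ 4 = 1 := by
    rw [show (4 : ℕ) = 2 + 2 from rfl, pow_add, pow_two, hyy, ht_sq]
  have hy2 : y ^ 2 = t := by rw [pow_two, hyy]
  rcases hdk τ₁ a₁ τ₂ a₂ y a hτ₁o ha₁o hτ₂o ha₂o hyo hy₁ hy₂ hgen hao with h | ⟨⟨f⟩⟩
  · -- `y` commutes with `a`
    have hcomm : t * a = a * t := by
      rw [← hyy]
      exact ((h.mul_left h)).eq
    have : a⁻¹ = a := by rw [← hta, hcomm]; group
    exact inv_ne_self_of_orderOf_three hao this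
  · -- `⟨y, a⟩ ≅ S₄`
    have hyK : y ∈ closure ({y, a} : Set S) := Subgroup.subset_closure (by simp)
    have haK : a ∈ closure ({y, a} : Set S) := Subgroup.subset_closure (by simp)
    have := s4T_fact f hyK haK hy4 (by rw [hy2]; exact ht1) ha3 ha1
    rw [hy2] at this
    exact this hta

end main

/-- **PIECE SD** of the Zassenhaus project: the dihedral case. -/
theorem dihedral_thm {S : Type*} [Group S] [Finite S] [IsSimpleGroup S] (D : Sylow 2 S) (m : ℕ)
    (hm : 4 ≤ m) (e : (D : Subgroup S) ≃* DihedralGroup m) (hS : SHyp S) (hdk : SDk S) :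
    False := by
  haveI : Fact (Nat.Prime 2) := ⟨Nat.prime_two⟩
  -- `m` is a power of two, hence divisible by `4`
  obtain ⟨j, hj⟩ := IsPGroup.iff_card.mp D.isPGroup'
  have hcard : Nat.card (D : Subgroup S) = 2 * m := by
    rw [Nat.card_congr e.toEquiv, DihedralGroup.nat_card]
  have hj3 : 3 ≤ j := by
    by_contra hlt
    push Not at hlt
    have : 2 ^ j ≤ 2 ^ 2 := Nat.pow_le_pow_right (by norm_num) (by omega)
    rw [← hj] at this
    change Nat.card (D : Subgroup S) ≤ 4 at this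
    omega
  obtain ⟨n, rfl⟩ : ∃ n, j = n + 3 := ⟨j - 3, by omega⟩
  have hm4 : m = 4 * 2 ^ n := by
    have h1 : 2 * m = 2 ^ (n + 3) := by rw [← hcard]; exact hj
    rw [pow_add] at h1
    omega
  subst hm4
  haveI : NeZero (2 ^ n) := ⟨by positivity⟩
  have hD : ∀ R : Sylow 2 S, Nonempty ((R : Subgroup S) ≃* DihedralGroup (4 * 2 ^ n)) := by
    intro R
    obtain ⟨g, hg⟩ := MulAction.exists_smul_eq S D R
    rw [← hg]
    exact ⟨(Sylow.equivSMul D g).symm.trans e⟩
  exact dihedral_aux hD hS hdk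

end Cfsg.Agent.Helper2.ZasSD
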