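import Mathlib
import Cfsg.Agent.Helper2.SmallOrder
import Cfsg.Agent.Helper2.SylowExact2

set_option autoImplicit false

/-! Sylow-counting tests for simple groups of small order. -/

namespace Cfsg.Agent.Helper2.SimpleSmall

open Subgroup

/-- a simple group of prime power order is cyclic -/
theorem isCyclic_of_prime_pow {G : Type*} [Group G] [Finite G] [IsSimpleGroup G] (p a : ℕ)
    (hp : p.Prime) (hcard : Nat.card G = p ^ a) : IsCyclic G := by
  haveI : Fact p.Prime := ⟨hp⟩
  have hP : IsPGroup p G := IsPGroup.of_card hcard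
  have hcn := hP.center_nontrivial
  have hc : Subgroup.center G = ⊤ := by
    rcases (inferInstance : (Subgroup.center G).Normal).eq_bot_or_eq_top with h0 | h0
    · rw [h0] at hcn
      exact absurd hcn (not_nontrivial _)
    · exact h0
  have hcomm : ∀ a b : G, a * b = b * a := by
    intro a b
    have : a ∈ Subgroup.center G := by rw [hc]; exact Subgroup.mem_top a
    exact ((Subgroup.mem_center_iff.mp this) b).symm
  let inst : CommGroup G := { (inferInstance : Group G) with mul_comm := hcomm }
  exact @IsSimpleGroup.isCyclic G inst _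

/-- The number of Sylow `p`-subgroups of a non-cyclic simple group passes several tests. -/
theorem sylow_count {G : Type*} [Group G] [Finite G] [IsSimpleGroup G] (p a m : ℕ)
    (hp : p.Prime) (hcard : Nat.card G = p ^ a * m) (ha : 0 < a) (hpm : ¬ p ∣ m) (hm : 1 < m) :
    ∃ d, d ∣ m ∧ d % p = 1 ∧ d ≠ 1 ∧ p ^ a * m ∣ d.factorial ∧
      (a = 1 → ¬ Nat.Coprime (p ^ a * m / d) (p - 1)) := by
  haveI : Fact p.Prime := ⟨hp⟩
  let P : Sylow p G := default
  have hPcard : Nat.card P = p ^ a := SylowExact.card_sylow_of_exact_pow hcard hpm P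
  have hpa : 1 < p ^ a := Nat.one_lt_pow ha.ne' hp.one_lt
  have hidxP : (P : Subgroup G).index = m := by
    have h1 := (P : Subgroup G).card_mul_index
    rw [hPcard, hcard] at h1
    exact Nat.eq_of_mul_eq_mul_left (by omega) h1
  have hne1 : Nat.card (Sylow p G) ≠ 1 := by
    apply SmallOrder.card_sylow_ne_one P
    · rw [hPcard]; omega
    · rw [hPcard, hcard]
      intro h
      have : p ^ a * 1 = p ^ a * m := by rw [mul_one]; exact h
      have := Nat.eq_of_mul_eq_mul_left (by omega) this
      omega
  have hidxN : (Subgroup.normalizer ((P : Subgroup G) : Set G)).index = Nat.card (Sylow p G) :=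
    (Sylow.card_eq_index_normalizer P).symm
  have hNtop : Subgroup.normalizer ((P : Subgroup G) : Set G) ≠ ⊤ := by
    intro htop
    rw [htop, Subgroup.index_top] at hidxN
    exact hne1 hidxN.symm
  have hfact := SmallOrder.card_dvd_factorial_index _ hNtop
  rw [hidxN, hcard] at hfact
  refine ⟨Nat.card (Sylow p G), hidxP ▸ Sylow.card_dvd_index P, ?_, hne1, hfact, ?_⟩
  · have := card_sylow_modEq_one p G
    rw [Nat.ModEq, Nat.mod_eq_of_lt hp.one_lt] at this
    exact this
  · intro ha1 hcop
    subst ha1
    rw [pow_one] at hPcard hcard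
    have hNS := SmallOrder.card_normalizer_mul_card_sylow P
    have hN : Nat.card (Subgroup.normalizer ((P : Subgroup G) : Set G)) =
        p ^ 1 * m / Nat.card (Sylow p G) := by
      rw [pow_one, ← hcard, ← hNS]
      exact (Nat.mul_div_cancel _ Nat.card_pos).symm
    rw [← hN] at hcop
    obtain ⟨K, hKn, hKi⟩ := SmallOrder.exists_normal_index_of_prime_sylow P hPcard hcop
    apply SmallOrder.false_of_normal_index K
    · rw [hKi]; exact hp.one_lt.ne'
    · rw [hKi, hcard]
      intro h
      have : p * 1 = p * m := by rw [mul_one]; exact h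
      have := Nat.eq_of_mul_eq_mul_left hp.pos this
      omega

end Cfsg.Agent.Helper2.SimpleSmall
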