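import Mathlib
import Cfsg.Prelude.Def_Characters
import Cfsg.Prelude.Def_Blocks
import Cfsg.Prelude.Def_Local
import Cfsg.Agent.Helper6.PrincipalSection3
import Cfsg.Agent.Helper6.KernelSet
import Cfsg.Agent.Helper6.ThirdMain
import Cfsg.Agent.Helper6.MaximalPairDefect
import Cfsg.Agent.Helper6.SecondMainD
import Cfsg.Agent.Helper5.PPrimeCore

/-!
# Sums of an irreducible character over `x * O_{p'}(C_G(x))`
-/

set_option autoImplicit false
set_option linter.style.haveILetI false

namespace Cfsg.Agent.Helper2.Kf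

open Cfsg.Agent.Helper6
open scoped ComplexConjugate

universe u

variable {G : Type u} [Group G] {M : Ideal Cfsg.AlgInt}

open Classical in
/-- Sum over the `p'`-core of the centralizer, for a character outside the principal block. -/
theorem sum_core_of_not_principal [Fintype G] {p : ℕ} [hp : Fact p.Prime]
    (hM : Cfsg.IsPModular p M) (x : G) (hx : ∃ k : ℕ, orderOf x = p ^ k)
    (hidx : ∃ k : ℕ, (Cfsg.pPrimeCore p (Subgroup.centralizer ({x} : Set G))).index = p ^ k)
    (χ : Cfsg.IrrCharacter G) (hχ : χ ∉ Cfsg.principalBlock M G) :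
    ∑ c ∈ Finset.univ.filter (fun c : Subgroup.centralizer ({x} : Set G) =>
        c ∈ Cfsg.pPrimeCore p (Subgroup.centralizer ({x} : Set G))),
      (χ : G → ℂ) (x * (c : G)) = 0 := by
  haveI : Finite (Cfsg.IrrCharacter (Subgroup.centralizer ({x} : Set G))) := irr_finite
  haveI : Fintype (Cfsg.IrrCharacter (Subgroup.centralizer ({x} : Set G))) := Fintype.ofFinite _
  have hMm := hM.2.1
  set C := Subgroup.centralizer ({x} : Set G) with hC
  set O := Cfsg.pPrimeCore p C with hO
  set B := Cfsg.blockOf M (χ : G → ℂ) with hB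
  have hBblock : Cfsg.IsPBlock M B := ⟨χ, rfl⟩
  have hχB : χ ∈ B := mem_blockOf_self hMm χ
  have hreg : ∀ c : C, c ∈ O → ¬ p ∣ orderOf c := by
    intro c hc hdvd
    have h1 : orderOf (⟨c, hc⟩ : O) ∣ Nat.card O := orderOf_dvd_natCard _
    have h2 : orderOf (⟨c, hc⟩ : O) = orderOf c := Subgroup.orderOf_mk c hc
    rw [h2] at h1
    exact Helper5.not_dvd_card_pPrimeCore p (hdvd.trans h1)
  have hval : ∀ c ∈ Finset.univ.filter (fun c : C => c ∈ O), (χ : G → ℂ) (x * (c : G)) =
      ∑ ψ : Cfsg.IrrCharacter C, (if Cfsg.IsInducedBlock M C (Cfsg.blockOf M (ψ : C → ℂ)) B then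
        Cfsg.classInner (fun c : C => (χ : G → ℂ) (x * (c : G))) (ψ : C → ℂ) * (ψ : C → ℂ) c
        else 0) := by
    intro c hc
    rw [Finset.mem_filter] at hc
    have h1 := second_main_sum hM x hx B hBblock χ c (hreg c hc.2)
    rw [if_pos hχB, finsum_mem_eq_sum_ite] at h1
    rw [← h1]
    rfl
  rw [Finset.sum_congr rfl hval, Finset.sum_comm]
  apply Finset.sum_eq_zero
  intro ψ _
  by_cases hind : Cfsg.IsInducedBlock M C (Cfsg.blockOf M (ψ : C → ℂ)) B
  · have h2 : ∀ c ∈ Finset.univ.filter (fun c : C => c ∈ O),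
        (if Cfsg.IsInducedBlock M C (Cfsg.blockOf M (ψ : C → ℂ)) B then
          Cfsg.classInner (fun c : C => (χ : G → ℂ) (x * (c : G))) (ψ : C → ℂ) * (ψ : C → ℂ) c
          else 0) =
        Cfsg.classInner (fun c : C => (χ : G → ℂ) (x * (c : G))) (ψ : C → ℂ) * (ψ : C → ℂ) c := by
      intro c _
      rw [if_pos hind]
    rw [Finset.sum_congr rfl h2, ← Finset.mul_sum]
    rcases kernel_or_sum_eq_zero ψ O with hker | hsum
    · exfalso
      have hψ0 : ψ ∈ Cfsg.principalBlock M C :=
        (mem_principalBlock_iff_of_pNilpotent hM hidx ψ).mpr hker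
      have hb0 : Cfsg.blockOf M (ψ : C → ℂ) = Cfsg.principalBlock M C :=
        (blockOf_eq_principalBlock_iff hMm ψ).mpr hψ0
      have hdef : Cfsg.InducedBlockDefined M C (Cfsg.blockOf M (ψ : C → ℂ)) := ⟨B, hind⟩
      have h3 := (third_main hM C (Cfsg.blockOf M (ψ : C → ℂ)) hdef).mpr hb0
      have h4 := isInducedBlock_unique hMm C _ _ _ hind h3
      apply hχ
      rw [← h4]
      exact hχB
    · rw [hsum, mul_zero]
  · apply Finset.sum_eq_zero
    intro c _
    rw [if_neg hind]

open Classical in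
/-- Sum over the `p'`-core of the centralizer, for a character in the principal block. -/
theorem sum_core_of_principal [Fintype G] {p : ℕ} [hp : Fact p.Prime]
    (hM : Cfsg.IsPModular p M) (x : G) (hx : ∃ k : ℕ, orderOf x = p ^ k)
    (χ : Cfsg.IrrCharacter G) (hχ : χ ∈ Cfsg.principalBlock M G) :
    ∑ c ∈ Finset.univ.filter (fun c : Subgroup.centralizer ({x} : Set G) =>
        c ∈ Cfsg.pPrimeCore p (Subgroup.centralizer ({x} : Set G))),
      (χ : G → ℂ) (x * (c : G)) =
      (Nat.card (Cfsg.pPrimeCore p (Subgroup.centralizer ({x} : Set G))) : ℂ) *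
        (χ : G → ℂ) x := by
  have h1 : ∀ c ∈ Finset.univ.filter (fun c : Subgroup.centralizer ({x} : Set G) =>
        c ∈ Cfsg.pPrimeCore p (Subgroup.centralizer ({x} : Set G))),
      (χ : G → ℂ) (x * (c : G)) = (χ : G → ℂ) x := by
    intro c hc
    rw [Finset.mem_filter] at hc
    apply principal_apply_mul_core hM x hx (c : G) _ χ hχ
    unfold Cfsg.centralizerPPrimeCore
    exact Subgroup.mem_map_of_mem _ hc.2
  rw [Finset.sum_congr rfl h1, Finset.sum_const, nsmul_eq_mul]
  congr 2
  rw [Nat.card_eq_fintype_card, Fintype.card_subtype]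

end Cfsg.Agent.Helper2.Kf
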