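import Mathlib
import Cfsg.Prelude.Def_Characters
import Cfsg.Prelude.Def_Blocks
import Cfsg.Agent.Helper6.StructConst
import Cfsg.Agent.Helper6.Regular

/-!
# Counting pairs in a class whose product lies in a coset `J * O`
-/

set_option autoImplicit false
set_option linter.style.haveILetI false

namespace Cfsg.Agent.Helper2.Kf

open Cfsg.Agent.Helper6
open scoped ComplexConjugate

universe u

variable {G : Type u} [Group G]

open Classical in
theorem card_pairs_coset [Fintype G] [Fintype (Cfsg.IrrCharacter G)] (J : G) (O : Subgroup G) :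
    (((classFinset J ×ˢ classFinset J).filter
        (fun q : G × G => J⁻¹ * (q.1 * q.2) ∈ O)).card : ℂ) * (Nat.card G : ℂ) =
      ∑ χ : Cfsg.IrrCharacter G, (χ : G → ℂ) 1 *
        (Cfsg.centralChar (χ : G → ℂ) J * Cfsg.centralChar (χ : G → ℂ) J *
          ∑ v ∈ Finset.univ.filter (fun v : G => v ∈ O), (χ : G → ℂ) ((J * v)⁻¹)) := by
  have key : ∀ g : G, (if J⁻¹ * g ∈ O then (1 : ℂ) else 0) =
      ∑ v ∈ Finset.univ.filter (fun v : G => v ∈ O), (if g = J * v then (1 : ℂ) else 0) := by
    intro g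
    by_cases hg : J⁻¹ * g ∈ O
    · rw [if_pos hg, Finset.sum_eq_single (J⁻¹ * g)]
      · rw [if_pos (by group)]
      · intro v _ hv
        rw [if_neg]
        intro h
        apply hv
        rw [h]
        group
      · intro h
        exfalso
        apply h
        rw [Finset.mem_filter]
        exact ⟨Finset.mem_univ _, hg⟩
    · rw [if_neg hg]
      symm
      apply Finset.sum_eq_zero
      intro v hv
      rw [Finset.mem_filter] at hv
      rw [if_neg]
      intro h
      apply hg
      rw [h]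
      have : J⁻¹ * (J * v) = v := by group
      rw [this]
      exact hv.2
  have key2 : ∀ g t : G, (if g = t then (1 : ℂ) else 0) * (Nat.card G : ℂ) =
      ∑ χ : Cfsg.IrrCharacter G, (χ : G → ℂ) 1 * (χ : G → ℂ) (g * t⁻¹) := by
    intro g t
    rw [sum_degree_mul_irr]
    have hiff : g * t⁻¹ = 1 ↔ g = t := by
      constructor
      · intro h
        exact mul_inv_eq_one.mp h
      · intro h
        rw [h, mul_inv_cancel]
    by_cases h : g = t
    · rw [if_pos h, if_pos (hiff.mpr h), one_mul]
    · rw [if_neg h, if_neg (fun h' => h (hiff.mp h')), zero_mul]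
  rw [Finset.card_filter]
  push_cast
  rw [Finset.sum_mul]
  have h1 : ∀ q ∈ classFinset J ×ˢ classFinset J,
      (if J⁻¹ * (q.1 * q.2) ∈ O then (1 : ℂ) else 0) * (Nat.card G : ℂ) =
      ∑ v ∈ Finset.univ.filter (fun v : G => v ∈ O), ∑ χ : Cfsg.IrrCharacter G,
        (χ : G → ℂ) 1 * (χ : G → ℂ) (q.1 * q.2 * (J * v)⁻¹) := by
    intro q _
    rw [key, Finset.sum_mul]
    apply Finset.sum_congr rfl
    intro v _
    rw [key2]
  rw [Finset.sum_congr rfl h1, Finset.sum_comm]
  have h2 : ∀ v ∈ Finset.univ.filter (fun v : G => v ∈ O),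
      ∑ q ∈ classFinset J ×ˢ classFinset J, ∑ χ : Cfsg.IrrCharacter G,
        (χ : G → ℂ) 1 * (χ : G → ℂ) (q.1 * q.2 * (J * v)⁻¹) =
      ∑ χ : Cfsg.IrrCharacter G, (χ : G → ℂ) 1 *
        (Cfsg.centralChar (χ : G → ℂ) J * Cfsg.centralChar (χ : G → ℂ) J *
          (χ : G → ℂ) ((J * v)⁻¹)) := by
    intro v _
    rw [Finset.sum_comm]
    apply Finset.sum_congr rfl
    intro χ _
    rw [← Finset.mul_sum]
    congr 1
    rw [Finset.sum_product]
    have h3 : ∀ a ∈ classFinset J, ∑ b ∈ classFinset J, (χ : G → ℂ) (a * b * (J * v)⁻¹) =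
        ∑ b ∈ classFinset J, (χ : G → ℂ) (b * ((J * v)⁻¹ * a)) := by
      intro a _
      apply Finset.sum_congr rfl
      intro b _
      have hcf := IsCharacter.isClassFunction (IsIrrCharacter.isCharacter χ.2)
      have := hcf (b * ((J * v)⁻¹ * a)) a
      rw [← this]
      congr 1
      group
    rw [Finset.sum_congr rfl h3]
    have h4 : ∀ a ∈ classFinset J, ∑ b ∈ classFinset J, (χ : G → ℂ) (b * ((J * v)⁻¹ * a)) =
        Cfsg.centralChar (χ : G → ℂ) J * (χ : G → ℂ) (a * (J * v)⁻¹) := by
      intro a _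
      rw [sum_classFinset_char_mul]
      congr 1
      have hcf := IsCharacter.isClassFunction (IsIrrCharacter.isCharacter χ.2)
      have := hcf ((J * v)⁻¹ * a) a
      rw [← this]
      congr 1
      group
    rw [Finset.sum_congr rfl h4, ← Finset.mul_sum, sum_classFinset_char_mul, mul_assoc]
  rw [Finset.sum_congr rfl h2, Finset.sum_comm]
  apply Finset.sum_congr rfl
  intro χ _
  rw [← Finset.mul_sum, ← Finset.mul_sum]

end Cfsg.Agent.Helper2.Kf
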