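import Mathlib
import Cfsg.Agent.Helper6.ColumnOrth

/-!
# Local count of pairs of involutions in a group `O ⋊ P`, `P` a Klein four group
-/

set_option autoImplicit false
set_option linter.style.haveILetI false

namespace Cfsg.Agent.Helper2.Kf

open Cfsg.Agent.Helper6

universe u

variable {C : Type u} [Group C]

/-- The elements of a Klein four subgroup. -/
theorem klein_elems (P : Subgroup C) (hP : IsKleinFour P) (J t : C) (hJP : J ∈ P) (htP : t ∈ P)
    (hJ1 : J ≠ 1) (ht1 : t ≠ 1) (htJ : t ≠ J) :
    ∀ s ∈ P, s = 1 ∨ s = J ∨ s = t ∨ s = J * t := by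
  classical
  haveI := hP
  haveI : Finite P := Nat.finite_of_card_ne_zero (by rw [hP.card_four]; norm_num)
  haveI : Fintype P := Fintype.ofFinite P
  intro s hs
  have h1 : (⟨J, hJP⟩ : P) ≠ 1 := fun h => hJ1 (congrArg Subtype.val h)
  have h2 : (⟨t, htP⟩ : P) ≠ 1 := fun h => ht1 (congrArg Subtype.val h)
  have h3 : (⟨J, hJP⟩ : P) ≠ ⟨t, htP⟩ := fun h => htJ (congrArg Subtype.val h).symm
  have h4 := IsKleinFour.eq_finset_univ h1 h2 h3
  have h5 : (⟨s, hs⟩ : P) ∈ ({(⟨J, hJP⟩ : P) * ⟨t, htP⟩, ⟨J, hJP⟩, ⟨t, htP⟩, 1} : Finset P) := by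
    rw [h4]
    exact Finset.mem_univ _
  simp only [Finset.mem_insert, Finset.mem_singleton] at h5
  rcases h5 with h | h | h | h
  · right; right; right
    exact congrArg Subtype.val h
  · right; left
    exact congrArg Subtype.val h
  · right; right; left
    exact congrArg Subtype.val h
  · left
    exact congrArg Subtype.val h

theorem klein_mul_self (P : Subgroup C) (hP : IsKleinFour P) (t : C) (ht : t ∈ P) : t * t = 1 := by
  haveI := hP
  have h := IsKleinFour.mul_self (⟨t, ht⟩ : P)
  exact congrArg Subtype.val h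

theorem klein_comm (P : Subgroup C) (hP : IsKleinFour P) (s t : C) (hs : s ∈ P) (ht : t ∈ P) :
    s * t = t * s := by
  have h1 := klein_mul_self P hP s hs
  have h2 := klein_mul_self P hP t ht
  have h3 := klein_mul_self P hP (s * t) (P.mul_mem hs ht)
  calc s * t = s * (s * t * (s * t)) * t := by rw [h3, mul_one]
    _ = (s * s) * t * s * (t * t) := by group
    _ = t * s := by rw [h1, h2, one_mul, mul_one]

/-- An involution `t` inverting an element `v` of odd order is conjugate to `t * v` by a power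
of `v`. -/
theorem conj_of_inverts (t v : C) (ht : t * t = 1) (hv : Odd (orderOf v))
    (htv : (t * v) * (t * v) = 1) : ∃ w : C, w * t * w⁻¹ = t * v := by
  obtain ⟨k, hk⟩ := hv
  have hinv : t * v * t = v⁻¹ := by
    have h1 : t * v * t * v = 1 := by
      rw [← htv]
      group
    exact eq_inv_of_mul_eq_one_left h1
  have hpow : ∀ n : ℕ, t * v ^ n * t = (v⁻¹) ^ n := by
    intro n
    induction n with
    | zero => simp [ht]
    | succ n ih =>
      rw [pow_succ, pow_succ, ← ih, ← hinv]
      have : t * (v ^ n * v) * t = t * v ^ n * (t * t) * v * t := by rw [ht]; group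
      rw [this]
      group
  set w := v ^ (k + 1) with hw
  have hww : w * w = v := by
    rw [hw, ← pow_add]
    have : k + 1 + (k + 1) = orderOf v + 1 := by omega
    rw [this, pow_succ, pow_orderOf_eq_one, one_mul]
  have htw : t * w * t = w⁻¹ := by
    rw [hw, hpow, inv_pow]
  refine ⟨w⁻¹, ?_⟩
  rw [inv_inv]
  have h1 : w⁻¹ * t * w = w⁻¹ * (t * w * t) * t := by
    have : w⁻¹ * (t * w * t) * t = w⁻¹ * t * w * (t * t) := by group
    rw [this, ht, mul_one]
  rw [h1, htw]
  have h2 : w⁻¹ * w⁻¹ * t = (w * w)⁻¹ * t := by group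
  rw [h2, hww, ← hinv]
  have : t * v * t * t = t * v * (t * t) := by group
  rw [this, ht, mul_one]

section

variable (P O : Subgroup C) [hOn : O.Normal]

theorem coset_mul {t s a b : C} (ha : t⁻¹ * a ∈ O) (hb : s⁻¹ * b ∈ O) :
    (t * s)⁻¹ * (a * b) ∈ O := by
  have h1 : (t * s)⁻¹ * (a * b) = s⁻¹ * (t⁻¹ * a) * s⁻¹⁻¹ * (s⁻¹ * b) := by group
  rw [h1]
  exact O.mul_mem (hOn.conj_mem _ ha _) hb

theorem coset_inv {s c : C} (hc : s⁻¹ * c ∈ O) : (s⁻¹)⁻¹ * c⁻¹ ∈ O := by
  have h1 : (s⁻¹)⁻¹ * c⁻¹ = (s * (s⁻¹ * c) * s⁻¹)⁻¹ := by group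
  rw [h1]
  exact O.inv_mem (hOn.conj_mem _ hc _)

theorem coset_unique (hcompl : Subgroup.IsComplement' P O) {t s a : C} (ht : t ∈ P) (hs : s ∈ P)
    (hta : t⁻¹ * a ∈ O) (hsa : s⁻¹ * a ∈ O) : t = s := by
  have h1 : s⁻¹ * t ∈ O := by
    have : s⁻¹ * t = (s⁻¹ * a) * (t⁻¹ * a)⁻¹ := by group
    rw [this]
    exact O.mul_mem hsa (O.inv_mem hta)
  have h2 : s⁻¹ * t ∈ P := P.mul_mem (P.inv_mem hs) ht
  have h3 := hcompl.disjoint
  rw [Subgroup.disjoint_def] at h3
  have h4 := h3 h2 h1
  exact (inv_mul_eq_one.mp h4).symm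

theorem coset_exists (hcompl : Subgroup.IsComplement' P O) (a : C) :
    ∃ t ∈ P, t⁻¹ * a ∈ O := by
  obtain ⟨⟨h, k⟩, hhk⟩ := hcompl.2 a
  refine ⟨h, h.2, ?_⟩
  have : (h : C)⁻¹ * a = k := by
    rw [← hhk]
    group
  rw [this]
  exact k.2

end

open Classical in
theorem card_coset_involutions [Fintype C] (P O : Subgroup C) [hOn : O.Normal]
    (hP : IsKleinFour P) (J : C) (hJP : J ∈ P) (hJ1 : J ≠ 1) (hJc : ∀ c : C, c * J = J * c)
    (hO : Odd (Nat.card O)) (hcompl : Subgroup.IsComplement' P O)
    (t : C) (htP : t ∈ P) (ht1 : t ≠ 1) (htJ : t ≠ J) :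
    (Finset.univ.filter (fun a : C => orderOf a = 2 ∧ t⁻¹ * a ∈ O)).card *
      Nat.card (Subgroup.centralizer (P : Set C)) = Nat.card C := by
  have htt := klein_mul_self P hP t htP
  have hot : orderOf t = 2 := by
    apply orderOf_eq_prime
    · rw [pow_two, htt]
    · exact ht1
  have hset : Finset.univ.filter (fun a : C => orderOf a = 2 ∧ t⁻¹ * a ∈ O) =
      Finset.univ.filter (fun a : C => IsConj t a) := by
    ext a
    rw [Finset.mem_filter, Finset.mem_filter]
    constructor
    · rintro ⟨-, ha2, hta⟩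
      refine ⟨Finset.mem_univ _, ?_⟩
      set v := t⁻¹ * a with hv
      have hav : a = t * v := by rw [hv]; group
      have hvodd : Odd (orderOf v) := by
        have h1 : orderOf (⟨v, hta⟩ : O) ∣ Nat.card O := orderOf_dvd_natCard _
        rw [Subgroup.orderOf_mk] at h1
        exact Odd.of_dvd_nat hO h1
      have htv : (t * v) * (t * v) = 1 := by
        rw [← hav, ← pow_two, ← ha2, pow_orderOf_eq_one]
      obtain ⟨w, hw⟩ := conj_of_inverts t v htt hvodd htv
      rw [isConj_iff]
      exact ⟨w, by rw [hw, hav]⟩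
    · rintro ⟨-, hconj⟩
      refine ⟨Finset.mem_univ _, ?_, ?_⟩
      · obtain ⟨c, hc⟩ := isConj_iff.mp hconj
        rw [← hc]
        have := MulEquiv.orderOf_eq (MulAut.conj c) t
        rw [MulAut.conj_apply] at this
        rw [this, hot]
      · obtain ⟨c, hc⟩ := isConj_iff.mp hconj
        obtain ⟨s, hsP, hsc⟩ := coset_exists P O hcompl c
        have h1 : t⁻¹ * t ∈ O := by rw [inv_mul_cancel]; exact O.one_mem
        have h2 := coset_mul O (coset_mul O hsc h1) (coset_inv O hsc)
        rw [hc] at h2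
        have h3 : s * t * s⁻¹ = t := by
          rw [klein_comm P hP s t hsP htP]
          group
        rw [h3] at h2
        exact h2
  rw [hset]
  have h1 := card_conj_mul_card_centralizer t
  have h2 : (Finset.univ.filter (fun a : C => IsConj t a)).card =
      Nat.card {x : C // IsConj t x} := by
    rw [Nat.card_eq_fintype_card, Fintype.card_subtype]
  have h3 : Subgroup.centralizer ({t} : Set C) = Subgroup.centralizer (P : Set C) := by
    apply le_antisymm
    · intro c hc
      rw [Subgroup.mem_centralizer_singleton_iff] at hc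
      rw [Subgroup.mem_centralizer_iff]
      intro s hs
      rcases klein_elems P hP J t hJP htP hJ1 ht1 htJ s hs with h | h | h | h
      · rw [h, mul_one, one_mul]
      · rw [h]; exact (hJc c).symm
      · rw [h]; exact hc.symm
      · rw [h, mul_assoc, ← hc, ← mul_assoc, ← hJc c, mul_assoc]
    · apply Subgroup.centralizer_le
      intro s hs
      rw [Set.mem_singleton_iff.mp hs]
      exact htP
  rw [h2, ← h3, h1]

open Classical in
/-- The local count. -/
theorem klein_local_count [Fintype C] (P O : Subgroup C) [hOn : O.Normal]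
    (hP : IsKleinFour P) (J : C) (hJP : J ∈ P) (hJ1 : J ≠ 1) (hJc : ∀ c : C, c * J = J * c)
    (hO : Odd (Nat.card O)) (hcompl : Subgroup.IsComplement' P O) :
    ((Finset.univ : Finset (C × C)).filter
      (fun q => orderOf q.1 = 2 ∧ orderOf q.2 = 2 ∧ J⁻¹ * (q.1 * q.2) ∈ O)).card *
      (Nat.card (Subgroup.centralizer (P : Set C))) ^ 2 = 2 * (Nat.card C) ^ 2 := by
  -- a third involution
  obtain ⟨t, htP, ht1, htJ⟩ : ∃ t ∈ P, t ≠ 1 ∧ t ≠ J := by
    by_contra hcon
    push Not at hcon
    haveI := hP
    haveI : Finite P := Nat.finite_of_card_ne_zero (by rw [hP.card_four]; norm_num)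
    haveI : Fintype P := Fintype.ofFinite P
    have h1 : (Finset.univ : Finset P) ⊆ {1, ⟨J, hJP⟩} := by
      intro s _
      rw [Finset.mem_insert, Finset.mem_singleton]
      by_cases hs : (s : C) = 1
      · left; exact Subtype.ext hs
      · right; exact Subtype.ext (hcon s s.2 hs)
    have h2 := Finset.card_le_card h1
    rw [Finset.card_univ, IsKleinFour.card_four'] at h2
    have h3 : ({1, ⟨J, hJP⟩} : Finset P).card ≤ 2 := Finset.card_le_two
    omega
  have hJJ := klein_mul_self P hP J hJP
  have htt := klein_mul_self P hP t htP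
  set u := J * t with hu
  have huP : u ∈ P := P.mul_mem hJP htP
  have hu1 : u ≠ 1 := by
    intro h
    apply htJ
    have : t = J * (J * t) := by rw [← mul_assoc, hJJ, one_mul]
    rw [this, ← hu, h, mul_one]
  have huJ : u ≠ J := by
    intro h
    apply ht1
    have : J * t = J * 1 := by rw [mul_one]; exact h
    exact mul_left_cancel this
  have hut : u ≠ t := by
    intro h
    apply hJ1
    have : J * t = 1 * t := by rw [one_mul]; exact h
    exact mul_right_cancel this
  set It := Finset.univ.filter (fun a : C => orderOf a = 2 ∧ t⁻¹ * a ∈ O) with hIt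
  set Iu := Finset.univ.filter (fun a : C => orderOf a = 2 ∧ u⁻¹ * a ∈ O) with hIu
  have hcardt := card_coset_involutions P O hP J hJP hJ1 hJc hO hcompl t htP ht1 htJ
  have hcardu := card_coset_involutions P O hP J hJP hJ1 hJc hO hcompl u huP hu1 huJ
  rw [← hIt] at hcardt
  rw [← hIu] at hcardu
  have hnotO : ∀ a : C, orderOf a = 2 → a ∉ O := by
    intro a ha haO
    have h1 : orderOf (⟨a, haO⟩ : O) ∣ Nat.card O := orderOf_dvd_natCard _
    rw [Subgroup.orderOf_mk, ha] at h1
    have := Odd.of_dvd_nat hO h1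
    exact absurd this (by decide)
  have hS : (Finset.univ : Finset (C × C)).filter
      (fun q => orderOf q.1 = 2 ∧ orderOf q.2 = 2 ∧ J⁻¹ * (q.1 * q.2) ∈ O) =
      (It ×ˢ Iu) ∪ (Iu ×ˢ It) := by
    ext q
    rw [Finset.mem_filter, Finset.mem_union, Finset.mem_product, Finset.mem_product, hIt, hIu,
      Finset.mem_filter, Finset.mem_filter, Finset.mem_filter, Finset.mem_filter]
    constructor
    · rintro ⟨-, h1, h2, h3⟩
      obtain ⟨ta, htaP, hta⟩ := coset_exists P O hcompl q.1
      obtain ⟨tb, htbP, htb⟩ := coset_exists P O hcompl q.2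
      have hta1 : ta ≠ 1 := by
        intro h
        rw [h, inv_one, one_mul] at hta
        exact hnotO _ h1 hta
      have htb1 : tb ≠ 1 := by
        intro h
        rw [h, inv_one, one_mul] at htb
        exact hnotO _ h2 htb
      have hprod : ta * tb = J :=
        coset_unique P O hcompl (P.mul_mem htaP htbP) hJP (coset_mul O hta htb) h3
      rcases klein_elems P hP J t hJP htP hJ1 ht1 htJ ta htaP with h | h | h | h
      · exact absurd h hta1
      · exfalso
        apply htb1
        rw [h] at hprod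
        have : J * tb = J * 1 := by rw [mul_one]; exact hprod
        exact mul_left_cancel this
      · left
        have htb' : tb = u := by
          rw [h] at hprod
          have : tb = t * (t * tb) := by rw [← mul_assoc, htt, one_mul]
          rw [this, hprod, hu, klein_comm P hP t J htP hJP]
        rw [h] at hta
        rw [htb'] at htb
        exact ⟨⟨Finset.mem_univ _, h1, hta⟩, ⟨Finset.mem_univ _, h2, htb⟩⟩
      · right
        have htb' : tb = t := by
          rw [h] at hprod
          have h5 : J * t * tb = J * 1 := by rw [mul_one]; exact hprod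
          rw [mul_assoc] at h5
          have h6 := mul_left_cancel h5
          have : tb = t * (t * tb) := by rw [← mul_assoc, htt, one_mul]
          rw [this, h6, mul_one]
        rw [h] at hta
        rw [htb'] at htb
        exact ⟨⟨Finset.mem_univ _, h1, hta⟩, ⟨Finset.mem_univ _, h2, htb⟩⟩
    · rintro (⟨⟨-, h1, h1'⟩, ⟨-, h2, h2'⟩⟩ | ⟨⟨-, h1, h1'⟩, ⟨-, h2, h2'⟩⟩)
      · refine ⟨Finset.mem_univ _, h1, h2, ?_⟩
        have h3 := coset_mul O h1' h2'
        have h4 : t * u = J := by
          rw [hu, ← mul_assoc, klein_comm P hP t J htP hJP, mul_assoc, htt, mul_one]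
        rw [h4] at h3
        exact h3
      · refine ⟨Finset.mem_univ _, h1, h2, ?_⟩
        have h3 := coset_mul O h1' h2'
        have h4 : u * t = J := by
          rw [hu, mul_assoc, htt, mul_one]
        rw [h4] at h3
        exact h3
  have hdisj : Disjoint (It ×ˢ Iu) (Iu ×ˢ It) := by
    rw [Finset.disjoint_left]
    intro q hq1 hq2
    rw [Finset.mem_product, hIt, Finset.mem_filter] at hq1
    rw [Finset.mem_product, hIu, Finset.mem_filter] at hq2
    exact hut (coset_unique P O hcompl huP htP hq2.1.2.2 hq1.1.2.2)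
  rw [hS, Finset.card_union_of_disjoint hdisj, Finset.card_product, Finset.card_product]
  have e : (It.card * Iu.card + Iu.card * It.card) *
      Nat.card (Subgroup.centralizer (P : Set C)) ^ 2 =
      2 * ((It.card * Nat.card (Subgroup.centralizer (P : Set C))) *
        (Iu.card * Nat.card (Subgroup.centralizer (P : Set C)))) := by ring
  rw [e, hcardt, hcardu]
  ring

end Cfsg.Agent.Helper2.Kf
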