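import Mathlib
import Cfsg.Prelude.Def_Characters
import Cfsg.Prelude.Def_Blocks
import Cfsg.Prelude.Def_Local
import Cfsg.Agent.Helper6.KleinFourA
import Cfsg.Agent.Helper5.PPrimeCore
import Cfsg.Agent.Helper2.KfC
import Cfsg.Agent.S0946

/-!
# Groups of order `4 g₀` without normal `2`-complement: local structure
-/

set_option autoImplicit false
set_option linter.style.haveILetI false

namespace Cfsg.Agent.Helper2.Kf

open Cfsg.Agent.Helper6

universe u

variable {G : Type u} [Group G]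

theorem factorization_four_mul_odd (g₀ : ℕ) (hg₀ : Odd g₀) : (4 * g₀).factorization 2 = 2 := by
  have hg0 : g₀ ≠ 0 := by
    rintro rfl
    exact absurd hg₀ (by decide)
  rw [Nat.factorization_mul (by norm_num) hg0]
  have h4 : (4 : ℕ) = 2 ^ 2 := by norm_num
  rw [h4, Nat.Prime.factorization_pow Nat.prime_two]
  have h2 : g₀.factorization 2 = 0 := by
    apply Nat.factorization_eq_zero_of_not_dvd
    intro h
    exact (Nat.not_even_iff_odd.mpr hg₀) (even_iff_two_dvd.mpr h)
  simp [h2]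

theorem card_sylow_four [Finite G] (g₀ : ℕ) (hg₀ : Odd g₀) (hG : Nat.card G = 4 * g₀)
    (P : Sylow 2 G) : Nat.card (P : Subgroup G) = 4 := by
  haveI : Fact (Nat.Prime 2) := ⟨Nat.prime_two⟩
  have h := Sylow.card_eq_multiplicity P
  rw [hG, factorization_four_mul_odd g₀ hg₀] at h
  rw [h]
  norm_num

theorem card_of_isComplement'_sylow [Finite G] (g₀ : ℕ) (hg₀ : Odd g₀) (hG : Nat.card G = 4 * g₀)
    (P : Sylow 2 G) (N : Subgroup G) (hN : Subgroup.IsComplement' N (P : Subgroup G)) :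
    Nat.card N = g₀ := by
  have h1 := hN.card_mul
  rw [card_sylow_four g₀ hg₀ hG P, hG] at h1
  omega

theorem sylow_isKleinFour [Finite G] (g₀ : ℕ) (hg₀ : Odd g₀) (hG : Nat.card G = 4 * g₀)
    (hnc : ¬ ∃ N : Subgroup G, N.Normal ∧ Nat.card N = g₀) (P : Sylow 2 G) :
    IsKleinFour (P : Subgroup G) := by
  haveI : Fact (Nat.Prime 2) := ⟨Nat.prime_two⟩
  have hcard := card_sylow_four g₀ hg₀ hG P
  have hncyc : ¬ IsCyclic (P : Subgroup G) := by
    intro hcyc
    have hmin : (Nat.card G).minFac = 2 := by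
      rw [Nat.minFac_eq_two_iff, hG]
      exact ⟨2 * g₀, by ring⟩
    have hcompl := IsCyclic.isComplement' hmin hcyc
    apply hnc
    exact ⟨_, inferInstance, card_of_isComplement'_sylow g₀ hg₀ hG P _ hcompl⟩
  have hsq : ∀ k : (P : Subgroup G), k ^ 2 = 1 := by
    intro k
    have hdvd : orderOf k ∣ 4 := by
      rw [← hcard]
      exact orderOf_dvd_natCard k
    have hle : orderOf k ≤ 4 := Nat.le_of_dvd (by norm_num) hdvd
    have hne4 : orderOf k ≠ 4 := by
      intro h4
      apply hncyc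
      apply isCyclic_of_orderOf_eq_card k
      rw [h4, hcard]
    have h12 : orderOf k ∣ 2 := by
      interval_cases h : orderOf k
      · simp at hdvd
      · exact one_dvd _
      · exact dvd_refl _
      · norm_num at hdvd
      · exact absurd rfl hne4
    exact orderOf_dvd_iff_pow_eq_one.mp h12
  refine ⟨hcard, ?_⟩
  have hd : Monoid.exponent (P : Subgroup G) ∣ 2 := Monoid.exponent_dvd_of_forall_pow_eq_one hsq
  have hne : Monoid.exponent (P : Subgroup G) ≠ 1 := by
    intro h1
    rw [Monoid.exp_eq_one_iff] at h1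
    have := Nat.card_eq_one_iff_unique.mpr ⟨h1, ⟨1⟩⟩
    rw [hcard] at this
    omega
  rcases (Nat.dvd_prime Nat.prime_two).mp hd with h2 | h2
  · exact absurd h2 hne
  · exact h2

theorem all_involutions_conj [Finite G] (g₀ : ℕ) (hg₀ : Odd g₀) (hG : Nat.card G = 4 * g₀)
    (hnc : ¬ ∃ N : Subgroup G, N.Normal ∧ Nat.card N = g₀) (P : Sylow 2 G) :
    ∀ s t : G, orderOf s = 2 → orderOf t = 2 → IsConj s t := by
  have hP := sylow_isKleinFour g₀ hg₀ hG hnc P
  haveI := hP
  have hK : IsKleinFour (Multiplicative (ZMod (2 ^ 1) × ZMod (2 ^ 1))) := by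
    have : IsKleinFour (Multiplicative (ZMod 2 × ZMod 2)) := inferInstance
    exact this
  haveI := hK
  obtain ⟨e⟩ := IsKleinFour.nonempty_mulEquiv (G₁ := (P : Subgroup G))
    (G₂ := Multiplicative (ZMod (2 ^ 1) × ZMod (2 ^ 1)))
  rcases Cfsg.Agent.S0946.result P 1 le_rfl e with ⟨N, hNn, hN⟩ | h
  · exfalso
    apply hnc
    exact ⟨N, hNn, card_of_isComplement'_sylow g₀ hg₀ hG P N hN⟩
  · exact h

end Cfsg.Agent.Helper2.Kf
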