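import Mathlib
import Cfsg.Prelude.Def_Characters
import Cfsg.Prelude.Def_Blocks
import Cfsg.Prelude.Def_Local
import Cfsg.Agent.Helper6.KleinFourA
import Cfsg.Agent.Helper6.StructConst
import Cfsg.Agent.Helper5.PPrimeCore
import Cfsg.Agent.Helper2.KfC

/-!
# The local count of pairs of involutions, in the whole group
-/

set_option autoImplicit false
set_option linter.style.haveILetI false

namespace Cfsg.Agent.Helper2.Kf

open Cfsg.Agent.Helper6

universe u

variable {G : Type u} [Group G]

theorem card_centralizer_eq [Finite G] (P : Sylow 2 G) (hP : IsKleinFour (P : Subgroup G))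
    (J : G) (hJ2 : orderOf J = 2) :
    Nat.card (Subgroup.centralizer ({J} : Set G)) =
      4 * Nat.card (Cfsg.pPrimeCore 2 (Subgroup.centralizer ({J} : Set G))) := by
  haveI : Fact (Nat.Prime 2) := ⟨Nat.prime_two⟩
  obtain ⟨⟨k, hk⟩, hfac⟩ := exists_index_pPrimeCore_of_klein P hP J hJ2
  have h1 := Subgroup.card_mul_index (Cfsg.pPrimeCore 2 (Subgroup.centralizer ({J} : Set G)))
  rw [hk] at h1
  have hodd : ¬ 2 ∣ Nat.card (Cfsg.pPrimeCore 2 (Subgroup.centralizer ({J} : Set G))) :=
    Helper5.not_dvd_card_pPrimeCore 2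
  have hO0 : Nat.card (Cfsg.pPrimeCore 2 (Subgroup.centralizer ({J} : Set G))) ≠ 0 :=
    Nat.card_pos.ne'
  have h2 : (Nat.card (Cfsg.pPrimeCore 2 (Subgroup.centralizer ({J} : Set G))) *
      2 ^ k).factorization 2 = k := by
    rw [Nat.factorization_mul hO0 (by positivity), Nat.Prime.factorization_pow Nat.prime_two]
    simp [Nat.factorization_eq_zero_of_not_dvd hodd]
  rw [h1, hfac] at h2
  rw [← h1, ← h2]
  ring

theorem comm_of_pair (J a b v : G) (hJ : J * J = 1) (ha : a * a = 1) (hb : b * b = 1)
    (hv : Odd (orderOf v)) (hJv : J * v = v * J) (hab : a * b = J * v) : a * J = J * a := by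
  have hainv : a⁻¹ = a := inv_eq_of_mul_eq_one_left ha
  have hbinv : b⁻¹ = b := inv_eq_of_mul_eq_one_left hb
  have hJinv : J⁻¹ = J := inv_eq_of_mul_eq_one_left hJ
  obtain ⟨m, hm⟩ := hv
  have hw : (J * v) ^ (orderOf v) = J := by
    rw [(show Commute J v from hJv).mul_pow, pow_orderOf_eq_one, mul_one, hm, pow_succ, pow_mul,
      pow_two, hJ, one_pow, one_mul]
  have hinv : a * (J * v) * a⁻¹ = (J * v)⁻¹ := by
    rw [← hab, hainv, mul_inv_rev, hainv, hbinv, ← mul_assoc, ha, one_mul]
  have h2 : a * J * a⁻¹ = J⁻¹ := by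
    have := conj_pow (a := a) (b := J * v) (i := orderOf v)
    rw [hinv, inv_pow, hw] at this
    exact this.symm
  rw [hJinv, hainv] at h2
  calc a * J = a * J * (a * a) := by rw [ha, mul_one]
    _ = (a * J * a) * a := by group
    _ = J * a := by rw [h2]

theorem sq_eq_one_of_orderOf_two {a : G} (ha : orderOf a = 2) : a * a = 1 := by
  rw [← pow_two, ← ha, pow_orderOf_eq_one]

theorem orderOf_two_of_isConj {J a : G} (hJ : orderOf J = 2) (h : IsConj J a) : orderOf a = 2 := by
  obtain ⟨g, hg⟩ := isConj_iff.mp h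
  have hs : SemiconjBy g J a := by
    unfold SemiconjBy
    rw [← hg]
    group
  rw [← SemiconjBy.orderOf_eq g hs, hJ]

open Classical in
/-- the count of pairs of involutions with product in `J * O(C(J))`. -/
theorem global_count [Fintype G] (P : Sylow 2 G) (hP : IsKleinFour (P : Subgroup G)) (J : G)
    (hJ : J ∈ (P : Subgroup G)) (hJ2 : orderOf J = 2)
    (hconj : ∀ s t : G, orderOf s = 2 → orderOf t = 2 → IsConj s t) :
    ((classFinset J ×ˢ classFinset J).filter
        (fun q : G × G => J⁻¹ * (q.1 * q.2) ∈ Cfsg.centralizerPPrimeCore 2 J)).card *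
      (Nat.card (Subgroup.centralizer ((P : Subgroup G) : Set G))) ^ 2 =
      2 * (Nat.card (Subgroup.centralizer ({J} : Set G))) ^ 2 := by
  haveI : Fact (Nat.Prime 2) := ⟨Nat.prime_two⟩
  haveI := hP
  have hJJ : J * J = 1 := sq_eq_one_of_orderOf_two hJ2
  have hJ1 : J ≠ 1 := by
    rintro rfl
    rw [orderOf_one] at hJ2
    omega
  have hcommP : ∀ x ∈ (P : Subgroup G), ∀ y ∈ (P : Subgroup G), x * y = y * x := by
    intro x hx y hy
    have h := (IsKleinFour.isMulCommutative (G := (P : Subgroup G))).is_comm.comm ⟨x, hx⟩ ⟨y, hy⟩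
    exact congrArg (fun t : (P : Subgroup G) => (t : G)) h
  have hPC : (P : Subgroup G) ≤ Subgroup.centralizer ({J} : Set G) := by
    intro x hx
    rw [Subgroup.mem_centralizer_singleton_iff]
    exact hcommP x hx J hJ
  have hJC : J ∈ Subgroup.centralizer ({J} : Set G) := hPC hJ
  have hK : IsKleinFour ((P : Subgroup G).subgroupOf (Subgroup.centralizer ({J} : Set G))) :=
    isKleinFour_of_mulEquiv (Subgroup.subgroupOfEquivOfLe hPC).symm hP
  have hcardC := card_centralizer_eq P hP J hJ2
  have hoddO : Odd (Nat.card (Cfsg.pPrimeCore 2 (Subgroup.centralizer ({J} : Set G)))) := by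
    rw [← Nat.not_even_iff_odd, even_iff_two_dvd]
    exact Helper5.not_dvd_card_pPrimeCore 2
  have hcompl : Subgroup.IsComplement'
      ((P : Subgroup G).subgroupOf (Subgroup.centralizer ({J} : Set G)))
      (Cfsg.pPrimeCore 2 (Subgroup.centralizer ({J} : Set G))) := by
    apply Subgroup.isComplement'_of_coprime
    · rw [hK.card_four, hcardC]
    · rw [hK.card_four]
      have : (4 : ℕ) = 2 ^ 2 := by norm_num
      rw [this]
      apply Nat.Coprime.pow_left
      rw [Nat.coprime_two_left]
      exact hoddO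
  have hlocal := klein_local_count
    ((P : Subgroup G).subgroupOf (Subgroup.centralizer ({J} : Set G)))
    (Cfsg.pPrimeCore 2 (Subgroup.centralizer ({J} : Set G))) hK ⟨J, hJC⟩
    (by rw [Subgroup.mem_subgroupOf]; exact hJ)
    (by
      intro h
      exact hJ1 (congrArg (fun t : Subgroup.centralizer ({J} : Set G) => (t : G)) h))
    (by
      intro g
      apply Subtype.ext
      simp only [Subgroup.coe_mul]
      have := g.2
      rw [Subgroup.mem_centralizer_singleton_iff] at this
      exact this)
    hoddO hcompl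
  -- the centralizers of `P`
  have hcent : Nat.card (Subgroup.centralizer
      (((P : Subgroup G).subgroupOf (Subgroup.centralizer ({J} : Set G)) :
        Subgroup (Subgroup.centralizer ({J} : Set G))) :
        Set (Subgroup.centralizer ({J} : Set G)))) =
      Nat.card (Subgroup.centralizer ((P : Subgroup G) : Set G)) := by
    have hle : Subgroup.centralizer ((P : Subgroup G) : Set G) ≤
        Subgroup.centralizer ({J} : Set G) := by
      apply Subgroup.centralizer_le
      intro x hx
      rw [Set.mem_singleton_iff.mp hx]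
      exact hJ
    have heq : Subgroup.centralizer
        (((P : Subgroup G).subgroupOf (Subgroup.centralizer ({J} : Set G)) :
          Subgroup (Subgroup.centralizer ({J} : Set G))) :
          Set (Subgroup.centralizer ({J} : Set G))) =
        (Subgroup.centralizer ((P : Subgroup G) : Set G)).subgroupOf
          (Subgroup.centralizer ({J} : Set G)) := by
      ext c
      rw [Subgroup.mem_subgroupOf, Subgroup.mem_centralizer_iff, Subgroup.mem_centralizer_iff]
      constructor
      · intro h g hg
        have := h ⟨g, hPC hg⟩ (by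
          change (⟨g, hPC hg⟩ : Subgroup.centralizer ({J} : Set G)) ∈
            (P : Subgroup G).subgroupOf (Subgroup.centralizer ({J} : Set G))
          rw [Subgroup.mem_subgroupOf]
          exact hg)
        exact congrArg (fun t : Subgroup.centralizer ({J} : Set G) => (t : G)) this
      · intro h g hg
        apply Subtype.ext
        simp only [Subgroup.coe_mul]
        apply h
        exact Subgroup.mem_subgroupOf.mp hg
    rw [heq]
    exact Nat.card_congr (Subgroup.subgroupOfEquivOfLe hle).toEquiv
  rw [hcent] at hlocal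
  rw [← hlocal]
  congr 1
  -- the bijection
  symm
  apply Finset.card_bij (fun q _ => ((q.1 : G), (q.2 : G)))
  · intro q hq
    rw [Finset.mem_filter] at hq
    obtain ⟨-, h1, h2, h3⟩ := hq
    rw [Finset.mem_filter, Finset.mem_product, mem_classFinset, mem_classFinset]
    have h1' : orderOf (q.1 : G) = 2 := by rw [Subgroup.orderOf_coe, h1]
    have h2' : orderOf (q.2 : G) = 2 := by rw [Subgroup.orderOf_coe, h2]
    refine ⟨⟨hconj _ _ hJ2 h1', hconj _ _ hJ2 h2'⟩, ?_⟩
    unfold Cfsg.centralizerPPrimeCore
    rw [Subgroup.mem_map]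
    exact ⟨_, h3, by simp⟩
  · intro q₁ _ q₂ _ h
    rw [Prod.mk.injEq] at h
    exact Prod.ext (Subtype.ext h.1) (Subtype.ext h.2)
  · intro q hq
    rw [Finset.mem_filter, Finset.mem_product, mem_classFinset, mem_classFinset] at hq
    obtain ⟨⟨ha, hb⟩, hmem⟩ := hq
    unfold Cfsg.centralizerPPrimeCore at hmem
    rw [Subgroup.mem_map] at hmem
    obtain ⟨c, hcO, hc⟩ := hmem
    have ha2 := orderOf_two_of_isConj hJ2 ha
    have hb2 := orderOf_two_of_isConj hJ2 hb
    have haa := sq_eq_one_of_orderOf_two ha2
    have hbb := sq_eq_one_of_orderOf_two hb2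
    have hcodd : Odd (orderOf (c : G)) := by
      have h1 : orderOf (⟨c, hcO⟩ : Cfsg.pPrimeCore 2 (Subgroup.centralizer ({J} : Set G))) ∣
          Nat.card (Cfsg.pPrimeCore 2 (Subgroup.centralizer ({J} : Set G))) :=
        orderOf_dvd_natCard _
      rw [Subgroup.orderOf_mk, ← Subgroup.orderOf_coe] at h1
      exact Odd.of_dvd_nat hoddO h1
    have hJc : J * (c : G) = (c : G) * J := by
      have := c.2
      rw [Subgroup.mem_centralizer_singleton_iff] at this
      exact this.symm
    have hab : q.1 * q.2 = J * (c : G) := by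
      have : (c : G) = J⁻¹ * (q.1 * q.2) := hc
      rw [this]
      group
    have haJ : q.1 * J = J * q.1 := comm_of_pair J q.1 q.2 (c : G) hJJ haa hbb hcodd hJc hab
    have haC : q.1 ∈ Subgroup.centralizer ({J} : Set G) := by
      rw [Subgroup.mem_centralizer_singleton_iff]
      exact haJ
    have hbC : q.2 ∈ Subgroup.centralizer ({J} : Set G) := by
      have : q.2 = q.1⁻¹ * (J * (c : G)) := by
        rw [← hab]
        group
      rw [this]
      exact Subgroup.mul_mem _ (Subgroup.inv_mem _ haC) (Subgroup.mul_mem _ hJC c.2)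
    refine ⟨(⟨q.1, haC⟩, ⟨q.2, hbC⟩), ?_, rfl⟩
    rw [Finset.mem_filter]
    refine ⟨Finset.mem_univ _, ?_, ?_, ?_⟩
    · rw [← Subgroup.orderOf_coe]
      exact ha2
    · rw [← Subgroup.orderOf_coe]
      exact hb2
    · have : (⟨J, hJC⟩ : Subgroup.centralizer ({J} : Set G))⁻¹ * (⟨q.1, haC⟩ * ⟨q.2, hbC⟩) = c := by
        apply Subtype.ext
        simp only [Subgroup.coe_mul, Subgroup.coe_inv]
        exact hc.symm
      rw [this]
      exact hcO

end Cfsg.Agent.Helper2.Kf
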