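import Mathlib
import Cfsg.Prelude.Def_Characters
import Cfsg.Prelude.Def_Blocks
import Cfsg.Prelude.Def_Local
import Cfsg.Agent.Helper6.OddReal
import Cfsg.Agent.Helper6.IrrDegree
import Cfsg.Agent.Helper6.BlockPart
import Cfsg.Agent.Helper2.KfA
import Cfsg.Agent.Helper2.KfB
import Cfsg.Agent.Helper2.KfD
import Cfsg.Agent.Helper2.KfE
import Cfsg.Agent.S0907

/-!
# The order formula for groups of order `4 g₀` with four characters in the principal block
-/

set_option autoImplicit false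
set_option linter.style.haveILetI false

namespace Cfsg.Agent.Helper2.Kf

open Cfsg.Agent.Helper6
open scoped ComplexConjugate

universe u

variable {G : Type u} [Group G] {M : Ideal Cfsg.AlgInt}

/-- the principal character as an irreducible character -/
noncomputable def trivIrrK (G : Type u) [Group G] : Cfsg.IrrCharacter G :=
  ⟨fun _ => 1, isIrrCharacter_one⟩

theorem trivIrrK_apply (g : G) : ((trivIrrK G : Cfsg.IrrCharacter G) : G → ℂ) g = 1 := rfl

open Classical in
/-- sums over a principal block with four members -/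
theorem sum_block_four [Fintype (Cfsg.IrrCharacter G)] (χ₁ χ₂ χ₃ : Cfsg.IrrCharacter G)
    (hB : Cfsg.principalBlock M G = {χ : Cfsg.IrrCharacter G |
      (χ : G → ℂ) = (fun _ => 1) ∨ χ = χ₁ ∨ χ = χ₂ ∨ χ = χ₃})
    (hdist : (χ₁ : G → ℂ) ≠ (fun _ => 1) ∧ (χ₂ : G → ℂ) ≠ (fun _ => 1) ∧
      (χ₃ : G → ℂ) ≠ (fun _ => 1) ∧ χ₁ ≠ χ₂ ∧ χ₁ ≠ χ₃ ∧ χ₂ ≠ χ₃)
    (F : Cfsg.IrrCharacter G → ℂ) :
    ∑ χ : Cfsg.IrrCharacter G, (if χ ∈ Cfsg.principalBlock M G then F χ else 0) =
      F (trivIrrK G) + F χ₁ + F χ₂ + F χ₃ := by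
  obtain ⟨h1, h2, h3, h12, h13, h23⟩ := hdist
  rw [← Finset.sum_filter]
  have hfilter : Finset.univ.filter (fun χ : Cfsg.IrrCharacter G => χ ∈ Cfsg.principalBlock M G) =
      insert (trivIrrK G) (insert χ₁ (insert χ₂ {χ₃})) := by
    ext χ
    rw [Finset.mem_filter, hB, Set.mem_setOf_eq, Finset.mem_insert, Finset.mem_insert,
      Finset.mem_insert, Finset.mem_singleton]
    constructor
    · rintro ⟨-, h | h | h | h⟩
      · left
        exact Subtype.ext h
      · right; left; exact h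
      · right; right; left; exact h
      · right; right; right; exact h
    · rintro (h | h | h | h)
      · refine ⟨Finset.mem_univ _, Or.inl ?_⟩
        rw [h]
        rfl
      · exact ⟨Finset.mem_univ _, Or.inr (Or.inl h)⟩
      · exact ⟨Finset.mem_univ _, Or.inr (Or.inr (Or.inl h))⟩
      · exact ⟨Finset.mem_univ _, Or.inr (Or.inr (Or.inr h))⟩
  have ht : ∀ χ : Cfsg.IrrCharacter G, (χ : G → ℂ) ≠ (fun _ => 1) → trivIrrK G ≠ χ := by
    intro χ hχ h
    apply hχ
    rw [← h]
    rfl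
  rw [hfilter, Finset.sum_insert, Finset.sum_insert, Finset.sum_insert, Finset.sum_singleton]
  · ring
  · rw [Finset.mem_singleton]
    exact h23
  · rw [Finset.mem_insert, Finset.mem_singleton]
    rintro (h | h)
    · exact h12 h
    · exact h13 h
  · rw [Finset.mem_insert, Finset.mem_insert, Finset.mem_singleton]
    rintro (h | h | h)
    · exact ht χ₁ h1 h
    · exact ht χ₂ h2 h
    · exact ht χ₃ h3 h

open Classical in
/-- the sum over `O(C(J))` inside `G`, reindexed -/
theorem sum_core_reindex [Fintype G] (J : G) (hJJ : J * J = 1) (f : G → ℂ) :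
    ∑ v ∈ Finset.univ.filter (fun v : G => v ∈ Cfsg.centralizerPPrimeCore 2 J), f ((J * v)⁻¹) =
      ∑ c ∈ Finset.univ.filter (fun c : Subgroup.centralizer ({J} : Set G) =>
        c ∈ Cfsg.pPrimeCore 2 (Subgroup.centralizer ({J} : Set G))), f (J * (c : G)) := by
  have hJinv : J⁻¹ = J := inv_eq_of_mul_eq_one_left hJJ
  symm
  apply Finset.sum_bij (fun (c : Subgroup.centralizer ({J} : Set G)) _ => ((c : G))⁻¹)
  · intro c hc
    rw [Finset.mem_filter] at hc ⊢
    refine ⟨Finset.mem_univ _, ?_⟩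
    unfold Cfsg.centralizerPPrimeCore
    rw [Subgroup.mem_map]
    exact ⟨c⁻¹, Subgroup.inv_mem _ hc.2, by simp⟩
  · intro c₁ _ c₂ _ h
    apply Subtype.ext
    exact inv_injective h
  · intro v hv
    rw [Finset.mem_filter] at hv
    have hv2 := hv.2
    unfold Cfsg.centralizerPPrimeCore at hv2
    rw [Subgroup.mem_map] at hv2
    obtain ⟨c, hc, hcv⟩ := hv2
    refine ⟨c⁻¹, ?_, ?_⟩
    · rw [Finset.mem_filter]
      exact ⟨Finset.mem_univ _, Subgroup.inv_mem _ hc⟩
    · rw [← hcv]
      simp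
  · intro c _
    congr 1
    have hc := c.2
    rw [Subgroup.mem_centralizer_singleton_iff] at hc
    rw [mul_inv_rev, inv_inv, hJinv, hc]

end Cfsg.Agent.Helper2.Kf
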