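import Mathlib
import Cfsg.Agent.Helper2.KfF

/-!
# The order formula (complex form) and the degree relation
-/

set_option autoImplicit false
set_option linter.style.haveILetI false

namespace Cfsg.Agent.Helper2.Kf

open Cfsg.Agent.Helper6
open scoped ComplexConjugate

universe u

variable {G : Type u} [Group G] {M : Ideal Cfsg.AlgInt}

/-- the degree relation from weak block orthogonality -/
theorem degree_relation [Finite G] (hM : Cfsg.IsPModular 2 M) (J : G) (hJ2 : orderOf J = 2)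
    (χ₁ χ₂ χ₃ : Cfsg.IrrCharacter G)
    (hB : Cfsg.principalBlock M G = {χ : Cfsg.IrrCharacter G |
      (χ : G → ℂ) = (fun _ => 1) ∨ χ = χ₁ ∨ χ = χ₂ ∨ χ = χ₃})
    (hdist : (χ₁ : G → ℂ) ≠ (fun _ => 1) ∧ (χ₂ : G → ℂ) ≠ (fun _ => 1) ∧
      (χ₃ : G → ℂ) ≠ (fun _ => 1) ∧ χ₁ ≠ χ₂ ∧ χ₁ ≠ χ₃ ∧ χ₂ ≠ χ₃) :
    1 + (χ₁ : G → ℂ) 1 * conj ((χ₁ : G → ℂ) J) + (χ₂ : G → ℂ) 1 * conj ((χ₂ : G → ℂ) J) +
      (χ₃ : G → ℂ) 1 * conj ((χ₃ : G → ℂ) J) = 0 := by
  classical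
  haveI : Fact (Nat.Prime 2) := ⟨Nat.prime_two⟩
  haveI : Finite (Cfsg.IrrCharacter G) := irr_finite
  haveI : Fintype (Cfsg.IrrCharacter G) := Fintype.ofFinite _
  have hblock : Cfsg.IsPBlock M (Cfsg.principalBlock M G) := ⟨trivIrrK G, rfl⟩
  have h := Cfsg.Agent.S0907.result 2 M hM (Cfsg.principalBlock M G) hblock (1 : G) J
    (by rw [orderOf_one]; norm_num) (by rw [hJ2])
  rw [finsum_mem_eq_sum_ite, sum_block_four χ₁ χ₂ χ₃ hB hdist
    (fun χ => (χ : G → ℂ) 1 * conj ((χ : G → ℂ) J))] at h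
  simp only [trivIrrK_apply, map_one, mul_one] at h
  exact h

open Classical in
/-- the order formula, complex form -/
theorem order_formula_complex [Finite G] (hM : Cfsg.IsPModular 2 M) (g₀ : ℕ) (hg₀ : Odd g₀)
    (hG : Nat.card G = 4 * g₀) (hnc : ¬ ∃ N : Subgroup G, N.Normal ∧ Nat.card N = g₀)
    (P : Sylow 2 G) (J : G) (hJ : J ∈ (P : Subgroup G)) (hJ2 : orderOf J = 2)
    (χ₁ χ₂ χ₃ : Cfsg.IrrCharacter G)
    (hB : Cfsg.principalBlock M G = {χ : Cfsg.IrrCharacter G |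
      (χ : G → ℂ) = (fun _ => 1) ∨ χ = χ₁ ∨ χ = χ₂ ∨ χ = χ₃})
    (hdist : (χ₁ : G → ℂ) ≠ (fun _ => 1) ∧ (χ₂ : G → ℂ) ≠ (fun _ => 1) ∧
      (χ₃ : G → ℂ) ≠ (fun _ => 1) ∧ χ₁ ≠ χ₂ ∧ χ₁ ≠ χ₃ ∧ χ₂ ≠ χ₃) :
    (Nat.card G : ℂ) * (1 + (χ₁ : G → ℂ) J ^ 3 / (χ₁ : G → ℂ) 1 +
        (χ₂ : G → ℂ) J ^ 3 / (χ₂ : G → ℂ) 1 + (χ₃ : G → ℂ) J ^ 3 / (χ₃ : G → ℂ) 1) =
      8 * (Nat.card (Subgroup.centralizer ({J} : Set G)) : ℂ) ^ 3 /
        (Nat.card (Subgroup.centralizer ((P : Subgroup G) : Set G)) : ℂ) ^ 2 := by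
  haveI : Fact (Nat.Prime 2) := ⟨Nat.prime_two⟩
  haveI : Fintype G := Fintype.ofFinite G
  haveI : Finite (Cfsg.IrrCharacter G) := irr_finite
  haveI : Fintype (Cfsg.IrrCharacter G) := Fintype.ofFinite _
  have hP := sylow_isKleinFour g₀ hg₀ hG hnc P
  have hconj := all_involutions_conj g₀ hg₀ hG hnc P
  have hidx := (exists_index_pPrimeCore_of_klein P hP J hJ2).1
  have hJJ : J * J = 1 := sq_eq_one_of_orderOf_two hJ2
  have hcount := global_count P hP J hJ hJ2 hconj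
  have hchar := card_pairs_coset J (Cfsg.centralizerPPrimeCore 2 J)
  have hcardC := card_centralizer_eq P hP J hJ2
  have hx : ∃ k : ℕ, orderOf J = 2 ^ k := ⟨1, by rw [hJ2, pow_one]⟩
  have hS : ∀ χ : Cfsg.IrrCharacter G,
      ∑ v ∈ Finset.univ.filter (fun v : G => v ∈ Cfsg.centralizerPPrimeCore 2 J),
        (χ : G → ℂ) ((J * v)⁻¹) =
      if χ ∈ Cfsg.principalBlock M G then
        (Nat.card (Cfsg.pPrimeCore 2 (Subgroup.centralizer ({J} : Set G))) : ℂ) *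
          (χ : G → ℂ) J else 0 := by
    intro χ
    rw [sum_core_reindex J hJJ (χ : G → ℂ)]
    split_ifs with hχ
    · exact sum_core_of_principal hM J hx χ hχ
    · exact sum_core_of_not_principal hM J hx hidx χ hχ
  have hsum : ∑ χ : Cfsg.IrrCharacter G, (χ : G → ℂ) 1 *
        (Cfsg.centralChar (χ : G → ℂ) J * Cfsg.centralChar (χ : G → ℂ) J *
          ∑ v ∈ Finset.univ.filter (fun v : G => v ∈ Cfsg.centralizerPPrimeCore 2 J),
            (χ : G → ℂ) ((J * v)⁻¹)) =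
      ∑ χ : Cfsg.IrrCharacter G, (if χ ∈ Cfsg.principalBlock M G then
        (χ : G → ℂ) 1 * (Cfsg.centralChar (χ : G → ℂ) J * Cfsg.centralChar (χ : G → ℂ) J *
          ((Nat.card (Cfsg.pPrimeCore 2 (Subgroup.centralizer ({J} : Set G))) : ℂ) *
            (χ : G → ℂ) J)) else 0) := by
    apply Finset.sum_congr rfl
    intro χ _
    rw [hS χ]
    split_ifs
    · rfl
    · rw [mul_zero, mul_zero]
  rw [hsum, sum_block_four χ₁ χ₂ χ₃ hB hdist] at hchar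
  simp only [trivIrrK_apply] at hchar
  unfold Cfsg.centralChar at hchar
  simp only [trivIrrK_apply] at hchar
  have hx1 : (χ₁ : G → ℂ) 1 ≠ 0 := IsIrrCharacter.apply_one_ne_zero χ₁.2
  have hx2 : (χ₂ : G → ℂ) 1 ≠ 0 := IsIrrCharacter.apply_one_ne_zero χ₂.2
  have hx3 : (χ₃ : G → ℂ) 1 ≠ 0 := IsIrrCharacter.apply_one_ne_zero χ₃.2
  have hidxC := Subgroup.index_mul_card (Subgroup.centralizer ({J} : Set G))
  have hcJ0 : (Nat.card (Subgroup.centralizer ({J} : Set G)) : ℂ) ≠ 0 := by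
    exact_mod_cast (Nat.card_pos (α := Subgroup.centralizer ({J} : Set G))).ne'
  have hcP0 : (Nat.card (Subgroup.centralizer ((P : Subgroup G) : Set G)) : ℂ) ≠ 0 := by
    exact_mod_cast (Nat.card_pos (α := Subgroup.centralizer ((P : Subgroup G) : Set G))).ne'
  have hG0 : (Nat.card G : ℂ) ≠ 0 := by
    exact_mod_cast (Nat.card_pos (α := G)).ne'
  have e1 : ((Subgroup.centralizer ({J} : Set G)).index : ℂ) =
      (Nat.card G : ℂ) / (Nat.card (Subgroup.centralizer ({J} : Set G)) : ℂ) := by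
    rw [eq_div_iff hcJ0]
    exact_mod_cast hidxC
  have e2 : (Nat.card (Cfsg.pPrimeCore 2 (Subgroup.centralizer ({J} : Set G))) : ℂ) =
      (Nat.card (Subgroup.centralizer ({J} : Set G)) : ℂ) / 4 := by
    rw [eq_div_iff (by norm_num)]
    rw [hcardC]
    push_cast
    ring
  have e3 : (((classFinset J ×ˢ classFinset J).filter
        (fun q : G × G => J⁻¹ * (q.1 * q.2) ∈ Cfsg.centralizerPPrimeCore 2 J)).card : ℂ) =
      2 * (Nat.card (Subgroup.centralizer ({J} : Set G)) : ℂ) ^ 2 /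
        (Nat.card (Subgroup.centralizer ((P : Subgroup G) : Set G)) : ℂ) ^ 2 := by
    rw [eq_div_iff (pow_ne_zero 2 hcP0)]
    exact_mod_cast hcount
  rw [e3, e1, e2] at hchar
  field_simp at hchar ⊢
  linear_combination (-1 : ℂ) * hchar

end Cfsg.Agent.Helper2.Kf
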