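import Mathlib
import Cfsg.Agent.Helper2.Layer5

set_option autoImplicit false

namespace Cfsg.Agent.Helper2

open Cfsg.Agent.Helper1

variable {G : Type*} [Group G]

theorem isNilpotent_of_le {A B : Subgroup G} (h : A ≤ B) (hB : Group.IsNilpotent ↥B) :
    Group.IsNilpotent ↥A :=
  isNilpotent_of_mulEquiv (Subgroup.subgroupOfEquivOfLe h) inferInstance

/-- `F(X) ∩ S ≤ F(S)`. -/
theorem fitting_inf_le [Finite G] (S : Subgroup G) :
    Cfsg.fittingSubgroup G ⊓ S ≤ (Cfsg.fittingSubgroup ↥S).map S.subtype := by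
  have hn : ((Cfsg.fittingSubgroup G ⊓ S).subgroupOf S).Normal := by
    rw [Subgroup.inf_subgroupOf_right]
    infer_instance
  have hnil : Group.IsNilpotent ↥((Cfsg.fittingSubgroup G ⊓ S).subgroupOf S) :=
    isNilpotent_of_mulEquiv (Subgroup.subgroupOfEquivOfLe inf_le_right).symm
      (isNilpotent_of_le inf_le_left fittingSubgroup_isNilpotent)
  have h1 := le_fittingSubgroup hn hnil
  intro x hx
  exact ⟨⟨x, (Subgroup.mem_inf.mp hx).2⟩, h1 (Subgroup.mem_subgroupOf.mpr hx), rfl⟩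

/-- Components of `X` inside a subnormal subgroup `S` are components of `S`. -/
theorem component_le_layer_subnormal [Finite G] (S : Subgroup G) (hS : S.IsSubnormal)
    {L : Subgroup G} (hL : Cfsg.IsComponent L) (hLS : L ≤ S) :
    L ≤ (Cfsg.layer ↥S).map S.subtype := by
  have h1 : Cfsg.IsComponent (L.subgroupOf S) := by
    rw [isComponent_map_subtype_iff S hS, Subgroup.subgroupOf_map_subtype, inf_eq_left.mpr hLS]
    exact hL
  intro x hx
  exact ⟨⟨x, hLS hx⟩, component_le_layer h1 (Subgroup.mem_subgroupOf.mpr hx), rfl⟩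

/-- Decomposition of elements of `S ∩ F*(X)` for `S` subnormal. -/
theorem subnormal_inf_genFitting_decomp [Finite G] (S : Subgroup G) (hS : S.IsSubnormal)
    {s : G} (hsS : s ∈ S) (hsF : s ∈ Cfsg.generalizedFittingSubgroup G) :
    ∃ e1 ∈ (Cfsg.layer ↥S).map S.subtype, ∃ s' ∈ Cfsg.fittingSubgroup G ⊓ S, s = e1 * s' := by
  set E1 := sSup {L : Subgroup G | Cfsg.IsComponent L ∧ L ≤ S} with hE1
  set E2 := sSup {L : Subgroup G | Cfsg.IsComponent L ∧ ¬ L ≤ S} with hE2
  have hE1S : E1 ≤ (Cfsg.layer ↥S).map S.subtype :=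
    sSup_le fun L hL => component_le_layer_subnormal S hS hL.1 hL.2
  have hE1S' : E1 ≤ S := sSup_le fun L hL => hL.2
  have hE2S : E2 ≤ Subgroup.centralizer (S : Set G) := by
    apply sSup_le
    rintro L ⟨hL, hLS⟩
    rcases component_le_or_commutator_eq_bot_of_isSubnormal L S hL hS with h | h
    · exact absurd h hLS
    · rwa [Subgroup.commutator_eq_bot_iff_le_centralizer] at h
  have hE12 : E2 ≤ Subgroup.centralizer (E1 : Set G) :=
    hE2S.trans (Subgroup.centralizer_le (SetLike.coe_subset_coe.mpr hE1S'))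
  have hE : Cfsg.layer G ≤ E1 ⊔ E2 := by
    apply sSup_le
    intro L hL
    by_cases hLS : L ≤ S
    · have h1 : L ≤ E1 :=
        le_sSup (show L ∈ {L : Subgroup G | Cfsg.IsComponent L ∧ L ≤ S} from ⟨hL, hLS⟩)
      exact h1.trans le_sup_left
    · have h1 : L ≤ E2 :=
        le_sSup (show L ∈ {L : Subgroup G | Cfsg.IsComponent L ∧ ¬ L ≤ S} from ⟨hL, hLS⟩)
      exact h1.trans le_sup_right
  have hE2E : E2 ≤ Cfsg.layer G := sSup_le fun L hL => component_le_layer hL.1
  -- decompose `s = e * f`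
  have hs' : s ∈ ((Cfsg.layer G ⊔ Cfsg.fittingSubgroup G : Subgroup G) : Set G) := hsF
  rw [Subgroup.normal_mul] at hs'
  obtain ⟨e, he, f, hf, hef⟩ := hs'
  have he' : e ∈ ((E1 ⊔ E2 : Subgroup G) : Set G) := hE he
  rw [Subgroup.coe_mul_of_right_le_normalizer_left E1 E2
    (hE12.trans (Subgroup.centralizer_le_normalizer _))] at he'
  obtain ⟨e1, he1, e2, he2, he12⟩ := he'
  have he1' : e1 ∈ E1 := he1
  have he2' : e2 ∈ E2 := he2
  have hf' : f ∈ Cfsg.fittingSubgroup G := hf
  have hs : s = e1 * (e2 * f) := by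
    rw [← hef, ← he12]; simp only [mul_assoc]
  have hs'S : e2 * f ∈ S := by
    have : e2 * f = e1⁻¹ * s := by rw [hs]; group
    rw [this]
    exact S.mul_mem (S.inv_mem (hE1S' he1')) hsS
  -- `e2` is central in the layer
  have he2c : ∀ x ∈ Cfsg.layer G, x * e2 = e2 * x := by
    intro x hx
    have hx' : x ∈ ((E1 ⊔ E2 : Subgroup G) : Set G) := hE hx
    rw [Subgroup.coe_mul_of_right_le_normalizer_left E1 E2
      (hE12.trans (Subgroup.centralizer_le_normalizer _))] at hx'
    obtain ⟨x1, hx1, x2, hx2, rfl⟩ := hx'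
    have h1 : x1 * e2 = e2 * x1 := Subgroup.mem_centralizer_iff.mp (hE12 he2') x1 hx1
    -- `x2 ∈ E2` commutes with `e2 * f ∈ S` and with `f`
    have h2 : (e2 * f) * x2 = x2 * (e2 * f) :=
      Subgroup.mem_centralizer_iff.mp (hE2S hx2) _ hs'S
    have h3 : x2 * f = f * x2 := layer_commute_fitting (hE2E hx2) hf'
    have h4 : x2 * e2 = e2 * x2 := by
      calc x2 * e2 = x2 * (e2 * f) * f⁻¹ := by group
        _ = e2 * f * x2 * f⁻¹ := by rw [← h2]
        _ = e2 * (f * x2) * f⁻¹ := by group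
        _ = e2 * (x2 * f) * f⁻¹ := by rw [h3]
        _ = e2 * x2 := by group
    calc x1 * x2 * e2 = x1 * (x2 * e2) := by group
      _ = x1 * (e2 * x2) := by rw [h4]
      _ = (x1 * e2) * x2 := by group
      _ = e2 * x1 * x2 := by rw [h1]
      _ = e2 * (x1 * x2) := by group
  have he2F : e2 ∈ Cfsg.fittingSubgroup G := by
    have : e2 ∈ (Subgroup.center ↥(Cfsg.layer G)).map (Cfsg.layer G).subtype := by
      refine ⟨⟨e2, hE2E he2'⟩, ?_, rfl⟩
      rw [SetLike.mem_coe, Subgroup.mem_center_iff]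
      intro g
      apply Subtype.ext
      exact he2c g g.2
    rw [center_layer_eq] at this
    exact (Subgroup.mem_inf.mp this).1
  exact ⟨e1, hE1S he1', e2 * f,
    Subgroup.mem_inf.mpr ⟨Subgroup.mul_mem _ he2F hf', hs'S⟩, hs⟩

/-- `S1318`. -/
theorem subnormal_in_genFitting [Finite G] (S : Subgroup G)
    (hS : S ≤ Cfsg.generalizedFittingSubgroup G)
    (hsn : (S.subgroupOf (Cfsg.generalizedFittingSubgroup G)).IsSubnormal) :
    (Cfsg.fittingSubgroup ↥S).map S.subtype = Cfsg.fittingSubgroup G ⊓ S ∧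
      Cfsg.fittingSubgroup ↥S ⊔ Cfsg.layer ↥S = ⊤ := by
  have hSsn : S.IsSubnormal :=
    Subgroup.IsSubnormal.trans hS hsn
      (inferInstance : (Cfsg.generalizedFittingSubgroup G).Normal).isSubnormal
  have h1 : (Cfsg.fittingSubgroup ↥S).map S.subtype = Cfsg.fittingSubgroup G ⊓ S := by
    apply le_antisymm
    · apply le_inf (fittingSubgroup_subnormal_le S hSsn)
      rintro _ ⟨x, -, rfl⟩; exact x.2
    · exact fitting_inf_le S
  refine ⟨h1, ?_⟩
  rw [eq_top_iff]
  intro s _
  obtain ⟨e1, he1, s', hs', hs⟩ := subnormal_inf_genFitting_decomp S hSsn s.2 (hS s.2)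
  rw [← h1] at hs'
  obtain ⟨y, hy, rfl⟩ := he1
  obtain ⟨z, hz, rfl⟩ := hs'
  have : s = y * z := Subtype.ext hs
  rw [this, sup_comm]
  exact Subgroup.mul_mem _ (Subgroup.mem_sup_left hy) (Subgroup.mem_sup_right hz)

theorem layer_subnormal_le [Finite G] (S : Subgroup G) (hS : S.IsSubnormal) :
    (Cfsg.layer ↥S).map S.subtype ≤ Cfsg.layer G := by
  unfold Cfsg.layer
  rw [(Subgroup.gc_map_comap S.subtype).l_sSup]
  apply iSup₂_le
  intro K hK
  exact le_sSup ((isComponent_map_subtype_iff S hS K).mp hK)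

/-- `S1320`. -/
theorem genFitting_inf_normal [Finite G] (B : Subgroup G) [hB : B.Normal] :
    Cfsg.generalizedFittingSubgroup G ⊓ B =
      (Cfsg.generalizedFittingSubgroup ↥B).map B.subtype := by
  apply le_antisymm
  · intro s hs
    obtain ⟨hsF, hsB⟩ := Subgroup.mem_inf.mp hs
    obtain ⟨e1, he1, s', hs', rfl⟩ := subnormal_inf_genFitting_decomp B hB.isSubnormal hsB hsF
    apply Subgroup.mul_mem
    · exact Subgroup.map_mono layer_le_generalizedFittingSubgroup he1
    · exact Subgroup.map_mono fittingSubgroup_le_generalizedFittingSubgroup (fitting_inf_le B hs')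
  · apply le_inf
    · unfold Cfsg.generalizedFittingSubgroup
      rw [Subgroup.map_sup]
      exact sup_le_sup (layer_subnormal_le B hB.isSubnormal) (fittingSubgroup_normal_le B)
    · rintro _ ⟨x, -, rfl⟩; exact x.2

end Cfsg.Agent.Helper2
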