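import Mathlib

set_option autoImplicit false

/-!
# 2-groups of symplectic type of order 64, exponent 4 and centre of order 4 (abstract part)

If every characteristic abelian subgroup of `G` is cyclic, `|G| = 64`, `|Z(G)| = 4` and `G` has
exponent dividing 4, then `G / Z(G)` is elementary abelian and all commutators are central of order at
most two.  (Used for S6000 / S6001.)
-/

namespace Cfsg.Agent.Helper2.SymT

open Subgroup
open scoped commutatorElement

variable {G : Type*} [Group G]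

theorem comm_mul_left_of_central {b c g : G} (hc : ⁅c, g⁆ ∈ center G) :
    ⁅b * c, g⁆ = ⁅c, g⁆ * ⁅b, g⁆ := by
  have h := mem_center_iff.mp hc b
  have e : ⁅b * c, g⁆ = b * ⁅c, g⁆ * b⁻¹ * ⁅b, g⁆ := by
    simp only [commutatorElement_def]; group
  rw [e, h]; group

theorem comm_mul_right_of_central {b g h : G} (hc : ⁅b, h⁆ ∈ center G) :
    ⁅b, g * h⁆ = ⁅b, g⁆ * ⁅b, h⁆ := by
  have h' := mem_center_iff.mp hc (g⁻¹)
  have e : ⁅b, g * h⁆ = b * g * b⁻¹ * ⁅b, h⁆ * g⁻¹ := by
    simp only [commutatorElement_def]; group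
  rw [e, mul_assoc, ← h']
  simp only [commutatorElement_def]; group

theorem comm_inv_left_of_central {b g : G} (hc : ⁅b, g⁆ ∈ center G) :
    ⁅b⁻¹, g⁆ = ⁅b, g⁆⁻¹ := by
  have h := mem_center_iff.mp hc b
  have e : ⁅b⁻¹, g⁆ = b⁻¹ * ⁅b, g⁆⁻¹ * b := by
    simp only [commutatorElement_def]; group
  have h2 : b * ⁅b, g⁆⁻¹ = ⁅b, g⁆⁻¹ * b := by
    have := congrArg (fun t => ⁅b, g⁆⁻¹ * t * ⁅b, g⁆⁻¹) h
    have e1 : ⁅b, g⁆⁻¹ * (b * ⁅b, g⁆) * ⁅b, g⁆⁻¹ = ⁅b, g⁆⁻¹ * b := by group
    have e2 : ⁅b, g⁆⁻¹ * (⁅b, g⁆ * b) * ⁅b, g⁆⁻¹ = b * ⁅b, g⁆⁻¹ := by group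
    rw [← e1, ← e2]; exact this.symm
  rw [e, mul_assoc, ← h2]; group

/-- the subgroup `B`: elements `b` with `[b, G] ≤ Z(G)` and `b² ∈ Z(G)`. -/
def BB (G : Type*) [Group G] : Subgroup G where
  carrier := {b | (∀ g : G, ⁅b, g⁆ ∈ center G) ∧ b ^ 2 ∈ center G}
  one_mem' := by
    refine ⟨fun g => ?_, ?_⟩
    · rw [commutatorElement_one_left]; exact one_mem _
    · rw [one_pow]; exact one_mem _
  mul_mem' := by
    rintro b c ⟨hb1, hb2⟩ ⟨hc1, hc2⟩
    refine ⟨fun g => ?_, ?_⟩
    · rw [comm_mul_left_of_central (hc1 g)]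
      exact mul_mem (hc1 g) (hb1 g)
    · have h1 := mem_center_iff.mp (hc1 b) b
      have e : (b * c) ^ 2 = b * ⁅c, b⁆ * b * c ^ 2 := by
        simp only [commutatorElement_def, pow_two]; group
      rw [e, mul_assoc b, ← h1]
      have e2 : b * (b * ⁅c, b⁆) * c ^ 2 = b ^ 2 * ⁅c, b⁆ * c ^ 2 := by
        rw [pow_two b]; simp only [mul_assoc]
      rw [e2]
      exact mul_mem (mul_mem hb2 (hc1 b)) hc2
  inv_mem' := by
    rintro b ⟨hb1, hb2⟩
    refine ⟨fun g => ?_, ?_⟩
    · rw [comm_inv_left_of_central (hb1 g)]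
      exact inv_mem (hb1 g)
    · rw [inv_pow]; exact inv_mem hb2

theorem mem_BB {b : G} : b ∈ BB G ↔ (∀ g : G, ⁅b, g⁆ ∈ center G) ∧ b ^ 2 ∈ center G := Iff.rfl

theorem center_le_BB : center G ≤ BB G := by
  intro z hz
  refine ⟨fun g => ?_, pow_mem hz 2⟩
  have h := mem_center_iff.mp hz g
  have : ⁅z, g⁆ = 1 := by
    rw [commutatorElement_def, ← h]; group
  rw [this]; exact one_mem _

instance BB_characteristic : (BB G).Characteristic := by
  rw [characteristic_iff_le_comap]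
  intro φ b hb
  rw [mem_comap]
  have hcen : ∀ z ∈ center G, φ z ∈ center G := by
    intro z hz
    rw [mem_center_iff]
    intro g
    have h := mem_center_iff.mp hz (φ.symm g)
    have := congrArg φ h
    simpa using this
  refine ⟨fun g => ?_, ?_⟩
  · have h1 := hcen _ (hb.1 (φ.symm g))
    have e : φ ⁅b, φ.symm g⁆ = ⁅φ b, g⁆ := by
      simp [commutatorElement_def]
    change ⁅φ b, g⁆ ∈ center G
    rw [← e]
    exact h1
  · have := hcen _ hb.2
    simpa using this

/-- for `b ∈ B` all commutators `[b, g]` have order at most two. -/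
theorem comm_sq_eq_one {b : G} (hb : b ∈ BB G) (g : G) : ⁅b, g⁆ ^ 2 = 1 := by
  have hk := mem_center_iff.mp (hb.1 g)
  have h2 := mem_center_iff.mp hb.2 g
  have e1 : b * g = ⁅b, g⁆ * g * b := by
    simp only [commutatorElement_def]; group
  have e2 : b ^ 2 * g = ⁅b, g⁆ ^ 2 * g * b ^ 2 := by
    calc b ^ 2 * g = b * (b * g) := by rw [pow_two]; group
      _ = b * (⁅b, g⁆ * g * b) := by rw [← e1]
      _ = (b * ⁅b, g⁆) * g * b := by group
      _ = (⁅b, g⁆ * b) * g * b := by rw [hk b]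
      _ = ⁅b, g⁆ * (b * g) * b := by group
      _ = ⁅b, g⁆ * (⁅b, g⁆ * g * b) * b := by rw [← e1]
      _ = ⁅b, g⁆ ^ 2 * g * b ^ 2 := by rw [pow_two, pow_two]; group
  rw [← h2] at e2
  have e3 : g * b ^ 2 = ⁅b, g⁆ ^ 2 * (g * b ^ 2) := by rw [← mul_assoc]; exact e2
  have := mul_right_cancel (a := (1 : G)) (b := g * b ^ 2) (c := ⁅b, g⁆ ^ 2) (by rw [one_mul]; exact e3)
  exact this.symm

/-- the commutator homomorphism `g ↦ [b, g]` for `b ∈ B`. -/
def commHom (b : G) (hb : b ∈ BB G) : G →* center G where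
  toFun g := ⟨⁅b, g⁆, hb.1 g⟩
  map_one' := by
    apply Subtype.ext
    simp
  map_mul' g h := by
    apply Subtype.ext
    simp only [Subgroup.coe_mul]
    exact comm_mul_right_of_central (hb.1 h)

theorem commHom_apply (b : G) (hb : b ∈ BB G) (g : G) : ((commHom b hb g : center G) : G) = ⁅b, g⁆ := rfl

theorem mem_ker_commHom {b : G} (hb : b ∈ BB G) {g : G} : g ∈ (commHom b hb).ker ↔ b * g = g * b := by
  rw [MonoidHom.mem_ker, Subtype.ext_iff, commHom_apply, Subgroup.coe_one, commutatorElement_eq_one_iff_mul_comm]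

section main

variable [Finite G]

/-- there is an element of `B` outside the centre. -/
theorem exists_mem_BB_not_mem_center (hcard : Nat.card G = 64) (hZ : Nat.card (center G) = 4)
    (hexp : ∀ g : G, g ^ 4 = 1) : ∃ b ∈ BB G, b ∉ center G := by
  classical
  have hQ : Nat.card (G ⧸ center G) = 16 := by
    have := card_eq_card_quotient_mul_card_subgroup (center G)
    rw [hcard, hZ] at this
    omega
  have : Fact (Nat.Prime 2) := ⟨Nat.prime_two⟩
  have hp : IsPGroup 2 (G ⧸ center G) := IsPGroup.of_card (n := 4) (by rw [hQ]; norm_num)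
  have : Nontrivial (G ⧸ center G) := by
    rw [← Finite.one_lt_card_iff_nontrivial, hQ]; norm_num
  have := hp.center_nontrivial
  obtain ⟨⟨q, hq⟩, hq1⟩ := exists_ne (1 : center (G ⧸ center G))
  obtain ⟨b', rfl⟩ := QuotientGroup.mk_surjective q
  have hb'Z : b' ∉ center G := by
    intro h
    apply hq1
    apply Subtype.ext
    exact (QuotientGroup.eq_one_iff b').mpr h
  have key : ∀ c : G, (c : G ⧸ center G) ∈ center (G ⧸ center G) → ∀ g, ⁅c, g⁆ ∈ center G := by
    intro c hc g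
    rw [← QuotientGroup.eq_one_iff]
    have h := mem_center_iff.mp hc (g : G ⧸ center G)
    have e : ((⁅c, g⁆ : G) : G ⧸ center G) = ⁅(c : G ⧸ center G), (g : G ⧸ center G)⁆ := by
      simp [commutatorElement_def]
    rw [e, commutatorElement_eq_one_iff_mul_comm]
    exact h.symm
  by_cases h2 : b' ^ 2 ∈ center G
  · exact ⟨b', ⟨key b' hq, h2⟩, hb'Z⟩
  · refine ⟨b' ^ 2, ⟨key (b' ^ 2) ?_, ?_⟩, h2⟩
    · have : ((b' ^ 2 : G) : G ⧸ center G) = (b' : G ⧸ center G) ^ 2 := rfl
      rw [this]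
      exact pow_mem hq 2
    · rw [← pow_mul]
      norm_num
      rw [hexp]
      exact one_mem _

/-- `B` is not abelian. -/
theorem exists_not_comm_BB (hcard : Nat.card G = 64) (hZ : Nat.card (center G) = 4)
    (hexp : ∀ g : G, g ^ 4 = 1)
    (hchar : ∀ A : Subgroup G, A.Characteristic → IsMulCommutative A → IsCyclic A) :
    ∃ b ∈ BB G, ∃ c ∈ BB G, b * c ≠ c * b := by
  by_contra hcon
  push Not at hcon
  have hcomm : IsMulCommutative (BB G) := ⟨⟨fun a b => Subtype.ext (hcon a.1 a.2 b.1 b.2)⟩⟩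
  have hcyc := hchar (BB G) inferInstance hcomm
  have h1 : Monoid.exponent (BB G) ∣ 4 := by
    apply Monoid.exponent_dvd_of_forall_pow_eq_one
    intro g
    apply Subtype.ext
    simp [hexp]
  rw [IsCyclic.exponent_eq_card] at h1
  have h2 : Nat.card (BB G) ≤ 4 := Nat.le_of_dvd (by norm_num) h1
  have h3 : center G = BB G := by
    apply Subgroup.eq_of_le_of_card_ge center_le_BB
    rw [hZ]; exact h2
  obtain ⟨b, hb, hbZ⟩ := exists_mem_BB_not_mem_center hcard hZ hexp
  rw [h3] at hbZ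
  exact hbZ hb

omit [Finite G] in
/-- the unique involution of a cyclic centre of order 4. -/
theorem exists_central_involution (hZ : Nat.card (center G) = 4) (hcyc : IsCyclic (center G)) :
    ∃ z₀ ∈ center G, z₀ ≠ 1 ∧ z₀ ^ 2 = 1 ∧ ∀ w ∈ center G, w ^ 2 = 1 → w = 1 ∨ w = z₀ := by
  obtain ⟨ζ, hζ⟩ := hcyc.exists_generator
  have hord : orderOf ζ = 4 := by
    rw [orderOf_eq_card_of_forall_mem_zpowers hζ, hZ]
  refine ⟨((ζ ^ 2 : center G) : G), (ζ ^ 2).2, ?_, ?_, ?_⟩
  · intro h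
    have h' : ζ ^ 2 = 1 := Subtype.ext h
    have := orderOf_dvd_of_pow_eq_one h'
    rw [hord] at this
    omega
  · have : (ζ ^ 2) ^ 2 = 1 := by
      rw [← pow_mul]
      have := pow_orderOf_eq_one ζ
      rwa [hord] at this
    have := congrArg (Subtype.val) this
    simpa using this
  · intro w hw hw2
    obtain ⟨k, hk⟩ := hζ ⟨w, hw⟩
    simp only at hk
    have h1 : ζ ^ (2 * k) = 1 := by
      rw [mul_comm, zpow_mul, hk]
      apply Subtype.ext
      simpa using hw2
    have h2 : ((orderOf ζ : ℕ) : ℤ) ∣ 2 * k := orderOf_dvd_iff_zpow_eq_one.mpr h1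
    rw [hord] at h2
    have h3 : (2 : ℤ) ∣ k := by omega
    obtain ⟨m, rfl⟩ := h3
    have hw' : w = ((ζ ^ (2 * m) : center G) : G) := by rw [hk]
    rcases Int.even_or_odd m with ⟨j, hj⟩ | ⟨j, hj⟩
    · left
      rw [hw']
      have : ζ ^ (2 * m) = 1 := by
        rw [hj]
        have : 2 * (j + j) = (4 : ℤ) * j := by ring
        rw [this, zpow_mul]
        have h4 : ζ ^ (4 : ℤ) = 1 := by
          have := pow_orderOf_eq_one ζ
          rw [hord] at this
          exact_mod_cast this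
        rw [h4, one_zpow]
      rw [this]; rfl
    · right
      rw [hw']
      have : ζ ^ (2 * m) = ζ ^ 2 := by
        rw [hj]
        have : 2 * (2 * j + 1) = (4 : ℤ) * j + 2 := by ring
        rw [this, zpow_add, zpow_mul]
        have h4 : ζ ^ (4 : ℤ) = 1 := by
          have := pow_orderOf_eq_one ζ
          rw [hord] at this
          exact_mod_cast this
        rw [h4, one_zpow, one_mul]
        exact zpow_natCast ζ 2
      rw [this]

omit [Finite G] in
/-- the kernel of a commutator homomorphism has index at most two. -/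
theorem index_ker_commHom_le {z₀ : G} (hz₀Z : z₀ ∈ center G)
    (hu : ∀ w ∈ center G, w ^ 2 = 1 → w = 1 ∨ w = z₀) {b : G} (hb : b ∈ BB G) :
    (commHom b hb).ker.index ≤ 2 := by
  classical
  rw [Subgroup.index_ker]
  have hsub : ((commHom b hb).range : Set (center G)) ⊆
      (({1, ⟨z₀, hz₀Z⟩} : Finset (center G)) : Set (center G)) := by
    rintro w ⟨g, rfl⟩
    rcases hu _ (hb.1 g) (comm_sq_eq_one hb g) with h | h
    · simp only [Finset.coe_insert, Finset.coe_singleton, Set.mem_insert_iff, Set.mem_singleton_iff]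
      left; exact Subtype.ext h
    · simp only [Finset.coe_insert, Finset.coe_singleton, Set.mem_insert_iff, Set.mem_singleton_iff]
      right; exact Subtype.ext h
  have h1 := Set.ncard_le_ncard hsub (Finset.finite_toSet _)
  rw [Set.ncard_coe_finset] at h1
  have h2 : Nat.card (commHom b hb).range = ((commHom b hb).range : Set (center G)).ncard :=
    Nat.card_coe_set_eq _
  rw [h2]
  exact h1.trans (Finset.card_le_two)

set_option maxHeartbeats 800000 in
/-- **Main abstract result:** `B = G`. -/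
theorem all_mem_BB (hcard : Nat.card G = 64) (hZ : Nat.card (center G) = 4)
    (hexp : ∀ g : G, g ^ 4 = 1)
    (hchar : ∀ A : Subgroup G, A.Characteristic → IsMulCommutative A → IsCyclic A) :
    ∀ g : G, g ∈ BB G := by
  classical
  have hcyc : IsCyclic (center G) := hchar (center G) inferInstance inferInstance
  obtain ⟨z₀, hz₀Z, hz₀1, hz₀2, hz₀u⟩ := exists_central_involution hZ hcyc
  obtain ⟨b, hb, c, hc, hbc⟩ := exists_not_comm_BB hcard hZ hexp hchar
  have hval : ∀ x ∈ BB G, ∀ g, ⁅x, g⁆ = 1 ∨ ⁅x, g⁆ = z₀ :=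
    fun x hx g => hz₀u _ (hx.1 g) (comm_sq_eq_one hx g)
  have hbc' : ⁅b, c⁆ = z₀ := by
    rcases hval b hb c with h | h
    · exact absurd (commutatorElement_eq_one_iff_mul_comm.mp h) hbc
    · exact h
  have hcb' : ⁅c, b⁆ = z₀ := by
    rcases hval c hc b with h | h
    · exact absurd (commutatorElement_eq_one_iff_mul_comm.mp h).symm hbc
    · exact h
  set Cb : Subgroup G := (commHom b hb).ker with hCb
  set Cc : Subgroup G := (commHom c hc).ker with hCc
  set H : Subgroup G := Cb ⊓ Cc with hH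
  have hmemH : ∀ g, g ∈ H ↔ b * g = g * b ∧ c * g = g * c := by
    intro g
    rw [hH, Subgroup.mem_inf, hCb, hCc, mem_ker_commHom, mem_ker_commHom]
  -- decomposition
  have hdec : ∀ g : G, ∃ w : G, w ∈ BB G ∧ (∀ h ∈ H, w * h = h * w) ∧ w⁻¹ * g ∈ H := by
    intro g
    have hw : ∀ w : G, ⁅b, w⁆ = ⁅b, g⁆ → ⁅c, w⁆ = ⁅c, g⁆ → w⁻¹ * g ∈ H := by
      intro w h1 h2
      rw [hH, Subgroup.mem_inf, hCb, hCc, MonoidHom.mem_ker, MonoidHom.mem_ker, map_mul, map_mul,
        map_inv, map_inv]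
      constructor
      · have : commHom b hb w = commHom b hb g := Subtype.ext h1
        rw [this, inv_mul_cancel]
      · have : commHom c hc w = commHom c hc g := Subtype.ext h2
        rw [this, inv_mul_cancel]
    have hbb : ⁅b, b⁆ = 1 := commutatorElement_self b
    have hcc : ⁅c, c⁆ = 1 := commutatorElement_self c
    rcases hval b hb g with h1 | h1 <;> rcases hval c hc g with h2 | h2
    · refine ⟨1, one_mem _, fun h _ => by rw [one_mul, mul_one], hw 1 ?_ ?_⟩
      · rw [h1, commutatorElement_one_right]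
      · rw [h2, commutatorElement_one_right]
    · refine ⟨b, hb, fun h hh => ((hmemH h).mp hh).1, hw b ?_ ?_⟩
      · rw [h1, hbb]
      · rw [h2, hcb']
    · refine ⟨c, hc, fun h hh => ((hmemH h).mp hh).2, hw c ?_ ?_⟩
      · rw [h1, hbc']
      · rw [h2, hcc]
    · refine ⟨b * c, mul_mem hb hc, fun h hh => ?_, hw (b * c) ?_ ?_⟩
      · obtain ⟨e1, e2⟩ := (hmemH h).mp hh
        rw [mul_assoc, e2, ← mul_assoc, e1, mul_assoc]
      · rw [h1, comm_mul_right_of_central (hb.1 c), hbb, hbc', one_mul]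
      · rw [h2, comm_mul_right_of_central (hc.1 c), hcc, hcb', mul_one]
  -- cardinalities
  have hib : Cb.index ≤ 2 := index_ker_commHom_le hz₀Z hz₀u hb
  have hic : Cc.index ≤ 2 := index_ker_commHom_le hz₀Z hz₀u hc
  have hiH : H.index ≤ 4 := by
    have := Subgroup.index_inf_le (H := Cb) (K := Cc)
    calc H.index ≤ Cb.index * Cc.index := this
      _ ≤ 2 * 2 := Nat.mul_le_mul hib hic
  have hcH := Subgroup.card_mul_index H
  rw [hcard] at hcH
  have hcCb := Subgroup.card_mul_index Cb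
  rw [hcard] at hcCb
  have hH16 : 16 ≤ Nat.card H := by
    by_contra hlt
    push Not at hlt
    have : Nat.card H * H.index ≤ 15 * 4 := Nat.mul_le_mul (by omega) hiH
    omega
  have hbCb : b ∈ Cb := by rw [hCb, mem_ker_commHom]
  have hcCb' : c ∉ Cb := by rw [hCb, mem_ker_commHom]; exact hbc
  have hbH : b ∉ H := by
    rw [hmemH]; rintro ⟨-, h⟩; exact hbc h.symm
  have hCb32 : Nat.card Cb ≤ 32 := by
    have h1 : Cb.index ≠ 1 := by
      rw [Ne, Subgroup.index_eq_one]
      intro h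
      apply hcCb'
      rw [h]; exact Subgroup.mem_top c
    have h0 : Cb.index ≠ 0 := Subgroup.index_ne_zero_of_finite
    have h2 : Cb.index = 2 := by omega
    rw [h2] at hcCb
    omega
  have hHle : H ≤ Cb := inf_le_left
  have hH16' : Nat.card H ≤ 16 := by
    have hdvd := Subgroup.card_dvd_of_le hHle
    have hne : Nat.card H ≠ Nat.card Cb := by
      intro h
      have := Subgroup.eq_of_le_of_card_ge hHle h.ge
      apply hbH
      rw [this]; exact hbCb
    obtain ⟨k, hk⟩ := hdvd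
    have hpos : 0 < Nat.card H := Nat.card_pos
    by_cases hk0 : k = 0
    · rw [hk0, mul_zero] at hk
      rw [hk, zero_mul] at hcCb
      omega
    by_cases hk1 : k = 1
    · rw [hk1, mul_one] at hk
      exact absurd hk.symm hne
    have hk2 : 2 ≤ k := by omega
    have : Nat.card H * 2 ≤ Nat.card H * k := Nat.mul_le_mul_left _ hk2
    omega
  have hHcard : Nat.card H = 16 := le_antisymm hH16' hH16
  -- the centre lies in H
  have hZH : center G ≤ H := by
    intro z hz
    rw [hmemH]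
    exact ⟨mem_center_iff.mp hz b, mem_center_iff.mp hz c⟩
  -- H is not abelian
  have hHna : ¬ (∀ x ∈ H, ∀ y ∈ H, x * y = y * x) := by
    intro hab
    have hle : H ≤ center G := by
      intro h hh
      rw [mem_center_iff]
      intro g
      obtain ⟨w, -, hwc, hwg⟩ := hdec g
      have e : g = w * (w⁻¹ * g) := by group
      rw [e]
      have h1 := hab h hh _ hwg
      have h2 := hwc h hh
      calc w * (w⁻¹ * g) * h = w * ((w⁻¹ * g) * h) := by rw [mul_assoc]
        _ = w * (h * (w⁻¹ * g)) := by rw [h1]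
        _ = (w * h) * (w⁻¹ * g) := by rw [mul_assoc]
        _ = (h * w) * (w⁻¹ * g) := by rw [h2]
        _ = h * (w * (w⁻¹ * g)) := by rw [mul_assoc]
    have := Subgroup.card_le_of_le hle
    omega
  -- the quotient H / Z
  set Z' : Subgroup H := (center G).subgroupOf H with hZ'
  have hZ'n : Z'.Normal := Subgroup.normal_subgroupOf
  have hZ'card : Nat.card Z' = 4 := by
    rw [hZ', Nat.card_congr (Subgroup.subgroupOfEquivOfLe hZH).toEquiv, hZ]
  have hQcard : Nat.card (H ⧸ Z') = 4 := by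
    have := Subgroup.card_eq_card_quotient_mul_card_subgroup Z'
    rw [hHcard, hZ'card] at this
    omega
  have hZ'cen : Z' ≤ center H := by
    intro x hx
    rw [hZ', Subgroup.mem_subgroupOf] at hx
    rw [mem_center_iff]
    intro y
    apply Subtype.ext
    exact mem_center_iff.mp hx y
  have : Fact (Nat.Prime 2) := ⟨Nat.prime_two⟩
  have hQcomm : IsMulCommutative (H ⧸ Z') :=
    IsPGroup.isMulCommutative_of_card_eq_prime_sq (p := 2) (by rw [hQcard]; norm_num)
  have hcommH : ∀ x ∈ H, ∀ y ∈ H, ⁅x, y⁆ ∈ center G := by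
    intro x hx y hy
    have h1 : ((⟨x, hx⟩ : H) : H ⧸ Z') * ((⟨y, hy⟩ : H) : H ⧸ Z') =
        ((⟨y, hy⟩ : H) : H ⧸ Z') * ((⟨x, hx⟩ : H) : H ⧸ Z') := hQcomm.is_comm.comm _ _
    have h2 : ((⁅(⟨x, hx⟩ : H), (⟨y, hy⟩ : H)⁆ : H) : H ⧸ Z') = 1 := by
      have e : ((⁅(⟨x, hx⟩ : H), (⟨y, hy⟩ : H)⁆ : H) : H ⧸ Z') =
          ⁅((⟨x, hx⟩ : H) : H ⧸ Z'), ((⟨y, hy⟩ : H) : H ⧸ Z')⁆ :=
        map_commutatorElement (QuotientGroup.mk' Z') _ _
      rw [e, commutatorElement_eq_one_iff_mul_comm]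
      exact h1
    rw [QuotientGroup.eq_one_iff, hZ', Subgroup.mem_subgroupOf] at h2
    simpa [commutatorElement_def] using h2
  have hsqH : ∀ x ∈ H, x ^ 2 ∈ center G := by
    intro x hx
    by_contra hx2
    apply hHna
    have hq2 : ((⟨x, hx⟩ : H) : H ⧸ Z') ^ 2 ^ 1 ≠ 1 := by
      intro h
      apply hx2
      have h' : (((⟨x, hx⟩ : H) ^ 2 : H) : H ⧸ Z') = 1 := by
        rw [pow_one] at h; exact h
      rw [QuotientGroup.eq_one_iff, hZ', Subgroup.mem_subgroupOf] at h'
      simpa using h'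
    have hq4 : ((⟨x, hx⟩ : H) : H ⧸ Z') ^ 2 ^ (1 + 1) = 1 := by
      have h' : (((⟨x, hx⟩ : H) ^ 4 : H) : H ⧸ Z') = 1 := by
        have : (⟨x, hx⟩ : H) ^ 4 = 1 := Subtype.ext (by simpa using hexp x)
        rw [this]; rfl
      exact h'
    have hord := orderOf_eq_prime_pow hq2 hq4
    have hcycQ : IsCyclic (H ⧸ Z') := by
      apply isCyclic_of_orderOf_eq_card ((⟨x, hx⟩ : H) : H ⧸ Z')
      rw [hord, hQcard]; norm_num
    have hHc : IsMulCommutative H :=
      MonoidHom.isMulCommutative_of_isCyclic_of_ker_le_center (QuotientGroup.mk' Z')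
        (by rw [QuotientGroup.ker_mk']; exact hZ'cen)
    intro u hu v hv
    have := hHc.is_comm.comm (⟨u, hu⟩ : H) ⟨v, hv⟩
    exact congrArg Subtype.val this
  -- H ≤ B
  have hHB : H ≤ BB G := by
    intro y hy
    refine ⟨fun g => ?_, hsqH y hy⟩
    obtain ⟨w, -, hwc, hwg⟩ := hdec g
    have e : g = w * (w⁻¹ * g) := by group
    have h2 := hwc y hy
    have hc1 := hcommH y hy _ hwg
    have e2 : ⁅y, g⁆ = w * ⁅y, w⁻¹ * g⁆ * w⁻¹ := by
      have h3 : y * w = w * y := h2.symm
      simp only [commutatorElement_def]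
      calc y * g * y⁻¹ * g⁻¹ = y * (w * (w⁻¹ * g)) * y⁻¹ * (w * (w⁻¹ * g))⁻¹ := by rw [← e]
        _ = (y * w) * (w⁻¹ * g) * y⁻¹ * (w⁻¹ * g)⁻¹ * w⁻¹ := by group
        _ = (w * y) * (w⁻¹ * g) * y⁻¹ * (w⁻¹ * g)⁻¹ * w⁻¹ := by rw [h3]
        _ = w * (y * (w⁻¹ * g) * y⁻¹ * (w⁻¹ * g)⁻¹) * w⁻¹ := by group
    rw [e2]
    have h5 := mem_center_iff.mp hc1 w
    rw [h5, mul_assoc, mul_inv_cancel, mul_one]
    exact hc1
  intro g
  obtain ⟨w, hwB, -, hwg⟩ := hdec g
  have e : g = w * (w⁻¹ * g) := by group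
  rw [e]
  exact mul_mem hwB (hHB hwg)

/-- consequence: all commutators are `1` or the central involution, and squares are central. -/
theorem structure_of_symplectic_type (hcard : Nat.card G = 64) (hZ : Nat.card (center G) = 4)
    (hexp : ∀ g : G, g ^ 4 = 1)
    (hchar : ∀ A : Subgroup G, A.Characteristic → IsMulCommutative A → IsCyclic A) :
    (∀ x y : G, ⁅x, y⁆ ∈ center G ∧ ⁅x, y⁆ ^ 2 = 1) ∧ ∀ x : G, x ^ 2 ∈ center G := by
  have h := all_mem_BB hcard hZ hexp hchar
  exact ⟨fun x y => ⟨(h x).1 y, comm_sq_eq_one (h x) y⟩, fun x => (h x).2⟩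

end main

end Cfsg.Agent.Helper2.SymT
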