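import Mathlib
import Cfsg.Agent.Helper2.SymTA

set_option autoImplicit false

/-!
# Hyperbolic generators of a 2-group of symplectic type of order 64 (abstract part)
-/

namespace Cfsg.Agent.Helper2.SymT

open Subgroup
open scoped commutatorElement

variable {G : Type*} [Group G]

/-- splitting off a hyperbolic pair: every `g` is `w * h` with `w ∈ {1, b, c, b * c}` and `h` commuting
with `b` and `c`. -/
theorem decomp_pair {z₀ : G} (hu : ∀ w ∈ center G, w ^ 2 = 1 → w = 1 ∨ w = z₀) {b c : G}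
    (hb : b ∈ BB G) (hc : c ∈ BB G) (hbc : ⁅b, c⁆ = z₀) (hcb : ⁅c, b⁆ = z₀) (g : G) :
    ∃ w : G, (w = 1 ∨ w = b ∨ w = c ∨ w = b * c) ∧
      b * (w⁻¹ * g) = (w⁻¹ * g) * b ∧ c * (w⁻¹ * g) = (w⁻¹ * g) * c := by
  have hval : ∀ x ∈ BB G, ∀ g, ⁅x, g⁆ = 1 ∨ ⁅x, g⁆ = z₀ :=
    fun x hx g => hu _ (hx.1 g) (comm_sq_eq_one hx g)
  have hw : ∀ w : G, ⁅b, w⁆ = ⁅b, g⁆ → ⁅c, w⁆ = ⁅c, g⁆ →
      b * (w⁻¹ * g) = (w⁻¹ * g) * b ∧ c * (w⁻¹ * g) = (w⁻¹ * g) * c := by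
    intro w h1 h2
    rw [← mem_ker_commHom hb, ← mem_ker_commHom hc, MonoidHom.mem_ker, MonoidHom.mem_ker, map_mul,
      map_mul, map_inv, map_inv]
    constructor
    · have : commHom b hb w = commHom b hb g := Subtype.ext h1
      rw [this, inv_mul_cancel]
    · have : commHom c hc w = commHom c hc g := Subtype.ext h2
      rw [this, inv_mul_cancel]
  have hbb : ⁅b, b⁆ = 1 := commutatorElement_self b
  have hcc : ⁅c, c⁆ = 1 := commutatorElement_self c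
  rcases hval b hb g with h1 | h1 <;> rcases hval c hc g with h2 | h2
  · refine ⟨1, Or.inl rfl, hw 1 ?_ ?_⟩
    · rw [h1, commutatorElement_one_right]
    · rw [h2, commutatorElement_one_right]
  · refine ⟨b, Or.inr (Or.inl rfl), hw b ?_ ?_⟩
    · rw [h1, hbb]
    · rw [h2, hcb]
  · refine ⟨c, Or.inr (Or.inr (Or.inl rfl)), hw c ?_ ?_⟩
    · rw [h1, hbc]
    · rw [h2, hcc]
  · refine ⟨b * c, Or.inr (Or.inr (Or.inr rfl)), hw (b * c) ?_ ?_⟩
    · rw [h1, comm_mul_right_of_central (hb.1 c), hbb, hbc, one_mul]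
    · rw [h2, comm_mul_right_of_central (hc.1 c), hcc, hcb, mul_one]

/-- a proper subgroup has at most half the order. -/
theorem two_mul_card_le_of_lt [Finite G] {H K : Subgroup G} (hle : H ≤ K) {x : G} (hxK : x ∈ K)
    (hxH : x ∉ H) : 2 * Nat.card H ≤ Nat.card K := by
  have hdvd := Subgroup.card_dvd_of_le hle
  have hne : Nat.card H ≠ Nat.card K := by
    intro h
    have := Subgroup.eq_of_le_of_card_ge hle h.ge
    apply hxH
    rw [this]; exact hxK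
  obtain ⟨k, hk⟩ := hdvd
  have hpos : 0 < Nat.card K := Nat.card_pos
  by_cases hk0 : k = 0
  · rw [hk0, mul_zero] at hk
    omega
  by_cases hk1 : k = 1
  · rw [hk1, mul_one] at hk
    exact absurd hk.symm hne
  have hk2 : 2 ≤ k := by omega
  have : Nat.card H * 2 ≤ Nat.card H * k := Nat.mul_le_mul_left _ hk2
  omega

section main

variable [Finite G]

set_option maxHeartbeats 800000 in
/-- **Hyperbolic generators.**  Under the hypotheses of `all_mem_BB` there are involutions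
`b₁, c₁, b₂, c₂` with `[b₁, c₁] = [b₂, c₂] = z₀` (the central involution), all other pairs commuting,
such that every element of `G` is `w₁ * w₂ * z` with `w₁ ∈ {1, b₁, c₁, b₁c₁}`, `w₂ ∈ {1, b₂, c₂, b₂c₂}`
and `z` central. -/
theorem exists_hyperbolic_generators (hcard : Nat.card G = 64) (hZ : Nat.card (center G) = 4)
    (hexp : ∀ g : G, g ^ 4 = 1)
    (hchar : ∀ A : Subgroup G, A.Characteristic → IsMulCommutative A → IsCyclic A) :
    ∃ z₀ b₁ c₁ b₂ c₂ : G, z₀ ∈ center G ∧ z₀ ≠ 1 ∧ z₀ ^ 2 = 1 ∧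
      (∀ w ∈ center G, w ^ 2 = 1 → w = 1 ∨ w = z₀) ∧
      b₁ ^ 2 = 1 ∧ c₁ ^ 2 = 1 ∧ b₂ ^ 2 = 1 ∧ c₂ ^ 2 = 1 ∧
      b₁ * c₁ = z₀ * (c₁ * b₁) ∧ b₂ * c₂ = z₀ * (c₂ * b₂) ∧
      b₁ * b₂ = b₂ * b₁ ∧ b₁ * c₂ = c₂ * b₁ ∧ c₁ * b₂ = b₂ * c₁ ∧ c₁ * c₂ = c₂ * c₁ ∧
      ∀ g : G, ∃ w₁ w₂ z : G, (w₁ = 1 ∨ w₁ = b₁ ∨ w₁ = c₁ ∨ w₁ = b₁ * c₁) ∧
        (w₂ = 1 ∨ w₂ = b₂ ∨ w₂ = c₂ ∨ w₂ = b₂ * c₂) ∧ z ∈ center G ∧ g = w₁ * w₂ * z := by
  classical
  have hall := all_mem_BB hcard hZ hexp hchar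
  have hcyc : IsCyclic (center G) := hchar (center G) inferInstance inferInstance
  obtain ⟨z₀, hz₀Z, hz₀1, hz₀2, hz₀u⟩ := exists_central_involution hZ hcyc
  have hval : ∀ x g : G, ⁅x, g⁆ = 1 ∨ ⁅x, g⁆ = z₀ :=
    fun x g => hz₀u _ ((hall x).1 g) (comm_sq_eq_one (hall x) g)
  have hz₀c := mem_center_iff.mp hz₀Z
  -- normalisation to involutions
  have hnorm : ∀ x : G, ∃ ζ ∈ center G, (ζ * x) ^ 2 = 1 := by
    intro x
    obtain ⟨ζ, hζ⟩ := hcyc.exists_generator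
    have hord : orderOf ζ = 4 := by
      rw [orderOf_eq_card_of_forall_mem_zpowers hζ, hZ]
    have hx2 := (hall x).2
    have hx4 : (x ^ 2) ^ 2 = 1 := by rw [← pow_mul]; exact hexp x
    rcases hz₀u _ hx2 hx4 with h | h
    · exact ⟨1, one_mem _, by rw [one_mul]; exact h⟩
    · refine ⟨(ζ : G), ζ.2, ?_⟩
      have hζc := mem_center_iff.mp ζ.2 x
      have hζ2 : ((ζ : G)) ^ 2 = z₀ := by
        have h4 : ((ζ : G) ^ 2) ^ 2 = 1 := by
          rw [← pow_mul]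
          have := pow_orderOf_eq_one ζ
          rw [hord] at this
          have := congrArg Subtype.val this
          simpa using this
        rcases hz₀u _ (pow_mem ζ.2 2) h4 with h' | h'
        · exfalso
          have h'' : ζ ^ 2 = 1 := Subtype.ext (by simpa using h')
          have := orderOf_dvd_of_pow_eq_one h''
          rw [hord] at this
          omega
        · exact h'
      have e : ((ζ : G) * x) ^ 2 = (ζ : G) ^ 2 * x ^ 2 := by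
        rw [pow_two, pow_two, pow_two]
        calc (ζ : G) * x * ((ζ : G) * x) = (ζ : G) * (x * (ζ : G)) * x := by group
          _ = (ζ : G) * ((ζ : G) * x) * x := by rw [hζc]
          _ = (ζ : G) * (ζ : G) * (x * x) := by group
      rw [e, hζ2, h, ← pow_two, hz₀2]
  -- a first non-commuting pair
  have hna : ∃ b c : G, b * c ≠ c * b := by
    by_contra hcon
    push Not at hcon
    have : center G = ⊤ := by
      rw [eq_top_iff]
      intro g _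
      rw [mem_center_iff]
      intro h
      exact hcon h g
    rw [this, Subgroup.card_top, hcard] at hZ
    omega
  obtain ⟨b₁', c₁', hbc1⟩ := hna
  obtain ⟨ζb, hζb, hb1sq⟩ := hnorm b₁'
  obtain ⟨ζc, hζc, hc1sq⟩ := hnorm c₁'
  obtain ⟨b₁, hb₁⟩ : ∃ x, x = ζb * b₁' := ⟨_, rfl⟩
  obtain ⟨c₁, hc₁⟩ : ∃ x, x = ζc * c₁' := ⟨_, rfl⟩
  rw [← hb₁] at hb1sq
  rw [← hc₁] at hc1sq
  have hbc1' : b₁ * c₁ ≠ c₁ * b₁ := by
    intro h
    apply hbc1
    have h1 := mem_center_iff.mp hζb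
    have h2 := mem_center_iff.mp hζc
    have e1 : b₁ * c₁ = ζb * ζc * (b₁' * c₁') := by
      rw [hb₁, hc₁]
      calc ζb * b₁' * (ζc * c₁') = ζb * (b₁' * ζc) * c₁' := by group
        _ = ζb * (ζc * b₁') * c₁' := by rw [h2 b₁']
        _ = ζb * ζc * (b₁' * c₁') := by group
    have e2 : c₁ * b₁ = ζb * ζc * (c₁' * b₁') := by
      rw [hb₁, hc₁]
      calc ζc * c₁' * (ζb * b₁') = ζc * (c₁' * ζb) * b₁' := by group
        _ = ζc * (ζb * c₁') * b₁' := by rw [h1 c₁']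
        _ = (ζc * ζb) * (c₁' * b₁') := by group
        _ = ζb * ζc * (c₁' * b₁') := by rw [h1 ζc]
    rw [e1, e2] at h
    exact mul_left_cancel h
  have hB1 : ⁅b₁, c₁⁆ = z₀ := by
    rcases hval b₁ c₁ with h | h
    · exact absurd (commutatorElement_eq_one_iff_mul_comm.mp h) hbc1'
    · exact h
  have hC1 : ⁅c₁, b₁⁆ = z₀ := by
    rcases hval c₁ b₁ with h | h
    · exact absurd (commutatorElement_eq_one_iff_mul_comm.mp h).symm hbc1'
    · exact h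
  -- H = C(b₁) ∩ C(c₁)
  set Cb : Subgroup G := (commHom b₁ (hall b₁)).ker with hCb
  set Cc : Subgroup G := (commHom c₁ (hall c₁)).ker with hCc
  set H : Subgroup G := Cb ⊓ Cc with hH
  have hmemH : ∀ g, g ∈ H ↔ b₁ * g = g * b₁ ∧ c₁ * g = g * c₁ := by
    intro g
    rw [hH, Subgroup.mem_inf, hCb, hCc, mem_ker_commHom, mem_ker_commHom]
  have hiH : H.index ≤ 4 := by
    have := Subgroup.index_inf_le (H := Cb) (K := Cc)
    calc H.index ≤ Cb.index * Cc.index := this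
      _ ≤ 2 * 2 := Nat.mul_le_mul (index_ker_commHom_le hz₀Z hz₀u _)
          (index_ker_commHom_le hz₀Z hz₀u _)
  have hcH := Subgroup.card_mul_index H
  rw [hcard] at hcH
  have hH16 : 16 ≤ Nat.card H := by
    by_contra hlt
    push Not at hlt
    have : Nat.card H * H.index ≤ 15 * 4 := Nat.mul_le_mul (by omega) hiH
    omega
  have hZH : center G ≤ H := by
    intro z hz
    rw [hmemH]
    exact ⟨mem_center_iff.mp hz b₁, mem_center_iff.mp hz c₁⟩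
  -- an element of H outside the centre
  have hex : ∃ x ∈ H, x ∉ center G := by
    by_contra hcon
    push Not at hcon
    have := Subgroup.card_le_of_le (show H ≤ center G from hcon)
    omega
  obtain ⟨b₂', hb₂'H, hb₂'Z⟩ := hex
  obtain ⟨ζ2, hζ2, hb2sq⟩ := hnorm b₂'
  obtain ⟨b₂, hb₂⟩ : ∃ x, x = ζ2 * b₂' := ⟨_, rfl⟩
  rw [← hb₂] at hb2sq
  have hb₂H : b₂ ∈ H := by rw [hb₂]; exact mul_mem (hZH hζ2) hb₂'H
  have hb₂Z : b₂ ∉ center G := by
    intro h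
    apply hb₂'Z
    have : b₂' = ζ2⁻¹ * b₂ := by rw [hb₂]; group
    rw [this]
    exact mul_mem (inv_mem hζ2) h
  have hex2 : ∃ g : G, b₂ * g ≠ g * b₂ := by
    by_contra hcon
    push Not at hcon
    apply hb₂Z
    rw [mem_center_iff]
    intro g
    exact (hcon g).symm
  obtain ⟨g₀, hg₀⟩ := hex2
  obtain ⟨w, hw, hwb, hwc⟩ := decomp_pair hz₀u (hall b₁) (hall c₁) hB1 hC1 g₀
  have hwb₂ : b₂ * w = w * b₂ := by
    obtain ⟨e1, e2⟩ := (hmemH b₂).mp hb₂H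
    rcases hw with rfl | rfl | rfl | rfl
    · rw [one_mul, mul_one]
    · exact e1.symm
    · exact e2.symm
    · rw [← mul_assoc, ← e1, mul_assoc, ← e2, mul_assoc]
  obtain ⟨c₂', hc₂'⟩ : ∃ x, x = w⁻¹ * g₀ := ⟨_, rfl⟩
  rw [← hc₂'] at hwb hwc
  have hc₂'H : c₂' ∈ H := (hmemH _).mpr ⟨hwb, hwc⟩
  have hbc2 : b₂ * c₂' ≠ c₂' * b₂ := by
    intro h
    apply hg₀
    have e : g₀ = w * c₂' := by rw [hc₂']; group
    rw [e]
    calc b₂ * (w * c₂') = (b₂ * w) * c₂' := by rw [mul_assoc]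
      _ = (w * b₂) * c₂' := by rw [hwb₂]
      _ = w * (b₂ * c₂') := by rw [mul_assoc]
      _ = w * (c₂' * b₂) := by rw [h]
      _ = w * c₂' * b₂ := by rw [mul_assoc]
  obtain ⟨ζ3, hζ3, hc2sq⟩ := hnorm c₂'
  obtain ⟨c₂, hc₂⟩ : ∃ x, x = ζ3 * c₂' := ⟨_, rfl⟩
  rw [← hc₂] at hc2sq
  have hc₂H : c₂ ∈ H := by rw [hc₂]; exact mul_mem (hZH hζ3) hc₂'H
  have hbc2' : b₂ * c₂ ≠ c₂ * b₂ := by
    intro h
    apply hbc2
    have h3 := mem_center_iff.mp hζ3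
    have e1 : b₂ * c₂ = ζ3 * (b₂ * c₂') := by
      rw [hc₂, ← mul_assoc, h3 b₂, mul_assoc]
    have e2 : c₂ * b₂ = ζ3 * (c₂' * b₂) := by
      rw [hc₂, mul_assoc]
    rw [e1, e2] at h
    exact mul_left_cancel h
  have hB2 : ⁅b₂, c₂⁆ = z₀ := by
    rcases hval b₂ c₂ with h | h
    · exact absurd (commutatorElement_eq_one_iff_mul_comm.mp h) hbc2'
    · exact h
  have hC2 : ⁅c₂, b₂⁆ = z₀ := by
    rcases hval c₂ b₂ with h | h
    · exact absurd (commutatorElement_eq_one_iff_mul_comm.mp h).symm hbc2'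
    · exact h
  -- H₂ = H ∩ C(b₂) ∩ C(c₂) = Z
  set Cb2 : Subgroup G := (commHom b₂ (hall b₂)).ker with hCb2
  set Cc2 : Subgroup G := (commHom c₂ (hall c₂)).ker with hCc2
  have hbH' : b₁ ∉ H := by
    rw [hmemH]; rintro ⟨-, h⟩; exact hbc1' h.symm
  have hCb32 : 2 * Nat.card H ≤ Nat.card Cb :=
    two_mul_card_le_of_lt (inf_le_left) (x := b₁) (by rw [hCb, mem_ker_commHom]) hbH'
  have hCb64 : 2 * Nat.card Cb ≤ Nat.card (⊤ : Subgroup G) :=
    two_mul_card_le_of_lt le_top (x := c₁) (Subgroup.mem_top _)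
      (by rw [hCb, mem_ker_commHom]; exact hbc1')
  rw [Subgroup.card_top, hcard] at hCb64
  have hHcard : Nat.card H = 16 := by omega
  have h1 : 2 * Nat.card (H ⊓ Cb2 : Subgroup G) ≤ Nat.card H :=
    two_mul_card_le_of_lt inf_le_left (x := c₂) hc₂H
      (by
        rw [Subgroup.mem_inf, hCb2, mem_ker_commHom]
        rintro ⟨-, h⟩
        exact hbc2' h)
  have h2 : 2 * Nat.card (H ⊓ Cb2 ⊓ Cc2 : Subgroup G) ≤ Nat.card (H ⊓ Cb2 : Subgroup G) :=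
    two_mul_card_le_of_lt inf_le_left (x := b₂)
      (by
        rw [Subgroup.mem_inf, hCb2, mem_ker_commHom]
        exact ⟨hb₂H, rfl⟩)
      (by
        rw [Subgroup.mem_inf, hCc2, mem_ker_commHom]
        rintro ⟨-, h⟩
        exact hbc2' h.symm)
  have hZH2 : center G ≤ H ⊓ Cb2 ⊓ Cc2 := by
    intro z hz
    rw [Subgroup.mem_inf, Subgroup.mem_inf, hCb2, hCc2, mem_ker_commHom, mem_ker_commHom]
    exact ⟨⟨hZH hz, mem_center_iff.mp hz b₂⟩, mem_center_iff.mp hz c₂⟩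
  have hH2Z : center G = H ⊓ Cb2 ⊓ Cc2 := by
    apply Subgroup.eq_of_le_of_card_ge hZH2
    rw [hZ]; omega
  -- assemble
  have hrel : ∀ x y : G, ⁅x, y⁆ = z₀ → x * y = z₀ * (y * x) := by
    intro x y h
    rw [← h, commutatorElement_def]; group
  obtain ⟨hb₂b, hb₂c⟩ := (hmemH b₂).mp hb₂H
  obtain ⟨hc₂b, hc₂c⟩ := (hmemH c₂).mp hc₂H
  refine ⟨z₀, b₁, c₁, b₂, c₂, hz₀Z, hz₀1, hz₀2, hz₀u, hb1sq, hc1sq, hb2sq, hc2sq, hrel _ _ hB1,
    hrel _ _ hB2, hb₂b, hc₂b, hb₂c, hc₂c, ?_⟩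
  intro g
  obtain ⟨w₁, hw₁, hw₁b, hw₁c⟩ := decomp_pair hz₀u (hall b₁) (hall c₁) hB1 hC1 g
  have hh : w₁⁻¹ * g ∈ H := (hmemH _).mpr ⟨hw₁b, hw₁c⟩
  obtain ⟨w₂, hw₂, hw₂b, hw₂c⟩ := decomp_pair hz₀u (hall b₂) (hall c₂) hB2 hC2 (w₁⁻¹ * g)
  have hw₂H : w₂ ∈ H := by
    rcases hw₂ with rfl | rfl | rfl | rfl
    · exact one_mem _
    · exact hb₂H
    · exact hc₂H
    · exact mul_mem hb₂H hc₂H
  have hz : w₂⁻¹ * (w₁⁻¹ * g) ∈ center G := by
    rw [hH2Z, Subgroup.mem_inf, Subgroup.mem_inf, hCb2, hCc2, mem_ker_commHom, mem_ker_commHom]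
    exact ⟨⟨mul_mem (inv_mem hw₂H) hh, hw₂b⟩, hw₂c⟩
  exact ⟨w₁, w₂, w₂⁻¹ * (w₁⁻¹ * g), hw₁, hw₂, hz, by group⟩

end main

end Cfsg.Agent.Helper2.SymT
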