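import Mathlib
import Cfsg.Agent.Helper2.SymTC

set_option autoImplicit false

/-!
# Frames: four involutions with the hyperbolic relations are simultaneously conjugate to the
standard ones `B1m, C1m, B2m, C2m`.
-/

namespace Cfsg.Agent.Helper2.SymT

open Matrix

variable {F : Type*} [Field F]

/-- the hyperbolic relations between four `4 × 4` matrices. -/
structure Hyp (B₁ C₁ B₂ C₂ : Matrix (Fin 4) (Fin 4) F) : Prop where
  b1 : B₁ * B₁ = 1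
  c1 : C₁ * C₁ = 1
  b2 : B₂ * B₂ = 1
  c2 : C₂ * C₂ = 1
  b1c1 : B₁ * C₁ = -(C₁ * B₁)
  b2c2 : B₂ * C₂ = -(C₂ * B₂)
  b1b2 : B₁ * B₂ = B₂ * B₁
  b1c2 : B₁ * C₂ = C₂ * B₁
  c1b2 : C₁ * B₂ = B₂ * C₁
  c1c2 : C₁ * C₂ = C₂ * C₁

theorem hyp_std : Hyp (B1m : Matrix (Fin 4) (Fin 4) F) C1m B2m C2m :=
  ⟨B1m_sq, C1m_sq, B2m_sq, C2m_sq, B1m_C1m, B2m_C2m, B1m_B2m, B1m_C2m, C1m_B2m, C1m_C2m⟩

variable {B₁ C₁ B₂ C₂ : Matrix (Fin 4) (Fin 4) F}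

/-- the matrix with columns `v, C₁v, C₂v, C₁C₂v`. -/
def frameMat (C₁ C₂ : Matrix (Fin 4) (Fin 4) F) (v : Fin 4 → F) : Matrix (Fin 4) (Fin 4) F :=
  Matrix.of fun r j => (![v, C₁ *ᵥ v, C₂ *ᵥ v, C₁ *ᵥ (C₂ *ᵥ v)] j) r

theorem frameMat_mulVec (C₁ C₂ : Matrix (Fin 4) (Fin 4) F) (v a : Fin 4 → F) :
    frameMat C₁ C₂ v *ᵥ a =
      a 0 • v + a 1 • (C₁ *ᵥ v) + a 2 • (C₂ *ᵥ v) + a 3 • (C₁ *ᵥ (C₂ *ᵥ v)) := by
  ext r
  have e : (frameMat C₁ C₂ v *ᵥ a) r = v r * a 0 + (C₁ *ᵥ v) r * a 1 + (C₂ *ᵥ v) r * a 2 +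
      (C₁ *ᵥ (C₂ *ᵥ v)) r * a 3 := by
    rw [Matrix.mulVec, dotProduct, Fin.sum_univ_four]
    rfl
  rw [e]
  simp only [Pi.add_apply, Pi.smul_apply, smul_eq_mul]
  ring

/-- an identity in a ring with four elements satisfying the hyperbolic relations. -/
theorem ring_four {A : Type*} [Ring A] (b₁ c₁ b₂ c₂ : A)
    (hc1 : c₁ * c₁ = 1) (hc2 : c₂ * c₂ = 1)
    (b1c1 : b₁ * c₁ = -(c₁ * b₁)) (b2c2 : b₂ * c₂ = -(c₂ * b₂))
    (b1c2 : b₁ * c₂ = c₂ * b₁) (c1b2 : c₁ * b₂ = b₂ * c₁) :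
    (1 + b₁) * (1 + b₂) + c₁ * ((1 + b₁) * (1 + b₂)) * c₁ + c₂ * ((1 + b₁) * (1 + b₂)) * c₂ +
      c₁ * (c₂ * ((1 + b₁) * (1 + b₂)) * c₂) * c₁ = 4 := by
  have r1 : c₁ * b₁ = -(b₁ * c₁) := by rw [b1c1, neg_neg]
  have r1' : ∀ x, c₁ * (b₁ * x) = -(b₁ * (c₁ * x)) := fun x => by
    rw [← mul_assoc, r1, neg_mul, mul_assoc]
  have r2' : ∀ x, c₁ * (b₂ * x) = b₂ * (c₁ * x) := fun x => by
    rw [← mul_assoc, c1b2, mul_assoc]
  have r3 : c₂ * b₁ = b₁ * c₂ := b1c2.symm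
  have r3' : ∀ x, c₂ * (b₁ * x) = b₁ * (c₂ * x) := fun x => by
    rw [← mul_assoc, r3, mul_assoc]
  have r4 : c₂ * b₂ = -(b₂ * c₂) := by rw [b2c2, neg_neg]
  have r4' : ∀ x, c₂ * (b₂ * x) = -(b₂ * (c₂ * x)) := fun x => by
    rw [← mul_assoc, r4, neg_mul, mul_assoc]
  have r5' : ∀ x, c₁ * (c₁ * x) = x := fun x => by rw [← mul_assoc, hc1, one_mul]
  have r6' : ∀ x, c₂ * (c₂ * x) = x := fun x => by rw [← mul_assoc, hc2, one_mul]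
  simp only [mul_add, add_mul, mul_one, one_mul, mul_assoc, r1, r1', c1b2, r2', r3, r3', r4, r4',
    hc1, hc2, r5', r6', neg_mul, mul_neg, neg_neg]
  abel_nf
  norm_num

/-- a common fixed vector of `B₁` and `B₂`. -/
theorem Hyp.exists_fix (h : Hyp B₁ C₁ B₂ C₂) (h2 : (2 : F) ≠ 0) :
    ∃ v : Fin 4 → F, v ≠ 0 ∧ B₁ *ᵥ v = v ∧ B₂ *ᵥ v = v := by
  obtain ⟨E, hE⟩ : ∃ E : Matrix (Fin 4) (Fin 4) F, E = (1 + B₁) * (1 + B₂) := ⟨_, rfl⟩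
  have hb1' : ∀ x, B₁ * (B₁ * x) = x := fun x => by rw [← mul_assoc, h.b1, one_mul]
  have hb2' : ∀ x, B₂ * (B₂ * x) = x := fun x => by rw [← mul_assoc, h.b2, one_mul]
  have hb21 : B₂ * B₁ = B₁ * B₂ := h.b1b2.symm
  have hb21' : ∀ x, B₂ * (B₁ * x) = B₁ * (B₂ * x) := fun x => by
    rw [← mul_assoc, hb21, mul_assoc]
  have hB1E : B₁ * E = E := by
    rw [hE]
    simp only [mul_add, add_mul, mul_one, one_mul, mul_assoc, h.b1, hb1']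
    abel
  have hB2E : B₂ * E = E := by
    rw [hE]
    simp only [mul_add, add_mul, mul_one, one_mul, mul_assoc, h.b2, hb2', hb21, hb21']
    abel
  have hE0 : E ≠ 0 := by
    intro h0
    have hsum := ring_four B₁ C₁ B₂ C₂ h.c1 h.c2 h.b1c1 h.b2c2 h.b1c2 h.c1b2
    rw [← hE, h0] at hsum
    simp only [mul_zero, zero_mul, add_zero] at hsum
    have h4 := congrFun (congrFun hsum 0) 0
    have h4' : (4 : F) = 0 := by
      have : (4 : Matrix (Fin 4) (Fin 4) F) 0 0 = (4 : F) := by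
        simp [Matrix.ofNat_apply]
      rw [this] at h4
      simpa using h4.symm
    apply h2
    have : (2 : F) * 2 = 0 := by rw [← h4']; norm_num
    rcases mul_eq_zero.mp this with h | h <;> exact h
  have hcol : ∃ j, E *ᵥ (Pi.single j 1) ≠ 0 := by
    by_contra hcon
    push Not at hcon
    apply hE0
    ext r j
    have := congrFun (hcon j) r
    rw [Matrix.mulVec_single_one] at this
    simpa using this
  obtain ⟨j, hj⟩ := hcol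
  refine ⟨E *ᵥ (Pi.single j 1), hj, ?_, ?_⟩
  · rw [Matrix.mulVec_mulVec, hB1E]
  · rw [Matrix.mulVec_mulVec, hB2E]

/-- the intertwining relations of the frame matrix. -/
theorem Hyp.frame_rel (h : Hyp B₁ C₁ B₂ C₂) {v : Fin 4 → F} (h1 : B₁ *ᵥ v = v) (h2 : B₂ *ᵥ v = v) :
    B₁ * frameMat C₁ C₂ v = frameMat C₁ C₂ v * B1m ∧ C₁ * frameMat C₁ C₂ v = frameMat C₁ C₂ v * C1m ∧
    B₂ * frameMat C₁ C₂ v = frameMat C₁ C₂ v * B2m ∧ C₂ * frameMat C₁ C₂ v = frameMat C₁ C₂ v * C2m := by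
  have hmv : ∀ (M N : Matrix (Fin 4) (Fin 4) F),
      (∀ a : Fin 4 → F, M *ᵥ (frameMat C₁ C₂ v *ᵥ a) = frameMat C₁ C₂ v *ᵥ (N *ᵥ a)) →
      M * frameMat C₁ C₂ v = frameMat C₁ C₂ v * N := by
    intro M N hMN
    ext r j
    have := congrFun (hMN (Pi.single j 1)) r
    rw [Matrix.mulVec_mulVec, Matrix.mulVec_mulVec, Matrix.mulVec_single_one, Matrix.mulVec_single_one] at this
    simpa using this
  -- the sixteen vector identities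
  have b1v := h1
  have b1c1 : B₁ *ᵥ (C₁ *ᵥ v) = -(C₁ *ᵥ v) := by
    rw [Matrix.mulVec_mulVec, h.b1c1, Matrix.neg_mulVec, ← Matrix.mulVec_mulVec, h1]
  have b1c2 : B₁ *ᵥ (C₂ *ᵥ v) = C₂ *ᵥ v := by
    rw [Matrix.mulVec_mulVec, h.b1c2, ← Matrix.mulVec_mulVec, h1]
  have b1c12 : B₁ *ᵥ (C₁ *ᵥ (C₂ *ᵥ v)) = -(C₁ *ᵥ (C₂ *ᵥ v)) := by
    rw [Matrix.mulVec_mulVec, h.b1c1, Matrix.neg_mulVec, ← Matrix.mulVec_mulVec, b1c2]
  have b2c1 : B₂ *ᵥ (C₁ *ᵥ v) = C₁ *ᵥ v := by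
    rw [Matrix.mulVec_mulVec, ← h.c1b2, ← Matrix.mulVec_mulVec, h2]
  have b2c2 : B₂ *ᵥ (C₂ *ᵥ v) = -(C₂ *ᵥ v) := by
    rw [Matrix.mulVec_mulVec, h.b2c2, Matrix.neg_mulVec, ← Matrix.mulVec_mulVec, h2]
  have b2c12 : B₂ *ᵥ (C₁ *ᵥ (C₂ *ᵥ v)) = -(C₁ *ᵥ (C₂ *ᵥ v)) := by
    rw [Matrix.mulVec_mulVec, ← h.c1b2, ← Matrix.mulVec_mulVec, b2c2, Matrix.mulVec_neg]
  have c1c1 : C₁ *ᵥ (C₁ *ᵥ v) = v := by
    rw [Matrix.mulVec_mulVec, h.c1, Matrix.one_mulVec]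
  have c1c12 : C₁ *ᵥ (C₁ *ᵥ (C₂ *ᵥ v)) = C₂ *ᵥ v := by
    rw [Matrix.mulVec_mulVec, h.c1, Matrix.one_mulVec]
  have c2c1 : C₂ *ᵥ (C₁ *ᵥ v) = C₁ *ᵥ (C₂ *ᵥ v) := by
    rw [Matrix.mulVec_mulVec, ← h.c1c2, ← Matrix.mulVec_mulVec]
  have c2c2 : C₂ *ᵥ (C₂ *ᵥ v) = v := by
    rw [Matrix.mulVec_mulVec, h.c2, Matrix.one_mulVec]
  have c2c12 : C₂ *ᵥ (C₁ *ᵥ (C₂ *ᵥ v)) = C₁ *ᵥ v := by
    rw [Matrix.mulVec_mulVec, ← h.c1c2, ← Matrix.mulVec_mulVec, c2c2]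
  refine ⟨hmv _ _ fun a => ?_, hmv _ _ fun a => ?_, hmv _ _ fun a => ?_, hmv _ _ fun a => ?_⟩
  · rw [frameMat_mulVec, frameMat_mulVec]
    simp only [Matrix.mulVec_add, Matrix.mulVec_smul, b1v, b1c1, b1c2, b1c12]
    have e0 : (B1m *ᵥ a) 0 = a 0 := by simp [B1m, Matrix.mulVec, dotProduct, Fin.sum_univ_four]
    have e1 : (B1m *ᵥ a) 1 = -a 1 := by simp [B1m, Matrix.mulVec, dotProduct, Fin.sum_univ_four]
    have e2 : (B1m *ᵥ a) 2 = a 2 := by simp [B1m, Matrix.mulVec, dotProduct, Fin.sum_univ_four]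
    have e3 : (B1m *ᵥ a) 3 = -a 3 := by simp [B1m, Matrix.mulVec, dotProduct, Fin.sum_univ_four]
    rw [e0, e1, e2, e3]
    simp only [smul_neg, neg_smul]
  · rw [frameMat_mulVec, frameMat_mulVec]
    simp only [Matrix.mulVec_add, Matrix.mulVec_smul, c1c1, c1c12]
    have e0 : (C1m *ᵥ a) 0 = a 1 := by simp [C1m, Matrix.mulVec, dotProduct, Fin.sum_univ_four]
    have e1 : (C1m *ᵥ a) 1 = a 0 := by simp [C1m, Matrix.mulVec, dotProduct, Fin.sum_univ_four]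
    have e2 : (C1m *ᵥ a) 2 = a 3 := by simp [C1m, Matrix.mulVec, dotProduct, Fin.sum_univ_four]
    have e3 : (C1m *ᵥ a) 3 = a 2 := by simp [C1m, Matrix.mulVec, dotProduct, Fin.sum_univ_four]
    rw [e0, e1, e2, e3]
    abel
  · rw [frameMat_mulVec, frameMat_mulVec]
    simp only [Matrix.mulVec_add, Matrix.mulVec_smul, h2, b2c1, b2c2, b2c12]
    have e0 : (B2m *ᵥ a) 0 = a 0 := by simp [B2m, Matrix.mulVec, dotProduct, Fin.sum_univ_four]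
    have e1 : (B2m *ᵥ a) 1 = a 1 := by simp [B2m, Matrix.mulVec, dotProduct, Fin.sum_univ_four]
    have e2 : (B2m *ᵥ a) 2 = -a 2 := by simp [B2m, Matrix.mulVec, dotProduct, Fin.sum_univ_four]
    have e3 : (B2m *ᵥ a) 3 = -a 3 := by simp [B2m, Matrix.mulVec, dotProduct, Fin.sum_univ_four]
    rw [e0, e1, e2, e3]
    simp only [smul_neg, neg_smul]
  · rw [frameMat_mulVec, frameMat_mulVec]
    simp only [Matrix.mulVec_add, Matrix.mulVec_smul, c2c1, c2c2, c2c12]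
    have e0 : (C2m *ᵥ a) 0 = a 2 := by simp [C2m, Matrix.mulVec, dotProduct, Fin.sum_univ_four]
    have e1 : (C2m *ᵥ a) 1 = a 3 := by simp [C2m, Matrix.mulVec, dotProduct, Fin.sum_univ_four]
    have e2 : (C2m *ᵥ a) 2 = a 0 := by simp [C2m, Matrix.mulVec, dotProduct, Fin.sum_univ_four]
    have e3 : (C2m *ᵥ a) 3 = a 1 := by simp [C2m, Matrix.mulVec, dotProduct, Fin.sum_univ_four]
    rw [e0, e1, e2, e3]
    abel

theorem std_diag : ((1 + B1m) * (1 + B2m) : Matrix (Fin 4) (Fin 4) F) =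
    !![4, 0, 0, 0; 0, 0, 0, 0; 0, 0, 0, 0; 0, 0, 0, 0] := by
  ext r j
  fin_cases r <;> fin_cases j <;>
    simp [B1m, B2m, Fin.sum_univ_four, Matrix.mul_apply, Matrix.add_apply, Matrix.one_apply] <;>
    norm_num

theorem std_diag_mulVec (a : Fin 4 → F) :
    (((1 + B1m) * (1 + B2m) : Matrix (Fin 4) (Fin 4) F) *ᵥ a) 0 = 4 * a 0 ∧
    (((1 + B1m) * (1 + B2m) : Matrix (Fin 4) (Fin 4) F) *ᵥ a) 1 = 0 ∧
    (((1 + B1m) * (1 + B2m) : Matrix (Fin 4) (Fin 4) F) *ᵥ a) 2 = 0 ∧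
    (((1 + B1m) * (1 + B2m) : Matrix (Fin 4) (Fin 4) F) *ᵥ a) 3 = 0 := by
  rw [std_diag]
  refine ⟨?_, ?_, ?_, ?_⟩ <;> simp [Matrix.mulVec, dotProduct, Fin.sum_univ_four]

/-- the frame matrix of a nonzero common fixed vector is invertible. -/
theorem Hyp.frame_isUnit (h : Hyp B₁ C₁ B₂ C₂) (h2 : (2 : F) ≠ 0) {v : Fin 4 → F} (hv : v ≠ 0)
    (h1 : B₁ *ᵥ v = v) (h2' : B₂ *ᵥ v = v) : IsUnit (frameMat C₁ C₂ v) := by
  rw [← Matrix.mulVec_injective_iff_isUnit]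
  obtain ⟨r1, r2, r3, r4⟩ := h.frame_rel h1 h2'
  obtain ⟨P, hP⟩ : ∃ P, P = frameMat C₁ C₂ v := ⟨_, rfl⟩
  rw [← hP] at r1 r2 r3 r4 ⊢
  have h4 : (4 : F) ≠ 0 := by
    intro h4
    apply h2
    have : (2 : F) * 2 = 0 := by rw [← h4]; norm_num
    rcases mul_eq_zero.mp this with h | h <;> exact h
  have key : ∀ a : Fin 4 → F, P *ᵥ a = 0 → a 0 = 0 := by
    intro a ha
    have e : ((1 + B₁) * (1 + B₂)) * P = P * ((1 + B1m) * (1 + B2m)) := by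
      calc ((1 + B₁) * (1 + B₂)) * P = (1 + B₁) * (P + B₂ * P) := by
            rw [mul_assoc]; congr 1; rw [add_mul, one_mul]
        _ = (1 + B₁) * (P * (1 + B2m)) := by congr 1; rw [r3, mul_add, mul_one]
        _ = (P + B₁ * P) * (1 + B2m) := by rw [← mul_assoc]; congr 1; rw [add_mul, one_mul]
        _ = (P * (1 + B1m)) * (1 + B2m) := by congr 1; rw [r1, mul_add, mul_one]
        _ = P * ((1 + B1m) * (1 + B2m)) := by rw [mul_assoc]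
    have e2 : (P * ((1 + B1m) * (1 + B2m))) *ᵥ a = 0 := by
      rw [← e, ← Matrix.mulVec_mulVec, ha, Matrix.mulVec_zero]
    obtain ⟨d0, d1, d2, d3⟩ := std_diag_mulVec a
    rw [← Matrix.mulVec_mulVec, hP, frameMat_mulVec, d0, d1, d2, d3] at e2
    simp only [zero_smul, add_zero] at e2
    rcases smul_eq_zero.mp e2 with h | h
    · rcases mul_eq_zero.mp h with h | h
      · exact absurd h h4
      · exact h
    · exact absurd h hv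
  have hker : ∀ a : Fin 4 → F, P *ᵥ a = 0 → a = 0 := by
    intro a ha
    have k1 : P *ᵥ (C1m *ᵥ a) = 0 := by
      rw [Matrix.mulVec_mulVec, ← r2, ← Matrix.mulVec_mulVec, ha, Matrix.mulVec_zero]
    have k2 : P *ᵥ (C2m *ᵥ a) = 0 := by
      rw [Matrix.mulVec_mulVec, ← r4, ← Matrix.mulVec_mulVec, ha, Matrix.mulVec_zero]
    have k3 : P *ᵥ (C1m *ᵥ (C2m *ᵥ a)) = 0 := by
      rw [Matrix.mulVec_mulVec, ← r2, ← Matrix.mulVec_mulVec, k2, Matrix.mulVec_zero]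
    have a0 := key a ha
    have a1 := key _ k1
    have a2 := key _ k2
    have a3 := key _ k3
    have e1 : (C1m *ᵥ a) 0 = a 1 := by simp [C1m, Matrix.mulVec, dotProduct, Fin.sum_univ_four]
    have e2 : (C2m *ᵥ a) 0 = a 2 := by simp [C2m, Matrix.mulVec, dotProduct, Fin.sum_univ_four]
    have e3 : (C1m *ᵥ (C2m *ᵥ a)) 0 = a 3 := by
      simp [C1m, C2m, Matrix.mulVec, dotProduct, Fin.sum_univ_four]
    rw [e1] at a1
    rw [e2] at a2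
    rw [e3] at a3
    ext r
    fin_cases r
    · exact a0
    · exact a1
    · exact a2
    · exact a3
  intro a a' haa
  have : P *ᵥ (a - a') = 0 := by
    rw [Matrix.mulVec_sub]
    exact sub_eq_zero.mpr haa
  exact sub_eq_zero.mp (hker _ this)

/-- **frame theorem**: four matrices with the hyperbolic relations are simultaneously conjugate to the
standard ones. -/
theorem Hyp.exists_conj (h : Hyp B₁ C₁ B₂ C₂) (h2 : (2 : F) ≠ 0) :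
    ∃ P : GL (Fin 4) F, B₁ * (P : Matrix (Fin 4) (Fin 4) F) = (P : Matrix (Fin 4) (Fin 4) F) * B1m ∧
      C₁ * (P : Matrix (Fin 4) (Fin 4) F) = (P : Matrix (Fin 4) (Fin 4) F) * C1m ∧
      B₂ * (P : Matrix (Fin 4) (Fin 4) F) = (P : Matrix (Fin 4) (Fin 4) F) * B2m ∧
      C₂ * (P : Matrix (Fin 4) (Fin 4) F) = (P : Matrix (Fin 4) (Fin 4) F) * C2m := by
  obtain ⟨v, hv, h1, h2'⟩ := h.exists_fix h2
  have hu := h.frame_isUnit h2 hv h1 h2'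
  refine ⟨hu.unit, ?_⟩
  have : ((hu.unit : GL (Fin 4) F) : Matrix (Fin 4) (Fin 4) F) = frameMat C₁ C₂ v := rfl
  rw [this]
  exact h.frame_rel h1 h2'

end Cfsg.Agent.Helper2.SymT
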