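import Mathlib
import Cfsg.Agent.Helper2.SymTB
import Cfsg.Agent.Helper2.SymTD

set_option autoImplicit false

/-!
# Normal form of a group `4 ∘ 2^{1+4}` in `GL_4(F)`: it is `GL_4(F)`-conjugate to the standard `R0`.
-/

namespace Cfsg.Agent.Helper2.SymT

open Matrix

variable {F : Type*} [Field F]

/-- a unit matrix equal to `c • 1` is `scg c`. -/
theorem eq_scg_of_val {g : GL (Fin 4) F} {c : F}
    (h : (g : Matrix (Fin 4) (Fin 4) F) = c • (1 : Matrix (Fin 4) (Fin 4) F)) :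
    ∃ u : Fˣ, (u : F) = c ∧ g = scg u := by
  have hc : c ≠ 0 := by
    intro hc
    rw [hc, zero_smul] at h
    have h1 : (g : Matrix (Fin 4) (Fin 4) F) * ((g⁻¹ : GL (Fin 4) F) : Matrix (Fin 4) (Fin 4) F) = 1 := by
      rw [← Units.val_mul, mul_inv_cancel, Units.val_one]
    rw [h, zero_mul] at h1
    have := congrFun (congrFun h1 0) 0
    simp at this
  refine ⟨Units.mk0 c hc, rfl, ?_⟩
  apply Units.ext
  rw [scg_val, h]
  rfl

set_option maxHeartbeats 1000000 in
/-- **Normal form.**  A subgroup `R ≤ GL_4(F)` (`2 ≠ 0` in `F`) of order 64, exponent 4, with centre of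
order 4, all of whose characteristic abelian subgroups are cyclic, and such that only the scalar
matrices commute with `R`, is conjugate in `GL_4(F)` to the standard group `R0 i`. -/
theorem normal_form (h2 : (2 : F) ≠ 0) (R : Subgroup (GL (Fin 4) F)) [Finite R]
    (hcard : Nat.card R = 64) (hZ : Nat.card (Subgroup.center R) = 4)
    (hexp : ∀ g ∈ R, g ^ 4 = 1)
    (hchar : ∀ A : Subgroup R, A.Characteristic → IsMulCommutative A → IsCyclic A)
    (hcent : ∀ M : Matrix (Fin 4) (Fin 4) F,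
      (∀ g ∈ R, M * (g : Matrix (Fin 4) (Fin 4) F) = (g : Matrix (Fin 4) (Fin 4) F) * M) →
        ∃ c : F, M = c • (1 : Matrix (Fin 4) (Fin 4) F)) :
    ∃ (i : F) (hi : i ^ 2 = -1) (P : GL (Fin 4) F), ∀ g, g ∈ R ↔ P⁻¹ * g * P ∈ R0 i hi := by
  classical
  have hexp' : ∀ g : R, g ^ 4 = 1 := fun g => Subtype.ext (by simpa using hexp g.1 g.2)
  obtain ⟨z₀, b₁, c₁, b₂, c₂, hz₀Z, hz₀1, hz₀2, hz₀u, hb1, hc1, hb2, hc2, r1, r2, r3, r4, r5, r6,
    hgen⟩ := exists_hyperbolic_generators (G := R) hcard hZ hexp' hchar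
  -- central elements are scalar
  have hsc : ∀ z : R, z ∈ Subgroup.center R → ∃ u : Fˣ, (z : GL (Fin 4) F) = scg u := by
    intro z hz
    have hz' := Subgroup.mem_center_iff.mp hz
    obtain ⟨c, hc⟩ := hcent ((z : GL (Fin 4) F) : Matrix (Fin 4) (Fin 4) F) (by
      intro g hg
      have := hz' ⟨g, hg⟩
      have := congrArg (fun t : R => ((t : GL (Fin 4) F) : Matrix (Fin 4) (Fin 4) F)) this
      simpa using this.symm)
    obtain ⟨u, -, hu⟩ := eq_scg_of_val hc
    exact ⟨u, hu⟩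
  -- z₀ = -1
  obtain ⟨u₀, hu₀⟩ := hsc z₀ hz₀Z
  have hu₀2 : u₀ ^ 2 = 1 := by
    apply scg_injective
    rw [← scg_pow, ← hu₀, scg_one]
    have := congrArg (fun t : R => (t : GL (Fin 4) F)) hz₀2
    simpa using this
  have hu₀1 : u₀ ≠ 1 := by
    intro h
    apply hz₀1
    apply Subtype.ext
    rw [hu₀, h, scg_one]; rfl
  have hu₀v : (u₀ : F) = -1 := by
    have h1 : ((u₀ : F) - 1) * ((u₀ : F) + 1) = 0 := by
      have := congrArg (fun t : Fˣ => (t : F)) hu₀2
      simp only [Units.val_pow_eq_pow_val, Units.val_one] at this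
      calc ((u₀ : F) - 1) * ((u₀ : F) + 1) = (u₀ : F) ^ 2 - 1 := by ring
        _ = 0 := by rw [this, sub_self]
    rcases mul_eq_zero.mp h1 with h | h
    · exfalso
      apply hu₀1
      apply Units.ext
      rw [Units.val_one]
      exact sub_eq_zero.mp h
    · exact eq_neg_of_add_eq_zero_left h
  have hz₀m : ((z₀ : GL (Fin 4) F) : Matrix (Fin 4) (Fin 4) F) = -1 := by
    rw [hu₀, scg_val, hu₀v, neg_smul, one_smul]
  -- the matrices of the generators
  obtain ⟨B₁, hB₁⟩ : ∃ M, M = ((b₁ : GL (Fin 4) F) : Matrix (Fin 4) (Fin 4) F) := ⟨_, rfl⟩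
  obtain ⟨C₁, hC₁⟩ : ∃ M, M = ((c₁ : GL (Fin 4) F) : Matrix (Fin 4) (Fin 4) F) := ⟨_, rfl⟩
  obtain ⟨B₂, hB₂⟩ : ∃ M, M = ((b₂ : GL (Fin 4) F) : Matrix (Fin 4) (Fin 4) F) := ⟨_, rfl⟩
  obtain ⟨C₂, hC₂⟩ : ∃ M, M = ((c₂ : GL (Fin 4) F) : Matrix (Fin 4) (Fin 4) F) := ⟨_, rfl⟩
  have toM : ∀ {x y : R}, x = y →
      ((x : GL (Fin 4) F) : Matrix (Fin 4) (Fin 4) F) = ((y : GL (Fin 4) F) : Matrix (Fin 4) (Fin 4) F) :=
    fun h => by rw [h]
  have hyp : Hyp B₁ C₁ B₂ C₂ := by
    refine ⟨?_, ?_, ?_, ?_, ?_, ?_, ?_, ?_, ?_, ?_⟩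
    · have := toM hb1
      rw [hB₁]; simpa [pow_two] using this
    · have := toM hc1
      rw [hC₁]; simpa [pow_two] using this
    · have := toM hb2
      rw [hB₂]; simpa [pow_two] using this
    · have := toM hc2
      rw [hC₂]; simpa [pow_two] using this
    · have := toM r1
      simp only [Subgroup.coe_mul, Units.val_mul, hz₀m] at this
      rw [hB₁, hC₁, this, neg_mul, one_mul]
    · have := toM r2
      simp only [Subgroup.coe_mul, Units.val_mul, hz₀m] at this
      rw [hB₂, hC₂, this, neg_mul, one_mul]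
    · have := toM r3
      simp only [Subgroup.coe_mul, Units.val_mul] at this
      rw [hB₁, hB₂, this]
    · have := toM r4
      simp only [Subgroup.coe_mul, Units.val_mul] at this
      rw [hB₁, hC₂, this]
    · have := toM r5
      simp only [Subgroup.coe_mul, Units.val_mul] at this
      rw [hC₁, hB₂, this]
    · have := toM r6
      simp only [Subgroup.coe_mul, Units.val_mul] at this
      rw [hC₁, hC₂, this]
  obtain ⟨P, p1, p2, p3, p4⟩ := hyp.exists_conj h2
  -- conjugation relations in GL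
  have conj : ∀ (x : GL (Fin 4) F) (y : GL (Fin 4) F),
      (x : Matrix (Fin 4) (Fin 4) F) * (P : Matrix (Fin 4) (Fin 4) F) =
        (P : Matrix (Fin 4) (Fin 4) F) * (y : Matrix (Fin 4) (Fin 4) F) → P⁻¹ * x * P = y := by
    intro x y hxy
    have : x * P = P * y := Units.ext (by simpa using hxy)
    rw [mul_assoc, this, ← mul_assoc, inv_mul_cancel, one_mul]
  have q1 : P⁻¹ * (b₁ : GL (Fin 4) F) * P = B1g := conj _ _ (by rw [← hB₁, B1g_val]; exact p1)
  have q2 : P⁻¹ * (c₁ : GL (Fin 4) F) * P = C1g := conj _ _ (by rw [← hC₁, C1g_val]; exact p2)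
  have q3 : P⁻¹ * (b₂ : GL (Fin 4) F) * P = B2g := conj _ _ (by rw [← hB₂, B2g_val]; exact p3)
  have q4 : P⁻¹ * (c₂ : GL (Fin 4) F) * P = C2g := conj _ _ (by rw [← hC₂, C2g_val]; exact p4)
  -- a central element of order 4
  have hex : ∃ ζ : R, ζ ∈ Subgroup.center R ∧ ζ ≠ 1 ∧ ζ ≠ z₀ := by
    by_contra hcon
    push Not at hcon
    have hsub : ((Subgroup.center R : Subgroup R) : Set R) ⊆ (({1, z₀} : Finset R) : Set R) := by
      intro ζ hζ
      by_cases h1 : ζ = 1
      · simp [h1]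
      · have := hcon ζ hζ h1
        simp [this]
    have h1 := Set.ncard_le_ncard hsub (Finset.finite_toSet _)
    rw [Set.ncard_coe_finset] at h1
    have h2' : Nat.card (Subgroup.center R) = ((Subgroup.center R : Subgroup R) : Set R).ncard :=
      Nat.card_coe_set_eq _
    have := h1.trans Finset.card_le_two
    omega
  obtain ⟨ζ, hζZ, hζ1, hζz⟩ := hex
  obtain ⟨ui, hui⟩ := hsc ζ hζZ
  have hζ2 : ζ ^ 2 = z₀ := by
    have h4 : (ζ ^ 2) ^ 2 = 1 := by rw [← pow_mul]; exact hexp' ζ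
    rcases hz₀u _ (pow_mem hζZ 2) h4 with h | h
    · exfalso
      rcases hz₀u _ hζZ h with h' | h'
      · exact hζ1 h'
      · exact hζz h'
    · exact h
  have hi : (ui : F) ^ 2 = -1 := by
    have h1 : scg (ui ^ 2) = (scg u₀ : GL (Fin 4) F) := by
      rw [← scg_pow, ← hui, ← hu₀, ← hζ2]
      rfl
    have := scg_injective h1
    rw [← hu₀v, ← this, Units.val_pow_eq_pow_val]
  have hiu : iu (ui : F) hi = ui := Units.ext rfl
  refine ⟨(ui : F), hi, P, fun g => ⟨fun hg => ?_, fun hg => ?_⟩⟩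
  · obtain ⟨w₁, w₂, z, hw₁, hw₂, hz, hgz⟩ := hgen ⟨g, hg⟩
    have hgz' : g = (w₁ : GL (Fin 4) F) * (w₂ : GL (Fin 4) F) * (z : GL (Fin 4) F) := by
      have := congrArg (fun t : R => (t : GL (Fin 4) F)) hgz
      simpa using this
    have e : P⁻¹ * g * P = (P⁻¹ * (w₁ : GL (Fin 4) F) * P) * (P⁻¹ * (w₂ : GL (Fin 4) F) * P) *
        (P⁻¹ * (z : GL (Fin 4) F) * P) := by
      rw [hgz']; group
    rw [e]
    have hw₁' : P⁻¹ * (w₁ : GL (Fin 4) F) * P ∈ R0 (ui : F) hi := by
      rcases hw₁ with rfl | rfl | rfl | rfl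
      · simp
      · rw [q1]; exact B1g_mem _ _
      · rw [q2]; exact C1g_mem _ _
      · have : P⁻¹ * ((b₁ * c₁ : R) : GL (Fin 4) F) * P =
            (P⁻¹ * (b₁ : GL (Fin 4) F) * P) * (P⁻¹ * (c₁ : GL (Fin 4) F) * P) := by
          rw [Subgroup.coe_mul]; group
        rw [this, q1, q2]
        exact mul_mem (B1g_mem _ _) (C1g_mem _ _)
    have hw₂' : P⁻¹ * (w₂ : GL (Fin 4) F) * P ∈ R0 (ui : F) hi := by
      rcases hw₂ with rfl | rfl | rfl | rfl
      · simp
      · rw [q3]; exact B2g_mem _ _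
      · rw [q4]; exact C2g_mem _ _
      · have : P⁻¹ * ((b₂ * c₂ : R) : GL (Fin 4) F) * P =
            (P⁻¹ * (b₂ : GL (Fin 4) F) * P) * (P⁻¹ * (c₂ : GL (Fin 4) F) * P) := by
          rw [Subgroup.coe_mul]; group
        rw [this, q3, q4]
        exact mul_mem (B2g_mem _ _) (C2g_mem _ _)
    have hz' : P⁻¹ * (z : GL (Fin 4) F) * P ∈ R0 (ui : F) hi := by
      obtain ⟨u, hu⟩ := hsc z hz
      rw [hu, mul_assoc, scg_comm, ← mul_assoc, inv_mul_cancel, one_mul]
      apply scg_mem_of_pow_four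
      have h4 : scg (u ^ 4) = (scg 1 : GL (Fin 4) F) := by
        rw [← scg_pow, ← hu, scg_one]
        have := congrArg (fun t : R => (t : GL (Fin 4) F)) (hexp' z)
        simpa using this
      have := scg_injective h4
      rw [← Units.val_pow_eq_pow_val, this, Units.val_one]
    exact mul_mem (mul_mem hw₁' hw₂') hz'
  · -- R0 ≤ P⁻¹ R P
    have hle : R0 (ui : F) hi ≤ R.comap (MulAut.conj P).toMonoidHom := by
      unfold R0
      rw [Subgroup.closure_le]
      intro x hx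
      simp only [Set.mem_insert_iff, Set.mem_singleton_iff] at hx
      rw [SetLike.mem_coe, Subgroup.mem_comap]
      change P * x * P⁻¹ ∈ R
      rcases hx with rfl | rfl | rfl | rfl | rfl
      · rw [hiu, ← scg_comm, mul_assoc, mul_inv_cancel, mul_one, ← hui]
        exact ζ.2
      · rw [← q1]
        have : P * (P⁻¹ * (b₁ : GL (Fin 4) F) * P) * P⁻¹ = b₁ := by group
        rw [this]; exact b₁.2
      · rw [← q2]
        have : P * (P⁻¹ * (c₁ : GL (Fin 4) F) * P) * P⁻¹ = c₁ := by group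
        rw [this]; exact c₁.2
      · rw [← q3]
        have : P * (P⁻¹ * (b₂ : GL (Fin 4) F) * P) * P⁻¹ = b₂ := by group
        rw [this]; exact b₂.2
      · rw [← q4]
        have : P * (P⁻¹ * (c₂ : GL (Fin 4) F) * P) * P⁻¹ = c₂ := by group
        rw [this]; exact c₂.2
    have := hle hg
    rw [Subgroup.mem_comap] at this
    change P * (P⁻¹ * g * P) * P⁻¹ ∈ R at this
    have e : P * (P⁻¹ * g * P) * P⁻¹ = g := by group
    rwa [e] at this

end Cfsg.Agent.Helper2.SymT
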