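import Mathlib

set_option autoImplicit false

namespace Cfsg.Agent.Helper2.NearField

variable {p : ℕ} [Fact p.Prime] {V : Type*} [AddCommGroup V] [Module (ZMod p) V] [Finite V]

/-- An injective endomorphism of a finite module has a positive power equal to one. -/
theorem exists_pow_eq_one_of_injective (x : Module.End (ZMod p) V) (hx : Function.Injective x) :
    ∃ k : ℕ, 0 < k ∧ x ^ k = 1 := by
  haveI : Finite (Module.End (ZMod p) V) := DFunLike.finite _
  have hu : IsUnit x := by
    rw [LinearMap.isUnit_iff_ker_eq_bot]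
    exact LinearMap.ker_eq_bot.2 hx
  obtain ⟨u, rfl⟩ := hu
  haveI : Finite (Module.End (ZMod p) V)ˣ := inferInstance
  refine ⟨orderOf u, orderOf_pos u, ?_⟩
  rw [← Units.val_pow_eq_pow_val, pow_orderOf_eq_one, Units.val_one]

theorem isCyclic_aux {R : Type*} [CommRing R] [Nontrivial R]
    (ι : R →+* Module.End (ZMod p) V) (hι : Function.Injective ι)
    {A : Type*} [Group A] [Finite A] (f : A →* R)
    (hinj : ∀ a : A, a ≠ 1 → Function.Injective (ι (f a - 1))) : IsCyclic A := by
  obtain ⟨m, hm⟩ := Ideal.exists_maximal R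
  haveI := hm
  haveI : IsDomain (R ⧸ m) := Ideal.Quotient.isDomain m
  let g : A →* (R ⧸ m) := (Ideal.Quotient.mk m).toMonoidHom.comp f
  apply isCyclic_of_subgroup_isDomain g
  rw [injective_iff_map_eq_one]
  intro a ha
  by_contra ha1
  have hmem : f a - 1 ∈ m := by
    rw [← Ideal.Quotient.eq]
    simpa [g] using ha
  obtain ⟨k, hk0, hk⟩ := exists_pow_eq_one_of_injective _ (hinj a ha1)
  have hk' : (f a - 1 : R) ^ k = 1 := by
    apply hι
    rw [map_pow, hk, map_one]
  have h1 : (1 : R) ∈ m := by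
    rw [← hk']
    exact Ideal.pow_mem_of_mem m hmem k hk0
  exact hm.ne_top ((Ideal.eq_top_iff_one m).2 h1)

open scoped IsMulCommutative in
/-- A group acting linearly, commutatively and freely on the nonzero vectors of a nontrivial finite module
over a prime field is cyclic. -/
theorem isCyclic_of_free [Nontrivial V] {A : Type*} [Group A] [Finite A]
    (φ : A →* (V ≃ₗ[ZMod p] V)) (hcomm : ∀ a b : A, a * b = b * a)
    (hfree : ∀ a : A, ∀ v : V, v ≠ 0 → φ a v = v → a = 1) : IsCyclic A := by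
  classical
  have hScomm : ∀ x ∈ Set.range (fun a : A => ((φ a : V ≃ₗ[ZMod p] V) : V →ₗ[ZMod p] V)),
      ∀ y ∈ Set.range (fun a : A => ((φ a : V ≃ₗ[ZMod p] V) : V →ₗ[ZMod p] V)), x * y = y * x := by
    rintro _ ⟨a, rfl⟩ _ ⟨b, rfl⟩
    apply LinearMap.ext
    intro v
    show (φ a) ((φ b) v) = (φ b) ((φ a) v)
    have h1 : φ (a * b) v = φ (b * a) v := by rw [hcomm a b]
    simpa [map_mul] using h1
  haveI := Algebra.isMulCommutative_adjoin (ZMod p) hScomm
  haveI : Nontrivial (Algebra.adjoin (ZMod p)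
      (Set.range (fun a : A => ((φ a : V ≃ₗ[ZMod p] V) : V →ₗ[ZMod p] V)))) := by
    refine ⟨⟨0, 1, ?_⟩⟩
    intro h
    have h2 := congrArg (fun x : Algebra.adjoin (ZMod p)
      (Set.range (fun a : A => ((φ a : V ≃ₗ[ZMod p] V) : V →ₗ[ZMod p] V))) => (x : Module.End (ZMod p) V)) h
    obtain ⟨v, hv⟩ := exists_ne (0 : V)
    have h3 := LinearMap.congr_fun h2 v
    simp at h3
    exact hv h3.symm
  let f : A →* (Algebra.adjoin (ZMod p)
      (Set.range (fun a : A => ((φ a : V ≃ₗ[ZMod p] V) : V →ₗ[ZMod p] V)))) :=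
    { toFun := fun a => ⟨((φ a : V ≃ₗ[ZMod p] V) : V →ₗ[ZMod p] V), Algebra.subset_adjoin ⟨a, rfl⟩⟩
      map_one' := by
        apply Subtype.ext
        apply LinearMap.ext
        intro v
        simp
      map_mul' := by
        intro a b
        apply Subtype.ext
        apply LinearMap.ext
        intro v
        simp [map_mul] }
  refine isCyclic_aux (R := ↥(Algebra.adjoin (ZMod p)
      (Set.range (fun a : A => ((φ a : V ≃ₗ[ZMod p] V) : V →ₗ[ZMod p] V))))) (Algebra.adjoin (ZMod p)
      (Set.range (fun a : A => ((φ a : V ≃ₗ[ZMod p] V) : V →ₗ[ZMod p] V)))).val.toRingHom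
    Subtype.val_injective f ?_
  intro a ha1
  rw [← LinearMap.ker_eq_bot, LinearMap.ker_eq_bot']
  intro v hv
  by_contra hv0
  apply ha1
  apply hfree a v hv0
  have : ((Algebra.adjoin (ZMod p)
      (Set.range (fun a : A => ((φ a : V ≃ₗ[ZMod p] V) : V →ₗ[ZMod p] V)))).val.toRingHom (f a - 1)) v
      = φ a v - v := by
    simp [f]
  rw [this] at hv
  exact sub_eq_zero.1 hv

end Cfsg.Agent.Helper2.NearField
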