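import Mathlib
import Cfsg.Agent.Helper2.NearFieldA

set_option autoImplicit false

namespace Cfsg.Agent.Helper2.NearField

variable {p : ℕ} [Fact p.Prime] {V : Type*} [AddCommGroup V] [Module (ZMod p) V] [Finite V]

/-- Regularity on nonzero vectors gives a free action. -/
theorem free_of_reg (H : Subgroup (V ≃ₗ[ZMod p] V))
    (hreg : ∀ v w : V, v ≠ 0 → w ≠ 0 → ∃! h : H, (h : V ≃ₗ[ZMod p] V) v = w)
    (h : H) (v : V) (hv : v ≠ 0) (hfix : (h : V ≃ₗ[ZMod p] V) v = v) : h = 1 := by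
  obtain ⟨k, _, hk⟩ := hreg v v hv hv
  rw [hk h hfix, hk 1 (by simp)]

/-- The order of a linear group regular on nonzero vectors. -/
theorem card_of_reg (H : Subgroup (V ≃ₗ[ZMod p] V))
    (hreg : ∀ v w : V, v ≠ 0 → w ≠ 0 → ∃! h : H, (h : V ≃ₗ[ZMod p] V) v = w)
    (v₀ : V) (hv₀ : v₀ ≠ 0) : Nat.card H + 1 = Nat.card V := by
  classical
  have e : H ≃ {w : V // w ≠ 0} := by
    refine Equiv.ofBijective (fun h => ⟨(h : V ≃ₗ[ZMod p] V) v₀, ?_⟩) ⟨?_, ?_⟩
    · intro h0
      exact hv₀ ((LinearEquiv.map_eq_zero_iff _).1 h0)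
    · intro h k hhk
      have h1 : (h : V ≃ₗ[ZMod p] V) v₀ = (k : V ≃ₗ[ZMod p] V) v₀ := congrArg Subtype.val hhk
      have hne : (k : V ≃ₗ[ZMod p] V) v₀ ≠ 0 := fun h0 => hv₀ ((LinearEquiv.map_eq_zero_iff _).1 h0)
      obtain ⟨u, _, hu⟩ := hreg v₀ _ hv₀ hne
      rw [hu h h1, hu k rfl]
    · rintro ⟨w, hw⟩
      obtain ⟨h, hh, _⟩ := hreg v₀ w hv₀ hw
      exact ⟨h, Subtype.ext hh⟩
  rw [Nat.card_congr e]
  have h1 : Nat.card {w : V // w ≠ 0} = Nat.card V - 1 := by
    haveI := Fintype.ofFinite V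
    rw [Nat.card_eq_fintype_card, Nat.card_eq_fintype_card, Fintype.card_subtype_compl, Fintype.card_subtype_eq]
  rw [h1]
  have : 0 < Nat.card V := Nat.card_pos
  omega

/-- Index of the centralizer of a cyclic normal subgroup is at most its order. -/
theorem card_le_of_cyclic_normal {H : Type*} [Group H] [Finite H] (A : Subgroup H) [hAn : A.Normal]
    [hcyc : IsCyclic A] : Nat.card H ≤ Nat.card A * Nat.card (Subgroup.centralizer (A : Set H)) := by
  classical
  obtain ⟨g, hg⟩ := hcyc.exists_generator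
  set C := Subgroup.centralizer (A : Set H) with hC
  have key : Nat.card (H ⧸ C) ≤ Nat.card A := by
    let ψ : H ⧸ C → A := Quotient.lift (s := QuotientGroup.leftRel C)
      (fun h : H => (⟨h * (g : H) * h⁻¹, hAn.conj_mem _ g.2 h⟩ : A)) (by
        intro h k hhk
        have hmem : h⁻¹ * k ∈ C := QuotientGroup.leftRel_apply.1 hhk
        apply Subtype.ext
        show h * (g : H) * h⁻¹ = k * (g : H) * k⁻¹
        have hc : (h⁻¹ * k) * (g : H) = (g : H) * (h⁻¹ * k) :=
          ((Subgroup.mem_centralizer_iff.1 hmem) (g : H) g.2).symm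
        have : k = h * (h⁻¹ * k) := by group
        rw [this]
        have e1 : h * (h⁻¹ * k) * ↑g * (h * (h⁻¹ * k))⁻¹ = h * ((h⁻¹ * k) * ↑g) * (h⁻¹ * k)⁻¹ * h⁻¹ := by group
        rw [e1, hc]
        group)
    apply Nat.card_le_card_of_injective ψ
    intro x y
    refine Quotient.inductionOn₂' x y ?_
    intro h k hhk
    apply Quotient.sound'
    apply QuotientGroup.leftRel_apply.2
    have h1 : h * (g : H) * h⁻¹ = k * (g : H) * k⁻¹ := congrArg Subtype.val hhk
    have hcg : (h⁻¹ * k) * (g : H) = (g : H) * (h⁻¹ * k) := by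
      have : (g : H) = h⁻¹ * (k * (g : H) * k⁻¹) * h := by rw [← h1]; group
      calc (h⁻¹ * k) * (g : H) = (h⁻¹ * (k * (g : H) * k⁻¹) * h) * (h⁻¹ * k) := by group
        _ = (g : H) * (h⁻¹ * k) := by rw [← this]
    rw [hC, Subgroup.mem_centralizer_iff]
    intro a ha
    obtain ⟨n, hn⟩ := Subgroup.mem_zpowers_iff.1 (hg ⟨a, ha⟩)
    have ha' : a = (g : H) ^ n := by
      have := congrArg Subtype.val hn
      simpa using this.symm
    rw [ha']
    exact ((Commute.zpow_left (show Commute (g : H) (h⁻¹ * k) from hcg.symm) n)).eq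
  calc Nat.card H = Nat.card (H ⧸ C) * Nat.card C := Subgroup.card_eq_card_quotient_mul_card_subgroup C
    _ ≤ Nat.card A * Nat.card C := Nat.mul_le_mul_right _ key

end Cfsg.Agent.Helper2.NearField
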