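import Mathlib
import Cfsg.Agent.Helper2.NearFieldB

set_option autoImplicit false

namespace Cfsg.Agent.Helper2.NearField

variable {p : ℕ} [Fact p.Prime] {V : Type*} [AddCommGroup V] [Module (ZMod p) V] [Finite V]

theorem submodule_eq_of_le_of_card_le {W W' : Submodule (ZMod p) V} (h : W ≤ W')
    (hc : Nat.card W' ≤ Nat.card W) : W = W' := by
  apply SetLike.coe_injective
  apply Set.eq_of_subset_of_ncard_le h _ (Set.toFinite _)
  rw [← Nat.card_coe_set_eq, ← Nat.card_coe_set_eq]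
  exact hc

theorem card_mul_le_of_inf_eq_bot (W W' : Submodule (ZMod p) V) (h : W ⊓ W' = ⊥) :
    Nat.card W * Nat.card W' ≤ Nat.card V := by
  rw [← Nat.card_prod]
  apply Nat.card_le_card_of_injective (fun x : W × W' => (x.1 : V) + (x.2 : V))
  rintro ⟨x, y⟩ ⟨x', y'⟩ hxy
  have hxy' : (x : V) + (y : V) = (x' : V) + (y' : V) := hxy
  have h1 : (x : V) - x' = (y' : V) - y := by
    rw [sub_eq_sub_iff_add_eq_add]
    rw [hxy']
    abel
  have hmem : (x : V) - x' ∈ W ⊓ W' := by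
    refine ⟨W.sub_mem x.2 x'.2, ?_⟩
    rw [h1]
    exact W'.sub_mem y'.2 y.2
  rw [h, Submodule.mem_bot] at hmem
  have hx : (x : V) = x' := sub_eq_zero.1 hmem
  have hy : (y : V) = y' := by
    rw [hmem] at h1
    exact (sub_eq_zero.1 h1.symm).symm
  exact Prod.ext (Subtype.ext hx) (Subtype.ext hy)

theorem main (H : Subgroup (V ≃ₗ[ZMod p] V))
    (hreg : ∀ v w : V, v ≠ 0 → w ≠ 0 → ∃! h : H, (h : V ≃ₗ[ZMod p] V) v = w)
    (hI : ∀ A : Subgroup H, A.Normal → IsCyclic A → ∃ W : Submodule (ZMod p) V, W ≠ ⊥ ∧ W ≠ ⊤ ∧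
      ∀ a ∈ A, ∀ v ∈ W, ((a : H) : V ≃ₗ[ZMod p] V) v ∈ W)
    (A : Subgroup H) (hAn : A.Normal) (hAc : IsMulCommutative A)
    (hAmax : ∀ B : Subgroup H, B.Normal → IsMulCommutative B → A ≤ B → B = A) :
    A < Subgroup.centralizer (A : Set H) ∧ ¬ IsMulCommutative (Subgroup.centralizer (A : Set H)) := by
  classical
  haveI : Nontrivial V := by
    obtain ⟨W, hW0, _, _⟩ := hI ⊥ inferInstance inferInstance
    by_contra hnt
    rw [not_nontrivial_iff_subsingleton] at hnt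
    exact hW0 (Subsingleton.elim _ _)
  haveI : Finite H := by
    haveI : Finite (V ≃ₗ[ZMod p] V) := Finite.of_injective (fun e : V ≃ₗ[ZMod p] V => (e : V → V))
      (fun a b hab => LinearEquiv.ext (congrFun hab))
    infer_instance
  have hfree := free_of_reg H hreg
  -- A is cyclic
  have hcyc : IsCyclic A := by
    apply isCyclic_of_free (H.subtype.comp A.subtype) (fun a b => mul_comm' a b)
    intro a v hv hav
    have := hfree (a : H) v hv hav
    exact Subtype.ext this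
  obtain ⟨W, hW0, hW1, hWinv⟩ := hI A hAn hcyc
  -- minimal invariant subspace
  have hex : ∃ n : ℕ, ∃ W' : Submodule (ZMod p) V, (W' ≠ ⊥ ∧
      ∀ a ∈ A, ∀ v ∈ W', ((a : H) : V ≃ₗ[ZMod p] V) v ∈ W') ∧ Nat.card W' = n :=
    ⟨Nat.card W, W, ⟨hW0, hWinv⟩, rfl⟩
  obtain ⟨W₀, ⟨hW₀0, hW₀inv⟩, hW₀card⟩ := Nat.find_spec hex
  have hmin : ∀ W' : Submodule (ZMod p) V, W' ≠ ⊥ →
      (∀ a ∈ A, ∀ v ∈ W', ((a : H) : V ≃ₗ[ZMod p] V) v ∈ W') → Nat.card W₀ ≤ Nat.card W' := by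
    intro W' h0 hinv
    rw [hW₀card]
    exact Nat.find_min' hex ⟨W', ⟨h0, hinv⟩, rfl⟩
  have hW₀top : W₀ ≠ ⊤ := by
    intro htop
    apply hW1
    apply submodule_eq_of_le_of_card_le le_top
    rw [← htop]
    exact hmin W hW0 hWinv
  obtain ⟨w₀, hw₀mem, hw₀⟩ := Submodule.exists_mem_ne_zero_of_ne_bot hW₀0
  obtain ⟨v₁, hv₁⟩ : ∃ v₁ : V, v₁ ∉ W₀ := by
    by_contra hcon
    push Not at hcon
    exact hW₀top ((Submodule.eq_top_iff').2 hcon)
  have hv₁0 : v₁ ≠ 0 := by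
    rintro rfl
    exact hv₁ W₀.zero_mem
  obtain ⟨h₁, hh₁, _⟩ := hreg w₀ v₁ hw₀ hv₁0
  set W₁ : Submodule (ZMod p) V := W₀.map ((h₁ : V ≃ₗ[ZMod p] V) : V →ₗ[ZMod p] V) with hW₁
  have hv₁W₁ : v₁ ∈ W₁ := by
    rw [hW₁, Submodule.mem_map]
    exact ⟨w₀, hw₀mem, hh₁⟩
  have hW₁0 : W₁ ≠ ⊥ := by
    intro h
    rw [h, Submodule.mem_bot] at hv₁W₁
    exact hv₁0 hv₁W₁
  have hW₁inv : ∀ a ∈ A, ∀ v ∈ W₁, ((a : H) : V ≃ₗ[ZMod p] V) v ∈ W₁ := by
    intro a ha v hv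
    rw [hW₁, Submodule.mem_map] at hv
    obtain ⟨y, hy, rfl⟩ := hv
    have hb : h₁⁻¹ * a * h₁ ∈ A := by
      have := hAn.conj_mem a ha h₁⁻¹
      simpa using this
    rw [hW₁, Submodule.mem_map]
    refine ⟨(((h₁⁻¹ * a * h₁ : H)) : V ≃ₗ[ZMod p] V) y, hW₀inv _ hb y hy, ?_⟩
    have e1 : (a : H) * h₁ = h₁ * (h₁⁻¹ * a * h₁) := by group
    have e2 : (((a : H) * h₁ : H) : V ≃ₗ[ZMod p] V) y = ((h₁ * (h₁⁻¹ * a * h₁) : H) : V ≃ₗ[ZMod p] V) y := by
      rw [e1]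
    simpa [Subgroup.coe_mul, LinearEquiv.mul_apply] using e2.symm
  have hW₁card : Nat.card W₁ = Nat.card W₀ :=
    (Nat.card_congr ((h₁ : V ≃ₗ[ZMod p] V).submoduleMap W₀).toEquiv).symm
  have hinf : W₀ ⊓ W₁ = ⊥ := by
    by_contra hne
    have h1 : Nat.card W₀ ≤ Nat.card ↥(W₀ ⊓ W₁) := by
      apply hmin _ hne
      intro a ha v hv
      exact ⟨hW₀inv a ha v hv.1, hW₁inv a ha v hv.2⟩
    have h2 : W₀ ⊓ W₁ = W₀ := submodule_eq_of_le_of_card_le inf_le_left h1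
    have h3 : W₀ ≤ W₁ := by
      rw [← h2]
      exact inf_le_right
    have h4 : W₀ = W₁ := submodule_eq_of_le_of_card_le h3 hW₁card.le
    apply hv₁
    rw [h4]
    exact hv₁W₁
  have hcard1 : Nat.card W₀ * Nat.card W₀ ≤ Nat.card V := by
    have := card_mul_le_of_inf_eq_bot W₀ W₁ hinf
    rwa [hW₁card] at this
  have hcard2 : Nat.card A + 1 ≤ Nat.card W₀ := by
    rw [← Finite.card_option]
    apply Nat.card_le_card_of_injective
      (fun o : Option A => (Option.elim o (0 : W₀)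
        (fun a => (⟨((a : H) : V ≃ₗ[ZMod p] V) w₀, hW₀inv a a.2 w₀ hw₀mem⟩ : W₀))))
    intro o o' hoo'
    rcases o with _ | a <;> rcases o' with _ | b
    · rfl
    · exfalso
      have h1 : (0 : V) = ((b : H) : V ≃ₗ[ZMod p] V) w₀ := congrArg Subtype.val hoo'
      exact hw₀ ((LinearEquiv.map_eq_zero_iff _).1 h1.symm)
    · exfalso
      have h1 : ((a : H) : V ≃ₗ[ZMod p] V) w₀ = (0 : V) := congrArg Subtype.val hoo'
      exact hw₀ ((LinearEquiv.map_eq_zero_iff _).1 h1)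
    · have h1 : ((a : H) : V ≃ₗ[ZMod p] V) w₀ = ((b : H) : V ≃ₗ[ZMod p] V) w₀ := congrArg Subtype.val hoo'
      have h2 : ((((b : H))⁻¹ * (a : H) : H) : V ≃ₗ[ZMod p] V) w₀ = w₀ := by
        rw [Subgroup.coe_mul, LinearEquiv.mul_apply, h1, Subgroup.coe_inv, ← LinearEquiv.mul_apply, inv_mul_cancel]
        rfl
      have h3 := hfree _ w₀ hw₀ h2
      have h4 : (a : H) = (b : H) := by
        have := congrArg (fun t => (b : H) * t) h3
        simpa using this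
      rw [Subtype.ext h4]
  have hcard3 : Nat.card H + 1 = Nat.card V := card_of_reg H hreg w₀ hw₀
  have hcard4 := card_le_of_cyclic_normal A
  have hApos : 0 < Nat.card A := Nat.card_pos
  have hle : A ≤ Subgroup.centralizer (A : Set H) := Subgroup.le_centralizer_iff_isMulCommutative.2 hAc
  have hlt : A < Subgroup.centralizer (A : Set H) := by
    refine lt_of_le_of_ne hle ?_
    intro heq
    rw [← heq] at hcard4
    nlinarith
  refine ⟨hlt, ?_⟩
  intro hCc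
  have := hAmax (Subgroup.centralizer (A : Set H)) inferInstance hCc hle
  exact (ne_of_lt hlt) this.symm

end Cfsg.Agent.Helper2.NearField
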