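import Mathlib
import Cfsg.Agent.Helper2.StrEmb3
import Cfsg.Agent.Helper2.CITStrEmb
import Cfsg.Agent.Lead.Ab2GL2
import Cfsg.Agent.S0226

/-!
# Groups in which the centralizers of involutions are abelian: basic facts
-/

set_option autoImplicit false
set_option linter.style.haveILetI false

namespace Cfsg.Agent.Helper2.AbInv

open Cfsg Cfsg.Agent.Helper2

universe u

variable {G : Type u} [Group G]

/-- the centralizers of involutions are abelian -/
def Hyp (G : Type*) [Group G] : Prop :=
  ∀ t : G, orderOf t = 2 → ∀ a b : G, a * t = t * a → b * t = t * b → a * b = b * a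

theorem hyp_of_isMulCommutative
    (h : ∀ t : G, orderOf t = 2 → IsMulCommutative ↥(Subgroup.centralizer ({t} : Set G))) :
    Hyp G := by
  intro t ht a b ha hb
  have ha' : a ∈ Subgroup.centralizer ({t} : Set G) :=
    Subgroup.mem_centralizer_singleton_iff.mpr ha
  have hb' : b ∈ Subgroup.centralizer ({t} : Set G) :=
    Subgroup.mem_centralizer_singleton_iff.mpr hb
  have := (h t ht).is_comm.comm ⟨a, ha'⟩ ⟨b, hb'⟩
  exact congrArg Subtype.val this

theorem Hyp.subgroup (hyp : Hyp G) (J : Subgroup G) : Hyp ↥J := by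
  intro t ht a b ha hb
  apply Subtype.ext
  rw [Subgroup.coe_mul, Subgroup.coe_mul]
  apply hyp (t : G) (by rw [Subgroup.orderOf_coe]; exact ht)
  · have := congrArg Subtype.val ha
    simpa using this
  · have := congrArg Subtype.val hb
    simpa using this

theorem conj_orderOf (g x : G) : orderOf (g * x * g⁻¹) = orderOf x := by
  have : g * x * g⁻¹ = MulAut.conj g x := by simp
  rw [this, MulEquiv.orderOf_eq]

theorem conj_orderOf' (g x : G) : orderOf (g⁻¹ * x * g) = orderOf x := by
  have := conj_orderOf g⁻¹ x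
  rwa [inv_inv] at this

section sylow

variable [Finite G] (hyp : Hyp G) (S : Sylow 2 G)

local notation "M" => Subgroup.centralizer ((S : Subgroup G) : Set G)
local notation "H" => Subgroup.normalizer ((S : Subgroup G) : Set G)

include hyp in
theorem sylow_comm : ∀ x ∈ (S : Subgroup G), ∀ y ∈ (S : Subgroup G), x * y = y * x := by
  haveI : Fact (Nat.Prime 2) := ⟨Nat.prime_two⟩
  by_cases hnt : (S : Subgroup G) = ⊥
  · intro x hx y hy
    rw [hnt, Subgroup.mem_bot] at hx hy
    rw [hx, hy]
  haveI : Nontrivial ↥(S : Subgroup G) := (Subgroup.nontrivial_iff_ne_bot _).mpr hnt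
  haveI : Nontrivial ↥(Subgroup.center ↥(S : Subgroup G)) := S.2.center_nontrivial
  have hZp : IsPGroup 2 ↥(Subgroup.center ↥(S : Subgroup G)) := S.2.to_subgroup _
  obtain ⟨n, hn⟩ := IsPGroup.iff_card.mp hZp
  have heven : Even (Nat.card ↥(Subgroup.center ↥(S : Subgroup G))) := by
    rcases n with _ | n
    · rw [pow_zero] at hn
      have := Finite.one_lt_card (α := ↥(Subgroup.center ↥(S : Subgroup G)))
      omega
    · rw [hn, pow_succ]; exact even_two.mul_left _
  obtain ⟨z0, hz0c, hz0⟩ := exists_invol_of_even_card _ heven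
  have hz0' : orderOf ((z0 : ↥(S : Subgroup G)) : G) = 2 := by
    rw [Subgroup.orderOf_coe]; exact hz0
  have hTle : ∀ x ∈ (S : Subgroup G), x * (z0 : G) = (z0 : G) * x := by
    intro x hx
    have := Subgroup.mem_center_iff.mp hz0c ⟨x, hx⟩
    exact congrArg Subtype.val this
  intro x hx y hy
  exact hyp _ hz0' x y (hTle x hx) (hTle y hy)

include hyp in
theorem sylow_le_cent : (S : Subgroup G) ≤ M := by
  intro x hx
  rw [Subgroup.mem_centralizer_iff]
  intro y hy
  exact sylow_comm hyp S y hy x hx

include hyp in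
/-- the centralizer of an involution of `S` is the centralizer of `S` -/
theorem cent_invol {t : G} (ht : orderOf t = 2) (htS : t ∈ (S : Subgroup G)) :
    Subgroup.centralizer ({t} : Set G) = M := by
  apply le_antisymm
  · intro x hx
    rw [Subgroup.mem_centralizer_singleton_iff] at hx
    rw [Subgroup.mem_centralizer_iff]
    intro s hs
    exact hyp t ht s x (sylow_comm hyp S s hs t htS) hx
  · intro x hx
    rw [Subgroup.mem_centralizer_iff] at hx
    rw [Subgroup.mem_centralizer_singleton_iff]
    exact (hx t htS).symm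

theorem mem_cent_iff {x : G} : x ∈ M ↔ ∀ s ∈ (S : Subgroup G), s * x = x * s :=
  Subgroup.mem_centralizer_iff

theorem cent_le_normalizer : M ≤ H := Subgroup.centralizer_le_normalizer _

/-- a `2`-element normalizing `S` lies in `S` -/
theorem mem_sylow_of_two_pow {x : G} {k : ℕ} (hx : orderOf x = 2 ^ k) (hxH : x ∈ H) :
    x ∈ (S : Subgroup G) := by
  haveI : Fact (Nat.Prime 2) := ⟨Nat.prime_two⟩
  have hzp : IsPGroup 2 ↥(Subgroup.zpowers x) := by
    rw [IsPGroup.iff_card]
    exact ⟨k, by rw [Nat.card_zpowers, hx]⟩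
  have hle : Subgroup.zpowers x ≤ H := by
    rw [Subgroup.zpowers_le]; exact hxH
  have hsup : IsPGroup 2 ↥(Subgroup.zpowers x ⊔ (S : Subgroup G)) :=
    IsPGroup.to_sup_of_normal_right' hzp S.2 hle
  have := S.is_maximal' hsup le_sup_right
  rw [← this]
  exact le_sup_left (a := Subgroup.zpowers x) (Subgroup.mem_zpowers x)

theorem invol_mem_sylow {t : G} (ht : orderOf t = 2) (htH : t ∈ H) : t ∈ (S : Subgroup G) :=
  mem_sylow_of_two_pow S (k := 1) (by rw [ht, pow_one]) htH

theorem orderOf_sylow {x : G} (hx : x ∈ (S : Subgroup G)) : ∃ k : ℕ, orderOf x = 2 ^ k := by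
  obtain ⟨k, hk⟩ := (IsPGroup.iff_orderOf.1 S.2) ⟨x, hx⟩
  exact ⟨k, by rw [← hk, Subgroup.orderOf_mk]⟩

include hyp in
/-- an element conjugating an involution of `S` into `H` normalizes `S` -/
theorem mem_normalizer_of_invol {t g : G} (ht : orderOf t = 2) (htS : t ∈ (S : Subgroup G))
    (hg : g⁻¹ * t * g ∈ H) : g ∈ H := by
  have ht' : orderOf (g⁻¹ * t * g) = 2 := by rw [conj_orderOf']; exact ht
  have htS' := invol_mem_sylow S ht' hg
  have hc' := cent_invol hyp S ht' htS'
  -- conjugation by `g⁻¹` maps `S` into `S`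
  have key : ∀ x ∈ (S : Subgroup G), g⁻¹ * x * g ∈ (S : Subgroup G) := by
    intro x hx
    obtain ⟨k, hk⟩ := orderOf_sylow S hx
    apply mem_sylow_of_two_pow S (k := k) (by rw [conj_orderOf']; exact hk)
    apply cent_le_normalizer S
    rw [← hc', Subgroup.mem_centralizer_singleton_iff]
    have hxt := sylow_comm hyp S x hx t htS
    calc g⁻¹ * x * g * (g⁻¹ * t * g) = g⁻¹ * (x * t) * g := by group
      _ = g⁻¹ * (t * x) * g := by rw [hxt]
      _ = g⁻¹ * t * g * (g⁻¹ * x * g) := by group
  have h1 : g⁻¹ ∈ H := by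
    rw [mem_normalizer_iff_cj]
    apply Subgroup.eq_of_le_of_card_ge
    · rw [cj_le_iff]
      intro x hx
      have := key x hx
      rwa [inv_inv]
    · exact (Subgroup.card_map_of_injective (MulAut.conj g⁻¹).injective).ge
  have := inv_mem h1
  rwa [inv_inv] at this

variable (hnc : ¬ IsCyclic (S : Subgroup G)) (hnn : ¬ (S : Subgroup G).Normal)

include hnc in
theorem sylow_ne_bot : (S : Subgroup G) ≠ ⊥ := by
  intro h
  apply hnc
  rw [h]
  infer_instance

include hyp hnc in
/-- a noncyclic abelian `2`-group has two involutions -/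
theorem exists_two_invol : ∃ s t : G, s ∈ (S : Subgroup G) ∧ t ∈ (S : Subgroup G) ∧
    orderOf s = 2 ∧ orderOf t = 2 ∧ s ≠ t := by
  by_contra hcon
  push Not at hcon
  apply hnc
  apply Cfsg.Agent.Lead.Ab2GL2.isCyclic_of_unique_involution S.2
  · intro a b
    apply Subtype.ext
    exact sylow_comm hyp S a a.2 b b.2
  · intro s t hs ht
    apply Subtype.ext
    apply hcon s t s.2 t.2
    · rw [Subgroup.orderOf_coe]; exact hs
    · rw [Subgroup.orderOf_coe]; exact ht

include hyp hnc in
theorem exists_invol : ∃ t : G, t ∈ (S : Subgroup G) ∧ orderOf t = 2 := by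
  obtain ⟨s, t, hs, -, hs2, -, -⟩ := exists_two_invol hyp S hnc
  exact ⟨s, hs, hs2⟩

include hyp hnc in
theorem cent_comm : ∀ a ∈ M, ∀ b ∈ M, a * b = b * a := by
  obtain ⟨t, htS, ht⟩ := exists_invol hyp S hnc
  intro a ha b hb
  rw [mem_cent_iff] at ha hb
  exact hyp t ht a b (ha t htS).symm (hb t htS).symm

include hyp hnc hnn in
/-- the normalizer of `S` is strongly embedded -/
theorem stronglyEmbedded : Cfsg.IsStronglyEmbedded H := by
  apply stronglyEmbedded_of_invol
  · intro h
    exact hnn (Subgroup.normalizer_eq_top_iff.mp h)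
  · obtain ⟨t, htS, ht⟩ := exists_invol hyp S hnc
    exact even_card_of_invol _ (Subgroup.le_normalizer htS) ht
  · intro t g ht htN htg
    have htS := invol_mem_sylow S ht htN
    rw [mem_cj_iff] at htg
    exact mem_normalizer_of_invol hyp S ht htS htg

end sylow

end Cfsg.Agent.Helper2.AbInv
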