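import Mathlib
import Cfsg.Agent.Helper2.AbInvA

/-!
# Groups in which the centralizers of involutions are abelian: the odd part of `C(S)`,
strongly real elements
-/

set_option autoImplicit false
set_option linter.style.haveILetI false

namespace Cfsg.Agent.Helper2.AbInv

open Cfsg Cfsg.Agent.Helper2

universe u

variable {G : Type u} [Group G]

/-- the subgroup generated by the elements of odd order of `K` -/
def oddPart (K : Subgroup G) : Subgroup G :=
  Subgroup.closure {a | a ∈ K ∧ Odd (orderOf a)}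

theorem oddPart_le (K : Subgroup G) : oddPart K ≤ K := by
  unfold oddPart
  rw [Subgroup.closure_le]
  intro a ha
  exact ha.1

theorem mem_oddPart_of {K : Subgroup G} {a : G} (ha : a ∈ K) (hodd : Odd (orderOf a)) :
    a ∈ oddPart K :=
  Subgroup.subset_closure ⟨ha, hodd⟩

theorem odd_orderOf_of_mem_oddPart {K : Subgroup G} (hK : ∀ a ∈ K, ∀ b ∈ K, a * b = b * a)
    {a : G} (ha : a ∈ oddPart K) : Odd (orderOf a) := by
  have key : a ∈ K ∧ Odd (orderOf a) := by
    unfold oddPart at ha
    induction ha using Subgroup.closure_induction with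
    | mem x hx => exact hx
    | one => exact ⟨K.one_mem, by rw [orderOf_one]; exact odd_one⟩
    | mul x y _ _ hx hy =>
      refine ⟨K.mul_mem hx.1 hy.1, ?_⟩
      have hc : Commute x y := hK x hx.1 y hy.1
      have hdvd := hc.orderOf_mul_dvd_mul_orderOf
      exact (hx.2.mul hy.2).of_dvd_nat hdvd
    | inv x _ hx => exact ⟨K.inv_mem hx.1, by rw [orderOf_inv]; exact hx.2⟩
  exact key.2

theorem mem_oddPart_iff {K : Subgroup G} (hK : ∀ a ∈ K, ∀ b ∈ K, a * b = b * a) {a : G} :
    a ∈ oddPart K ↔ a ∈ K ∧ Odd (orderOf a) :=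
  ⟨fun h => ⟨oddPart_le K h, odd_orderOf_of_mem_oddPart hK h⟩, fun h => mem_oddPart_of h.1 h.2⟩

theorem cj_oddPart (g : G) (K : Subgroup G) : cj g (oddPart K) = oddPart (cj g K) := by
  unfold oddPart
  rw [cj, MonoidHom.map_closure]
  congr 1
  ext y
  simp only [Set.mem_image, Set.mem_setOf_eq]
  constructor
  · rintro ⟨x, ⟨hxK, hxo⟩, rfl⟩
    refine ⟨⟨x, hxK, rfl⟩, ?_⟩
    simp only [MulEquiv.coe_toMonoidHom, MulAut.conj_apply]
    rw [conj_orderOf]; exact hxo
  · rintro ⟨⟨x, hxK, rfl⟩, hyo⟩
    refine ⟨x, ⟨hxK, ?_⟩, rfl⟩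
    simp only [MulEquiv.coe_toMonoidHom, MulAut.conj_apply] at hyo
    rwa [conj_orderOf] at hyo

theorem eq_one_of_odd_of_mul_self {x : G} (hodd : Odd (orderOf x)) (h : x * x = 1) : x = 1 := by
  have h2 : orderOf x ∣ 2 := orderOf_dvd_of_pow_eq_one (by rw [pow_two]; exact h)
  have h1 : orderOf x = 1 := by
    rcases (Nat.dvd_prime Nat.prime_two).mp h2 with h1 | h2'
    · exact h1
    · rw [h2'] at hodd
      exact absurd hodd (by decide)
  exact orderOf_eq_one_iff.mp h1

theorem eq_one_of_odd_of_two_pow {x : G} (hodd : Odd (orderOf x)) {k : ℕ}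
    (hk : orderOf x = 2 ^ k) : x = 1 := by
  rcases k with _ | k
  · rw [pow_zero] at hk
    exact orderOf_eq_one_iff.mp hk
  · rw [hk, pow_succ] at hodd
    exact absurd hodd (by rw [Nat.not_odd_iff_even]; exact even_two.mul_left _)

section real

variable [Finite G] (hyp : Hyp G)

include hyp in
/-- a strongly real element which is not an involution commutes with no involution -/
theorem not_commute_invol_of_inverted {t f v : G} (ht : orderOf t = 2)
    (hinv : t * f * t⁻¹ = f⁻¹) (hf : f * f ≠ 1) (hv : orderOf v = 2) (hvf : v * f = f * v) :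
    False := by
  classical
  haveI : Fact (Nat.Prime 2) := ⟨Nat.prime_two⟩
  have htinv := inv_eq_self_of_orderOf_two ht
  have htt := mul_self_of_orderOf_two ht
  set C := Subgroup.centralizer ({f} : Set G) with hC
  have hvC : v ∈ C := Subgroup.mem_centralizer_singleton_iff.mpr hvf
  have heven : Even (Nat.card ↥C) := even_card_of_invol C hvC hv
  have hodd := Cfsg.Agent.S0226.result (G := ↥C) heven
  -- `t` normalizes `C`
  have htC : ∀ c ∈ C, t * c * t⁻¹ ∈ C := by
    intro c hc
    rw [hC, Subgroup.mem_centralizer_singleton_iff] at hc ⊢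
    have h1 : t * f = f⁻¹ * t := by
      calc t * f = (t * f * t⁻¹) * t := by group
        _ = f⁻¹ * t := by rw [hinv]
    have h2 : f * t = t * f⁻¹ := by
      calc f * t = f * (t * f) * f⁻¹ := by group
        _ = f * (f⁻¹ * t) * f⁻¹ := by rw [h1]
        _ = t * f⁻¹ := by group
    have h3 : c * f⁻¹ = f⁻¹ * c := by
      calc c * f⁻¹ = f⁻¹ * (f * c) * f⁻¹ := by group
        _ = f⁻¹ * (c * f) * f⁻¹ := by rw [hc]
        _ = f⁻¹ * c := by group
    calc t * c * t⁻¹ * f = t * c * (t⁻¹ * f) := by group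
      _ = t * c * (t * f) := by rw [htinv]
      _ = t * c * (f⁻¹ * t) := by rw [h1]
      _ = t * (c * f⁻¹) * t := by group
      _ = t * (f⁻¹ * c) * t := by rw [h3]
      _ = (t * f⁻¹) * c * t := by group
      _ = (f * t) * c * t := by rw [h2]
      _ = f * (t * c * t) := by group
      _ = f * (t * c * t⁻¹) := by rw [htinv]
  haveI : Fintype {w : ↥C // orderOf w = 2} := Fintype.ofFinite _
  let φ : Function.End {w : ↥C // orderOf w = 2} := fun w =>
    ⟨⟨t * w.1.1 * t⁻¹, htC _ w.1.2⟩, by
      rw [← Subgroup.orderOf_coe]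
      show orderOf (t * w.1.1 * t⁻¹) = 2
      rw [conj_orderOf, Subgroup.orderOf_coe]; exact w.2⟩
  have hφ : φ ^ 2 ^ 1 = 1 := by
    rw [pow_one, pow_two]
    funext w
    apply Subtype.ext
    apply Subtype.ext
    show t * (t * w.1.1 * t⁻¹) * t⁻¹ = w.1.1
    calc t * (t * w.1.1 * t⁻¹) * t⁻¹ = (t * t) * w.1.1 * (t⁻¹ * t⁻¹) := by group
      _ = w.1.1 := by rw [htinv, htt, one_mul, mul_one]
  have hmod := Equiv.Perm.card_fixedPoints_modEq (p := 2) (n := 1) hφ
  rw [Nat.card_eq_fintype_card] at hodd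
  have hpos : 0 < Fintype.card (Function.fixedPoints φ) := by
    by_contra h0
    have h0' : Fintype.card (Function.fixedPoints φ) = 0 := by omega
    rw [h0'] at hmod
    have := hmod.symm
    rw [Nat.ModEq, Nat.zero_mod] at this
    obtain ⟨k, hk⟩ := hodd
    omega
  obtain ⟨⟨w, hw⟩⟩ := Fintype.card_pos_iff.mp hpos
  have hw' : t * w.1.1 * t⁻¹ = w.1.1 := by
    have := congrArg (fun z => (z.1 : G)) hw
    exact this
  have hw2 : orderOf (w.1 : G) = 2 := by rw [Subgroup.orderOf_coe]; exact w.2
  have hwf : (w.1 : G) * f = f * (w.1 : G) :=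
    Subgroup.mem_centralizer_singleton_iff.mp w.1.2
  have htw : t * (w.1 : G) = (w.1 : G) * t := by
    calc t * (w.1 : G) = (t * (w.1 : G) * t⁻¹) * t := by group
      _ = (w.1 : G) * t := by rw [hw']
  have htf := hyp (w.1 : G) hw2 t f htw hwf.symm
  apply hf
  have e1 : f⁻¹ = f := by
    calc f⁻¹ = t * f * t⁻¹ := hinv.symm
      _ = f * t * t⁻¹ := by rw [htf]
      _ = f := by group
  calc f * f = f⁻¹ * f := by rw [e1]
    _ = 1 := by group

end real

section sylow

variable [Finite G] (hyp : Hyp G) (S : Sylow 2 G) (hnc : ¬ IsCyclic (S : Subgroup G))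

local notation "M" => Subgroup.centralizer ((S : Subgroup G) : Set G)
local notation "H" => Subgroup.normalizer ((S : Subgroup G) : Set G)
local notation "R" => oddPart (Subgroup.centralizer ((S : Subgroup G) : Set G))

include hyp hnc in
theorem mem_R_iff {a : G} : a ∈ R ↔ a ∈ M ∧ Odd (orderOf a) :=
  mem_oddPart_iff (cent_comm hyp S hnc)

theorem R_le_cent : R ≤ M := oddPart_le _

theorem R_le_normalizer : R ≤ H := (oddPart_le _).trans (cent_le_normalizer S)

/-- the normalizer of `S` normalizes `C(S)` -/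
theorem cj_cent {h : G} (hh : h ∈ H) : cj h M = M := by
  have key : ∀ g ∈ H, cj g M ≤ M := by
    intro g hg
    rw [cj_le_iff]
    intro x hx
    rw [mem_cent_iff] at hx ⊢
    intro s hs
    have hs' : g⁻¹ * s * g ∈ (S : Subgroup G) := by
      have := (Subgroup.mem_normalizer_iff.mp (inv_mem hg) s).mp hs
      simpa using this
    have := hx _ hs'
    calc s * (g * x * g⁻¹) = g * ((g⁻¹ * s * g) * x) * g⁻¹ := by group
      _ = g * (x * (g⁻¹ * s * g)) * g⁻¹ := by rw [this]
      _ = g * x * g⁻¹ * s := by group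
  apply le_antisymm (key h hh)
  have := cj_mono (key h⁻¹ (inv_mem hh)) h
  rwa [cj_cj, mul_inv_cancel, cj_one] at this

theorem cj_R {h : G} (hh : h ∈ H) : cj h R = R := by
  rw [cj_oddPart, cj_cent S hh]

include hyp hnc in
/-- an element of `R` inverted by an involution is trivial -/
theorem eq_one_of_inverted {r t : G} (hr : r ∈ R) (ht : orderOf t = 2)
    (hinv : t * r * t⁻¹ = r⁻¹) : r = 1 := by
  by_contra hr1
  obtain ⟨hrM, hrodd⟩ := (mem_R_iff hyp S hnc).mp hr
  obtain ⟨v, hvS, hv⟩ := exists_invol hyp S hnc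
  have hvr : v * r = r * v := (mem_cent_iff S).mp hrM v hvS
  apply not_commute_invol_of_inverted hyp ht hinv _ hv hvr
  intro h
  exact hr1 (eq_one_of_odd_of_mul_self hrodd h)

include hyp hnc in
/-- an element of even order of `C(S)` has an involution of `S` among its powers -/
theorem exists_pow_invol {a : G} (ha : a ∈ M) (heven : Even (orderOf a)) :
    ∃ k : ℕ, orderOf (a ^ k) = 2 ∧ a ^ k ∈ (S : Subgroup G) := by
  obtain ⟨j, hj⟩ := heven
  have hpos : 0 < orderOf a := orderOf_pos a
  refine ⟨j, ?_, ?_⟩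
  · have h2 : orderOf a = j * 2 := by omega
    have hj0 : j ≠ 0 := by rintro rfl; omega
    rw [orderOf_pow' a hj0, h2, Nat.gcd_eq_right (Dvd.intro _ rfl),
      Nat.mul_div_cancel_left _ (Nat.pos_of_ne_zero hj0)]
  · have h2 : orderOf a = j * 2 := by omega
    have hj0 : j ≠ 0 := by rintro rfl; omega
    have ho : orderOf (a ^ j) = 2 := by
      rw [orderOf_pow' a hj0, h2, Nat.gcd_eq_right (Dvd.intro _ rfl),
        Nat.mul_div_cancel_left _ (Nat.pos_of_ne_zero hj0)]
    exact invol_mem_sylow S ho (cent_le_normalizer S (Subgroup.pow_mem _ ha _))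

include hyp hnc in
/-- an element of `C(S)` outside `R` has an involution of `S` among its powers -/
theorem exists_pow_invol_of_not_mem {a : G} (ha : a ∈ M) (haR : a ∉ R) :
    ∃ k : ℕ, orderOf (a ^ k) = 2 ∧ a ^ k ∈ (S : Subgroup G) := by
  apply exists_pow_invol hyp S hnc ha
  rw [← Nat.not_odd_iff_even]
  intro hodd
  exact haR ((mem_R_iff hyp S hnc).mpr ⟨ha, hodd⟩)

include hyp in
/-- an element commuting with an involution of `S` lies in `C(S)` -/
theorem mem_cent_of_commute_invol {t x : G} (ht : orderOf t = 2) (htS : t ∈ (S : Subgroup G))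
    (hx : x * t = t * x) : x ∈ M := by
  rw [← cent_invol hyp S ht htS, Subgroup.mem_centralizer_singleton_iff]
  exact hx

include hyp hnc in
/-- an element commuting with an element of `C(S)` outside `R` lies in `C(S)` -/
theorem mem_cent_of_commute {a x : G} (ha : a ∈ M) (haR : a ∉ R) (hx : x * a = a * x) :
    x ∈ M := by
  obtain ⟨k, hk2, hkS⟩ := exists_pow_invol_of_not_mem hyp S hnc ha haR
  apply mem_cent_of_commute_invol hyp S hk2 hkS
  have : Commute x a := hx
  exact (this.pow_right k).eq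

end sylow

end Cfsg.Agent.Helper2.AbInv
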