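import Mathlib
import Cfsg.Agent.Helper2.AbInvB

/-!
# Groups in which the centralizers of involutions are abelian: general lemmas
(conjugacy of complements of an abelian normal Hall subgroup, involutions moving points)
-/

set_option autoImplicit false
set_option linter.style.haveILetI false

namespace Cfsg.Agent.Helper2.AbInv

open Cfsg Cfsg.Agent.Helper2
open scoped IsMulCommutative

universe u

variable {G : Type u} [Group G]

/-- Schur–Zassenhaus conjugacy, abelian case, in a hands-on form: if `E` normalizes the abelian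
group `A`, `E ⊆ A B`, `A ∩ B = 1` and `|A|`, `|E|` are coprime, then an `A`-conjugate of `E` lies
in `B`. -/
theorem exists_conj_mem_of_coprime [Finite G] (A B E : Subgroup G)
    (hA : ∀ a ∈ A, ∀ b ∈ A, a * b = b * a)
    (hEA : ∀ e ∈ E, ∀ a ∈ A, e * a * e⁻¹ ∈ A)
    (hdec : ∀ e ∈ E, ∃ a ∈ A, a⁻¹ * e ∈ B)
    (hAB : A ⊓ B = ⊥) (hcop : (Nat.card A).Coprime (Nat.card E)) :
    ∃ a ∈ A, ∀ e ∈ E, a⁻¹ * e * a ∈ B := by
  classical
  haveI : Fintype ↥E := Fintype.ofFinite _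
  haveI : IsMulCommutative ↥A := ⟨⟨fun a b => Subtype.ext (hA a a.2 b b.2)⟩⟩
  choose c hcA hcB using fun e : ↥E => hdec e e.2
  let c' : ↥E → ↥A := fun e => ⟨c e, hcA e⟩
  have huniq : ∀ (e : ↥E) (a : G), a ∈ A → a⁻¹ * e ∈ B → a = c e := by
    intro e a ha hab
    have h1 : a⁻¹ * c e ∈ A ⊓ B := by
      refine Subgroup.mem_inf.mpr ⟨A.mul_mem (A.inv_mem ha) (hcA e), ?_⟩
      have e1 : a⁻¹ * c e = (a⁻¹ * e) * ((c e)⁻¹ * e)⁻¹ := by group
      rw [e1]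
      exact B.mul_mem hab (B.inv_mem (hcB e))
    rw [hAB, Subgroup.mem_bot] at h1
    calc a = a * (a⁻¹ * c e) := by rw [h1, mul_one]
      _ = c e := by group
  have hcoc : ∀ e e' : ↥E, c (e * e') = ((e : G) * c e' * (e : G)⁻¹) * c e := by
    intro e e'
    symm
    apply huniq
    · exact A.mul_mem (hEA e e.2 _ (hcA e')) (hcA e)
    · have e1 : ((e : G) * c e' * (e : G)⁻¹ * c e)⁻¹ * ((e * e' : ↥E) : G) =
          ((c e)⁻¹ * e) * ((c e')⁻¹ * e') := by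
        rw [Subgroup.coe_mul]; group
      rw [e1]
      exact B.mul_mem (hcB e) (hcB e')
  set n := Fintype.card ↥E with hn
  have hcop' : (Nat.card ↥A).Coprime n := by
    rw [hn, ← Nat.card_eq_fintype_card]; exact hcop
  set b : ↥A := ∏ e : ↥E, c' e with hb
  obtain ⟨a, ha⟩ := hcop'.pow_left_bijective.2 b
  have ha' : a ^ n = b := ha
  refine ⟨a, a.2, ?_⟩
  intro e₀ he₀
  let φ : ↥A →* ↥A :=
    { toFun := fun x => ⟨e₀ * x * e₀⁻¹, hEA e₀ he₀ x x.2⟩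
      map_one' := by apply Subtype.ext; simp
      map_mul' := fun x y => by
        apply Subtype.ext
        show e₀ * ((x * y : ↥A) : G) * e₀⁻¹ = (e₀ * x * e₀⁻¹) * (e₀ * y * e₀⁻¹)
        rw [Subgroup.coe_mul]; group }
  have hφc : ∀ e : ↥E, φ (c' e) = c' (⟨e₀, he₀⟩ * e) * (c' ⟨e₀, he₀⟩)⁻¹ := by
    intro e
    apply Subtype.ext
    show e₀ * c e * e₀⁻¹ = c (⟨e₀, he₀⟩ * e) * (c ⟨e₀, he₀⟩)⁻¹
    rw [hcoc]
    group
  have hφb : φ b = b * ((c' ⟨e₀, he₀⟩)⁻¹) ^ n := by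
    rw [hb, map_prod]
    simp_rw [hφc]
    rw [Finset.prod_mul_distrib, Finset.prod_const, Finset.card_univ]
    congr 1
    exact Fintype.prod_equiv (Equiv.mulLeft (⟨e₀, he₀⟩ : ↥E)) _ _ (fun e => rfl)
  have hφa : φ a = a * (c' ⟨e₀, he₀⟩)⁻¹ := by
    apply hcop'.pow_left_bijective.1
    show (φ a) ^ n = (a * (c' ⟨e₀, he₀⟩)⁻¹) ^ n
    rw [← map_pow, ha', hφb, mul_pow, ha']
  have hφa' : e₀ * (a : G) * e₀⁻¹ = (a : G) * (c ⟨e₀, he₀⟩)⁻¹ := by
    have := congrArg Subtype.val hφa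
    exact this
  have e1 : (a : G)⁻¹ * e₀ * a = (c ⟨e₀, he₀⟩)⁻¹ * e₀ := by
    calc (a : G)⁻¹ * e₀ * a = (a : G)⁻¹ * (e₀ * a * e₀⁻¹) * e₀ := by group
      _ = (a : G)⁻¹ * ((a : G) * (c ⟨e₀, he₀⟩)⁻¹) * e₀ := by rw [hφa']
      _ = (c ⟨e₀, he₀⟩)⁻¹ * e₀ := by group
  rw [e1]
  exact hcB ⟨e₀, he₀⟩

section SE

variable [Finite G] {K : Subgroup G}

theorem smul_one_coset_iff {h : G} : h • ((1 : G) : G ⧸ K) = ((1 : G) : G ⧸ K) ↔ h ∈ K := by
  rw [smul_coset_eq_iff]; simp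

theorem coset_ne_one_iff {g : G} : ((g : G) : G ⧸ K) ≠ ((1 : G) : G ⧸ K) ↔ g ∉ K := by
  rw [Ne, QuotientGroup.eq, mul_one, inv_mem_iff]

theorem smul_coset_one (g : G) : g • ((1 : G) : G ⧸ K) = ((g : G) : G ⧸ K) := by
  rw [MulAction.Quotient.smul_coe, smul_eq_mul, mul_one]

/-- every point other than the base point is the image of the base point under an involution -/
theorem exists_invol_map_of_SE (hK : Cfsg.IsStronglyEmbedded K) {x : G ⧸ K}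
    (hx : x ≠ ((1 : G) : G ⧸ K)) :
    ∃ v : G, orderOf v = 2 ∧ v ∉ K ∧ ((v : G) : G ⧸ K) = x := by
  have hpos : 0 < Nat.card {i : G // orderOf i = 2 ∧ i • ((1 : G) : G ⧸ K) = x} := by
    rw [card_invol_swap hK _ _ (Ne.symm hx)]
    obtain ⟨t, htH, ht2⟩ := exists_invol_of_even_card K hK.2.1
    haveI : Nonempty {t : G // orderOf t = 2 ∧ t ∈ K} := ⟨⟨t, ht2, htH⟩⟩
    exact Nat.card_pos
  obtain ⟨⟨v, hv2, hvg⟩⟩ := (Nat.card_pos_iff.mp hpos).1
  have hvα : ((v : G) : G ⧸ K) = x := by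
    rw [← hvg, smul_coset_one]
  refine ⟨v, hv2, ?_, hvα⟩
  rw [← coset_ne_one_iff, hvα]
  exact hx

theorem exists_invol_coset_of_SE (hK : Cfsg.IsStronglyEmbedded K) {g : G} (hg : g ∉ K) :
    ∃ v : G, orderOf v = 2 ∧ v ∉ K ∧ v⁻¹ * g ∈ K := by
  obtain ⟨v, hv, hvK, hvg⟩ := exists_invol_map_of_SE hK (coset_ne_one_iff.mpr hg)
  exact ⟨v, hv, hvK, QuotientGroup.eq.mp hvg⟩

theorem exists_invol_not_mem_of_SE (hK : Cfsg.IsStronglyEmbedded K) :
    ∃ u : G, orderOf u = 2 ∧ u ∉ K := by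
  obtain ⟨g, hg⟩ : ∃ g : G, g ∉ K := by
    by_contra hcon
    push Not at hcon
    exact hK.1 (eq_top_iff.mpr fun g _ => hcon g)
  obtain ⟨v, hv, hvK, -⟩ := exists_invol_coset_of_SE hK hg
  exact ⟨v, hv, hvK⟩

end SE

end Cfsg.Agent.Helper2.AbInv
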