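import Mathlib
import Cfsg.Agent.Helper2.AbInvC

/-!
# Groups in which the centralizers of involutions are abelian: the two-point stabilizer
-/

set_option autoImplicit false
set_option linter.style.haveILetI false

namespace Cfsg.Agent.Helper2.AbInv

open Cfsg Cfsg.Agent.Helper2

universe u

variable {G : Type u} [Group G] [Finite G]

section main

variable (hyp : Hyp G) (S : Sylow 2 G) (hnc : ¬ IsCyclic (S : Subgroup G))
  (hnn : ¬ (S : Subgroup G).Normal)

local notation "M" => Subgroup.centralizer ((S : Subgroup G) : Set G)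
local notation "H" => Subgroup.normalizer ((S : Subgroup G) : Set G)
local notation "R" => oddPart (Subgroup.centralizer ((S : Subgroup G) : Set G))

include hyp hnc in
/-- elements of `C(S)` outside `R` fix only the base point -/
theorem mem_normalizer_of_conj_mem {a g : G} (ha : a ∈ M) (haR : a ∉ R)
    (hg : g⁻¹ * a * g ∈ H) : g ∈ H := by
  obtain ⟨k, hk2, hkS⟩ := exists_pow_invol_of_not_mem hyp S hnc ha haR
  apply mem_normalizer_of_invol hyp S hk2 hkS
  have e : g⁻¹ * a ^ k * g = (g⁻¹ * a * g) ^ k := by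
    have := conj_pow (a := g⁻¹) (b := a) (i := k)
    rw [inv_inv] at this
    exact this.symm
  rw [e]
  exact Subgroup.pow_mem _ hg _

include hyp hnc in
theorem sylow_not_mem_R {s : G} (hs : s ∈ (S : Subgroup G)) (hs1 : s ≠ 1) : s ∉ R := by
  intro hsR
  obtain ⟨-, hodd⟩ := (mem_R_iff hyp S hnc).mp hsR
  obtain ⟨k, hk⟩ := orderOf_sylow S hs
  exact hs1 (eq_one_of_odd_of_two_pow hodd hk)

include hyp hnc in
/-- nonidentity elements of `S` fix only the base point -/
theorem mem_normalizer_of_sylow_conj_mem {s g : G} (hs : s ∈ (S : Subgroup G)) (hs1 : s ≠ 1)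
    (hg : g⁻¹ * s * g ∈ H) : g ∈ H :=
  mem_normalizer_of_conj_mem hyp S hnc (sylow_le_cent hyp S hs)
    (sylow_not_mem_R hyp S hnc hs hs1) hg

variable {u : G} (hu : orderOf u = 2)
  (huH : u ∉ Subgroup.normalizer ((S : Subgroup G) : Set G))

include hyp hnc hnn hu huH in
/-- the two-point stabilizer is transitive on the involutions of `S` -/
theorem exists_conj_invol {s t : G} (hs : orderOf s = 2) (hsS : s ∈ (S : Subgroup G))
    (ht : orderOf t = 2) (htS : t ∈ (S : Subgroup G)) :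
    ∃ d ∈ H ⊓ cj u H, d * s * d⁻¹ = t :=
  invol_conj_in_inter (stronglyEmbedded hyp S hnc hnn) hu huH hs (Subgroup.le_normalizer hsS)
    ht (Subgroup.le_normalizer htS)

include hyp hnc hnn hu huH in
/-- `H = D C(S)` -/
theorem exists_mul_eq {h : G} (hh : h ∈ H) : ∃ d ∈ H ⊓ cj u H, ∃ a ∈ M, d * a = h := by
  obtain ⟨t, htS, ht⟩ := exists_invol hyp S hnc
  have htH : t ∈ H := Subgroup.le_normalizer htS
  have h2 : orderOf (h * t * h⁻¹) = 2 := by rw [conj_orderOf]; exact ht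
  have hN : h * t * h⁻¹ ∈ H := mul_mem (mul_mem hh htH) (inv_mem hh)
  have hS' := invol_mem_sylow S h2 hN
  obtain ⟨d, hd, hdt⟩ := exists_conj_invol hyp S hnc hnn hu huH ht htS h2 hS'
  refine ⟨d, hd, d⁻¹ * h, ?_, by group⟩
  apply mem_cent_of_commute_invol hyp S ht htS
  calc d⁻¹ * h * t = d⁻¹ * (h * t * h⁻¹) * h := by group
    _ = d⁻¹ * (d * t * d⁻¹) * h := by rw [hdt]
    _ = t * (d⁻¹ * h) := by group

include hyp hnc hnn huH in
theorem odd_orderOf_of_mem_inter {d : G} (hd : d ∈ H ⊓ cj u H) : Odd (orderOf d) := by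
  have hodd := (stronglyEmbedded hyp S hnc hnn).2.2 u huH
  have h1 := orderOf_dvd_natCard (⟨d, hd⟩ : ↥(H ⊓ cj u H))
  rw [Subgroup.orderOf_mk] at h1
  exact hodd.of_dvd_nat h1

include hyp hnc hnn huH in
theorem inter_cent_le : (H ⊓ cj u H) ⊓ M ≤ R := by
  intro x hx
  rw [Subgroup.mem_inf] at hx
  exact (mem_R_iff hyp S hnc).mpr ⟨hx.2, odd_orderOf_of_mem_inter hyp S hnc hnn huH hx.1⟩

include hyp hnc hnn huH in
theorem inter_sylow : (H ⊓ cj u H) ⊓ (S : Subgroup G) = ⊥ := by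
  rw [eq_bot_iff]
  intro x hx
  rw [Subgroup.mem_inf] at hx
  rw [Subgroup.mem_bot]
  obtain ⟨k, hk⟩ := orderOf_sylow S hx.2
  exact eq_one_of_odd_of_two_pow (odd_orderOf_of_mem_inter hyp S hnc hnn huH hx.1) hk

omit [Finite G] in
theorem smul_u_coset_of_mem {d : G} (hd : d ∈ H ⊓ cj u H) :
    d • ((u : G) : G ⧸ H) = ((u : G) : G ⧸ H) := by
  rw [smul_coset_eq_iff]
  have := (Subgroup.mem_inf.mp hd).2
  rwa [mem_cj_iff] at this

theorem mem_inter_of_fix {d : G} (h1 : d • ((1 : G) : G ⧸ H) = ((1 : G) : G ⧸ H))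
    (h2 : d • ((u : G) : G ⧸ H) = ((u : G) : G ⧸ H)) : d ∈ H ⊓ cj u H := by
  refine Subgroup.mem_inf.mpr ⟨smul_one_coset_iff.mp h1, ?_⟩
  rw [mem_cj_iff]
  rwa [smul_coset_eq_iff] at h2

end main

end Cfsg.Agent.Helper2.AbInv
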