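import Mathlib
import Cfsg.Agent.Helper2.AbInvD
import Cfsg.Agent.Helper2.StrEmb2

/-!
# Groups in which the centralizers of involutions are abelian: the normalizer of a Sylow
`2`-subgroup is not properly contained in a proper subgroup on whose cosets `S` is transitive
-/

set_option autoImplicit false
set_option linter.style.haveILetI false

namespace Cfsg.Agent.Helper2.AbInv

open Cfsg Cfsg.Agent.Helper2

universe u

variable {G : Type u} [Group G] [Finite G]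

section main

variable (hyp : Hyp G) (S : Sylow 2 G) (hnc : ¬ IsCyclic (S : Subgroup G))
  (hnn : ¬ (S : Subgroup G).Normal)

local notation "M" => Subgroup.centralizer ((S : Subgroup G) : Set G)
local notation "H" => Subgroup.normalizer ((S : Subgroup G) : Set G)
local notation "R" => oddPart (Subgroup.centralizer ((S : Subgroup G) : Set G))

variable (J : Subgroup G) (hHJ : Subgroup.normalizer ((S : Subgroup G) : Set G) ≤ J)

include hHJ in
/-- involutions of an overgroup of `H` are conjugate into `S` -/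
theorem exists_conj_mem_sylow {t : G} (ht : orderOf t = 2) (htJ : t ∈ J) :
    ∃ j ∈ J, j * t * j⁻¹ ∈ (S : Subgroup G) := by
  haveI : Fact (Nat.Prime 2) := ⟨Nat.prime_two⟩
  have hSJ : (S : Subgroup G) ≤ J := Subgroup.le_normalizer.trans hHJ
  have hzp : IsPGroup 2 ↥(Subgroup.zpowers t) := by
    rw [IsPGroup.iff_card]
    exact ⟨1, by rw [Nat.card_zpowers, ht, pow_one]⟩
  have hle : Subgroup.zpowers t ≤ J := by
    rw [Subgroup.zpowers_le]; exact htJ
  obtain ⟨j, hj, hjle⟩ := exists_mem_cj_le_sylow_map J (S.subtype hSJ) (Subgroup.zpowers t) hle hzp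
  rw [Sylow.coe_subtype, Subgroup.map_subgroupOf_eq_of_le hSJ] at hjle
  exact ⟨j, hj, hjle (conj_mem_cj _ j t (Subgroup.mem_zpowers t))⟩

variable (hJtop : J ≠ ⊤)

include hyp hnc hHJ hJtop in
/-- a proper overgroup of `H` is strongly embedded -/
theorem stronglyEmbedded_of_le : Cfsg.IsStronglyEmbedded J := by
  apply stronglyEmbedded_of_invol hJtop
  · obtain ⟨t, htS, ht⟩ := exists_invol hyp S hnc
    exact even_card_of_invol _ (hHJ (Subgroup.le_normalizer htS)) ht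
  · intro t g ht htJ htg
    rw [mem_cj_iff] at htg
    have ht' : orderOf (g⁻¹ * t * g) = 2 := by rw [conj_orderOf']; exact ht
    obtain ⟨j₁, hj₁, hs₁⟩ := exists_conj_mem_sylow S J hHJ ht htJ
    obtain ⟨j₂, hj₂, hs₂⟩ := exists_conj_mem_sylow S J hHJ ht' htg
    have hs₁2 : orderOf (j₁ * t * j₁⁻¹) = 2 := by rw [conj_orderOf]; exact ht
    have hk : j₁ * g * j₂⁻¹ ∈ H := by
      apply mem_normalizer_of_invol hyp S hs₁2 hs₁
      apply Subgroup.le_normalizer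
      have e : (j₁ * g * j₂⁻¹)⁻¹ * (j₁ * t * j₁⁻¹) * (j₁ * g * j₂⁻¹) =
          j₂ * (g⁻¹ * t * g) * j₂⁻¹ := by group
      rw [e]
      exact hs₂
    have e : g = j₁⁻¹ * (j₁ * g * j₂⁻¹) * j₂ := by group
    rw [e]
    exact J.mul_mem (J.mul_mem (J.inv_mem hj₁) (hHJ hk)) hj₂

variable (hJH : ¬ J ≤ Subgroup.normalizer ((S : Subgroup G) : Set G))
  (ihT : ∀ g₁ ∈ J, ∀ g₂ ∈ J, g₁ ∉ Subgroup.normalizer ((S : Subgroup G) : Set G) →
    g₂ ∉ Subgroup.normalizer ((S : Subgroup G) : Set G) →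
    ∃ s ∈ (S : Subgroup G), g₂⁻¹ * (s * g₁) ∈ Subgroup.normalizer ((S : Subgroup G) : Set G))

include hyp hnc hnn hHJ hJtop hJH ihT in
/-- `H` is not properly contained in a proper subgroup on whose nontrivial cosets of `H` the
group `S` is transitive -/
theorem maximal_false : False := by
  haveI : Fact (Nat.Prime 2) := ⟨Nat.prime_two⟩
  have hSE := stronglyEmbedded hyp S hnc hnn
  have hSEJ := stronglyEmbedded_of_le hyp S hnc J hHJ hJtop
  have hSJ : (S : Subgroup G) ≤ J := Subgroup.le_normalizer.trans hHJ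
  -- an involution `u ∈ J ∖ H`
  obtain ⟨j, hjJ, hjH⟩ : ∃ j ∈ J, j ∉ H := by
    by_contra hcon
    push Not at hcon
    exact hJH hcon
  obtain ⟨u, hu, huH, huj⟩ := exists_invol_coset_of_SE hSE hjH
  have huJ : u ∈ J := by
    have e : u = j * (u⁻¹ * j)⁻¹ := by group
    rw [e]
    exact J.mul_mem hjJ (J.inv_mem (hHJ huj))
  -- an involution `v ∉ J`
  obtain ⟨v, hv, hvJ⟩ := exists_invol_not_mem_of_SE hSEJ
  have hodd : Odd (Nat.card ↥(J ⊓ cj v J)) := hSEJ.2.2 v hvJ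
  have hodd_elt : ∀ d ∈ J ⊓ cj v J, Odd (orderOf d) := by
    intro d hd
    have h1 := orderOf_dvd_natCard (⟨d, hd⟩ : ↥(J ⊓ cj v J))
    rw [Subgroup.orderOf_mk] at h1
    exact hodd.of_dvd_nat h1
  have htrans : ∀ s t : G, orderOf s = 2 → s ∈ J → orderOf t = 2 → t ∈ J →
      ∃ d ∈ J ⊓ cj v J, d * s * d⁻¹ = t := fun s t hs hsJ ht htJ =>
    invol_conj_in_inter hSEJ hv hvJ hs hsJ ht htJ
  set E : Subgroup G := (J ⊓ cj v J) ⊓ H with hE
  have hEH : E ≤ H := inf_le_right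
  have hED : E ≤ J ⊓ cj v J := inf_le_left
  -- `E` has a fixed point `a u H`
  obtain ⟨a, haS, hafix⟩ : ∃ a ∈ (S : Subgroup G), ∀ e ∈ E, a⁻¹ * e * a ∈ cj u H := by
    apply exists_conj_mem_of_coprime (S : Subgroup G) (cj u H) E (sylow_comm hyp S)
    · intro e he s hs
      exact (Subgroup.mem_normalizer_iff.mp (hEH he) s).mp hs
    · intro e he
      have heH := hEH he
      have heJ : e ∈ J := (Subgroup.mem_inf.mp (hED he)).1
      have h1 : e * u ∉ H := by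
        intro h
        apply huH
        have e1 : u = e⁻¹ * (e * u) := by group
        rw [e1]
        exact mul_mem (inv_mem heH) h
      obtain ⟨s, hs, hsm⟩ := ihT u huJ (e * u) (J.mul_mem heJ huJ) huH h1
      refine ⟨s, hs, ?_⟩
      rw [mem_cj_iff]
      have e1 : u⁻¹ * (s⁻¹ * e) * u = ((e * u)⁻¹ * (s * u))⁻¹ := by group
      rw [e1]
      exact inv_mem hsm
    · rw [eq_bot_iff]
      intro s hs
      rw [Subgroup.mem_inf, mem_cj_iff] at hs
      rw [Subgroup.mem_bot]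
      by_contra hs1
      exact huH (mem_normalizer_of_sylow_conj_mem hyp S hnc hs.1 hs1 hs.2)
    · obtain ⟨k, hk⟩ := IsPGroup.iff_card.mp S.2
      rw [hk]
      apply Nat.Coprime.pow_left
      rw [Nat.coprime_two_left]
      exact hodd.of_dvd_nat (Subgroup.card_dvd_of_le hED)
  set j₀ := a * u with hj₀
  have hj₀J : j₀ ∈ J := J.mul_mem (hSJ haS) huJ
  have hj₀H : j₀ ∉ H := by
    intro h
    apply huH
    have e1 : u = a⁻¹ * j₀ := by rw [hj₀]; group
    rw [e1]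
    exact mul_mem (inv_mem (Subgroup.le_normalizer haS)) h
  have hj₀fix : ∀ e ∈ E, j₀⁻¹ * e * j₀ ∈ H := by
    intro e he
    have := hafix e he
    rw [mem_cj_iff] at this
    have e1 : j₀⁻¹ * e * j₀ = u⁻¹ * (a⁻¹ * e * a) * u := by rw [hj₀]; group
    rw [e1]
    exact this
  -- an element of `E` outside `C(S)`
  obtain ⟨s, t, hsS, htS, hs2, ht2, hst⟩ := exists_two_invol hyp S hnc
  obtain ⟨e₁, he₁D, he₁c⟩ := htrans s t hs2 (hSJ hsS) ht2 (hSJ htS)
  have he₁H : e₁ ∈ H := by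
    have h1 : e₁⁻¹ ∈ H := by
      apply mem_normalizer_of_invol hyp S hs2 hsS
      rw [inv_inv, he₁c]
      exact Subgroup.le_normalizer htS
    have := inv_mem h1
    rwa [inv_inv] at this
  have he₁E : e₁ ∈ E := Subgroup.mem_inf.mpr ⟨he₁D, he₁H⟩
  have he₁M : e₁ ∉ M := by
    intro h
    apply hst
    have := (mem_cent_iff S).mp h s hsS
    calc s = (s * e₁) * e₁⁻¹ := by group
      _ = (e₁ * s) * e₁⁻¹ := by rw [this]
      _ = t := he₁c
  -- uniqueness of the fixed point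
  have huniq : ∀ j ∈ J, j ∉ H → (∀ e ∈ E, j⁻¹ * e * j ∈ H) → j₀⁻¹ * j ∈ H := by
    intro j hjJ hjH hjfix
    obtain ⟨s', hs', hsm⟩ := ihT j₀ hj₀J j hjJ hj₀H hjH
    -- `j H = s' j₀ H`
    have h1 : (s' * j₀)⁻¹ * e₁ * (s' * j₀) ∈ H := by
      have := hjfix e₁ he₁E
      have e1 : (s' * j₀)⁻¹ * e₁ * (s' * j₀) =
          (j⁻¹ * (s' * j₀))⁻¹ * (j⁻¹ * e₁ * j) * (j⁻¹ * (s' * j₀)) := by group
      rw [e1]
      exact mul_mem (mul_mem (inv_mem hsm) this) hsm
    have h2 := hj₀fix e₁ he₁E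
    have hs'' : e₁⁻¹ * s'⁻¹ * e₁ * s' ∈ (S : Subgroup G) := by
      have h3 : e₁⁻¹ * s'⁻¹ * e₁ ∈ (S : Subgroup G) := by
        have := (Subgroup.mem_normalizer_iff.mp (inv_mem he₁H) s'⁻¹).mp (inv_mem hs')
        simpa using this
      exact mul_mem h3 hs'
    have h4 : j₀⁻¹ * (e₁⁻¹ * s'⁻¹ * e₁ * s') * j₀ ∈ H := by
      have e1 : j₀⁻¹ * (e₁⁻¹ * s'⁻¹ * e₁ * s') * j₀ =
          (j₀⁻¹ * e₁ * j₀)⁻¹ * ((s' * j₀)⁻¹ * e₁ * (s' * j₀)) := by group
      rw [e1]
      exact mul_mem (inv_mem h2) h1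
    have h5 : e₁⁻¹ * s'⁻¹ * e₁ * s' = 1 := by
      by_contra hne
      exact hj₀H (mem_normalizer_of_sylow_conj_mem hyp S hnc hs'' hne h4)
    have h6 : e₁ * s' = s' * e₁ := by
      calc e₁ * s' = s' * e₁ * (e₁⁻¹ * s'⁻¹ * e₁ * s') := by group
        _ = s' * e₁ := by rw [h5, mul_one]
    have hs'1 : s' = 1 := by
      by_contra hne
      apply he₁M
      exact mem_cent_of_commute hyp S hnc (sylow_le_cent hyp S hs')
        (sylow_not_mem_R hyp S hnc hs' hne) h6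
    rw [hs'1, one_mul] at hsm
    have := inv_mem hsm
    have e1 : (j⁻¹ * j₀)⁻¹ = j₀⁻¹ * j := by group
    rwa [e1] at this
  -- an element `d` of `D''` mapping the base point to `j₀ H`
  obtain ⟨t₀, ht₀S, ht₀⟩ := exists_invol hyp S hnc
  have ht₁ : orderOf (j₀ * t₀ * j₀⁻¹) = 2 := by rw [conj_orderOf]; exact ht₀
  have ht₁J : j₀ * t₀ * j₀⁻¹ ∈ J := J.mul_mem (J.mul_mem hj₀J (hSJ ht₀S)) (J.inv_mem hj₀J)
  obtain ⟨d, hdD, hdc⟩ := htrans t₀ _ ht₀ (hSJ ht₀S) ht₁ ht₁J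
  have hdJ : d ∈ J := (Subgroup.mem_inf.mp hdD).1
  have hdj₀ : j₀⁻¹ * d ∈ H := by
    apply cent_le_normalizer S
    apply mem_cent_of_commute_invol hyp S ht₀ ht₀S
    calc j₀⁻¹ * d * t₀ = j₀⁻¹ * (d * t₀ * d⁻¹) * d := by group
      _ = j₀⁻¹ * (j₀ * t₀ * j₀⁻¹) * d := by rw [hdc]
      _ = t₀ * (j₀⁻¹ * d) := by group
  have hdH : d ∉ H := by
    intro h
    apply hj₀H
    have e1 : j₀ = d * (j₀⁻¹ * d)⁻¹ := by group
    rw [e1]
    exact mul_mem h (inv_mem hdj₀)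
  -- `d⁻¹ E d ≤ E`
  have hconj : ∀ e ∈ E, d⁻¹ * e * d ∈ E := by
    intro e he
    refine Subgroup.mem_inf.mpr ⟨?_, ?_⟩
    · exact mul_mem (mul_mem (inv_mem hdD) (hED he)) hdD
    · have e1 : d⁻¹ * e * d = (j₀⁻¹ * d)⁻¹ * (j₀⁻¹ * e * j₀) * (j₀⁻¹ * d) := by group
      rw [e1]
      exact mul_mem (mul_mem (inv_mem hdj₀) (hj₀fix e he)) hdj₀
  -- `d² ∈ H`
  have hd2 : d * d ∈ H := by
    by_contra hd2H
    have hfix2 : ∀ e ∈ E, (d * d)⁻¹ * e * (d * d) ∈ H := by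
      intro e he
      have h1 := hconj _ (hconj e he)
      have e1 : (d * d)⁻¹ * e * (d * d) = d⁻¹ * (d⁻¹ * e * d) * d := by group
      rw [e1]
      exact hEH h1
    have h2 := huniq (d * d) (J.mul_mem hdJ hdJ) hd2H hfix2
    apply hdH
    have e1 : d = (j₀⁻¹ * d)⁻¹ * (j₀⁻¹ * (d * d)) := by group
    rw [e1]
    exact mul_mem (inv_mem hdj₀) h2
  obtain ⟨k, hk⟩ := hodd_elt d hdD
  apply hdH
  rw [eq_sq_pow_of_odd k hk, pow_two]
  exact Subgroup.pow_mem _ hd2 _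

end main

end Cfsg.Agent.Helper2.AbInv
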