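import Mathlib
import Cfsg.Agent.Helper2.AbInvE
import Cfsg.Agent.Helper2.CIT3

/-!
# Groups in which the centralizers of involutions are abelian: the core-free case,
`C(S)` acts semiregularly off the base point
-/

set_option autoImplicit false
set_option linter.style.haveILetI false

namespace Cfsg.Agent.Helper2.AbInv

open Cfsg Cfsg.Agent.Helper2

universe u

variable {G : Type u} [Group G] [Finite G]

/-- the inductive hypothesis, for subgroups -/
def IHyp (S : Sylow 2 G) : Prop :=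
  ∀ J : Subgroup G, J ≠ ⊤ → (S : Subgroup G) ≤ J →
    ¬ J ≤ Subgroup.normalizer ((S : Subgroup G) : Set G) →
    (∀ g₁ ∈ J, ∀ g₂ ∈ J, g₁ ∉ Subgroup.normalizer ((S : Subgroup G) : Set G) →
      g₂ ∉ Subgroup.normalizer ((S : Subgroup G) : Set G) →
      ∃ s ∈ (S : Subgroup G), g₂⁻¹ * (s * g₁) ∈ Subgroup.normalizer ((S : Subgroup G) : Set G)) ∧
    (∀ r ∈ Subgroup.centralizer ((S : Subgroup G) : Set G), r ∈ J → Odd (orderOf r) → ∀ v ∈ J,
      orderOf v = 2 → r * v = v * r)

/-- the normalizer of `S` contains no nontrivial normal subgroup -/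
def CoreFree (S : Sylow 2 G) : Prop :=
  ∀ N : Subgroup G, N.Normal → N ≤ Subgroup.normalizer ((S : Subgroup G) : Set G) → N = ⊥

section main

variable (hyp : Hyp G) (S : Sylow 2 G) (hnc : ¬ IsCyclic (S : Subgroup G))
  (hnn : ¬ (S : Subgroup G).Normal) (hcore : CoreFree S) (ih : IHyp S)

local notation "M" => Subgroup.centralizer ((S : Subgroup G) : Set G)
local notation "H" => Subgroup.normalizer ((S : Subgroup G) : Set G)
local notation "R" => oddPart (Subgroup.centralizer ((S : Subgroup G) : Set G))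

include hyp hnc in
theorem cj_cent_comm (g : G) : ∀ a ∈ cj g M, ∀ b ∈ cj g M, a * b = b * a := by
  intro a ha b hb
  rw [mem_cj_iff] at ha hb
  have := cent_comm hyp S hnc _ ha _ hb
  calc a * b = g * ((g⁻¹ * a * g) * (g⁻¹ * b * g)) * g⁻¹ := by group
    _ = g * ((g⁻¹ * b * g) * (g⁻¹ * a * g)) * g⁻¹ := by rw [this]
    _ = b * a := by group

include hyp hnc hnn hcore ih in
/-- distinct conjugates of `R` meet trivially -/
theorem R_inf_cj {g : G} (hg : g ∉ H) : R ⊓ cj g R = ⊥ := by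
  by_contra hQ
  set Q := R ⊓ cj g R with hQdef
  have hQR : Q ≤ R := inf_le_left
  have hQg : Q ≤ cj g R := inf_le_right
  have hRM : R ≤ M := R_le_cent S
  have hgRM : cj g R ≤ cj g M := cj_mono hRM g
  set J := Subgroup.normalizer (Q : Set G) with hJ
  have hMJ : M ≤ J := by
    intro a ha
    apply CIT.mem_normalizer_of_forall_conj_mem
    intro q hq
    have := cent_comm hyp S hnc a ha q (hRM (hQR hq))
    rw [this, mul_inv_cancel_right]
    exact hq
  have hgMJ : cj g M ≤ J := by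
    intro a ha
    apply CIT.mem_normalizer_of_forall_conj_mem
    intro q hq
    have := cj_cent_comm hyp S hnc g a ha q (hgRM (hQg hq))
    rw [this, mul_inv_cancel_right]
    exact hq
  have hSJ : (S : Subgroup G) ≤ J := (sylow_le_cent hyp S).trans hMJ
  have hJtop : J ≠ ⊤ := by
    intro h
    apply hQ
    apply hcore Q (Subgroup.normalizer_eq_top_iff.mp h)
    exact hQR.trans (R_le_normalizer S)
  obtain ⟨t₀, ht₀S, ht₀⟩ := exists_invol hyp S hnc
  have ht' : g * t₀ * g⁻¹ ∈ J :=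
    hgMJ (conj_mem_cj _ g t₀ (sylow_le_cent hyp S ht₀S))
  have hJH : ¬ J ≤ H := by
    intro h
    apply hg
    have h1 : g⁻¹ ∈ H := by
      apply mem_normalizer_of_invol hyp S ht₀ ht₀S
      rw [inv_inv]
      exact h ht'
    have := inv_mem h1
    rwa [inv_inv] at this
  obtain ⟨-, ihC⟩ := ih J hJtop hSJ hJH
  have ht'2 : orderOf (g * t₀ * g⁻¹) = 2 := by rw [conj_orderOf]; exact ht₀
  -- `g⁻¹ R g ≤ R`
  have hconj : ∀ r ∈ R, g⁻¹ * r * g ∈ R := by
    intro r hr
    obtain ⟨hrM, hrodd⟩ := (mem_R_iff hyp S hnc).mp hr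
    have hc := ihC r hrM (hMJ hrM) hrodd _ ht' ht'2
    rw [mem_R_iff hyp S hnc]
    refine ⟨?_, by rw [conj_orderOf']; exact hrodd⟩
    apply mem_cent_of_commute_invol hyp S ht₀ ht₀S
    calc g⁻¹ * r * g * t₀ = g⁻¹ * (r * (g * t₀ * g⁻¹)) * g := by group
      _ = g⁻¹ * ((g * t₀ * g⁻¹) * r) * g := by rw [hc]
      _ = t₀ * (g⁻¹ * r * g) := by group
  have hgN : g ∈ Subgroup.normalizer (R : Set G) := by
    have h1 : g⁻¹ ∈ Subgroup.normalizer (R : Set G) := by
      apply CIT.mem_normalizer_of_forall_conj_mem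
      intro r hr
      have := hconj r hr
      rwa [inv_inv]
    have := inv_mem h1
    rwa [inv_inv] at this
  set J' := Subgroup.normalizer (R : Set G) with hJ'
  have hHJ' : H ≤ J' := by
    intro h hh
    rw [hJ', mem_normalizer_iff_cj]
    exact cj_R S hh
  have hJ'H : ¬ J' ≤ H := fun h => hg (h hgN)
  by_cases hJ'top : J' = ⊤
  · apply hQ
    have hRbot : R = ⊥ := hcore R (Subgroup.normalizer_eq_top_iff.mp hJ'top) (R_le_normalizer S)
    rw [hQdef, hRbot, bot_inf_eq]
  · obtain ⟨ihT, -⟩ := ih J' hJ'top (Subgroup.le_normalizer.trans hHJ') hJ'H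
    exact maximal_false hyp S hnc hnn J' hHJ' hJ'top hJ'H ihT

include hyp hnc hnn hcore ih in
/-- centralizers of nonidentity elements of `R` lie in `H` -/
theorem mem_normalizer_of_commute {c x : G} (hc : c ∈ R) (hc1 : c ≠ 1) (hx : x * c = c * x) :
    x ∈ H := by
  by_contra hxH
  have h1 := R_inf_cj hyp S hnc hnn hcore ih hxH
  have h2 : c ∈ R ⊓ cj x R := by
    refine Subgroup.mem_inf.mpr ⟨hc, ?_⟩
    rw [mem_cj_iff]
    have e : x⁻¹ * c * x = c := by
      calc x⁻¹ * c * x = x⁻¹ * (c * x) := by group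
        _ = x⁻¹ * (x * c) := by rw [hx]
        _ = c := by group
    rw [e]; exact hc
  rw [h1, Subgroup.mem_bot] at h2
  exact hc1 h2

variable {u : G} (hu : orderOf u = 2)
  (huH : u ∉ Subgroup.normalizer ((S : Subgroup G) : Set G))

include hyp hnc hnn hcore ih hu huH in
/-- `R` acts semiregularly off the base point -/
theorem eq_one_of_mem_R_of_fix {b : G} (hb : b ∈ R) (hbu : b ∈ cj u H) : b = 1 := by
  have hSE := stronglyEmbedded hyp S hnc hnn
  have huinv := inv_eq_self_of_orderOf_two hu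
  have huu := mul_self_of_orderOf_two hu
  have hTI := R_inf_cj hyp S hnc hnn hcore ih huH
  have hbH : b ∈ H := R_le_normalizer S hb
  set b' := u * b * u⁻¹ with hb'
  have hb'H : b' ∈ H := by
    rw [mem_cj_iff] at hbu
    rw [hb', huinv]
    rw [huinv] at hbu
    exact hbu
  have hb'R : b' ∈ cj u R := conj_mem_cj _ u b hb
  have hub' : u * b' * u⁻¹ = b := by
    rw [hb', huinv]
    calc u * (u * b * u) * u = (u * u) * b * (u * u) := by group
      _ = b := by rw [huu, one_mul, mul_one]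
  -- `b` and `b'` commute
  have hcomm : b * b' = b' * b := by
    have h1 : b * b' * b⁻¹ * b'⁻¹ ∈ R := by
      have h2 : b' * b⁻¹ * b'⁻¹ ∈ R := by
        have := cj_R S hb'H
        rw [← this]
        exact conj_mem_cj _ b' b⁻¹ (inv_mem hb)
      have e : b * b' * b⁻¹ * b'⁻¹ = b * (b' * b⁻¹ * b'⁻¹) := by group
      rw [e]
      exact mul_mem hb h2
    have h3 : b * b' * b⁻¹ * b'⁻¹ ∈ cj u R := by
      have h4 : b * b' * b⁻¹ ∈ cj u R := by
        rw [mem_cj_iff]
        have e : u⁻¹ * (b * b' * b⁻¹) * u = (u⁻¹ * b * u) * b * (u⁻¹ * b * u)⁻¹ := by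
          rw [hb']; group
        rw [e]
        have h5 : u⁻¹ * b * u ∈ H := by
          rw [mem_cj_iff] at hbu
          exact hbu
        have := cj_R S h5
        rw [← this]
        exact conj_mem_cj _ _ b hb
      exact mul_mem h4 (inv_mem hb'R)
    have h6 : b * b' * b⁻¹ * b'⁻¹ ∈ R ⊓ cj u R := Subgroup.mem_inf.mpr ⟨h1, h3⟩
    rw [hTI, Subgroup.mem_bot] at h6
    calc b * b' = (b * b' * b⁻¹ * b'⁻¹) * b' * b := by group
      _ = b' * b := by rw [h6, one_mul]
  have hfin : b' = b → b = 1 := by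
    intro h
    have h7 : b ∈ R ⊓ cj u R := Subgroup.mem_inf.mpr ⟨hb, h ▸ hb'R⟩
    rw [hTI, Subgroup.mem_bot] at h7
    exact h7
  obtain ⟨c, hc⟩ : ∃ c, c = b * b' := ⟨_, rfl⟩
  have hcu : u * c * u⁻¹ = c := by
    rw [hc]
    calc u * (b * b') * u⁻¹ = (u * b * u⁻¹) * (u * b' * u⁻¹) := by group
      _ = b' * b := by rw [hub']
      _ = b * b' := hcomm.symm
  by_cases hc1 : c = 1
  · -- `b' = b⁻¹`
    have h8 : b' = b⁻¹ := by
      calc b' = b⁻¹ * (b * b') := by group
        _ = b⁻¹ := by rw [← hc, hc1, mul_one]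
    have h9 : b⁻¹ ∈ R ⊓ cj u R := Subgroup.mem_inf.mpr ⟨inv_mem hb, h8 ▸ hb'R⟩
    rw [hTI, Subgroup.mem_bot] at h9
    exact inv_eq_one.mp h9
  · -- the point fixed by `u`
    obtain ⟨t, htS, ht⟩ := exists_invol hyp S hnc
    obtain ⟨g, hg⟩ := isConj_iff.mp (isConj_of_invol hSE ht hu)
    have hgH : g ∉ H := by
      intro h
      apply huH
      rw [← hg]
      exact mul_mem (mul_mem h (Subgroup.le_normalizer htS)) (inv_mem h)
    obtain ⟨hbM, hbodd⟩ := (mem_R_iff hyp S hnc).mp hb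
    have hb'odd : Odd (orderOf b') := by rw [hb', conj_orderOf]; exact hbodd
    have hcodd : Odd (orderOf c) := by
      have hcm : Commute b b' := hcomm
      rw [hc]
      exact (hbodd.mul hb'odd).of_dvd_nat hcm.orderOf_mul_dvd_mul_orderOf
    -- `c₁ = g⁻¹ c g ∈ R`
    have hc₁ : g⁻¹ * c * g ∈ R := by
      rw [mem_R_iff hyp S hnc]
      refine ⟨?_, by rw [conj_orderOf']; exact hcodd⟩
      apply mem_cent_of_commute_invol hyp S ht htS
      have e1 : t = g⁻¹ * u * g := by rw [← hg]; group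
      have hcu' : c * u = u * c := by
        calc c * u = (u * c * u⁻¹) * u := by rw [hcu]
          _ = u * c := by group
      calc g⁻¹ * c * g * t = g⁻¹ * c * g * (g⁻¹ * u * g) := by rw [← e1]
        _ = g⁻¹ * (c * u) * g := by group
        _ = g⁻¹ * (u * c) * g := by rw [hcu']
        _ = (g⁻¹ * u * g) * (g⁻¹ * c * g) := by group
        _ = t * (g⁻¹ * c * g) := by rw [← e1]
    have hc₁1 : g⁻¹ * c * g ≠ 1 := by
      intro h
      apply hc1
      calc c = g * (g⁻¹ * c * g) * g⁻¹ := by group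
        _ = 1 := by rw [h]; group
    have hbc : b * c = c * b := by
      rw [hc]
      calc b * (b * b') = b * (b' * b) := by rw [hcomm]
        _ = b * b' * b := by group
    have hb₁ : g⁻¹ * b * g ∈ H := by
      apply mem_normalizer_of_commute hyp S hnc hnn hcore ih hc₁ hc₁1
      calc g⁻¹ * b * g * (g⁻¹ * c * g) = g⁻¹ * (b * c) * g := by group
        _ = g⁻¹ * (c * b) * g := by rw [hbc]
        _ = g⁻¹ * c * g * (g⁻¹ * b * g) := by group
    -- `w₁ = t * (b₁ t b₁⁻¹) ∈ S`
    set b₁ := g⁻¹ * b * g with hb₁def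
    have ht'' : b₁ * t * b₁⁻¹ ∈ (S : Subgroup G) :=
      (Subgroup.mem_normalizer_iff.mp hb₁ t).mp htS
    have hw₁S : t * (b₁ * t * b₁⁻¹) ∈ (S : Subgroup G) := mul_mem htS ht''
    have hw : g * (t * (b₁ * t * b₁⁻¹)) * g⁻¹ = b' * b⁻¹ := by
      have e1 : g * (t * (b₁ * t * b₁⁻¹)) * g⁻¹ =
          (g * t * g⁻¹) * b * (g * t * g⁻¹) * b⁻¹ := by
        rw [hb₁def]; group
      rw [e1, hg, hb']
      nth_rewrite 2 [← huinv]
      group
    have hwH : g * (t * (b₁ * t * b₁⁻¹)) * g⁻¹ ∈ H := by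
      rw [hw]
      exact mul_mem hb'H (inv_mem hbH)
    have hw₁ : t * (b₁ * t * b₁⁻¹) = 1 := by
      by_contra hne
      apply hgH
      have h1 : g⁻¹ ∈ H := by
        apply mem_normalizer_of_sylow_conj_mem hyp S hnc hw₁S hne
        rw [inv_inv]
        exact hwH
      have := inv_mem h1
      rwa [inv_inv] at this
    apply hfin
    rw [hw₁, mul_one, mul_inv_cancel] at hw
    calc b' = (b' * b⁻¹) * b := by group
      _ = b := by rw [← hw, one_mul]

include hyp hnc hnn hcore ih huH in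
/-- the two-point stabilizer meets `C(S)` trivially -/
theorem inter_cent (hu : orderOf u = 2) : (H ⊓ cj u H) ⊓ M = ⊥ := by
  rw [eq_bot_iff]
  intro x hx
  rw [Subgroup.mem_bot]
  have hxR := inter_cent_le hyp S hnc hnn huH hx
  rw [Subgroup.mem_inf, Subgroup.mem_inf] at hx
  exact eq_one_of_mem_R_of_fix hyp S hnc hnn hcore ih hu huH hxR hx.1.2

end main

end Cfsg.Agent.Helper2.AbInv
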