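import Mathlib
import Cfsg.Agent.Helper2.AbInvF

/-!
# Groups in which the centralizers of involutions are abelian: the core-free case,
the two-point stabilizer is abelian, inverted, and fixes exactly two points
-/

set_option autoImplicit false
set_option linter.style.haveILetI false

namespace Cfsg.Agent.Helper2.AbInv

open Cfsg Cfsg.Agent.Helper2

universe u

variable {G : Type u} [Group G] [Finite G]

section main

variable (hyp : Hyp G) (S : Sylow 2 G) (hnc : ¬ IsCyclic (S : Subgroup G))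
  (hnn : ¬ (S : Subgroup G).Normal) (hcore : CoreFree S) (ih : IHyp S)
  {u : G} (hu : orderOf u = 2)
  (huH : u ∉ Subgroup.normalizer ((S : Subgroup G) : Set G))

local notation "M" => Subgroup.centralizer ((S : Subgroup G) : Set G)
local notation "H" => Subgroup.normalizer ((S : Subgroup G) : Set G)
local notation "R" => oddPart (Subgroup.centralizer ((S : Subgroup G) : Set G))

include hyp hnc hnn hcore ih hu huH in
theorem card_inter :
    Nat.card ↥(H ⊓ cj u H) = Nat.card {s : G // orderOf s = 2 ∧ s ∈ H} := by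
  obtain ⟨t, htS, ht⟩ := exists_invol hyp S hnc
  have htN : t ∈ H := Subgroup.le_normalizer htS
  let f : ↥(H ⊓ cj u H) → {s : G // orderOf s = 2 ∧ s ∈ H} :=
    fun d => ⟨d.1 * t * d.1⁻¹, by rw [conj_orderOf]; exact ht,
      mul_mem (mul_mem (Subgroup.mem_inf.mp d.2).1 htN) (inv_mem (Subgroup.mem_inf.mp d.2).1)⟩
  apply Nat.card_eq_of_bijective f
  constructor
  · intro d d' h
    have h1 : d.1 * t * d.1⁻¹ = d'.1 * t * d'.1⁻¹ := congrArg Subtype.val h
    have h2 : d'.1⁻¹ * d.1 ∈ M := by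
      apply mem_cent_of_commute_invol hyp S ht htS
      calc d'.1⁻¹ * d.1 * t = d'.1⁻¹ * (d.1 * t * d.1⁻¹) * d.1 := by group
        _ = d'.1⁻¹ * (d'.1 * t * d'.1⁻¹) * d.1 := by rw [h1]
        _ = t * (d'.1⁻¹ * d.1) := by group
    have h3 : d'.1⁻¹ * d.1 ∈ (H ⊓ cj u H) ⊓ M :=
      Subgroup.mem_inf.mpr ⟨mul_mem (inv_mem d'.2) d.2, h2⟩
    rw [inter_cent hyp S hnc hnn hcore ih huH hu, Subgroup.mem_bot] at h3
    apply Subtype.ext
    calc d.1 = d'.1 * (d'.1⁻¹ * d.1) := by group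
      _ = d'.1 := by rw [h3, mul_one]
  · rintro ⟨s, hs2, hsN⟩
    obtain ⟨d, hd, hdt⟩ := exists_conj_invol hyp S hnc hnn hu huH ht htS hs2
      (invol_mem_sylow S hs2 hsN)
    exact ⟨⟨d, hd⟩, Subtype.ext hdt⟩

include hyp hnc hnn hcore ih hu huH in
/-- `u` inverts the two-point stabilizer -/
theorem inverts_inter : ∀ d ∈ H ⊓ cj u H, u * d * u⁻¹ = d⁻¹ := by
  have hSE := stronglyEmbedded hyp S hnc hnn
  have huu := mul_self_of_orderOf_two hu
  have huinv := inv_eq_self_of_orderOf_two hu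
  have hxy : ((1 : G) : G ⧸ H) ≠ ((u : G) : G ⧸ H) := (coset_ne_one_iff.mpr huH).symm
  have hcard := card_invol_swap hSE _ _ hxy
  rw [← card_inter hyp S hnc hnn hcore ih hu huH] at hcard
  have hux : u • ((1 : G) : G ⧸ H) = ((u : G) : G ⧸ H) := smul_coset_one u
  have huy : u • ((u : G) : G ⧸ H) = ((1 : G) : G ⧸ H) := by
    rw [MulAction.Quotient.smul_coe, smul_eq_mul, huu]
  let Θ : {i : G // orderOf i = 2 ∧ i • ((1 : G) : G ⧸ H) = ((u : G) : G ⧸ H)} →
      ↥(H ⊓ cj u H) :=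
    fun i => ⟨u * i.1, by
      have hii := mul_self_of_orderOf_two i.2.1
      have h0 : i.1 • ((1 : G) : G ⧸ H) = ((u : G) : G ⧸ H) := i.2.2
      have hiy : i.1 • ((u : G) : G ⧸ H) = ((1 : G) : G ⧸ H) := by
        calc i.1 • ((u : G) : G ⧸ H) = i.1 • (i.1 • ((1 : G) : G ⧸ H)) := congrArg _ h0.symm
          _ = ((1 : G) : G ⧸ H) := by rw [← mul_smul, hii, one_smul]
      apply mem_inter_of_fix S
      · rw [mul_smul, h0, huy]
      · rw [mul_smul, hiy, hux]⟩
  have hinj : Function.Injective Θ := by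
    intro i j h
    have := congrArg Subtype.val h
    exact Subtype.ext (mul_left_cancel this)
  have hbij := hinj.bijective_of_nat_card_le hcard.symm.le
  intro d hd
  obtain ⟨i, hi⟩ := hbij.2 ⟨d, hd⟩
  have hid : u * i.1 = d := congrArg Subtype.val hi
  have hii := mul_self_of_orderOf_two i.2.1
  have hi' : i.1 = u * d := by rw [← hid, ← mul_assoc, huu, one_mul]
  rw [hi'] at hii
  rw [huinv]
  apply eq_inv_of_mul_eq_one_left
  calc u * d * u * d = u * d * (u * d) := by group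
    _ = 1 := hii

include hyp hnc hnn hcore ih hu huH in
theorem inter_comm {a b : G} (ha : a ∈ H ⊓ cj u H) (hb : b ∈ H ⊓ cj u H) : a * b = b * a := by
  have hinv := inverts_inter hyp S hnc hnn hcore ih hu huH
  have h1 := hinv (a * b) (mul_mem ha hb)
  have h2 := hinv a ha
  have h3 := hinv b hb
  have h4 : u * (a * b) * u⁻¹ = (u * a * u⁻¹) * (u * b * u⁻¹) := by group
  rw [h1, h2, h3, mul_inv_rev] at h4
  have := congrArg (fun x => x⁻¹) h4
  simpa using this

include hyp hnc hnn hcore ih hu huH in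
theorem exists_ne_one_inter : ∃ d ∈ H ⊓ cj u H, d ≠ 1 := by
  have hcard := card_inter hyp S hnc hnn hcore ih hu huH
  obtain ⟨s, t, hsS, htS, hs2, ht2, hst⟩ := exists_two_invol hyp S hnc
  by_contra hcon
  push Not at hcon
  have hbot : H ⊓ cj u H = ⊥ := by
    rw [eq_bot_iff]; intro x hx; rw [Subgroup.mem_bot]; exact hcon x hx
  rw [hbot, Subgroup.card_bot] at hcard
  have hsub : Subsingleton {s : G // orderOf s = 2 ∧ s ∈ H} :=
    (Nat.card_eq_one_iff_unique.mp hcard.symm).1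
  have := Subsingleton.elim (⟨s, hs2, Subgroup.le_normalizer hsS⟩ :
    {s : G // orderOf s = 2 ∧ s ∈ H}) ⟨t, ht2, Subgroup.le_normalizer htS⟩
  exact hst (congrArg Subtype.val this)

include hyp hnc hnn huH in
/-- an element of `S` inverting an element of the two-point stabilizer -/
theorem eq_one_of_sylow_inverts {d s : G} (hd : d ∈ H ⊓ cj u H) (hs : s ∈ (S : Subgroup G))
    (hinv : s * d * s⁻¹ = d⁻¹) : d = 1 := by
  have hodd := odd_orderOf_of_mem_inter hyp S hnc hnn huH hd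
  have hdH : d ∈ H := (Subgroup.mem_inf.mp hd).1
  have h1 : d * s * d⁻¹ ∈ (S : Subgroup G) := (Subgroup.mem_normalizer_iff.mp hdH s).mp hs
  have h2 : d * d ∈ (S : Subgroup G) := by
    have e : d * d = (d * s * d⁻¹) * s⁻¹ := by
      calc d * d = d * (d⁻¹)⁻¹ := by rw [inv_inv]
        _ = d * (s * d * s⁻¹)⁻¹ := by rw [hinv]
        _ = (d * s * d⁻¹) * s⁻¹ := by group
    rw [e]
    exact mul_mem h1 (inv_mem hs)
  obtain ⟨k, hk⟩ := orderOf_sylow S h2
  have hodd2 : Odd (orderOf (d * d)) := by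
    have : d * d = d ^ 2 := (pow_two d).symm
    rw [this]
    exact hodd.of_dvd_nat (orderOf_pow_dvd 2)
  have h3 : d * d = 1 := eq_one_of_odd_of_two_pow hodd2 hk
  exact eq_one_of_odd_of_mul_self hodd h3

include hyp hnc hnn hcore ih hu huH in
/-- no involution centralizes a nonidentity element of the two-point stabilizer -/
theorem not_invol_centralizes {d v : G} (hd : d ∈ H ⊓ cj u H) (hd1 : d ≠ 1) (hv : orderOf v = 2)
    (hvD : v * d = d * v) : False := by
  have hinv := inverts_inter hyp S hnc hnn hcore ih hu huH d hd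
  have hodd := odd_orderOf_of_mem_inter hyp S hnc hnn huH hd
  apply not_commute_invol_of_inverted hyp hu hinv _ hv hvD
  intro h
  exact hd1 (eq_one_of_odd_of_mul_self hodd h)

include hyp hnc hnn hcore ih hu huH in
/-- elements centralizing a nonidentity element of the two-point stabilizer have odd order -/
theorem odd_orderOf_of_centralizes {d z : G} (hd : d ∈ H ⊓ cj u H) (hd1 : d ≠ 1)
    (hz : z * d = d * z) : Odd (orderOf z) := by
  rw [← Nat.not_even_iff_odd]
  intro heven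
  obtain ⟨j, hj⟩ := heven
  have hpos : 0 < orderOf z := orderOf_pos z
  have h2 : orderOf z = j * 2 := by omega
  have hj0 : j ≠ 0 := by rintro rfl; omega
  have ho : orderOf (z ^ j) = 2 := by
    rw [orderOf_pow' z hj0, h2, Nat.gcd_eq_right (Dvd.intro _ rfl),
      Nat.mul_div_cancel_left _ (Nat.pos_of_ne_zero hj0)]
  apply not_invol_centralizes hyp S hnc hnn hcore ih hu huH hd hd1 ho
  have : Commute z d := hz
  exact (this.pow_left j).eq

include hyp hnc hnn hcore ih hu huH in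
/-- an element centralizing a nonidentity element of the two-point stabilizer and `u` is
trivial -/
theorem eq_one_of_centralizes_of_commute {d z : G} (hd : d ∈ H ⊓ cj u H) (hd1 : d ≠ 1)
    (hz : z * d = d * z) (hzu : z * u = u * z) : z = 1 := by
  by_contra hz1
  have hSE := stronglyEmbedded hyp S hnc hnn
  obtain ⟨t, htS, ht⟩ := exists_invol hyp S hnc
  obtain ⟨g, hg⟩ := isConj_iff.mp (isConj_of_invol hSE ht hu)
  have et : t = g⁻¹ * u * g := by rw [← hg]; group
  have hzodd := odd_orderOf_of_centralizes hyp S hnc hnn hcore ih hu huH hd hd1 hz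
  have hz₁ : g⁻¹ * z * g ∈ R := by
    rw [mem_R_iff hyp S hnc]
    refine ⟨?_, by rw [conj_orderOf']; exact hzodd⟩
    apply mem_cent_of_commute_invol hyp S ht htS
    calc g⁻¹ * z * g * t = g⁻¹ * z * g * (g⁻¹ * u * g) := by rw [← et]
      _ = g⁻¹ * (z * u) * g := by group
      _ = g⁻¹ * (u * z) * g := by rw [hzu]
      _ = (g⁻¹ * u * g) * (g⁻¹ * z * g) := by group
      _ = t * (g⁻¹ * z * g) := by rw [← et]
  have hz₁1 : g⁻¹ * z * g ≠ 1 := by
    intro h
    apply hz1
    calc z = g * (g⁻¹ * z * g) * g⁻¹ := by group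
      _ = 1 := by rw [h]; group
  have hd₁ : g⁻¹ * d * g ∈ H := by
    apply mem_normalizer_of_commute hyp S hnc hnn hcore ih hz₁ hz₁1
    calc g⁻¹ * d * g * (g⁻¹ * z * g) = g⁻¹ * (d * z) * g := by group
      _ = g⁻¹ * (z * d) * g := by rw [hz]
      _ = g⁻¹ * z * g * (g⁻¹ * d * g) := by group
  have hinv := inverts_inter hyp S hnc hnn hcore ih hu huH d hd
  have hodd := odd_orderOf_of_mem_inter hyp S hnc hnn huH hd
  -- `t` inverts `d₁ ∈ H`
  set d₁ := g⁻¹ * d * g with hd₁def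
  have hinv₁ : t * d₁ * t⁻¹ = d₁⁻¹ := by
    rw [et, hd₁def]
    calc g⁻¹ * u * g * (g⁻¹ * d * g) * (g⁻¹ * u * g)⁻¹ = g⁻¹ * (u * d * u⁻¹) * g := by group
      _ = g⁻¹ * d⁻¹ * g := by rw [hinv]
      _ = (g⁻¹ * d * g)⁻¹ := by group
  have h1 : d₁ * t * d₁⁻¹ ∈ (S : Subgroup G) := (Subgroup.mem_normalizer_iff.mp hd₁ t).mp htS
  have h2 : d₁ * d₁ ∈ (S : Subgroup G) := by
    have e : d₁ * d₁ = (d₁ * t * d₁⁻¹) * t⁻¹ := by
      calc d₁ * d₁ = d₁ * (d₁⁻¹)⁻¹ := by rw [inv_inv]
        _ = d₁ * (t * d₁ * t⁻¹)⁻¹ := by rw [hinv₁]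
        _ = (d₁ * t * d₁⁻¹) * t⁻¹ := by group
    rw [e]
    exact mul_mem h1 (inv_mem htS)
  have hodd₁ : Odd (orderOf d₁) := by rw [hd₁def, conj_orderOf']; exact hodd
  obtain ⟨k, hk⟩ := orderOf_sylow S h2
  have hodd2 : Odd (orderOf (d₁ * d₁)) := by
    have : d₁ * d₁ = d₁ ^ 2 := (pow_two d₁).symm
    rw [this]
    exact hodd₁.of_dvd_nat (orderOf_pow_dvd 2)
  have h3 : d₁ * d₁ = 1 := eq_one_of_odd_of_two_pow hodd2 hk
  have h4 : d₁ = 1 := eq_one_of_odd_of_mul_self hodd₁ h3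
  apply hd1
  calc d = g * d₁ * g⁻¹ := by rw [hd₁def]; group
    _ = 1 := by rw [h4]; group

include hyp hnc hnn hcore ih hu huH in
/-- `u` inverts the centralizer of a nonidentity element of the two-point stabilizer -/
theorem centralizer_inverted {d z : G} (hd : d ∈ H ⊓ cj u H) (hd1 : d ≠ 1)
    (hz : z * d = d * z) : u * z * u⁻¹ = z⁻¹ := by
  have huu := mul_self_of_orderOf_two hu
  have huinv := inv_eq_self_of_orderOf_two hu
  have h2 := inverts_inter hyp S hnc hnn hcore ih hu huH d hd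
  set Z := Subgroup.centralizer ({d} : Set G) with hZ
  have hmemZ : ∀ x : G, x ∈ Z ↔ x * d = d * x := by
    intro x
    rw [hZ, Subgroup.mem_centralizer_singleton_iff]
  have e1 : d = u * d⁻¹ * u⁻¹ := by
    have e0 : d = u⁻¹ * (u * d * u⁻¹) * u := by group
    rw [h2] at e0
    have e3 : u⁻¹ * d⁻¹ * u = u * d⁻¹ * u⁻¹ := by rw [huinv]
    rw [e3] at e0
    exact e0
  -- `u` normalizes `Z`
  have huZ : ∀ x ∈ Z, u * x * u⁻¹ ∈ Z := by
    intro x hx
    rw [hmemZ] at hx ⊢
    have h1 : x * d⁻¹ = d⁻¹ * x := by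
      have : Commute x d := hx
      exact this.inv_right.eq
    calc u * x * u⁻¹ * d = u * x * u⁻¹ * (u * d⁻¹ * u⁻¹) := by rw [← e1]
      _ = u * (x * d⁻¹) * u⁻¹ := by group
      _ = u * (d⁻¹ * x) * u⁻¹ := by rw [h1]
      _ = (u * d⁻¹ * u⁻¹) * (u * x * u⁻¹) := by group
      _ = d * (u * x * u⁻¹) := by rw [← e1]
  let ψ : ↥Z → ↥Z := fun x => ⟨x.1⁻¹ * (u * x.1 * u⁻¹), mul_mem (inv_mem x.2) (huZ x.1 x.2)⟩
  have hinj : Function.Injective ψ := by
    intro x y h
    have h1 : x.1⁻¹ * (u * x.1 * u⁻¹) = y.1⁻¹ * (u * y.1 * u⁻¹) := congrArg Subtype.val h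
    have hw : x.1 * y.1⁻¹ ∈ Z := mul_mem x.2 (inv_mem y.2)
    have hcomm : (x.1 * y.1⁻¹) * u = u * (x.1 * y.1⁻¹) := by
      have e2 : u * (x.1 * y.1⁻¹) * u⁻¹ = x.1 * y.1⁻¹ := by
        calc u * (x.1 * y.1⁻¹) * u⁻¹ = x.1 * (x.1⁻¹ * (u * x.1 * u⁻¹)) *
              (y.1⁻¹ * (u * y.1 * u⁻¹))⁻¹ * y.1⁻¹ := by group
          _ = x.1 * y.1⁻¹ := by rw [h1]; group
      calc (x.1 * y.1⁻¹) * u = (u * (x.1 * y.1⁻¹) * u⁻¹) * u := by rw [e2]
        _ = u * (x.1 * y.1⁻¹) := by group
    have h3 := eq_one_of_centralizes_of_commute hyp S hnc hnn hcore ih hu huH hd hd1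
      ((hmemZ _).mp hw) hcomm
    apply Subtype.ext
    calc x.1 = (x.1 * y.1⁻¹) * y.1 := by group
      _ = y.1 := by rw [h3, one_mul]
  have hzZ : z ∈ Z := (hmemZ z).mpr hz
  obtain ⟨y, hy⟩ := (Finite.injective_iff_surjective.mp hinj) ⟨z, hzZ⟩
  have hy' : y.1⁻¹ * (u * y.1 * u⁻¹) = z := congrArg Subtype.val hy
  rw [← hy', huinv]
  calc u * (y.1⁻¹ * (u * y.1 * u)) * u = (u * y.1⁻¹ * u) * y.1 * (u * u) := by group
    _ = (u * y.1⁻¹ * u) * y.1 := by rw [huu, mul_one]
    _ = (y.1⁻¹ * (u * y.1 * u))⁻¹ := by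
      rw [mul_inv_rev, mul_inv_rev, mul_inv_rev, inv_inv, huinv]; group

include hyp hnc hnn hcore ih hu huH in
/-- the two-point stabilizer acts fixed-point-freely on `C(S)` -/
theorem eq_one_of_cent_of_commute {d a : G} (hd : d ∈ H ⊓ cj u H) (hd1 : d ≠ 1)
    (ha : a ∈ M) (had : a * d = d * a) : a = 1 := by
  have hinv := centralizer_inverted hyp S hnc hnn hcore ih hu huH hd hd1 had
  by_cases haR : a ∈ R
  · exact eq_one_of_inverted hyp S hnc haR hu hinv
  · exfalso
    obtain ⟨k, hk2, hkS⟩ := exists_pow_invol_of_not_mem hyp S hnc ha haR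
    apply not_invol_centralizes hyp S hnc hnn hcore ih hu huH hd hd1 hk2
    have : Commute a d := had
    exact (this.pow_left k).eq

include hyp hnc hnn hcore ih hu huH in
/-- a nonidentity element of the two-point stabilizer fixes exactly two points -/
theorem fix_two {d g : G} (hd : d ∈ H ⊓ cj u H) (hd1 : d ≠ 1)
    (hfix : d • ((g : G) : G ⧸ H) = ((g : G) : G ⧸ H)) :
    ((g : G) : G ⧸ H) = ((1 : G) : G ⧸ H) ∨ ((g : G) : G ⧸ H) = ((u : G) : G ⧸ H) := by
  have hSE := stronglyEmbedded hyp S hnc hnn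
  have huu := mul_self_of_orderOf_two hu
  have huinv := inv_eq_self_of_orderOf_two hu
  have hinvu := inverts_inter hyp S hnc hnn hcore ih hu huH d hd
  -- a fixed point `y ≠ pt` of `d` is `c • (u • pt)` with `c` centralizing `d`
  have key : ∀ y : G ⧸ H, y ≠ ((1 : G) : G ⧸ H) → d • y = y →
      ∃ c : G, c * d = d * c ∧ y = c • ((u : G) : G ⧸ H) := by
    intro y hy hdy
    obtain ⟨v, hv, hvH, hvy⟩ := exists_invol_map_of_SE hSE hy
    have hvv := mul_self_of_orderOf_two hv
    have hvinv := inv_eq_self_of_orderOf_two hv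
    have hdv : d ∈ H ⊓ cj v H := by
      refine mem_inter_of_fix S (smul_one_coset_iff.mpr (Subgroup.mem_inf.mp hd).1) ?_
      rw [hvy]; exact hdy
    have hinvv := inverts_inter hyp S hnc hnn hcore ih hv hvH d hdv
    refine ⟨v * u, ?_, ?_⟩
    · -- `v u` centralizes `d`
      have e1 : u * d = d⁻¹ * u := by
        calc u * d = (u * d * u⁻¹) * u := by group
          _ = d⁻¹ * u := by rw [hinvu]
      have e2 : v * d⁻¹ = d * v := by
        have : v * d⁻¹ * v⁻¹ = d := by
          calc v * d⁻¹ * v⁻¹ = (v * d * v⁻¹)⁻¹ := by group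
            _ = d := by rw [hinvv, inv_inv]
        calc v * d⁻¹ = (v * d⁻¹ * v⁻¹) * v := by group
          _ = d * v := by rw [this]
      calc v * u * d = v * (u * d) := by group
        _ = v * (d⁻¹ * u) := by rw [e1]
        _ = (v * d⁻¹) * u := by group
        _ = d * v * u := by rw [e2]
        _ = d * (v * u) := by group
    · rw [← hvy, MulAction.Quotient.smul_coe, smul_eq_mul, mul_assoc, huu, mul_one]
  by_contra hcon
  push Not at hcon
  obtain ⟨hg1, hgu⟩ := hcon
  obtain ⟨c, hc, hyc⟩ := key _ hg1 hfix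
  -- the point `u • y`
  have huy1 : u • ((g : G) : G ⧸ H) ≠ ((1 : G) : G ⧸ H) := by
    intro h
    apply hgu
    have : ((g : G) : G ⧸ H) = u • ((1 : G) : G ⧸ H) := by
      rw [← h, ← mul_smul, huu, one_smul]
    rw [this, smul_coset_one]
  have hduy : d • (u • ((g : G) : G ⧸ H)) = u • ((g : G) : G ⧸ H) := by
    have e : d * u = u * d⁻¹ := by
      have e0 : d = u⁻¹ * (u * d * u⁻¹) * u := by group
      rw [hinvu, huinv] at e0
      calc d * u = (u * d⁻¹ * u) * u := by rw [← e0]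
        _ = u * d⁻¹ * (u * u) := by group
        _ = u * d⁻¹ := by rw [huu, mul_one]
    have hdinv : d⁻¹ • ((g : G) : G ⧸ H) = ((g : G) : G ⧸ H) := by
      rw [inv_smul_eq_iff]; exact hfix.symm
    rw [← mul_smul, e, mul_smul, hdinv]
  obtain ⟨c', hc', hyc'⟩ := key _ huy1 hduy
  have hinvc' := centralizer_inverted hyp S hnc hnn hcore ih hu huH hd hd1 hc'
  -- `y = c'⁻¹ • pt`
  have hy2 : ((g : G) : G ⧸ H) = c'⁻¹ • ((1 : G) : G ⧸ H) := by
    have h1 : ((g : G) : G ⧸ H) = u • (c' • ((u : G) : G ⧸ H)) := by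
      rw [← hyc', ← mul_smul, huu, one_smul]
    rw [h1, ← smul_coset_one (K := H) u, ← mul_smul, ← mul_smul]
    congr 1
    calc u * c' * u = u * c' * u⁻¹ := by rw [huinv]
      _ = c'⁻¹ := hinvc'
  set z := c' * c with hzdef
  have hzd : z * d = d * z := by
    calc c' * c * d = c' * (c * d) := by group
      _ = c' * (d * c) := by rw [hc]
      _ = (c' * d) * c := by group
      _ = d * c' * c := by rw [hc']
      _ = d * (c' * c) := by group
  have hinvz := centralizer_inverted hyp S hnc hnn hcore ih hu huH hd hd1 hzd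
  have hzuH : z * u ∈ H := by
    rw [← smul_one_coset_iff (K := H), mul_smul, smul_coset_one, hzdef, mul_smul, ← hyc, hy2,
      ← mul_smul, mul_inv_cancel, one_smul]
  have hzu2 : (z * u) * (z * u) = 1 := by
    calc (z * u) * (z * u) = z * (u * z * u⁻¹) * (u * u) := by group
      _ = 1 := by rw [hinvz, huu]; group
  have hzu1 : z * u ≠ 1 := by
    intro h
    apply huH
    have : u = z⁻¹ := by
      calc u = z⁻¹ * (z * u) := by group
        _ = z⁻¹ := by rw [h, mul_one]
    -- then `u` commutes with `d`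
    have hud : u * d = d * u := by
      rw [this]
      have : Commute z d := hzd
      exact this.inv_left.eq
    exfalso
    exact not_invol_centralizes hyp S hnc hnn hcore ih hu huH hd hd1 hu hud
  have hzuo : orderOf (z * u) = 2 := orderOf_eq_prime (by rw [pow_two]; exact hzu2) hzu1
  have hzuS : z * u ∈ (S : Subgroup G) := invol_mem_sylow S hzuo hzuH
  apply hd1
  apply eq_one_of_sylow_inverts hyp S hnc hnn huH hd hzuS
  calc z * u * d * (z * u)⁻¹ = z * (u * d * u⁻¹) * z⁻¹ := by group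
    _ = z * d⁻¹ * z⁻¹ := by rw [hinvu]
    _ = d⁻¹ := by
      have : Commute z d := hzd
      have h2 : z * d⁻¹ = d⁻¹ * z := this.inv_right.eq
      rw [h2]; group

end main

end Cfsg.Agent.Helper2.AbInv
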