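import Mathlib
import Cfsg.Agent.Helper2.AbInvG

/-!
# Groups in which the centralizers of involutions are abelian: the core-free case,
`C(S)` is regular off the base point and the group is a Zassenhaus group
-/

set_option autoImplicit false
set_option linter.style.haveILetI false

namespace Cfsg.Agent.Helper2.AbInv

open Cfsg Cfsg.Agent.Helper2

universe u

variable {G : Type u} [Group G]

/-- an involution normalizing a subgroup and centralizing none of its nonidentity elements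
inverts it -/
theorem inverts_of_fpf [Finite G] (K : Subgroup G) {t : G} (htt : t * t = 1)
    (hK : ∀ x ∈ K, t * x * t⁻¹ ∈ K) (hfpf : ∀ x ∈ K, x * t = t * x → x = 1) :
    ∀ x ∈ K, t * x * t⁻¹ = x⁻¹ := by
  have htinv : t⁻¹ = t := inv_eq_of_mul_eq_one_left htt
  let ψ : ↥K → ↥K := fun x => ⟨x.1⁻¹ * (t * x.1 * t⁻¹), mul_mem (inv_mem x.2) (hK x.1 x.2)⟩
  have hinj : Function.Injective ψ := by
    intro x y h
    have h1 : x.1⁻¹ * (t * x.1 * t⁻¹) = y.1⁻¹ * (t * y.1 * t⁻¹) := congrArg Subtype.val h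
    have hw : x.1 * y.1⁻¹ ∈ K := mul_mem x.2 (inv_mem y.2)
    have hcomm : (x.1 * y.1⁻¹) * t = t * (x.1 * y.1⁻¹) := by
      have e2 : t * (x.1 * y.1⁻¹) * t⁻¹ = x.1 * y.1⁻¹ := by
        calc t * (x.1 * y.1⁻¹) * t⁻¹ = x.1 * (x.1⁻¹ * (t * x.1 * t⁻¹)) *
              (y.1⁻¹ * (t * y.1 * t⁻¹))⁻¹ * y.1⁻¹ := by group
          _ = x.1 * y.1⁻¹ := by rw [h1]; group
      calc (x.1 * y.1⁻¹) * t = (t * (x.1 * y.1⁻¹) * t⁻¹) * t := by rw [e2]
        _ = t * (x.1 * y.1⁻¹) := by group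
    have h3 := hfpf _ hw hcomm
    apply Subtype.ext
    calc x.1 = (x.1 * y.1⁻¹) * y.1 := by group
      _ = y.1 := by rw [h3, one_mul]
  intro z hz
  obtain ⟨y, hy⟩ := (Finite.injective_iff_surjective.mp hinj) ⟨z, hz⟩
  have hy' : y.1⁻¹ * (t * y.1 * t⁻¹) = z := congrArg Subtype.val hy
  rw [← hy', htinv]
  calc t * (y.1⁻¹ * (t * y.1 * t)) * t = (t * y.1⁻¹ * t) * y.1 * (t * t) := by group
    _ = (t * y.1⁻¹ * t) * y.1 := by rw [htt, mul_one]
    _ = (y.1⁻¹ * (t * y.1 * t))⁻¹ := by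
      rw [mul_inv_rev, mul_inv_rev, mul_inv_rev, inv_inv, htinv]; group

variable [Finite G]

section main

variable (hyp : Hyp G) (S : Sylow 2 G) (hnc : ¬ IsCyclic (S : Subgroup G))
  (hnn : ¬ (S : Subgroup G).Normal) (hcore : CoreFree S) (ih : IHyp S)
  {u : G} (hu : orderOf u = 2)
  (huH : u ∉ Subgroup.normalizer ((S : Subgroup G) : Set G))

local notation "M" => Subgroup.centralizer ((S : Subgroup G) : Set G)
local notation "H" => Subgroup.normalizer ((S : Subgroup G) : Set G)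
local notation "R" => oddPart (Subgroup.centralizer ((S : Subgroup G) : Set G))

include hyp hnc hnn hcore ih hu huH in
/-- `C(S)` is transitive off the base point: the case of the image of the base point under an
involution -/
theorem exists_cent_invol_coset_eq {v : G} (hv : orderOf v = 2)
    (hvH : v ∉ Subgroup.normalizer ((S : Subgroup G) : Set G)) :
    ∃ a ∈ M, ((a * v : G) : G ⧸ H) = ((u : G) : G ⧸ H) := by
  obtain ⟨d₀, hd₀, hd₀1⟩ := exists_ne_one_inter hyp S hnc hnn hcore ih hu huH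
  have hd₀H : d₀ ∈ H := (Subgroup.mem_inf.mp hd₀).1
  obtain ⟨d₂, hd₂, a₀, ha₀, hda⟩ := exists_mul_eq hyp S hnc hnn hv hvH hd₀H
  have hd₂H : d₂ ∈ H := (Subgroup.mem_inf.mp hd₂).1
  have hd₂1 : d₂ ≠ 1 := by
    intro h
    rw [h, one_mul] at hda
    have : d₀ ∈ (H ⊓ cj u H) ⊓ M := Subgroup.mem_inf.mpr ⟨hd₀, by rw [← hda]; exact ha₀⟩
    rw [inter_cent hyp S hnc hnn hcore ih huH hu, Subgroup.mem_bot] at this
    exact hd₀1 this
  have hcomm := cent_comm hyp S hnc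
  have hconj : ∀ a ∈ M, d₂⁻¹ * a * d₂ ∈ M := by
    intro a ha
    have : a ∈ cj d₂ M := by rw [cj_cent S hd₂H]; exact ha
    rwa [mem_cj_iff] at this
  let ψ : ↥M → ↥M := fun a => ⟨(d₂⁻¹ * a.1 * d₂) * a.1⁻¹, mul_mem (hconj a.1 a.2) (inv_mem a.2)⟩
  have hinj : Function.Injective ψ := by
    intro a b h
    have h1 : (d₂⁻¹ * a.1 * d₂) * a.1⁻¹ = (d₂⁻¹ * b.1 * d₂) * b.1⁻¹ := congrArg Subtype.val h
    have hw : b.1⁻¹ * a.1 ∈ M := mul_mem (inv_mem b.2) a.2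
    have h2 : (b.1⁻¹ * a.1) * d₂ = d₂ * (b.1⁻¹ * a.1) := by
      have e1 : d₂⁻¹ * (b.1⁻¹ * a.1) * d₂ = b.1⁻¹ * a.1 := by
        have e2 : d₂⁻¹ * (b.1⁻¹ * a.1) * d₂ = (d₂⁻¹ * b.1 * d₂)⁻¹ * (d₂⁻¹ * a.1 * d₂) := by group
        have e3 : d₂⁻¹ * a.1 * d₂ = (d₂⁻¹ * b.1 * d₂) * b.1⁻¹ * a.1 := by
          calc d₂⁻¹ * a.1 * d₂ = ((d₂⁻¹ * a.1 * d₂) * a.1⁻¹) * a.1 := by group
            _ = (d₂⁻¹ * b.1 * d₂) * b.1⁻¹ * a.1 := by rw [h1]
        rw [e2, e3]; group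
      calc (b.1⁻¹ * a.1) * d₂ = d₂ * (d₂⁻¹ * (b.1⁻¹ * a.1) * d₂) := by group
        _ = d₂ * (b.1⁻¹ * a.1) := by rw [e1]
    have h3 := eq_one_of_cent_of_commute hyp S hnc hnn hcore ih hv hvH hd₂ hd₂1 hw h2
    apply Subtype.ext
    calc a.1 = b.1 * (b.1⁻¹ * a.1) := by group
      _ = b.1 := by rw [h3, mul_one]
  obtain ⟨a, ha⟩ := (Finite.injective_iff_surjective.mp hinj) ⟨a₀, ha₀⟩
  have ha' : (d₂⁻¹ * a.1 * d₂) * a.1⁻¹ = a₀ := congrArg Subtype.val ha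
  -- `a⁻¹ d₀ a = d₂`
  have hkey : a.1⁻¹ * d₀ * a.1 = d₂ := by
    have e1 : (d₂⁻¹ * a.1 * d₂)⁻¹ * a₀ * a.1 = 1 := by
      rw [← ha']
      have := hcomm _ (hconj a.1 a.2) _ (inv_mem a.2)
      group
    calc a.1⁻¹ * d₀ * a.1 = a.1⁻¹ * (d₂ * a₀) * a.1 := by rw [hda]
      _ = d₂ * ((d₂⁻¹ * a.1 * d₂)⁻¹ * a₀ * a.1) := by group
      _ = d₂ := by rw [e1, mul_one]
  refine ⟨a.1, a.2, ?_⟩
  have hfix : d₀ • ((a.1 * v : G) : G ⧸ H) = ((a.1 * v : G) : G ⧸ H) := by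
    have e : d₀ = a.1 * d₂ * a.1⁻¹ := by rw [← hkey]; group
    have h1 : ((a.1 * v : G) : G ⧸ H) = a.1 • ((v : G) : G ⧸ H) := by
      rw [MulAction.Quotient.smul_coe, smul_eq_mul]
    rw [h1, e, ← mul_smul]
    have e2 : a.1 * d₂ * a.1⁻¹ * a.1 = a.1 * d₂ := by group
    rw [e2, mul_smul, smul_u_coset_of_mem S hd₂]
  rcases fix_two hyp S hnc hnn hcore ih hu huH hd₀ hd₀1 hfix with h | h
  · exfalso
    have : a.1 * v ∈ H := by
      by_contra hcon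
      exact (coset_ne_one_iff.mpr hcon) h
    apply hvH
    have h2 : v = a.1⁻¹ * (a.1 * v) := by group
    rw [h2]
    exact mul_mem (inv_mem (cent_le_normalizer S a.2)) this
  · exact h

include hyp hnc hnn hcore ih hu huH in
/-- `C(S)` is transitive off the base point -/
theorem exists_cent_coset_eq {g : G} (hg : g ∉ Subgroup.normalizer ((S : Subgroup G) : Set G)) :
    ∃ a ∈ M, ((a * g : G) : G ⧸ H) = ((u : G) : G ⧸ H) := by
  have hSE := stronglyEmbedded hyp S hnc hnn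
  obtain ⟨v, hv, hvH, hvg⟩ := exists_invol_map_of_SE hSE (coset_ne_one_iff.mpr hg)
  obtain ⟨a, ha, hav⟩ := exists_cent_invol_coset_eq hyp S hnc hnn hcore ih hu huH hv hvH
  refine ⟨a, ha, ?_⟩
  rw [← hav]
  have h1 : ((a * g : G) : G ⧸ H) = a • ((g : G) : G ⧸ H) := by
    rw [MulAction.Quotient.smul_coe, smul_eq_mul]
  have h2 : ((a * v : G) : G ⧸ H) = a • ((v : G) : G ⧸ H) := by
    rw [MulAction.Quotient.smul_coe, smul_eq_mul]
  rw [h1, h2, hvg]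

include hyp hnc hnn hcore ih in
/-- `C(S)` is semiregular off the base point -/
theorem eq_one_of_cent_of_fix {a g : G} (ha : a ∈ M)
    (hg : g ∉ Subgroup.normalizer ((S : Subgroup G) : Set G))
    (hfix : a • ((g : G) : G ⧸ H) = ((g : G) : G ⧸ H)) : a = 1 := by
  have hSE := stronglyEmbedded hyp S hnc hnn
  by_cases haR : a ∈ R
  · obtain ⟨v, hv, hvH, hvg⟩ := exists_invol_map_of_SE hSE (coset_ne_one_iff.mpr hg)
    rw [← hvg, smul_coset_eq_iff] at hfix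
    apply eq_one_of_mem_R_of_fix hyp S hnc hnn hcore ih hv hvH haR
    rw [mem_cj_iff]
    exact hfix
  · exfalso
    rw [smul_coset_eq_iff] at hfix
    exact hg (mem_normalizer_of_conj_mem hyp S hnc ha haR hfix)

end main

end Cfsg.Agent.Helper2.AbInv
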