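import Mathlib
import Cfsg.Agent.Helper2.AbInvH
import Cfsg.Agent.Helper2.FeitAbB
import Cfsg.Agent.Helper6.ZasChH
import Cfsg.Agent.Helper6.ZasChS

/-!
# Groups in which the centralizers of involutions are abelian: the core-free case,
Feit's bound and the conclusion
-/

set_option autoImplicit false
set_option linter.style.haveILetI false

namespace Cfsg.Agent.Helper2.AbInv

open Cfsg Cfsg.Agent.Helper2

universe u

variable {G : Type u} [Group G]

/-- the elements of square one of an abelian subgroup -/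
def sqKer (K : Subgroup G) (hK : ∀ a ∈ K, ∀ b ∈ K, a * b = b * a) : Subgroup G where
  carrier := {a | a ∈ K ∧ a * a = 1}
  one_mem' := ⟨K.one_mem, one_mul 1⟩
  mul_mem' := by
    rintro a b ⟨ha, ha2⟩ ⟨hb, hb2⟩
    refine ⟨mul_mem ha hb, ?_⟩
    calc a * b * (a * b) = a * (b * a) * b := by group
      _ = a * (a * b) * b := by rw [hK b hb a ha]
      _ = (a * a) * (b * b) := by group
      _ = 1 := by rw [ha2, hb2, one_mul]
  inv_mem' := by
    rintro a ⟨ha, ha2⟩
    refine ⟨inv_mem ha, ?_⟩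
    calc a⁻¹ * a⁻¹ = (a * a)⁻¹ := by group
      _ = 1 := by rw [ha2, inv_one]

theorem mem_sqKer {K : Subgroup G} {hK : ∀ a ∈ K, ∀ b ∈ K, a * b = b * a} {a : G} :
    a ∈ sqKer K hK ↔ a ∈ K ∧ a * a = 1 := Iff.rfl

/-- Feit's bound for Zassenhaus groups with abelian kernels -/
theorem feit_bound : FeitAb.FeitHypAb.{u, u} :=
  FeitAb.feitHypAb_of
    (fun G Ω _ _ _ _ hZ a b hab hS h e hh he hodd hlt H hHa hHcard hHfix hHab => by
      haveI := hS
      exact Cfsg.Agent.Helper6.zas_class_bound hZ hab h e hh he hlt H hHa hHcard hHfix hHab)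
    (fun G Ω _ _ _ _ hZ a b hab hS h e hh he hodd hlt H hHa hHcard hHfix hHab hev => by
      haveI := hS
      exact Cfsg.Agent.Helper6.zas_even_contra hZ hab h e hh he hodd hlt H hHa hHcard hHfix
        hHab hev)

variable [Finite G]

/-- the conclusion of the inductive theorem -/
def Concl (S : Sylow 2 G) : Prop :=
  (∀ s ∈ (S : Subgroup G), s * s = 1) ∧
  (∀ g₁ g₂ : G, g₁ ∉ Subgroup.normalizer ((S : Subgroup G) : Set G) →
    g₂ ∉ Subgroup.normalizer ((S : Subgroup G) : Set G) →
    ∃ s ∈ (S : Subgroup G), g₂⁻¹ * (s * g₁) ∈ Subgroup.normalizer ((S : Subgroup G) : Set G)) ∧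
  (∀ r ∈ Subgroup.centralizer ((S : Subgroup G) : Set G), Odd (orderOf r) → ∀ v : G,
    orderOf v = 2 → r * v = v * r)

section main

variable (hyp : Hyp G) (S : Sylow 2 G) (hnc : ¬ IsCyclic (S : Subgroup G))
  (hnn : ¬ (S : Subgroup G).Normal) (hcore : CoreFree S) (ih : IHyp S)
  {u : G} (hu : orderOf u = 2)
  (huH : u ∉ Subgroup.normalizer ((S : Subgroup G) : Set G))

local notation "M" => Subgroup.centralizer ((S : Subgroup G) : Set G)
local notation "H" => Subgroup.normalizer ((S : Subgroup G) : Set G)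
local notation "R" => oddPart (Subgroup.centralizer ((S : Subgroup G) : Set G))

include hyp hnc hnn hcore ih hu huH in
theorem card_quot : Nat.card (G ⧸ H) = Nat.card ↥M + 1 := by
  rw [← Finite.card_option]
  symm
  let f : Option ↥M → G ⧸ H := fun o =>
    match o with
    | none => ((1 : G) : G ⧸ H)
    | some a => ((a.1 * u : G) : G ⧸ H)
  have hsome : ∀ a : ↥M, f (some a) = a.1 • ((u : G) : G ⧸ H) := by
    intro a
    show ((a.1 * u : G) : G ⧸ H) = _
    rw [MulAction.Quotient.smul_coe, smul_eq_mul]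
  have hne : ∀ a : ↥M, f (some a) ≠ ((1 : G) : G ⧸ H) := by
    intro a
    show ((a.1 * u : G) : G ⧸ H) ≠ _
    rw [coset_ne_one_iff]
    intro h
    apply huH
    have h2 : u = a.1⁻¹ * (a.1 * u) := by group
    rw [h2]
    exact mul_mem (inv_mem (cent_le_normalizer S a.2)) h
  apply Nat.card_eq_of_bijective f
  constructor
  · intro x y hxy
    rcases x with _ | a <;> rcases y with _ | b
    · rfl
    · exact absurd hxy.symm (hne b)
    · exact absurd hxy (hne a)
    · rw [hsome, hsome] at hxy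
      have h1 : (b.1⁻¹ * a.1) • ((u : G) : G ⧸ H) = ((u : G) : G ⧸ H) := by
        rw [mul_smul, hxy, ← mul_smul, inv_mul_cancel, one_smul]
      have h2 := eq_one_of_cent_of_fix hyp S hnc hnn hcore ih (mul_mem (inv_mem b.2) a.2) huH h1
      congr 1
      apply Subtype.ext
      calc a.1 = b.1 * (b.1⁻¹ * a.1) := by group
        _ = b.1 := by rw [h2, mul_one]
  · intro x
    obtain ⟨g, rfl⟩ := QuotientGroup.mk_surjective x
    by_cases hg : g ∈ H
    · refine ⟨none, ?_⟩
      show ((1 : G) : G ⧸ H) = _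
      rw [QuotientGroup.eq, inv_one, one_mul]
      exact hg
    · obtain ⟨a, ha, hag⟩ := exists_cent_coset_eq hyp S hnc hnn hcore ih hu huH hg
      refine ⟨some ⟨a⁻¹, inv_mem ha⟩, ?_⟩
      rw [hsome]
      show a⁻¹ • ((u : G) : G ⧸ H) = _
      rw [← hag, MulAction.Quotient.smul_coe, smul_eq_mul, inv_mul_cancel_left]

include hyp hnc hnn hcore ih hu huH in
/-- the group is a Zassenhaus group on the cosets of the normalizer of `S` -/
theorem isZassenhaus : Cfsg.IsZassenhausGroup G (G ⧸ H) := by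
  have hSE := stronglyEmbedded hyp S hnc hnn
  have hptu : ((1 : G) : G ⧸ H) ≠ ((u : G) : G ⧸ H) := (coset_ne_one_iff.mpr huH).symm
  refine ⟨⟨?_⟩, ?_, ?_, ?_, ?_⟩
  · -- faithful
    intro g₁ g₂ h
    have hker : (MulAction.toPermHom G (G ⧸ H)).ker = ⊥ := by
      apply hcore _ (MonoidHom.normal_ker _)
      intro g hg
      rw [MonoidHom.mem_ker] at hg
      have : g • ((1 : G) : G ⧸ H) = ((1 : G) : G ⧸ H) := by
        have := congrArg (fun σ : Equiv.Perm (G ⧸ H) => σ ((1 : G) : G ⧸ H)) hg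
        simpa using this
      exact smul_one_coset_iff.mp this
    have hinj := (MonoidHom.ker_eq_bot_iff _).mp hker
    apply hinj
    ext x
    simpa using h x
  · -- doubly transitive
    rw [MulAction.is_two_pretransitive_iff]
    intro a b c d hab hcd
    obtain ⟨x, rfl⟩ := QuotientGroup.mk_surjective a
    obtain ⟨y, rfl⟩ := QuotientGroup.mk_surjective c
    obtain ⟨b, rfl⟩ := QuotientGroup.mk_surjective b
    obtain ⟨d, rfl⟩ := QuotientGroup.mk_surjective d
    have hb : x⁻¹ * b ∉ H := by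
      intro h; exact hab (QuotientGroup.eq.mpr h)
    have hd : y⁻¹ * d ∉ H := by
      intro h; exact hcd (QuotientGroup.eq.mpr h)
    obtain ⟨a₁, ha₁, h₁⟩ := exists_cent_coset_eq hyp S hnc hnn hcore ih hu huH hb
    obtain ⟨a₂, ha₂, h₂⟩ := exists_cent_coset_eq hyp S hnc hnn hcore ih hu huH hd
    refine ⟨y * a₂⁻¹ * a₁ * x⁻¹, ?_, ?_⟩
    · rw [MulAction.Quotient.smul_coe, smul_eq_mul, QuotientGroup.eq]
      have e : (y * a₂⁻¹ * a₁ * x⁻¹ * x)⁻¹ * y = a₁⁻¹ * a₂ := by group
      rw [e]
      exact mul_mem (inv_mem (cent_le_normalizer S ha₁)) (cent_le_normalizer S ha₂)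
    · rw [MulAction.Quotient.smul_coe, smul_eq_mul]
      have e1 : y * a₂⁻¹ * a₁ * x⁻¹ * b = (y * a₂⁻¹) * (a₁ * (x⁻¹ * b)) := by group
      have e2 : ((y * a₂⁻¹ * (a₁ * (x⁻¹ * b)) : G) : G ⧸ H) =
          (y * a₂⁻¹) • ((a₁ * (x⁻¹ * b) : G) : G ⧸ H) := by
        rw [MulAction.Quotient.smul_coe, smul_eq_mul]
      rw [e1, e2, h₁, ← h₂, MulAction.Quotient.smul_coe, smul_eq_mul]
      congr 1
      group
  · -- three point stabilizers are trivial
    intro g a b c hab hbc hac hga hgb hgc
    obtain ⟨x, rfl⟩ := QuotientGroup.mk_surjective a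
    obtain ⟨b, rfl⟩ := QuotientGroup.mk_surjective b
    obtain ⟨c, rfl⟩ := QuotientGroup.mk_surjective c
    have hb : x⁻¹ * b ∉ H := by
      intro h; exact hab (QuotientGroup.eq.mpr h)
    have hc : x⁻¹ * c ∉ H := by
      intro h; exact hac (QuotientGroup.eq.mpr h)
    obtain ⟨v, hv, hvH, hvb⟩ := exists_invol_map_of_SE hSE (coset_ne_one_iff.mpr hb)
    set g' := x⁻¹ * g * x with hg'
    have hfix : ∀ z : G, g • ((z : G) : G ⧸ H) = ((z : G) : G ⧸ H) →
        g' • ((x⁻¹ * z : G) : G ⧸ H) = ((x⁻¹ * z : G) : G ⧸ H) := by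
      intro z hz
      rw [MulAction.Quotient.smul_coe, smul_eq_mul] at hz ⊢
      rw [QuotientGroup.eq] at hz ⊢
      have e : (g' * (x⁻¹ * z))⁻¹ * (x⁻¹ * z) = (g * z)⁻¹ * z := by rw [hg']; group
      rw [e]; exact hz
    have h1 : g' • ((1 : G) : G ⧸ H) = ((1 : G) : G ⧸ H) := by
      have := hfix x hga
      rwa [inv_mul_cancel] at this
    have h2 : g' • ((v : G) : G ⧸ H) = ((v : G) : G ⧸ H) := by
      rw [hvb]; exact hfix b hgb
    have h3 := hfix c hgc
    have hg'D : g' ∈ H ⊓ cj v H := mem_inter_of_fix S h1 h2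
    by_contra hg1
    have hg'1 : g' ≠ 1 := by
      intro h
      apply hg1
      calc g = x * g' * x⁻¹ := by rw [hg']; group
        _ = 1 := by rw [h]; group
    rcases fix_two hyp S hnc hnn hcore ih hv hvH hg'D hg'1 h3 with h | h
    · exact (coset_ne_one_iff.mpr hc) h
    · rw [hvb] at h
      apply hbc
      have := QuotientGroup.eq.mp h
      rw [QuotientGroup.eq]
      have e : b⁻¹ * c = ((x⁻¹ * c)⁻¹ * (x⁻¹ * b))⁻¹ := by group
      rw [e]
      exact inv_mem this
  · -- a nonidentity element fixing two points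
    obtain ⟨d, hd, hd1⟩ := exists_ne_one_inter hyp S hnc hnn hcore ih hu huH
    exact ⟨d, hd1, _, _, hptu, smul_one_coset_iff.mpr (Subgroup.mem_inf.mp hd).1,
      smul_u_coset_of_mem S hd⟩
  · -- no regular normal subgroup
    intro N hN htr
    by_contra hcon
    push Not at hcon
    have hNH : ∀ n ∈ N, n ∈ H → n = 1 := by
      intro n hn hnH
      have h1 : (⟨n, hn⟩ : ↥N) ∈ MulAction.stabilizer ↥N ((1 : G) : G ⧸ H) := by
        rw [MulAction.mem_stabilizer_iff]
        show n • ((1 : G) : G ⧸ H) = _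
        exact smul_one_coset_iff.mpr hnH
      have h1' : (⟨n, hn⟩ : ↥N) ∈ (⊥ : Subgroup ↥N) := by
        rw [← hcon ((1 : G) : G ⧸ H)]; exact h1
      rw [Subgroup.mem_bot] at h1'
      exact congrArg Subtype.val h1'
    have hinv : ∀ t : G, t ∈ (S : Subgroup G) → orderOf t = 2 → ∀ x ∈ N, t * x * t⁻¹ = x⁻¹ := by
      intro t htS ht
      apply inverts_of_fpf N (mul_self_of_orderOf_two ht)
      · intro x hx; exact hN.conj_mem x hx t
      · intro x hx hxt
        exact hNH x hx (cent_le_normalizer S (mem_cent_of_commute_invol hyp S ht htS hxt))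
    obtain ⟨s, t, hsS, htS, hs2, ht2, hst⟩ := exists_two_invol hyp S hnc
    have hss := mul_self_of_orderOf_two hs2
    have htt := mul_self_of_orderOf_two ht2
    have hcomm := sylow_comm hyp S s hsS t htS
    have hst2 : orderOf (s * t) = 2 := by
      apply orderOf_eq_prime
      · rw [pow_two]
        calc s * t * (s * t) = s * (t * s) * t := by group
          _ = s * (s * t) * t := by rw [hcomm]
          _ = (s * s) * (t * t) := by group
          _ = 1 := by rw [hss, htt, one_mul]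
      · intro h
        apply hst
        calc s = s * (t * t) := by rw [htt, mul_one]
          _ = (s * t) * t := by group
          _ = t := by rw [h, one_mul]
    have hNbot : ∀ x ∈ N, x = 1 := by
      intro x hx
      apply hNH x hx
      apply cent_le_normalizer S
      apply mem_cent_of_commute_invol hyp S hst2 (mul_mem hsS htS)
      have h1 := hinv t htS ht2 x hx
      have h2 := hinv s hsS hs2 x⁻¹ (inv_mem hx)
      rw [inv_inv] at h2
      have h3 : s * (t * x * t⁻¹) * s⁻¹ = x := by rw [h1]; exact h2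
      calc x * (s * t) = (s * (t * x * t⁻¹) * s⁻¹) * (s * t) := by rw [h3]
        _ = s * t * x := by group
    obtain ⟨n, hn⟩ := htr.exists_smul_eq ((1 : G) : G ⧸ H) ((u : G) : G ⧸ H)
    have hn1 : (n : G) = 1 := hNbot n.1 n.2
    have hn' : (n : G) • ((1 : G) : G ⧸ H) = ((u : G) : G ⧸ H) := hn
    rw [hn1, one_smul] at hn'
    exact hptu hn'

end main

end Cfsg.Agent.Helper2.AbInv
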