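import Mathlib
import Cfsg.Agent.Helper2.AbInvI

/-!
# Groups in which the centralizers of involutions are abelian: the conclusion in the core-free
case
-/

set_option autoImplicit false
set_option linter.style.haveILetI false

namespace Cfsg.Agent.Helper2.AbInv

open Cfsg Cfsg.Agent.Helper2

universe u

variable {G : Type u} [Group G] [Finite G]

section main

variable (hyp : Hyp G) (S : Sylow 2 G) (hnc : ¬ IsCyclic (S : Subgroup G))
  (hnn : ¬ (S : Subgroup G).Normal) (hcore : CoreFree S) (ih : IHyp S)

local notation "M" => Subgroup.centralizer ((S : Subgroup G) : Set G)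
local notation "H" => Subgroup.normalizer ((S : Subgroup G) : Set G)
local notation "R" => oddPart (Subgroup.centralizer ((S : Subgroup G) : Set G))

include hyp hnc hnn hcore ih in
/-- in the core-free case `C(S)` is an elementary abelian `2`-group -/
theorem cent_mul_self : ∀ a ∈ M, a * a = 1 := by
  classical
  have hSE := stronglyEmbedded hyp S hnc hnn
  obtain ⟨u, hu, huH⟩ := exists_invol_not_mem_of_SE hSE
  haveI : Fintype (G ⧸ H) := Fintype.ofFinite _
  have hZ := isZassenhaus hyp S hnc hnn hcore ih hu huH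
  have hptu : ((1 : G) : G ⧸ H) ≠ ((u : G) : G ⧸ H) := (coset_ne_one_iff.mpr huH).symm
  have hcard := card_quot hyp S hnc hnn hcore ih hu huH
  have hcomm := cent_comm hyp S hnc
  have hst1 : MulAction.stabilizer G ((1 : G) : G ⧸ H) = H := MulAction.stabilizer_quotient _
  have hst2 : MulAction.stabilizer G ((u : G) : G ⧸ H) = cj u H := by
    ext g
    rw [MulAction.mem_stabilizer_iff, smul_coset_eq_iff, mem_cj_iff]
  have hodd : Odd (Nat.card ↥(H ⊓ cj u H)) := hSE.2.2 u huH
  have hF := feit_bound.{u} G (G ⧸ H) hZ _ _ hptu (Nat.card ↥M) (Nat.card ↥(H ⊓ cj u H))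
    (by rw [← Nat.card_eq_fintype_card]; exact hcard)
    (by rw [hst1, hst2]) hodd M (by rw [hst1]; exact cent_le_normalizer S)
    (by rw [← Nat.card_eq_fintype_card]; exact hcard.symm)
    (by
      intro x hx hx1 c hc
      obtain ⟨g, rfl⟩ := QuotientGroup.mk_surjective c
      by_contra hne
      exact hx1 (eq_one_of_cent_of_fix hyp S hnc hnn hcore ih hx (coset_ne_one_iff.mp hne) hc))
    hcomm
  rw [card_inter hyp S hnc hnn hcore ih hu huH] at hF
  -- the involutions of `H` and the identity lie in the kernel of squaring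
  set W := sqKer M hcomm with hW
  have hWM : W ≤ M := fun a ha => (mem_sqKer.mp ha).1
  let f : Option {s : G // orderOf s = 2 ∧ s ∈ H} → ↥W := fun o =>
    match o with
    | none => 1
    | some s => ⟨s.1, mem_sqKer.mpr ⟨sylow_le_cent hyp S (invol_mem_sylow S s.2.1 s.2.2),
        mul_self_of_orderOf_two s.2.1⟩⟩
  have hf : Function.Injective f := by
    intro x y hxy
    rcases x with _ | a <;> rcases y with _ | b
    · rfl
    · exfalso
      have h1 : (1 : G) = b.1 := congrArg (fun w : ↥W => (w : G)) hxy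
      have := b.2.1
      rw [← h1, orderOf_one] at this
      omega
    · exfalso
      have h1 : a.1 = (1 : G) := congrArg (fun w : ↥W => (w : G)) hxy
      have := a.2.1
      rw [h1, orderOf_one] at this
      omega
    · have h1 : a.1 = b.1 := congrArg (fun w : ↥W => (w : G)) hxy
      congr 1
      exact Subtype.ext h1
  have hle := Nat.card_le_card_of_injective f hf
  rw [Finite.card_option] at hle
  obtain ⟨k, hk⟩ := Subgroup.card_dvd_of_le hWM
  have hMpos : 0 < Nat.card ↥M := Nat.card_pos
  have hWpos : 0 < Nat.card ↥W := Nat.card_pos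
  have hk1 : k = 1 := by
    rcases k with _ | _ | k
    · rw [mul_zero] at hk; omega
    · rfl
    · exfalso
      have : Nat.card ↥W * (k + 1 + 1) = Nat.card ↥W * k + 2 * Nat.card ↥W := by ring
      rw [this] at hk
      omega
  rw [hk1, mul_one] at hk
  have hWeq : W = M := Subgroup.eq_of_le_of_card_ge hWM hk.le
  intro a ha
  rw [← hWeq] at ha
  exact (mem_sqKer.mp ha).2

include hyp hnc hnn hcore ih in
theorem cent_le_sylow : M ≤ (S : Subgroup G) := by
  intro a ha
  have h2 := cent_mul_self hyp S hnc hnn hcore ih a ha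
  by_cases h1 : a = 1
  · rw [h1]; exact one_mem _
  · have ho : orderOf a = 2 := orderOf_eq_prime (by rw [pow_two]; exact h2) h1
    exact invol_mem_sylow S ho (cent_le_normalizer S ha)

include hyp hnc hnn hcore ih in
/-- the conclusion in the core-free case -/
theorem concl_core : Concl S := by
  have hSE := stronglyEmbedded hyp S hnc hnn
  obtain ⟨u, hu, huH⟩ := exists_invol_not_mem_of_SE hSE
  have hMS := cent_le_sylow hyp S hnc hnn hcore ih
  refine ⟨?_, ?_, ?_⟩
  · intro s hs
    exact cent_mul_self hyp S hnc hnn hcore ih s (sylow_le_cent hyp S hs)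
  · intro g₁ g₂ hg₁ hg₂
    obtain ⟨a₁, ha₁, h₁⟩ := exists_cent_coset_eq hyp S hnc hnn hcore ih hu huH hg₁
    obtain ⟨a₂, ha₂, h₂⟩ := exists_cent_coset_eq hyp S hnc hnn hcore ih hu huH hg₂
    refine ⟨a₂⁻¹ * a₁, hMS (mul_mem (inv_mem ha₂) ha₁), ?_⟩
    have := h₂.trans h₁.symm
    rw [QuotientGroup.eq] at this
    have e : g₂⁻¹ * (a₂⁻¹ * a₁ * g₁) = (a₂ * g₂)⁻¹ * (a₁ * g₁) := by group
    rw [e]; exact this
  · intro r hr hodd v hv
    obtain ⟨k, hk⟩ := orderOf_sylow S (hMS hr)
    rw [eq_one_of_odd_of_two_pow hodd hk, one_mul, mul_one]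

end main

end Cfsg.Agent.Helper2.AbInv
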