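import Mathlib
import Cfsg.Agent.Helper2.AbInvJ

/-!
# Groups in which the centralizers of involutions are abelian: the inductive hypothesis for
subgroups
-/

set_option autoImplicit false
set_option linter.style.haveILetI false

namespace Cfsg.Agent.Helper2.AbInv

open Cfsg Cfsg.Agent.Helper2

universe u

variable {G : Type u} [Group G] [Finite G]

/-- the inductive hypothesis for subgroups follows from the theorem for smaller groups -/
theorem ihyp_of (hyp : Hyp G) (S : Sylow 2 G) (hnc : ¬ IsCyclic (S : Subgroup G))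
    (IH : ∀ (K : Type u) [Group K] [Finite K], Nat.card K < Nat.card G → Hyp K →
      ∀ T : Sylow 2 K, ¬ IsCyclic (T : Subgroup K) → ¬ (T : Subgroup K).Normal → Concl T) :
    IHyp S := by
  haveI : Fact (Nat.Prime 2) := ⟨Nat.prime_two⟩
  intro J hJtop hSJ hJH
  have hcard : Nat.card ↥J < Nat.card G := by
    apply lt_of_le_of_ne (Subgroup.card_le_card_group J)
    intro h
    exact hJtop ((Subgroup.card_eq_iff_eq_top J).mp h)
  set T : Sylow 2 ↥J := S.subtype hSJ with hT
  have hTcoe : (T : Subgroup ↥J) = (S : Subgroup G).subgroupOf J := Sylow.coe_subtype S hSJ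
  have hmemT : ∀ x : ↥J, x ∈ (T : Subgroup ↥J) ↔ (x : G) ∈ (S : Subgroup G) := by
    intro x
    rw [hTcoe, Subgroup.mem_subgroupOf]
  have hTnc : ¬ IsCyclic (T : Subgroup ↥J) := by
    rw [hTcoe]
    intro hc
    apply hnc
    have e := Subgroup.subgroupOfEquivOfLe hSJ
    exact isCyclic_of_surjective e e.surjective
  have hTnn : ¬ (T : Subgroup ↥J).Normal := by
    rw [hTcoe, Subgroup.normal_subgroupOf_iff_le_normalizer hSJ]
    exact hJH
  have hN : ∀ x : ↥J, x ∈ Subgroup.normalizer ((T : Subgroup ↥J) : Set ↥J) ↔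
      (x : G) ∈ Subgroup.normalizer ((S : Subgroup G) : Set G) := by
    intro x
    rw [hTcoe, ← Subgroup.subgroupOf_normalizer_eq hSJ, Subgroup.mem_subgroupOf]
  obtain ⟨-, h2, h3⟩ := IH ↥J hcard (hyp.subgroup J) T hTnc hTnn
  refine ⟨?_, ?_⟩
  · intro g₁ hg₁ g₂ hg₂ hg₁H hg₂H
    obtain ⟨s, hs, hsg⟩ := h2 ⟨g₁, hg₁⟩ ⟨g₂, hg₂⟩ (by rw [hN]; exact hg₁H) (by rw [hN]; exact hg₂H)
    refine ⟨(s : G), (hmemT s).mp hs, ?_⟩
    have := (hN _).mp hsg
    simpa using this
  · intro r hrM hrJ hodd v hvJ hv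
    have hr' : (⟨r, hrJ⟩ : ↥J) ∈ Subgroup.centralizer ((T : Subgroup ↥J) : Set ↥J) := by
      rw [Subgroup.mem_centralizer_iff]
      intro s hs
      apply Subtype.ext
      rw [Subgroup.coe_mul, Subgroup.coe_mul]
      exact (mem_cent_iff S).mp hrM (s : G) ((hmemT s).mp hs)
    have := h3 ⟨r, hrJ⟩ hr' (by rw [← Subgroup.orderOf_coe]; exact hodd) ⟨v, hvJ⟩
      (by rw [← Subgroup.orderOf_coe]; exact hv)
    have := congrArg Subtype.val this
    simpa using this

end Cfsg.Agent.Helper2.AbInv
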