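import Mathlib
import Cfsg.Agent.Helper2.AbInvK

/-!
# Groups in which the centralizers of involutions are abelian: the quotient by a normal subgroup
contained in the normalizer of a Sylow `2`-subgroup
-/

set_option autoImplicit false
set_option linter.style.haveILetI false

namespace Cfsg.Agent.Helper2.AbInv

open Cfsg Cfsg.Agent.Helper2

universe u

variable {G : Type u} [Group G] [Finite G]

section quot

variable (hyp : Hyp G) (S : Sylow 2 G) (hnc : ¬ IsCyclic (S : Subgroup G))
  (hnn : ¬ (S : Subgroup G).Normal) (N : Subgroup G) [hN : N.Normal]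
  (hNH : N ≤ Subgroup.normalizer ((S : Subgroup G) : Set G))

local notation "M" => Subgroup.centralizer ((S : Subgroup G) : Set G)
local notation "H" => Subgroup.normalizer ((S : Subgroup G) : Set G)

include hyp hnc hnn hN hNH in
theorem core_no_invol {t : G} (htN : t ∈ N) (ht : orderOf t = 2) : False := by
  have hSE := stronglyEmbedded hyp S hnc hnn
  obtain ⟨u, hu, huH⟩ := exists_invol_not_mem_of_SE hSE
  obtain ⟨g, hg⟩ := isConj_iff.mp (isConj_of_invol hSE ht hu)
  apply huH
  apply hNH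
  rw [← hg]
  exact hN.conj_mem t htN g

include hyp hnc hnn hN hNH in
theorem core_odd {k : G} (hk : k ∈ N) : Odd (orderOf k) := by
  rw [← Nat.not_even_iff_odd]
  intro heven
  obtain ⟨j, hj⟩ := heven
  have hpos : 0 < orderOf k := orderOf_pos k
  have h2 : orderOf k = j * 2 := by omega
  have hj0 : j ≠ 0 := by rintro rfl; omega
  have ho : orderOf (k ^ j) = 2 := by
    rw [orderOf_pow' k hj0, h2, Nat.gcd_eq_right (Dvd.intro _ rfl),
      Nat.mul_div_cancel_left _ (Nat.pos_of_ne_zero hj0)]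
  exact core_no_invol hyp S hnc hnn N hNH (pow_mem hk j) ho

include hyp hnc hnn hN hNH in
theorem sylow_inter_core {s : G} (hs : s ∈ (S : Subgroup G)) (hsN : s ∈ N) : s = 1 := by
  obtain ⟨k, hk⟩ := orderOf_sylow S hs
  exact eq_one_of_odd_of_two_pow (core_odd hyp S hnc hnn N hNH hsN) hk

include hyp hnc hnn hN hNH in
theorem core_le_cent : N ≤ M := by
  intro n hn
  rw [mem_cent_iff]
  intro s hs
  have h1 : n * s * n⁻¹ ∈ (S : Subgroup G) := (Subgroup.mem_normalizer_iff.mp (hNH hn) s).mp hs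
  have h2 : n * s * n⁻¹ * s⁻¹ ∈ (S : Subgroup G) := mul_mem h1 (inv_mem hs)
  have h3 : n * s * n⁻¹ * s⁻¹ ∈ N := by
    have : n * s * n⁻¹ * s⁻¹ = n * (s * n⁻¹ * s⁻¹) := by group
    rw [this]
    exact mul_mem hn (hN.conj_mem _ (inv_mem hn) s)
  have h4 := sylow_inter_core hyp S hnc hnn N hNH h2 h3
  calc s * n = (n * s * n⁻¹ * s⁻¹)⁻¹ * (n * s) := by group
    _ = n * s := by rw [h4, inv_one, one_mul]

include hyp hnc hnn hN hNH in
theorem core_commute_invol {k v : G} (hk : k ∈ N) (hv : orderOf v = 2) : k * v = v * k := by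
  have hSE := stronglyEmbedded hyp S hnc hnn
  obtain ⟨t, htS, ht⟩ := exists_invol hyp S hnc
  obtain ⟨g, hg⟩ := isConj_iff.mp (isConj_of_invol hSE ht hv)
  have h1 : g⁻¹ * k * g ∈ M := by
    apply core_le_cent hyp S hnc hnn N hNH
    have := hN.conj_mem k hk g⁻¹
    rwa [inv_inv] at this
  have h2 := (mem_cent_iff S).mp h1 t htS
  rw [← hg]
  calc k * (g * t * g⁻¹) = g * ((g⁻¹ * k * g) * t) * g⁻¹ := by group
    _ = g * (t * (g⁻¹ * k * g)) * g⁻¹ := by rw [h2]
    _ = g * t * g⁻¹ * k := by group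

include hyp hnc hnn hN hNH in
theorem eq_one_of_core_sq {k : G} (hk : k ∈ N) (h : k * k = 1) : k = 1 :=
  eq_one_of_odd_of_mul_self (core_odd hyp S hnc hnn N hNH hk) h

include hyp hnc hnn hN hNH in
/-- elements commuting with an involution modulo `N` commute with it -/
theorem commute_of_quot {a t : G} (ht : orderOf t = 2) (h : a * t * a⁻¹ * t⁻¹ ∈ N) :
    a * t = t * a := by
  have htt := mul_self_of_orderOf_two ht
  set k := a * t * a⁻¹ * t⁻¹ with hk
  have hkt := core_commute_invol hyp S hnc hnn N hNH h ht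
  have e1 : a * t * a⁻¹ = k * t := by rw [hk]; group
  have e2 : (a * t * a⁻¹) * (a * t * a⁻¹) = 1 := by
    calc (a * t * a⁻¹) * (a * t * a⁻¹) = a * (t * t) * a⁻¹ := by group
      _ = 1 := by rw [htt]; group
  rw [e1] at e2
  have e3 : k * k = 1 := by
    calc k * k = k * k * (t * t) := by rw [htt, mul_one]
      _ = k * (k * t) * t := by group
      _ = k * (t * k) * t := by rw [hkt]
      _ = (k * t) * (k * t) := by group
      _ = 1 := e2
  have e4 := eq_one_of_core_sq hyp S hnc hnn N hNH h e3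
  calc a * t = (a * t * a⁻¹ * t⁻¹) * (t * a) := by group
    _ = t * a := by rw [← hk, e4, one_mul]

include hyp hnc hnn hN hNH in
/-- an element normalizing `S` modulo `N` normalizes `S` -/
theorem mem_normalizer_of_quot {g : G}
    (h : ∀ s ∈ (S : Subgroup G), ∃ s' ∈ (S : Subgroup G), g * s * g⁻¹ * s'⁻¹ ∈ N) : g ∈ H := by
  apply CIT.mem_normalizer_of_forall_conj_mem
  intro s hs
  obtain ⟨s', hs', hk⟩ := h s hs
  set k := g * s * g⁻¹ * s'⁻¹ with hkdef
  have hks' : k * s' = s' * k :=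
    ((mem_cent_iff S).mp (core_le_cent hyp S hnc hnn N hNH hk) s' hs').symm
  obtain ⟨a, ha⟩ := orderOf_sylow S hs
  have e1 : g * s * g⁻¹ = k * s' := by rw [hkdef]; group
  have e2 : (g * s * g⁻¹) ^ (2 ^ a) = 1 := by
    have : g * s * g⁻¹ = MulAut.conj g s := by simp
    rw [this, ← map_pow, ← ha, pow_orderOf_eq_one, map_one]
  rw [e1, (show Commute k s' from hks').mul_pow] at e2
  have e3 : k ^ (2 ^ a) ∈ (S : Subgroup G) := by
    have : k ^ (2 ^ a) = (s' ^ (2 ^ a))⁻¹ := eq_inv_of_mul_eq_one_left e2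
    rw [this]
    exact inv_mem (pow_mem hs' _)
  have e4 := sylow_inter_core hyp S hnc hnn N hNH e3 (pow_mem hk _)
  have e5 : orderOf k ∣ 2 ^ a := orderOf_dvd_of_pow_eq_one e4
  obtain ⟨b, -, hb⟩ := (Nat.dvd_prime_pow Nat.prime_two).mp e5
  have e6 := eq_one_of_odd_of_two_pow (core_odd hyp S hnc hnn N hNH hk) hb
  rw [e1, e6, one_mul]
  exact hs'

include hyp hnc hnn hN hNH in
/-- involutions of the quotient lift to involutions -/
theorem exists_invol_lift {y : G ⧸ N} (hy : orderOf y = 2) :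
    ∃ t : G, orderOf t = 2 ∧ (t : G ⧸ N) = y := by
  obtain ⟨x, rfl⟩ := QuotientGroup.mk_surjective y
  have hyy := mul_self_of_orderOf_two hy
  have hx2 : x * x ∈ N := by
    rw [← QuotientGroup.eq_one_iff, QuotientGroup.mk_mul]
    exact hyy
  obtain ⟨j, hj⟩ := core_odd hyp S hnc hnn N hNH hx2
  set o := orderOf (x * x) with ho
  have h1 : (x * x) ^ o = 1 := pow_orderOf_eq_one _
  have hxo : (x ^ o) * (x ^ o) = 1 := by
    rw [(Commute.refl x).mul_pow] at h1
    exact h1
  have hxq : ((x ^ o : G) : G ⧸ N) = (x : G ⧸ N) := by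
    rw [QuotientGroup.mk_pow, hj, pow_succ, pow_mul]
    have : ((x : G ⧸ N)) ^ 2 = 1 := by rw [pow_two]; exact hyy
    rw [this, one_pow, one_mul]
  refine ⟨x ^ o, ?_, hxq⟩
  apply orderOf_eq_prime
  · rw [pow_two]; exact hxo
  · intro h
    rw [h, QuotientGroup.mk_one] at hxq
    rw [← hxq, orderOf_one] at hy
    omega

include hyp hnc hnn hN hNH in
theorem hyp_quot : Hyp (G ⧸ N) := by
  intro y hy a b ha hb
  obtain ⟨t, ht, rfl⟩ := exists_invol_lift hyp S hnc hnn N hNH hy
  obtain ⟨a, rfl⟩ := QuotientGroup.mk_surjective a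
  obtain ⟨b, rfl⟩ := QuotientGroup.mk_surjective b
  have key : ∀ c : G, ((c : G) : G ⧸ N) * (t : G ⧸ N) = (t : G ⧸ N) * (c : G ⧸ N) →
      c * t = t * c := by
    intro c hc
    apply commute_of_quot hyp S hnc hnn N hNH ht
    rw [← QuotientGroup.eq_one_iff]
    simp only [QuotientGroup.mk_mul, QuotientGroup.mk_inv]
    rw [hc]; group
  have := hyp t ht a b (key a ha) (key b hb)
  rw [← QuotientGroup.mk_mul, ← QuotientGroup.mk_mul, this]

end quot

end Cfsg.Agent.Helper2.AbInv
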