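import Mathlib
import Cfsg.Agent.Helper2.AbInvL

/-!
# Groups in which the centralizers of involutions are abelian: the inductive theorem
-/

set_option autoImplicit false
set_option linter.style.haveILetI false

namespace Cfsg.Agent.Helper2.AbInv

open Cfsg Cfsg.Agent.Helper2

universe u

variable {G : Type u} [Group G] [Finite G]

section quot

variable (hyp : Hyp G) (S : Sylow 2 G) (hnc : ¬ IsCyclic (S : Subgroup G))
  (hnn : ¬ (S : Subgroup G).Normal) (N : Subgroup G) [hN : N.Normal]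
  (hNH : N ≤ Subgroup.normalizer ((S : Subgroup G) : Set G))

local notation "M" => Subgroup.centralizer ((S : Subgroup G) : Set G)
local notation "H" => Subgroup.normalizer ((S : Subgroup G) : Set G)

/-- the image of `S` in the quotient -/
noncomputable def quotSylow : Sylow 2 (G ⧸ N) :=
  haveI : Fact (Nat.Prime 2) := ⟨Nat.prime_two⟩
  S.mapSurjective (QuotientGroup.mk'_surjective N)

theorem mem_quotSylow {y : G ⧸ N} :
    y ∈ (quotSylow S N : Subgroup (G ⧸ N)) ↔ ∃ s ∈ (S : Subgroup G), (s : G ⧸ N) = y := by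
  haveI : Fact (Nat.Prime 2) := ⟨Nat.prime_two⟩
  unfold quotSylow
  rw [Sylow.coe_mapSurjective, Subgroup.mem_map]
  rfl

include hyp hnc hnn hN hNH in
theorem mem_normalizer_of_quot_mem {g : G}
    (h : (g : G ⧸ N) ∈ Subgroup.normalizer ((quotSylow S N : Subgroup (G ⧸ N)) : Set (G ⧸ N))) :
    g ∈ H := by
  apply mem_normalizer_of_quot hyp S hnc hnn N hNH
  intro s hs
  have h1 : ((g : G ⧸ N)) * (s : G ⧸ N) * ((g : G ⧸ N))⁻¹ ∈
      (quotSylow S N : Subgroup (G ⧸ N)) :=
    (Subgroup.mem_normalizer_iff.mp h _).mp (mem_quotSylow S N |>.mpr ⟨s, hs, rfl⟩)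
  obtain ⟨s', hs', he⟩ := (mem_quotSylow S N).mp h1
  refine ⟨s', hs', ?_⟩
  rw [← QuotientGroup.eq_one_iff]
  simp only [QuotientGroup.mk_mul, QuotientGroup.mk_inv]
  rw [he]; group

include hyp hnc hnn hN hNH in
theorem quot_not_cyclic : ¬ IsCyclic (quotSylow S N : Subgroup (G ⧸ N)) := by
  intro hc
  apply hnc
  obtain ⟨⟨y, hy⟩, hgen⟩ := hc
  obtain ⟨s₀, hs₀, rfl⟩ := (mem_quotSylow S N).mp hy
  refine ⟨⟨⟨s₀, hs₀⟩, ?_⟩⟩
  intro x
  have hx : ((x.1 : G) : G ⧸ N) ∈ (quotSylow S N : Subgroup (G ⧸ N)) :=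
    (mem_quotSylow S N).mpr ⟨x.1, x.2, rfl⟩
  obtain ⟨k, hk⟩ := Subgroup.mem_zpowers_iff.mp (hgen ⟨_, hx⟩)
  have hk' : ((s₀ : G) : G ⧸ N) ^ k = ((x.1 : G) : G ⧸ N) := by
    have := congrArg Subtype.val hk
    simpa using this
  refine ⟨k, ?_⟩
  apply Subtype.ext
  show ((⟨s₀, hs₀⟩ : ↥(S : Subgroup G)) ^ k).1 = x.1
  rw [Subgroup.coe_zpow]
  show s₀ ^ k = x.1
  have h1 : (s₀ ^ k)⁻¹ * x.1 ∈ N := by
    rw [← QuotientGroup.eq, QuotientGroup.mk_zpow]
    exact hk'
  have h2 : (s₀ ^ k)⁻¹ * x.1 ∈ (S : Subgroup G) := mul_mem (inv_mem (zpow_mem hs₀ k)) x.2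
  have h3 := sylow_inter_core hyp S hnc hnn N hNH h2 h1
  calc s₀ ^ k = s₀ ^ k * ((s₀ ^ k)⁻¹ * x.1) := by rw [h3, mul_one]
    _ = x.1 := by group

include hyp hnc hnn hN hNH in
theorem quot_not_normal : ¬ (quotSylow S N : Subgroup (G ⧸ N)).Normal := by
  intro hnorm
  apply hnn
  rw [← Subgroup.normalizer_eq_top_iff, eq_top_iff]
  intro g _
  apply mem_normalizer_of_quot_mem hyp S hnc hnn N hNH
  rw [Subgroup.normalizer_eq_top_iff.mpr hnorm]
  exact Subgroup.mem_top _

include hyp hnc hnn hN hNH in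
/-- the conclusion lifts from the quotient -/
theorem concl_of_quot (hQ : Concl (quotSylow S N)) : Concl S := by
  obtain ⟨h1, h2, h3⟩ := hQ
  refine ⟨?_, ?_, ?_⟩
  · intro s hs
    apply sylow_inter_core hyp S hnc hnn N hNH (mul_mem hs hs)
    rw [← QuotientGroup.eq_one_iff, QuotientGroup.mk_mul]
    exact h1 _ ((mem_quotSylow S N).mpr ⟨s, hs, rfl⟩)
  · intro g₁ g₂ hg₁ hg₂
    obtain ⟨y, hy, hyg⟩ := h2 (g₁ : G ⧸ N) (g₂ : G ⧸ N)
      (fun h => hg₁ (mem_normalizer_of_quot_mem hyp S hnc hnn N hNH h))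
      (fun h => hg₂ (mem_normalizer_of_quot_mem hyp S hnc hnn N hNH h))
    obtain ⟨s, hs, rfl⟩ := (mem_quotSylow S N).mp hy
    refine ⟨s, hs, ?_⟩
    apply mem_normalizer_of_quot_mem hyp S hnc hnn N hNH
    simpa using hyg
  · intro r hr hodd v hv
    have hvN : v ∉ N := fun h => core_no_invol hyp S hnc hnn N hNH h hv
    have hv' : orderOf (v : G ⧸ N) = 2 := by
      apply orderOf_eq_prime
      · rw [← QuotientGroup.mk_pow, pow_two, mul_self_of_orderOf_two hv, QuotientGroup.mk_one]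
      · intro h
        exact hvN ((QuotientGroup.eq_one_iff v).mp h)
    have hr' : (r : G ⧸ N) ∈ Subgroup.centralizer
        ((quotSylow S N : Subgroup (G ⧸ N)) : Set (G ⧸ N)) := by
      rw [Subgroup.mem_centralizer_iff]
      intro y hy
      obtain ⟨s, hs, rfl⟩ := (mem_quotSylow S N).mp hy
      rw [← QuotientGroup.mk_mul, ← QuotientGroup.mk_mul, (mem_cent_iff S).mp hr s hs]
    have hodd' : Odd (orderOf (r : G ⧸ N)) := by
      apply hodd.of_dvd_nat
      exact orderOf_dvd_of_pow_eq_one (by rw [← QuotientGroup.mk_pow, pow_orderOf_eq_one,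
        QuotientGroup.mk_one])
    have hc := h3 _ hr' hodd' _ hv'
    apply commute_of_quot hyp S hnc hnn N hNH hv
    rw [← QuotientGroup.eq_one_iff]
    simp only [QuotientGroup.mk_mul, QuotientGroup.mk_inv]
    rw [hc]; group

end quot

/-- **The inductive theorem**: if the centralizers of involutions are abelian and the Sylow
`2`-subgroups are neither cyclic nor normal, then they are elementary abelian, act transitively
on the nontrivial cosets of their normalizer, and the elements of odd order of their centralizer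
commute with all involutions. -/
theorem concl_of_hyp : ∀ (n : ℕ) (G : Type u) [Group G] [Finite G], Nat.card G = n → Hyp G →
    ∀ S : Sylow 2 G, ¬ IsCyclic (S : Subgroup G) → ¬ (S : Subgroup G).Normal → Concl S := by
  intro n
  induction n using Nat.strong_induction_on with
  | _ n IH =>
    intro G _ _ hcard hyp S hnc hnn
    have IH' : ∀ (K : Type u) [Group K] [Finite K], Nat.card K < Nat.card G → Hyp K →
        ∀ T : Sylow 2 K, ¬ IsCyclic (T : Subgroup K) → ¬ (T : Subgroup K).Normal → Concl T := by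
      intro K _ _ hK hypK T hT1 hT2
      exact IH (Nat.card K) (hcard ▸ hK) K rfl hypK T hT1 hT2
    by_cases hcore : CoreFree S
    · exact concl_core hyp S hnc hnn hcore (ihyp_of hyp S hnc IH')
    · unfold CoreFree at hcore
      push Not at hcore
      obtain ⟨N, hN, hNH, hNbot⟩ := hcore
      haveI := hN
      apply concl_of_quot hyp S hnc hnn N hNH
      apply IH' (G ⧸ N) _ (hyp_quot hyp S hnc hnn N hNH) _
        (quot_not_cyclic hyp S hnc hnn N hNH) (quot_not_normal hyp S hnc hnn N hNH)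
      rw [← Subgroup.index_eq_card, ← Subgroup.index_mul_card N]
      have h1 : 1 < Nat.card ↥N := by
        rw [Subgroup.one_lt_card_iff_ne_bot]
        exact hNbot
      have h2 : 0 < N.index := Nat.pos_of_ne_zero Subgroup.index_ne_zero_of_finite
      nlinarith

end Cfsg.Agent.Helper2.AbInv
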