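import Mathlib
import Cfsg.Agent.S0262

/-!
# Central subgroups of odd order of groups generated by involutions and mapping to `SL₂` in
characteristic `2` with central kernel are trivial (transfer)
-/

set_option autoImplicit false
set_option linter.style.haveILetI false

namespace Cfsg.Agent.Helper2.AbInv

/-- a central element of odd prime order `p` cannot exist in a finite group generated by
involutions whose Sylow `p`-subgroups are abelian -/
theorem false_of_central_of_sylow_comm {K : Type*} [Group K] [Finite K]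
    (hgen : Subgroup.closure {v : K | orderOf v = 2} = ⊤) {p : ℕ} [hp : Fact p.Prime]
    (hp2 : p ≠ 2)
    (hab : ∀ P : Sylow p K, ∀ a ∈ (P : Subgroup K), ∀ b ∈ (P : Subgroup K), a * b = b * a)
    {z : K} (hz : z ∈ Subgroup.center K) (hzp : orderOf z = p) : False := by
  have hzpow : IsPGroup p ↥(Subgroup.zpowers z) :=
    IsPGroup.of_card (n := 1) (by rw [Nat.card_zpowers, hzp, pow_one])
  obtain ⟨P, hP⟩ := hzpow.exists_le_sylow
  have hzP : z ∈ (P : Subgroup K) := hP (Subgroup.mem_zpowers z)
  letI : CommGroup ↥(P : Subgroup K) :=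
    { (inferInstance : Group ↥(P : Subgroup K)) with
      mul_comm := fun a b => Subtype.ext (hab P a.1 a.2 b.1 b.2) }
  let V : K →* ↥(P : Subgroup K) := MonoidHom.transfer (MonoidHom.id ↥(P : Subgroup K))
  have hV1 : V = 1 := by
    apply MonoidHom.eq_of_eqOn_dense hgen
    intro v hv
    have hv2 : orderOf v = 2 := hv
    show V v = 1
    have h1 : (V v) ^ 2 = 1 := by
      rw [← map_pow, ← hv2, pow_orderOf_eq_one, map_one]
    have h2 : orderOf (V v) ∣ 2 := orderOf_dvd_of_pow_eq_one h1
    obtain ⟨j, hj⟩ := (IsPGroup.iff_orderOf.mp P.2) (V v)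
    rcases j with _ | j
    · rw [pow_zero] at hj
      exact orderOf_eq_one_iff.mp hj
    · exfalso
      rw [hj] at h2
      have h3 : p ∣ 2 := (dvd_pow_self p (Nat.succ_ne_zero j)).trans h2
      exact hp2 ((Nat.prime_dvd_prime_iff_eq hp.1 Nat.prime_two).mp h3)
  have key : ∀ (k : ℕ) (g₀ : K), g₀⁻¹ * z ^ k * g₀ ∈ (P : Subgroup K) →
      g₀⁻¹ * z ^ k * g₀ = z ^ k := by
    intro k g₀ _
    have hc := Subgroup.mem_center_iff.mp (pow_mem hz k) g₀
    calc g₀⁻¹ * z ^ k * g₀ = g₀⁻¹ * (z ^ k * g₀) := by group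
      _ = g₀⁻¹ * (g₀ * z ^ k) := by rw [hc]
      _ = z ^ k := by group
  have h4 := MonoidHom.transfer_eq_pow (MonoidHom.id ↥(P : Subgroup K)) z key
  have h5 : V z = 1 := by rw [hV1]; rfl
  have h6 : z ^ (P : Subgroup K).index = 1 := by
    have h7 : (V z : K) = z ^ (P : Subgroup K).index := by
      show ((MonoidHom.transfer (MonoidHom.id ↥(P : Subgroup K)) z : ↥(P : Subgroup K)) : K) = _
      rw [h4]
      rfl
    rw [← h7, h5]
    rfl
  have h8 : p ∣ (P : Subgroup K).index := by
    have := orderOf_dvd_of_pow_eq_one h6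
    rwa [hzp] at this
  exact P.not_dvd_index h8

/-- the Sylow `p`-subgroups, `p` odd, of a finite group mapping to `SL₂` in characteristic `2`
with central kernel are abelian -/
theorem sylow_comm_of_hom_sl2 {K : Type*} [Group K] [Finite K] {F : Type*} [Field F] [Fintype F]
    [CharP F 2] (φ : K →* Matrix.SpecialLinearGroup (Fin 2) F)
    (hker : φ.ker ≤ Subgroup.center K) {p : ℕ} [hp : Fact p.Prime] (hp2 : p ≠ 2)
    (P : Sylow p K) : ∀ a ∈ (P : Subgroup K), ∀ b ∈ (P : Subgroup K), a * b = b * a := by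
  haveI : Fact (Nat.Prime 2) := ⟨Nat.prime_two⟩
  have hP' : IsPGroup p ↥((P : Subgroup K).map φ) := P.2.map φ
  obtain ⟨Q, hQ⟩ := hP'.exists_le_sylow
  haveI hcyc : IsCyclic ↥(Q : Subgroup (Matrix.SpecialLinearGroup (Fin 2) F)) :=
    Cfsg.Agent.S0262.result 2 p hp2 hp2 Q
  let f : ↥(P : Subgroup K) →* ↥(Q : Subgroup (Matrix.SpecialLinearGroup (Fin 2) F)) :=
    (φ.comp (P : Subgroup K).subtype).codRestrict
      (Q : Subgroup (Matrix.SpecialLinearGroup (Fin 2) F))
      (fun x => hQ (Subgroup.mem_map_of_mem φ x.2))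
  have hf : f.ker ≤ Subgroup.center ↥(P : Subgroup K) := by
    intro x hx
    rw [MonoidHom.mem_ker] at hx
    have h1 : φ (x : K) = 1 := by
      have := congrArg Subtype.val hx
      simpa [f] using this
    have h2 : (x : K) ∈ Subgroup.center K := hker (MonoidHom.mem_ker.mpr h1)
    rw [Subgroup.mem_center_iff]
    intro g
    apply Subtype.ext
    rw [Subgroup.coe_mul, Subgroup.coe_mul]
    exact Subgroup.mem_center_iff.mp h2 (g : K)
  intro a ha b hb
  have := (f.isMulCommutative_of_isCyclic_of_ker_le_center hf).is_comm.comm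
    (⟨a, ha⟩ : ↥(P : Subgroup K)) ⟨b, hb⟩
  exact congrArg Subtype.val this

/-- a central subgroup of odd order of a finite group generated by involutions which maps to
`SL₂` in characteristic `2` with central kernel is trivial -/
theorem eq_one_of_central_of_hom_sl2 {K : Type*} [Group K] [Finite K] {F : Type*} [Field F]
    [Fintype F] [CharP F 2] (hgen : Subgroup.closure {v : K | orderOf v = 2} = ⊤)
    (φ : K →* Matrix.SpecialLinearGroup (Fin 2) F) (hker : φ.ker ≤ Subgroup.center K)
    {z : K} (hz : z ∈ Subgroup.center K) (hodd : Odd (orderOf z)) : z = 1 := by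
  by_contra hz1
  have ho1 : orderOf z ≠ 1 := fun h => hz1 (orderOf_eq_one_iff.mp h)
  obtain ⟨p, hp, hpd⟩ := Nat.exists_prime_and_dvd ho1
  haveI : Fact p.Prime := ⟨hp⟩
  have hp2 : p ≠ 2 := by
    rintro rfl
    exact (Nat.not_even_iff_odd.mpr hodd) (even_iff_two_dvd.mpr hpd)
  have hzp : orderOf (z ^ (orderOf z / p)) = p :=
    orderOf_pow_orderOf_div (orderOf_pos z).ne' hpd
  exact false_of_central_of_sylow_comm hgen hp2
    (fun P => sylow_comm_of_hom_sl2 φ hker hp2 P) (pow_mem hz _) hzp

end Cfsg.Agent.Helper2.AbInv
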