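import Mathlib
import Cfsg.Agent.Helper2.AbInvM

/-!
# Groups in which the centralizers of involutions are abelian: consequences of the inductive
theorem
-/

set_option autoImplicit false
set_option linter.style.haveILetI false

namespace Cfsg.Agent.Helper2.AbInv

open Cfsg Cfsg.Agent.Helper2

universe u

variable {G : Type u} [Group G]

/-- the subgroup generated by the involutions -/
abbrev involClosure (G : Type u) [Group G] : Subgroup G :=
  Subgroup.closure {v : G | orderOf v = 2}

theorem involClosure_conj (g : G) {x : G} (hx : x ∈ involClosure G) :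
    g * x * g⁻¹ ∈ involClosure G := by
  unfold involClosure at hx ⊢
  induction hx using Subgroup.closure_induction with
  | mem v hv =>
    apply Subgroup.subset_closure
    show orderOf (g * v * g⁻¹) = 2
    rw [conj_orderOf]; exact hv
  | one => simp
  | mul x y _ _ hx hy =>
    have : g * (x * y) * g⁻¹ = (g * x * g⁻¹) * (g * y * g⁻¹) := by group
    rw [this]; exact mul_mem hx hy
  | inv x _ hx =>
    have : g * x⁻¹ * g⁻¹ = (g * x * g⁻¹)⁻¹ := by group
    rw [this]; exact inv_mem hx

instance involClosure_normal : (involClosure G).Normal :=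
  ⟨fun _ hx g => involClosure_conj g hx⟩

theorem invol_mem_involClosure {v : G} (hv : orderOf v = 2) : v ∈ involClosure G :=
  Subgroup.subset_closure hv

/-- the subgroup generated by the involutions is generated by its involutions -/
theorem involClosure_gen :
    Subgroup.closure {v : ↥(involClosure G) | orderOf v = 2} = ⊤ := by
  rw [eq_top_iff]
  rintro ⟨x, hx⟩ -
  have key : ∀ (g : G) (hg : g ∈ Subgroup.closure {v : G | orderOf v = 2}),
      (⟨g, hg⟩ : ↥(involClosure G)) ∈
        Subgroup.closure {v : ↥(involClosure G) | orderOf v = 2} := by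
    intro g hg
    induction hg using Subgroup.closure_induction with
    | mem v hv =>
      apply Subgroup.subset_closure
      show orderOf (⟨v, _⟩ : ↥(involClosure G)) = 2
      rw [Subgroup.orderOf_mk]; exact hv
    | one => exact one_mem _
    | mul x y hx hy hx' hy' => exact mul_mem hx' hy'
    | inv x hx hx' => exact inv_mem hx'
  exact key x hx

theorem commute_involClosure {r : G} (hr : ∀ v : G, orderOf v = 2 → r * v = v * r) :
    ∀ x ∈ involClosure G, r * x = x * r := by
  intro x hx
  unfold involClosure at hx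
  induction hx using Subgroup.closure_induction with
  | mem v hv => exact hr v hv
  | one => simp
  | mul x y _ _ hx hy =>
    calc r * (x * y) = (r * x) * y := by group
      _ = x * (r * y) := by rw [hx]; group
      _ = x * y * r := by rw [hy]; group
  | inv x _ hx =>
    have : Commute r x := hx
    exact this.inv_right.eq

variable [Finite G]

section final

variable (hyp : Hyp G) (S : Sylow 2 G) (hnc : ¬ IsCyclic (S : Subgroup G))
  (hnn : ¬ (S : Subgroup G).Normal) (hC : Concl S)

local notation "M" => Subgroup.centralizer ((S : Subgroup G) : Set G)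
local notation "H" => Subgroup.normalizer ((S : Subgroup G) : Set G)
local notation "R" => oddPart (Subgroup.centralizer ((S : Subgroup G) : Set G))

include hyp hnc hC in
theorem R_commute_invol {r v : G} (hr : r ∈ R) (hv : orderOf v = 2) : r * v = v * r := by
  obtain ⟨hrM, hodd⟩ := (mem_R_iff hyp S hnc).mp hr
  exact hC.2.2 r hrM hodd v hv

include hyp hnc hC in
theorem R_normal : (R).Normal := by
  refine ⟨fun r hr g => ?_⟩
  obtain ⟨hrM, hodd⟩ := (mem_R_iff hyp S hnc).mp hr
  obtain ⟨t, htS, ht⟩ := exists_invol hyp S hnc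
  rw [mem_R_iff hyp S hnc]
  refine ⟨?_, by rw [conj_orderOf]; exact hodd⟩
  apply mem_cent_of_commute_invol hyp S ht htS
  have ht' : orderOf (g⁻¹ * t * g) = 2 := by rw [conj_orderOf']; exact ht
  have hc := R_commute_invol hyp S hnc hC hr ht'
  calc g * r * g⁻¹ * t = g * (r * (g⁻¹ * t * g)) * g⁻¹ := by group
    _ = g * ((g⁻¹ * t * g) * r) * g⁻¹ := by rw [hc]
    _ = t * (g * r * g⁻¹) := by group

include hyp hnc hC in
/-- squares of elements of `C(S)` have odd order -/
theorem sq_mem_R {a : G} (ha : a ∈ M) : a * a ∈ R := by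
  by_contra hx
  have hxM : a * a ∈ M := mul_mem ha ha
  obtain ⟨k, hk2, hkS⟩ := exists_pow_invol_of_not_mem hyp S hnc hxM hx
  have e1 : (a * a) ^ k = (a ^ k) * (a ^ k) := (Commute.refl a).mul_pow k
  have hy4 : (a ^ k) ^ 2 ^ (1 + 1) = 1 := by
    have h1 : ((a * a) ^ k) * ((a * a) ^ k) = 1 := mul_self_of_orderOf_two hk2
    rw [e1] at h1
    calc (a ^ k) ^ 2 ^ (1 + 1) = (a ^ k * a ^ k) * (a ^ k * a ^ k) := by
          rw [show (2 : ℕ) ^ (1 + 1) = 4 by norm_num]; group
      _ = 1 := h1
  have hy2 : ¬ (a ^ k) ^ 2 ^ 1 = 1 := by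
    rw [pow_one, pow_two, ← e1]
    intro h
    rw [h, orderOf_one] at hk2
    omega
  have ho : orderOf (a ^ k) = 2 ^ (1 + 1) := orderOf_eq_prime_pow hy2 hy4
  have hyS : a ^ k ∈ (S : Subgroup G) :=
    mem_sylow_of_two_pow S ho (cent_le_normalizer S (pow_mem ha k))
  have := hC.1 _ hyS
  apply hy2
  rw [pow_one, pow_two]
  exact this

include hyp hnc in
theorem card_R_odd : Odd (Nat.card ↥R) := by
  rw [← Nat.not_even_iff_odd]
  intro heven
  haveI : Fact (Nat.Prime 2) := ⟨Nat.prime_two⟩
  obtain ⟨x, hx⟩ := exists_prime_orderOf_dvd_card' (G := ↥R) 2 (even_iff_two_dvd.mp heven)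
  have h1 : orderOf (x : G) = 2 := by rw [Subgroup.orderOf_coe]; exact hx
  obtain ⟨-, hodd⟩ := (mem_R_iff hyp S hnc).mp x.2
  rw [h1] at hodd
  exact absurd hodd (by decide)

include hyp hnc hnn hC in
/-- the centralizers of the involutions of the quotient by `R` are elementary abelian -/
theorem quot_CI [hRn : (R).Normal] (y : G ⧸ R) (hy : orderOf y = 2) :
    IsMulCommutative ↥(Subgroup.centralizer ({y} : Set (G ⧸ R))) ∧
      ∀ c ∈ Subgroup.centralizer ({y} : Set (G ⧸ R)), c ^ 2 = 1 := by
  have hRH : R ≤ H := R_le_normalizer S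
  have hypQ := hyp_quot hyp S hnc hnn R hRH
  have hSE := stronglyEmbedded hyp S hnc hnn
  refine ⟨⟨⟨fun a b => ?_⟩⟩, ?_⟩
  · apply Subtype.ext
    rw [Subgroup.coe_mul, Subgroup.coe_mul]
    exact hypQ y hy a.1 b.1 (Subgroup.mem_centralizer_singleton_iff.mp a.2)
      (Subgroup.mem_centralizer_singleton_iff.mp b.2)
  · intro c hc
    rw [Subgroup.mem_centralizer_singleton_iff] at hc
    obtain ⟨t, ht, rfl⟩ := exists_invol_lift hyp S hnc hnn R hRH hy
    obtain ⟨a, rfl⟩ := QuotientGroup.mk_surjective c
    have hat : a * t = t * a := by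
      apply commute_of_quot hyp S hnc hnn R hRH ht
      rw [← QuotientGroup.eq_one_iff]
      simp only [QuotientGroup.mk_mul, QuotientGroup.mk_inv]
      rw [hc]; group
    obtain ⟨t₀, ht₀S, ht₀⟩ := exists_invol hyp S hnc
    obtain ⟨g, hg⟩ := isConj_iff.mp (isConj_of_invol hSE ht₀ ht)
    have ha' : g⁻¹ * a * g ∈ M := by
      apply mem_cent_of_commute_invol hyp S ht₀ ht₀S
      have et : t₀ = g⁻¹ * t * g := by rw [← hg]; group
      rw [et]
      calc g⁻¹ * a * g * (g⁻¹ * t * g) = g⁻¹ * (a * t) * g := by group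
        _ = g⁻¹ * (t * a) * g := by rw [hat]
        _ = g⁻¹ * t * g * (g⁻¹ * a * g) := by group
    have h1 := sq_mem_R hyp S hnc hC ha'
    have h2 : a * a ∈ R := by
      have := hRn.conj_mem _ h1 g
      have e : g * (g⁻¹ * a * g * (g⁻¹ * a * g)) * g⁻¹ = a * a := by group
      rwa [e] at this
    rw [pow_two, ← QuotientGroup.mk_mul]
    exact (QuotientGroup.eq_one_iff _).mpr h2

end final

end Cfsg.Agent.Helper2.AbInv
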