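import Mathlib
import Cfsg.Agent.S4065

/-!
# `PSL₂` in characteristic `2` is a CA-group
-/

set_option autoImplicit false

namespace Cfsg.Agent.Helper2.CAEv

universe u

variable (F : Type u) [Field F] [CharP F 2]

theorem sl_center_eq_bot :
    Subgroup.center (Matrix.SpecialLinearGroup (Fin 2) F) = ⊥ := by
  rw [eq_bot_iff]
  intro A hA
  rw [Matrix.SpecialLinearGroup.mem_center_iff] at hA
  obtain ⟨r, hr, hA⟩ := hA
  rw [Fintype.card_fin] at hr
  have hr1 : r = 1 := Cfsg.Agent.S4065.sq_eq_one' r (by rw [← sq]; exact hr)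
  rw [Subgroup.mem_bot]
  apply Subtype.ext
  rw [← hA, hr1]; simp

theorem sl_mk_injective : Function.Injective
    (QuotientGroup.mk' (Subgroup.center (Matrix.SpecialLinearGroup (Fin 2) F))) := by
  rw [← MonoidHom.ker_eq_bot_iff, QuotientGroup.ker_mk', sl_center_eq_bot]

theorem sl_nonscalar (X : Matrix.SpecialLinearGroup (Fin 2) F) (hX : X ≠ 1) :
    X.1 0 1 ≠ 0 ∨ X.1 0 0 - X.1 1 1 ≠ 0 ∨ X.1 1 0 ≠ 0 := by
  by_contra h
  push Not at h
  obtain ⟨h1, h2, h3⟩ := h
  apply hX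
  have hdet := X.2
  rw [Matrix.det_fin_two, h1, h3] at hdet
  have h00 : X.1 0 0 = X.1 1 1 := sub_eq_zero.1 h2
  have h11 : X.1 1 1 = 1 :=
    Cfsg.Agent.S4065.sq_eq_one' _ (by rw [h00] at hdet; linear_combination hdet)
  apply Subtype.ext
  ext i j
  fin_cases i <;> fin_cases j <;> simp [h1, h3, h00, h11]

/-- `PSL₂(F)` is a CA-group in characteristic `2` -/
theorem psl_ca (u a b : Matrix.ProjectiveSpecialLinearGroup (Fin 2) F) (hu : u ≠ 1)
    (ha : a * u = u * a) (hb : b * u = u * b) : a * b = b * a := by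
  obtain ⟨U, rfl⟩ := QuotientGroup.mk'_surjective _ u
  obtain ⟨A, rfl⟩ := QuotientGroup.mk'_surjective _ a
  obtain ⟨B, rfl⟩ := QuotientGroup.mk'_surjective _ b
  have hU : U ≠ 1 := by rintro rfl; exact hu (map_one _)
  rw [← map_mul, ← map_mul] at ha hb ⊢
  have hA := sl_mk_injective F ha
  have hB := sl_mk_injective F hb
  congr 1
  apply Subtype.ext
  have hA' : A.1 * U.1 = U.1 * A.1 := congrArg Subtype.val hA
  have hB' : B.1 * U.1 = U.1 * B.1 := congrArg Subtype.val hB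
  exact Cfsg.Agent.S4065.comm_of_comm_nonscalar U.1 A.1 B.1 (sl_nonscalar F U hU) hA' hB'

end Cfsg.Agent.Helper2.CAEv
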