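import Mathlib
import Cfsg.Agent.Helper2.AbInvO
import Cfsg.Agent.Helper2.AbInvN
import Cfsg.Agent.Helper2.CAEvH
import Cfsg.Agent.Helper4.L2pPSL
import Cfsg.Agent.Helper6.CycTIB
import Cfsg.Agent.S1230

/-!
# Groups in which the centralizers of involutions are abelian: the final assembly
-/

set_option autoImplicit false
set_option linter.style.haveILetI false

namespace Cfsg.Agent.Helper2.AbInv

open Cfsg Cfsg.Agent.Helper2

universe u

/-- a field of order a power of `2` has characteristic `2` -/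
theorem charP_two_of_card {F : Type*} [Field F] [Fintype F] {k : ℕ}
    (h : Fintype.card F = 2 ^ k) : CharP F 2 := by
  obtain ⟨p, hp⟩ := CharP.exists F
  haveI := hp
  obtain ⟨n, hpp, hn⟩ := FiniteField.card F p
  have h1 : p ∣ 2 ^ k := by
    rw [← h, hn]; exact dvd_pow_self p n.ne_zero
  have h2 : p = 2 := (Nat.prime_dvd_prime_iff_eq hpp Nat.prime_two).mp (hpp.dvd_of_dvd_pow h1)
  subst h2
  exact hp

/-- a field of characteristic `2` with at least four elements has an element other than `0` whose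
square is not `1` -/
theorem exists_sq_ne_one {F : Type*} [Field F] [Fintype F] [CharP F 2]
    (h : 4 ≤ Fintype.card F) : ∃ x : F, x ≠ 0 ∧ x ^ 2 ≠ 1 := by
  classical
  by_contra hcon
  push Not at hcon
  have hsub : (Finset.univ : Finset F) ⊆ {0, 1} := by
    intro x _
    by_cases hx : x = 0
    · simp [hx]
    · have := Cfsg.Agent.S4065.sq_eq_one' x (by rw [← sq]; exact hcon x hx)
      simp [this]
  have := Finset.card_le_card hsub
  rw [Finset.card_univ] at this
  have h2 : ({0, 1} : Finset F).card ≤ 2 := Finset.card_le_two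
  omega

/-- `PSL₂` and `SL₂` are isomorphic in characteristic `2` -/
noncomputable def pslEquivSl (F : Type*) [Field F] [CharP F 2] :
    Matrix.ProjectiveSpecialLinearGroup (Fin 2) F ≃* Matrix.SpecialLinearGroup (Fin 2) F :=
  (MulEquiv.ofBijective
    (QuotientGroup.mk' (Subgroup.center (Matrix.SpecialLinearGroup (Fin 2) F)))
    ⟨CAEv.sl_mk_injective F, QuotientGroup.mk'_surjective _⟩).symm

variable {G : Type u} [Group G] [Finite G]

/-- a noncyclic `2`-group has at least four elements -/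
theorem four_le_card_of_not_isCyclic {K : Type*} [Group K] [Finite K] (hK : IsPGroup 2 K)
    (hnc : ¬ IsCyclic K) : ∃ k : ℕ, Nat.card K = 2 ^ k ∧ 4 ≤ Nat.card K := by
  haveI : Fact (Nat.Prime 2) := ⟨Nat.prime_two⟩
  obtain ⟨k, hk⟩ := IsPGroup.iff_card.mp hK
  refine ⟨k, hk, ?_⟩
  rcases k with _ | _ | k
  · exfalso
    apply hnc
    rw [pow_zero] at hk
    haveI : Subsingleton K := (Nat.card_eq_one_iff_unique.mp hk).1
    infer_instance
  · exfalso
    apply hnc
    rw [zero_add, pow_one] at hk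
    exact isCyclic_of_prime_card hk
  · rw [hk]
    have : 2 ^ (k + 1 + 1) = 4 * 2 ^ k := by ring
    rw [this]
    have : 0 < 2 ^ k := pow_pos (by norm_num) k
    omega

section final

variable (hyp : Hyp G) (S : Sylow 2 G) (hnc : ¬ IsCyclic (S : Subgroup G))
  (hnn : ¬ (S : Subgroup G).Normal) (hC : Concl S)

local notation "M" => Subgroup.centralizer ((S : Subgroup G) : Set G)
local notation "H" => Subgroup.normalizer ((S : Subgroup G) : Set G)
local notation "R" => oddPart (Subgroup.centralizer ((S : Subgroup G) : Set G))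

include hyp hnc hnn hC in
theorem exists_equiv : ∃ (F : Type) (_ : Field F) (_ : Fintype F) (A : Type) (_ : CommGroup A)
    (_ : Finite A), CharP F 2 ∧ Odd (Nat.card A) ∧
      Nonempty (G ≃* Matrix.SpecialLinearGroup (Fin 2) F × A) := by
  classical
  haveI : Fact (Nat.Prime 2) := ⟨Nat.prime_two⟩
  haveI hRn : (R).Normal := R_normal hyp S hnc hC
  have hRH : R ≤ H := R_le_normalizer S
  have hTnc := quot_not_cyclic hyp S hnc hnn R hRH
  have hTnn := quot_not_normal hyp S hnc hnn R hRH
  obtain ⟨F, instF, instFin, hcardF, ⟨e⟩⟩ := Cfsg.Agent.S1230.result (quotSylow S R) hTnc hTnn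
    (quot_CI hyp S hnc hnn hC)
  obtain ⟨k, hk, h4⟩ := four_le_card_of_not_isCyclic (quotSylow S R).2 hTnc
  haveI hchar : CharP F 2 := charP_two_of_card (hcardF.trans hk)
  have hx := exists_sq_ne_one (F := F) (by rw [hcardF]; exact h4)
  haveI : IsSimpleGroup (Matrix.ProjectiveSpecialLinearGroup (Fin 2) F) :=
    Cfsg.Agent.Helper4.L2p.isSimpleGroup_PSL2 hx
  haveI hsimple : IsSimpleGroup (G ⧸ R) := e.isSimpleGroup
  -- the subgroup generated by the involutions
  set K := involClosure G with hK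
  have hcomm : ∀ a ∈ K, ∀ b ∈ R, a * b = b * a := by
    intro a ha b hb
    exact (commute_involClosure (fun v hv => R_commute_invol hyp S hnc hC hb hv) a ha).symm
  -- the image of `K` in the quotient is everything
  have hmap : K.map (QuotientGroup.mk' R) = ⊤ := by
    have hnorm : (K.map (QuotientGroup.mk' R)).Normal :=
      Subgroup.Normal.map inferInstance _ (QuotientGroup.mk'_surjective R)
    rcases hnorm.eq_bot_or_eq_top with h | h
    · exfalso
      obtain ⟨t, htS, ht⟩ := exists_invol hyp S hnc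
      have h1 : (QuotientGroup.mk' R) t ∈ K.map (QuotientGroup.mk' R) :=
        Subgroup.mem_map_of_mem _ (invol_mem_involClosure ht)
      rw [h, Subgroup.mem_bot] at h1
      have h2 : t ∈ R := (QuotientGroup.eq_one_iff t).mp h1
      exact core_no_invol hyp S hnc hnn R hRH h2 ht
    · exact h
  have hKR : ∀ g : G, ∃ x ∈ K, x⁻¹ * g ∈ R := by
    intro g
    have : (QuotientGroup.mk' R) g ∈ K.map (QuotientGroup.mk' R) := by
      rw [hmap]; exact Subgroup.mem_top _
    obtain ⟨x, hx, hxg⟩ := Subgroup.mem_map.mp this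
    exact ⟨x, hx, QuotientGroup.eq.mp hxg⟩
  -- the homomorphism from `K` to `SL₂`
  let φ : ↥K →* Matrix.SpecialLinearGroup (Fin 2) F :=
    (pslEquivSl F).toMonoidHom.comp (e.toMonoidHom.comp ((QuotientGroup.mk' R).comp K.subtype))
  have hφ : ∀ x : ↥K, φ x = 1 ↔ (x : G) ∈ R := by
    intro x
    show (pslEquivSl F) (e ((x : G) : G ⧸ R)) = 1 ↔ _
    rw [MulEquiv.map_eq_one_iff, MulEquiv.map_eq_one_iff, QuotientGroup.eq_one_iff]
  have hcenter : ∀ x : ↥K, (x : G) ∈ R → x ∈ Subgroup.center ↥K := by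
    intro x hx
    rw [Subgroup.mem_center_iff]
    intro g
    apply Subtype.ext
    rw [Subgroup.coe_mul, Subgroup.coe_mul]
    exact hcomm g.1 g.2 x.1 hx
  have hker : φ.ker ≤ Subgroup.center ↥K := by
    intro x hx
    exact hcenter x ((hφ x).mp (MonoidHom.mem_ker.mp hx))
  have hint : K ⊓ R = ⊥ := by
    rw [eq_bot_iff]
    intro z hz
    rw [Subgroup.mem_inf] at hz
    rw [Subgroup.mem_bot]
    have hodd : Odd (orderOf (⟨z, hz.1⟩ : ↥K)) := by
      rw [Subgroup.orderOf_mk]
      exact ((mem_R_iff hyp S hnc).mp hz.2).2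
    have := eq_one_of_central_of_hom_sl2 involClosure_gen φ hker (hcenter ⟨z, hz.1⟩ hz.2) hodd
    exact congrArg Subtype.val this
  have hsup : K ⊔ R = ⊤ := by
    rw [eq_top_iff]
    intro g _
    obtain ⟨x, hx, hxg⟩ := hKR g
    have : g = x * (x⁻¹ * g) := by group
    rw [this]
    exact Subgroup.mul_mem_sup hx hxg
  -- `K` is isomorphic to `SL₂`
  have hφbij : Function.Bijective φ := by
    constructor
    · rw [← MonoidHom.ker_eq_bot_iff, eq_bot_iff]
      intro x hx
      rw [Subgroup.mem_bot]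
      have h1 : (x : G) ∈ K ⊓ R := Subgroup.mem_inf.mpr ⟨x.2, (hφ x).mp (MonoidHom.mem_ker.mp hx)⟩
      rw [hint, Subgroup.mem_bot] at h1
      exact Subtype.ext h1
    · intro y
      obtain ⟨g, hg⟩ := QuotientGroup.mk_surjective (e.symm ((pslEquivSl F).symm y))
      obtain ⟨x, hx, hxg⟩ := hKR g
      refine ⟨⟨x, hx⟩, ?_⟩
      show (pslEquivSl F) (e ((x : G) : G ⧸ R)) = y
      have : ((x : G) : G ⧸ R) = (g : G ⧸ R) := QuotientGroup.eq.mpr hxg
      rw [this, hg, MulEquiv.apply_symm_apply, MulEquiv.apply_symm_apply]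
  let eK : ↥K ≃* Matrix.SpecialLinearGroup (Fin 2) F := MulEquiv.ofBijective φ hφbij
  -- the group is the direct product
  let e1 : ↥K × ↥R ≃* ↥(K ⊔ R) := Cfsg.Agent.Helper6.prodEquivSup K R hcomm hint
  let e2 : ↥(K ⊔ R) ≃* G := (MulEquiv.subgroupCongr hsup).trans Subgroup.topEquiv
  -- a copy of `R` in the lowest universe
  letI instR : CommGroup ↥R :=
    { (inferInstance : Group ↥R) with
      mul_comm := fun a b => Subtype.ext
        (cent_comm hyp S hnc a.1 (R_le_cent S a.2) b.1 (R_le_cent S b.2)) }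
  let eqv : {i : ℕ // i < Nat.card ↥R} ≃ ↥R :=
    Fin.equivSubtype.symm.trans (Finite.equivFin ↥R).symm
  letI instA : CommGroup {i : ℕ // i < Nat.card ↥R} := eqv.commGroup
  let eA : {i : ℕ // i < Nat.card ↥R} ≃* ↥R := eqv.mulEquiv
  refine ⟨F, instF, instFin, {i : ℕ // i < Nat.card ↥R}, instA, Finite.of_equiv _ eqv.symm,
    hchar, ?_, ⟨?_⟩⟩
  · rw [Nat.card_congr eqv]
    exact card_R_odd hyp S hnc
  · exact (e2.symm.trans e1.symm).trans (MulEquiv.prodCongr eK eA.symm)

end final

end Cfsg.Agent.Helper2.AbInv
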