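import Mathlib

set_option autoImplicit false

namespace Cfsg.Agent.Helper2.AbelSylowHyp

open MulAction Subgroup

variable {G : Type*} [Group G]

/-- A group without subgroups of index two has no nontrivial homomorphism to a `2`-group. -/
theorem hom_trivial_of_no_index_two [Finite G] (hG : ∀ H : Subgroup G, H.index ≠ 2)
    {A : Type*} [Group A] [Finite A] (hA : IsPGroup 2 A) (f : G →* A) (x : G) : f x = 1 := by
  by_contra hx
  have hp : Fact (Nat.Prime 2) := ⟨Nat.prime_two⟩
  have hR : IsPGroup 2 f.range := hA.to_subgroup _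
  obtain ⟨a, ha⟩ := IsPGroup.iff_card.mp hR
  have ha0 : a ≠ 0 := by
    rintro rfl
    rw [pow_zero] at ha
    have hbot := Subgroup.card_eq_one.mp ha
    apply hx
    have hm : f x ∈ f.range := ⟨x, rfl⟩
    rw [hbot, Subgroup.mem_bot] at hm
    exact hm
  obtain ⟨K, hK⟩ := Sylow.exists_subgroup_card_pow_prime (G := f.range) 2 (n := a - 1)
    (by rw [ha]; exact pow_dvd_pow 2 (by omega))
  have hKi : K.index = 2 := by
    have h1 := K.card_mul_index
    rw [hK, ha] at h1
    have h2 : 2 ^ a = 2 ^ (a - 1) * 2 := by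
      rw [← pow_succ]
      congr 1
      omega
    rw [h2] at h1
    exact Nat.eq_of_mul_eq_mul_left (by positivity) h1
  apply hG (K.comap f.rangeRestrict)
  rw [Subgroup.index_comap_of_surjective _ f.rangeRestrict_surjective]
  exact hKi

/-- Parity bookkeeping for products in a commutative monoid. -/
theorem prod_parity {A : Type*} [CommMonoid A] (P Q : A → Prop) (hP1 : P 1) (hQ1 : Q 1)
    (hP : ∀ a b, P a → P b → P (a * b))
    (hQ : ∀ a b, P a → P b → (Q (a * b) ↔ (Q a ↔ Q b)))
    {ι : Type*} (s : Finset ι) (f : ι → A) (k : ι → ℕ)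
    (hf : ∀ i ∈ s, P (f i) ∧ (Q (f i) ↔ Even (k i))) :
    P (∏ i ∈ s, f i) ∧ (Q (∏ i ∈ s, f i) ↔ Even (∑ i ∈ s, k i)) := by
  classical
  induction s using Finset.induction_on with
  | empty => simp [hP1, hQ1]
  | insert a s ha ih =>
    have ih' := ih (fun i hi => hf i (Finset.mem_insert_of_mem hi))
    have hfa := hf a (Finset.mem_insert_self a s)
    rw [Finset.prod_insert ha, Finset.sum_insert ha]
    refine ⟨hP _ _ hfa.1 ih'.1, ?_⟩
    rw [hQ _ _ hfa.1 ih'.1, hfa.2, ih'.2, Nat.even_add]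

open scoped IsMulCommutative in
/-- The hyperplane argument for commutative Sylow `2`-subgroups. -/
theorem exists_normalizer_conj_mem [Finite G] (hG : ∀ H : Subgroup G, H.index ≠ 2)
    (S : Sylow 2 G) [hS : IsMulCommutative (S : Subgroup G)] (Ω W : Subgroup G)
    (hΩ : ∀ x, x ∈ Ω ↔ x ∈ S ∧ x ^ 2 = 1)
    (hidx : ∀ a ∈ Ω, ∀ b ∈ Ω, (a * b ∈ W ↔ (a ∈ W ↔ b ∈ W)))
    (t : G) (ht : orderOf t = 2) (htS : t ∈ S) :
    ∃ n ∈ Subgroup.normalizer ((S : Subgroup G) : Set G), n * t * n⁻¹ ∈ W := by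
  classical
  by_contra hcon
  push Not at hcon
  have hp : Fact (Nat.Prime 2) := ⟨Nat.prime_two⟩
  have ht2 : t ^ 2 = 1 := by rw [← ht]; exact pow_orderOf_eq_one t
  have : Fintype (Quotient (orbitRel (zpowers t) (G ⧸ (S : Subgroup G)))) := Fintype.ofFinite _
  have htr := MonoidHom.transfer_eq_prod_quotient_orbitRel_zpowers_quot
    (MonoidHom.id (S : Subgroup G)) t
  have h1 : MonoidHom.transfer (MonoidHom.id (S : Subgroup G)) t = 1 :=
    hom_trivial_of_no_index_two hG S.isPGroup' _ t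
  rw [h1] at htr
  have hpar := prod_parity (A := (S : Subgroup G)) (fun a => (a : G) ∈ Ω) (fun a => (a : G) ∈ W)
    (one_mem _) (one_mem _) (fun a b ha hb => mul_mem ha hb)
    (fun a b ha hb => hidx _ ha _ hb) Finset.univ
    (fun q : Quotient (orbitRel (zpowers t) (G ⧸ (S : Subgroup G))) =>
      (MonoidHom.id (S : Subgroup G))
        ⟨q.out.out⁻¹ * t ^ Function.minimalPeriod (t • ·) q.out * q.out.out,
          QuotientGroup.out_conj_pow_minimalPeriod_mem (S : Subgroup G) t q.out⟩)
    (fun q => Function.minimalPeriod (t • ·) q.out) ?_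
  · rw [← htr, ← Subgroup.index_eq_sum_minimalPeriod] at hpar
    have hodd : ¬ Even (S : Subgroup G).index := by
      rw [even_iff_two_dvd]
      exact S.not_dvd_index
    exact hodd (hpar.2.mp (one_mem _))
  · intro q _
    set k := Function.minimalPeriod (t • ·) q.out with hk
    set g := q.out.out with hg
    have hmemS : g⁻¹ * t ^ k * g ∈ (S : Subgroup G) :=
      QuotientGroup.out_conj_pow_minimalPeriod_mem (S : Subgroup G) t q.out
    have hkd : k ∣ 2 := by
      rw [← ht]
      exact MulAction.period_dvd_orderOf t q.out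
    have hk12 : k = 1 ∨ k = 2 := (Nat.dvd_prime Nat.prime_two).mp hkd
    show (g⁻¹ * t ^ k * g ∈ Ω) ∧ (g⁻¹ * t ^ k * g ∈ W ↔ Even k)
    rcases hk12 with h | h
    · rw [h, pow_one] at hmemS ⊢
      have hsq : (g⁻¹ * t * g) ^ 2 = 1 := by
        rw [pow_two]
        calc g⁻¹ * t * g * (g⁻¹ * t * g) = g⁻¹ * (t * t) * g := by group
          _ = 1 := by rw [← pow_two, ht2]; group
      refine ⟨(hΩ _).mpr ⟨hmemS, hsq⟩, ?_⟩
      obtain ⟨n, hn, hn'⟩ := Sylow.conj_eq_normalizer_conj_of_mem S t g htS hmemS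
      have := hcon n⁻¹ (inv_mem hn)
      rw [inv_inv] at this
      rw [hn']
      constructor
      · intro h'; exact absurd h' this
      · intro h'; exact absurd h' (by decide)
    · rw [h, ht2]
      have : g⁻¹ * 1 * g = 1 := by group
      rw [this]
      exact ⟨one_mem _, by simp⟩

end Cfsg.Agent.Helper2.AbelSylowHyp
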