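import Mathlib
import Cfsg.Agent.Helper5.SubnormalSylow2
import Cfsg.Agent.Helper2.Component

set_option autoImplicit false

namespace Cfsg.Agent.Helper2.AltFix

variable {α : Type*} [Fintype α] [DecidableEq α]

/-- Pointwise stabilizer of `s` in the alternating group. -/
def fix (s : Set α) : Subgroup ↥(alternatingGroup α) where
  carrier := {g | ∀ x ∈ s, (g : Equiv.Perm α) x = x}
  one_mem' := fun _ _ => rfl
  mul_mem' := by
    intro a b ha hb x hx
    show (a : Equiv.Perm α) ((b : Equiv.Perm α) x) = x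
    rw [hb x hx, ha x hx]
  inv_mem' := by
    intro a ha x hx
    show ((a : Equiv.Perm α)⁻¹) x = x
    rw [Equiv.Perm.inv_eq_iff_eq]
    exact (ha x hx).symm

theorem mem_fix {s : Set α} {g : ↥(alternatingGroup α)} :
    g ∈ fix s ↔ ∀ x ∈ s, (g : Equiv.Perm α) x = x := Iff.rfl

theorem fix_anti {s t : Set α} (h : s ⊆ t) : fix t ≤ fix s :=
  fun _ hg x hx => hg x (h hx)

theorem fix_inf (s t : Set α) : fix s ⊓ fix t = fix (s ∪ t) := by
  ext g
  rw [Subgroup.mem_inf, mem_fix, mem_fix, mem_fix]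
  constructor
  · rintro ⟨h1, h2⟩ x (hx | hx)
    · exact h1 x hx
    · exact h2 x hx
  · intro h
    exact ⟨fun x hx => h x (Or.inl hx), fun x hx => h x (Or.inr hx)⟩

omit [Fintype α] [DecidableEq α] in
theorem perm_inv_apply_self (f : Equiv.Perm α) (x : α) : f⁻¹ (f x) = x :=
  Equiv.Perm.inv_eq_iff_eq.mpr rfl

theorem map_conj_fix (g : ↥(alternatingGroup α)) (s : Set α) :
    (fix s).map (MulAut.conj g).toMonoidHom = fix ((g : Equiv.Perm α) '' s) := by
  ext h
  rw [Subgroup.mem_map, mem_fix]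
  constructor
  · rintro ⟨k, hk, rfl⟩ x ⟨y, hy, rfl⟩
    show (g : Equiv.Perm α) ((k : Equiv.Perm α) ((g : Equiv.Perm α)⁻¹ ((g : Equiv.Perm α) y))) = _
    rw [perm_inv_apply_self, hk y hy]
  · intro hh
    refine ⟨g⁻¹ * h * g, ?_, ?_⟩
    · intro x hx
      show ((g : Equiv.Perm α)⁻¹) ((h : Equiv.Perm α) ((g : Equiv.Perm α) x)) = x
      rw [hh _ ⟨x, hx, rfl⟩, perm_inv_apply_self]
    · show g * (g⁻¹ * h * g) * g⁻¹ = h
      group

/-- The three-cycle `a → b → c → a`. -/
def c3 (a b c : α) (hab : a ≠ b) (hbc : b ≠ c) : ↥(alternatingGroup α) :=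
  ⟨Equiv.swap a b * Equiv.swap b c, by
    rw [Equiv.Perm.mem_alternatingGroup, Equiv.Perm.sign_mul, Equiv.Perm.sign_swap hab,
      Equiv.Perm.sign_swap hbc]; rfl⟩

theorem c3_apply_of_ne {a b c : α} (hab : a ≠ b) (hbc : b ≠ c) (x : α)
    (hxa : x ≠ a) (hxb : x ≠ b) (hxc : x ≠ c) :
    ((c3 a b c hab hbc : ↥(alternatingGroup α)) : Equiv.Perm α) x = x := by
  show Equiv.swap a b (Equiv.swap b c x) = x
  rw [Equiv.swap_apply_of_ne_of_ne hxb hxc, Equiv.swap_apply_of_ne_of_ne hxa hxb]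

theorem c3_apply_fst {a b c : α} (hab : a ≠ b) (hbc : b ≠ c) (hac : a ≠ c) :
    ((c3 a b c hab hbc : ↥(alternatingGroup α)) : Equiv.Perm α) a = b := by
  show Equiv.swap a b (Equiv.swap b c a) = b
  rw [Equiv.swap_apply_of_ne_of_ne hab hac, Equiv.swap_apply_left]

theorem c3_apply_snd {a b c : α} (hab : a ≠ b) (hbc : b ≠ c) (hac : a ≠ c) :
    ((c3 a b c hab hbc : ↥(alternatingGroup α)) : Equiv.Perm α) b = c := by
  show Equiv.swap a b (Equiv.swap b c b) = c
  rw [Equiv.swap_apply_left, Equiv.swap_apply_of_ne_of_ne (Ne.symm hac) (Ne.symm hbc)]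

theorem c3_apply_trd {a b c : α} (hab : a ≠ b) (hbc : b ≠ c) :
    ((c3 a b c hab hbc : ↥(alternatingGroup α)) : Equiv.Perm α) c = a := by
  show Equiv.swap a b (Equiv.swap b c c) = a
  rw [Equiv.swap_apply_right, Equiv.swap_apply_right]

theorem c3_mem_fix {s : Set α} {a b c : α} (hab : a ≠ b) (hbc : b ≠ c)
    (ha : a ∉ s) (hb : b ∉ s) (hc : c ∉ s) : c3 a b c hab hbc ∈ fix s := by
  intro x hx
  apply c3_apply_of_ne
  · rintro rfl; exact ha hx
  · rintro rfl; exact hb hx
  · rintro rfl; exact hc hx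

omit [Fintype α] [DecidableEq α] in
theorem exists_two (t : Set α) [Finite α] (u v : α) (h : 4 ≤ t.ncard) :
    ∃ a b, a ∈ t ∧ b ∈ t ∧ a ≠ b ∧ a ≠ u ∧ a ≠ v ∧ b ≠ u ∧ b ≠ v := by
  have h1 : t.ncard - ({u, v} : Set α).ncard ≤ (t \ {u, v}).ncard :=
    Set.le_ncard_diff _ _ (Set.toFinite _)
  have h2 : ({u, v} : Set α).ncard ≤ 2 := by
    calc ({u, v} : Set α).ncard ≤ ({v} : Set α).ncard + 1 := Set.ncard_insert_le u {v}
      _ = 2 := by rw [Set.ncard_singleton]
  have h3 : 1 < (t \ {u, v}).ncard := by omega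
  obtain ⟨a, b, ha, hb, hab⟩ := (Set.one_lt_ncard_iff (Set.toFinite _)).mp h3
  simp only [Set.mem_diff, Set.mem_insert_iff, Set.mem_singleton_iff, not_or] at ha hb
  exact ⟨a, b, ha.1, hb.1, hab, ha.2.1, ha.2.2, hb.2.1, hb.2.2⟩

omit [Fintype α] [DecidableEq α] in
theorem exists_two' (t : Set α) [Finite α] (u : α) (h : 3 ≤ t.ncard) :
    ∃ a b, a ∈ t ∧ b ∈ t ∧ a ≠ b ∧ a ≠ u ∧ b ≠ u := by
  have h1 : t.ncard - ({u} : Set α).ncard ≤ (t \ {u}).ncard :=
    Set.le_ncard_diff _ _ (Set.toFinite _)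
  rw [Set.ncard_singleton] at h1
  have h3 : 1 < (t \ {u}).ncard := by omega
  obtain ⟨a, b, ha, hb, hab⟩ := (Set.one_lt_ncard_iff (Set.toFinite _)).mp h3
  simp only [Set.mem_diff, Set.mem_singleton_iff] at ha hb
  exact ⟨a, b, ha.1, hb.1, hab, ha.2, hb.2⟩


/-- Every point outside `s` is moved by some element of `fix s` (if `|sᶜ| ≥ 3`). -/
theorem exists_moves {s : Set α} (h : 3 ≤ sᶜ.ncard) (x : α) (hx : x ∉ s) :
    ∃ g ∈ fix s, (g : Equiv.Perm α) x ≠ x := by
  obtain ⟨a, b, ha, hb, hab, hax, hbx⟩ := exists_two' sᶜ x h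
  refine ⟨c3 x a b (Ne.symm hax) hab, c3_mem_fix _ _ hx ha hb, ?_⟩
  rw [c3_apply_fst _ _ (Ne.symm hbx)]
  exact hax

theorem subset_of_fix_le {s t : Set α} (h : 3 ≤ sᶜ.ncard) (hle : fix s ≤ fix t) : t ⊆ s := by
  intro x hxt
  by_contra hxs
  obtain ⟨g, hg, hgx⟩ := exists_moves h x hxs
  exact hgx (hle hg x hxt)

theorem fix_eq_iff {s t : Set α} (hs : 3 ≤ sᶜ.ncard) (ht : 3 ≤ tᶜ.ncard) :
    fix s = fix t ↔ s = t := by
  constructor
  · intro h
    exact Set.Subset.antisymm (subset_of_fix_le ht (le_of_eq h.symm)) (subset_of_fix_le hs (le_of_eq h))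
  · rintro rfl; rfl

/-- The centralizer of `fix s` is `fix sᶜ` (if `|sᶜ| ≥ 4`). -/
theorem centralizer_fix {s : Set α} (h : 4 ≤ sᶜ.ncard) :
    Subgroup.centralizer (fix s : Set ↥(alternatingGroup α)) = fix sᶜ := by
  apply le_antisymm
  · intro σ hσ w hw
    by_contra hne
    obtain ⟨a, b, ha, hb, hab, haw, haw', hbw, hbw'⟩ :=
      exists_two sᶜ w ((σ : Equiv.Perm α) w) h
    have hτ : c3 w a b (Ne.symm haw) hab ∈ fix s := c3_mem_fix _ _ hw ha hb
    have hc := Subgroup.mem_centralizer_iff.mp hσ _ hτ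
    have hc' := congrArg (fun z : ↥(alternatingGroup α) => (z : Equiv.Perm α) w) hc
    simp only [Subgroup.coe_mul, Equiv.Perm.mul_apply] at hc'
    rw [c3_apply_fst _ _ (Ne.symm hbw),
      c3_apply_of_ne _ _ _ hne (Ne.symm haw') (Ne.symm hbw')] at hc'
    exact haw ((σ : Equiv.Perm α).injective hc'.symm)
  · intro σ hσ
    rw [Subgroup.mem_centralizer_iff]
    intro τ hτ
    apply Subtype.ext
    rw [Subgroup.coe_mul, Subgroup.coe_mul]
    have hd : Equiv.Perm.Disjoint (τ : Equiv.Perm α) (σ : Equiv.Perm α) := by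
      intro x
      by_cases hx : x ∈ s
      · exact Or.inl (hτ x hx)
      · exact Or.inr (hσ x hx)
    exact hd.commute.eq

/-- `fix s` has even order if `|sᶜ| ≥ 4`. -/
theorem even_card_fix {s : Set α} (h : 4 ≤ sᶜ.ncard) : Even (Nat.card ↥(fix s)) := by
  have h3 : 2 < sᶜ.ncard := by omega
  obtain ⟨a, b, c, ha, hb, hc, hab, hac, hbc⟩ := (Set.two_lt_ncard_iff (Set.toFinite _)).mp h3
  obtain ⟨d, e, hd, -, -, hda, hdb, -, -⟩ := exists_two sᶜ a b h
  -- choose the fourth point
  have : ∃ d, d ∈ sᶜ ∧ d ≠ a ∧ d ≠ b ∧ d ≠ c := by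
    by_contra hcon
    push Not at hcon
    have hsub : sᶜ ⊆ {a, b, c} := by
      intro x hx
      by_contra hx'
      simp only [Set.mem_insert_iff, Set.mem_singleton_iff, not_or] at hx'
      exact hx'.2.2 (hcon x hx hx'.1 hx'.2.1)
    have := Set.ncard_le_ncard hsub (Set.toFinite _)
    have h5 : ({a, b, c} : Set α).ncard ≤ 3 := by
      calc ({a, b, c} : Set α).ncard ≤ ({b, c} : Set α).ncard + 1 := Set.ncard_insert_le a _
        _ ≤ (({c} : Set α).ncard + 1) + 1 := Nat.add_le_add_right (Set.ncard_insert_le b _) 1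
        _ = 3 := by rw [Set.ncard_singleton]
    omega
  obtain ⟨d, hd, hda, hdb, hdc⟩ := this
  have hmem : Equiv.swap a b * Equiv.swap c d ∈ alternatingGroup α := by
    rw [Equiv.Perm.mem_alternatingGroup, Equiv.Perm.sign_mul, Equiv.Perm.sign_swap hab,
      Equiv.Perm.sign_swap (Ne.symm hdc)]; rfl
  set g : ↥(alternatingGroup α) := ⟨Equiv.swap a b * Equiv.swap c d, hmem⟩ with hg
  have hgfix : g ∈ fix s := by
    intro x hx
    have hxa : x ≠ a := by rintro rfl; exact ha hx
    have hxb : x ≠ b := by rintro rfl; exact hb hx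
    have hxc : x ≠ c := by rintro rfl; exact hc hx
    have hxd : x ≠ d := by rintro rfl; exact hd hx
    show Equiv.swap a b (Equiv.swap c d x) = x
    rw [Equiv.swap_apply_of_ne_of_ne hxc hxd, Equiv.swap_apply_of_ne_of_ne hxa hxb]
  have hg2 : g ^ 2 = 1 := by
    apply Subtype.ext
    rw [Subgroup.coe_pow, Subgroup.coe_one]
    show (Equiv.swap a b * Equiv.swap c d) ^ 2 = 1
    have hcomm : Commute (Equiv.swap a b) (Equiv.swap c d) := by
      apply Equiv.Perm.Disjoint.commute
      intro x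
      by_cases hxa : x = a
      · right; subst hxa; exact Equiv.swap_apply_of_ne_of_ne hac (Ne.symm hda)
      · by_cases hxb : x = b
        · right; subst hxb; exact Equiv.swap_apply_of_ne_of_ne hbc (Ne.symm hdb)
        · left; exact Equiv.swap_apply_of_ne_of_ne hxa hxb
    rw [hcomm.mul_pow, pow_two, pow_two, Equiv.swap_mul_self, Equiv.swap_mul_self, one_mul]
  have hg1 : g ≠ 1 := by
    intro h1
    have h2 := congrArg (fun z : ↥(alternatingGroup α) => (z : Equiv.Perm α) a) h1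
    simp only [Subgroup.coe_one, Equiv.Perm.one_apply] at h2
    have h3 : (g : Equiv.Perm α) a = b := by
      show Equiv.swap a b (Equiv.swap c d a) = b
      rw [Equiv.swap_apply_of_ne_of_ne hac (Ne.symm hda), Equiv.swap_apply_left]
    rw [h3] at h2
    exact hab h2.symm
  have ho : orderOf (⟨g, hgfix⟩ : ↥(fix s)) = 2 := by
    apply orderOf_eq_prime
    · apply Subtype.ext
      rw [Subgroup.coe_pow, Subgroup.coe_one]
      exact hg2
    · intro h1
      apply hg1
      exact congrArg Subtype.val h1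
  have := orderOf_dvd_natCard (⟨g, hgfix⟩ : ↥(fix s))
  rw [ho] at this
  exact even_iff_two_dvd.mpr this


/-- An even involution moves at least four points. -/
theorem four_le_card_support_of_even_involution (σ : Equiv.Perm α) (h2 : orderOf σ = 2)
    (hs : Equiv.Perm.sign σ = 1) : 4 ≤ σ.support.card := by
  have hp : (orderOf σ).Prime := by rw [h2]; exact Nat.prime_two
  obtain ⟨k, hk⟩ := Equiv.Perm.cycleType_prime_order hp
  rw [h2] at hk
  have hsum : σ.cycleType.sum = 2 * (k + 1) := by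
    rw [hk, Multiset.sum_replicate, smul_eq_mul, mul_comm]
  have hcard : Multiset.card σ.cycleType = k + 1 := by rw [hk, Multiset.card_replicate]
  rw [Equiv.Perm.sign_of_cycleType, hsum, hcard] at hs
  rw [← Equiv.Perm.sum_cycleType, hsum]
  rcases Nat.even_or_odd k with hke | hko
  · exfalso
    have hodd : Odd (2 * (k + 1) + (k + 1)) := by
      obtain ⟨m, hm⟩ := hke
      exact ⟨3 * m + 1, by omega⟩
    rw [hodd.neg_one_pow] at hs
    exact absurd hs (by decide)
  · obtain ⟨m, hm⟩ := hko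
    omega

/-- `fix s` has odd order if `|sᶜ| ≤ 3`. -/
theorem odd_card_fix {s : Set α} (h : sᶜ.ncard ≤ 3) : Odd (Nat.card ↥(fix s)) := by
  rw [← Nat.not_even_iff_odd]
  intro he
  haveI : Fact (Nat.Prime 2) := ⟨Nat.prime_two⟩
  obtain ⟨g, hg⟩ := exists_prime_orderOf_dvd_card' 2 (even_iff_two_dvd.mp he)
  have h1 : orderOf ((g : ↥(alternatingGroup α)) : Equiv.Perm α) = 2 := by
    rw [Subgroup.orderOf_coe, Subgroup.orderOf_coe, hg]
  have h2 : Equiv.Perm.sign ((g : ↥(alternatingGroup α)) : Equiv.Perm α) = 1 :=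
    Equiv.Perm.mem_alternatingGroup.mp (g : ↥(alternatingGroup α)).2
  have h4 := four_le_card_support_of_even_involution _ h1 h2
  have hsub : ((((g : ↥(alternatingGroup α)) : Equiv.Perm α).support : Finset α) : Set α) ⊆ sᶜ := by
    intro x hx
    rw [Finset.mem_coe, Equiv.Perm.mem_support] at hx
    intro hxs
    exact hx (g.2 x hxs)
  have h5 := Set.ncard_le_ncard hsub (Set.toFinite _)
  rw [Set.ncard_coe_finset] at h5
  omega

/-- Normalizer of `fix s`. -/
theorem mem_normalizer_fix_iff {s : Set α} (h : 3 ≤ sᶜ.ncard) (g : ↥(alternatingGroup α)) :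
    g ∈ Subgroup.normalizer (fix s : Set ↥(alternatingGroup α)) ↔
      (g : Equiv.Perm α) '' s = s := by
  rw [Subgroup.mem_normalizer_iff_map_conj_eq]
  have h1 := map_conj_fix g s
  rw [MulEquiv.toMonoidHom_eq_coe] at h1
  rw [h1]
  have h2 : 3 ≤ ((g : Equiv.Perm α) '' s)ᶜ.ncard := by
    rw [← Set.image_compl_eq (g : Equiv.Perm α).bijective,
      Set.ncard_image_of_injective _ (g : Equiv.Perm α).injective]
    exact h
  exact fix_eq_iff h2 h


omit [Fintype α] [DecidableEq α] in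
theorem exists_four (t : Set α) [Finite α] (h : 4 ≤ t.ncard) :
    ∃ a b c d, a ∈ t ∧ b ∈ t ∧ c ∈ t ∧ d ∈ t ∧ a ≠ b ∧ a ≠ c ∧ a ≠ d ∧ b ≠ c ∧ b ≠ d ∧ c ≠ d := by
  have h3 : 1 < t.ncard := by omega
  obtain ⟨a, b, ha, hb, hab⟩ := (Set.one_lt_ncard_iff (Set.toFinite _)).mp h3
  obtain ⟨c, d, hc, hd, hcd, hca, hcb, hda, hdb⟩ := exists_two t a b h
  exact ⟨a, b, c, d, ha, hb, hc, hd, hab, Ne.symm hca, Ne.symm hda, Ne.symm hcb, Ne.symm hdb, hcd⟩

theorem not_isMulCommutative_alt (h : 4 ≤ Fintype.card α) :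
    ¬ IsMulCommutative ↥(alternatingGroup α) := by
  intro hc
  have h4 : 4 ≤ (Set.univ : Set α).ncard := by
    rw [Set.ncard_univ, Nat.card_eq_fintype_card]; exact h
  obtain ⟨a, b, c, d, -, -, -, -, hab, hac, had, hbc, hbd, hcd⟩ := exists_four _ h4
  have h1 := hc.is_comm.comm (c3 a b c hab hbc) (c3 a b d hab hbd)
  have h2 := congrArg (fun z : ↥(alternatingGroup α) => (z : Equiv.Perm α) c) h1
  simp only [Subgroup.coe_mul, Equiv.Perm.mul_apply] at h2
  rw [c3_apply_of_ne hab hbd c (Ne.symm hac) (Ne.symm hbc) hcd, c3_apply_trd,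
    c3_apply_fst hab hbd had] at h2
  exact hab h2

theorem isQuasisimple_alt (h : 5 ≤ Fintype.card α) :
    Cfsg.IsQuasisimple ↥(alternatingGroup α) := by
  apply Cfsg.Agent.Helper5.isQuasisimple_of_simple_nonabelian
  · apply alternatingGroup.isSimpleGroup
    rw [Nat.card_eq_fintype_card]; exact h
  · exact not_isMulCommutative_alt (by omega)

section embed

variable (s : Set α) [DecidablePred (· ∈ s)]

/-- The embedding of the alternating group on the complement of `s`. -/
def embed : ↥(alternatingGroup {x // x ∉ s}) →* ↥(alternatingGroup α) :=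
  ((Equiv.Perm.ofSubtype (p := fun x => x ∉ s)).comp
      (alternatingGroup {x // x ∉ s}).subtype).codRestrict (alternatingGroup α) (fun σ => by
    rw [Equiv.Perm.mem_alternatingGroup, MonoidHom.comp_apply, Equiv.Perm.sign_ofSubtype]
    exact Equiv.Perm.mem_alternatingGroup.mp σ.2)

theorem embed_coe (σ : ↥(alternatingGroup {x // x ∉ s})) :
    ((embed s σ : ↥(alternatingGroup α)) : Equiv.Perm α) =
      Equiv.Perm.ofSubtype (σ : Equiv.Perm {x // x ∉ s}) := rfl

theorem embed_injective : Function.Injective (embed s) := by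
  intro σ τ h
  have h1 := congrArg (fun z : ↥(alternatingGroup α) => (z : Equiv.Perm α)) h
  simp only [embed_coe] at h1
  exact Subtype.ext (Equiv.Perm.ofSubtype_injective h1)

theorem range_embed : (embed s).range = fix s := by
  ext τ
  rw [MonoidHom.mem_range, mem_fix]
  constructor
  · rintro ⟨σ, rfl⟩ x hx
    rw [embed_coe]
    exact Equiv.Perm.ofSubtype_apply_of_not_mem _ (fun h => h hx)
  · intro hτ
    have h₁ : ∀ x, ((τ : Equiv.Perm α) x ∉ s) ↔ (x ∉ s) := by
      intro x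
      rw [not_iff_not]
      constructor
      · intro hx
        have := hτ _ hx
        have h3 := (τ : Equiv.Perm α).injective this
        rw [← h3]; exact hx
      · intro hx
        rw [hτ x hx]; exact hx
    have h₂ : ∀ x, (τ : Equiv.Perm α) x ≠ x → x ∉ s := fun x hx hxs => hx (hτ x hxs)
    have hsign : Equiv.Perm.sign (Equiv.Perm.subtypePerm (p := fun x => x ∉ s) (τ : Equiv.Perm α) h₁) = 1 := by
      rw [Equiv.Perm.sign_subtypePerm _ h₁ h₂]
      exact Equiv.Perm.mem_alternatingGroup.mp τ.2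
    refine ⟨⟨Equiv.Perm.subtypePerm (p := fun x => x ∉ s) (τ : Equiv.Perm α) h₁,
      Equiv.Perm.mem_alternatingGroup.mpr hsign⟩, ?_⟩
    apply Subtype.ext
    rw [embed_coe]
    exact Equiv.Perm.ofSubtype_subtypePerm h₁ h₂

end embed

/-- `fix s` is quasisimple if `|sᶜ| ≥ 5`. -/
theorem isQuasisimple_fix {s : Set α} (h : 5 ≤ sᶜ.ncard) : Cfsg.IsQuasisimple ↥(fix s) := by
  classical
  rw [← range_embed s]
  have hq : Cfsg.IsQuasisimple ↥(alternatingGroup {x // x ∉ s}) := by
    apply isQuasisimple_alt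
    have : Fintype.card {x // x ∉ s} = sᶜ.ncard := by
      rw [← Nat.card_eq_fintype_card]
      exact Nat.card_coe_set_eq sᶜ
    rw [this]; exact h
  exact Cfsg.Agent.Helper2.isQuasisimple_of_mulEquiv (MonoidHom.ofInjective (embed_injective s)) hq


theorem ncard_compl_image (g : Equiv.Perm α) (s : Set α) : ((g '' s)ᶜ).ncard = sᶜ.ncard := by
  rw [← Set.image_compl_eq g.bijective, Set.ncard_image_of_injective _ g.injective]

/-- The pointwise stabilizer of a 4-set in `Alt(n)`, `n ≥ 9`, is a standard subgroup. -/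
theorem isStandardSubgroup_fix {s : Set α} (hs : s.ncard = 4) (hc : 5 ≤ sᶜ.ncard) :
    Cfsg.IsStandardSubgroup (fix s) := by
  have hC : Subgroup.centralizer (fix s : Set ↥(alternatingGroup α)) = fix sᶜ :=
    centralizer_fix (by omega)
  have hcc : sᶜᶜ.ncard = 4 := by rw [compl_compl]; exact hs
  refine ⟨isQuasisimple_fix hc, ?_, ?_, ?_⟩
  · rw [hC]
    refine ⟨even_card_fix (by omega), ?_⟩
    intro g hg
    rw [map_conj_fix, fix_inf]
    apply odd_card_fix
    rw [mem_normalizer_fix_iff (by omega)] at hg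
    have hne : (g : Equiv.Perm α) '' s ≠ s := by
      intro h
      apply hg
      rw [Set.image_compl_eq (g : Equiv.Perm α).bijective, h]
    have h1 : (sᶜ ∪ (g : Equiv.Perm α) '' sᶜ)ᶜ = s ∩ (g : Equiv.Perm α) '' s := by
      rw [Set.compl_union, compl_compl, Set.image_compl_eq (g : Equiv.Perm α).bijective, compl_compl]
    rw [h1]
    by_contra hgt
    push Not at hgt
    have h2 : s ∩ (g : Equiv.Perm α) '' s = s := by
      apply Set.eq_of_subset_of_ncard_le Set.inter_subset_left _ (Set.toFinite _)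
      omega
    have h3 : s ⊆ (g : Equiv.Perm α) '' s := by
      intro x hx
      rw [← h2] at hx
      exact hx.2
    have h4 : s = (g : Equiv.Perm α) '' s := by
      apply Set.eq_of_subset_of_ncard_le h3 _ (Set.toFinite _)
      rw [Set.ncard_image_of_injective _ (g : Equiv.Perm α).injective]
    exact hne h4.symm
  · intro g hne hbot
    rw [map_conj_fix] at hbot
    rw [Subgroup.commutator_eq_bot_iff_le_centralizer, centralizer_fix
      (by rw [ncard_compl_image]; omega)] at hbot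
    have h1 := subset_of_fix_le (by omega) hbot
    have h2 := Set.ncard_le_ncard h1 (Set.toFinite _)
    rw [ncard_compl_image] at h2
    omega
  · ext g
    rw [hC, mem_normalizer_fix_iff (by omega), mem_normalizer_fix_iff (by omega),
      Set.image_compl_eq (g : Equiv.Perm α).bijective, compl_inj_iff]

end Cfsg.Agent.Helper2.AltFix
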