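import Mathlib
import Cfsg.Prelude.Def_Perm

set_option autoImplicit false

namespace Cfsg.Agent.Helper2.AltPermMod

open Cfsg

variable {α : Type*} [Fintype α] [DecidableEq α] {K : Type*} [Field K]

/-- an invariant subspace is closed under precomposition by even permutations. -/
theorem comp_mem (W : Subrepresentation (Cfsg.permRep K (alternatingGroup α) α))
    (τ : Equiv.Perm α) (hτ : Equiv.Perm.sign τ = 1) {v : α → K} (hv : v ∈ W.toSubmodule) :
    (fun x => v (τ x)) ∈ W.toSubmodule := by
  have hmem : τ⁻¹ ∈ alternatingGroup α := by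
    rw [Equiv.Perm.mem_alternatingGroup, map_inv, hτ, inv_one]
  have h := W.apply_mem_toSubmodule ⟨τ⁻¹, hmem⟩ hv
  have heq : (Cfsg.permRep K (alternatingGroup α) α ⟨τ⁻¹, hmem⟩) v = fun x => v (τ x) := by
    funext x
    change v ((⟨τ⁻¹, hmem⟩ : alternatingGroup α)⁻¹ • x) = v (τ x)
    congr 1
  rw [heq] at h
  exact h

theorem sub_comp_mem (W : Subrepresentation (Cfsg.permRep K (alternatingGroup α) α))
    (τ : Equiv.Perm α) (hτ : Equiv.Perm.sign τ = 1) {v : α → K} (hv : v ∈ W.toSubmodule) :
    (fun x => v x - v (τ x)) ∈ W.toSubmodule := by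
  have := W.toSubmodule.sub_mem hv (comp_mem W τ hτ hv)
  exact this

/-- from a non-constant vector to a difference of two basis vectors. -/
theorem exists_single_sub_single_mem (h5 : 5 ≤ Fintype.card α)
    (W : Subrepresentation (Cfsg.permRep K (alternatingGroup α) α))
    {v : α → K} (hv : v ∈ W.toSubmodule) {a b : α} (hab : v a ≠ v b) :
    ∃ x y : α, x ≠ y ∧ (Pi.single x (1 : K) - Pi.single y (1 : K) : α → K) ∈ W.toSubmodule := by
  have hab' : a ≠ b := fun h => hab (by rw [h])
  -- three further points
  have hcard : 2 < (Finset.univ \ {a, b} : Finset α).card := by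
    have h1 : (Finset.univ \ {a, b} : Finset α).card = Fintype.card α - ({a, b} : Finset α).card := by
      rw [Finset.card_sdiff_of_subset (Finset.subset_univ _), Finset.card_univ]
    have h2 : ({a, b} : Finset α).card = 2 := Finset.card_pair hab'
    omega
  obtain ⟨c, d, e, hc, hd, he, hcd, hce, hde⟩ := Finset.two_lt_card_iff.mp hcard
  simp only [Finset.mem_sdiff, Finset.mem_univ, Finset.mem_insert, Finset.mem_singleton, true_and,
    not_or] at hc hd he
  obtain ⟨hca, hcb⟩ := hc
  obtain ⟨hda, hdb⟩ := hd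
  obtain ⟨hea, heb⟩ := he
  -- first 3-cycle
  set τ : Equiv.Perm α := Equiv.swap a b * Equiv.swap b c with hτ
  have hτs : Equiv.Perm.sign τ = 1 := by
    rw [hτ, map_mul, Equiv.Perm.sign_swap hab', Equiv.Perm.sign_swap (Ne.symm hcb)]
    rfl
  have hτa : τ a = b := by
    rw [hτ, Equiv.Perm.mul_apply, Equiv.swap_apply_of_ne_of_ne hab' (Ne.symm hca),
      Equiv.swap_apply_left]
  have hτd : τ d = d := by
    rw [hτ, Equiv.Perm.mul_apply, Equiv.swap_apply_of_ne_of_ne hdb hcd.symm,
      Equiv.swap_apply_of_ne_of_ne hda hdb]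
  have hτe : τ e = e := by
    rw [hτ, Equiv.Perm.mul_apply, Equiv.swap_apply_of_ne_of_ne heb hce.symm,
      Equiv.swap_apply_of_ne_of_ne hea heb]
  set u : α → K := fun x => v x - v (τ x) with hu
  have huW : u ∈ W.toSubmodule := sub_comp_mem W τ hτs hv
  have hua : u a ≠ 0 := by
    rw [hu]
    change v a - v (τ a) ≠ 0
    rw [hτa]
    exact sub_ne_zero.mpr hab
  have hud : u d = 0 := by
    change v d - v (τ d) = 0
    rw [hτd, sub_self]
  have hue : u e = 0 := by
    change v e - v (τ e) = 0
    rw [hτe, sub_self]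
  -- second 3-cycle
  set ρ : Equiv.Perm α := Equiv.swap a d * Equiv.swap d e with hρ
  have hρs : Equiv.Perm.sign ρ = 1 := by
    rw [hρ, map_mul, Equiv.Perm.sign_swap (Ne.symm hda), Equiv.Perm.sign_swap hde]
    rfl
  have hρa : ρ a = d := by
    rw [hρ, Equiv.Perm.mul_apply, Equiv.swap_apply_of_ne_of_ne (Ne.symm hda) (Ne.symm hea),
      Equiv.swap_apply_left]
  have hρd : ρ d = e := by
    rw [hρ, Equiv.Perm.mul_apply, Equiv.swap_apply_left,
      Equiv.swap_apply_of_ne_of_ne hea (Ne.symm hde)]
  have hρe : ρ e = a := by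
    rw [hρ, Equiv.Perm.mul_apply, Equiv.swap_apply_right, Equiv.swap_apply_right]
  have hρx : ∀ x, x ≠ a → x ≠ d → x ≠ e → ρ x = x := by
    intro x hxa hxd hxe
    rw [hρ, Equiv.Perm.mul_apply, Equiv.swap_apply_of_ne_of_ne hxd hxe,
      Equiv.swap_apply_of_ne_of_ne hxa hxd]
  have hzW : (fun x => u x - u (ρ x)) ∈ W.toSubmodule := sub_comp_mem W ρ hρs huW
  have hz : (fun x => u x - u (ρ x)) =
      (u a) • (Pi.single a (1 : K) - Pi.single e (1 : K) : α → K) := by
    funext x
    simp only [Pi.smul_apply, Pi.sub_apply, smul_eq_mul, Pi.single_apply]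
    by_cases hxa : x = a
    · subst hxa
      rw [hρa, hud, if_pos rfl, if_neg (Ne.symm hea)]
      ring
    · by_cases hxd : x = d
      · subst hxd
        rw [hρd, hud, hue, if_neg hxa, if_neg hde]
        ring
      · by_cases hxe : x = e
        · subst hxe
          rw [hρe, hue, if_neg hxa, if_pos rfl]
          ring
        · rw [hρx x hxa hxd hxe, if_neg hxa, if_neg hxe]
          ring
  rw [hz] at hzW
  refine ⟨a, e, Ne.symm hea, ?_⟩
  have := W.toSubmodule.smul_mem (u a)⁻¹ hzW
  rwa [smul_smul, inv_mul_cancel₀ hua, one_smul] at this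

/-- one difference gives all differences. -/
theorem all_single_sub_single_mem (h5 : 5 ≤ Fintype.card α)
    (W : Subrepresentation (Cfsg.permRep K (alternatingGroup α) α))
    {x y : α} (hxy : x ≠ y)
    (h : (Pi.single x (1 : K) - Pi.single y (1 : K) : α → K) ∈ W.toSubmodule) :
    ∀ x' y' : α, x' ≠ y' →
      (Pi.single x' (1 : K) - Pi.single y' (1 : K) : α → K) ∈ W.toSubmodule := by
  intro x' y' hxy'
  have h2 : MulAction.IsMultiplyPretransitive (alternatingGroup α) α 2 := by
    have := alternatingGroup.isMultiplyPretransitive α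
    have hle : 2 ≤ Nat.card α - 2 := by rw [Nat.card_eq_fintype_card]; omega
    exact MulAction.isMultiplyPretransitive_of_le hle (Nat.sub_le _ _)
  obtain ⟨g, hgx, hgy⟩ := MulAction.is_two_pretransitive_iff.mp h2 hxy' hxy
  have hs : Equiv.Perm.sign (g : Equiv.Perm α) = 1 := Equiv.Perm.mem_alternatingGroup.mp g.2
  have hc := comp_mem W (g : Equiv.Perm α) hs h
  have hgx' : (g : Equiv.Perm α) x' = x := hgx
  have hgy' : (g : Equiv.Perm α) y' = y := hgy
  have heq : (fun z => (Pi.single x (1 : K) - Pi.single y (1 : K) : α → K)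
      ((g : Equiv.Perm α) z)) = (Pi.single x' (1 : K) - Pi.single y' (1 : K) : α → K) := by
    funext z
    simp only [Pi.sub_apply, Pi.single_apply]
    have e1 : ((g : Equiv.Perm α) z = x) ↔ z = x' := by
      rw [← hgx']; exact (g : Equiv.Perm α).injective.eq_iff
    have e2 : ((g : Equiv.Perm α) z = y) ↔ z = y' := by
      rw [← hgy']; exact (g : Equiv.Perm α).injective.eq_iff
    simp only [e1, e2]
  rw [heq] at hc
  exact hc

/-- all differences give the sum-zero module. -/
theorem sumZero_le (W : Subrepresentation (Cfsg.permRep K (alternatingGroup α) α))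
    (h : ∀ x' y' : α, x' ≠ y' →
      (Pi.single x' (1 : K) - Pi.single y' (1 : K) : α → K) ∈ W.toSubmodule) :
    (Cfsg.permSumZero K (alternatingGroup α) α).toSubmodule ≤ W.toSubmodule := by
  intro v hv
  have hv0 : ∑ x, v x = 0 := hv
  rcases isEmpty_or_nonempty α with hα | hα
  · have : v = 0 := by funext x; exact (hα.false x).elim
    rw [this]; exact W.toSubmodule.zero_mem
  obtain ⟨x₀⟩ := hα
  have hsum : v = ∑ x, v x • (Pi.single x (1 : K) - Pi.single x₀ (1 : K) : α → K) := by
    funext y
    rw [Finset.sum_apply]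
    simp only [Pi.smul_apply, Pi.sub_apply, smul_eq_mul, Pi.single_apply, mul_sub,
      Finset.sum_sub_distrib]
    have h1 : ∑ x, v x * (if y = x then (1 : K) else 0) = v y := by
      simp
    have h2 : ∑ x, v x * (if y = x₀ then (1 : K) else 0) = 0 := by
      rw [← Finset.sum_mul, hv0, zero_mul]
    rw [h1, h2, sub_zero]
  rw [hsum]
  apply Submodule.sum_mem
  intro x _
  by_cases hx : x = x₀
  · rw [hx, sub_self, smul_zero]; exact W.toSubmodule.zero_mem
  · exact W.toSubmodule.smul_mem _ (h x x₀ hx)

theorem main (h5 : 5 ≤ Fintype.card α)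
    (W : Subrepresentation (Cfsg.permRep K (alternatingGroup α) α)) :
    W.toSubmodule = ⊥ ∨ W = Cfsg.permConstants K (alternatingGroup α) α ∨
      W = Cfsg.permSumZero K (alternatingGroup α) α ∨ W.toSubmodule = ⊤ := by
  have hne : Nonempty α := by
    rw [← Fintype.card_pos_iff]; omega
  obtain ⟨x₀⟩ := hne
  by_cases hconst : ∀ v ∈ W.toSubmodule, ∀ a b : α, v a = v b
  · have hvc : ∀ v ∈ W.toSubmodule, v = v x₀ • (fun _ => (1 : K)) := by
      intro v hv
      funext x
      simp only [Pi.smul_apply, smul_eq_mul, mul_one]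
      exact hconst v hv x x₀
    by_cases h0 : W.toSubmodule = ⊥
    · left; exact h0
    · right; left
      apply Subrepresentation.toSubmodule_injective
      change W.toSubmodule = Submodule.span K {fun _ => (1 : K)}
      apply le_antisymm
      · intro v hv
        rw [hvc v hv]
        exact Submodule.smul_mem _ _ (Submodule.subset_span rfl)
      · rw [Submodule.span_le, Set.singleton_subset_iff]
        obtain ⟨v, hv, hv0⟩ := (Submodule.ne_bot_iff _).mp h0
        have hc : v x₀ ≠ 0 := by
          intro hc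
          apply hv0
          rw [hvc v hv, hc, zero_smul]
        have h1 : (fun _ => (1 : K)) = (v x₀)⁻¹ • v := by
          funext x
          simp only [Pi.smul_apply, smul_eq_mul]
          rw [hconst v hv x x₀, inv_mul_cancel₀ hc]
        rw [h1]
        exact W.toSubmodule.smul_mem (v x₀)⁻¹ hv
  · push_neg at hconst
    obtain ⟨v, hv, a, b, hab⟩ := hconst
    obtain ⟨x, y, hxy, hmem⟩ := exists_single_sub_single_mem h5 W hv hab
    have hall := all_single_sub_single_mem h5 W hxy hmem
    have hle := sumZero_le W hall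
    right; right
    by_cases hs : ∀ w ∈ W.toSubmodule, ∑ x, w x = 0
    · left
      apply Subrepresentation.toSubmodule_injective
      apply le_antisymm
      · intro w hw; exact hs w hw
      · exact hle
    · right
      push_neg at hs
      obtain ⟨w, hw, hws⟩ := hs
      rw [eq_top_iff]
      intro f _
      set s := ∑ x, w x with hsdef
      have hdecomp : f = (f - ((∑ x, f x) / s) • w) + ((∑ x, f x) / s) • w := by
        rw [sub_add_cancel]
      rw [hdecomp]
      apply W.toSubmodule.add_mem
      · apply hle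
        change ∑ x, (f - ((∑ x, f x) / s) • w) x = 0
        simp only [Pi.sub_apply, Pi.smul_apply, smul_eq_mul, Finset.sum_sub_distrib,
          ← Finset.mul_sum]
        rw [← hsdef, div_mul_cancel₀ _ hws, sub_self]
      · exact W.toSubmodule.smul_mem _ hw

end Cfsg.Agent.Helper2.AltPermMod
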