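import Mathlib
import Cfsg.Agent.Helper2.Invol
import Cfsg.Agent.Helper2.ClassCount

/-!
Aschbacher-type fixed point configuration: an involution `z` fixing a unique point of a
transitive `G`-set, such that `z * t` also fixes a unique point for every conjugate `t ≠ z`
commuting with `z`.  Basic consequences: products of conjugates with different fixed points
have odd order.
-/

set_option autoImplicit false

namespace Cfsg.Agent.Helper2.Asch

variable {G : Type*} [Group G] {Ω : Type*} [MulAction G Ω]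

/-- the hypotheses -/
structure Hyp (z : G) (ω0 : Ω) : Prop where
  sq : z * z = 1
  ne1 : z ≠ 1
  fix_z : ∀ ω : Ω, z • ω = ω ↔ ω = ω0
  fix_zt : ∀ t : G, IsConj z t → t ≠ z → t * z = z * t → ∀ ω : Ω, (z * t) • ω = ω ↔ ω = ω0

theorem fix_conj_of {e : G} {ω0 : Ω} (he : ∀ ω : Ω, e • ω = ω ↔ ω = ω0) (g : G) (ω : Ω) :
    (g * e * g⁻¹) • ω = ω ↔ ω = g • ω0 := by
  rw [mul_smul, mul_smul, smul_eq_iff_eq_inv_smul, he, inv_smul_eq_iff]

variable {z : G} {ω0 : Ω}

theorem Hyp.fix_conj (h : Hyp z ω0) (g : G) (ω : Ω) :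
    (g * z * g⁻¹) • ω = ω ↔ ω = g • ω0 :=
  fix_conj_of h.fix_z g ω

theorem conj_sq (h : Hyp z ω0) (g : G) : (g * z * g⁻¹) * (g * z * g⁻¹) = 1 := by
  calc g * z * g⁻¹ * (g * z * g⁻¹) = g * (z * z) * g⁻¹ := by group
    _ = 1 := by rw [h.sq]; group

theorem Hyp.fix_prod (h : Hyp z ω0) (g b : G) (hb : IsConj z b) (hne : b ≠ g * z * g⁻¹)
    (hcomm : b * (g * z * g⁻¹) = (g * z * g⁻¹) * b) (ω : Ω) :
    ((g * z * g⁻¹) * b) • ω = ω ↔ ω = g • ω0 := by
  obtain ⟨t, ht⟩ : ∃ t, t = g⁻¹ * b * g := ⟨_, rfl⟩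
  have hbt : b = g * t * g⁻¹ := by rw [ht]; group
  have htc : IsConj z t := by
    obtain ⟨c, hc⟩ := isConj_iff.mp hb
    rw [isConj_iff]
    refine ⟨g⁻¹ * c, ?_⟩
    rw [ht, ← hc]; group
  have htz : t ≠ z := by
    intro h1
    apply hne
    rw [hbt, h1]
  have hcz : t * z = z * t := by
    have e1 : t * z = g⁻¹ * (b * (g * z * g⁻¹)) * g := by rw [ht]; group
    have e2 : z * t = g⁻¹ * ((g * z * g⁻¹) * b) * g := by rw [ht]; group
    rw [e1, e2, hcomm]
  have e : (g * z * g⁻¹) * b = g * (z * t) * g⁻¹ := by rw [hbt]; group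
  rw [e]
  exact fix_conj_of (h.fix_zt t htc htz hcz) g ω

/-- Lemma B: conjugates of `z` with different fixed points have a product of odd order. -/
theorem Hyp.odd_of_ne [Finite G] (h : Hyp z ω0) (g k : G) (hne : g • ω0 ≠ k • ω0) :
    Odd (orderOf ((g * z * g⁻¹) * (k * z * k⁻¹))) := by
  obtain ⟨a, ha⟩ : ∃ a, a = g * z * g⁻¹ := ⟨_, rfl⟩
  obtain ⟨b, hb⟩ : ∃ b, b = k * z * k⁻¹ := ⟨_, rfl⟩
  rw [← ha, ← hb]
  have haa : a * a = 1 := by rw [ha]; exact conj_sq h g
  have hbb : b * b = 1 := by rw [hb]; exact conj_sq h k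
  rcases Nat.even_or_odd (orderOf (a * b)) with he | ho
  · exfalso
    obtain ⟨m, hm⟩ := he
    have hm' : orderOf (a * b) = 2 * m := by rw [hm]; ring
    have hpow : (a * b) ^ (2 * m) = 1 := by rw [← hm']; exact pow_orderOf_eq_one _
    have hpos : 0 < orderOf (a * b) := orderOf_pos _
    have hmpos : 0 < m := by omega
    obtain ⟨w, hw⟩ : ∃ w, w = (a * b) ^ m := ⟨_, rfl⟩
    have hw1 : w ≠ 1 := by
      rw [hw]
      apply pow_ne_one_of_lt_orderOf hmpos.ne'
      omega
    have hww : w * w = 1 := by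
      rw [hw, ← pow_add, ← two_mul, hpow]
    have hwinv : w⁻¹ = w := inv_eq_of_mul_eq_one_left hww
    have hcomm := commute_invol_mul_pow haa hbb m hpow
    rw [← hw] at hcomm
    have hconj : IsConj z (a * w) := by
      rw [isConj_iff, hw]
      rcases Nat.even_or_odd' m with ⟨j, hj | hj⟩
      · refine ⟨(b * a) ^ j * g, ?_⟩
        rw [hj, invol_mul_pow_even haa hbb j, ha]
        group
      · refine ⟨(b * a) ^ j * k, ?_⟩
        rw [hj, invol_mul_pow_odd haa hbb j, hb]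
        group
    have hne2 : a * w ≠ g * z * g⁻¹ := by
      rw [← ha]
      intro h1
      apply hw1
      have := congrArg (fun t => a * t) h1
      simpa [← mul_assoc, haa] using this
    have hcomm2 : (a * w) * (g * z * g⁻¹) = (g * z * g⁻¹) * (a * w) := by
      rw [← ha]
      exact hcomm.eq.symm
    have hfix := h.fix_prod g (a * w) hconj hne2 hcomm2
    rw [← ha, ← mul_assoc, haa, one_mul] at hfix
    -- `w` commutes with `b`
    have hwb : b * w = w * b := by
      have h1 : b * (a * b) * b⁻¹ = b * a := by group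
      have h2 : b * w * b⁻¹ = (b * a) ^ m := by
        rw [hw, ← h1]
        exact (conj_pow (a := b) (b := a * b) (i := m)).symm
      have h3 : (b * a) ^ m = w := by
        rw [← inv_mul_invol haa hbb, inv_pow, ← hw, hwinv]
      rw [h3] at h2
      calc b * w = b * w * b⁻¹ * b := by group
        _ = w * b := by rw [h2]
    have hbfix : b • (k • ω0) = k • ω0 := by
      rw [hb]
      exact (h.fix_conj k (k • ω0)).mpr rfl
    have hwfix : w • (k • ω0) = k • ω0 := by
      have : b • (w • (k • ω0)) = w • (k • ω0) := by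
        rw [← mul_smul, hwb, mul_smul, hbfix]
      rw [hb] at this
      exact (h.fix_conj k _).mp this
    exact hne ((hfix (k • ω0)).mp hwfix).symm
  · exact ho

/-- an involution in the class of `z` conjugating `g z g⁻¹` to `k z k⁻¹`. -/
theorem Hyp.exists_conj [Finite G] (h : Hyp z ω0) (g k : G) (hne : g • ω0 ≠ k • ω0) :
    ∃ x, IsConj z x ∧ x * (g * z * g⁻¹) * x⁻¹ = k * z * k⁻¹ := by
  have hodd := h.odd_of_ne g k hne
  obtain ⟨a, ha⟩ : ∃ a, a = g * z * g⁻¹ := ⟨_, rfl⟩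
  obtain ⟨b, hb⟩ : ∃ b, b = k * z * k⁻¹ := ⟨_, rfl⟩
  rw [← ha, ← hb] at hodd ⊢
  have haa : a * a = 1 := by rw [ha]; exact conj_sq h g
  have hbb : b * b = 1 := by rw [hb]; exact conj_sq h k
  obtain ⟨j, hj⟩ := hodd
  have hpow : (a * b) ^ (2 * j + 1) = 1 := by rw [← hj]; exact pow_orderOf_eq_one _
  have hr := conj_of_pow_odd haa hbb j hpow
  refine ⟨(b * a) ^ (j + 1) * a, ?_, ?_⟩
  · rw [← invol_mul_pow haa, isConj_iff]
    rcases Nat.even_or_odd' (j + 1) with ⟨i, hi | hi⟩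
    · refine ⟨(b * a) ^ i * g, ?_⟩
      rw [hi, invol_mul_pow_even haa hbb i, ha]
      group
    · refine ⟨(b * a) ^ i * k, ?_⟩
      rw [hi, invol_mul_pow_odd haa hbb i, hb]
      group
  · obtain ⟨r, hr'⟩ : ∃ r, r = (b * a) ^ (j + 1) := ⟨_, rfl⟩
    rw [← hr'] at hr ⊢
    calc r * a * a * (r * a)⁻¹ = r * a * r⁻¹ := by group
      _ = b := hr

end Cfsg.Agent.Helper2.Asch
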