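import Mathlib
import Cfsg.Agent.Helper2.AschA

/-!
Aschbacher-type fixed point configuration: the class of `z` has odd size.
-/

set_option autoImplicit false

namespace Cfsg.Agent.Helper2.Asch

open Finset

/-- parity lemma: an involution on a finite set with exactly one fixed point -/
theorem odd_card_of_involution {α : Type*} [DecidableEq α] (S : Finset α) (σ : α → α)
    (hσS : ∀ a ∈ S, σ a ∈ S) (hinv : ∀ a ∈ S, σ (σ a) = a) (a0 : α) (ha0 : a0 ∈ S)
    (hfix : ∀ a ∈ S, σ a = a ↔ a = a0) : Odd S.card := by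
  have h1 : Even (S.erase a0).card := by
    rw [← ZMod.natCast_eq_zero_iff_even, Finset.card_eq_sum_ones, Nat.cast_sum]
    simp only [Nat.cast_one]
    apply Finset.sum_involution (fun a _ => σ a)
    · intro a _
      decide
    · intro a ha _
      have := Finset.mem_erase.mp ha
      intro h
      exact this.1 ((hfix a this.2).mp h)
    · intro a ha
      have := Finset.mem_erase.mp ha
      apply Finset.mem_erase.mpr ⟨?_, hσS a this.2⟩
      intro h
      have h2 : σ a0 = a0 := (hfix a0 ha0).mpr rfl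
      have h3 : σ (σ a) = a := hinv a this.2
      rw [h, h2] at h3
      exact this.1 h3.symm
    · intro a ha
      exact hinv a (Finset.mem_erase.mp ha).2
  rw [← Finset.card_erase_add_one ha0]
  exact h1.add_one

variable {G : Type*} [Group G] {Ω : Type*} [MulAction G Ω] {z : G} {ω0 : Ω}

theorem isConj_sq (h : Hyp z ω0) {x : G} (hx : IsConj z x) : x * x = 1 := by
  obtain ⟨c, hc⟩ := isConj_iff.mp hx
  rw [← hc]
  exact conj_sq h c

theorem Hyp.odd_card_class [Finite G] [Finite Ω] (h : Hyp z ω0)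
    (htrans : ∀ ω : Ω, ∃ g : G, g • ω0 = ω) (hnt : ∃ ω : Ω, ω ≠ ω0) :
    Odd (Nat.card {x : G // IsConj z x}) := by
  classical
  haveI := Fintype.ofFinite G
  haveI := Fintype.ofFinite Ω
  obtain ⟨C, hC⟩ : ∃ C : Finset G, C = univ.filter (fun x => IsConj z x) := ⟨_, rfl⟩
  have hCmem : ∀ x, x ∈ C ↔ IsConj z x := by
    intro x; rw [hC]; simp
  obtain ⟨I, hI⟩ : ∃ I : Ω → Finset G, I = fun ω => C.filter (fun a => a • ω = ω) := ⟨_, rfl⟩
  obtain ⟨X, hX⟩ : ∃ X : Ω → Ω → Finset G,
      X = fun ω1 ω2 => C.filter (fun x => x • ω1 = ω2) := ⟨_, rfl⟩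
  have hImem : ∀ ω a, a ∈ I ω ↔ IsConj z a ∧ a • ω = ω := by
    intro ω a; rw [hI]; simp [hCmem]
  have hXmem : ∀ ω1 ω2 x, x ∈ X ω1 ω2 ↔ IsConj z x ∧ x • ω1 = ω2 := by
    intro ω1 ω2 x; rw [hX]; simp [hCmem]
  have hzinv : z⁻¹ = z := inv_eq_of_mul_eq_one_left h.sq
  obtain ⟨m, hm⟩ : ∃ m, m = (I ω0).card := ⟨_, rfl⟩
  -- all fibres have the same size
  have hIcard : ∀ ω, (I ω).card = m := by
    intro ω
    obtain ⟨g, hg⟩ := htrans ω
    rw [hm]
    symm
    apply Finset.card_bij (fun a _ => g * a * g⁻¹)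
    · intro a ha
      rw [hImem] at ha ⊢
      refine ⟨?_, ?_⟩
      · obtain ⟨c, hc⟩ := isConj_iff.mp ha.1
        rw [isConj_iff]
        exact ⟨g * c, by rw [← hc]; group⟩
      · rw [← hg, mul_smul, mul_smul, inv_smul_smul, ha.2]
    · intro a _ b _ hab
      have := mul_right_cancel hab
      exact mul_left_cancel this
    · intro b hb
      rw [hImem] at hb
      refine ⟨g⁻¹ * b * g, ?_, by group⟩
      rw [hImem]
      refine ⟨?_, ?_⟩
      · obtain ⟨c, hc⟩ := isConj_iff.mp hb.1
        rw [isConj_iff]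
        exact ⟨g⁻¹ * c, by rw [← hc]; group⟩
      · have h1 : b • (g • ω0) = g • ω0 := by rw [hg]; exact hb.2
        rw [mul_smul, mul_smul, h1, inv_smul_smul]
  -- double counting: the class is the disjoint union of the fibres
  have hC1 : C.card = ∑ ω : Ω, (I ω).card := by
    have hb := Finset.sum_card_bipartiteAbove_eq_sum_card_bipartiteBelow
      (r := fun (a : G) (ω : Ω) => a • ω = ω) (s := C) (t := (univ : Finset Ω))
    have hl : ∑ a ∈ C, ((univ : Finset Ω).bipartiteAbove (fun (a : G) (ω : Ω) => a • ω = ω) a).card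
        = C.card := by
      rw [Finset.card_eq_sum_ones]
      apply Finset.sum_congr rfl
      intro a ha
      rw [hCmem] at ha
      obtain ⟨c, hc⟩ := isConj_iff.mp ha
      rw [Finset.card_eq_one]
      refine ⟨c • ω0, ?_⟩
      ext ω
      simp only [Finset.bipartiteAbove, Finset.mem_filter, Finset.mem_univ, true_and,
        Finset.mem_singleton]
      rw [← hc]
      exact h.fix_conj c ω
    rw [hl] at hb
    rw [hb]
    apply Finset.sum_congr rfl
    intro ω _
    rw [hI]
    rfl
  have hC2 : ∀ ω1 : Ω, C.card = ∑ ω2 : Ω, (X ω1 ω2).card := by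
    intro ω1
    have := Finset.card_eq_sum_card_fiberwise (f := fun x : G => x • ω1) (s := C)
      (t := (univ : Finset Ω)) (fun _ _ => Finset.mem_coe.mpr (Finset.mem_univ _))
    rw [this]
    apply Finset.sum_congr rfl
    intro ω2 _
    rw [hX]
  have hle : ∀ ω1 ω2 : Ω, (I ω2).card ≤ (X ω1 ω2).card := by
    intro ω1 ω2
    by_cases h12 : ω1 = ω2
    · subst h12
      apply le_of_eq
      congr 1
      ext x
      rw [hImem, hXmem]
    · obtain ⟨g1, hg1⟩ := htrans ω1
      apply Finset.card_le_card_of_surjOn (fun x => x * (g1 * z * g1⁻¹) * x⁻¹)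
      intro b hb
      rw [Finset.mem_coe, hImem] at hb
      obtain ⟨k, hk⟩ := isConj_iff.mp hb.1
      have hk2 : ω2 = k • ω0 := by
        have := hb.2
        rw [← hk] at this
        exact (h.fix_conj k ω2).mp this
      have hne : g1 • ω0 ≠ k • ω0 := by
        rw [hg1, ← hk2]; exact h12
      obtain ⟨x, hx1, hx2⟩ := h.exists_conj g1 k hne
      refine ⟨x, ?_, ?_⟩
      · rw [Finset.mem_coe, hXmem]
        refine ⟨hx1, ?_⟩
        have ha1 : (g1 * z * g1⁻¹) • ω1 = ω1 := (h.fix_conj g1 ω1).mpr hg1.symm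
        have : (k * z * k⁻¹) • (x • ω1) = x • ω1 := by
          rw [← hx2, mul_smul, mul_smul, inv_smul_smul, ha1]
        rw [hk2]
        exact (h.fix_conj k _).mp this
      · show x * (g1 * z * g1⁻¹) * x⁻¹ = b
        rw [hx2, hk]
  have heq : ∀ ω1 ω2 : Ω, (X ω1 ω2).card = m := by
    intro ω1 ω2
    have hs : ∑ ω2 : Ω, (I ω2).card = ∑ ω2 : Ω, (X ω1 ω2).card := hC1.symm.trans (hC2 ω1)
    have := (Finset.sum_eq_sum_iff_of_le (fun ω2 _ => hle ω1 ω2)).mp hs ω2 (Finset.mem_univ _)
    rw [← this, hIcard]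
  -- `m` is odd
  have hoddm : Odd m := by
    obtain ⟨ω', hω'⟩ := hnt
    rw [← heq ω' (z • ω')]
    apply odd_card_of_involution (X ω' (z • ω')) (fun x => z * x * z⁻¹) _ _ z
    · rw [hXmem]
      exact ⟨IsConj.refl z, rfl⟩
    · intro x hx
      rw [hXmem] at hx
      constructor
      · intro h1
        by_contra hxz
        have hc : x * z = z * x := by
          have := congrArg (fun t => t * z) h1
          simp only [inv_mul_cancel_right] at this
          exact this.symm
        have hf := h.fix_zt x hx.1 hxz hc ω'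
        have : (z * x) • ω' = ω' := by
          rw [mul_smul, hx.2, ← mul_smul, h.sq, one_smul]
        exact hω' (hf.mp this)
      · intro h1
        rw [h1]
        group
    · intro x hx
      rw [hXmem] at hx ⊢
      refine ⟨?_, ?_⟩
      · obtain ⟨c, hc⟩ := isConj_iff.mp hx.1
        rw [isConj_iff]
        exact ⟨z * c, by rw [← hc]; group⟩
      · have hxx := isConj_sq h hx.1
        rw [mul_smul, mul_smul, hzinv]
        congr 1
        rw [← hx.2, ← mul_smul, hxx, one_smul]
    · intro x _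
      show z * (z * x * z⁻¹) * z⁻¹ = x
      rw [hzinv]
      calc z * (z * x * z) * z = (z * z) * x * (z * z) := by group
        _ = x := by rw [h.sq, one_mul, mul_one]
  -- the degree is odd
  have hoddn : Odd (Fintype.card Ω) := by
    have := odd_card_of_involution (univ : Finset Ω) (fun ω => z • ω) (fun _ _ => mem_univ _)
      (fun ω _ => by
        show z • z • ω = ω
        rw [← mul_smul, h.sq, one_smul]) ω0 (mem_univ _) (fun ω _ => h.fix_z ω)
    rwa [Finset.card_univ] at this
  have hfin : Nat.card {x : G // IsConj z x} = C.card := by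
    rw [hC]
    exact natCard_subtype_eq_card_filter _
  rw [hfin, hC1]
  simp only [hIcard, Finset.sum_const, Finset.card_univ, smul_eq_mul]
  exact hoddn.mul hoddm

end Cfsg.Agent.Helper2.Asch
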