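import Mathlib
import Cfsg.Agent.Helper2.AschB

/-!
An involution whose conjugacy class has odd size is central in a Sylow 2-subgroup.
-/

set_option autoImplicit false

namespace Cfsg.Agent.Helper2.Asch

variable {G : Type*} [Group G]

theorem exists_sylow_center_of_odd_class [Finite G] (z : G) (hz : orderOf z = 2)
    (hodd : Odd (Nat.card {x : G // IsConj z x})) :
    ∃ P : Sylow 2 G, z ∈ (Subgroup.center ↥(P : Subgroup G)).map (P : Subgroup G).subtype := by
  haveI : Fact (Nat.Prime 2) := ⟨Nat.prime_two⟩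
  obtain ⟨K, hK⟩ : ∃ K, K = Subgroup.centralizer ({z} : Set G) := ⟨_, rfl⟩
  have hcard : Nat.card {x : G // IsConj z x} * Nat.card K = Nat.card G := by
    rw [hK]; exact card_isConj_mul_card_centralizer z
  have hzK : z ∈ K := by
    rw [hK, Subgroup.mem_centralizer_singleton_iff]
  have hKc : ∀ g ∈ K, g * z = z * g := by
    intro g hg
    rw [hK, Subgroup.mem_centralizer_singleton_iff] at hg
    exact hg
  obtain ⟨Q⟩ : Nonempty (Sylow 2 K) := inferInstance
  obtain ⟨z', hz'⟩ : ∃ z' : K, z' = ⟨z, hzK⟩ := ⟨_, rfl⟩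
  have hz'c : ∀ g : K, g * z' = z' * g := by
    intro g
    apply Subtype.ext
    rw [hz']
    exact hKc g.1 g.2
  have hz'ord : orderOf z' = 2 := by
    rw [← hz, hz']
    exact Subgroup.orderOf_mk z hzK
  haveI hZn : (Subgroup.zpowers z').Normal := by
    constructor
    intro n hn g
    obtain ⟨i, rfl⟩ := Subgroup.mem_zpowers_iff.mp hn
    have : g * z' ^ i * g⁻¹ = z' ^ i := by
      have hc : Commute g z' := hz'c g
      have := (hc.zpow_right i).eq
      rw [this]; group
    rw [this]
    exact Subgroup.zpow_mem_zpowers z' i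
  have hZ2 : IsPGroup 2 (Subgroup.zpowers z') := by
    apply IsPGroup.of_card (n := 1)
    rw [Nat.card_zpowers, hz'ord, pow_one]
  have hsup : IsPGroup 2 ((Q : Subgroup K) ⊔ Subgroup.zpowers z' : Subgroup K) :=
    IsPGroup.to_sup_of_normal_right Q.isPGroup' hZ2
  have hQeq := Q.is_maximal' hsup le_sup_left
  have hz'Q : z' ∈ (Q : Subgroup K) := by
    rw [← hQeq]
    exact (le_sup_right : Subgroup.zpowers z' ≤ _) (Subgroup.mem_zpowers z')
  obtain ⟨P0, hP0⟩ : ∃ P0 : Subgroup G, P0 = (Q : Subgroup K).map K.subtype := ⟨_, rfl⟩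
  have hP0card : Nat.card P0 = 2 ^ (Nat.card G).factorization 2 := by
    rw [hP0, Subgroup.card_map_of_injective K.subtype_injective, Q.card_eq_multiplicity, ← hcard]
    congr 1
    have h1 : Nat.card {x : G // IsConj z x} ≠ 0 := by
      intro h0
      rw [h0] at hodd
      exact (Nat.not_odd_iff_even.mpr (Even.zero)) hodd
    have h2 : (Nat.card {x : G // IsConj z x}).factorization 2 = 0 := by
      apply Nat.factorization_eq_zero_of_not_dvd
      intro hd
      exact (Nat.not_even_iff_odd.mpr hodd) (even_iff_two_dvd.mpr hd)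
    rw [Nat.factorization_mul h1 Nat.card_pos.ne', Finsupp.add_apply, h2, zero_add]
  refine ⟨Sylow.ofCard P0 hP0card, ?_⟩
  have hzP : z ∈ P0 := by
    rw [hP0]
    exact ⟨z', hz'Q, by rw [hz']; rfl⟩
  rw [Sylow.coe_ofCard]
  refine ⟨⟨z, hzP⟩, ?_, rfl⟩
  rw [SetLike.mem_coe, Subgroup.mem_center_iff]
  intro p
  apply Subtype.ext
  have hPK : P0 ≤ K := by
    rw [hP0]
    exact Subgroup.map_subtype_le _
  have hp : (p : G) ∈ K := hPK p.2
  exact hKc p.1 hp

end Cfsg.Agent.Helper2.Asch
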