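import Mathlib
import Cfsg.Agent.Helper2.AschC
import Cfsg.Agent.Helper2.Conj

/-!
Aschbacher's fixed-point criterion: equivalence of the two formulations.
-/

set_option autoImplicit false

namespace Cfsg.Agent.Helper2.Asch

open Cfsg.Agent.Helper2

variable {G : Type*} [Group G]

theorem fix_coset_iff (H : Subgroup G) (e k : G) :
    e • (k : G ⧸ H) = (k : G ⧸ H) ↔ e ∈ H.map (MulAut.conj k).toMonoidHom := by
  rw [mem_cj_iff, MulAction.Quotient.smul_coe, QuotientGroup.eq]
  have e1 : (e • k)⁻¹ * k = (k⁻¹ * e * k)⁻¹ := by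
    rw [smul_eq_mul]; group
  rw [e1, inv_mem_iff]

theorem coset_eq_one_iff (H : Subgroup G) (k : G) :
    (k : G ⧸ H) = ((1 : G) : G ⧸ H) ↔ k ∈ H := by
  rw [QuotientGroup.eq, mul_one, inv_mem_iff]

/-- (1) ⇒ `z` is central in a Sylow 2-subgroup -/
theorem two_central_of_fix [Finite G] (z : G) (hz : orderOf z = 2) (H : Subgroup G) (hH : H ≠ ⊤)
    (h0 : ∀ g : G, z ∈ H.map (MulAut.conj g).toMonoidHom ↔ g ∈ H)
    (h1 : ∀ t : G, IsConj z t → t ≠ z → t * z = z * t →
      ∀ g : G, z * t ∈ H.map (MulAut.conj g).toMonoidHom ↔ g ∈ H) :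
    ∃ P : Sylow 2 G, z ∈ (Subgroup.center ↥(P : Subgroup G)).map (P : Subgroup G).subtype := by
  apply exists_sylow_center_of_odd_class z hz
  have hyp : Hyp z (((1 : G) : G ⧸ H)) := by
    refine ⟨mul_self_of_orderOf_two hz, ne_one_of_orderOf_two hz, ?_, ?_⟩
    · intro ω
      induction ω using QuotientGroup.induction_on with
      | H k => rw [fix_coset_iff, h0, coset_eq_one_iff]
    · intro t ht htz hc ω
      induction ω using QuotientGroup.induction_on with
      | H k => rw [fix_coset_iff, h1 t ht htz hc, coset_eq_one_iff]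
  apply hyp.odd_card_class
  · intro ω
    induction ω using QuotientGroup.induction_on with
    | H k =>
      refine ⟨k, ?_⟩
      rw [MulAction.Quotient.smul_coe, smul_eq_mul, mul_one]
  · have : ∃ g : G, g ∉ H := by
      by_contra hcon
      push Not at hcon
      exact hH (eq_top_iff.mpr (fun g _ => hcon g))
    obtain ⟨g, hg⟩ := this
    refine ⟨(g : G ⧸ H), ?_⟩
    intro h
    exact hg ((coset_eq_one_iff H g).mp h)

theorem criterion [Finite G] (z : G) (hz : orderOf z = 2) (H : Subgroup G) (hH : H ≠ ⊤)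
    (h0 : ∀ g : G, z ∈ H.map (MulAut.conj g).toMonoidHom ↔ g ∈ H) :
    (∀ t : G, IsConj z t → t ≠ z → t * z = z * t →
        ∀ g : G, z * t ∈ H.map (MulAut.conj g).toMonoidHom ↔ g ∈ H) ↔
      ((∃ P : Sylow 2 G,
          z ∈ (Subgroup.center ↥(P : Subgroup G)).map (P : Subgroup G).subtype) ∧
        ∀ t : G, IsConj z t → t ≠ z → t * z = z * t →
          Subgroup.centralizer ({z * t} : Set G) ≤ H) := by
  haveI : Fact (Nat.Prime 2) := ⟨Nat.prime_two⟩
  have hzz : z * z = 1 := mul_self_of_orderOf_two hz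
  have hzH : z ∈ H := by
    have := (h0 1).mpr H.one_mem
    rw [mem_cj_iff] at this
    simpa using this
  have hcentz : ∀ c : G, c * z = z * c → c ∈ H := by
    intro c hc
    apply (h0 c).mp
    rw [mem_cj_iff]
    have : c⁻¹ * z * c = z := by
      rw [mul_assoc, ← hc]; group
    rw [this]
    exact hzH
  constructor
  · intro h1
    refine ⟨two_central_of_fix z hz H hH h0 h1, ?_⟩
    intro t ht htz hc c hcc
    rw [Subgroup.mem_centralizer_singleton_iff] at hcc
    have hztH : z * t ∈ H := by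
      have := (h1 t ht htz hc 1).mpr H.one_mem
      rw [mem_cj_iff] at this
      simpa using this
    apply (h1 t ht htz hc c).mp
    rw [mem_cj_iff]
    have : c⁻¹ * (z * t) * c = z * t := by
      rw [mul_assoc, ← hcc]; group
    rw [this]
    exact hztH
  · rintro ⟨⟨P, hP⟩, h2⟩ t ht htz hc g
    obtain ⟨⟨z1, hz1P⟩, hz1c, hz1⟩ := hP
    have hz1' : z1 = z := hz1
    subst hz1'
    have hzcP : ∀ p ∈ (P : Subgroup G), p * z1 = z1 * p := by
      intro p hp
      have := (Subgroup.mem_center_iff.mp hz1c) ⟨p, hp⟩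
      exact congrArg Subtype.val this
    have hPH : (P : Subgroup G) ≤ H := fun p hp => hcentz p (hzcP p hp)
    have htH : t ∈ H := hcentz t hc
    have htt : t * t = 1 := by
      obtain ⟨c, hcj⟩ := isConj_iff.mp ht
      rw [← hcj]
      calc c * z1 * c⁻¹ * (c * z1 * c⁻¹) = c * (z1 * z1) * c⁻¹ := by group
        _ = 1 := by rw [hzz]; group
    constructor
    · intro hv
      rw [mem_cj_iff] at hv
      obtain ⟨v, hvdef⟩ : ∃ v : H, v = ⟨g⁻¹ * (z1 * t) * g, hv⟩ := ⟨_, rfl⟩
      have hvv : v * v = 1 := by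
        apply Subtype.ext
        rw [hvdef]
        show g⁻¹ * (z1 * t) * g * (g⁻¹ * (z1 * t) * g) = 1
        calc g⁻¹ * (z1 * t) * g * (g⁻¹ * (z1 * t) * g)
            = g⁻¹ * (z1 * (t * z1) * t) * g := by group
          _ = g⁻¹ * (z1 * (z1 * t) * t) * g := by rw [hc]
          _ = g⁻¹ * ((z1 * z1) * (t * t)) * g := by group
          _ = 1 := by rw [hzz, htt]; group
      have hK2 : IsPGroup 2 (Subgroup.zpowers v) := by
        intro x
        obtain ⟨x, hx⟩ := x
        obtain ⟨i, rfl⟩ := Subgroup.mem_zpowers_iff.mp hx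
        refine ⟨1, ?_⟩
        apply Subtype.ext
        show (v ^ i) ^ 2 ^ 1 = 1
        rw [pow_one, ← zpow_natCast, ← zpow_mul, mul_comm, zpow_mul, zpow_natCast, pow_two, hvv,
          one_zpow]
      obtain ⟨h, hh⟩ := exists_cj_le_sylow (P.subtype hPH) (Subgroup.zpowers v) hK2
      have hmem : h * v * h⁻¹ ∈ ((P.subtype hPH : Sylow 2 H) : Subgroup H) :=
        hh (conj_mem_cj _ h v (Subgroup.mem_zpowers v))
      have hmem' : ((h * v * h⁻¹ : H) : G) ∈ (P : Subgroup G) := by
        have := Sylow.coe_subtype (P := P) hPH ▸ hmem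
        exact Subgroup.mem_subgroupOf.mp this
      have hcm := hzcP _ hmem'
      obtain ⟨d, hd⟩ : ∃ d : G, d = (h : G) * g⁻¹ := ⟨_, rfl⟩
      have hval : ((h * v * h⁻¹ : H) : G) = d * (z1 * t) * d⁻¹ := by
        rw [hd, hvdef]
        show (h : G) * (g⁻¹ * (z1 * t) * g) * (h : G)⁻¹ = _
        group
      rw [hval] at hcm
      have hdc : (d⁻¹ * z1 * d) * (z1 * t) = (z1 * t) * (d⁻¹ * z1 * d) := by
        have e1 : (d⁻¹ * z1 * d) * (z1 * t) = d⁻¹ * (z1 * (d * (z1 * t) * d⁻¹)) * d := by group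
        have e2 : (z1 * t) * (d⁻¹ * z1 * d) = d⁻¹ * ((d * (z1 * t) * d⁻¹) * z1) * d := by group
        rw [e1, e2, hcm]
      have hdH : d⁻¹ * z1 * d ∈ H :=
        h2 t ht htz hc (Subgroup.mem_centralizer_singleton_iff.mpr hdc)
      have hd' : d ∈ H := (h0 d).mp ((mem_cj_iff H d z1).mpr hdH)
      have : g⁻¹ ∈ H := by
        have h3 : g⁻¹ = (h : G)⁻¹ * d := by rw [hd]; group
        rw [h3]
        exact H.mul_mem (H.inv_mem h.2) hd'
      exact inv_mem_iff.mp this
    · intro hg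
      rw [mem_cj_iff]
      exact H.mul_mem (H.mul_mem (H.inv_mem hg) (H.mul_mem hzH htH)) hg

end Cfsg.Agent.Helper2.Asch
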