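import Mathlib
import Cfsg.Prelude.Def_GeometricClasses
import Cfsg.Agent.Lead.AschBase
import Cfsg.Agent.Helper5.AschClG
import Cfsg.Agent.Helper6.AschCompBurnside
import Cfsg.Agent.Helper4.AschFieldB

/-!
# The double centraliser theorem for a normal subgroup of an irreducible matrix group (helper2)

`N` normal in an irreducible group `H ≤ GL_n(F)` (so `F^n` is a completely reducible `N`-module): a matrix commuting
with the commutant of `N` lies in the linear span of `N`.  In particular the centre of the commutant (`ccenter N`)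
lies in the span of `N`.  From Mathlib's `jacobson_density` and helper5's complete reducibility `exists_compl`.
-/

set_option autoImplicit false
set_option linter.style.haveILetI false

namespace Cfsg.Agent.Helper2.AschDC

open Cfsg Cfsg.Geo Cfsg.Agent.Lead.Asch Cfsg.Agent.Helper5.Asch Cfsg.Agent.Helper6.AschComp
  Cfsg.Agent.Helper4.AschP
open scoped MatrixGroups Matrix

variable {n : ℕ} {F : Type*} [Field F]

/-- `F^n` is a semisimple module over the algebra generated by a normal subgroup of an irreducible group -/
theorem isSemisimpleModule_endAlg [Fintype F] (hn : 0 < n) {H N : Subgroup (GL (Fin n) F)}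
    (hH : ActsIrreducibly (matrixSet H)) (hnz : Nzes H N) :
    IsSemisimpleModule (endAlg (matrixSet N)) (Fin n → F) := by
  rw [isSemisimpleModule_iff]
  refine ⟨fun U => ?_⟩
  have hinv : Inv N (U.restrictScalars F) := by
    intro x hx
    rintro _ ⟨v, hv, rfl⟩
    have : (⟨Matrix.toLin' (x : Matrix (Fin n) (Fin n) F), toLin'_mem_endAlg (coe_mem_matrixSet hx)⟩ :
        endAlg (matrixSet N)) • v ∈ U := U.smul_mem _ hv
    exact this
  obtain ⟨X', hX', hc⟩ := exists_compl hH hnz hn hinv
  have hX'S : ∀ s ∈ matrixSet N, X'.map (Matrix.toLin' s) ≤ X' := by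
    intro s hs
    obtain ⟨g, hg, rfl⟩ := mem_matrixSet_iff.1 hs
    exact hX' g hg
  let U' : Submodule (endAlg (matrixSet N)) (Fin n → F) :=
    { carrier := X'
      add_mem' := fun ha hb => X'.add_mem ha hb
      zero_mem' := X'.zero_mem
      smul_mem' := fun a v hv => endAlg_map_le hX'S a.2 (Submodule.mem_map_of_mem hv) }
  refine ⟨U', ?_, ?_⟩
  · rw [disjoint_iff, eq_bot_iff]
    intro v hv
    have h1 : v ∈ U.restrictScalars F ⊓ X' := ⟨hv.1, hv.2⟩
    rw [hc.inf_eq_bot] at h1
    exact h1
  · rw [codisjoint_iff, eq_top_iff]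
    intro v _
    have h1 : v ∈ U.restrictScalars F ⊔ X' := by rw [hc.sup_eq_top]; trivial
    obtain ⟨a, ha, b, hb, rfl⟩ := Submodule.mem_sup.1 h1
    exact Submodule.add_mem _ (Submodule.mem_sup_left ha) (Submodule.mem_sup_right hb)

/-- the algebra generated by the linear maps of a set of matrices is the image of the algebra generated by the
matrices -/
theorem mem_adjoin_of_toLin'_mem {S : Set (Matrix (Fin n) (Fin n) F)} {z : Matrix (Fin n) (Fin n) F}
    (h : Matrix.toLin' z ∈ endAlg S) : z ∈ Algebra.adjoin F S := by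
  unfold endAlg at h
  have h1 : ((fun s => Matrix.toLin' s) '' S : Set (Module.End F (Fin n → F))) =
      (Matrix.toLinAlgEquiv' : Matrix (Fin n) (Fin n) F ≃ₐ[F] _).toAlgHom '' S := by
    ext a
    constructor
    · rintro ⟨s, hs, rfl⟩
      exact ⟨s, hs, rfl⟩
    · rintro ⟨s, hs, rfl⟩
      exact ⟨s, hs, rfl⟩
  rw [h1, ← AlgHom.map_adjoin] at h
  obtain ⟨y, hy, hyz⟩ := h
  have : y = z := by
    apply (Matrix.toLinAlgEquiv' : Matrix (Fin n) (Fin n) F ≃ₐ[F] _).injective
    exact hyz
  rw [← this]
  exact hy

/-- **double centraliser**: a matrix commuting with the commutant of `N` lies in the span of `N` -/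
theorem mem_span_of_comm_commutant [Fintype F] (hn : 0 < n) {H N : Subgroup (GL (Fin n) F)}
    (hH : ActsIrreducibly (matrixSet H)) (hnz : Nzes H N) (z : Matrix (Fin n) (Fin n) F)
    (hz : ∀ c : Matrix (Fin n) (Fin n) F, (∀ s ∈ matrixSet N, c * s = s * c) → z * c = c * z) :
    z ∈ Submodule.span F (matrixSet N) := by
  classical
  haveI := isSemisimpleModule_endAlg hn hH hnz
  let g' : Module.End (Module.End (endAlg (matrixSet N)) (Fin n → F)) (Fin n → F) :=
    { toFun := Matrix.toLin' z
      map_add' := (Matrix.toLin' z).map_add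
      map_smul' := by
        intro φ v
        simp only [Module.End.smul_def, RingHom.id_apply]
        have h1 := hz _ (fun s hs => end_endAlg_comm φ s hs)
        have h2 : Matrix.toLin' (z * LinearMap.toMatrix' (φ.restrictScalars F)) v =
            Matrix.toLin' (LinearMap.toMatrix' (φ.restrictScalars F) * z) v := by rw [h1]
        rw [Matrix.toLin'_mul, Matrix.toLin'_mul, Matrix.toLin'_toMatrix'] at h2
        exact h2 }
  obtain ⟨r, hr⟩ := jacobson_density (R := endAlg (matrixSet N)) (M := Fin n → F) g'
    (Finset.univ.image (fun i : Fin n => (Pi.single i 1 : Fin n → F)))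
  have hgr : Matrix.toLin' z = (r : Module.End F (Fin n → F)) := by
    apply LinearMap.pi_ext'
    intro i
    apply LinearMap.ext
    intro c
    simp only [LinearMap.coe_comp, LinearMap.coe_single, Function.comp_apply]
    have h1 : (Pi.single i c : Fin n → F) = c • Pi.single i 1 := by
      rw [← Pi.single_smul, smul_eq_mul, mul_one]
    rw [h1, map_smul, map_smul]
    congr 1
    exact hr (Pi.single i 1) (Finset.mem_image_of_mem _ (Finset.mem_univ i))
  have hmem : Matrix.toLin' z ∈ endAlg (matrixSet N) := by
    rw [hgr]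
    exact r.2
  have h3 := mem_adjoin_of_toLin'_mem hmem
  have h4 : z ∈ Subalgebra.toSubmodule (spanAlg N) := h3
  rwa [spanAlg_toSubmodule] at h4

/-- the centre of the commutant lies in the span of `N` -/
theorem ccenter_le_span [Fintype F] (hn : 0 < n) {H N : Subgroup (GL (Fin n) F)}
    (hH : ActsIrreducibly (matrixSet H)) (hnz : Nzes H N) {z : Matrix (Fin n) (Fin n) F}
    (hz : z ∈ ccenter N) : z ∈ Submodule.span F (matrixSet N) :=
  mem_span_of_comm_commutant hn hH hnz z (mem_ccenter_iff.1 hz).2

end Cfsg.Agent.Helper2.AschDC
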