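import Mathlib
import Cfsg.Prelude.Def_GeometricClasses
import Cfsg.Agent.Lead.AschBase
import Cfsg.Agent.Lead.AschOBase

/-!
# ASCH-Ω9 (helper2 leads): Aschbacher's theorem for `Ω_9(q)`, `q` odd (target S5835): shared definitions

The conclusion `O9Concl` (with `H ≤ X` instead of `H = X ⊓ Ω`) and the hypothesis structure `O9Pieces F` (the pieces of
the generic theorem on `Fin 9`, abstract quadratic form), so that the assembly lands before the pieces do.
-/

set_option autoImplicit false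

namespace Cfsg.Agent.Helper2.AschO9

open Cfsg Cfsg.Geo Cfsg.Agent.Lead.Asch Cfsg.Agent.Lead.AschO
open scoped MatrixGroups Matrix Kronecker commutatorElement

/-- The conclusion of Aschbacher's theorem for a subgroup `H` of the isometry group of the quadratic form `Q` in
dimension `9`, `q` odd (with `≤` instead of `= · ⊓ Ω`). -/
def O9Concl {ι : Type} [Fintype ι] [DecidableEq ι] {F : Type*} [Field F] [Fintype F]
    (Q : (ι → F) → F) (H : Subgroup (GL ι F)) : Prop :=
  (∃ W : Submodule F (ι → F), W ≠ ⊥ ∧ IsTotallySingularQuad Q W ∧ H ≤ subspaceStabilizer W) ∨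
  (∃ W : Submodule F (ι → F), W ≠ ⊥ ∧ Even (Module.finrank F W) ∧
      IsNondegenerateOn (QuadraticMap.polar Q) W ∧
      ¬ (Fintype.card F = 3 ∧ Module.finrank F W = 2 ∧ IsPlusTypeOn Q W) ∧ H ≤ subspaceStabilizer W) ∨
  ((Fintype.card F).Prime ∧ ∃ D : Fin 9 → Submodule F (ι → F), IsOrthogonalMDecomposition Q 1 D ∧
      H ≤ decompositionStabilizer D) ∨
  (5 ≤ Fintype.card F ∧ ∃ D : Fin 3 → Submodule F (ι → F), IsOrthogonalMDecomposition Q 3 D ∧
      H ≤ decompositionStabilizer D) ∨
  (∃ K : Subalgebra F (Matrix ι ι F), IsFieldSubalgebra 3 K ∧ IsSelfAdjointFor (QuadraticMap.polar Q) K ∧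
      H ≤ subalgebraNormalizer K) ∨
  (∃ (F₀ : Subfield F) (r : ℕ) (P : GL ι F), r.Prime ∧ Fintype.card F = Nat.card F₀ ^ r ∧
      IsQuadFormRationalStructure Q F₀ P ∧ H ≤ subfieldSubgroup F₀ P) ∨
  (5 ≤ Fintype.card F ∧ ∃ (e : ι ≃ (Fin 2 → Fin 3)) (P : GL ι F) (f₁ : (Fin 3 → F) → (Fin 3 → F) → F),
      IsSymmetricForm f₁ ∧ IsTensorPowerFormStructure id (QuadraticMap.polar Q) f₁ e P ∧
      H ≤ tensorWreathSubgroup 3 2 e P) ∨
  InOrthogonalResidualClass H

/-- The pieces of the generic theorem, all on `Fin 9` for an abstract non-degenerate quadratic form, `q` odd. -/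
structure O9Pieces (F : Type*) [Field F] [Fintype F] : Prop where
  /-- P1: an adjoint-closed field of degree three is self-adjoint (symmetric form) -/
  adjOdd : ∀ (Q : (Fin 9 → F) → F), IsNondegenerateQuadraticForm Q →
    ∀ K : Subalgebra F (Matrix (Fin 9) (Fin 9) F), IsFieldSubalgebra 3 K →
    IsAdjointClosedFor (QuadraticMap.polar Q) K → IsSelfAdjointFor (QuadraticMap.polar Q) K
  /-- P2: a tensor decomposition `3 ⊗ 3` of the polar form with symmetric factors is a tensor square (two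
  non-degenerate symmetric forms in dimension three over a finite field of odd order are similar) and the
  tensor product subgroup lies in the tensor wreath subgroup -/
  tensorSquare : Odd (Fintype.card F) → ∀ (Q : (Fin 9 → F) → F), IsNondegenerateQuadraticForm Q →
    ∀ (e : Fin 9 ≃ Fin 3 × Fin 3) (P : GL (Fin 9) F) (f₁ f₂ : (Fin 3 → F) → (Fin 3 → F) → F),
    IsSymmetricForm f₁ → IsSymmetricForm f₂ → IsTensorFormStructure id (QuadraticMap.polar Q) f₁ f₂ e P →
    ∃ (e' : Fin 9 ≃ (Fin 2 → Fin 3)) (P' : GL (Fin 9) F) (g₁ : (Fin 3 → F) → (Fin 3 → F) → F),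
      IsSymmetricForm g₁ ∧ IsTensorPowerFormStructure id (QuadraticMap.polar Q) g₁ e' P' ∧
      tensorProductSubgroup 3 3 e P ≤ tensorWreathSubgroup 3 2 e' P'
  /-- P3 (`q = 3`): `O_3(3) ≀ S_3 ≤ O_1(3) ≀ S_9` -/
  decompThree : Fintype.card F = 3 → ∀ (Q : (Fin 9 → F) → F), IsNondegenerateQuadraticForm Q →
    ∀ D : Fin 3 → Submodule F (Fin 9 → F), IsOrthogonalMDecomposition Q 3 D →
    ∃ D' : Fin 9 → Submodule F (Fin 9 → F), IsOrthogonalMDecomposition Q 1 D' ∧
      decompositionStabilizer D ⊓ isometryGroup F Q ≤ decompositionStabilizer D'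
  /-- P4 (`q = 3`): a perfect group of isometries of a ternary symmetric form over the field with three elements is
  trivial (`O_3(3)` is solvable) -/
  perfectThree : Fintype.card F = 3 → ∀ (f₁ : (Fin 3 → F) → (Fin 3 → F) → F) (P₁ : Subgroup (GL (Fin 3) F)),
    IsSymmetricForm f₁ → ⁅P₁, P₁⁆ = P₁ → FixesForm (matrixSet P₁) f₁ → P₁ = ⊥

end Cfsg.Agent.Helper2.AschO9
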