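import Mathlib
import Cfsg.Prelude.Def_GeometricClasses
import Cfsg.Agent.Helper1.AschSpAdj
import Cfsg.Agent.Helper2.AschO9Base

/-!
# ASCH-Ω9 piece `O9Pieces.adjOdd` (helper2): an adjoint-closed field of odd degree is self-adjoint (symmetric form)

The proof of helper1's `adjOdd_symp` word for word (it only uses that the adjoint of the adjoint is the element itself).
-/

set_option autoImplicit false
set_option linter.unusedVariables false
set_option linter.unusedSectionVars false

namespace Cfsg.Agent.Helper2.AschO9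

open Cfsg Cfsg.Geo Cfsg.Agent.Helper1.AschSp
open scoped MatrixGroups Matrix

variable {ι : Type} [Fintype ι] [DecidableEq ι] {F : Type*} [Field F]

variable {f : (ι → F) → (ι → F) → F}

theorem adj_sub (hf : IsSymmetricForm f) {x x' y y' : Matrix ι ι F} (hx : Adj f x x') (hy : Adj f y y') :
    Adj f (x - y) (x' - y') := by
  intro u v
  have h1 : f (x *ᵥ u - y *ᵥ u) v = f (x *ᵥ u) v - f (y *ᵥ u) v := by
    have h := hf.bilinear.add_left (x *ᵥ u - y *ᵥ u) (y *ᵥ u) v
    rw [sub_add_cancel] at h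
    rw [h]; ring
  have h2 : f u (x' *ᵥ v - y' *ᵥ v) = f u (x' *ᵥ v) - f u (y' *ᵥ v) := by
    have h := hf.bilinear.add_right u (x' *ᵥ v - y' *ᵥ v) (y' *ᵥ v)
    rw [sub_add_cancel] at h
    rw [h]; ring
  rw [Matrix.sub_mulVec, Matrix.sub_mulVec, h1, h2, hx, hy]

theorem adj_symm (hf : IsSymmetricForm f) {x x' : Matrix ι ι F} (hx : Adj f x x') : Adj f x' x := by
  intro u v
  rw [hf.symm, ← hx, hf.symm]

theorem adj_unique (hf : IsSymmetricForm f) {x x' x'' : Matrix ι ι F} (h1 : Adj f x x') (h2 : Adj f x x'') :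
    x' = x'' := by
  apply Matrix.mulVec_injective
  funext v
  by_contra hne
  have hd : x' *ᵥ v - x'' *ᵥ v ≠ 0 := sub_ne_zero.mpr hne
  obtain ⟨u, hu⟩ := (hf.nondegenerate _ hd).1
  apply hu
  have h := hf.bilinear.add_right u (x' *ᵥ v - x'' *ᵥ v) (x'' *ᵥ v)
  rw [sub_add_cancel] at h
  have h3 : f u (x' *ᵥ v - x'' *ᵥ v) = f u (x' *ᵥ v) - f u (x'' *ᵥ v) := by rw [h]; ring
  rw [h3, ← h1, ← h2, sub_self]

/-- (any index type, symmetric form): an adjoint-closed field of odd degree is self-adjoint. -/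
theorem adjOdd_symm (hf : IsSymmetricForm f) (r : ℕ) (K : Subalgebra F (Matrix ι ι F)) (hr : Odd r)
    (hK : IsFieldSubalgebra r K) (hadj : IsAdjointClosedFor f K) : IsSelfAdjointFor f K := by
  classical
  by_contra hns
  unfold IsSelfAdjointFor at hns
  push Not at hns
  obtain ⟨a, haK, hna⟩ := hns
  obtain ⟨a', ha'K, haa'⟩ := hadj a haK
  have haA : Adj f a a' := haa'
  have hne : a ≠ a' := by
    rintro h
    obtain ⟨u, v, huv⟩ := hna
    apply huv
    have := haA u v
    rw [← h] at this
    exact this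
  -- δ = a - a'
  obtain ⟨δ, hδ⟩ : ∃ δ : Matrix ι ι F, δ = a - a' := ⟨_, rfl⟩
  have hδK : δ ∈ K := by rw [hδ]; exact Subalgebra.sub_mem _ haK ha'K
  have hδ0 : δ ≠ 0 := by rw [hδ]; exact sub_ne_zero.mpr hne
  have hδA : Adj f δ (-δ) := by
    have := adj_sub hf haA (adj_symm hf haA)
    rw [hδ]
    have e : -(a - a') = a' - a := by abel
    rw [e]
    exact this
  obtain ⟨d, hdK, hδd⟩ := hK.inv δ hδK hδ0
  have hdδ : d * δ = 1 := by rw [hK.comm d hdK δ hδK]; exact hδd
  obtain ⟨d', hd'K, hdd'⟩ := hadj d hdK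
  have hdA : Adj f d (-d) := by
    have h1 : Adj f (δ * d) (d' * -δ) := Adj.mul hδA hdd'
    rw [hδd] at h1
    have h2 := adj_unique hf h1 (Adj.one f)
    -- d' * (-δ) = 1 ⇒ d' = -d
    have h3 : d' = -d := by
      calc d' = d' * (δ * d) := by rw [hδd, mul_one]
        _ = -((d' * -δ) * d) := by
            rw [mul_neg, neg_mul, neg_neg, mul_assoc]
        _ = -d := by rw [h2, one_mul]
    rw [← h3]
    exact hdd'
  -- `a` is invertible
  have ha0 : a ≠ 0 := by
    rintro rfl
    have h0 : Adj f (0 : Matrix ι ι F) 0 := by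
      intro u v
      rw [Matrix.zero_mulVec, Matrix.zero_mulVec]
      have h1 := hf.bilinear.smul_left 0 u v
      have h2 := hf.bilinear.smul_right 0 u v
      rw [zero_smul, zero_mul] at h1 h2
      rw [h1, h2]
    exact hne (adj_unique hf haA h0).symm
  obtain ⟨b, hbK, hab⟩ := hK.inv a haK ha0
  have hba : b * a = 1 := by rw [hK.comm b hbK a haK]; exact hab
  -- the self-adjoint part and its translate
  let K₀ : Submodule F (Matrix ι ι F) :=
    { carrier := {x | x ∈ K ∧ Adj f x x}
      add_mem' := by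
        rintro x y ⟨hx, hxA⟩ ⟨hy, hyA⟩
        refine ⟨Subalgebra.add_mem _ hx hy, ?_⟩
        intro u v
        rw [Matrix.add_mulVec, Matrix.add_mulVec, hf.bilinear.add_left, hf.bilinear.add_right, hxA, hyA]
      zero_mem' := by
        refine ⟨Subalgebra.zero_mem _, ?_⟩
        intro u v
        rw [Matrix.zero_mulVec, Matrix.zero_mulVec]
        have h1 := hf.bilinear.smul_left 0 u v
        have h2 := hf.bilinear.smul_right 0 u v
        rw [zero_smul, zero_mul] at h1 h2
        rw [h1, h2]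
      smul_mem' := by
        rintro c x ⟨hx, hxA⟩
        refine ⟨Subalgebra.smul_mem _ hx c, ?_⟩
        intro u v
        rw [Matrix.smul_mulVec, Matrix.smul_mulVec, hf.bilinear.smul_left, hf.bilinear.smul_right, hxA] }
  have hK₀mem : ∀ x, x ∈ K₀ ↔ x ∈ K ∧ Adj f x x := fun x => Iff.rfl
  let La : Matrix ι ι F →ₗ[F] Matrix ι ι F := LinearMap.mulLeft F a
  have hLa : ∀ x, La x = a * x := fun x => rfl
  have hLinj : Function.Injective La := by
    intro x y hxy
    rw [hLa, hLa] at hxy
    calc x = (b * a) * x := by rw [hba, one_mul]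
      _ = b * (a * x) := mul_assoc _ _ _
      _ = b * (a * y) := by rw [hxy]
      _ = (b * a) * y := (mul_assoc _ _ _).symm
      _ = y := by rw [hba, one_mul]
  let K₁ : Submodule F (Matrix ι ι F) := K₀.map La
  have hdisj : K₀ ⊓ K₁ = ⊥ := by
    rw [eq_bot_iff]
    rintro x ⟨hx0, hx1⟩
    obtain ⟨y, hy0, rfl⟩ := hx1
    obtain ⟨hyK, hyA⟩ := (hK₀mem y).1 hy0
    obtain ⟨hxK, hxA⟩ := (hK₀mem _).1 hx0
    rw [hLa] at hxA ⊢
    -- (a y)* = y a' ; self-adjoint ⇒ a y = y a'
    have h1 : Adj f (a * y) (y * a') := Adj.mul haA hyA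
    have h2 := adj_unique hf h1 hxA
    have h3 : δ * y = 0 := by
      rw [hδ, sub_mul, sub_eq_zero, ← h2, hK.comm y hyK a' ha'K]
    have hy0' : y = 0 := by
      calc y = (d * δ) * y := by rw [hdδ, one_mul]
        _ = d * (δ * y) := mul_assoc _ _ _
        _ = 0 := by rw [h3, mul_zero]
    rw [hy0', mul_zero]
    exact Submodule.zero_mem _
  have hsup : Subalgebra.toSubmodule K = K₀ ⊔ K₁ := by
    apply le_antisymm
    · intro x hx
      have hxK : x ∈ K := hx
      obtain ⟨x', hx'K, hxx'⟩ := hadj x hxK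
      have hxA : Adj f x x' := hxx'
      obtain ⟨β, hβ⟩ : ∃ β : Matrix ι ι F, β = (x - x') * d := ⟨_, rfl⟩
      have hsubK : x - x' ∈ K := Subalgebra.sub_mem _ hxK hx'K
      have hβK : β ∈ K := by rw [hβ]; exact Subalgebra.mul_mem _ hsubK hdK
      have hβA : Adj f β β := by
        have h1 : Adj f ((x - x') * d) (-d * (x' - x)) := Adj.mul (adj_sub hf hxA (adj_symm hf hxA)) hdA
        have e : -d * (x' - x) = (x - x') * d := by
          rw [hK.comm (x - x') hsubK d hdK]
          noncomm_ring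
        rw [e, ← hβ] at h1
        exact h1
      obtain ⟨α, hα⟩ : ∃ α : Matrix ι ι F, α = x - a * β := ⟨_, rfl⟩
      have hαK : α ∈ K := by rw [hα]; exact Subalgebra.sub_mem _ hxK (Subalgebra.mul_mem _ haK hβK)
      have hαA : Adj f α α := by
        have h1 : Adj f (x - a * β) (x' - β * a') := adj_sub hf hxA (Adj.mul haA hβA)
        have e : x' - β * a' = x - a * β := by
          -- x - x' = (a - a') β
          have h2 : δ * β = x - x' := by
            rw [hβ, hK.comm (x - x') hsubK d hdK, ← mul_assoc, hδd, one_mul]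
          have h3 : β * a' = a' * β := hK.comm β hβK a' ha'K
          rw [h3]
          have h4 : a * β - a' * β = x - x' := by rw [← sub_mul, ← hδ, h2]
          have h5 : x' - a' * β - (x - a * β) = 0 := by
            have : x' - a' * β - (x - a * β) = (a * β - a' * β) - (x - x') := by abel
            rw [this, h4, sub_self]
          exact sub_eq_zero.1 h5
        rw [e, ← hα] at h1
        exact h1
      have hx_eq : x = α + La β := by
        rw [hLa, hα]; abel
      rw [hx_eq]
      exact Submodule.add_mem_sup ((hK₀mem α).2 ⟨hαK, hαA⟩)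
        (Submodule.mem_map_of_mem ((hK₀mem β).2 ⟨hβK, hβA⟩))
    · apply sup_le
      · intro x hx
        exact ((hK₀mem x).1 hx).1
      · rintro _ ⟨y, hy, rfl⟩
        exact Subalgebra.mul_mem _ haK ((hK₀mem y).1 hy).1
  have hfr1 : Module.finrank F K₁ = Module.finrank F K₀ :=
    (LinearEquiv.finrank_eq (Submodule.equivMapOfInjective La hLinj K₀)).symm
  have hcount := Submodule.finrank_sup_add_finrank_inf_eq K₀ K₁
  rw [hdisj, finrank_bot, add_zero, ← hsup, hfr1] at hcount
  have hrK : Module.finrank F (Subalgebra.toSubmodule K) = r := by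
    rw [Subalgebra.finrank_toSubmodule]
    exact hK.finrank_eq
  rw [hrK] at hcount
  obtain ⟨c, hc⟩ := hr
  omega


theorem isSymmetricForm_polar {Q : (ι → F) → F} (hQ : IsNondegenerateQuadraticForm Q) :
    IsSymmetricForm (QuadraticMap.polar Q) where
  bilinear := hQ.polar_bilinear
  symm := fun u v => by unfold QuadraticMap.polar; rw [add_comm u v]; ring
  nondegenerate := hQ.nondegenerate

/-- **P1** (`O9Pieces.adjOdd`). -/
theorem adjOdd_piece [Fintype F] (Q : (Fin 9 → F) → F) (hQ : IsNondegenerateQuadraticForm Q)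
    (K : Subalgebra F (Matrix (Fin 9) (Fin 9) F)) (hK : IsFieldSubalgebra 3 K)
    (hadj : IsAdjointClosedFor (QuadraticMap.polar Q) K) : IsSelfAdjointFor (QuadraticMap.polar Q) K :=
  adjOdd_symm (isSymmetricForm_polar hQ) 3 K (by decide) hK hadj

end Cfsg.Agent.Helper2.AschO9
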