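import Mathlib
import Cfsg.Prelude.Def_GeometricClasses
import Cfsg.Agent.Lead.AschBase
import Cfsg.Agent.Lead.AschOBase

/-!
# ASCH-PRIME-O, piece O3 (helper2): the reducible case inside an orthogonal group

A reducible subgroup of the isometry group of a non-degenerate quadratic form in odd dimension `n ≥ 5` over a finite
field of odd order stabilises a non-zero totally singular subspace, or a non-zero non-degenerate subspace of even dimension
which is not a hyperbolic plane over the field with three elements.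
-/

set_option autoImplicit false

namespace Cfsg.Agent.Helper2.AschO

open Cfsg Cfsg.Geo Cfsg.Agent.Lead.Asch Cfsg.Agent.Lead.AschO
open scoped MatrixGroups Matrix

variable {n : ℕ} {F : Type*} [Field F]

/-! ### a symmetric bilinear form given as a function -/

/-- the data of a symmetric bilinear form -/
structure SymB (B : (Fin n → F) → (Fin n → F) → F) : Prop where
  bil : IsBilinearForm B
  symm : ∀ u v, B u v = B v u

theorem SymB.zero_left {B : (Fin n → F) → (Fin n → F) → F} (hB : SymB B) (v : Fin n → F) : B 0 v = 0 := by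
  have h := hB.bil.smul_left (0 : F) (0 : Fin n → F) v
  rw [zero_smul, zero_mul] at h
  exact h

theorem SymB.zero_right {B : (Fin n → F) → (Fin n → F) → F} (hB : SymB B) (v : Fin n → F) : B v 0 = 0 := by
  rw [hB.symm, hB.zero_left]

/-- the orthogonal complement of `W` -/
def perp (B : (Fin n → F) → (Fin n → F) → F) (hB : SymB B) (W : Submodule F (Fin n → F)) :
    Submodule F (Fin n → F) where
  carrier := {v | ∀ w ∈ W, B v w = 0}
  add_mem' {a b} ha hb := by
    intro w hw
    rw [hB.bil.add_left, ha w hw, hb w hw, add_zero]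
  zero_mem' := by
    intro w _
    exact hB.zero_left w
  smul_mem' c {a} ha := by
    intro w hw
    rw [hB.bil.smul_left, ha w hw, mul_zero]

theorem mem_perp {B : (Fin n → F) → (Fin n → F) → F} {hB : SymB B} {W : Submodule F (Fin n → F)}
    {v : Fin n → F} : v ∈ perp B hB W ↔ ∀ w ∈ W, B v w = 0 := Iff.rfl

/-- `dim W^⊥ ≥ n - dim W` -/
theorem le_finrank_perp {B : (Fin n → F) → (Fin n → F) → F} (hB : SymB B) (W : Submodule F (Fin n → F)) :
    n ≤ Module.finrank F W + Module.finrank F (perp B hB W) := by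
  classical
  set d := Module.finrank F W with hd
  let b := Module.finBasis F W
  let Φ : (Fin n → F) →ₗ[F] (Fin d → F) :=
    { toFun := fun v j => B v (b j : Fin n → F)
      map_add' := fun x y => by funext j; simp [hB.bil.add_left]
      map_smul' := fun c x => by funext j; simp [hB.bil.smul_left] }
  have hker : LinearMap.ker Φ ≤ perp B hB W := by
    intro v hv
    rw [LinearMap.mem_ker] at hv
    intro w hw
    have hwspan : (⟨w, hw⟩ : W) ∈ Submodule.span F (Set.range b) := by
      rw [b.span_eq]; trivial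
    have key : ∀ x : W, x ∈ Submodule.span F (Set.range b) → B v (x : Fin n → F) = 0 := by
      intro x hx
      induction hx using Submodule.span_induction with
      | mem y hy =>
        obtain ⟨j, rfl⟩ := hy
        exact congrFun hv j
      | zero => exact hB.zero_right v
      | add x y _ _ hx hy =>
        rw [Submodule.coe_add, hB.bil.add_right, hx, hy, add_zero]
      | smul c x _ hx =>
        rw [Submodule.coe_smul, hB.bil.smul_right, hx, mul_zero]
    exact key ⟨w, hw⟩ hwspan
  have h1 := LinearMap.finrank_range_add_finrank_ker Φ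
  rw [Module.finrank_fin_fun] at h1
  have h2 : Module.finrank F (LinearMap.range Φ) ≤ d := by
    have := Submodule.finrank_le (LinearMap.range Φ)
    rwa [Module.finrank_fin_fun] at this
  have h3 : Module.finrank F (LinearMap.ker Φ) ≤ Module.finrank F (perp B hB W) :=
    Submodule.finrank_mono hker
  omega

/-- isometries of `B` stabilising `W` stabilise `W^⊥` -/
theorem le_stab_perp {B : (Fin n → F) → (Fin n → F) → F} (hB : SymB B) {H : Subgroup (GL (Fin n) F)}
    (hiso : ∀ g ∈ H, ∀ u v, B ((g : Matrix (Fin n) (Fin n) F) *ᵥ u) ((g : Matrix (Fin n) (Fin n) F) *ᵥ v) = B u v)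
    {W : Submodule F (Fin n → F)} (hW : H ≤ subspaceStabilizer W) :
    H ≤ subspaceStabilizer (perp B hB W) := by
  have half : ∀ g ∈ H, ∀ v, v ∈ perp B hB W → (g : Matrix (Fin n) (Fin n) F) *ᵥ v ∈ perp B hB W := by
    intro g hg v hv w hw
    have hginv : ((g⁻¹ : GL (Fin n) F) : Matrix (Fin n) (Fin n) F) *ᵥ w ∈ W :=
      (mem_subspaceStabilizer_iff.mp (hW (H.inv_mem hg)) w).mp hw
    have h1 : (g : Matrix (Fin n) (Fin n) F) *ᵥ
        (((g⁻¹ : GL (Fin n) F) : Matrix (Fin n) (Fin n) F) *ᵥ w) = w := by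
      rw [Matrix.mulVec_mulVec, ← Units.val_mul, mul_inv_cancel, Units.val_one, Matrix.one_mulVec]
    rw [← h1, hiso g hg]
    exact hv _ hginv
  intro g hg
  rw [mem_subspaceStabilizer_iff]
  intro v
  constructor
  · exact half g hg v
  · intro hv
    have := half g⁻¹ (H.inv_mem hg) _ hv
    rwa [Matrix.mulVec_mulVec, ← Units.val_mul, inv_mul_cancel, Units.val_one, Matrix.one_mulVec] at this

theorem le_stab_inf {H : Subgroup (GL (Fin n) F)} {W U : Submodule F (Fin n → F)}
    (hW : H ≤ subspaceStabilizer W) (hU : H ≤ subspaceStabilizer U) :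
    H ≤ subspaceStabilizer (W ⊓ U) := by
  intro g hg
  rw [mem_subspaceStabilizer_iff]
  intro v
  rw [Submodule.mem_inf, Submodule.mem_inf, ← mem_subspaceStabilizer_iff.mp (hW hg) v,
    ← mem_subspaceStabilizer_iff.mp (hU hg) v]

/-- a subspace meeting its orthogonal complement trivially: dimensions add up, and both are non-degenerate -/
theorem nondeg_of_inf_perp {B : (Fin n → F) → (Fin n → F) → F} (hB : SymB B)
    (hnd : IsNondegenerateForm B) (W : Submodule F (Fin n → F)) (hR : W ⊓ perp B hB W = ⊥) :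
    Module.finrank F W + Module.finrank F (perp B hB W) = n ∧
      IsNondegenerateOn B W ∧ IsNondegenerateOn B (perp B hB W) := by
  have hdisj : Disjoint W (perp B hB W) := disjoint_iff.mpr hR
  have hsum : Module.finrank F W + Module.finrank F (perp B hB W) = n := by
    have h1 := le_finrank_perp hB W
    have h2 := Submodule.finrank_add_finrank_le_of_disjoint hdisj
    rw [Module.finrank_fin_fun] at h2
    omega
  have hsup : W ⊔ perp B hB W = ⊤ := by
    apply Submodule.eq_top_of_finrank_eq
    have h3 := Submodule.finrank_sup_add_finrank_inf_eq W (perp B hB W)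
    rw [hR, finrank_bot, add_zero] at h3
    rw [h3, hsum, Module.finrank_fin_fun]
  refine ⟨hsum, ?_, ?_⟩
  · intro w hw hw0
    have h1 : ∃ x ∈ W, B w x ≠ 0 := by
      by_contra hcon
      push Not at hcon
      have : w ∈ W ⊓ perp B hB W := ⟨hw, fun x hx => hcon x hx⟩
      rw [hR] at this
      exact hw0 ((Submodule.mem_bot F).mp this)
    obtain ⟨x, hx, hxw⟩ := h1
    exact ⟨⟨x, hx, fun h => hxw (by rw [hB.symm]; exact h)⟩, ⟨x, hx, hxw⟩⟩
  · intro w hw hw0
    have h1 : ∃ x ∈ perp B hB W, B x w ≠ 0 := by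
      by_contra hcon
      push Not at hcon
      obtain ⟨y, hy⟩ := (hnd w hw0).1
      apply hy
      have hymem : y ∈ W ⊔ perp B hB W := by rw [hsup]; trivial
      obtain ⟨a, ha, b, hb, rfl⟩ := Submodule.mem_sup.mp hymem
      rw [hB.bil.add_left, hcon b hb, add_zero, hB.symm]
      exact hw a ha
    obtain ⟨x, hx, hxw⟩ := h1
    exact ⟨⟨x, hx, hxw⟩, ⟨x, hx, fun h => hxw (by rw [hB.symm]; exact h)⟩⟩

/-! ### the polar form of a quadratic form -/

theorem symB_polar {Q : (Fin n → F) → F} (hQ : IsNondegenerateQuadraticForm Q) :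
    SymB (QuadraticMap.polar Q) where
  bil := hQ.polar_bilinear
  symm := fun u v => by unfold QuadraticMap.polar; rw [add_comm u v]; ring

theorem polar_self {Q : (Fin n → F) → F} (hQ : IsNondegenerateQuadraticForm Q) (v : Fin n → F) :
    QuadraticMap.polar Q v v = 2 * Q v := by
  unfold QuadraticMap.polar
  have h : v + v = (2 : F) • v := (two_smul F v).symm
  rw [h, hQ.smul]
  ring

theorem Q_zero {Q : (Fin n → F) → F} (hQ : IsNondegenerateQuadraticForm Q) : Q 0 = 0 := by
  have h := hQ.smul (0 : F) (0 : Fin n → F)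
  rw [zero_smul] at h
  rw [h]; ring

theorem polar_iso {Q : (Fin n → F) → F} {H : Subgroup (GL (Fin n) F)} (hHI : H ≤ isometryGroup F Q) :
    ∀ g ∈ H, ∀ u v, QuadraticMap.polar Q ((g : Matrix (Fin n) (Fin n) F) *ᵥ u)
      ((g : Matrix (Fin n) (Fin n) F) *ᵥ v) = QuadraticMap.polar Q u v := by
  intro g hg u v
  have h := mem_isometryGroup_iff.1 (hHI hg)
  unfold QuadraticMap.polar
  rw [← Matrix.mulVec_add, h, h, h]

/-- expansion of `Q` on a combination of two vectors -/
theorem Q_comb {Q : (Fin n → F) → F} (hQ : IsNondegenerateQuadraticForm Q) (x y : F) (a b : Fin n → F) :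
    Q (x • a + y • b) = x ^ 2 * Q a + y ^ 2 * Q b + x * y * QuadraticMap.polar Q a b := by
  have h1 : QuadraticMap.polar Q (x • a) (y • b) = x * y * QuadraticMap.polar Q a b := by
    rw [hQ.polar_bilinear.smul_left, hQ.polar_bilinear.smul_right]; ring
  have h2 : Q (x • a + y • b) = Q (x • a) + Q (y • b) + QuadraticMap.polar Q (x • a) (y • b) := by
    unfold QuadraticMap.polar; ring
  rw [h2, h1, hQ.smul, hQ.smul]

/-! ### the hyperbolic plane over the field with three elements -/

/-- In a hyperbolic plane over `F_3` the vectors with `Q = 1` are `±u₀`. -/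
theorem exists_pm_of_plus_plane [Fintype F] (hq : Fintype.card F = 3)
    {Q : (Fin n → F) → F} (hQ : IsNondegenerateQuadraticForm Q)
    (W : Submodule F (Fin n → F)) (hdim : Module.finrank F W = 2)
    (hnd : IsNondegenerateOn (QuadraticMap.polar Q) W) (hplus : IsPlusTypeOn Q W) :
    ∃ u₀ ∈ W, Q u₀ = 1 ∧ ∀ v ∈ W, Q v = 1 → v = u₀ ∨ v = -u₀ := by
  classical
  have hsq : ∀ c : F, c ≠ 0 → c ^ 2 = 1 := by
    intro c hc
    have h := FiniteField.pow_card_sub_one_eq_one c hc
    rw [hq] at h
    exact h
  obtain ⟨U, hUW, hUts, hUdim⟩ := hplus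
  rw [hdim] at hUdim
  have hU1 : Module.finrank F U = 1 := by omega
  have hUne : U ≠ ⊥ := by
    intro h
    rw [h, finrank_bot] at hU1
    omega
  obtain ⟨a, haU, ha0⟩ := Submodule.exists_mem_ne_zero_of_ne_bot hUne
  have haW : a ∈ W := hUW haU
  have hQa : Q a = 0 := hUts a haU
  obtain ⟨b, hbW, hab⟩ := (hnd a haW ha0).2
  set β := QuadraticMap.polar Q a b with hβ
  set γ := Q b with hγ
  have hβ2 : β ^ 2 = 1 := hsq β hab
  -- `a, b` span `W`
  have hli : LinearIndependent F ![a, b] := by
    rw [LinearIndependent.pair_iff]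
    intro s t hst
    have h1 : QuadraticMap.polar Q a (s • a + t • b) = 0 := by
      rw [hst]; exact (symB_polar hQ).zero_right a
    rw [hQ.polar_bilinear.add_right, hQ.polar_bilinear.smul_right, hQ.polar_bilinear.smul_right,
      polar_self hQ, hQa, mul_zero, mul_zero, zero_add] at h1
    have ht : t = 0 := by
      rcases mul_eq_zero.1 h1 with h | h
      · exact h
      · exact absurd h hab
    rw [ht, zero_smul, add_zero] at hst
    rcases smul_eq_zero.1 hst with h | h
    · exact ⟨h, ht⟩
    · exact absurd h ha0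
  have hspan : Submodule.span F (Set.range ![a, b]) = W := by
    apply Submodule.eq_of_le_of_finrank_eq
    · rw [Submodule.span_le]
      rintro _ ⟨i, rfl⟩
      fin_cases i
      · exact haW
      · exact hbW
    · rw [finrank_span_eq_card hli, hdim]
      simp
  have hrep : ∀ v ∈ W, ∃ x y : F, v = x • a + y • b := by
    intro v hv
    rw [← hspan] at hv
    obtain ⟨c, rfl⟩ := (Submodule.mem_span_range_iff_exists_fun F).1 hv
    refine ⟨c 0, c 1, ?_⟩
    simp [Fin.sum_univ_two]
  set u₀ : Fin n → F := (β * (1 - γ)) • a + (1 : F) • b with hu₀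
  have hu₀W : u₀ ∈ W := W.add_mem (W.smul_mem _ haW) (W.smul_mem _ hbW)
  have hQu₀ : Q u₀ = 1 := by
    rw [hu₀, Q_comb hQ, hQa, ← hβ, ← hγ]
    linear_combination (1 - γ) * hβ2
  refine ⟨u₀, hu₀W, hQu₀, ?_⟩
  intro v hv hQv
  obtain ⟨x, y, rfl⟩ := hrep v hv
  rw [Q_comb hQ, hQa, ← hβ, ← hγ] at hQv
  have hy0 : y ≠ 0 := by
    intro h
    rw [h] at hQv
    simp at hQv
  have hy2 : y ^ 2 = 1 := hsq y hy0
  -- `x = β y (1 - γ)`
  have hx : x = β * y * (1 - γ) := by
    have h1 : y * (y * γ + x * β) = 1 := by linear_combination hQv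
    have h2 : y * γ + x * β = y := by
      have : y ^ 2 * (y * γ + x * β) = y := by linear_combination y * h1
      rw [hy2, one_mul] at this
      exact this
    have h3 : x * β ^ 2 = β * y * (1 - γ) := by linear_combination β * h2
    rw [hβ2, mul_one] at h3
    exact h3
  have hv' : x • a + y • b = y • u₀ := by
    rw [hu₀, hx, smul_add, smul_smul, smul_smul, mul_one]
    congr 1
    · congr 1; ring
  have hy : y = 1 ∨ y = -1 := by
    have : (y - 1) * (y + 1) = 0 := by linear_combination hy2
    rcases mul_eq_zero.1 this with h | h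
    · exact Or.inl (sub_eq_zero.1 h)
    · exact Or.inr (eq_neg_of_add_eq_zero_left h)
  rcases hy with h | h
  · left; rw [hv', h, one_smul]
  · right; rw [hv', h, neg_smul, one_smul]

/-! ### the main statement -/

theorem le_stab_of_half {H : Subgroup (GL (Fin n) F)} {W : Submodule F (Fin n → F)}
    (half : ∀ g ∈ H, ∀ v ∈ W, (g : Matrix (Fin n) (Fin n) F) *ᵥ v ∈ W) : H ≤ subspaceStabilizer W := by
  intro g hg
  rw [mem_subspaceStabilizer_iff]
  intro v
  constructor
  · exact half g hg v
  · intro hv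
    have := half g⁻¹ (H.inv_mem hg) _ hv
    rwa [Matrix.mulVec_mulVec, ← Units.val_mul, inv_mul_cancel, Units.val_one, Matrix.one_mulVec] at this

theorem two_ne_zero_of_odd_card [Fintype F] (hodd : Odd (Fintype.card F)) : (2 : F) ≠ 0 := by
  intro h2
  have h1 : ringChar F = 2 := CharP.ringChar_of_prime_eq_zero Nat.prime_two (by exact_mod_cast h2)
  have h3 := FiniteField.even_card_iff_char_two.1 h1
  rcases hodd with ⟨k, hk⟩
  omega

/-- **O3**: the reducible case. -/
theorem orth_reducible [Fintype F] (hodd : Odd (Fintype.card F)) (hn : Odd n) (hn5 : 5 ≤ n)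
    (Q : (Fin n → F) → F) (hQ : IsNondegenerateQuadraticForm Q)
    {H : Subgroup (GL (Fin n) F)} (hHI : H ≤ isometryGroup F Q) (hred : ¬ ActsIrreducibly (matrixSet H)) :
    (∃ W : Submodule F (Fin n → F), W ≠ ⊥ ∧ IsTotallySingularQuad Q W ∧ H ≤ subspaceStabilizer W) ∨
    (∃ W : Submodule F (Fin n → F), W ≠ ⊥ ∧ Even (Module.finrank F W) ∧
      IsNondegenerateOn (QuadraticMap.polar Q) W ∧
      ¬ (Fintype.card F = 3 ∧ Module.finrank F W = 2 ∧ IsPlusTypeOn Q W) ∧ H ≤ subspaceStabilizer W) := by
  classical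
  have h2 : (2 : F) ≠ 0 := two_ne_zero_of_odd_card hodd
  have hB := symB_polar hQ
  have hiso := polar_iso hHI
  -- a minimal invariant subspace
  let S : Set (Submodule F (Fin n → F)) := {W | W ≠ ⊥ ∧ W ≠ ⊤ ∧ H ≤ subspaceStabilizer W}
  have hne : S.Nonempty := exists_stab_of_not_irred hred
  obtain ⟨W, hWS, hmin⟩ := WellFounded.has_min
    (measure (fun W : Submodule F (Fin n → F) => Module.finrank F W)).wf S hne
  obtain ⟨hW0, hW1, hWle⟩ := hWS
  have hPle := le_stab_perp hB hiso hWle
  have hRle := le_stab_inf hWle hPle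
  by_cases hR : W ⊓ perp (QuadraticMap.polar Q) hB W = ⊥
  · -- non-degenerate
    right
    obtain ⟨hsum, hndW, hndP⟩ := nondeg_of_inf_perp hB hQ.nondegenerate W hR
    have hP0 : perp (QuadraticMap.polar Q) hB W ≠ ⊥ := by
      intro h
      rw [h, finrank_bot, add_zero] at hsum
      apply hW1
      apply Submodule.eq_top_of_finrank_eq
      rw [hsum, Module.finrank_fin_fun]
    have key : ∃ W' : Submodule F (Fin n → F), W' ≠ ⊥ ∧ Even (Module.finrank F W') ∧
        IsNondegenerateOn (QuadraticMap.polar Q) W' ∧ H ≤ subspaceStabilizer W' := by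
      rcases Nat.even_or_odd (Module.finrank F W) with he | ho
      · exact ⟨W, hW0, he, hndW, hWle⟩
      · refine ⟨perp (QuadraticMap.polar Q) hB W, hP0, ?_, hndP, hPle⟩
        obtain ⟨k, hk⟩ := hn
        obtain ⟨j, hj⟩ := ho
        exact ⟨k - j, by omega⟩
    obtain ⟨W', hW'0, hW'e, hW'nd, hW'le⟩ := key
    by_cases hex : Fintype.card F = 3 ∧ Module.finrank F W' = 2 ∧ IsPlusTypeOn Q W'
    · obtain ⟨hq3, hd2, hplus⟩ := hex
      obtain ⟨u₀, hu₀W, hQu₀, hpm⟩ := exists_pm_of_plus_plane hq3 hQ W' hd2 hW'nd hplus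
      have hu₀0 : u₀ ≠ 0 := by
        intro h
        rw [h, Q_zero hQ] at hQu₀
        exact zero_ne_one hQu₀
      have hLle : H ≤ subspaceStabilizer (Submodule.span F {u₀}) := by
        apply le_stab_of_half
        intro g hg v hv
        obtain ⟨c, rfl⟩ := Submodule.mem_span_singleton.1 hv
        rw [Matrix.mulVec_smul]
        apply Submodule.smul_mem
        have h1 : (g : Matrix (Fin n) (Fin n) F) *ᵥ u₀ ∈ W' :=
          (mem_subspaceStabilizer_iff.mp (hW'le hg) u₀).mp hu₀W
        have h3 : Q ((g : Matrix (Fin n) (Fin n) F) *ᵥ u₀) = 1 := by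
          rw [mem_isometryGroup_iff.1 (hHI hg), hQu₀]
        rcases hpm _ h1 h3 with h | h
        · rw [h]; exact Submodule.mem_span_singleton_self u₀
        · rw [h]; exact Submodule.neg_mem _ (Submodule.mem_span_singleton_self u₀)
      have hLR : Submodule.span F {u₀} ⊓ perp (QuadraticMap.polar Q) hB (Submodule.span F {u₀}) = ⊥ := by
        rw [eq_bot_iff]
        rintro v ⟨hv1, hv2⟩
        obtain ⟨c, rfl⟩ := Submodule.mem_span_singleton.1 hv1
        have h1 := hv2 u₀ (Submodule.mem_span_singleton_self u₀)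
        rw [hQ.polar_bilinear.smul_left, polar_self hQ, hQu₀, mul_one] at h1
        rcases mul_eq_zero.1 h1 with h | h
        · rw [h, zero_smul]; exact Submodule.zero_mem _
        · exact absurd h h2
      obtain ⟨hsumL, -, hndPL⟩ := nondeg_of_inf_perp hB hQ.nondegenerate _ hLR
      have hL1 : Module.finrank F (Submodule.span F {u₀}) = 1 := finrank_span_singleton hu₀0
      rw [hL1] at hsumL
      refine ⟨perp (QuadraticMap.polar Q) hB (Submodule.span F {u₀}), ?_, ?_, hndPL, ?_,
        le_stab_perp hB hiso hLle⟩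
      · intro h
        rw [h, finrank_bot] at hsumL
        omega
      · obtain ⟨k, hk⟩ := hn
        exact ⟨k, by omega⟩
      · rintro ⟨-, h, -⟩
        omega
    · exact ⟨W', hW'0, hW'e, hW'nd, hex, hW'le⟩
  · -- totally singular
    left
    have hRS : W ⊓ perp (QuadraticMap.polar Q) hB W ∈ S := by
      refine ⟨hR, ?_, hRle⟩
      intro h
      apply hW1
      rw [eq_top_iff, ← h]
      exact inf_le_left
    have h1 : ¬ Module.finrank F ↥(W ⊓ perp (QuadraticMap.polar Q) hB W) < Module.finrank F W :=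
      hmin _ hRS
    have h3 : W ⊓ perp (QuadraticMap.polar Q) hB W = W :=
      Submodule.eq_of_le_of_finrank_le inf_le_left (not_lt.mp h1)
    refine ⟨W, hW0, ?_, hWle⟩
    intro w hw
    have hw' : w ∈ W ⊓ perp (QuadraticMap.polar Q) hB W := by rw [h3]; exact hw
    have h4 := hw'.2 w hw
    rw [polar_self hQ] at h4
    rcases mul_eq_zero.1 h4 with h | h
    · exact absurd h h2
    · exact h

end Cfsg.Agent.Helper2.AschO
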