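import Mathlib
import Cfsg.Prelude.Def_GeometricClasses
import Cfsg.Agent.Helper2.AschO9Base
import Cfsg.Agent.Lead.AschOC2
import Cfsg.Agent.Lead.AschOFull
import Cfsg.Agent.Helper2.AschORed
import Cfsg.Agent.Helper3.AschForms
import Cfsg.Agent.Helper4.AschFC7I
import Cfsg.Agent.Helper5.AschForm5
import Cfsg.Agent.Helper5.AschForm7
import Cfsg.Agent.Helper5.AschHom4
import Cfsg.Agent.Helper5.AschOmM3a
import Cfsg.Agent.Helper5.AschOmM3e
import Cfsg.Agent.Helper6.AschCompCliff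
import Cfsg.Agent.Helper9.AschCompHom
import Cfsg.Agent.Helper9.AschCompTensor
import Cfsg.Agent.Helper9.AschCompK

/-!
# ASCH-Ω9 (helper2): Aschbacher's theorem for subgroups of the orthogonal group in dimension nine, `q` odd
(generic theorem on `Fin 9`, abstract quadratic form; from the pieces `O9Pieces F`)
-/

set_option autoImplicit false

namespace Cfsg.Agent.Helper2.AschO9

open Cfsg Cfsg.Geo Cfsg.Agent.Lead.Asch Cfsg.Agent.Lead.AschO
open scoped MatrixGroups Matrix Kronecker commutatorElement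

variable {F : Type*} [Field F]

theorem nine_eq_pow {d k : ℕ} (hd : 2 ≤ d) (hk : 2 ≤ k) (h : 9 = d ^ k) : d = 3 ∧ k = 2 := by
  have h1 : d ^ 2 ∣ d ^ k := pow_dvd_pow d hk
  rw [← h] at h1
  have h2 : d ^ 2 ≤ 9 := Nat.le_of_dvd (by norm_num) h1
  have h3 : d ≤ 3 := by nlinarith
  interval_cases d
  · exfalso
    have : 2 ∣ 2 ^ k := dvd_pow_self 2 (by omega)
    omega
  · refine ⟨rfl, ?_⟩
    have h4 : 3 ^ 2 = 3 ^ k := by rw [← h]; norm_num
    exact (Nat.pow_right_injective (by norm_num : 2 ≤ 3) h4).symm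

theorem nine_eq_mul {t m : ℕ} (ht : 2 ≤ t) (hm : 0 < m) (h : t * m = 9) : (t = 9 ∧ m = 1) ∨ (t = 3 ∧ m = 3) := by
  have ht9 : t ≤ 9 := by nlinarith
  interval_cases t <;> omega

/-- the Clifford step in dimension nine -/
theorem clifford_orth9 [Fintype F] (hp : O9Pieces F) (hodd : Odd (Fintype.card F)) (Q : (Fin 9 → F) → F)
    (hQ : IsNondegenerateQuadraticForm Q) {H N : Subgroup (GL (Fin 9) F)} (hHI : H ≤ isometryGroup F Q)
    (hH : ActsIrreducibly (matrixSet H)) (hNH : N ≤ H) (hnz : Nzes H N) :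
    (∃ D : Fin 9 → Submodule F (Fin 9 → F), IsOrthogonalMDecomposition Q 1 D ∧ H ≤ decompositionStabilizer D) ∨
    (∃ D : Fin 3 → Submodule F (Fin 9 → F), IsOrthogonalMDecomposition Q 3 D ∧ H ≤ decompositionStabilizer D) ∨
    (∃ K : Subalgebra F (Matrix (Fin 9) (Fin 9) F), IsFieldSubalgebra 3 K ∧
      IsSelfAdjointFor (QuadraticMap.polar Q) K ∧ H ≤ subalgebraNormalizer K) ∨
    (Fintype.card F ≠ 3 ∧
      ∃ (e : Fin 9 ≃ (Fin 2 → Fin 3)) (P : GL (Fin 9) F) (f₁ : (Fin 3 → F) → (Fin 3 → F) → F),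
      IsSymmetricForm f₁ ∧ IsTensorPowerFormStructure id (QuadraticMap.polar Q) f₁ e P ∧
      H ≤ tensorWreathSubgroup 3 2 e P) ∨
    N ≤ scalars (Fin 9) F ∨ ActsAbsolutelyIrreducibly (matrixSet N) := by
  have hn : 0 < 9 := by norm_num
  rcases Cfsg.Agent.Helper5.AschF.clifford_orthogonal hn hQ hHI hH hNH hnz with
    ⟨t, m, D, hD, hle, -, -⟩ | ⟨m, D, hD, hts, hle, -, -⟩ | hhom
  · have htm := Cfsg.Agent.Helper6.AschComp.card_mul_of_isMDecomposition D hD.decomp.decomp
    rcases nine_eq_mul hD.decomp.decomp.two_le hD.decomp.decomp.pos htm with ⟨rfl, rfl⟩ | ⟨rfl, rfl⟩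
    · exact Or.inl ⟨D, hD, hle⟩
    · exact Or.inr (Or.inl ⟨D, hD, hle⟩)
  · exfalso
    have := Cfsg.Agent.Helper6.AschComp.card_mul_of_isMDecomposition D hD
    omega
  have hNI : N ≤ isometryGroup F Q := hNH.trans hHI
  rcases Cfsg.Agent.Helper5.AschF.field_of_fullyInv_form hn (Cfsg.Agent.Helper5.AschF.RForm.of_quadratic hQ) hnz
    (Cfsg.Agent.Helper5.AschF.isom_of_le_isometryGroup hNI) hhom with ⟨r, K, hr, hr9, hK, hadj, hle⟩ | hct
  · have hr3 : r = 3 := by
      have h1 : r ∣ 3 ^ 2 := by norm_num; exact hr9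
      exact (Nat.prime_dvd_prime_iff_eq hr Nat.prime_three).1 (hr.dvd_of_dvd_pow h1)
    subst hr3
    exact Or.inr (Or.inr (Or.inl ⟨K, hK, hp.adjOdd Q hQ K hK hadj, hle⟩))
  obtain ⟨d, e, eqv, P, ρ, hd, he, hrel, hirr, hdvd⟩ := Cfsg.Agent.Helper5.Asch.homog_data hn hH hnz hhom
  have habs := Cfsg.Agent.Helper9.AschComp.rho_absIrred_of_centreTrivial he eqv P ρ hrel hirr hct
  have hcard : 9 = e * d := by
    have := Fintype.card_congr eqv
    simpa using this
  by_cases hd1 : d = 1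
  · subst hd1
    exact Or.inr (Or.inr (Or.inr (Or.inr (Or.inl
      (Cfsg.Agent.Helper9.AschComp.le_scalars_of_dim_one eqv P ρ hrel)))))
  by_cases he1 : e = 1
  · subst he1
    have hdn : d = 9 := by omega
    refine Or.inr (Or.inr (Or.inr (Or.inr (Or.inr
      (Cfsg.Agent.Helper9.AschComp.absIrred_of_dvd hn (fun X hX => ?_) hct)))))
    have h1 := hdvd X hX
    rw [hdn] at h1
    exact h1
  · have hed : e = 3 ∧ d = 3 := by
      have he9 : e ≤ 9 := by nlinarith
      interval_cases e <;> omega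
    obtain ⟨rfl, rfl⟩ := hed
    have hle : H ≤ tensorProductSubgroup 3 3 eqv P := fun g hg =>
      Cfsg.Agent.Helper9.AschComp.tensor_exit hn eqv P
        (fun x => ((ρ x : GL (Fin 3) F) : Matrix (Fin 3) (Fin 3) F)) hrel habs (fun x hx => hnz g hg x hx)
    obtain ⟨f₁, f₂, hty, hT⟩ := Cfsg.Agent.Helper5.AschOm.tensor_form_orth hn Q hQ hHI hH hNH (by norm_num)
      (by norm_num) eqv P ρ hrel habs hle
    rcases hty with ⟨hs1, -⟩ | ⟨-, hs1, hs2⟩
    · exact absurd hs1 (Cfsg.Agent.Helper3.Asch.no_symplectic_of_odd (by decide) f₁)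
    · by_cases h3 : Fintype.card F = 3
      · exact Or.inr (Or.inl (Cfsg.Agent.Helper5.AschOm.tensor_sym_three_small h3 Q hQ hHI (by norm_num) eqv P
          f₁ f₂ hs1 hs2 hT hle))
      · obtain ⟨e', P', g₁, hg₁, hTP, hsub⟩ := hp.tensorSquare hodd Q hQ eqv P f₁ f₂ hs1 hs2 hT
        exact Or.inr (Or.inr (Or.inr (Or.inl ⟨h3, e', P', g₁, hg₁, hTP, hle.trans hsub⟩)))

/-- **Aschbacher's theorem for subgroups of the orthogonal group in dimension nine, `q` odd** (from the pieces). -/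
theorem asch_orth9 [Fintype F] (hp : O9Pieces F) (hodd : Odd (Fintype.card F))
    (Q : (Fin 9 → F) → F) (hQ : IsNondegenerateQuadraticForm Q) (hdisc : DiscInt Q)
    (H : Subgroup (GL (Fin 9) F)) (hHI : H ≤ isometryGroup F Q) : O9Concl Q H := by
  have hn9 : Odd 9 := by decide
  by_cases hirr : ActsIrreducibly (matrixSet H)
  swap
  · rcases Cfsg.Agent.Helper2.AschO.orth_reducible hodd hn9 (by norm_num) Q hQ hHI hirr with h | h
    · exact Or.inl h
    · exact Or.inr (Or.inl h)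
  -- class `1^9`
  have c19 : ∀ D : Fin 9 → Submodule F (Fin 9 → F), IsOrthogonalMDecomposition Q 1 D →
      H ≤ decompositionStabilizer D → O9Concl Q H := by
    intro D hD hle
    by_cases hq : (Fintype.card F).Prime
    · exact Or.inr (Or.inr (Or.inl ⟨hq, D, hD, hle⟩))
    · obtain ⟨F₀, r, P, hr, hc, hrat, hsub⟩ := c2_orth_nonprime hn9 hodd Q hQ hdisc D hD hq
      exact Or.inr (Or.inr (Or.inr (Or.inr (Or.inr (Or.inl
        ⟨F₀, r, P, hr, hc, hrat, (le_inf hle hHI).trans hsub⟩)))))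
  have hq5 : Fintype.card F ≠ 3 → 5 ≤ Fintype.card F := by
    intro h3
    have h1 : 1 < Fintype.card F := Fintype.one_lt_card
    obtain ⟨k, hk⟩ := hodd
    omega
  -- class `3^3`
  have c33 : ∀ D : Fin 3 → Submodule F (Fin 9 → F), IsOrthogonalMDecomposition Q 3 D →
      H ≤ decompositionStabilizer D → O9Concl Q H := by
    intro D hD hle
    by_cases h3 : Fintype.card F = 3
    · obtain ⟨D', hD', hsub⟩ := hp.decompThree h3 Q hQ D hD
      exact c19 D' hD' ((le_inf hle hHI).trans hsub)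
    · exact Or.inr (Or.inr (Or.inr (Or.inl ⟨hq5 h3, D, hD, hle⟩)))
  -- class 7
  have c7 : Fintype.card F ≠ 3 →
      ∀ (e : Fin 9 ≃ (Fin 2 → Fin 3)) (P : GL (Fin 9) F) (f₁ : (Fin 3 → F) → (Fin 3 → F) → F),
      IsSymmetricForm f₁ → IsTensorPowerFormStructure id (QuadraticMap.polar Q) f₁ e P →
      H ≤ tensorWreathSubgroup 3 2 e P → O9Concl Q H := by
    intro h3 e P f₁ hf₁ hT hle
    exact Or.inr (Or.inr (Or.inr (Or.inr (Or.inr (Or.inr (Or.inl ⟨hq5 h3, e, P, f₁, hf₁, hT, hle⟩))))))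
  -- Clifford
  by_cases hgeo : ∃ N : Subgroup (GL (Fin 9) F), N ≤ H ∧ Nzes H N ∧
      ¬ (N ≤ scalars (Fin 9) F ∨ ActsAbsolutelyIrreducibly (matrixSet N))
  · obtain ⟨N, hNH, hnz, hnot⟩ := hgeo
    rcases clifford_orth9 hp hodd Q hQ hHI hirr hNH hnz with ⟨D, hD, hle⟩ | ⟨D, hD, hle⟩ | ⟨K, hK, hsa, hle⟩ |
      ⟨h3, e, P, f₁, hf₁, hT, hle⟩ | h | h
    · exact c19 D hD hle
    · exact c33 D hD hle
    · exact Or.inr (Or.inr (Or.inr (Or.inr (Or.inl ⟨K, hK, hsa, hle⟩))))
    · exact c7 h3 e P f₁ hf₁ hT hle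
    · exact absurd (Or.inl h) hnot
    · exact absurd (Or.inr h) hnot
  have hall : ∀ M : Subgroup (GL (Fin 9) F), M ≤ H → Nzes H M →
      M ≤ scalars (Fin 9) F ∨ ActsAbsolutelyIrreducibly (matrixSet M) := by
    intro M hMH hMnz
    by_contra h
    exact hgeo ⟨M, hMH, hMnz, h⟩
  have hHns : ¬ H ≤ scalars (Fin 9) F := not_le_scalars_of_irred (by norm_num) hirr
  obtain ⟨N, hNH, hNnz, hNns, hmin⟩ := exists_minimal hHns
  have hNabs : ActsAbsolutelyIrreducibly (matrixSet N) := (hall N hNH hNnz).resolve_left hNns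
  have hNI : N ≤ isometryGroup F Q := hNH.trans hHI
  have hfixN : FixesQuadForm (matrixSet N) Q := by
    intro s hs v
    rw [mem_matrixSet_iff] at hs
    obtain ⟨g, hg, rfl⟩ := hs
    exact mem_isometryGroup_iff.1 (hNI hg) v
  by_cases hperf : ⁅N, N⁆ = N
  · -- perfect case
    rcases Cfsg.Agent.Helper4.AschTI.perfect_case_orth_odd (by norm_num) hodd hQ hNH hNnz hNns hall hmin hperf
      hfixN with ⟨d, k, e, Pm, f₁, P₁, hd, hk, hty, hT, hP₁perf, hP₁abs, hP₁fix, hle⟩ | ⟨hsimp, hnab, hcent⟩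
    · have hcard : 9 = d ^ k := by
        have := Fintype.card_congr e
        simpa using this
      obtain ⟨rfl, rfl⟩ := nine_eq_pow hd hk hcard
      rcases hty with hs | ⟨hs, -⟩
      · by_cases h3 : Fintype.card F = 3
        · exfalso
          have hbot := hp.perfectThree h3 f₁ P₁ hs hP₁perf hP₁fix
          rw [hbot] at hP₁abs
          exact Cfsg.Agent.Helper4.AschTI.not_absIrr_bot (by norm_num) hP₁abs
        · exact c7 h3 e Pm f₁ hs hT hle
      · exact absurd hs (Cfsg.Agent.Helper3.Asch.no_symplectic_of_odd (by decide) f₁)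
    · by_cases hsub : ∃ F₀ : Subfield F, F₀ ≠ ⊤ ∧ RealisableOver F₀ (matrixSet N)
      · obtain ⟨F₀, h0, hr⟩ := hsub
        exact Or.inr (Or.inr (Or.inr (Or.inr (Or.inr (Or.inl
          (subfieldOrth hn9 (by norm_num) hodd Q hQ hdisc hNI hNnz hNabs F₀ h0 hr))))))
      · refine Or.inr (Or.inr (Or.inr (Or.inr (Or.inr (Or.inr (Or.inr ⟨N, ?_, ?_⟩))))))
        · exact
            { le := hNH
              normal := hNnz
              perfect := hperf
              simple := hsimp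
              nonabelian := hnab
              centralizer_scalar := hcent
              absIrred := hNabs
              no_subfield := fun F₀ h0 hr => hsub ⟨F₀, h0, hr⟩ }
        · rintro ⟨σ, f, hf, hfix⟩
          apply hsub
          exact quadUnitary (by norm_num) hNabs σ f hf hfix Q hQ hfixN
  · -- symplectic-type case: impossible
    exfalso
    have hcomm : ⁅N, N⁆ ≤ scalars (Fin 9) F := by
      by_contra hc
      exact hperf (hmin _ (Subgroup.commutator_le_self N) (nzes_commutator hNnz) hc)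
    have hab := abelian_of_commutator_le_scalars hn9 Q hQ (by norm_num) hNI hcomm
    apply hNns
    intro x hx
    obtain ⟨c, hc⟩ := hNabs.2 (x : Matrix (Fin 9) (Fin 9) F) (by
      intro s hs
      rw [mem_matrixSet_iff] at hs
      obtain ⟨g, hg, rfl⟩ := hs
      rw [← Units.val_mul, ← Units.val_mul, hab x hx g hg])
    rw [mem_scalars_iff]
    have hc0 : c ≠ 0 := by
      intro h0
      rw [h0, zero_smul] at hc
      have hdet : Matrix.det (x : Matrix (Fin 9) (Fin 9) F) = 0 := by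
        rw [hc]
        exact Matrix.det_zero
      have hu : IsUnit (Matrix.det (x : Matrix (Fin 9) (Fin 9) F)) :=
        (Matrix.isUnit_iff_isUnit_det _).1 x.isUnit
      rw [hdet] at hu
      exact not_isUnit_zero hu
    exact ⟨Units.mk0 c hc0, hc⟩

end Cfsg.Agent.Helper2.AschO9
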