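import Mathlib
import Cfsg.Prelude.Def_GeometricClasses
import Cfsg.Agent.Lead.AschBase
import Cfsg.Agent.Lead.AschOBase
import Cfsg.Agent.Helper2.AschO9Base
import Cfsg.Agent.Helper2.AschTrA
import Cfsg.Agent.Helper2.AschTrB
import Cfsg.Agent.Helper2.AschTrC
import Cfsg.Agent.Helper2.AschTrD
import Cfsg.Agent.Helper2.AschTrE
import Cfsg.Agent.Helper7.AschNotOmA

/-!
# ASCH-Ω9 (helper2): transport along a bijection of index types

* `o9concl_of_map`: the conclusion `O9Concl` pulls back along `e : ι ≃ κ`;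
* `map_isometryGroup_rq`, `map_omegaGL_rq`: the isometry group and `Ω` of the transported quadratic form;
* `not_le_*_of`: the statements "`Ω(Q)` is not contained in …" transported from `κ` to `ι`.
-/

set_option autoImplicit false

namespace Cfsg.Agent.Helper2.AschO9

open Cfsg Cfsg.Geo Cfsg.Agent.Lead.Asch Cfsg.Agent.Lead.AschO Cfsg.Agent.Helper2.AschTr
open scoped MatrixGroups Matrix commutatorElement

variable {F : Type*} [Field F] {ι κ : Type} [Fintype ι] [DecidableEq ι] [Fintype κ] [DecidableEq κ]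

theorem o9concl_of_map [Fintype F] (e : ι ≃ κ) (Q : (ι → F) → F) (H : Subgroup (GL ι F))
    (h : O9Concl (rq e Q) (H.map (glReindex e : GL ι F ≃* GL κ F).toMonoidHom)) : O9Concl Q H := by
  rcases h with ⟨W', hW0, hWts, hWle⟩ | ⟨W', hW0, hWe, hWnd, hWex, hWle⟩ | ⟨hq, D', hD, hDle⟩ |
    ⟨hq, D', hD, hDle⟩ | ⟨K', hK, hsa, hle⟩ | ⟨F₀, r, P', hr, hcard, hrat, hle⟩ |
    ⟨hq, e', P', f₁, hf₁, hT, hle⟩ | hres
  · left
    exact ⟨W'.map (thL e), map_thL_ne_bot e hW0, totallySingular_map e hWts, le_stab_of_map e hWle⟩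
  · right; left
    refine ⟨W'.map (thL e), map_thL_ne_bot e hW0, ?_, ?_, ?_, le_stab_of_map e hWle⟩
    · rw [finrank_map_thL]; exact hWe
    · rw [polar_rq] at hWnd
      exact nondegenerateOn_map e hWnd
    · rintro ⟨h3, h2, hplus⟩
      apply hWex
      rw [finrank_map_thL] at h2
      exact ⟨h3, h2, plusType_of_map e hplus⟩
  · right; right; left
    exact ⟨hq, fun i => (D' i).map (thL e), isOrthogonalMDecomposition_map e hD, le_decomp_of_map e hDle⟩
  · right; right; right; left
    exact ⟨hq, fun i => (D' i).map (thL e), isOrthogonalMDecomposition_map e hD, le_decomp_of_map e hDle⟩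
  · right; right; right; right; left
    rw [polar_rq] at hsa
    exact pull_fieldSelfAdj' e ⟨K', hK, hsa, hle⟩
  · right; right; right; right; right; left
    exact ⟨F₀, r, (glReindex e).symm P', hr, hcard, quadRational_of_map e F₀ P' hrat,
      le_subfield_of_map e F₀ P' hle⟩
  · right; right; right; right; right; right; left
    rw [polar_rq] at hT
    exact ⟨hq, pull_tensorWreath e id IsSymmetricForm ⟨e', P', f₁, hf₁, hT, hle⟩⟩
  · right; right; right; right; right; right; right
    exact inOrthogonalResidualClass_of_map e hres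

/-! ### the isometry group and `Ω` of the transported form -/

omit [Fintype ι] [DecidableEq ι] [Fintype κ] [DecidableEq κ] in
theorem rq_symm_rq (e : ι ≃ κ) (Q : (ι → F) → F) : rq e.symm (rq e Q) = Q := by
  funext v
  unfold rq
  congr 1
  funext i
  simp [th]

theorem glReindex_symm_eq (e : ι ≃ κ) (g : GL κ F) :
    (glReindex e.symm : GL κ F ≃* GL ι F) g = (glReindex e).symm g := by
  apply Units.ext
  rw [glReindex_val, glReindex_symm_val]
  rfl

theorem map_isometryGroup_rq (e : ι ≃ κ) (Q : (ι → F) → F) :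
    (isometryGroup F Q).map (glReindex e : GL ι F ≃* GL κ F).toMonoidHom = isometryGroup F (rq e Q) := by
  apply le_antisymm (map_le_isometryGroup_rq e Q le_rfl)
  intro g hg
  refine ⟨(glReindex e).symm g, ?_, ?_⟩
  · have h := map_le_isometryGroup_rq e.symm (rq e Q) (le_refl (isometryGroup F (rq e Q)))
    rw [rq_symm_rq] at h
    have h1 := h ⟨g, hg, rfl⟩
    rw [MulEquiv.coe_toMonoidHom, glReindex_symm_eq] at h1
    exact h1
  · rw [MulEquiv.coe_toMonoidHom, MulEquiv.apply_symm_apply]

theorem map_omegaGL_rq (e : ι ≃ κ) (Q : (ι → F) → F) :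
    (omegaGL Q).map (glReindex e : GL ι F ≃* GL κ F).toMonoidHom = omegaGL (rq e Q) := by
  rw [Cfsg.Agent.Helper7.AschO.omegaGL_eq_commutator, Cfsg.Agent.Helper7.AschO.omegaGL_eq_commutator,
    Subgroup.map_commutator, map_isometryGroup_rq]

/-- `Ω(Q) ≤ X` on `ι` gives `Ω(rq e Q) ≤ X'` on `κ` for every `X'` whose pull-back along `e.symm` contains … :
the general transport principle, in the form used below. -/
theorem omega_map_symm_le (e : ι ≃ κ) (Q : (ι → F) → F) {X : Subgroup (GL ι F)} (h : omegaGL Q ≤ X) :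
    (omegaGL (rq e Q)).map (glReindex e.symm : GL κ F ≃* GL ι F).toMonoidHom ≤ X := by
  have h1 := map_omegaGL_rq e.symm (rq e Q)
  rw [rq_symm_rq] at h1
  rw [h1]
  exact h

end Cfsg.Agent.Helper2.AschO9
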