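import Mathlib
import Cfsg.Prelude.Def_GeometricClasses
import Cfsg.Agent.Lead.AschOFull
import Cfsg.Agent.Lead.AschOStd
import Cfsg.Agent.Helper2.AschO9Main
import Cfsg.Agent.Helper2.AschO9Tr
import Cfsg.Agent.Helper7.AschOmC
import Cfsg.Agent.Helper8.AschOmM5c
import Cfsg.Agent.Helper1.AschONotSub

/-!
# ASCH-Ω9 (helper2): Aschbacher's theorem for the maximal subgroups of `Ω_9(q)`, `q` odd, on the frozen index type
(from the pieces `O9Pieces F` and the piece N7 "`Ω` is not contained in a tensor-wreath subgroup")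
-/

set_option autoImplicit false

namespace Cfsg.Agent.Helper2.AschO9

open Cfsg Cfsg.Geo Cfsg.Agent.Lead.Asch Cfsg.Agent.Lead.AschO Cfsg.Agent.Helper2.AschTr
open scoped MatrixGroups Matrix

variable {F : Type*} [Field F]

/-- the piece N7, as a hypothesis -/
def NotTW (F : Type*) [Field F] : Prop :=
  ∀ (Q : (Fin 9 → F) → F), IsNondegenerateQuadraticForm Q → ∀ (e : Fin 9 ≃ (Fin 2 → Fin 3)) (P : GL (Fin 9) F),
    ¬ omegaGL Q ≤ tensorWreathSubgroup 3 2 e P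

theorem final_orth9 [Fintype F] (hp : O9Pieces F) (hN7 : NotTW F)
    (hodd : Odd (Fintype.card F)) (H : Subgroup (GL (Unit ⊕ (Fin 4 ⊕ Fin 4)) F))
    (hH : IsMaximalIn (omegaGL (quadFormOdd 4 F)) H) :
    (∃ W : Submodule F (Unit ⊕ (Fin 4 ⊕ Fin 4) → F), W ≠ ⊥ ∧ IsTotallySingularQuad (quadFormOdd 4 F) W ∧
      H = subspaceStabilizer W ⊓ omegaGL (quadFormOdd 4 F)) ∨
    (∃ W : Submodule F (Unit ⊕ (Fin 4 ⊕ Fin 4) → F), W ≠ ⊥ ∧ Even (Module.finrank F W) ∧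
      IsNondegenerateOn (QuadraticMap.polar (quadFormOdd 4 F)) W ∧
      ¬ (Fintype.card F = 3 ∧ Module.finrank F W = 2 ∧ IsPlusTypeOn (quadFormOdd 4 F) W) ∧
      H = subspaceStabilizer W ⊓ omegaGL (quadFormOdd 4 F)) ∨
    ((Fintype.card F).Prime ∧ ∃ D : Fin 9 → Submodule F (Unit ⊕ (Fin 4 ⊕ Fin 4) → F),
      IsOrthogonalMDecomposition (quadFormOdd 4 F) 1 D ∧
      H = decompositionStabilizer D ⊓ omegaGL (quadFormOdd 4 F)) ∨
    (5 ≤ Fintype.card F ∧ ∃ D : Fin 3 → Submodule F (Unit ⊕ (Fin 4 ⊕ Fin 4) → F),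
      IsOrthogonalMDecomposition (quadFormOdd 4 F) 3 D ∧
      H = decompositionStabilizer D ⊓ omegaGL (quadFormOdd 4 F)) ∨
    (∃ K : Subalgebra F (Matrix (Unit ⊕ (Fin 4 ⊕ Fin 4)) (Unit ⊕ (Fin 4 ⊕ Fin 4)) F),
      IsFieldSubalgebra 3 K ∧ IsSelfAdjointFor (QuadraticMap.polar (quadFormOdd 4 F)) K ∧
      H = subalgebraNormalizer K ⊓ omegaGL (quadFormOdd 4 F)) ∨
    (∃ (F₀ : Subfield F) (r : ℕ) (P : GL (Unit ⊕ (Fin 4 ⊕ Fin 4)) F), r.Prime ∧
      Fintype.card F = Nat.card F₀ ^ r ∧ IsQuadFormRationalStructure (quadFormOdd 4 F) F₀ P ∧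
      H = subfieldSubgroup F₀ P ⊓ omegaGL (quadFormOdd 4 F)) ∨
    (5 ≤ Fintype.card F ∧ ∃ (e : (Unit ⊕ (Fin 4 ⊕ Fin 4)) ≃ (Fin 2 → Fin 3))
      (P : GL (Unit ⊕ (Fin 4 ⊕ Fin 4)) F) (f₁ : (Fin 3 → F) → (Fin 3 → F) → F),
      IsSymmetricForm f₁ ∧ IsTensorPowerFormStructure id (QuadraticMap.polar (quadFormOdd 4 F)) f₁ e P ∧
      H = tensorWreathSubgroup 3 2 e P ⊓ omegaGL (quadFormOdd 4 F)) ∨
    InOrthogonalResidualClass H := by
  classical
  have h2 : (2 : F) ≠ 0 := two_ne_zero_of_odd' hodd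
  set Q := quadFormOdd 4 F with hQdef
  have hQ : IsNondegenerateQuadraticForm Q := quadFormOdd_isNondegenerateQuadraticForm h2
  have hdisc : DiscInt Q := quadFormOdd_discInt
  have hcard : Fintype.card (Unit ⊕ (Fin 4 ⊕ Fin 4)) = 9 := by
    simp only [Fintype.card_sum, Fintype.card_unit, Fintype.card_fin]
  let e : Unit ⊕ (Fin 4 ⊕ Fin 4) ≃ Fin 9 := Fintype.equivFinOfCardEq hcard
  have hHI : H ≤ isometryGroup F Q := hH.1.le.trans (omegaGL_le_isometryGroup Q)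
  have hQ9 : IsNondegenerateQuadraticForm (rq e Q) := rq_nondegenerate e Q hQ
  have hdisc9 : DiscInt (rq e Q) := by
    obtain ⟨k, s, hks⟩ := hdisc
    exact ⟨k, s, by rw [det_gramMatrix_rq, hks]⟩
  have hcon : O9Concl Q H :=
    o9concl_of_map e Q H (asch_orth9 hp hodd (rq e Q) hQ9 hdisc9 _ (map_le_isometryGroup_rq e Q hHI))
  have hfin : Module.finrank F (Unit ⊕ (Fin 4 ⊕ Fin 4) → F) = 9 := by
    rw [Module.finrank_fintype_fun_eq_card, hcard]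
  have h5 : 5 ≤ Fintype.card (Unit ⊕ (Fin 4 ⊕ Fin 4)) := by rw [hcard]; norm_num
  have h7 : 7 ≤ Fintype.card (Unit ⊕ (Fin 4 ⊕ Fin 4)) := by rw [hcard]; norm_num
  rcases hcon with ⟨W, h0, hts, hle⟩ | ⟨W, h0, hev, hnd, hex, hle⟩ | ⟨hq, D, hD, hle⟩ | ⟨hq, D, hD, hle⟩ |
    ⟨K, hK, hsa, hle⟩ | ⟨F₀, r, P, hr, hc, hrat, hle⟩ | ⟨hq, e', P, f₁, hf₁, hT, hle⟩ | hres
  · refine Or.inl ⟨W, h0, hts, eq_inf_of_le' hH hle
      (Cfsg.Agent.Helper7.AschOm.not_le_subspaceStabilizer_omega_of_five h5 Q hQ W h0 ?_)⟩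
    rintro rfl
    have := hts (Pi.single (Sum.inl ()) 1) Submodule.mem_top
    rw [hQdef] at this
    unfold quadFormOdd at this
    simp at this
  · refine Or.inr (Or.inl ⟨W, h0, hev, hnd, hex,
      eq_inf_of_le' hH hle (Cfsg.Agent.Helper7.AschOm.not_le_subspaceStabilizer_omega_of_five h5 Q hQ W h0 ?_)⟩)
    rintro rfl
    rw [finrank_top, hfin] at hev
    exact absurd hev (by decide)
  · exact Or.inr (Or.inr (Or.inl ⟨hq, D, hD,
      eq_inf_of_le' hH hle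
        (Cfsg.Agent.Helper7.AschOm.not_le_decompositionStabilizer_omega_of_seven h7 Q hQ hD.decomp.decomp)⟩))
  · exact Or.inr (Or.inr (Or.inr (Or.inl ⟨hq, D, hD,
      eq_inf_of_le' hH hle
        (Cfsg.Agent.Helper7.AschOm.not_le_decompositionStabilizer_omega_of_seven h7 Q hQ hD.decomp.decomp)⟩)))
  · refine Or.inr (Or.inr (Or.inr (Or.inr (Or.inl ⟨K, hK, hsa, eq_inf_of_le' hH hle ?_⟩))))
    intro hΩ
    have h1 := le_subalgebraNormalizer_of_map e.symm K (omega_map_symm_le e Q hΩ)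
    exact Cfsg.Agent.Helper8.AschOm.not_le_subalgebraNormalizer_omega_gen (by norm_num) (rq e Q) hQ9 3
      (by norm_num) _ (isFieldSubalgebra_pbK e.symm hK) h1
  · exact Or.inr (Or.inr (Or.inr (Or.inr (Or.inr (Or.inl ⟨F₀, r, P, hr, hc, hrat,
      eq_inf_of_le' hH hle
        (Cfsg.Agent.Helper1.AschO.not_le_subfieldSubgroup_omega (by norm_num) h2 F₀
          (subfield_ne_top_of_card F₀ r hr hc) P)⟩)))))
  · refine Or.inr (Or.inr (Or.inr (Or.inr (Or.inr (Or.inr (Or.inl ⟨hq, e', P, f₁, hf₁, hT,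
      eq_inf_of_le' hH hle ?_⟩))))))
    intro hΩ
    have h1 := le_tensorWreathSubgroup_of_map e.symm e' P (omega_map_symm_le e Q hΩ)
    exact hN7 (rq e Q) hQ9 _ _ h1
  · exact Or.inr (Or.inr (Or.inr (Or.inr (Or.inr (Or.inr (Or.inr hres))))))

end Cfsg.Agent.Helper2.AschO9
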