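import Mathlib
import Cfsg.Prelude.Def_GeometricClasses
import Cfsg.Agent.Lead.AschBase
import Cfsg.Agent.Lead.AschOBase
import Cfsg.Agent.Helper2.AschTrA
import Cfsg.Agent.Helper2.AschTrB
import Cfsg.Agent.Helper2.AschTrC

/-!
# ASCH-PRIME-O, piece O2 (helper2): transport along a bijection of index types `e : ι ≃ Fin n`
-/

set_option autoImplicit false

namespace Cfsg.Agent.Helper2.AschO

open Cfsg Cfsg.Geo Cfsg.Agent.Lead.Asch Cfsg.Agent.Lead.AschO Cfsg.Agent.Helper2.AschTr
open scoped MatrixGroups Matrix commutatorElement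

variable {n : ℕ} {F : Type*} [Field F]

theorem reQ_eq_rq {ι : Type} (e : ι ≃ Fin n) (Q : (ι → F) → F) : reQ e Q = rq e Q := rfl

theorem reQ_nondegenerate {ι : Type} [Fintype ι] [DecidableEq ι] (e : ι ≃ Fin n) (Q : (ι → F) → F)
    (hQ : IsNondegenerateQuadraticForm Q) : IsNondegenerateQuadraticForm (reQ e Q) := by
  rw [reQ_eq_rq]
  exact rq_nondegenerate e Q hQ

theorem reQ_discInt {ι : Type} [Fintype ι] [DecidableEq ι] (e : ι ≃ Fin n) (Q : (ι → F) → F)
    (hQ : DiscInt Q) : DiscInt (reQ e Q) := by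
  obtain ⟨k, s, hks⟩ := hQ
  refine ⟨k, s, ?_⟩
  rw [reQ_eq_rq, det_gramMatrix_rq, hks]

theorem map_le_isometryGroup {ι : Type} [Fintype ι] [DecidableEq ι] (e : ι ≃ Fin n) (Q : (ι → F) → F)
    {H : Subgroup (GL ι F)} (hH : H ≤ isometryGroup F Q) :
    H.map (glReindex e : GL ι F ≃* GL (Fin n) F).toMonoidHom ≤ isometryGroup F (reQ e Q) := by
  rw [reQ_eq_rq]
  exact map_le_isometryGroup_rq e Q hH

theorem oconcl_of_map [Fintype F] {ι : Type} [Fintype ι] [DecidableEq ι] (e : ι ≃ Fin n) (Q : (ι → F) → F)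
    (H : Subgroup (GL ι F))
    (h : OConcl n (reQ e Q) (H.map (glReindex e : GL ι F ≃* GL (Fin n) F).toMonoidHom)) :
    OConcl n Q H := by
  rw [reQ_eq_rq] at h
  rcases h with ⟨W', hW0, hWts, hWle⟩ | ⟨W', hW0, hWe, hWnd, hWex, hWle⟩ | ⟨hq, D', hD, hDle⟩ |
    ⟨F₀, r, P', hr, hcard, hrat, hle⟩ | hres
  · left
    exact ⟨W'.map (thL e), map_thL_ne_bot e hW0, totallySingular_map e hWts, le_stab_of_map e hWle⟩
  · right; left
    refine ⟨W'.map (thL e), map_thL_ne_bot e hW0, ?_, ?_, ?_, le_stab_of_map e hWle⟩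
    · rw [finrank_map_thL]; exact hWe
    · rw [polar_rq] at hWnd
      exact nondegenerateOn_map e hWnd
    · rintro ⟨h3, h2, hplus⟩
      apply hWex
      rw [finrank_map_thL] at h2
      exact ⟨h3, h2, plusType_of_map e hplus⟩
  · right; right; left
    exact ⟨hq, fun i => (D' i).map (thL e), isOrthogonalMDecomposition_map e hD, le_decomp_of_map e hDle⟩
  · right; right; right; left
    exact ⟨F₀, r, (glReindex e).symm P', hr, hcard, quadRational_of_map e F₀ P' hrat,
      le_subfield_of_map e F₀ P' hle⟩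
  · right; right; right; right
    exact inOrthogonalResidualClass_of_map e hres

end Cfsg.Agent.Helper2.AschO
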