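import Mathlib
import Cfsg.Prelude.Def_GeometricClasses
import Cfsg.Agent.Lead.AschBase
import Cfsg.Agent.Lead.AschOBase
import Cfsg.Agent.Helper4.AschFieldB

/-!
# ASCH-OM part 3, piece D5-A (helper2): an abelian group of isometries whose `ccenter` is a self-adjoint field is scalar

`N` abelian ⇒ `N ⊆ ccenter N`; an isometry `g` with `g* = g` has `g² = 1`; in a field `g = ± 1`.
-/

set_option autoImplicit false
set_option linter.style.haveILetI false

namespace Cfsg.Agent.Helper2.AschOmD5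

open Cfsg Cfsg.Geo Cfsg.Agent.Lead.Asch Cfsg.Agent.Lead.AschO Cfsg.Agent.Helper4.AschP
open scoped MatrixGroups Matrix commutatorElement

variable {n : ℕ} {F : Type*} [Field F]

/-- an abelian group lies in the centre of its commutant -/
theorem coe_mem_ccenter_of_abelian {N : Subgroup (GL (Fin n) F)} (hab : ∀ x ∈ N, ∀ y ∈ N, x * y = y * x)
    {g : GL (Fin n) F} (hg : g ∈ N) : (g : Matrix (Fin n) (Fin n) F) ∈ ccenter N := by
  refine mem_ccenter_iff.2 ⟨?_, ?_⟩
  · intro s hs
    obtain ⟨x, hx, rfl⟩ := mem_matrixSet_iff.1 hs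
    rw [← Units.val_mul, ← Units.val_mul, hab g hg x hx]
  · intro c hc
    exact (hc _ (coe_mem_matrixSet hg)).symm

/-- **D5-A** -/
theorem le_scalars_of_abelian_selfAdjoint {N : Subgroup (GL (Fin n) F)} (Q : (Fin n → F) → F)
    (hQ : IsNondegenerateQuadraticForm Q) (hNI : N ≤ isometryGroup F Q) {c : ℕ}
    (hK : IsFieldSubalgebra c (ccenter N))
    (hsa : IsSelfAdjointFor (QuadraticMap.polar Q) (ccenter N))
    (hab : ∀ x ∈ N, ∀ y ∈ N, x * y = y * x) : N ≤ scalars (Fin n) F := by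
  intro g hg
  have hgE := coe_mem_ccenter_of_abelian hab hg
  have hiso := mem_isometryGroup_iff.1 (hNI hg)
  have hpol : ∀ u v, QuadraticMap.polar Q ((g : Matrix (Fin n) (Fin n) F) *ᵥ u)
      ((g : Matrix (Fin n) (Fin n) F) *ᵥ v) = QuadraticMap.polar Q u v := by
    intro u v
    unfold QuadraticMap.polar
    rw [← Matrix.mulVec_add, hiso, hiso, hiso]
  -- `g² = 1`
  have hsq : (g : Matrix (Fin n) (Fin n) F) * (g : Matrix (Fin n) (Fin n) F) = 1 := by
    apply Matrix.toLin'.injective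
    apply LinearMap.ext
    intro u
    rw [Matrix.toLin'_apply, Matrix.toLin'_apply, Matrix.one_mulVec]
    by_contra hne
    have hd : ((g : Matrix (Fin n) (Fin n) F) * (g : Matrix (Fin n) (Fin n) F)) *ᵥ u - u ≠ 0 :=
      sub_ne_zero.2 hne
    obtain ⟨⟨x, hx⟩, -⟩ := hQ.nondegenerate _ hd
    apply hx
    have h1 : QuadraticMap.polar Q x (((g : Matrix (Fin n) (Fin n) F) * (g : Matrix (Fin n) (Fin n) F)) *ᵥ u) =
        QuadraticMap.polar Q x u := by
      rw [← Matrix.mulVec_mulVec, ← hsa _ hgE, hpol]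
    have h2 := hQ.polar_bilinear.add_right x
      (((g : Matrix (Fin n) (Fin n) F) * (g : Matrix (Fin n) (Fin n) F)) *ᵥ u - u) u
    rw [sub_add_cancel, h1] at h2
    linear_combination -h2
  -- `(g - 1) (g + 1) = 0`
  have hprod : ((g : Matrix (Fin n) (Fin n) F) - 1) * ((g : Matrix (Fin n) (Fin n) F) + 1) = 0 := by
    rw [sub_mul, mul_add, mul_add, hsq, mul_one, one_mul, one_mul]
    abel
  rw [mem_scalars_iff]
  by_cases h1 : (g : Matrix (Fin n) (Fin n) F) - 1 = 0
  · exact ⟨1, by rw [Units.val_one, one_smul]; exact sub_eq_zero.1 h1⟩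
  · have hmem : (g : Matrix (Fin n) (Fin n) F) - 1 ∈ ccenter N :=
      Subalgebra.sub_mem _ hgE (Subalgebra.one_mem _)
    obtain ⟨y, hyK, hy⟩ := hK.inv _ hmem h1
    have hy' : y * ((g : Matrix (Fin n) (Fin n) F) - 1) = 1 := by
      rw [hK.comm y hyK _ hmem]; exact hy
    have h2 : (g : Matrix (Fin n) (Fin n) F) + 1 = 0 := by
      calc (g : Matrix (Fin n) (Fin n) F) + 1
          = (y * ((g : Matrix (Fin n) (Fin n) F) - 1)) * ((g : Matrix (Fin n) (Fin n) F) + 1) := by
            rw [hy', one_mul]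
        _ = y * (((g : Matrix (Fin n) (Fin n) F) - 1) * ((g : Matrix (Fin n) (Fin n) F) + 1)) := mul_assoc _ _ _
        _ = 0 := by rw [hprod, mul_zero]
    refine ⟨-1, ?_⟩
    rw [Units.val_neg, Units.val_one, neg_smul, one_smul]
    exact eq_neg_of_add_eq_zero_left h2

end Cfsg.Agent.Helper2.AschOmD5
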