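import Mathlib
import Cfsg.Prelude.Def_GeometricClasses
import Cfsg.Agent.Lead.AschBase
import Cfsg.Agent.Helper2.AschDC

/-!
# ASCH-OM part 3, piece D5-B (helper2): a normal subgroup of class two with scalar centre has trivial `ccenter`

`N` normal in the irreducible group `H`, `⁅N, N⁆ ≤ scalars`, `Z(N) ≤ scalars`: then the centre of the commutant of `N`
consists of scalar matrices.  (Double centraliser: `ccenter N ⊆ span N`; an element `∑ a_g g` of the span commuting
with `N` is scalar: conjugation by `x ∈ N` multiplies `g` by the scalar `[x, g]`; induction on the size of the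
support.)
-/

set_option autoImplicit false
set_option linter.style.haveILetI false

namespace Cfsg.Agent.Helper2.AschOmD5

open Cfsg Cfsg.Geo Cfsg.Agent.Lead.Asch Cfsg.Agent.Helper4.AschP
open scoped MatrixGroups Matrix commutatorElement

variable {n : ℕ} {F : Type*} [Field F]

/-- conjugation by `x` multiplies `g` by a scalar when commutators are scalar -/
theorem conj_eq_smul {N : Subgroup (GL (Fin n) F)} (hcomm : ⁅N, N⁆ ≤ scalars (Fin n) F)
    {x g : GL (Fin n) F} (hx : x ∈ N) (hg : g ∈ N) :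
    ∃ μ : F, (x : Matrix (Fin n) (Fin n) F) * (g : Matrix (Fin n) (Fin n) F) *
      ((x⁻¹ : GL (Fin n) F) : Matrix (Fin n) (Fin n) F) = μ • (g : Matrix (Fin n) (Fin n) F) := by
  have h1 : ⁅x, g⁆ ∈ scalars (Fin n) F := hcomm (Subgroup.commutator_mem_commutator hx hg)
  obtain ⟨c, hc⟩ := (mem_scalars_iff _).1 h1
  refine ⟨(c : F), ?_⟩
  have h2 : x * g * x⁻¹ = ⁅x, g⁆ * g := by
    rw [commutatorElement_def]; group
  have h3 := congrArg (fun y : GL (Fin n) F => (y : Matrix (Fin n) (Fin n) F)) h2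
  simp only [Units.val_mul] at h3
  rw [h3, hc, Matrix.smul_mul, Matrix.one_mul]

/-- a linear combination of elements of `N` which commutes with `N` is scalar -/
theorem scalar_of_sum_comm {N : Subgroup (GL (Fin n) F)} (hcomm : ⁅N, N⁆ ≤ scalars (Fin n) F)
    (hZ : ∀ z ∈ N, (∀ x ∈ N, x * z = z * x) → z ∈ scalars (Fin n) F) :
    ∀ (k : ℕ) (I : Finset (GL (Fin n) F)) (a : GL (Fin n) F → F), I.card ≤ k → (∀ g ∈ I, g ∈ N) →
      (∀ x ∈ N, (x : Matrix (Fin n) (Fin n) F) * (∑ g ∈ I, a g • (g : Matrix (Fin n) (Fin n) F)) =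
        (∑ g ∈ I, a g • (g : Matrix (Fin n) (Fin n) F)) * (x : Matrix (Fin n) (Fin n) F)) →
      ∃ c : F, ∑ g ∈ I, a g • (g : Matrix (Fin n) (Fin n) F) = c • (1 : Matrix (Fin n) (Fin n) F) := by
  classical
  intro k
  induction k with
  | zero =>
    intro I a hI _ _
    have : I = ∅ := Finset.card_eq_zero.1 (Nat.le_zero.1 hI)
    subst this
    exact ⟨0, by rw [Finset.sum_empty, zero_smul]⟩
  | succ k ih =>
    intro I a hI hIN hz
    by_cases hA : ∀ g ∈ I, a g ≠ 0 → ∀ x ∈ N, x * g = g * x
    · -- all relevant terms are central, hence scalar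
      have hterm : ∀ g ∈ I, ∃ c : F, a g • (g : Matrix (Fin n) (Fin n) F) = c • (1 : Matrix (Fin n) (Fin n) F) := by
        intro g hg
        by_cases ha : a g = 0
        · exact ⟨0, by rw [ha, zero_smul, zero_smul]⟩
        · obtain ⟨c, hc⟩ := (mem_scalars_iff _).1 (hZ g (hIN g hg) (hA g hg ha))
          exact ⟨a g * (c : F), by rw [hc, smul_smul]⟩
      choose! c hc using hterm
      refine ⟨∑ g ∈ I, c g, ?_⟩
      rw [Finset.sum_smul]
      exact Finset.sum_congr rfl hc
    · push Not at hA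
      obtain ⟨g₁, hg₁I, ha₁, x, hxN, hxg₁⟩ := hA
      have hμex : ∀ g : GL (Fin n) F, ∃ μ : F, g ∈ N →
          (x : Matrix (Fin n) (Fin n) F) * (g : Matrix (Fin n) (Fin n) F) *
            ((x⁻¹ : GL (Fin n) F) : Matrix (Fin n) (Fin n) F) = μ • (g : Matrix (Fin n) (Fin n) F) := by
        intro g
        by_cases hg : g ∈ N
        · obtain ⟨μ, hμ⟩ := conj_eq_smul hcomm hxN hg
          exact ⟨μ, fun _ => hμ⟩
        · exact ⟨1, fun h => absurd h hg⟩
      choose μ hμ using hμex
      have hμ1 : μ g₁ ≠ 1 := by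
        intro h1
        apply hxg₁
        have h2 := hμ g₁ (hIN g₁ hg₁I)
        rw [h1, one_smul] at h2
        have h3 : x * g₁ * x⁻¹ = g₁ := by
          apply Units.ext
          rw [Units.val_mul, Units.val_mul]
          exact h2
        calc x * g₁ = (x * g₁ * x⁻¹) * x := by group
          _ = g₁ * x := by rw [h3]
      obtain ⟨z, hzdef⟩ : ∃ z : Matrix (Fin n) (Fin n) F, z = ∑ g ∈ I, a g • (g : Matrix (Fin n) (Fin n) F) :=
        ⟨_, rfl⟩
      rw [← hzdef] at hz ⊢
      -- conjugating `z` by `x`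
      have hconj : (x : Matrix (Fin n) (Fin n) F) * z * ((x⁻¹ : GL (Fin n) F) : Matrix (Fin n) (Fin n) F) = z := by
        rw [hz x hxN, mul_assoc, ← Units.val_mul, mul_inv_cancel, Units.val_one, mul_one]
      have hconj2 : (x : Matrix (Fin n) (Fin n) F) * z * ((x⁻¹ : GL (Fin n) F) : Matrix (Fin n) (Fin n) F) =
          ∑ g ∈ I, (a g * μ g) • (g : Matrix (Fin n) (Fin n) F) := by
        rw [hzdef, Finset.mul_sum, Finset.sum_mul]
        refine Finset.sum_congr rfl fun g hg => ?_
        rw [Matrix.mul_smul, Matrix.smul_mul, hμ g (hIN g hg), smul_smul]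
      -- the shorter combination
      have hshort : (μ g₁ - 1) • z =
          ∑ g ∈ I.erase g₁, (a g * (μ g₁ - μ g)) • (g : Matrix (Fin n) (Fin n) F) := by
        have h1 : (μ g₁ - 1) • z = μ g₁ • z -
            (x : Matrix (Fin n) (Fin n) F) * z * ((x⁻¹ : GL (Fin n) F) : Matrix (Fin n) (Fin n) F) := by
          rw [hconj, sub_smul, one_smul]
        rw [h1, hconj2, hzdef, Finset.smul_sum, ← Finset.sum_sub_distrib]
        rw [← Finset.add_sum_erase I _ hg₁I]
        have h2 : μ g₁ • a g₁ • (g₁ : Matrix (Fin n) (Fin n) F) -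
            (a g₁ * μ g₁) • (g₁ : Matrix (Fin n) (Fin n) F) = 0 := by
          rw [smul_smul, mul_comm, sub_self]
        rw [h2, zero_add]
        refine Finset.sum_congr rfl fun g _ => ?_
        rw [smul_smul, ← sub_smul]
        congr 1
        ring
      have hcard : (I.erase g₁).card ≤ k := by
        rw [Finset.card_erase_of_mem hg₁I]
        omega
      have hcommz : ∀ y ∈ N, (y : Matrix (Fin n) (Fin n) F) *
          (∑ g ∈ I.erase g₁, (a g * (μ g₁ - μ g)) • (g : Matrix (Fin n) (Fin n) F)) =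
          (∑ g ∈ I.erase g₁, (a g * (μ g₁ - μ g)) • (g : Matrix (Fin n) (Fin n) F)) *
            (y : Matrix (Fin n) (Fin n) F) := by
        intro y hy
        rw [← hshort, Matrix.mul_smul, Matrix.smul_mul, hz y hy]
      obtain ⟨c, hc⟩ := ih (I.erase g₁) (fun g => a g * (μ g₁ - μ g)) hcard
        (fun g hg => hIN g (Finset.mem_of_mem_erase hg)) hcommz
      rw [← hshort] at hc
      have hne : μ g₁ - 1 ≠ 0 := sub_ne_zero.2 hμ1
      refine ⟨(μ g₁ - 1)⁻¹ * c, ?_⟩
      rw [← smul_smul, ← hc, smul_smul, inv_mul_cancel₀ hne, one_smul]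

/-- an element of the span of `N` is a finite linear combination of elements of `N` -/
theorem exists_sum_of_mem_span {N : Subgroup (GL (Fin n) F)} {z : Matrix (Fin n) (Fin n) F}
    (hz : z ∈ Submodule.span F (matrixSet N)) :
    ∃ (I : Finset (GL (Fin n) F)) (a : GL (Fin n) F → F), (∀ g ∈ I, g ∈ N) ∧
      z = ∑ g ∈ I, a g • (g : Matrix (Fin n) (Fin n) F) := by
  classical
  induction hz using Submodule.span_induction with
  | mem s hs =>
    obtain ⟨g, hg, rfl⟩ := mem_matrixSet_iff.1 hs
    refine ⟨{g}, fun _ => 1, fun g' hg' => ?_, ?_⟩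
    · rw [Finset.mem_singleton] at hg'
      rw [hg']; exact hg
    · rw [Finset.sum_singleton, one_smul]
  | zero => exact ⟨∅, fun _ => 0, fun g hg => absurd hg (Finset.notMem_empty g), by rw [Finset.sum_empty]⟩
  | add u v _ _ hu hv =>
    obtain ⟨I, a, hI, rfl⟩ := hu
    obtain ⟨J, b, hJ, rfl⟩ := hv
    refine ⟨I ∪ J, fun g => (if g ∈ I then a g else 0) + (if g ∈ J then b g else 0), ?_, ?_⟩
    · intro g hg
      rcases Finset.mem_union.1 hg with h | h
      · exact hI g h
      · exact hJ g h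
    · simp only [add_smul, Finset.sum_add_distrib]
      congr 1
      · rw [← Finset.sum_subset (Finset.subset_union_left (s₁ := I) (s₂ := J))]
        · refine Finset.sum_congr rfl fun g hg => ?_
          rw [if_pos hg]
        · intro g _ hg
          rw [if_neg hg, zero_smul]
      · rw [← Finset.sum_subset (Finset.subset_union_right (s₁ := I) (s₂ := J))]
        · refine Finset.sum_congr rfl fun g hg => ?_
          rw [if_pos hg]
        · intro g _ hg
          rw [if_neg hg, zero_smul]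
  | smul c u _ hu =>
    obtain ⟨I, a, hI, rfl⟩ := hu
    refine ⟨I, fun g => c * a g, hI, ?_⟩
    rw [Finset.smul_sum]
    refine Finset.sum_congr rfl fun g _ => ?_
    rw [smul_smul]

/-- **D5-B**: a normal subgroup of class two with scalar centre has trivial `ccenter` -/
theorem ccenter_scalar_of_class_two [Fintype F] (hn : 0 < n) {H N : Subgroup (GL (Fin n) F)}
    (hH : ActsIrreducibly (matrixSet H)) (hnz : Nzes H N)
    (hcomm : ⁅N, N⁆ ≤ scalars (Fin n) F)
    (hZ : ∀ z ∈ N, (∀ x ∈ N, x * z = z * x) → z ∈ scalars (Fin n) F)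
    {M : Matrix (Fin n) (Fin n) F} (hM : M ∈ ccenter N) : ∃ c : F, M = c • (1 : Matrix (Fin n) (Fin n) F) := by
  obtain ⟨I, a, hI, rfl⟩ := exists_sum_of_mem_span (Cfsg.Agent.Helper2.AschDC.ccenter_le_span hn hH hnz hM)
  refine scalar_of_sum_comm hcomm hZ I.card I a le_rfl hI ?_
  intro x hx
  exact ((mem_ccenter_iff.1 hM).1 _ (coe_mem_matrixSet hx)).symm

end Cfsg.Agent.Helper2.AschOmD5
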