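import Mathlib
import Cfsg.Prelude.Def_GeometricClasses
import Cfsg.Agent.Lead.AschBase
import Cfsg.Agent.Lead.AschOBase
import Cfsg.Agent.Helper4.AschFieldB
import Cfsg.Agent.Helper5.AschForm5
import Cfsg.Agent.Helper5.AschForm6
import Cfsg.Agent.Helper2.AschO9Adj
import Cfsg.Agent.Helper2.AschOmD5A
import Cfsg.Agent.Helper2.AschOmD5B

/-!
# ASCH-OM part 3 (`Ω_10^±`), pieces D5-0, D5-A, D5-B (helper2): exact stubs of `notes/lead_aschOm4_D5_stubs.lean.txt`
-/

set_option autoImplicit false

namespace Cfsg.Agent.Helper2.AschOm4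

open Cfsg Cfsg.Geo Cfsg.Agent.Lead.Asch Cfsg.Agent.Helper4.AschP
open scoped MatrixGroups Matrix commutatorElement

variable {n : ℕ} {F : Type*} [Field F] [Fintype F]

/-- D5-0: the centre of the commutant of a group of isometries is closed under adjoints. -/
theorem ccenter_adjointClosed (Q : (Fin n → F) → F) (hQ : IsNondegenerateQuadraticForm Q)
    {N : Subgroup (GL (Fin n) F)} (hNI : N ≤ isometryGroup F Q) :
    IsAdjointClosedFor (QuadraticMap.polar Q) (ccenter N) :=
  Cfsg.Agent.Helper5.AschF.ccenter_adjointClosed (Cfsg.Agent.Helper5.AschF.RForm.of_quadratic hQ)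
    (Cfsg.Agent.Helper5.AschF.isom_of_le_isometryGroup hNI)

/-- D5-A: an abelian group of isometries whose `ccenter` is a field of odd degree is scalar. -/
theorem le_scalars_of_abelian_of_ccenter_odd (Q : (Fin n → F) → F) (hQ : IsNondegenerateQuadraticForm Q)
    {N : Subgroup (GL (Fin n) F)} (hNI : N ≤ isometryGroup F Q) {r : ℕ} (hr : Odd r)
    (hE : IsFieldSubalgebra r (ccenter N)) (habel : ∀ x ∈ N, ∀ y ∈ N, x * y = y * x) :
    N ≤ scalars (Fin n) F :=
  Cfsg.Agent.Helper2.AschOmD5.le_scalars_of_abelian_selfAdjoint Q hQ hNI hE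
    (Cfsg.Agent.Helper2.AschO9.adjOdd_symm (Cfsg.Agent.Helper2.AschO9.isSymmetricForm_polar hQ) r (ccenter N) hr hE
      (ccenter_adjointClosed Q hQ hNI)) habel

/-- D5-B: a normal subgroup of class at most two with scalar centre of an irreducible group in dimension ten cannot have
a `ccenter` of degree five (no form needed; in fact `ccenter N` consists of scalars, in any dimension:
`Cfsg.Agent.Helper2.AschOmD5.ccenter_scalar_of_class_two`). -/
theorem false_of_class_two_of_ccenter_five {H N : Subgroup (GL (Fin 10) F)}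
    (hirr : ActsIrreducibly (matrixSet H)) (hNH : N ≤ H) (hnz : Nzes H N)
    (hE : IsFieldSubalgebra 5 (ccenter N)) (hcomm : ⁅N, N⁆ ≤ scalars (Fin 10) F)
    (hcent : ∀ x ∈ N, (∀ y ∈ N, x * y = y * x) → x ∈ scalars (Fin 10) F) : False := by
  have hle1 : ccenter N ≤ ⊥ := by
    intro x hx
    obtain ⟨c, rfl⟩ := Cfsg.Agent.Helper2.AschOmD5.ccenter_scalar_of_class_two (by norm_num) hirr hnz hcomm
      (fun z hz hzc => hcent z hz (fun y hy => (hzc y hy).symm)) hx
    rw [Algebra.mem_bot]
    exact ⟨c, by rw [Algebra.algebraMap_eq_smul_one]⟩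
  have h1 : ccenter N = ⊥ := le_bot_iff.1 hle1
  have h2 := hE.finrank_eq
  rw [h1, Subalgebra.finrank_bot] at h2
  omega

end Cfsg.Agent.Helper2.AschOm4
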