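import Mathlib
import Cfsg.Prelude.Def_GeometricClasses
import Cfsg.Agent.Lead.AschOBase
import Cfsg.Agent.Helper2.AschORed
import Cfsg.Agent.Helper2.TensorO3B
import Cfsg.Agent.Helper3.AschForms
import Cfsg.Agent.Helper8.SpEvenC
import Cfsg.Agent.Helper8.SpEvenE
import Cfsg.Agent.Helper8.SpEvenG

/-!
# ASCH-OM pieces M1a, M1b, M1c (helper2): the reducible case for the isometry group of a quadratic form, any `n`,
any characteristic

Exact stubs of `notes/lead_aschOm_stubs.lean.txt`.
-/

set_option autoImplicit false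

namespace Cfsg.Agent.Helper2.AschOm

open Cfsg Cfsg.Geo Cfsg.Agent.Lead.Asch Cfsg.Agent.Lead.AschO Cfsg.Agent.Helper2.AschO
open scoped MatrixGroups Matrix

variable {n : ℕ} {F : Type*} [Field F]

/-- a subspace on which an alternating bilinear form is non-degenerate has even dimension -/
theorem even_finrank_of_alt {f : (Fin n → F) → (Fin n → F) → F} (hb : IsBilinearForm f)
    (halt : ∀ v, f v v = 0) (hskew : ∀ u v, f u v = - f v u) (W : Submodule F (Fin n → F))
    (hW : IsNondegenerateOn f W) : Even (Module.finrank F W) := by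
  classical
  by_contra hodd
  rw [Nat.not_even_iff_odd] at hodd
  set d := Module.finrank F W with hd
  let b : Module.Basis (Fin d) F W := Module.finBasisOfFinrankEq F W hd.symm
  set A : Matrix (Fin d) (Fin d) F := Matrix.of fun i j => f (b i : Fin n → F) (b j : Fin n → F) with hA
  have hdet : A.det = 0 :=
    Cfsg.Agent.Helper3.Asch.det_eq_zero_of_alternating_odd hodd A (fun i => halt _) (fun i j => hskew _ _)
  obtain ⟨c, hc0, hc⟩ := Matrix.exists_mulVec_eq_zero_iff.mpr hdet
  set w : W := ∑ j, c j • b j with hw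
  have hw0 : w ≠ 0 := by
    intro h0
    apply hc0
    have hli := b.linearIndependent
    rw [Fintype.linearIndependent_iff] at hli
    funext j
    exact hli c h0 j
  have hwc : (w : Fin n → F) = ∑ j, c j • (b j : Fin n → F) := by
    rw [hw]; simp
  have hbw : ∀ i, f (b i : Fin n → F) (w : Fin n → F) = 0 := by
    intro i
    rw [hwc, Cfsg.Agent.Helper2.TensorO3.bilin_sum_right hb]
    have := congrFun hc i
    simp only [Matrix.mulVec, dotProduct, hA, Matrix.of_apply, Pi.zero_apply] at this
    rw [← this]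
    apply Finset.sum_congr rfl
    intro j _
    rw [hb.smul_right, mul_comm]
  have hall : ∀ x ∈ W, f x (w : Fin n → F) = 0 := by
    intro x hx
    have hx' : x = ∑ i, (b.repr ⟨x, hx⟩ i) • (b i : Fin n → F) := by
      have := b.sum_repr ⟨x, hx⟩
      have h2 := congrArg (fun y : W => (y : Fin n → F)) this
      simp only at h2
      refine h2.symm.trans ?_
      rw [Submodule.coe_sum]
      rfl
    rw [hx', Cfsg.Agent.Helper2.TensorO3.bilin_sum_left hb]
    apply Finset.sum_eq_zero
    intro i _
    rw [hb.smul_left, hbw, mul_zero]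
  obtain ⟨⟨x, hx, hne⟩, _⟩ := hW (w : Fin n → F) w.2 (by
    intro h; apply hw0; exact Subtype.ext h)
  exact hne (hall x hx)

/-- in characteristic two `-x = x` -/
theorem neg_eq_self_of_two (h2 : (2 : F) = 0) (x : F) : -x = x := by
  have : x + x = 0 := by
    have : x + x = 2 * x := by ring
    rw [this, h2, zero_mul]
  exact neg_eq_of_add_eq_zero_left this

/-- **M1b** -/
theorem even_finrank_of_nondegenerateOn [Fintype F] (heven : ¬ Odd (Fintype.card F)) (Q : (Fin n → F) → F)
    (hQ : IsNondegenerateQuadraticForm Q) (W : Submodule F (Fin n → F))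
    (hW : IsNondegenerateOn (QuadraticMap.polar Q) W) : Even (Module.finrank F W) := by
  have h2 : (2 : F) = 0 := Cfsg.Agent.Helper8.SpEven.two_eq_zero_of_not_odd_card heven
  refine even_finrank_of_alt hQ.polar_bilinear (fun v => ?_) (fun u v => ?_) W hW
  · rw [polar_self hQ, h2, zero_mul]
  · rw [neg_eq_self_of_two h2]
    exact (symB_polar hQ).symm u v

/-- **M1a** -/
theorem orth_reducible_gen [Fintype F] (Q : (Fin n → F) → F) (hQ : IsNondegenerateQuadraticForm Q)
    {H : Subgroup (GL (Fin n) F)} (hHI : H ≤ isometryGroup F Q) (hred : ¬ ActsIrreducibly (matrixSet H)) :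
    (∃ W : Submodule F (Fin n → F), W ≠ ⊥ ∧ IsTotallySingularQuad Q W ∧ H ≤ subspaceStabilizer W) ∨
    (¬ Odd (Fintype.card F) ∧ ∃ v : Fin n → F, Q v ≠ 0 ∧ H ≤ subspaceStabilizer (Submodule.span F {v})) ∨
    (∃ W W' : Submodule F (Fin n → F), W ≠ ⊥ ∧ W ≠ ⊤ ∧ IsNondegenerateOn (QuadraticMap.polar Q) W ∧
      IsNondegenerateOn (QuadraticMap.polar Q) W' ∧ AreOrthogonalFor (QuadraticMap.polar Q) W W' ∧
      W ⊓ W' = ⊥ ∧ W ⊔ W' = ⊤ ∧ 2 * Module.finrank F W ≤ n ∧
      H ≤ subspaceStabilizer W ∧ H ≤ subspaceStabilizer W') := by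
  classical
  have hB := symB_polar hQ
  have hiso := polar_iso hHI
  let S : Set (Submodule F (Fin n → F)) := {W | W ≠ ⊥ ∧ W ≠ ⊤ ∧ H ≤ subspaceStabilizer W}
  have hne : S.Nonempty := exists_stab_of_not_irred hred
  obtain ⟨W, hWS, hmin⟩ := WellFounded.has_min
    (measure (fun W : Submodule F (Fin n → F) => Module.finrank F W)).wf S hne
  obtain ⟨hW0, hW1, hWle⟩ := hWS
  have hPle := le_stab_perp hB hiso hWle
  have hRle := le_stab_inf hWle hPle
  by_cases hR : W ⊓ perp (QuadraticMap.polar Q) hB W = ⊥
  · -- a non-degenerate pair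
    right; right
    obtain ⟨hsum, hndW, hndP⟩ := nondeg_of_inf_perp hB hQ.nondegenerate W hR
    set P := perp (QuadraticMap.polar Q) hB W with hP
    have hfin : Module.finrank F (Fin n → F) = n := Module.finrank_fin_fun F
    have hP0 : P ≠ ⊥ := by
      intro h
      rw [h, finrank_bot, add_zero] at hsum
      apply hW1
      apply Submodule.eq_top_of_finrank_eq
      rw [hsum, hfin]
    have hP1 : P ≠ ⊤ := by
      intro h
      rw [h, inf_top_eq] at hR
      exact hW0 hR
    have hsup : W ⊔ P = ⊤ := by
      apply Submodule.eq_top_of_finrank_eq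
      have h1 := Submodule.finrank_sup_add_finrank_inf_eq W P
      rw [hR, finrank_bot, add_zero] at h1
      rw [h1, hsum, hfin]
    have horth1 : AreOrthogonalFor (QuadraticMap.polar Q) W P := by
      intro u hu v hv
      rw [hB.symm]
      exact hv u hu
    have horth2 : AreOrthogonalFor (QuadraticMap.polar Q) P W := fun u hu v hv => hu v hv
    by_cases hle : 2 * Module.finrank F W ≤ n
    · exact ⟨W, P, hW0, hW1, hndW, hndP, horth1, hR, hsup, hle, hWle, hPle⟩
    · refine ⟨P, W, hP0, hP1, hndP, hndW, horth2, ?_, ?_, by omega, hPle, hWle⟩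
      · rw [inf_comm]; exact hR
      · rw [sup_comm]; exact hsup
  · -- totally singular for the polar form
    have hRS : W ⊓ perp (QuadraticMap.polar Q) hB W ∈ S := by
      refine ⟨hR, ?_, hRle⟩
      intro h
      apply hW1
      rw [eq_top_iff, ← h]
      exact inf_le_left
    have h1 : ¬ Module.finrank F ↥(W ⊓ perp (QuadraticMap.polar Q) hB W) < Module.finrank F W :=
      hmin _ hRS
    have h3 : W ⊓ perp (QuadraticMap.polar Q) hB W = W :=
      Submodule.eq_of_le_of_finrank_le inf_le_left (not_lt.mp h1)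
    have hts : ∀ u ∈ W, ∀ v ∈ W, QuadraticMap.polar Q u v = 0 := by
      intro u hu v hv
      have hu' : u ∈ W ⊓ perp (QuadraticMap.polar Q) hB W := by rw [h3]; exact hu
      exact hu'.2 v hv
    by_cases hodd : Odd (Fintype.card F)
    · left
      have h2 : (2 : F) ≠ 0 := two_ne_zero_of_odd_card hodd
      refine ⟨W, hW0, ?_, hWle⟩
      intro w hw
      have h4 := hts w hw w hw
      rw [polar_self hQ] at h4
      rcases mul_eq_zero.1 h4 with h | h
      · exact absurd h h2
      · exact h
    · have h2 : (2 : F) = 0 := Cfsg.Agent.Helper8.SpEven.two_eq_zero_of_not_odd_card hodd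
      -- the singular vectors of `W`
      let U : Submodule F (Fin n → F) :=
        { carrier := {w | w ∈ W ∧ Q w = 0}
          add_mem' := by
            rintro a b ⟨ha, hQa⟩ ⟨hb, hQb⟩
            refine ⟨W.add_mem ha hb, ?_⟩
            have h5 := hts a ha b hb
            unfold QuadraticMap.polar at h5
            rw [hQa, hQb, sub_zero, sub_zero] at h5
            exact h5
          zero_mem' := ⟨W.zero_mem, Q_zero hQ⟩
          smul_mem' := by
            rintro c a ⟨ha, hQa⟩
            refine ⟨W.smul_mem c ha, ?_⟩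
            rw [hQ.smul, hQa, mul_zero] }
      have hUmem : ∀ w, w ∈ U ↔ w ∈ W ∧ Q w = 0 := fun w => Iff.rfl
      by_cases hU : U = ⊥
      · right; left
        refine ⟨hodd, ?_⟩
        obtain ⟨w, hwW, hw0⟩ := (Submodule.ne_bot_iff W).mp hW0
        have hQw : Q w ≠ 0 := by
          intro h
          have : w ∈ U := (hUmem w).2 ⟨hwW, h⟩
          rw [hU, Submodule.mem_bot] at this
          exact hw0 this
        have hspan : W = Submodule.span F {w} := by
          apply le_antisymm
          · intro w' hw'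
            obtain ⟨c, hc⟩ := Cfsg.Agent.Helper8.SpEven.exists_sq h2 (Q w' / Q w)
            have hmem : (1 : F) • w' + c • w ∈ U := by
              rw [hUmem]
              refine ⟨W.add_mem (W.smul_mem _ hw') (W.smul_mem _ hwW), ?_⟩
              rw [Q_comb hQ, hts w' hw' w hwW, mul_zero, add_zero, one_pow, one_mul, sq, hc,
                div_mul_cancel₀ _ hQw, ← two_mul, h2, zero_mul]
            rw [hU, Submodule.mem_bot, one_smul] at hmem
            rw [Submodule.mem_span_singleton]
            refine ⟨-c, ?_⟩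
            rw [neg_smul]
            exact (eq_neg_of_add_eq_zero_left hmem).symm
          · rw [Submodule.span_le, Set.singleton_subset_iff]
            exact hwW
        refine ⟨w, hQw, ?_⟩
        rw [← hspan]
        exact hWle
      · left
        refine ⟨U, hU, fun w hw => ((hUmem w).1 hw).2, ?_⟩
        apply le_stab_of_half
        intro g hg v hv
        obtain ⟨hvW, hQv⟩ := (hUmem v).1 hv
        rw [hUmem]
        refine ⟨(mem_subspaceStabilizer_iff.mp (hWle hg) v).mp hvW, ?_⟩
        rw [mem_isometryGroup_iff.1 (hHI hg), hQv]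

/-- **M1c** -/
theorem plus_plane_small [Fintype F] (hq : Fintype.card F ≤ 3) (Q : (Fin n → F) → F)
    (hQ : IsNondegenerateQuadraticForm Q)
    (W : Submodule F (Fin n → F)) (h2 : Module.finrank F W = 2)
    (hW : IsNondegenerateOn (QuadraticMap.polar Q) W) (hplus : IsPlusTypeOn Q W)
    {H : Subgroup (GL (Fin n) F)} (hHI : H ≤ isometryGroup F Q) (hle : H ≤ subspaceStabilizer W) :
    (¬ Odd (Fintype.card F) ∧ ∃ v : Fin n → F, Q v ≠ 0 ∧ H ≤ subspaceStabilizer (Submodule.span F {v})) ∨
    (Odd (Fintype.card F) ∧ ∃ W₁ : Submodule F (Fin n → F), Module.finrank F W₁ = 1 ∧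
      IsNondegenerateOn (QuadraticMap.polar Q) W₁ ∧ H ≤ subspaceStabilizer W₁) := by
  classical
  have h1 : 1 < Fintype.card F := Fintype.one_lt_card
  have hcases : Fintype.card F = 2 ∨ Fintype.card F = 3 := by omega
  rcases hcases with hq2 | hq3
  · -- `q = 2`
    left
    have hch : (2 : F) = 0 := Cfsg.Agent.Helper8.SpEven.two_eq_zero_of_card_two hq2
    have h01 := Cfsg.Agent.Helper8.SpEven.eq_zero_or_one_of_card_two hq2
    refine ⟨by rw [hq2]; decide, ?_⟩
    obtain ⟨U, hUW, hUts, hUdim⟩ := hplus
    rw [h2] at hUdim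
    have hU1 : Module.finrank F U = 1 := by omega
    have hUpos : 0 < Module.finrank F U := by omega
    obtain ⟨⟨e, heU⟩, he0'⟩ := Module.finrank_pos_iff_exists_ne_zero.mp hUpos
    have he0 : e ≠ 0 := fun h => he0' (Subtype.ext h)
    have heW : e ∈ W := hUW heU
    have hQe : Q e = 0 := hUts e heU
    obtain ⟨⟨x, hxW, hxe⟩, -⟩ := hW e heW he0
    have hxe1 : QuadraticMap.polar Q x e = 1 := (h01 _).resolve_left hxe
    -- every element of `W` is a combination of `e` and `x`
    have hli : LinearIndependent F ![e, x] := by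
      rw [LinearIndependent.pair_iff]
      intro s t hst
      have h5 : QuadraticMap.polar Q (s • e + t • x) e = QuadraticMap.polar Q 0 e := by rw [hst]
      rw [hQ.polar_bilinear.add_left, hQ.polar_bilinear.smul_left, hQ.polar_bilinear.smul_left, polar_self hQ,
        hQe, mul_zero, mul_zero, zero_add, hxe1, mul_one, (symB_polar hQ).zero_left] at h5
      refine ⟨?_, h5⟩
      rw [h5, zero_smul, add_zero] at hst
      rcases smul_eq_zero.1 hst with h | h
      · exact h
      · exact absurd h he0
    have hspan : W = Submodule.span F (Set.range ![e, x]) := by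
      symm
      apply Submodule.eq_of_le_of_finrank_le
      · rw [Submodule.span_le]
        rintro _ ⟨i, rfl⟩
        fin_cases i
        · exact heW
        · exact hxW
      · rw [finrank_span_eq_card hli, h2, Fintype.card_fin]
    have hform : ∀ w ∈ W, ∃ a b : F, w = a • e + b • x := by
      intro w hw
      rw [hspan] at hw
      obtain ⟨c, rfl⟩ := (Submodule.mem_span_range_iff_exists_fun F).1 hw
      refine ⟨c 0, c 1, ?_⟩
      rw [Fin.sum_univ_two]
      rfl
    have hQab : ∀ a b : F, Q (a • e + b • x) = b ^ 2 * Q x + a * b := by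
      intro a b
      rw [Q_comb hQ, hQe, mul_zero, zero_add, (symB_polar hQ).symm e x, hxe1, mul_one]
    -- the non-singular vector
    obtain ⟨v, hvW, hQv, huniq⟩ : ∃ v ∈ W, Q v ≠ 0 ∧ ∀ w ∈ W, Q w ≠ 0 → w = v := by
      rcases h01 (Q x) with hx0 | hx1
      · refine ⟨(1 : F) • e + (1 : F) • x, W.add_mem (W.smul_mem _ heW) (W.smul_mem _ hxW), ?_, ?_⟩
        · rw [hQab, hx0]; simp
        · intro w hw hQw
          obtain ⟨a, b, rfl⟩ := hform w hw
          rw [hQab, hx0, mul_zero, zero_add] at hQw
          have ha : a = 1 := (h01 a).resolve_left (fun h => hQw (by rw [h, zero_mul]))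
          have hb : b = 1 := (h01 b).resolve_left (fun h => hQw (by rw [h, mul_zero]))
          rw [ha, hb]
      · refine ⟨(0 : F) • e + (1 : F) • x, W.add_mem (W.smul_mem _ heW) (W.smul_mem _ hxW), ?_, ?_⟩
        · rw [hQab, hx1]; simp
        · intro w hw hQw
          obtain ⟨a, b, rfl⟩ := hform w hw
          rw [hQab, hx1, mul_one] at hQw
          rcases h01 b with hb | hb
          · exfalso; apply hQw; rw [hb]; ring
          · rcases h01 a with ha | ha
            · rw [ha, hb]
            · exfalso; apply hQw; rw [ha, hb]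
              have : (1 : F) ^ 2 + 1 * 1 = 2 := by ring
              rw [this, hch]
    refine ⟨v, hQv, ?_⟩
    apply le_stab_of_half
    intro g hg u hu
    obtain ⟨c, rfl⟩ := Submodule.mem_span_singleton.1 hu
    rw [Matrix.mulVec_smul]
    apply Submodule.smul_mem
    have h5 : (g : Matrix (Fin n) (Fin n) F) *ᵥ v ∈ W := (mem_subspaceStabilizer_iff.mp (hle hg) v).mp hvW
    have h6 : Q ((g : Matrix (Fin n) (Fin n) F) *ᵥ v) ≠ 0 := by
      rw [mem_isometryGroup_iff.1 (hHI hg)]; exact hQv
    rw [huniq _ h5 h6]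
    exact Submodule.mem_span_singleton_self v
  · -- `q = 3`
    right
    have hodd : Odd (Fintype.card F) := by rw [hq3]; decide
    have hch : (2 : F) ≠ 0 := two_ne_zero_of_odd_card hodd
    refine ⟨hodd, ?_⟩
    obtain ⟨u₀, hu₀W, hQu₀, hpm⟩ := exists_pm_of_plus_plane hq3 hQ W h2 hW hplus
    have hu₀0 : u₀ ≠ 0 := by
      intro h
      rw [h, Q_zero hQ] at hQu₀
      exact zero_ne_one hQu₀
    refine ⟨Submodule.span F {u₀}, finrank_span_singleton hu₀0, ?_, ?_⟩
    · intro w hw hw0
      obtain ⟨c, rfl⟩ := Submodule.mem_span_singleton.1 hw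
      have hc0 : c ≠ 0 := by
        intro h; apply hw0; rw [h, zero_smul]
      have hval : QuadraticMap.polar Q u₀ (c • u₀) ≠ 0 := by
        rw [hQ.polar_bilinear.smul_right, polar_self hQ, hQu₀, mul_one]
        exact mul_ne_zero hc0 hch
      refine ⟨⟨u₀, Submodule.mem_span_singleton_self u₀, hval⟩,
        ⟨u₀, Submodule.mem_span_singleton_self u₀, ?_⟩⟩
      rw [(symB_polar hQ).symm]
      exact hval
    · apply le_stab_of_half
      intro g hg v hv
      obtain ⟨c, rfl⟩ := Submodule.mem_span_singleton.1 hv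
      rw [Matrix.mulVec_smul]
      apply Submodule.smul_mem
      have h5 : (g : Matrix (Fin n) (Fin n) F) *ᵥ u₀ ∈ W :=
        (mem_subspaceStabilizer_iff.mp (hle hg) u₀).mp hu₀W
      have h6 : Q ((g : Matrix (Fin n) (Fin n) F) *ᵥ u₀) = 1 := by
        rw [mem_isometryGroup_iff.1 (hHI hg), hQu₀]
      rcases hpm _ h5 h6 with h | h
      · rw [h]; exact Submodule.mem_span_singleton_self u₀
      · rw [h]; exact Submodule.neg_mem _ (Submodule.mem_span_singleton_self u₀)

end Cfsg.Agent.Helper2.AschOm
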