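import Mathlib
import Cfsg.Prelude.Def_GeometricClasses
import Cfsg.Agent.Lead.AschOBase
import Cfsg.Agent.Helper2.AschORed
import Cfsg.Agent.Helper2.TensorO3B
import Cfsg.Agent.Helper6.AschCompCliff

/-!
# ASCH-OM piece M2d (helper2): grouping the blocks of an isometric decomposition into two isometric halves

`halves_gen`: for a decomposition `D : κ → Submodule` into pairwise orthogonal, pairwise isometric blocks, a finite set `A`
of indices and a permutation `σ` of the indices exchanging `A` and its complement, the sums of the blocks over `A` and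
over `Aᶜ` are complementary, orthogonal, non-degenerate and isometric.  `halves_of_even_blocks` is the exact stub.
-/

set_option autoImplicit false

namespace Cfsg.Agent.Helper2.AschOm

open Cfsg Cfsg.Geo Cfsg.Agent.Lead.Asch Cfsg.Agent.Lead.AschO Cfsg.Agent.Helper2.AschO
open scoped MatrixGroups Matrix

variable {n : ℕ} {F : Type*} [Field F] {κ : Type} [Fintype κ] [DecidableEq κ]

/-- the sum map of a family of subspaces -/
def sumMap (D : κ → Submodule F (Fin n → F)) : (∀ i, D i) →ₗ[F] (Fin n → F) where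
  toFun := fun c => ∑ i, (c i : Fin n → F)
  map_add' := fun a b => by simp [Finset.sum_add_distrib]
  map_smul' := fun r a => by simp [Finset.smul_sum]

theorem sumMap_apply (D : κ → Submodule F (Fin n → F)) (c : ∀ i, D i) :
    sumMap D c = ∑ i, (c i : Fin n → F) := rfl

theorem sumMap_injective {D : κ → Submodule F (Fin n → F)} (hind : iSupIndep D) :
    Function.Injective (sumMap D) := by
  rw [← LinearMap.ker_eq_bot, LinearMap.ker_eq_bot']
  intro c hc
  funext i
  have hsum : (c i : Fin n → F) + ∑ j ∈ Finset.univ.erase i, (c j : Fin n → F) = 0 :=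
    (Finset.add_sum_erase Finset.univ (fun j => (c j : Fin n → F)) (Finset.mem_univ i)).trans hc
  have h1 : (c i : Fin n → F) ∈ ⨆ (j) (_ : j ≠ i), D j := by
    have h2 : (c i : Fin n → F) = - ∑ j ∈ Finset.univ.erase i, (c j : Fin n → F) :=
      eq_neg_of_add_eq_zero_left hsum
    rw [h2]
    apply Submodule.neg_mem
    apply Submodule.sum_mem
    intro j hj
    exact Submodule.mem_iSup_of_mem j (Submodule.mem_iSup_of_mem (Finset.ne_of_mem_erase hj) (c j).2)
  have h3 : (c i : Fin n → F) ∈ D i ⊓ ⨆ (j) (_ : j ≠ i), D j := ⟨(c i).2, h1⟩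
  rw [(hind i).eq_bot, Submodule.mem_bot] at h3
  exact Subtype.ext h3

theorem sumMap_surjective {D : κ → Submodule F (Fin n → F)} (htop : iSup D = ⊤) :
    Function.Surjective (sumMap D) := by
  intro x
  have hx : x ∈ ⨆ i ∈ (Finset.univ : Finset κ), D i := by
    have : (⨆ i ∈ (Finset.univ : Finset κ), D i) = iSup D := by simp
    rw [this, htop]
    exact Submodule.mem_top
  obtain ⟨μ, hμ⟩ := (Submodule.mem_iSup_finset_iff_exists_sum D x).1 hx
  exact ⟨μ, hμ⟩

/-- membership in a partial sum of the blocks -/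
theorem mem_biSup_iff_exists (D : κ → Submodule F (Fin n → F)) (A : Finset κ) (x : Fin n → F) :
    x ∈ ⨆ i ∈ A, D i ↔ ∃ c : ∀ i, D i, (∀ i, i ∉ A → c i = 0) ∧ sumMap D c = x := by
  classical
  constructor
  · intro hx
    obtain ⟨μ, hμ⟩ := (Submodule.mem_iSup_finset_iff_exists_sum D x).1 hx
    refine ⟨fun i => if i ∈ A then μ i else 0, fun i hi => if_neg hi, ?_⟩
    rw [sumMap_apply, ← hμ, ← Finset.sum_subset (Finset.subset_univ A)]
    · apply Finset.sum_congr rfl
      intro i hi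
      simp only [if_pos hi]
    · intro i _ hi
      simp only [if_neg hi, Submodule.coe_zero]
  · rintro ⟨c, hc, rfl⟩
    rw [sumMap_apply]
    apply Submodule.sum_mem
    intro i _
    by_cases hi : i ∈ A
    · exact Submodule.mem_iSup_of_mem i (Submodule.mem_iSup_of_mem hi (c i).2)
    · rw [hc i hi, Submodule.coe_zero]
      exact Submodule.zero_mem _

/-- `Q` is additive on sums of pairwise orthogonal vectors -/
theorem Q_sum_of_orth {Q : (Fin n → F) → F} (hQ : IsNondegenerateQuadraticForm Q) (s : Finset κ)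
    (x : κ → (Fin n → F)) (horth : ∀ i ∈ s, ∀ j ∈ s, i ≠ j → QuadraticMap.polar Q (x i) (x j) = 0) :
    Q (∑ i ∈ s, x i) = ∑ i ∈ s, Q (x i) := by
  classical
  induction s using Finset.induction_on with
  | empty => simp [Q_zero hQ]
  | insert a s ha ih =>
    rw [Finset.sum_insert ha, Finset.sum_insert ha]
    have h1 : Q (x a + ∑ i ∈ s, x i) = Q (x a) + Q (∑ i ∈ s, x i) +
        QuadraticMap.polar Q (x a) (∑ i ∈ s, x i) := by
      unfold QuadraticMap.polar; ring
    have h2 : QuadraticMap.polar Q (x a) (∑ i ∈ s, x i) = 0 := by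
      rw [Cfsg.Agent.Helper2.TensorO3.bilin_sum_right hQ.polar_bilinear]
      apply Finset.sum_eq_zero
      intro i hi
      exact horth a (Finset.mem_insert_self a s) i (Finset.mem_insert_of_mem hi)
        (fun h => ha (h ▸ hi))
    rw [h1, h2, add_zero, ih]
    intro i hi j hj hij
    exact horth i (Finset.mem_insert_of_mem hi) j (Finset.mem_insert_of_mem hj) hij

/-- the general statement -/
theorem halves_gen {Q : (Fin n → F) → F} (hQ : IsNondegenerateQuadraticForm Q)
    (D : κ → Submodule F (Fin n → F)) (hind : iSupIndep D) (htop : iSup D = ⊤)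
    (horth : ∀ i j, i ≠ j → AreOrthogonalFor (QuadraticMap.polar Q) (D i) (D j))
    (hiso : ∀ i j, AreIsometricFor Q (D i) (D j))
    (σ : Equiv.Perm κ) (A : Finset κ) (hσ : ∀ i, σ i ∈ A ↔ i ∉ A) :
    IsNondegenerateOn (QuadraticMap.polar Q) (⨆ i ∈ A, D i) ∧
      AreOrthogonalFor (QuadraticMap.polar Q) (⨆ i ∈ A, D i) (⨆ i ∈ Aᶜ, D i) ∧
      (⨆ i ∈ A, D i) ⊓ (⨆ i ∈ Aᶜ, D i) = ⊥ ∧ (⨆ i ∈ A, D i) ⊔ (⨆ i ∈ Aᶜ, D i) = ⊤ ∧
      AreIsometricFor Q (⨆ i ∈ A, D i) (⨆ i ∈ Aᶜ, D i) := by
  classical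
  have hB := symB_polar hQ
  set W : Submodule F (Fin n → F) := ⨆ i ∈ A, D i with hW
  set W' : Submodule F (Fin n → F) := ⨆ i ∈ Aᶜ, D i with hW'
  -- complementary
  have hinf : W ⊓ W' = ⊥ := by
    rw [eq_bot_iff]
    rintro x ⟨hx1, hx2⟩
    obtain ⟨c₁, hc₁, rfl⟩ := (mem_biSup_iff_exists D A x).1 hx1
    obtain ⟨c₂, hc₂, h12⟩ := (mem_biSup_iff_exists D Aᶜ _).1 hx2
    have h0 : c₂ = c₁ := sumMap_injective hind h12
    have hz : c₁ = 0 := by
      funext i
      by_cases hi : i ∈ A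
      · rw [← h0]
        exact hc₂ i (fun h => (Finset.mem_compl.1 h) hi)
      · exact hc₁ i hi
    rw [hz, map_zero]
    exact Submodule.zero_mem _
  have hsup : W ⊔ W' = ⊤ := by
    rw [eq_top_iff, ← htop]
    apply iSup_le
    intro i
    by_cases hi : i ∈ A
    · exact le_sup_of_le_left (le_iSup₂_of_le i hi le_rfl)
    · exact le_sup_of_le_right (le_iSup₂_of_le i (Finset.mem_compl.2 hi) le_rfl)
  -- orthogonal
  have horthW : AreOrthogonalFor (QuadraticMap.polar Q) W W' := by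
    have h1 : ∀ j ∈ Aᶜ, W ≤ perp (QuadraticMap.polar Q) hB (D j) := by
      intro j hj
      apply iSup₂_le
      intro i hi u hu w hw
      have hij : i ≠ j := fun h => (Finset.mem_compl.1 hj) (h ▸ hi)
      exact horth i j hij u hu w hw
    have h2 : W' ≤ perp (QuadraticMap.polar Q) hB W := by
      apply iSup₂_le
      intro j hj v hv u hu
      rw [hB.symm]
      exact h1 j hj hu v hv
    intro u hu v hv
    rw [hB.symm]
    exact h2 hv u hu
  -- non-degenerate
  have hnd : IsNondegenerateOn (QuadraticMap.polar Q) W := by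
    intro u hu hu0
    obtain ⟨⟨x, hx⟩, -⟩ := hQ.nondegenerate u hu0
    have hxmem : x ∈ W ⊔ W' := by rw [hsup]; exact Submodule.mem_top
    obtain ⟨a, ha, b, hb, rfl⟩ := Submodule.mem_sup.1 hxmem
    have h1 : QuadraticMap.polar Q b u = 0 := by
      rw [hB.symm]; exact horthW u hu b hb
    rw [hQ.polar_bilinear.add_left, h1, add_zero] at hx
    exact ⟨⟨a, ha, hx⟩, ⟨a, ha, by rw [hB.symm]; exact hx⟩⟩
  refine ⟨hnd, horthW, hinf, hsup, ?_⟩
  -- the isometry
  have hinj := sumMap_injective hind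
  have hsurj := sumMap_surjective htop
  let Φ : (∀ i, D i) ≃ₗ[F] (Fin n → F) := LinearEquiv.ofBijective (sumMap D) ⟨hinj, hsurj⟩
  have hΦ : ∀ c, Φ c = sumMap D c := fun c => rfl
  choose ε hε using fun i => hiso (σ i) i
  let E : (∀ i, D i) →ₗ[F] (∀ i, D i) :=
    LinearMap.pi (fun i => (ε i).toLinearMap ∘ₗ LinearMap.proj (σ i))
  have hE : ∀ c i, E c i = ε i (c (σ i)) := fun c i => rfl
  let T : (Fin n → F) →ₗ[F] (Fin n → F) := (sumMap D) ∘ₗ E ∘ₗ Φ.symm.toLinearMap
  have hT : ∀ c, T (sumMap D c) = sumMap D (E c) := by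
    intro c
    have h1 : Φ.symm (sumMap D c) = c := by
      rw [← hΦ c]; exact Φ.symm_apply_apply c
    show sumMap D (E (Φ.symm (sumMap D c))) = _
    rw [h1]
  have hQsum : ∀ c : ∀ i, D i, Q (sumMap D c) = ∑ i, Q (c i : Fin n → F) := by
    intro c
    rw [sumMap_apply]
    apply Q_sum_of_orth hQ
    intro i _ j _ hij
    exact horth i j hij _ (c i).2 _ (c j).2
  have hTQ : ∀ x, Q (T x) = Q x := by
    intro x
    obtain ⟨c, rfl⟩ := hsurj x
    rw [hT, hQsum, hQsum]
    rw [← Equiv.sum_comp σ (fun i => Q (c i : Fin n → F))]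
    apply Finset.sum_congr rfl
    intro i _
    rw [hE, hε]
  have hTinj : Function.Injective T := by
    rw [← LinearMap.ker_eq_bot, LinearMap.ker_eq_bot']
    intro x hx
    by_contra hx0
    obtain ⟨-, ⟨y, hy⟩⟩ := hQ.nondegenerate x hx0
    apply hy
    have h1 : QuadraticMap.polar Q (T x) (T y) = QuadraticMap.polar Q x y := by
      unfold QuadraticMap.polar
      rw [← map_add, hTQ, hTQ, hTQ]
    rw [← h1, hx, hB.zero_left]
  -- `T` exchanges the two halves
  have hmaps : ∀ (A₁ : Finset κ), (∀ i, σ i ∈ A₁ᶜ ↔ i ∈ A₁) → ∀ x ∈ ⨆ i ∈ A₁, D i, T x ∈ ⨆ i ∈ A₁ᶜ, D i := by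
    intro A₁ hA₁ x hx
    obtain ⟨c, hc0, hc⟩ := (mem_biSup_iff_exists D A₁ x).1 hx
    rw [← hc, hT, sumMap_apply]
    apply Submodule.sum_mem
    intro i _
    by_cases hi : i ∈ A₁ᶜ
    · exact Submodule.mem_iSup_of_mem i (Submodule.mem_iSup_of_mem hi (E c i).2)
    · have h1 : σ i ∉ A₁ := by
        intro h
        have h2 : σ (σ i) ∈ A₁ᶜ := (hA₁ (σ i)).2 h
        -- `σ i ∈ A₁` and `i ∉ A₁ᶜ`, i.e. `i ∈ A₁`, so `σ i ∈ A₁ᶜ`
        have h3 : i ∈ A₁ := by
          by_contra h4
          exact hi (Finset.mem_compl.2 h4)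
        exact (Finset.mem_compl.1 ((hA₁ i).2 h3)) h
      have h2 : E c i = 0 := by
        rw [hE, hc0 _ h1, map_zero]
      rw [h2, Submodule.coe_zero]
      exact Submodule.zero_mem _
  have hA1 : ∀ i, σ i ∈ Aᶜ ↔ i ∈ A := by
    intro i
    rw [Finset.mem_compl, hσ, not_not]
  have hA2 : ∀ i, σ i ∈ Aᶜᶜ ↔ i ∈ Aᶜ := by
    intro i
    rw [compl_compl, hσ, Finset.mem_compl]
  have hm1 : ∀ x ∈ W, T x ∈ W' := hmaps A hA1
  have hm2 : ∀ x ∈ W', T x ∈ W := by
    intro x hx
    have := hmaps Aᶜ hA2 x hx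
    rwa [compl_compl] at this
  let T₁ : W →ₗ[F] W' := T.restrict hm1
  let T₂ : W' →ₗ[F] W := T.restrict hm2
  have hT₁ : Function.Injective T₁ := by
    intro a b hab
    apply Subtype.ext
    apply hTinj
    exact congrArg Subtype.val hab
  have hT₂ : Function.Injective T₂ := by
    intro a b hab
    apply Subtype.ext
    apply hTinj
    exact congrArg Subtype.val hab
  have hdim : Module.finrank F W = Module.finrank F W' :=
    le_antisymm (LinearMap.finrank_le_finrank_of_injective hT₁)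
      (LinearMap.finrank_le_finrank_of_injective hT₂)
  refine ⟨LinearMap.linearEquivOfInjective T₁ hT₁ hdim, fun w => ?_⟩
  rw [LinearMap.linearEquivOfInjective_apply]
  exact hTQ w

/-- **M2d** (exact stub) -/
theorem halves_of_even_blocks [Fintype F] (Q : (Fin n → F) → F) (hQ : IsNondegenerateQuadraticForm Q) {t m s : ℕ}
    (ht : t = 2 * s) (D : Fin t → Submodule F (Fin n → F)) (hD : IsOrthogonalMDecomposition Q m D) :
    ∃ W W' : Submodule F (Fin n → F), IsNondegenerateOn (QuadraticMap.polar Q) W ∧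
      AreOrthogonalFor (QuadraticMap.polar Q) W W' ∧ W ⊓ W' = ⊥ ∧ W ⊔ W' = ⊤ ∧ AreIsometricFor Q W W' ∧
      Module.finrank F W = s * m := by
  classical
  subst ht
  -- the permutation exchanging the two halves
  let τ : Fin 2 × Fin s ≃ Fin (2 * s) := finProdFinEquiv
  let sw : Equiv.Perm (Fin 2 × Fin s) := Equiv.prodCongrLeft (fun _ => Equiv.swap (0 : Fin 2) 1)
  let σ : Equiv.Perm (Fin (2 * s)) := τ.symm.trans (sw.trans τ)
  let A : Finset (Fin (2 * s)) := Finset.univ.filter (fun i => (τ.symm i).1 = 0)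
  have key : ∀ a : Fin 2, Equiv.swap (0 : Fin 2) 1 a = 0 ↔ ¬ a = 0 := by decide
  have hσ : ∀ i, σ i ∈ A ↔ i ∉ A := by
    intro i
    have h1 : (τ.symm (σ i)).1 = Equiv.swap (0 : Fin 2) 1 (τ.symm i).1 := by
      simp [σ, sw]
    simp only [A, Finset.mem_filter, Finset.mem_univ, true_and]
    rw [h1]
    exact key _
  obtain ⟨hnd, horth, hinf, hsup, hiso⟩ :=
    halves_gen hQ D hD.decomp.decomp.indep hD.decomp.decomp.iSup_eq_top hD.decomp.orthogonal hD.isometric σ A hσ
  refine ⟨_, _, hnd, horth, hinf, hsup, hiso, ?_⟩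
  obtain ⟨ε, -⟩ := hiso
  have h1 := LinearEquiv.finrank_eq ε
  have h2 := Submodule.finrank_sup_add_finrank_inf_eq (⨆ i ∈ A, D i) (⨆ i ∈ Aᶜ, D i)
  rw [hsup, hinf, finrank_top, finrank_bot, add_zero, Module.finrank_fin_fun, ← h1] at h2
  have h3 := Cfsg.Agent.Helper6.AschComp.card_mul_of_isMDecomposition D hD.decomp.decomp
  have h3' : 2 * (s * m) = n := by rw [← mul_assoc]; exact h3
  omega

end Cfsg.Agent.Helper2.AschOm
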