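import Mathlib
import Cfsg.Prelude.Def_GeometricClasses
import Cfsg.Prelude.Def_ClassicalGeometry
import Cfsg.Agent.Helper8.SpEvenB

/-!
# ASCH-PP-Sp, `Sp_4(3)`: piece (C) (helper2)

Over the field with three elements the stabiliser in `Sp_4` of a pair of complementary totally singular planes
stabilises a pair of orthogonal non-degenerate planes.  With dual bases `u₁, u₂` of `D 0` and `w₁, w₂` of `D 1`
(`f(uᵢ, wⱼ) = δᵢⱼ`) the new planes are `⟨u₁ + w₂, u₂ - w₁⟩` and `⟨u₁ - w₂, u₂ + w₁⟩`.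
-/

set_option autoImplicit false
set_option linter.unusedSectionVars false
set_option linter.unusedSimpArgs false

namespace Cfsg.Agent.Helper2.AschSp4

open Cfsg Cfsg.Geo Matrix

variable {ι : Type} [Fintype ι] [DecidableEq ι] {F : Type*} [Field F]

/-! ### the field with three elements -/

theorem f3_cases [Fintype F] (hq : Fintype.card F = 3) (a : F) : a = 0 ∨ a = 1 ∨ a = -1 := by
  have h := FiniteField.pow_card a
  rw [hq] at h
  have h' : a * (a - 1) * (a + 1) = 0 := by linear_combination h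
  rcases mul_eq_zero.1 h' with h1 | h1
  · rcases mul_eq_zero.1 h1 with h2 | h2
    · exact Or.inl h2
    · exact Or.inr (Or.inl (sub_eq_zero.1 h2))
  · exact Or.inr (Or.inr (eq_neg_of_add_eq_zero_left h1))

theorem f3_three [Fintype F] (hq : Fintype.card F = 3) : (3 : F) = 0 := by
  have h3 : ((Fintype.card F : ℕ) : F) = 0 := FiniteField.cast_card_eq_zero F
  rw [hq] at h3
  exact_mod_cast h3

theorem f3_two_ne [Fintype F] (hq : Fintype.card F = 3) : (2 : F) ≠ 0 := by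
  intro h
  have h3 := f3_three hq
  have : (1 : F) = 0 := by linear_combination h3 - h
  exact one_ne_zero this

/-! ### bilinear forms -/

/-- the Mathlib bilinear map of a bilinear form in the prelude's sense -/
def toB {f : (ι → F) → (ι → F) → F} (hb : IsBilinearForm f) : (ι → F) →ₗ[F] (ι → F) →ₗ[F] F :=
  LinearMap.mk₂ F f hb.add_left hb.smul_left hb.add_right hb.smul_right

theorem toB_apply {f : (ι → F) → (ι → F) → F} (hb : IsBilinearForm f) (u v : ι → F) :
    toB hb u v = f u v := rfl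

/-- a plane on which an alternating form does not vanish is non-degenerate -/
theorem nondegOn_span_pair {f : (ι → F) → (ι → F) → F} (hf : IsSymplecticForm f) {y₁ y₂ : ι → F}
    (h : f y₁ y₂ ≠ 0) : IsNondegenerateOn f (Submodule.span F {y₁, y₂}) := by
  have hb := hf.bilinear
  have key : ∀ w ∈ Submodule.span F {y₁, y₂}, w ≠ 0 → ∃ x ∈ Submodule.span F {y₁, y₂}, f x w ≠ 0 := by
    intro w hw hw0
    obtain ⟨a, b, rfl⟩ := Submodule.mem_span_pair.mp hw
    have hy₁ : y₁ ∈ Submodule.span F {y₁, y₂} := Submodule.subset_span (Set.mem_insert _ _)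
    have hy₂ : y₂ ∈ Submodule.span F {y₁, y₂} :=
      Submodule.subset_span (Set.mem_insert_of_mem _ (Set.mem_singleton _))
    have e1 : f y₁ (a • y₁ + b • y₂) = b * f y₁ y₂ := by
      rw [hb.add_right, hb.smul_right, hb.smul_right, hf.alternating, mul_zero, zero_add]
    have e2 : f y₂ (a • y₁ + b • y₂) = - (a * f y₁ y₂) := by
      rw [hb.add_right, hb.smul_right, hb.smul_right, hf.alternating, mul_zero, add_zero, hf.skew y₂ y₁,
        mul_neg]
    by_cases hb0 : b = 0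
    · have ha0 : a ≠ 0 := by
        rintro rfl
        apply hw0
        rw [hb0, zero_smul, zero_smul, add_zero]
      exact ⟨y₂, hy₂, by rw [e2]; exact neg_ne_zero.mpr (mul_ne_zero ha0 h)⟩
    · exact ⟨y₁, hy₁, by rw [e1]; exact mul_ne_zero hb0 h⟩
  intro w hw hw0
  obtain ⟨x, hx, hxw⟩ := key w hw hw0
  refine ⟨⟨x, hx, hxw⟩, x, hx, ?_⟩
  rw [hf.skew]
  exact neg_ne_zero.mpr hxw

/-- two vectors with non-zero product are linearly independent -/
theorem finrank_span_pair {f : (ι → F) → (ι → F) → F} (hf : IsSymplecticForm f) {y₁ y₂ : ι → F}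
    (h : f y₁ y₂ ≠ 0) : Module.finrank F (Submodule.span F {y₁, y₂}) = 2 := by
  have hb := hf.bilinear
  have hli : LinearIndependent F ![y₁, y₂] := by
    rw [LinearIndependent.pair_iff]
    intro s t hst
    have e1 : f (s • y₁ + t • y₂) y₂ = s * f y₁ y₂ := by
      rw [hb.add_left, hb.smul_left, hb.smul_left, hf.alternating, mul_zero, add_zero]
    have e2 : f y₁ (s • y₁ + t • y₂) = t * f y₁ y₂ := by
      rw [hb.add_right, hb.smul_right, hb.smul_right, hf.alternating, mul_zero, zero_add]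
    have z1 : f (0 : ι → F) y₂ = 0 := by
      have := hb.smul_left 0 0 y₂
      rwa [zero_smul, zero_mul] at this
    have z2 : f y₁ (0 : ι → F) = 0 := by
      have := hb.smul_right 0 y₁ 0
      rwa [zero_smul, zero_mul] at this
    rw [hst] at e1 e2
    rw [z1] at e1
    rw [z2] at e2
    exact ⟨(mul_eq_zero.mp e1.symm).resolve_right h, (mul_eq_zero.mp e2.symm).resolve_right h⟩
  have hr : Set.range ![y₁, y₂] = {y₁, y₂} := by
    simp [Matrix.range_cons, Set.pair_comm]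
  have := finrank_span_eq_card hli
  rw [Fintype.card_fin, hr] at this
  exact this

/-! ### hyperbolic frames -/

/-- a hyperbolic frame adapted to a pair of planes -/
structure Frame (f : (ι → F) → (ι → F) → F) (A B : Submodule F (ι → F)) (u₁ u₂ w₁ w₂ : ι → F) : Prop where
  hu₁ : u₁ ∈ A
  hu₂ : u₂ ∈ A
  hw₁ : w₁ ∈ B
  hw₂ : w₂ ∈ B
  h11 : f u₁ w₁ = 1
  h12 : f u₁ w₂ = 0
  h21 : f u₂ w₁ = 0
  h22 : f u₂ w₂ = 1
  spanA : A = Submodule.span F {u₁, u₂}
  spanB : B = Submodule.span F {w₁, w₂}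

theorem exists_frame {f : (ι → F) → (ι → F) → F} (hf : IsSymplecticForm f) {A B : Submodule F (ι → F)}
    (hc : IsCompl A B) (hA : Module.finrank F A = 2) (htA : IsTotallySingularFor f A)
    (htB : IsTotallySingularFor f B) : ∃ u₁ u₂ w₁ w₂, Frame f A B u₁ u₂ w₁ w₂ := by
  have hb := hf.bilinear
  have hB : ∀ u v, f u v = toB hb u v := fun u v => rfl
  have hdec : ∀ x : ι → F, ∃ a ∈ A, ∃ b ∈ B, a + b = x := by
    intro x
    have hx' : x ∈ A ⊔ B := by rw [hc.sup_eq_top]; trivial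
    exact Submodule.mem_sup.mp hx'
  have hpair : ∀ e ∈ A, e ≠ 0 → ∃ b ∈ B, f e b = 1 := by
    intro e he he0
    obtain ⟨x, hx⟩ := (hf.nondegenerate e he0).2
    obtain ⟨a, ha, b, hb', rfl⟩ := hdec x
    rw [hb.add_right, htA e he a ha, zero_add] at hx
    refine ⟨(f e b)⁻¹ • b, B.smul_mem _ hb', ?_⟩
    rw [hb.smul_right, inv_mul_cancel₀ hx]
  -- a basis of `A`
  obtain ⟨bA⟩ : Nonempty (Module.Basis (Fin 2) F A) := ⟨Module.finBasisOfFinrankEq F A hA⟩
  obtain ⟨u₁, hu₁def⟩ : ∃ u₁ : ι → F, u₁ = (bA 0 : A) := ⟨_, rfl⟩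
  obtain ⟨u₂', hu₂'def⟩ : ∃ u₂' : ι → F, u₂' = (bA 1 : A) := ⟨_, rfl⟩
  have hu₁A : u₁ ∈ A := by rw [hu₁def]; exact (bA 0).2
  have hu₂'A : u₂' ∈ A := by rw [hu₂'def]; exact (bA 1).2
  have hrepr : ∀ x ∈ A, ∃ a b : F, x = a • u₁ + b • u₂' := by
    intro x hx
    refine ⟨bA.repr ⟨x, hx⟩ 0, bA.repr ⟨x, hx⟩ 1, ?_⟩
    have := bA.sum_repr ⟨x, hx⟩
    rw [Fin.sum_univ_two] at this
    have h2 := congrArg (Subtype.val) this
    rw [hu₁def, hu₂'def]
    exact h2.symm
  have hu₁0 : u₁ ≠ 0 := by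
    intro h
    have : bA 0 = 0 := Subtype.ext (by rw [← hu₁def, h]; rfl)
    exact bA.ne_zero 0 this
  have hindep : ∀ c : F, u₂' ≠ c • u₁ := by
    intro c h
    have h1 : bA 1 = c • bA 0 := Subtype.ext (by rw [← hu₂'def, h, hu₁def]; rfl)
    have h2 := congrArg (fun x => bA.repr x 1) h1
    simp only [Module.Basis.repr_self, map_smul, Finsupp.smul_apply, Finsupp.single_apply] at h2
    simp at h2
  obtain ⟨w₁, hw₁B, h11⟩ := hpair u₁ hu₁A hu₁0
  obtain ⟨u₂, hu₂A, h21, hu₂'eq⟩ : ∃ u₂ ∈ A, f u₂ w₁ = 0 ∧ u₂' = u₂ + f u₂' w₁ • u₁ := by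
    refine ⟨u₂' - f u₂' w₁ • u₁, A.sub_mem hu₂'A (A.smul_mem _ hu₁A), ?_, ?_⟩
    · rw [hB, map_sub, map_smul, LinearMap.sub_apply, LinearMap.smul_apply, ← hB, ← hB, h11, smul_eq_mul,
        mul_one, sub_self]
    · rw [sub_add_cancel]
  have hu₂0 : u₂ ≠ 0 := by
    rintro rfl
    rw [zero_add] at hu₂'eq
    exact hindep _ hu₂'eq
  obtain ⟨w₂', hw₂'B, h22'⟩ := hpair u₂ hu₂A hu₂0
  obtain ⟨w₂, hw₂B, h12, h22⟩ : ∃ w₂ ∈ B, f u₁ w₂ = 0 ∧ f u₂ w₂ = 1 := by
    refine ⟨w₂' - f u₁ w₂' • w₁, B.sub_mem hw₂'B (B.smul_mem _ hw₁B), ?_, ?_⟩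
    · rw [hB, map_sub, map_smul, ← hB, ← hB, h11, smul_eq_mul, mul_one, sub_self]
    · rw [hB, map_sub, map_smul, ← hB, ← hB, h21, h22', smul_eq_mul, mul_zero, sub_zero]
  have hspanA : A = Submodule.span F {u₁, u₂} := by
    apply le_antisymm
    · intro x hx
      obtain ⟨a, b, rfl⟩ := hrepr x hx
      rw [Submodule.mem_span_pair]
      refine ⟨a + b * f u₂' w₁, b, ?_⟩
      have : a • u₁ + b • u₂' = a • u₁ + b • (u₂ + f u₂' w₁ • u₁) := by rw [← hu₂'eq]
      rw [this]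
      module
    · rw [Submodule.span_le]
      intro x hx
      rcases hx with rfl | rfl
      · exact hu₁A
      · exact hu₂A
  have hspanB : B = Submodule.span F {w₁, w₂} := by
    apply le_antisymm
    · intro x hx
      have hx0 : x - f u₁ x • w₁ - f u₂ x • w₂ = 0 := by
        by_contra hne
        obtain ⟨z, hz⟩ := (hf.nondegenerate _ hne).1
        apply hz
        have hx'B : x - f u₁ x • w₁ - f u₂ x • w₂ ∈ B :=
          B.sub_mem (B.sub_mem hx (B.smul_mem _ hw₁B)) (B.smul_mem _ hw₂B)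
        obtain ⟨a, ha, b, hb', rfl⟩ := hdec z
        rw [hb.add_left, htB b hb' _ hx'B, add_zero]
        rw [hspanA, Submodule.mem_span_pair] at ha
        obtain ⟨α, β, rfl⟩ := ha
        have e1 : f u₁ (x - f u₁ x • w₁ - f u₂ x • w₂) = 0 := by
          rw [hB, map_sub, map_sub, map_smul, map_smul, ← hB, ← hB, ← hB, h11, h12, smul_eq_mul,
            smul_eq_mul, mul_one, mul_zero, sub_self, sub_zero]
        have e2 : f u₂ (x - f u₁ x • w₁ - f u₂ x • w₂) = 0 := by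
          rw [hB, map_sub, map_sub, map_smul, map_smul, ← hB, ← hB, ← hB, h21, h22, smul_eq_mul,
            smul_eq_mul, mul_one, mul_zero, sub_zero, sub_self]
        rw [hb.add_left, hb.smul_left, hb.smul_left, e1, e2, mul_zero, mul_zero, add_zero]
      rw [Submodule.mem_span_pair]
      refine ⟨f u₁ x, f u₂ x, ?_⟩
      rw [sub_sub, sub_eq_zero] at hx0
      exact hx0.symm
    · rw [Submodule.span_le]
      intro x hx
      rcases hx with rfl | rfl
      · exact hw₁B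
      · exact hw₂B
  exact ⟨u₁, u₂, w₁, w₂, hu₁A, hu₂A, hw₁B, hw₂B, h11, h12, h21, h22, hspanA, hspanB⟩

theorem Frame.swap {f : (ι → F) → (ι → F) → F} (hf : IsSymplecticForm f) {A B : Submodule F (ι → F)}
    {u₁ u₂ w₁ w₂ : ι → F} (fr : Frame f A B u₁ u₂ w₁ w₂) : Frame f B A w₁ w₂ (-u₁) (-u₂) := by
  have hb := hf.bilinear
  have hB : ∀ u v, f u v = toB hb u v := fun u v => rfl
  have hneg : ∀ u v, f u (-v) = f v u := by
    intro u v
    rw [hB, map_neg, ← hB, hf.skew u v, neg_neg]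
  refine ⟨fr.hw₁, fr.hw₂, A.neg_mem fr.hu₁, A.neg_mem fr.hu₂, ?_, ?_, ?_, ?_, fr.spanB, ?_⟩
  · rw [hneg, fr.h11]
  · rw [hneg, fr.h21]
  · rw [hneg, fr.h12]
  · rw [hneg, fr.h22]
  · rw [fr.spanA]
    apply le_antisymm
    · rw [Submodule.span_le]
      intro x hx
      rcases hx with rfl | rfl
      · exact Submodule.mem_span_pair.mpr ⟨-1, 0, by module⟩
      · exact Submodule.mem_span_pair.mpr ⟨0, -1, by module⟩
    · rw [Submodule.span_le]
      intro x hx
      rcases hx with rfl | rfl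
      · exact Submodule.mem_span_pair.mpr ⟨-1, 0, by module⟩
      · exact Submodule.mem_span_pair.mpr ⟨0, -1, by module⟩

/-! ### the two new planes -/

/-- the first new plane -/
def Yp (u₁ u₂ w₁ w₂ : ι → F) : Submodule F (ι → F) := Submodule.span F {u₁ + w₂, u₂ - w₁}

/-- the second new plane -/
def Xp (u₁ u₂ w₁ w₂ : ι → F) : Submodule F (ι → F) := Submodule.span F {u₁ - w₂, u₂ + w₁}

theorem Yp_swap (u₁ u₂ w₁ w₂ : ι → F) : Yp w₁ w₂ (-u₁) (-u₂) = Yp u₁ u₂ w₁ w₂ := by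
  unfold Yp
  apply le_antisymm
  · rw [Submodule.span_le]
    intro x hx
    rcases hx with rfl | rfl
    · exact Submodule.mem_span_pair.mpr ⟨0, -1, by module⟩
    · exact Submodule.mem_span_pair.mpr ⟨1, 0, by module⟩
  · rw [Submodule.span_le]
    intro x hx
    rcases hx with rfl | rfl
    · exact Submodule.mem_span_pair.mpr ⟨0, 1, by module⟩
    · exact Submodule.mem_span_pair.mpr ⟨-1, 0, by module⟩

theorem Xp_swap (u₁ u₂ w₁ w₂ : ι → F) : Xp w₁ w₂ (-u₁) (-u₂) = Xp u₁ u₂ w₁ w₂ := by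
  unfold Xp
  apply le_antisymm
  · rw [Submodule.span_le]
    intro x hx
    rcases hx with rfl | rfl
    · exact Submodule.mem_span_pair.mpr ⟨0, 1, by module⟩
    · exact Submodule.mem_span_pair.mpr ⟨-1, 0, by module⟩
  · rw [Submodule.span_le]
    intro x hx
    rcases hx with rfl | rfl
    · exact Submodule.mem_span_pair.mpr ⟨0, -1, by module⟩
    · exact Submodule.mem_span_pair.mpr ⟨1, 0, by module⟩

theorem mulVec_mem_of_span_pair (g : Matrix ι ι F) {y₁ y₂ : ι → F} {S : Submodule F (ι → F)}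
    (h₁ : g *ᵥ y₁ ∈ S) (h₂ : g *ᵥ y₂ ∈ S) : ∀ x ∈ Submodule.span F {y₁, y₂}, g *ᵥ x ∈ S := by
  intro x hx
  obtain ⟨a, b, rfl⟩ := Submodule.mem_span_pair.mp hx
  rw [Matrix.mulVec_add, Matrix.mulVec_smul, Matrix.mulVec_smul]
  exact S.add_mem (S.smul_mem _ h₁) (S.smul_mem _ h₂)

/-- **the computation**: an isometry carrying a framed pair of planes to a framed pair of planes carries the new
planes to the new planes, possibly swapping them. -/
theorem core [Fintype F] (hq : Fintype.card F = 3) {f : (ι → F) → (ι → F) → F} (hb : IsBilinearForm f)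
    {A B A' B' : Submodule F (ι → F)} {u₁ u₂ w₁ w₂ u₁' u₂' w₁' w₂' : ι → F}
    (fr : Frame f A B u₁ u₂ w₁ w₂) (fr' : Frame f A' B' u₁' u₂' w₁' w₂') (g : Matrix ι ι F)
    (hg : ∀ u v, f (g *ᵥ u) (g *ᵥ v) = f u v) (hA : ∀ x ∈ A, g *ᵥ x ∈ A') (hB : ∀ x ∈ B, g *ᵥ x ∈ B') :
    ((∀ x ∈ Yp u₁ u₂ w₁ w₂, g *ᵥ x ∈ Yp u₁' u₂' w₁' w₂') ∧
        (∀ x ∈ Xp u₁ u₂ w₁ w₂, g *ᵥ x ∈ Xp u₁' u₂' w₁' w₂')) ∨
      ((∀ x ∈ Yp u₁ u₂ w₁ w₂, g *ᵥ x ∈ Xp u₁' u₂' w₁' w₂') ∧
        (∀ x ∈ Xp u₁ u₂ w₁ w₂, g *ᵥ x ∈ Yp u₁' u₂' w₁' w₂')) := by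
  have m1 := hA u₁ fr.hu₁
  have m2 := hA u₂ fr.hu₂
  have m3 := hB w₁ fr.hw₁
  have m4 := hB w₂ fr.hw₂
  rw [fr'.spanA, Submodule.mem_span_pair] at m1 m2
  rw [fr'.spanB, Submodule.mem_span_pair] at m3 m4
  obtain ⟨a, c, h1⟩ := m1
  obtain ⟨b, d, h2⟩ := m2
  obtain ⟨p, r, h3⟩ := m3
  obtain ⟨s, t, h4⟩ := m4
  have E1 : a * p + c * r = 1 := by
    have := hg u₁ w₁
    rw [← h1, ← h3, fr.h11] at this
    simp only [hb.add_left, hb.add_right, hb.smul_left, hb.smul_right, fr'.h11, fr'.h12, fr'.h21,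
      fr'.h22] at this
    linear_combination this
  have E2 : a * s + c * t = 0 := by
    have := hg u₁ w₂
    rw [← h1, ← h4, fr.h12] at this
    simp only [hb.add_left, hb.add_right, hb.smul_left, hb.smul_right, fr'.h11, fr'.h12, fr'.h21,
      fr'.h22] at this
    linear_combination this
  have E3 : b * p + d * r = 0 := by
    have := hg u₂ w₁
    rw [← h2, ← h3, fr.h21] at this
    simp only [hb.add_left, hb.add_right, hb.smul_left, hb.smul_right, fr'.h11, fr'.h12, fr'.h21,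
      fr'.h22] at this
    linear_combination this
  have E4 : b * s + d * t = 1 := by
    have := hg u₂ w₂
    rw [← h2, ← h4, fr.h22] at this
    simp only [hb.add_left, hb.add_right, hb.smul_left, hb.smul_right, fr'.h11, fr'.h12, fr'.h21,
      fr'.h22] at this
    linear_combination this
  have hΔ : (a * d - b * c) * (p * t - r * s) = 1 := by
    linear_combination (b * s + d * t) * E1 + E4 - (b * p + d * r) * E2
  have hp : p * (a * d - b * c) = d := by linear_combination d * E1 - c * E3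
  have hr : r * (a * d - b * c) = -b := by linear_combination a * E3 - b * E1
  have hs : s * (a * d - b * c) = -c := by linear_combination d * E2 - c * E4
  have ht : t * (a * d - b * c) = a := by linear_combination a * E4 - b * E2
  rcases f3_cases hq (a * d - b * c) with h0 | h0 | h0
  · rw [h0, zero_mul] at hΔ
    exact absurd hΔ zero_ne_one
  · left
    rw [h0, mul_one] at hp hr hs ht
    rw [hp, hr] at h3
    rw [hs, ht] at h4
    constructor
    · apply mulVec_mem_of_span_pair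
      · exact Submodule.mem_span_pair.mpr ⟨a, c, by rw [Matrix.mulVec_add, ← h1, ← h4]; module⟩
      · exact Submodule.mem_span_pair.mpr ⟨b, d, by rw [Matrix.mulVec_sub, ← h2, ← h3]; module⟩
    · apply mulVec_mem_of_span_pair
      · exact Submodule.mem_span_pair.mpr ⟨a, c, by rw [Matrix.mulVec_sub, ← h1, ← h4]; module⟩
      · exact Submodule.mem_span_pair.mpr ⟨b, d, by rw [Matrix.mulVec_add, ← h2, ← h3]; module⟩
  · right
    rw [h0] at hp hr hs ht
    have hp' : p = -d := by linear_combination -hp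
    have hr' : r = b := by linear_combination -hr
    have hs' : s = c := by linear_combination -hs
    have ht' : t = -a := by linear_combination -ht
    rw [hp', hr'] at h3
    rw [hs', ht'] at h4
    constructor
    · apply mulVec_mem_of_span_pair
      · exact Submodule.mem_span_pair.mpr ⟨a, c, by rw [Matrix.mulVec_add, ← h1, ← h4]; module⟩
      · exact Submodule.mem_span_pair.mpr ⟨b, d, by rw [Matrix.mulVec_sub, ← h2, ← h3]; module⟩
    · apply mulVec_mem_of_span_pair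
      · exact Submodule.mem_span_pair.mpr ⟨a, c, by rw [Matrix.mulVec_sub, ← h1, ← h4]; module⟩
      · exact Submodule.mem_span_pair.mpr ⟨b, d, by rw [Matrix.mulVec_add, ← h2, ← h3]; module⟩

/-! ### the new decomposition -/

theorem orth_span_pair {f : (ι → F) → (ι → F) → F} (hb : IsBilinearForm f) {y₁ y₂ x₁ x₂ : ι → F}
    (h11 : f y₁ x₁ = 0) (h12 : f y₁ x₂ = 0) (h21 : f y₂ x₁ = 0) (h22 : f y₂ x₂ = 0) :
    AreOrthogonalFor f (Submodule.span F {y₁, y₂}) (Submodule.span F {x₁, x₂}) := by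
  intro u hu v hv
  obtain ⟨a, b, rfl⟩ := Submodule.mem_span_pair.mp hu
  obtain ⟨c, d, rfl⟩ := Submodule.mem_span_pair.mp hv
  simp only [hb.add_left, hb.add_right, hb.smul_left, hb.smul_right, h11, h12, h21, h22, mul_zero, add_zero]

theorem newDecomp [Fintype F] (hq : Fintype.card F = 3) {f : (ι → F) → (ι → F) → F} (hf : IsSymplecticForm f)
    (hι : Fintype.card ι = 4) {A B : Submodule F (ι → F)} (htA : IsTotallySingularFor f A)
    (htB : IsTotallySingularFor f B) {u₁ u₂ w₁ w₂ : ι → F} (fr : Frame f A B u₁ u₂ w₁ w₂) :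
    IsNondegenerateMDecomposition f 2 ![Yp u₁ u₂ w₁ w₂, Xp u₁ u₂ w₁ w₂] := by
  have hb := hf.bilinear
  have hB : ∀ u v, f u v = toB hb u v := fun u v => rfl
  have h2 : (2 : F) ≠ 0 := f3_two_ne hq
  have a12 : f u₁ u₂ = 0 := htA u₁ fr.hu₁ u₂ fr.hu₂
  have a21 : f u₂ u₁ = 0 := htA u₂ fr.hu₂ u₁ fr.hu₁
  have a11 : f u₁ u₁ = 0 := hf.alternating u₁
  have a22 : f u₂ u₂ = 0 := hf.alternating u₂
  have b12 : f w₁ w₂ = 0 := htB w₁ fr.hw₁ w₂ fr.hw₂
  have b21 : f w₂ w₁ = 0 := htB w₂ fr.hw₂ w₁ fr.hw₁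
  have b11 : f w₁ w₁ = 0 := hf.alternating w₁
  have b22 : f w₂ w₂ = 0 := hf.alternating w₂
  have c11 : f w₁ u₁ = -1 := by rw [hf.skew, fr.h11]
  have c12 : f w₂ u₁ = 0 := by rw [hf.skew, fr.h12, neg_zero]
  have c21 : f w₁ u₂ = 0 := by rw [hf.skew, fr.h21, neg_zero]
  have c22 : f w₂ u₂ = -1 := by rw [hf.skew, fr.h22]
  have gY : f (u₁ + w₂) (u₂ - w₁) = -2 := by
    rw [hB]
    simp only [map_add, map_sub, LinearMap.add_apply, LinearMap.sub_apply, ← hB]
    rw [a12, fr.h11, c22, b21]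
    norm_num
  have gX : f (u₁ - w₂) (u₂ + w₁) = 2 := by
    rw [hB]
    simp only [map_add, map_sub, LinearMap.add_apply, LinearMap.sub_apply, ← hB]
    rw [a12, fr.h11, c22, b21]
    norm_num
  have o11 : f (u₁ + w₂) (u₁ - w₂) = 0 := by
    rw [hB]
    simp only [map_add, map_sub, LinearMap.add_apply, LinearMap.sub_apply, ← hB]
    rw [a11, fr.h12, c12, b22]
    norm_num
  have o12 : f (u₁ + w₂) (u₂ + w₁) = 0 := by
    rw [hB]
    simp only [map_add, map_sub, LinearMap.add_apply, LinearMap.sub_apply, ← hB]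
    rw [a12, fr.h11, c22, b21]
    norm_num
  have o21 : f (u₂ - w₁) (u₁ - w₂) = 0 := by
    rw [hB]
    simp only [map_add, map_sub, LinearMap.add_apply, LinearMap.sub_apply, ← hB]
    rw [a21, fr.h22, c11, b12]
    norm_num
  have o22 : f (u₂ - w₁) (u₂ + w₁) = 0 := by
    rw [hB]
    simp only [map_add, map_sub, LinearMap.add_apply, LinearMap.sub_apply, ← hB]
    rw [a22, fr.h21, c21, b11]
    norm_num
  have gY0 : f (u₁ + w₂) (u₂ - w₁) ≠ 0 := by
    rw [gY]
    exact neg_ne_zero.mpr h2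
  have gX0 : f (u₁ - w₂) (u₂ + w₁) ≠ 0 := by
    rw [gX]
    exact h2
  have ndY : IsNondegenerateOn f (Yp u₁ u₂ w₁ w₂) := nondegOn_span_pair hf gY0
  have ndX : IsNondegenerateOn f (Xp u₁ u₂ w₁ w₂) := nondegOn_span_pair hf gX0
  have fY : Module.finrank F (Yp u₁ u₂ w₁ w₂) = 2 := finrank_span_pair hf gY0
  have fX : Module.finrank F (Xp u₁ u₂ w₁ w₂) = 2 := finrank_span_pair hf gX0
  have oYX : AreOrthogonalFor f (Yp u₁ u₂ w₁ w₂) (Xp u₁ u₂ w₁ w₂) := orth_span_pair hb o11 o12 o21 o22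
  have oXY : AreOrthogonalFor f (Xp u₁ u₂ w₁ w₂) (Yp u₁ u₂ w₁ w₂) := by
    intro u hu v hv
    rw [hf.skew, oYX v hv u hu, neg_zero]
  have hdisj : Disjoint (Yp u₁ u₂ w₁ w₂) (Xp u₁ u₂ w₁ w₂) := by
    rw [Submodule.disjoint_def]
    intro x hxY hxX
    by_contra hx0
    obtain ⟨⟨z, hz, hzx⟩, _⟩ := ndY x hxY hx0
    exact hzx (oYX z hz x hxX)
  have htop : Yp u₁ u₂ w₁ w₂ ⊔ Xp u₁ u₂ w₁ w₂ = ⊤ := by
    apply Submodule.eq_top_of_finrank_eq
    have h1 := Submodule.finrank_sup_add_finrank_inf_eq (Yp u₁ u₂ w₁ w₂) (Xp u₁ u₂ w₁ w₂)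
    rw [disjoint_iff.mp hdisj, finrank_bot, fY, fX, add_zero] at h1
    rw [h1, Module.finrank_fintype_fun_eq_card, hι]
  refine ⟨⟨le_refl 2, by norm_num, ?_, ?_, ?_⟩, ?_, ?_⟩
  · intro i
    fin_cases i
    · exact fY
    · exact fX
  · rw [iSupIndep_pair (i := (0 : Fin 2)) (j := 1) (by decide) (by decide)]
    exact hdisj
  · rw [eq_top_iff, ← htop]
    exact sup_le (le_iSup ![Yp u₁ u₂ w₁ w₂, Xp u₁ u₂ w₁ w₂] 0) (le_iSup ![Yp u₁ u₂ w₁ w₂, Xp u₁ u₂ w₁ w₂] 1)
  · intro i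
    fin_cases i
    · exact ndY
    · exact ndX
  · intro i j hij
    fin_cases i <;> fin_cases j
    · exact absurd rfl hij
    · exact oYX
    · exact oXY
    · exact absurd rfl hij

/-- an invertible matrix mapping each member of an equidimensional family into a member lies in the stabiliser -/
theorem mem_stab_of_maps {D' : Fin 2 → Submodule F (ι → F)} {m : ℕ}
    (hfin : ∀ i, Module.finrank F (D' i) = m) (g : GL ι F) (σ : Equiv.Perm (Fin 2))
    (h : ∀ i, ∀ x ∈ D' i, (g : Matrix ι ι F) *ᵥ x ∈ D' (σ i)) : g ∈ decompositionStabilizer D' := by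
  refine ⟨σ, fun i => ?_⟩
  have hginj : Function.Injective (Matrix.toLin' (g : Matrix ι ι F)) := by
    intro v w hvw
    have := congrArg (Matrix.toLin' ((g⁻¹ : GL ι F) : Matrix ι ι F)) hvw
    rw [Matrix.toLin'_apply, Matrix.toLin'_apply, Matrix.toLin'_apply, Matrix.toLin'_apply,
      Matrix.mulVec_mulVec, Matrix.mulVec_mulVec, ← Units.val_mul, inv_mul_cancel, Units.val_one,
      Matrix.one_mulVec, Matrix.one_mulVec] at this
    exact this
  apply Submodule.eq_of_le_of_finrank_eq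
  · rw [Submodule.map_le_iff_le_comap]
    intro x hx
    rw [Submodule.mem_comap, Matrix.toLin'_apply]
    exact h i x hx
  · rw [hfin (σ i), ← hfin i]
    exact (Submodule.equivMapOfInjective _ hginj (D' i)).finrank_eq.symm

/-- **(C)** `Sp_4(3)`: the stabiliser of a pair of complementary totally singular planes stabilises a pair of
orthogonal non-degenerate planes. -/
theorem ts_pair_three {F : Type*} [Field F] [Fintype F] (hq : Fintype.card F = 3)
    (D : Fin 2 → Submodule F (Fin 2 ⊕ Fin 2 → F)) (hD : Cfsg.Geo.IsMDecomposition 2 D)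
    (hts : ∀ i, Cfsg.Geo.IsTotallySingularFor (Cfsg.sympForm 2 F) (D i)) :
    ∃ D' : Fin 2 → Submodule F (Fin 2 ⊕ Fin 2 → F),
      Cfsg.Geo.IsNondegenerateMDecomposition (Cfsg.sympForm 2 F) 2 D' ∧
        Cfsg.Geo.decompositionStabilizer D ⊓ Cfsg.spGL 2 F ≤ Cfsg.Geo.decompositionStabilizer D' := by
  have hf : IsSymplecticForm (sympForm 2 F) := Cfsg.Agent.Helper8.SpEven.isSymplecticForm_sympForm 2
  have hc := Cfsg.Agent.Helper8.SpEven.isCompl_of_decomp hD
  obtain ⟨u₁, u₂, w₁, w₂, fr⟩ := exists_frame hf hc (hD.finrank_eq 0) (hts 0) (hts 1)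
  have hnd := newDecomp hq hf (by simp) (hts 0) (hts 1) fr
  refine ⟨_, hnd, ?_⟩
  rintro g ⟨⟨σ, hσ⟩, hg2⟩
  have hg : ∀ u v, sympForm 2 F ((g : Matrix _ _ F) *ᵥ u) ((g : Matrix _ _ F) *ᵥ v) = sympForm 2 F u v :=
    Cfsg.Agent.Helper8.SpEven.mem_spGL_iff.mp hg2
  have hmap : ∀ i, ∀ x ∈ D i, (g : Matrix _ _ F) *ᵥ x ∈ D (σ i) := by
    intro i x hx
    rw [← hσ i]
    exact ⟨x, hx, Matrix.toLin'_apply _ _⟩
  have hfin : ∀ i, Module.finrank F ((![Yp u₁ u₂ w₁ w₂, Xp u₁ u₂ w₁ w₂] : Fin 2 → Submodule F _) i) = 2 :=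
    hnd.decomp.finrank_eq
  have h01 : ∀ x : Fin 2, x = 0 ∨ x = 1 := by decide
  have hfinal : ((∀ x ∈ Yp u₁ u₂ w₁ w₂, (g : Matrix _ _ F) *ᵥ x ∈ Yp u₁ u₂ w₁ w₂) ∧
        (∀ x ∈ Xp u₁ u₂ w₁ w₂, (g : Matrix _ _ F) *ᵥ x ∈ Xp u₁ u₂ w₁ w₂)) ∨
      ((∀ x ∈ Yp u₁ u₂ w₁ w₂, (g : Matrix _ _ F) *ᵥ x ∈ Xp u₁ u₂ w₁ w₂) ∧
        (∀ x ∈ Xp u₁ u₂ w₁ w₂, (g : Matrix _ _ F) *ᵥ x ∈ Yp u₁ u₂ w₁ w₂)) := by
    rcases h01 (σ 0) with h0 | h0
    · have h1 : σ 1 = 1 := by
        rcases h01 (σ 1) with h1 | h1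
        · exact absurd (σ.injective (h1.trans h0.symm)) (by decide)
        · exact h1
      refine core hq hf.bilinear fr fr _ hg ?_ ?_
      · intro x hx
        have := hmap 0 x hx
        rwa [h0] at this
      · intro x hx
        have := hmap 1 x hx
        rwa [h1] at this
    · have h1 : σ 1 = 0 := by
        rcases h01 (σ 1) with h1 | h1
        · exact h1
        · exact absurd (σ.injective (h1.trans h0.symm)) (by decide)
      have := core hq hf.bilinear fr (fr.swap hf) _ hg (by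
        intro x hx
        have := hmap 0 x hx
        rwa [h0] at this) (by
        intro x hx
        have := hmap 1 x hx
        rwa [h1] at this)
      rw [Yp_swap, Xp_swap] at this
      exact this
  rcases hfinal with ⟨hY, hX⟩ | ⟨hY, hX⟩
  · refine mem_stab_of_maps hfin g (Equiv.refl _) ?_
    intro i
    fin_cases i
    · exact hY
    · exact hX
  · refine mem_stab_of_maps hfin g (Equiv.swap 0 1) ?_
    intro i
    fin_cases i
    · exact hY
    · exact hX

end Cfsg.Agent.Helper2.AschSp4
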