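import Mathlib
import Cfsg.Prelude.Def_GeometricClasses
import Cfsg.Agent.Helper2.AschTrB

/-!
# Transport of class-6 data along `g ↦ P (glReindex e.symm g) P⁻¹` (helper2; piece TW of helper6's Sp_8 slot F2)

`tw e P R₀` is the shape of `tensorWreathSubgroup`: `tensorWreathSubgroup m t e P = tw e P (tensorWreathStandard m t F)`
by `rfl`.
-/

set_option autoImplicit false
set_option linter.unusedSectionVars false

namespace Cfsg.Agent.Helper2.AschTW

open Cfsg Cfsg.Geo Cfsg.Agent.Helper2.AschTr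
open scoped MatrixGroups Matrix

variable {ι X : Type} [Fintype ι] [DecidableEq ι] [Fintype X] [DecidableEq X] {F : Type*} [Field F]

/-- `P (R₀ transported along e) P⁻¹`: the shape of `tensorWreathSubgroup` -/
def tw (e : ι ≃ X) (P : GL ι F) (R₀ : Subgroup (GL X F)) : Subgroup (GL ι F) :=
  (R₀.map (glReindex e.symm).toMonoidHom).map (MulAut.conj P).toMonoidHom

theorem mem_tw (e : ι ≃ X) (P : GL ι F) (R₀ : Subgroup (GL X F)) (g : GL ι F) :
    g ∈ tw e P R₀ ↔ ∃ r ∈ R₀, g = P * glReindex e.symm r * P⁻¹ := by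
  unfold tw
  constructor
  · rintro ⟨h, ⟨r, hr, rfl⟩, rfl⟩
    exact ⟨r, hr, rfl⟩
  · rintro ⟨r, hr, rfl⟩
    exact ⟨glReindex e.symm r, ⟨r, hr, rfl⟩, rfl⟩

/-- the isomorphism `r ↦ P (glReindex e.symm r) P⁻¹` -/
noncomputable def twEquiv (e : ι ≃ X) (P : GL ι F) (R₀ : Subgroup (GL X F)) : R₀ ≃* tw e P R₀ :=
  ((glReindex e.symm : GL X F ≃* GL ι F).subgroupMap R₀).trans
    ((MulAut.conj P : GL ι F ≃* GL ι F).subgroupMap (R₀.map (glReindex e.symm).toMonoidHom))

theorem twEquiv_val (e : ι ≃ X) (P : GL ι F) (R₀ : Subgroup (GL X F)) (r : R₀) :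
    ((twEquiv e P R₀ r : tw e P R₀) : GL ι F) = P * glReindex e.symm (r : GL X F) * P⁻¹ := rfl

/-- the action: `P (glReindex e.symm r) P⁻¹` maps `P (x ∘ e)` to `P ((r x) ∘ e)` -/
theorem tw_mulVec (e : ι ≃ X) (P : GL ι F) (r : GL X F) (x : X → F) :
    ((P * glReindex e.symm r * P⁻¹ : GL ι F) : Matrix ι ι F) *ᵥ ((P : Matrix ι ι F) *ᵥ (x ∘ e)) =
      (P : Matrix ι ι F) *ᵥ (((r : Matrix X X F) *ᵥ x) ∘ e) := by
  have h1 : ((glReindex e.symm r : GL ι F) : Matrix ι ι F) *ᵥ (x ∘ e) = ((r : Matrix X X F) *ᵥ x) ∘ e :=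
    mulVec_th_symm e.symm r x
  have h2 : ((P * glReindex e.symm r * P⁻¹ : GL ι F) : Matrix ι ι F) * (P : Matrix ι ι F) =
      (P : Matrix ι ι F) * ((glReindex e.symm r : GL ι F) : Matrix ι ι F) := by
    rw [← Units.val_mul, ← Units.val_mul, inv_mul_cancel_right]
  rw [Matrix.mulVec_mulVec, h2, ← Matrix.mulVec_mulVec, h1]

/-- every vector is `P (x ∘ e)` -/
theorem exists_eq_mulVec_comp (e : ι ≃ X) (P : GL ι F) (u : ι → F) :
    ∃ x : X → F, u = (P : Matrix ι ι F) *ᵥ (x ∘ e) := by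
  refine ⟨(((P⁻¹ : GL ι F) : Matrix ι ι F) *ᵥ u) ∘ e.symm, ?_⟩
  have : ((((P⁻¹ : GL ι F) : Matrix ι ι F) *ᵥ u) ∘ e.symm) ∘ e = ((P⁻¹ : GL ι F) : Matrix ι ι F) *ᵥ u := by
    funext i
    simp
  rw [this, Matrix.mulVec_mulVec, ← Units.val_mul, mul_inv_cancel, Units.val_one, Matrix.one_mulVec]

/-- the linear isomorphism `x ↦ P (x ∘ e)` -/
theorem mulVec_comp_injective (e : ι ≃ X) (P : GL ι F) {x y : X → F}
    (h : (P : Matrix ι ι F) *ᵥ (x ∘ e) = (P : Matrix ι ι F) *ᵥ (y ∘ e)) : x = y := by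
  have h1 := congrArg (fun v => ((P⁻¹ : GL ι F) : Matrix ι ι F) *ᵥ v) h
  simp only [Matrix.mulVec_mulVec, ← Units.val_mul, inv_mul_cancel, Units.val_one, Matrix.one_mulVec] at h1
  funext k
  have := congrFun h1 (e.symm k)
  simpa using this

/-- `x ↦ P (x ∘ e)` as a linear map -/
def twL (e : ι ≃ X) (P : GL ι F) : (X → F) →ₗ[F] (ι → F) :=
  (Matrix.toLin' (P : Matrix ι ι F)).comp (thL e.symm.symm)

theorem twL_apply (e : ι ≃ X) (P : GL ι F) (x : X → F) : twL e P x = (P : Matrix ι ι F) *ᵥ (x ∘ e) := by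
  unfold twL
  rw [LinearMap.comp_apply, Matrix.toLin'_apply]
  rfl

theorem absIrred_tw (e : ι ≃ X) (P : GL ι F) {R₀ : Subgroup (GL X F)}
    (h : ActsAbsolutelyIrreducibly (matrixSet R₀)) : ActsAbsolutelyIrreducibly (matrixSet (tw e P R₀)) := by
  constructor
  · intro W hW
    have hinv : ∀ s ∈ matrixSet R₀, (W.comap (twL e P)).map (Matrix.toLin' s) ≤ W.comap (twL e P) := by
      rintro _ ⟨r, hr, rfl⟩ _ ⟨x, hx, rfl⟩
      have hx' : twL e P x ∈ W := hx
      show twL e P (Matrix.toLin' (r : Matrix X X F) x) ∈ W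
      rw [Matrix.toLin'_apply, twL_apply, ← tw_mulVec]
      have hm : ((P * glReindex e.symm r * P⁻¹ : GL ι F) : Matrix ι ι F) ∈ matrixSet (tw e P R₀) :=
        ⟨_, (mem_tw e P R₀ _).mpr ⟨r, hr, rfl⟩, rfl⟩
      apply hW _ hm
      refine ⟨twL e P x, hx', ?_⟩
      rw [Matrix.toLin'_apply, twL_apply]
    rcases h.1 _ hinv with h0 | h1
    · left
      rw [eq_bot_iff]
      intro w hw
      obtain ⟨x, rfl⟩ := exists_eq_mulVec_comp e P w
      have : x ∈ W.comap (twL e P) := by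
        rw [Submodule.mem_comap, twL_apply]; exact hw
      rw [h0, Submodule.mem_bot] at this
      rw [this, Submodule.mem_bot]
      have : ((0 : X → F) ∘ e) = (0 : ι → F) := rfl
      rw [this, Matrix.mulVec_zero]
    · right
      rw [eq_top_iff]
      intro w _
      obtain ⟨x, rfl⟩ := exists_eq_mulVec_comp e P w
      have : x ∈ W.comap (twL e P) := by rw [h1]; trivial
      rwa [Submodule.mem_comap, twL_apply] at this
  · intro M hM
    obtain ⟨N, hN⟩ : ∃ N : Matrix ι ι F, N = ((P⁻¹ : GL ι F) : Matrix ι ι F) * M * (P : Matrix ι ι F) := ⟨_, rfl⟩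
    have hMN : M = (P : Matrix ι ι F) * N * ((P⁻¹ : GL ι F) : Matrix ι ι F) := by
      rw [hN]
      simp only [Matrix.mul_assoc]
      rw [← Units.val_mul, mul_inv_cancel, Units.val_one, Matrix.mul_one, ← Matrix.mul_assoc, ← Units.val_mul,
        mul_inv_cancel, Units.val_one, Matrix.one_mul]
    have hcomm : ∀ s ∈ matrixSet R₀, N.submatrix e.symm e.symm * s = s * N.submatrix e.symm e.symm := by
      rintro _ ⟨r, hr, rfl⟩
      have hm : ((P * glReindex e.symm r * P⁻¹ : GL ι F) : Matrix ι ι F) ∈ matrixSet (tw e P R₀) :=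
        ⟨_, (mem_tw e P R₀ _).mpr ⟨r, hr, rfl⟩, rfl⟩
      have h1 := hM _ hm
      have h2 : N * ((glReindex e.symm r : GL ι F) : Matrix ι ι F) =
          ((glReindex e.symm r : GL ι F) : Matrix ι ι F) * N := by
        have h3 := congrArg (fun A => ((P⁻¹ : GL ι F) : Matrix ι ι F) * A * (P : Matrix ι ι F)) h1
        simp only [Units.val_mul, Matrix.mul_assoc] at h3
        rw [hN]
        have e1 : ((P⁻¹ : GL ι F) : Matrix ι ι F) * (P : Matrix ι ι F) = 1 := by
          rw [← Units.val_mul, inv_mul_cancel, Units.val_one]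
        simp only [Matrix.mul_assoc]
        rw [e1, Matrix.mul_one] at h3
        rw [← Matrix.mul_assoc ((P⁻¹ : GL ι F) : Matrix ι ι F) (P : Matrix ι ι F), e1, Matrix.one_mul] at h3
        exact h3
      have h4 : (N * ((glReindex e.symm r : GL ι F) : Matrix ι ι F)).submatrix e.symm e.symm =
          (((glReindex e.symm r : GL ι F) : Matrix ι ι F) * N).submatrix e.symm e.symm := by rw [h2]
      rw [← Matrix.submatrix_mul_equiv _ _ e.symm e.symm e.symm, ← Matrix.submatrix_mul_equiv _ _ e.symm e.symm e.symm]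
        at h4
      have h5 : ((glReindex e.symm r : GL ι F) : Matrix ι ι F).submatrix e.symm e.symm = (r : Matrix X X F) := by
        rw [glReindex_val]
        ext i j
        simp
      rw [h5] at h4
      exact h4
    obtain ⟨c, hc⟩ := h.2 _ hcomm
    refine ⟨c, ?_⟩
    have hN1 : N = c • (1 : Matrix ι ι F) := by
      ext i j
      have := congrFun (congrFun hc (e i)) (e j)
      simp only [Matrix.submatrix_apply, Equiv.symm_apply_apply, Matrix.smul_apply, Matrix.one_apply,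
        EmbeddingLike.apply_eq_iff_eq] at this
      simp only [Matrix.smul_apply, Matrix.one_apply]
      exact this
    rw [hMN, hN1, Matrix.mul_smul, Matrix.mul_one, Matrix.smul_mul, ← Units.val_mul, mul_inv_cancel, Units.val_one]

theorem fixesForm_tw (e : ι ≃ X) (P : GL ι F) {R₀ : Subgroup (GL X F)} (f : (ι → F) → (ι → F) → F)
    (h : ∀ r ∈ R₀, ∀ x y : X → F,
      f ((P : Matrix ι ι F) *ᵥ (((r : Matrix X X F) *ᵥ x) ∘ e)) ((P : Matrix ι ι F) *ᵥ (((r : Matrix X X F) *ᵥ y) ∘ e)) =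
        f ((P : Matrix ι ι F) *ᵥ (x ∘ e)) ((P : Matrix ι ι F) *ᵥ (y ∘ e))) :
    FixesForm (matrixSet (tw e P R₀)) f := by
  rintro _ ⟨g, hg, rfl⟩ u v
  obtain ⟨r, hr, rfl⟩ := (mem_tw e P R₀ g).mp hg
  obtain ⟨x, rfl⟩ := exists_eq_mulVec_comp e P u
  obtain ⟨y, rfl⟩ := exists_eq_mulVec_comp e P v
  rw [tw_mulVec, tw_mulVec]
  exact h r hr x y

theorem tw_le_normalizer (e : ι ≃ X) (P : GL ι F) {H₀ R₀ : Subgroup (GL X F)}
    (h : H₀ ≤ Subgroup.normalizer (R₀ : Set (GL X F))) : tw e P H₀ ≤ subgroupNormalizer (tw e P R₀) := by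
  intro g hg
  obtain ⟨a, ha, rfl⟩ := (mem_tw e P H₀ g).mp hg
  have hna := h ha
  unfold subgroupNormalizer
  rw [Subgroup.mem_normalizer_iff]
  intro k
  have key : ∀ b : GL X F, (P * glReindex e.symm a * P⁻¹) * (P * glReindex e.symm b * P⁻¹) *
      (P * glReindex e.symm a * P⁻¹)⁻¹ = P * glReindex e.symm (a * b * a⁻¹) * P⁻¹ := by
    intro b
    rw [map_mul, map_mul, map_inv]
    group
  constructor
  · intro hk
    obtain ⟨b, hb, rfl⟩ := (mem_tw e P R₀ k).mp hk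
    rw [key]
    exact (mem_tw e P R₀ _).mpr ⟨a * b * a⁻¹, (Subgroup.mem_normalizer_iff.mp hna b).mp hb, rfl⟩
  · intro hk
    obtain ⟨c, hc, hc'⟩ := (mem_tw e P R₀ _).mp hk
    -- k = g⁻¹ (P c' P⁻¹) g
    have hk2 : k = P * glReindex e.symm (a⁻¹ * c * a) * P⁻¹ := by
      have : k = (P * glReindex e.symm a * P⁻¹)⁻¹ * ((P * glReindex e.symm a * P⁻¹) * k *
          (P * glReindex e.symm a * P⁻¹)⁻¹) * (P * glReindex e.symm a * P⁻¹) := by group
      rw [this, hc', map_mul, map_mul, map_inv]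
      group
    rw [hk2]
    refine (mem_tw e P R₀ _).mpr ⟨a⁻¹ * c * a, ?_, rfl⟩
    have h6 := (Subgroup.mem_normalizer_iff.mp hna (a⁻¹ * c * a)).mpr
    apply h6
    have : a * (a⁻¹ * c * a) * a⁻¹ = c := by group
    rw [this]
    exact hc

end Cfsg.Agent.Helper2.AschTW
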