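import Mathlib
import Cfsg.Prelude
import Cfsg.Agent.Helper2.BG1412i
import Cfsg.Agent.Helper2.BG144e
import Cfsg.Agent.Helper2.BG148b
import Cfsg.Agent.Helper3.BG16T
import Cfsg.Agent.Helper4.BG15M
import Cfsg.Agent.Helper4.BG12d
import Cfsg.Agent.Helper4.BG10e
import Cfsg.Agent.S1420
import Cfsg.Agent.Helper4.BG14P5
import Cfsg.Agent.Helper1.BG15P2a

set_option autoImplicit false
set_option maxHeartbeats 800000
set_option linter.unusedSectionVars false
set_option linter.style.haveILetI false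

/-!
Toward S1376 (BG Corollary 15.9): from a bad element `x ∈ M_σ` with `N ⊇ C_G(x)` of type `𝒫`
to the situation `Setup N K U N* M r R` of BG Lemma 14.12 with `r ∈ τ₂(N)`.
-/

namespace Cfsg.Agent.Helper2.BG159

open Cfsg Cfsg.Agent.Helper2.BG1412 Cfsg.Agent.Helper2.BG144
open scoped Pointwise

universe u

variable {G : Type u} [Group G] [Finite G]

/-- conjugation preserves cardinality -/
theorem card_map_conj (H : Subgroup G) (g : G) :
    Nat.card ↥(H.map (MulAut.conj g).toMonoidHom) = Nat.card H :=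
  Subgroup.card_map_of_injective (MulAut.conj g).injective

/-- a full-order `r`-subgroup of a group of `r`-rank at least 2 is not cyclic -/
theorem not_isCyclic_of_not_pRankLE_one {N S : Subgroup G} {r : ℕ} [hr : Fact r.Prime]
    (h : ¬ Cfsg.PRankLE r 1 ↥N) (hSN : S ≤ N)
    (hScard : Nat.card S = r ^ (Nat.card N).factorization r) : ¬ IsCyclic ↥S := by
  intro hc
  apply h
  have hcard' : Nat.card ↥(S.subgroupOf N) = r ^ (Nat.card ↥N).factorization r := by
    rw [Cfsg.Agent.Lead.card_subgroupOf_of_le hSN]; exact hScard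
  apply Cfsg.Agent.Helper1.BGU.pRankLE_of_sylow (Sylow.ofCard (S.subgroupOf N) hcard')
  rw [Sylow.coe_ofCard]
  exact Cfsg.Agent.Helper2.pRankLE_of_injective r 1
    (Subgroup.subgroupOfEquivOfLe hSN).toMonoidHom (Subgroup.subgroupOfEquivOfLe hSN).injective
    (Cfsg.Agent.Helper1.BGU.pRankLE_one_of_isCyclic hc r)


/-- **Set-up for BG Corollary 15.9.**  A bad element `x ∈ M_σ` whose centralizer lies in a maximal
subgroup `N` with `κ(N) ≠ ∅` puts `(N, M)` in the situation of BG Lemma 14.12, with a prime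
`r ∈ τ₂(N) ∩ σ(M)`. -/
theorem exists_setup (hG : Cfsg.IsMinSimpleOddOrder G) {M N : Subgroup G} (hM : IsCoatom M)
    {x : G} (hx : x ∈ Cfsg.sigmaCore M) (hx1 : x ≠ 1)
    (hbad : ¬ Subgroup.centralizer ({x} : Set G) ≤ M) (hN : IsCoatom N)
    (hxN : Subgroup.centralizer ({x} : Set G) ≤ N) (hκ : (Cfsg.kappa N).Nonempty) :
    ∃ (K U Ms Rg : Subgroup G) (r : ℕ), Setup N K U Ms M r Rg ∧ r ∈ Cfsg.tau2 N ∧
      r ∈ Cfsg.sigma M := by
  classical
  obtain ⟨N', d'⟩ := exists_badData hG hM hx hx1 hbad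
  have hNN : N = N' := unique_of_badData hG hM hx hx1 hbad d' N hN hxN
  have d : BadData M N x := hNN ▸ d'
  haveI hsolvN : Group.IsSolvable ↥N := hG.2.2.2 N hN.1
  -- a standard factorisation of `N`
  obtain ⟨K₀, U₀, hKU₀⟩ := Cfsg.Agent.Helper4.BG15.exists_sigmaDecomposition hG hN
  -- the prime `r`
  have hord : orderOf x ≠ 1 := by rwa [Ne, orderOf_eq_one_iff]
  obtain ⟨r, hr, hrx⟩ := Nat.exists_prime_and_dvd hord
  haveI : Fact r.Prime := ⟨hr⟩
  have hrτ : r ∈ Cfsg.tau2 N := mem_tau2_of_dvd_orderOf hG hM hx hbad d hr hrx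
  have hrσM : r ∈ Cfsg.sigma M :=
    Cfsg.Agent.Lead.BG12.mem_sigma_of_dvd_card_sigmaCore hr
      (hrx.trans (Subgroup.orderOf_dvd_natCard _ hx))
  have hrκ : r ∉ Cfsg.kappa N := fun h =>
    hrτ.2.2.2 (Cfsg.Agent.Helper4.BG14.pRankLE_one_of_mem_kappa h)
  -- a Sylow `r`-subgroup of `M ∩ N`
  obtain ⟨Rg, -, hRgD, hRgr, hRgcard⟩ := Cfsg.Agent.Lead.exists_le_card_eq_ppart (p := r)
    (H := M ⊓ N) (U := ⊥) IsPGroup.of_bot bot_le
  have hfac : (Nat.card ↥(M ⊓ N)).factorization r = (Nat.card N).factorization r :=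
    Cfsg.Agent.Helper4.BG10.factorization_compl_eq d.compl hr hrτ.2.1
  rw [hfac] at hRgcard
  have hRgN : Rg ≤ N := hRgD.trans inf_le_right
  have hRgM : Rg ≤ M := hRgD.trans inf_le_left
  have hRgnc : ¬ IsCyclic ↥Rg := not_isCyclic_of_not_pRankLE_one hrτ.2.2.2 hRgN hRgcard
  -- conjugate the factorisation so that `Rg ≤ U`
  have hU₀hall := Cfsg.Agent.Helper1.BG15P2.decomp_U_hall hG hN hKU₀
  obtain ⟨n, hn, hRgU⟩ := Cfsg.Agent.Helper2.BG148.exists_conj_hall_ge hsolvN hU₀hall hRgN (by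
    intro t ht htd
    obtain ⟨k, hk⟩ := IsPGroup.iff_card.mp hRgr
    rw [hk] at htd
    have hte : t = r := (Nat.prime_dvd_prime_iff_eq ht hr).mp (ht.dvd_of_dvd_pow htd)
    rw [hte]
    exact ⟨hr, hrκ, hrτ.2.1⟩)
  obtain ⟨K, hKdef⟩ : ∃ K, K = K₀.map (MulAut.conj n).toMonoidHom := ⟨_, rfl⟩
  obtain ⟨U, hUdef⟩ : ∃ U, U = U₀.map (MulAut.conj n).toMonoidHom := ⟨_, rfl⟩
  have hKU : Cfsg.IsSigmaDecomposition N K U := by
    rw [hKdef, hUdef]; exact Cfsg.Agent.Helper3.BG16T.isSigmaDecomposition_conj hKU₀ hn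
  rw [← hUdef] at hRgU
  have hK1 : K ≠ ⊥ := Cfsg.Agent.Helper4.BG15.decomp_K_ne_bot_of_kappa hKU hκ
  obtain ⟨hU1, -, -⟩ := factorisation_of_badData hG hM hx hx1 hbad d hKU
  -- `M*`
  obtain ⟨Ms, f⟩ := Cfsg.Agent.Helper2.BG148.exists_fam hG hN hKU.hall hK1
  -- `Rg` has the full `r`-part of `U`
  have hRg1 : Rg ≠ ⊥ := fun h => hRgnc (by rw [h]; exact isCyclic_of_subsingleton)
  have hUcard : (Nat.card U).factorization r = (Nat.card N).factorization r := by
    apply le_antisymm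
    · exact (Nat.factorization_le_iff_dvd Nat.card_pos.ne' Nat.card_pos.ne').2
        (Subgroup.card_dvd_of_le hKU.compl.1) r
    · have h1 : r ^ (Nat.card N).factorization r ∣ Nat.card U := by
        rw [← hRgcard]; exact Subgroup.card_dvd_of_le hRgU
      exact (hr.pow_dvd_iff_le_factorization Nat.card_pos.ne').1 h1
  -- `N_G(Rg) ≤ M`
  obtain ⟨E, hE, -⟩ := Cfsg.Agent.Helper4.BG10.exists_compl_sigmaCore_ge hG hM (U := ⊥) bot_le (by
    intro t ht hd
    rw [Subgroup.card_bot] at hd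
    exact absurd (Nat.dvd_one.mp hd) ht.one_lt.ne')
  have hNR : Subgroup.normalizer (Rg : Set G) ≤ M :=
    (Cfsg.Agent.S1420.result hG M hM E hE).2.2.1 r Rg hrσM hRgr hRgM hRgnc
  exact ⟨K, U, Ms, Rg, r,
    ⟨hN, hKU, hK1, hU1, f.emb.coatom, f.emb.K_eq, f.emb.hall, hM, hr, hRgU, hRgr,
      by rw [hRgcard, hUcard], hRg1, hNR⟩, hrτ, hrσM⟩

end Cfsg.Agent.Helper2.BG159
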