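import Mathlib
import Cfsg.Prelude
import Cfsg.Agent.Helper2.BG159a
import Cfsg.Agent.Helper3.BG144b
import Cfsg.Agent.Helper1.BG147l
import Cfsg.Agent.Helper1.Coprime
import Cfsg.Agent.S1352
import Cfsg.Agent.S1351
import Cfsg.Agent.S1365

set_option autoImplicit false
set_option maxHeartbeats 800000
set_option linter.unusedSectionVars false
set_option linter.style.haveILetI false

/-!
Toward S1376 (BG Corollary 15.9), cyclicity of the complement `E = H ∩ M*`, first steps: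
regularity of `E` on `H_σ` from `τ₂(H) = ∅`, `N_G(K) = C_G(K)`, and `E ≤ C_G(K)`.
-/

namespace Cfsg.Agent.Helper2.BG1412

open Cfsg Cfsg.Agent.Helper2.BG159 Cfsg.Agent.Helper1.BG147
open scoped Pointwise commutatorElement

universe u

variable {G : Type u} [Group G] [Finite G]

variable {M K U Ms H : Subgroup G} {r : ℕ} {Rg : Subgroup G}

/-- `E = H ∩ M*` is a complement of `H_σ` in `H`. -/
theorem Setup.compl (hG : Cfsg.IsMinSimpleOddOrder G) (s : Setup M K U Ms H r Rg) :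
    Cfsg.IsComplIn (H ⊓ Ms) (Cfsg.sigmaCore H) H := (s.main hG).2.2.2.2.2

/-- primes of `E` are not in `σ(H)` -/
theorem Setup.not_mem_sigma (hG : Cfsg.IsMinSimpleOddOrder G) (s : Setup M K U Ms H r Rg)
    {t : ℕ} (ht : t.Prime) (hd : t ∣ Nat.card ↥(H ⊓ Ms)) : t ∉ Cfsg.sigma H :=
  Cfsg.Agent.Helper4.BG12.not_mem_sigma_of_dvd_card_compl hG s.hH (s.compl hG) ht hd

/-- If `τ₂(H) = ∅` then `H` has `t`-rank one for every prime `t` dividing `|E|`. -/
theorem Setup.pRankLE_one (hG : Cfsg.IsMinSimpleOddOrder G) (s : Setup M K U Ms H r Rg)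
    (hτ : Cfsg.tau2 H = ∅) {t : ℕ} (ht : t.Prime) (hd : t ∣ Nat.card ↥(H ⊓ Ms)) :
    Cfsg.PRankLE t 1 ↥H := by
  have htσ := s.not_mem_sigma hG ht hd
  by_contra h1
  by_cases h2 : Cfsg.PRankLE t 2 ↥H
  · have : t ∈ Cfsg.tau2 H := ⟨ht, htσ, h2, h1⟩
    rw [hτ] at this
    exact this
  · exact htσ (Cfsg.Agent.Helper1.BGX.alpha_subset_sigma hG s.hH ⟨ht, h2⟩)

/-- **Regularity**: if `τ₂(H) = ∅` then no non-identity element of `E` centralizes a non-identity
element of `H_σ`. -/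
theorem Setup.regular (hG : Cfsg.IsMinSimpleOddOrder G) (s : Setup M K U Ms H r Rg)
    (hτ : Cfsg.tau2 H = ∅) :
    ∀ e ∈ H ⊓ Ms, e ≠ 1 → Cfsg.sigmaCore H ⊓ Subgroup.centralizer ({e} : Set G) = ⊥ := by
  intro e he he1
  rw [eq_bot_iff]
  rintro y ⟨hy, hyC⟩
  rw [Subgroup.mem_bot]
  by_contra hy1
  have hord : orderOf e ≠ 1 := by rwa [Ne, orderOf_eq_one_iff]
  obtain ⟨t, ht, hte⟩ := Nat.exists_prime_and_dvd hord
  haveI : Fact t.Prime := ⟨ht⟩
  have hord0 : orderOf e ≠ 0 := (orderOf_pos e).ne'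
  set e' : G := e ^ (orderOf e / t) with he'
  have he'ord : orderOf e' = t := orderOf_pow_orderOf_div hord0 hte
  have he'E : e' ∈ H ⊓ Ms := Subgroup.pow_mem _ he _
  have htE : t ∣ Nat.card ↥(H ⊓ Ms) := by
    rw [← he'ord]; exact Subgroup.orderOf_dvd_natCard _ he'E
  have htσ := s.not_mem_sigma hG ht htE
  have hey : e * y = y * e := by
    have := Subgroup.mem_centralizer_iff.mp hyC e (Set.mem_singleton e)
    exact this
  have he'y : e' * y = y * e' := by
    have hc : Commute e y := hey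
    exact (hc.pow_left _)
  rcases Cfsg.Agent.Helper3.BG144.mem_kappa_or_tau2 hG s.hH hy hy1 htσ he'E.1 he'ord he'y with h | h
  · rw [s.kappa_empty hG] at h; exact h
  · rw [hτ] at h; exact h

/-- every `t`-subgroup of `E` is cyclic (when `τ₂(H) = ∅`) -/
theorem Setup.isCyclic_of_isPGroup (hG : Cfsg.IsMinSimpleOddOrder G) (s : Setup M K U Ms H r Rg)
    (hτ : Cfsg.tau2 H = ∅) {t : ℕ} [ht : Fact t.Prime] {W : Subgroup G} (hW : W ≤ H ⊓ Ms)
    (hWt : IsPGroup t ↥W) : IsCyclic ↥W := by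
  by_cases hW1 : W = ⊥
  · rw [hW1]; exact isCyclic_of_subsingleton
  · have hd : t ∣ Nat.card ↥(H ⊓ Ms) :=
      (Cfsg.Agent.Helper1.BGV.dvd_card_of_isPGroup_ne_bot hWt hW1).trans
        (Subgroup.card_dvd_of_le hW)
    exact Cfsg.Agent.Lead.BG12.isCyclic_of_pRankLE_one hG.1 (s.pRankLE_one hG hτ ht.out hd)
      (hW.trans inf_le_left) hWt

end Cfsg.Agent.Helper2.BG1412
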