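import Mathlib
import Cfsg.Prelude
import Cfsg.Agent.Helper2.BG159b
import Cfsg.Agent.Helper4.BG15N

set_option autoImplicit false
set_option maxHeartbeats 800000
set_option linter.unusedSectionVars false
set_option linter.style.haveILetI false

/-!
Toward S1376 (BG Corollary 15.9): `N_G(K) = C_G(K)` for the subgroup `K` of prime order of a
maximal subgroup of type `P₂`.
-/

namespace Cfsg.Agent.Helper2.BG1412

open Cfsg Cfsg.Agent.Helper2.BG159 Cfsg.Agent.Helper1.BG147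
open scoped Pointwise commutatorElement

universe u

section general

variable {G : Type u} [Group G]

/-- an element normalizing `⟨k⟩` (finite order) conjugates `k` to a power of `k` -/
theorem exists_pow_of_mem_normalizer_zpowers {k n : G} (hk : IsOfFinOrder k)
    (hn : n ∈ Subgroup.normalizer ((Subgroup.zpowers k : Subgroup G) : Set G)) :
    ∃ i : ℕ, n * k * n⁻¹ = k ^ i := by
  have h1 : n * k * n⁻¹ ∈ Subgroup.zpowers k :=
    (Subgroup.mem_normalizer_iff.mp hn k).mp (Subgroup.mem_zpowers k)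
  rw [← hk.mem_powers_iff_mem_zpowers] at h1
  obtain ⟨i, hi⟩ := h1
  exact ⟨i, hi.symm⟩

theorem conj_pow_eq {k n : G} {i : ℕ} (h : n * k * n⁻¹ = k ^ i) (m : ℕ) :
    n * k ^ m * n⁻¹ = k ^ (i * m) := by
  rw [← conj_pow, h, ← pow_mul]

/-- commutators of elements normalizing a finite cyclic subgroup centralize it -/
theorem commutator_mem_centralizer_zpowers {k a b : G} (hk : IsOfFinOrder k)
    (ha : a ∈ Subgroup.normalizer ((Subgroup.zpowers k : Subgroup G) : Set G))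
    (hb : b ∈ Subgroup.normalizer ((Subgroup.zpowers k : Subgroup G) : Set G)) :
    ⁅a, b⁆ ∈ Subgroup.centralizer ((Subgroup.zpowers k : Subgroup G) : Set G) := by
  obtain ⟨i, hi⟩ := exists_pow_of_mem_normalizer_zpowers hk ha
  obtain ⟨j, hj⟩ := exists_pow_of_mem_normalizer_zpowers hk hb
  obtain ⟨i', hi'⟩ := exists_pow_of_mem_normalizer_zpowers hk (Subgroup.inv_mem _ ha)
  obtain ⟨j', hj'⟩ := exists_pow_of_mem_normalizer_zpowers hk (Subgroup.inv_mem _ hb)
  rw [inv_inv] at hi' hj'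
  -- `k ^ (i * i') = k`, `k ^ (j * j') = k`
  have hii : k ^ (i * i') = k := by
    have := conj_pow_eq hi i'
    rw [← hi'] at this
    rw [← this]; group
  have hjj : k ^ (j * j') = k := by
    have := conj_pow_eq hj j'
    rw [← hj'] at this
    rw [← this]; group
  have key : ⁅a, b⁆ * k * ⁅a, b⁆⁻¹ = k := by
    have e1 : ⁅a, b⁆ * k * ⁅a, b⁆⁻¹ = a * (b * (a⁻¹ * (b⁻¹ * k * b) * a) * b⁻¹) * a⁻¹ := by
      rw [commutatorElement_def]; group
    rw [e1, hj']
    have e2 : a⁻¹ * k ^ j' * a = k ^ (i' * j') := by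
      have := conj_pow_eq (n := a⁻¹) (by rw [inv_inv]; exact hi') j'
      rwa [inv_inv] at this
    rw [e2, conj_pow_eq hj, conj_pow_eq hi]
    have e3 : i * (j * (i' * j')) = (i * i') * (j * j') := by ring
    rw [e3, pow_mul, hii, hjj]
  rw [Subgroup.mem_centralizer_iff]
  intro x hx
  obtain ⟨m, rfl⟩ := Subgroup.mem_zpowers_iff.mp hx
  have hc : Commute ⁅a, b⁆ k := by
    have : ⁅a, b⁆ * k = k * ⁅a, b⁆ := by
      calc ⁅a, b⁆ * k = (⁅a, b⁆ * k * ⁅a, b⁆⁻¹) * ⁅a, b⁆ := by group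
        _ = k * ⁅a, b⁆ := by rw [key]
    exact this
  exact ((hc.zpow_right m).eq).symm

end general

variable {G : Type u} [Group G] [Finite G]

variable {M K U Ms H : Subgroup G} {r : ℕ} {Rg : Subgroup G}

/-- **`N_G(K) = C_G(K)`.** -/
theorem Setup.normalizer_K_le (hG : Cfsg.IsMinSimpleOddOrder G) (s : Setup M K U Ms H r Rg) :
    Subgroup.normalizer (K : Set G) ≤ Subgroup.centralizer (K : Set G) := by
  classical
  have hp := s.card_prime hG
  have P := s.P hG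
  have Ps := s.Ps hG
  obtain ⟨Ks, hKs⟩ : ∃ Ks, Ks = Cfsg.sigmaCore M ⊓ Subgroup.centralizer (K : Set G) := ⟨_, rfl⟩
  have hKsH : Cfsg.IsPiHallOf (Cfsg.kappa Ms) Ks Ms := hKs ▸ s.hKstH
  have hKs1 : Ks ≠ ⊥ := hKs ▸ P.kstar_ne
  have hKst : K = Cfsg.sigmaCore Ms ⊓ Subgroup.centralizer (Ks : Set G) := hKs ▸ s.hKst
  have PsK : P142 Ms Ks := hKs ▸ Ps
  -- `N(K) ≤ M*`
  have hKtop : K ≠ ⊤ := Cfsg.Agent.Helper1.BG147.ne_top_of_le_coatom s.hMs s.K_le_Ms
  have hNK : Subgroup.normalizer (K : Set G) ≤ Ms :=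
    normalizer_le_of_uniq hG s.hK1 hKtop
      (fun L hL hC => (PsK.uniq K (by rw [← hKst]) hp).2 L hL hC)
  -- the generator of `K`
  obtain ⟨k, hkK, hk1, -, hKz⟩ := exists_gen_of_card_prime hp
  have hkfin : IsOfFinOrder k := isOfFinOrder_of_finite k
  -- a standard factorisation of `M*`
  obtain ⟨-, hcyc⟩ := Cfsg.Agent.S1351.result hG Ms s.hMs
  have hKsc : IsCyclic ↥Ks := hcyc _ hKsH
  obtain ⟨⟨Us, hKUs⟩, hnorm⟩ := Cfsg.Agent.S1352.result hG Ms s.hMs Ks hKsc hKsH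
  obtain ⟨D, hD⟩ : ∃ D, D = Us ⊔ Cfsg.sigmaCore Ms := ⟨_, rfl⟩
  have hDn : Ms ≤ Subgroup.normalizer (D : Set G) := hD ▸ hnorm Us hKUs
  have hσMs : Cfsg.sigmaCore Ms ≤ Ms := Cfsg.Agent.Lead.BG12.sigmaCore_le
  have hUsMs : Us ≤ Ms := hKUs.compl.1
  have hKsMs : Ks ≤ Ms := hKsH.1
  have hDMs : D ≤ Ms := hD ▸ sup_le hUsMs hσMs
  have hσn : Ms ≤ Subgroup.normalizer ((Cfsg.sigmaCore Ms : Subgroup G) : Set G) :=
    Cfsg.Agent.Lead.BG12.le_normalizer_sigmaCore Ms
  -- `|K*|` is coprime to `|D|`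
  have hDcard : Nat.card D = Nat.card Us * Nat.card (Cfsg.sigmaCore Ms) := by
    rw [hD, sup_comm]
    exact Cfsg.Agent.Helper1.card_sup_of_le_normalizer (hUsMs.trans hσn)
      (Cfsg.Agent.Helper4.BG15.decomp_U_inf_sigmaCore hKUs)
  have hcopD : (Nat.card Ks).Coprime (Nat.card D) := by
    apply Nat.coprime_of_dvd
    intro t ht h1 h2
    have htκ : t ∈ Cfsg.kappa Ms := hKsH.2.1 t ht h1
    rw [hDcard] at h2
    rcases (Nat.Prime.dvd_mul ht).mp h2 with h | h
    · exact (Cfsg.Agent.Helper4.BG15.decomp_U_primes hG s.hMs hKUs ht h).2 htκ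
    · exact htκ.2.2.1 (Cfsg.Agent.Lead.BG12.mem_sigma_of_dvd_card_sigmaCore ht h)
  have hKsD : Ks ⊓ D = ⊥ := (Subgroup.disjoint_of_coprime_natCard hcopD).eq_bot
  -- `K* ≤ C(K) ≤ N(K)`
  have hKsC : Ks ≤ Subgroup.centralizer (K : Set G) := hKs ▸ inf_le_right
  have hKsN : Ks ≤ Subgroup.normalizer (K : Set G) :=
    hKsC.trans (Subgroup.centralizer_le_normalizer _)
  have hKcomm : K ≤ Subgroup.centralizer (K : Set G) := by
    intro a ha
    rw [Subgroup.mem_centralizer_iff]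
    intro b hb
    haveI := s.hKU.cyclic
    have := (IsCyclic.isMulCommutative (α := ↥K)).is_comm.comm ⟨b, hb⟩ ⟨a, ha⟩
    exact congrArg Subtype.val this
  -- the subgroup `Y = N(K) ∩ D`
  obtain ⟨Y, hY⟩ : ∃ Y, Y = Subgroup.normalizer (K : Set G) ⊓ D := ⟨_, rfl⟩
  have hKsY : Ks ≤ Subgroup.normalizer (Y : Set G) := by
    rw [hY]
    exact Cfsg.Agent.Helper4.BG15.le_normalizer_inf
      (hKsN.trans Subgroup.le_normalizer) (hKsMs.trans hDn)
  have hcopY : (Nat.card Ks).Coprime (Nat.card Y) :=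
    hcopD.coprime_dvd_right (Subgroup.card_dvd_of_le (hY ▸ inf_le_right))
  have hsplit := Cfsg.Agent.Helper1.coprime_commutator_sup_centralizer Ks Y hKsY hcopY
    (Or.inl (by haveI := hKsc; haveI : IsMulCommutative ↥Ks := IsCyclic.isMulCommutative
                infer_instance))
  have hcommY : ⁅Y, Ks⁆ ≤ Subgroup.centralizer (K : Set G) := by
    rw [Subgroup.commutator_le]
    intro y hy c hc
    rw [hY] at hy
    have h1 := commutator_mem_centralizer_zpowers hkfin (a := y) (b := c)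
      (by rw [← hKz]; exact hy.1) (by rw [← hKz]; exact hKsN hc)
    rwa [← hKz] at h1
  have hfixY : Y ⊓ Subgroup.centralizer (Ks : Set G) ≤ K := by
    rintro y ⟨hyY, hyC⟩
    rw [hY] at hyY
    obtain ⟨⟨c₀, hc₀⟩, hc₀1⟩ := (Subgroup.ne_bot_iff_exists_ne_one).1 hKs1
    have hc₀1' : c₀ ≠ 1 := fun h => hc₀1 (Subtype.ext h)
    have hZ := inf_centralizer_eq_Z hKsH PsK hKsc hc₀ hc₀1'
    rw [← hKst] at hZ
    have hyZ : y ∈ K ⊔ Ks := by
      rw [sup_comm, ← hZ]
      refine ⟨hDMs hyY.2, Subgroup.mem_centralizer_iff.mpr ?_⟩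
      intro z hz
      rw [Set.mem_singleton_iff] at hz
      subst hz
      exact Subgroup.mem_centralizer_iff.mp hyC z hc₀
    obtain ⟨n, hn, c, hc, rfl⟩ := Cfsg.Agent.Helper1.mem_sup_of_le_normalizer hKsN hyZ
    have hnD : n ∈ D := by
      rw [hD]; exact Subgroup.mem_sup_right (s.K_le_sigmaCore hn)
    have hcD : c ∈ D := by
      have : c = n⁻¹ * (n * c) := by group
      rw [this]; exact D.mul_mem (D.inv_mem hnD) hyY.2
    have hc1 : c = 1 := by
      have : c ∈ Ks ⊓ D := ⟨hc, hcD⟩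
      rwa [hKsD, Subgroup.mem_bot] at this
    rw [hc1, mul_one]; exact hn
  have hYC : Y ≤ Subgroup.centralizer (K : Set G) := by
    rw [← hsplit]
    exact sup_le hcommY (hfixY.trans hKcomm)
  -- conclusion
  intro n hn
  have hnMs : n ∈ Ms := hNK hn
  obtain ⟨u, hu, b, hb, rfl⟩ := hKUs.compl.2.2.2 n hnMs
  rw [sup_comm] at hb
  obtain ⟨σ, hσ, c, hc, rfl⟩ := Cfsg.Agent.Helper1.mem_sup_of_le_normalizer
    (hKsMs.trans hσn) hb
  have hdD : u * σ ∈ D := by
    rw [hD]; exact Subgroup.mul_mem _ (Subgroup.mem_sup_left hu) (Subgroup.mem_sup_right hσ)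
  have hdN : u * σ ∈ Subgroup.normalizer (K : Set G) := by
    have : u * σ = (u * (σ * c)) * c⁻¹ := by group
    rw [this]
    exact Subgroup.mul_mem _ hn (Subgroup.inv_mem _ (hKsN hc))
  have hdY : u * σ ∈ Y := by rw [hY]; exact ⟨hdN, hdD⟩
  have : u * (σ * c) = (u * σ) * c := by group
  rw [this]
  exact Subgroup.mul_mem _ (hYC hdY) (hKsC hc)

end Cfsg.Agent.Helper2.BG1412
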