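import Mathlib
import Cfsg.Prelude
import Cfsg.Agent.Helper2.BG159c
import Cfsg.Agent.Helper1.BGVc

set_option autoImplicit false
set_option maxHeartbeats 800000
set_option linter.unusedSectionVars false
set_option linter.style.haveILetI false

/-!
Toward S1376 (BG Corollary 15.9): `E = H ∩ M*` centralizes `K`.
-/

namespace Cfsg.Agent.Helper2.BG1412

open Cfsg Cfsg.Agent.Helper2.BG159 Cfsg.Agent.Helper1.BG147
open scoped Pointwise commutatorElement

universe u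

variable {G : Type u} [Group G] [Finite G]

variable {M K U Ms H : Subgroup G} {r : ℕ} {Rg : Subgroup G}

/-- `K ≤ E`. -/
theorem Setup.K_le_E (hG : Cfsg.IsMinSimpleOddOrder G) (s : Setup M K U Ms H r Rg) :
    K ≤ H ⊓ Ms := le_inf (s.K_le_H hG) s.K_le_Ms

/-- **`E ≤ C_G(K)`** (when `τ₂(H) = ∅`). -/
theorem Setup.E_le_centralizer (hG : Cfsg.IsMinSimpleOddOrder G) (s : Setup M K U Ms H r Rg)
    (hτ : Cfsg.tau2 H = ∅) :
    H ⊓ Ms ≤ Subgroup.centralizer (K : Set G) := by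
  have hp := s.card_prime hG
  haveI : Fact (Nat.card K).Prime := ⟨hp⟩
  have hKF : K ≤ Cfsg.fittingOf (H ⊓ Ms) := (s.main hG).2.2.2.2.1
  have hKO : K ≤ Cfsg.Agent.Helper1.BGV.pcoreOf (Nat.card K) (H ⊓ Ms) :=
    Cfsg.Agent.Helper1.BGV.le_pCoreOf_of_le_fittingOf s.isPGroup hKF
  have hOc : IsCyclic ↥(Cfsg.Agent.Helper1.BGV.pcoreOf (Nat.card K) (H ⊓ Ms)) :=
    s.isCyclic_of_isPGroup hG hτ (Cfsg.Agent.Helper1.BGV.pCoreOf_le _ _)
      (Cfsg.Agent.Helper1.BGV.pCoreOf_isPGroup _ _)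
  have h1 : H ⊓ Ms ≤ Subgroup.normalizer (K : Set G) :=
    (Subgroup.le_normalizer.trans
      (Cfsg.Agent.Helper1.BGV.normalizer_le_normalizer_pcoreOf (Nat.card K) (H ⊓ Ms))).trans
      (Cfsg.Agent.Lead.BG12.normalizer_le_normalizer_of_isCyclic hOc hKO)
  exact h1.trans (s.normalizer_K_le hG)

end Cfsg.Agent.Helper2.BG1412
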