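import Mathlib
import Cfsg.Prelude
import Cfsg.Agent.Helper2.BG159d
import Cfsg.Agent.Helper1.BG1011
import Cfsg.Agent.Lead.BG108d
import Cfsg.Agent.Helper1.SylowInt
import Cfsg.Agent.Helper2.ZasOddD
import Cfsg.Agent.Helper4.BG10a

set_option autoImplicit false
set_option maxHeartbeats 800000
set_option linter.unusedSectionVars false
set_option linter.style.haveILetI false

/-!
Toward S1376 (BG Corollary 15.9): a regular complement `E` of `H_σ` in `H` with cyclic Sylow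
subgroups is cyclic, as soon as some prime of `σ(H)` is not in `β(H)`.
-/

namespace Cfsg.Agent.Helper2.BG159

open Cfsg
open scoped Pointwise commutatorElement

universe u

variable {G : Type u} [Group G] [Finite G]

/-- a prime dividing the order of an element of `H ∩ H^g` (`g ∉ H`) is not in `β(H)` -/
theorem not_mem_beta_of_bad (hG : Cfsg.IsMinSimpleOddOrder G) {H : Subgroup G} (hH : IsCoatom H)
    {x : G} (hxH : x ∈ H) (hbad : ¬ Subgroup.centralizer ({x} : Set G) ≤ H) {q : ℕ}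
    (hqx : q ∣ orderOf x) : q ∉ Cfsg.beta H := by
  intro hβ
  obtain ⟨g, hgC, hgH⟩ := SetLike.not_le_iff_exists.mp hbad
  refine Cfsg.Agent.Helper4.BG10.not_dvd_card_inf_conj_of_mem_beta hG hH hβ hgH ?_
  have hxg : x ∈ H ⊓ H.map (MulAut.conj g).toMonoidHom := by
    refine ⟨hxH, x, hxH, ?_⟩
    have h1 := Subgroup.mem_centralizer_iff.mp hgC x (Set.mem_singleton x)
    show g * x * g⁻¹ = x
    rw [← h1]; group
  exact hqx.trans (Subgroup.orderOf_dvd_natCard _ hxg)

/-- **Cyclicity of a regular complement.** -/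
theorem isCyclic_compl_of_regular (hG : Cfsg.IsMinSimpleOddOrder G) {H E : Subgroup G}
    (hH : IsCoatom H) (hE : Cfsg.IsComplIn E (Cfsg.sigmaCore H) H)
    (hreg : ∀ e ∈ E, e ≠ 1 → Cfsg.sigmaCore H ⊓ Subgroup.centralizer ({e} : Set G) = ⊥)
    (hsyl : ∀ (t : ℕ) [Fact t.Prime] (W : Subgroup G), W ≤ E → IsPGroup t ↥W → IsCyclic ↥W)
    {q : ℕ} (hq : q.Prime) (hqd : q ∣ Nat.card ↥(Cfsg.sigmaCore H)) (hqβ : q ∉ Cfsg.beta H) :
    IsCyclic ↥E := by
  classical
  haveI : Fact q.Prime := ⟨hq⟩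
  have hσH : Cfsg.sigmaCore H ≤ H := Cfsg.Agent.Lead.BG12.sigmaCore_le
  have hσn : H ≤ Subgroup.normalizer ((Cfsg.sigmaCore H : Subgroup G) : Set G) :=
    Cfsg.Agent.Lead.BG12.le_normalizer_sigmaCore H
  have hEH : E ≤ H := hE.1
  have hqσ : q ∈ Cfsg.sigma H := Cfsg.Agent.Lead.BG12.mem_sigma_of_dvd_card_sigmaCore hq hqd
  have hcop : (Nat.card E).Coprime (Nat.card (Cfsg.sigmaCore H)) := by
    apply Nat.coprime_of_dvd
    intro t ht h1 h2
    exact Cfsg.Agent.Helper4.BG12.not_mem_sigma_of_dvd_card_compl hG hH hE ht h1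
      (Cfsg.Agent.Lead.BG12.mem_sigma_of_dvd_card_sigmaCore ht h2)
  have hqE : ¬ q ∣ Nat.card E := fun h =>
    Cfsg.Agent.Helper4.BG12.not_mem_sigma_of_dvd_card_compl hG hH hE hq h hqσ
  have hsolH : Group.IsSolvable ↥H := hG.2.2.2 H hH.1
  have hsolE : Group.IsSolvable ↥E :=
    Group.isSolvable_of_isSolvable_injective (Subgroup.inclusion_injective hEH)
  have hoddE : Odd (Nat.card ↥E) := Odd.of_dvd_nat hG.1 (Subgroup.card_subgroup_dvd_card E)
  have hq2 : q ≠ 2 := by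
    rintro rfl
    have h2 : 2 ∣ Nat.card G := hqd.trans (Subgroup.card_subgroup_dvd_card _)
    obtain ⟨t, ht⟩ := hG.1
    omega
  -- an `E`-invariant Sylow `q`-subgroup of `H_σ`
  obtain ⟨P, hP⟩ := Cfsg.Agent.Helper1.exists_invariant_sylow (p := q) E (Cfsg.sigmaCore H)
    (hEH.trans hσn) hcop (Or.inl hsolE)
  obtain ⟨P₁, hP₁⟩ : ∃ P₁ : Subgroup G, P₁ = (P : Subgroup _).map (Cfsg.sigmaCore H).subtype :=
    ⟨_, rfl⟩
  rw [← hP₁] at hP
  have hP₁σ : P₁ ≤ Cfsg.sigmaCore H := hP₁ ▸ Subgroup.map_subtype_le _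
  have hP₁q : IsPGroup q ↥P₁ := hP₁ ▸ P.isPGroup'.map _
  have hP₁card : Nat.card ↥P₁ = q ^ (Nat.card ↥(Cfsg.sigmaCore H)).factorization q := by
    rw [hP₁, Subgroup.card_map_of_injective (Subgroup.subtype_injective _)]
    exact P.card_eq_multiplicity
  have hfac : (Nat.card ↥H).factorization q = (Nat.card ↥(Cfsg.sigmaCore H)).factorization q := by
    rw [← Cfsg.Agent.Helper1.IsComplIn_card_mul hE,
      Nat.factorization_mul Nat.card_pos.ne' Nat.card_pos.ne', Finsupp.add_apply,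
      Nat.factorization_eq_zero_of_not_dvd hqE, zero_add]
  have hP₁1 : P₁ ≠ ⊥ := by
    intro h
    rw [h, Subgroup.card_bot] at hP₁card
    have h0 : (Nat.card ↥(Cfsg.sigmaCore H)).factorization q = 0 := by
      by_contra hne
      have : 1 < q ^ (Nat.card ↥(Cfsg.sigmaCore H)).factorization q :=
        Nat.one_lt_pow hne hq.one_lt
      omega
    have h1 : 0 < (Nat.card ↥(Cfsg.sigmaCore H)).factorization q :=
      hq.factorization_pos_of_dvd Nat.card_pos.ne' hqd
    omega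
  -- `P₁` is narrow
  have hnarrow : Cfsg.IsNarrow q ↥P₁ := by
    by_cases hr : Cfsg.PRankLE q 2 ↥H
    · exact Or.inl (Cfsg.Agent.Helper6.Narrow.pRankLE_of_injective
        (Subgroup.inclusion (hP₁σ.trans hσH)) (Subgroup.inclusion_injective _) hr)
    · obtain ⟨S, hS⟩ := Cfsg.Agent.Lead.BG108.exists_sylow_isNarrow hG hH ⟨hq, hr⟩ hqβ
      have hcardS : Nat.card ↥(P₁.subgroupOf H) = q ^ (Nat.card ↥H).factorization q := by
        rw [Nat.card_congr (Subgroup.subgroupOfEquivOfLe (hP₁σ.trans hσH)).toEquiv, hfac]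
        exact hP₁card
      let S' : Sylow q ↥H := Sylow.ofCard (P₁.subgroupOf H) hcardS
      obtain ⟨g, hg⟩ := MulAction.exists_smul_eq ↥H S S'
      have e1 : ↥(S : Subgroup ↥H) ≃* ↥((g • S : Sylow q ↥H) : Subgroup ↥H) := Sylow.equivSMul S g
      rw [hg] at e1
      have e2 : ↥(P₁.subgroupOf H) ≃* ↥P₁ := Subgroup.subgroupOfEquivOfLe (hP₁σ.trans hσH)
      exact Cfsg.Agent.Lead.BG108.isNarrow_of_mulEquiv (e1.trans e2) hS
  -- the derived subgroup of `E` centralizes `P₁`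
  have hkey := Cfsg.Agent.Helper1.BG1011.narrow_commutator_coprime_le_centralizer hq2 P₁ E hP₁q
    hnarrow hP hsolE hoddE
  have hcomm : ∀ a ∈ E, ∀ b ∈ E, a * b = b * a := by
    intro a ha b hb
    have hz : ⁅a, b⁆ ∈ ⁅E, E⁆ := Subgroup.commutator_mem_commutator ha hb
    have hzE : ⁅a, b⁆ ∈ E := by
      rw [commutatorElement_def]
      exact E.mul_mem (E.mul_mem (E.mul_mem ha hb) (E.inv_mem ha)) (E.inv_mem hb)
    have hzcop : (orderOf ⁅a, b⁆).Coprime q := by
      have h1 : orderOf ⁅a, b⁆ ∣ Nat.card E := Subgroup.orderOf_dvd_natCard _ hzE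
      exact Nat.Coprime.coprime_dvd_left h1 ((Nat.Prime.coprime_iff_not_dvd hq).mpr hqE).symm
    have hzC := hkey _ hz hzcop
    by_contra hab
    have hz1 : ⁅a, b⁆ ≠ 1 := by
      rwa [Ne, commutatorElement_eq_one_iff_mul_comm]
    have hbot := hreg _ hzE hz1
    apply hP₁1
    rw [eq_bot_iff, ← hbot]
    intro y hy
    refine ⟨hP₁σ hy, ?_⟩
    show y ∈ Subgroup.centralizer ({⁅a, b⁆} : Set G)
    rw [Subgroup.mem_centralizer_singleton_iff]
    exact (Subgroup.mem_centralizer_iff.mp hzC y hy)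
  -- conclusion
  haveI : IsZGroup ↥E := by
    refine ⟨fun t ht S => ?_⟩
    haveI : Fact t.Prime := ⟨ht⟩
    have hW : IsCyclic ↥((S : Subgroup ↥E).map E.subtype) :=
      hsyl t _ (Subgroup.map_subtype_le _) (S.isPGroup'.map _)
    have e : ↥(S : Subgroup ↥E) ≃* ↥((S : Subgroup ↥E).map E.subtype) :=
      (S : Subgroup ↥E).equivMapOfInjective E.subtype (Subgroup.subtype_injective _)
    exact isCyclic_of_surjective e.symm.toMonoidHom e.symm.surjective
  exact Cfsg.Agent.Helper2.ZasOdd.isCyclic_of_comm (fun x y =>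
    Subtype.ext (hcomm x.1 x.2 y.1 y.2))

end Cfsg.Agent.Helper2.BG159
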