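import Mathlib
import Cfsg.Prelude
import Cfsg.Agent.Helper2.BG159e
import Cfsg.Agent.Helper4.FrobeniusInternal

set_option autoImplicit false
set_option maxHeartbeats 800000
set_option linter.unusedSectionVars false
set_option linter.style.haveILetI false

/-!
Toward S1376 (BG Corollary 15.9): `H` is a Frobenius group with cyclic complement `E = H ∩ M*`.
-/

namespace Cfsg.Agent.Helper2.BG159

open Cfsg
open scoped Pointwise commutatorElement

universe u

variable {G : Type u} [Group G] [Finite G]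

/-- A nontrivial regular complement of a nontrivial normal subgroup `S` of `H` is a Frobenius
complement in `↥H`. -/
theorem isFrobeniusComplement_of_regular {H S E : Subgroup G}
    (hSn : H ≤ Subgroup.normalizer (S : Set G)) (hE : Cfsg.IsComplIn E S H) (hE1 : E ≠ ⊥)
    (hS1 : S ≠ ⊥)
    (hreg : ∀ e ∈ E, e ≠ 1 → S ⊓ Subgroup.centralizer ({e} : Set G) = ⊥) :
    Cfsg.IsFrobeniusComplement (E.subgroupOf H) := by
  obtain ⟨hEH, hSH, hES, hmul⟩ := hE
  haveI hn : (S.subgroupOf H).Normal := Subgroup.normal_subgroupOf_of_le_normalizer hSn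
  refine (Cfsg.Agent.Helper4.isFrobeniusComplement_of_fpf (S.subgroupOf H) (E.subgroupOf H)
    ?_ ?_ ?_ ?_ ?_).1
  · rw [eq_bot_iff]
    rintro ⟨y, hyH⟩ ⟨h1, h2⟩
    have h1' : y ∈ S := h1
    have h2' : y ∈ E := h2
    have : y ∈ E ⊓ S := ⟨h2', h1'⟩
    rw [hES, Subgroup.mem_bot] at this
    rw [Subgroup.mem_bot]
    exact Subtype.ext this
  · rw [eq_top_iff]
    rintro ⟨m, hm⟩ -
    obtain ⟨a, ha, b, hb, rfl⟩ := hmul m hm
    have h1 : (⟨a, hEH ha⟩ : ↥H) ∈ E.subgroupOf H := by rwa [Subgroup.mem_subgroupOf]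
    have h2 : (⟨b, hSH hb⟩ : ↥H) ∈ S.subgroupOf H := by rwa [Subgroup.mem_subgroupOf]
    have h3 : (⟨a * b, hm⟩ : ↥H) = ⟨a, hEH ha⟩ * ⟨b, hSH hb⟩ := rfl
    rw [h3, sup_comm]
    exact Subgroup.mul_mem_sup h1 h2
  · intro h
    apply hS1
    rw [Subgroup.subgroupOf_eq_bot] at h
    exact (disjoint_of_le_iff_left_eq_bot hSH).mp h
  · intro h
    apply hE1
    rw [Subgroup.subgroupOf_eq_bot] at h
    exact (disjoint_of_le_iff_left_eq_bot hEH).mp h
  · rintro ⟨e, heH⟩ he he1 ⟨n, hnH⟩ hn hcomm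
    rw [Subgroup.mem_subgroupOf] at he hn
    have he1' : e ≠ 1 := fun h => he1 (Subtype.ext h)
    have hc : e * n = n * e := congrArg Subtype.val hcomm
    have : n ∈ S ⊓ Subgroup.centralizer ({e} : Set G) := by
      refine ⟨hn, ?_⟩
      show n ∈ Subgroup.centralizer ({e} : Set G)
      rw [Subgroup.mem_centralizer_singleton_iff]
      exact hc.symm
    rw [hreg e he he1', Subgroup.mem_bot] at this
    exact Subtype.ext this

/-- transfer of cyclicity to `subgroupOf` -/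
theorem isCyclic_subgroupOf {H E : Subgroup G} (hEH : E ≤ H) (hc : IsCyclic ↥E) :
    IsCyclic ↥(E.subgroupOf H) := by
  have e : ↥(E.subgroupOf H) ≃* ↥E := Subgroup.subgroupOfEquivOfLe hEH
  exact isCyclic_of_surjective e.symm.toMonoidHom e.symm.surjective

open Cfsg.Agent.Helper2.BG1412 in
/-- **The Frobenius complement.**  In the situation of `Setup`, if `τ₂(H) = ∅` and some prime of
`σ(H)` lies outside `β(H)`, then `H` is a Frobenius group with cyclic complement `H ∩ M*`. -/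
theorem exists_frobenius_of_setup (hG : Cfsg.IsMinSimpleOddOrder G)
    {M K U Ms H : Subgroup G} {r : ℕ} {Rg : Subgroup G} (s : Setup M K U Ms H r Rg)
    (hτ : Cfsg.tau2 H = ∅) {q : ℕ} (hq : q.Prime) (hqd : q ∣ Nat.card ↥(Cfsg.sigmaCore H))
    (hqβ : q ∉ Cfsg.beta H) :
    ∃ E : Subgroup ↥H, Cfsg.IsFrobeniusComplement E ∧ IsCyclic ↥E := by
  have hcompl := s.compl hG
  have hreg := s.regular hG hτ
  have hcyc : IsCyclic ↥(H ⊓ Ms) :=
    isCyclic_compl_of_regular hG s.hH hcompl hreg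
      (fun t _ W hW hWt => s.isCyclic_of_isPGroup hG hτ hW hWt) hq hqd hqβ
  have hE1 : H ⊓ Ms ≠ ⊥ := by
    intro h
    apply s.hK1
    rw [eq_bot_iff, ← h]
    exact s.K_le_E hG
  have hS1 : Cfsg.sigmaCore H ≠ ⊥ := by
    intro h
    rw [h, Subgroup.card_bot] at hqd
    exact hq.one_lt.ne' (Nat.dvd_one.mp hqd)
  exact ⟨(H ⊓ Ms).subgroupOf H,
    isFrobeniusComplement_of_regular (Cfsg.Agent.Lead.BG12.le_normalizer_sigmaCore H) hcompl hE1
      hS1 hreg,
    isCyclic_subgroupOf inf_le_left hcyc⟩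

end Cfsg.Agent.Helper2.BG159

namespace Cfsg.Agent.Helper2.BG159

open Cfsg
open scoped Pointwise commutatorElement

universe u

variable {G : Type u} [Group G] [Finite G]

open Cfsg.Agent.Helper2.BG1412 in
/-- **BG Corollary 15.9, the Frobenius clause**, modulo the regularity input `τ₂(M) = ∅`. -/
theorem exists_frobenius_of_bad (hG : Cfsg.IsMinSimpleOddOrder G) {M N : Subgroup G}
    (hM : IsCoatom M) {x : G} (hx : x ∈ Cfsg.sigmaCore M) (hx1 : x ≠ 1)
    (hbad : ¬ Subgroup.centralizer ({x} : Set G) ≤ M) (hN : IsCoatom N)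
    (hxN : Subgroup.centralizer ({x} : Set G) ≤ N) (hκ : (Cfsg.kappa N).Nonempty)
    (hR : ∀ (K U Ms Rg : Subgroup G) (r : ℕ), Setup N K U Ms M r Rg → r ∈ Cfsg.tau2 N →
      Cfsg.tau2 M = ∅) :
    ∃ E : Subgroup ↥M, Cfsg.IsFrobeniusComplement E ∧ IsCyclic ↥E := by
  obtain ⟨K, U, Ms, Rg, r, s, hr2, -⟩ := exists_setup hG hM hx hx1 hbad hN hxN hκ
  have hτ := hR K U Ms Rg r s hr2
  have hord : orderOf x ≠ 1 := by rwa [Ne, orderOf_eq_one_iff]
  obtain ⟨q, hq, hqx⟩ := Nat.exists_prime_and_dvd hord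
  have hqd : q ∣ Nat.card ↥(Cfsg.sigmaCore M) :=
    hqx.trans (Subgroup.orderOf_dvd_natCard _ hx)
  have hqβ : q ∉ Cfsg.beta M :=
    not_mem_beta_of_bad hG hM (Cfsg.Agent.Lead.BG12.sigmaCore_le hx) hbad hqx
  exact exists_frobenius_of_setup hG s hτ hq hqd hqβ

end Cfsg.Agent.Helper2.BG159
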