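import Mathlib
import Cfsg.Agent.Helper2.BGU2
import Cfsg.Agent.Helper2.BGGQ

set_option autoImplicit false

/-!
(U2) and (GQ) in the exact forms requested by lead and helper3.
-/

namespace Cfsg.Agent.Helper2.BGU2

open Cfsg
open scoped commutatorElement

universe u

/-- (U2) in lead's form. -/
theorem u2 {G : Type u} [Group G] [Finite G] {p : ℕ} [Fact p.Prime] (hp2 : p ≠ 2) {S : Subgroup G}
    (hS : IsPGroup p ↥S) (hr : ¬ Cfsg.PRankLE p 2 ↥S) {x : G} (hx : x ∈ ⁅S, S⁆) (hxp : x ^ p = 1) :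
    ∃ B : Subgroup G, B ≤ S ∧ B ≤ Subgroup.centralizer ({x} : Set G) ∧
      Cfsg.IsElementaryAbelian p B ∧ p ^ 2 < Nat.card B := by
  obtain ⟨B, hBle, hBE, hBcard⟩ := exists_ea3_inf_centralizer hp2 hS hr hx hxp
  refine ⟨B, hBle.trans inf_le_left, hBle.trans inf_le_right, hBE, ?_⟩
  have hp1 : 1 < p := (Fact.out : p.Prime).one_lt
  have : p ^ 2 < p ^ 3 := Nat.pow_lt_pow_right hp1 (by norm_num)
  omega

/-- (U2) in helper3's form (`HypU2 G`). -/
theorem hypU2 {G : Type u} [Group G] [Finite G] :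
    ∀ (p : ℕ) [Fact p.Prime] (S : Subgroup G), p ≠ 2 → IsPGroup p ↥S → ¬ Cfsg.PRankLE p 2 ↥S →
      ∀ x ∈ ⁅S, S⁆, x ^ p = 1 →
        ¬ Cfsg.PRankLE p 2 ↥(S ⊓ Subgroup.centralizer ({x} : Set G)) := by
  intro p _ S hp2 hS hr x hx hxp
  exact not_pRankLE_two_inf_centralizer hp2 hS hr hx hxp

/-- (GQ) in helper3's form (`HypGQ G`). -/
theorem hypGQ {G : Type u} [Group G] [Finite G] :
    ∀ (p : ℕ) [Fact p.Prime] (Z₀ P₁ K D : Subgroup G), Nat.card Z₀ = p → Z₀ ≤ P₁ →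
      P₁ ≤ Subgroup.centralizer (Z₀ : Set G) → Nat.card P₁ = p ^ 3 → (∀ x ∈ P₁, x ^ p = 1) →
      P₁ ≤ Subgroup.normalizer (K : Set G) → K ≤ Subgroup.centralizer (Z₀ : Set G) →
      ¬ p ∣ Nat.card K →
      (∀ B : Subgroup G, Z₀ ≤ B → B ≤ P₁ → Nat.card B = p ^ 2 →
        K ⊓ Subgroup.centralizer (B : Set G) ≤ D) → K ≤ D := by
  intro p hp Z₀ P₁ K D hZcard hZP hPZ hPcard hPexp hPK hKZ hK hB
  -- work inside `H = K ⊔ P₁` with target `(D ⊓ K) ⊔ Z₀`
  set H := K ⊔ P₁ with hH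
  have hZH : Z₀ ≤ H := hZP.trans le_sup_right
  have hHZ : H ≤ Subgroup.centralizer (Z₀ : Set G) := sup_le hKZ hPZ
  have hHK : H ≤ Subgroup.normalizer (K : Set G) := sup_le Subgroup.le_normalizer hPK
  have hmain : K ≤ (D ⊓ K) ⊔ Z₀ := by
    apply BGGQ.le_of_hyperplanes_mod_center_subgroup (p := p) H Z₀ P₁ K ((D ⊓ K) ⊔ Z₀) hZH hHZ
      le_sup_right le_sup_left hHK hZcard hZP hPcard hPexp hK le_sup_right
    intro B hZB hBP hBcard
    exact (le_inf (hB B hZB.le hBP hBcard) inf_le_left).trans le_sup_left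
  -- `K ∩ Z₀ = 1`
  have hKZ1 : ∀ g : G, g ∈ K → g ∈ Z₀ → g = 1 := by
    intro g hgK hgZ
    have h1 : orderOf g ∣ Nat.card K := Subgroup.orderOf_dvd_natCard K hgK
    have h2 : orderOf g ∣ p := by
      have := Subgroup.orderOf_dvd_natCard Z₀ hgZ
      rwa [hZcard] at this
    rcases (Nat.dvd_prime hp.out).1 h2 with h | h
    · exact orderOf_eq_one_iff.1 h
    · exact absurd (h ▸ h1) hK
  intro k hk
  have hk' := hmain hk
  -- `(D ⊓ K) ⊔ Z₀ = (D ⊓ K) Z₀`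
  have hnorm : Z₀ ≤ Subgroup.normalizer ((D ⊓ K : Subgroup G) : Set G) := by
    intro z hz
    rw [Subgroup.mem_normalizer_iff]
    intro y
    have hzc : ∀ w ∈ K, z * w = w * z := by
      intro w hw
      have := Subgroup.mem_centralizer_iff.1 (hKZ hw) z hz
      exact this
    constructor
    · intro hy
      have : z * y * z⁻¹ = y := by rw [hzc y hy.2, mul_inv_cancel_right]
      rw [this]; exact hy
    · intro hy
      -- `y = z⁻¹ (z y z⁻¹) z` and `z y z⁻¹ ∈ K` commutes with `z`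
      have hyK : z * y * z⁻¹ ∈ K := hy.2
      have h1 : z * (z * y * z⁻¹) = (z * y * z⁻¹) * z := hzc _ hyK
      have h2 : y = z * y * z⁻¹ := by
        have : z * y * z⁻¹ * z = z * y := by group
        rw [this] at h1
        have h3 : z * y * z⁻¹ = y := mul_left_cancel h1
        exact h3.symm
      rw [h2]; exact hy
  rw [← SetLike.mem_coe, Subgroup.coe_mul_of_right_le_normalizer_left (D ⊓ K) Z₀ hnorm,
    Set.mem_mul] at hk'
  obtain ⟨d, hd, z, hz, rfl⟩ := hk'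
  have hz1 : z = 1 := by
    apply hKZ1 z _ hz
    have : z = d⁻¹ * (d * z) := by group
    rw [this]
    exact K.mul_mem (K.inv_mem hd.2) hk
  rw [hz1, mul_one]
  exact hd.1

end Cfsg.Agent.Helper2.BGU2
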