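import Mathlib
import Cfsg.Prelude.Def_Characters
import Cfsg.Agent.Helper6.Expansion

/-!
# Extension of class functions of a Hall subgroup controlling fusion: the `π`-part map
-/

set_option autoImplicit false

namespace Cfsg.Agent.Helper2.BSn

open Cfsg.Agent.Helper6

universe u

variable {G : Type u} [Group G]

/-- The standing hypotheses: `H` of order `m`, index `n` coprime to `m`, exponent `s` picking
out the `π`-part, control of fusion, and elementary subgroups of order dividing `m` conjugate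
into `H`. -/
structure Setup (H : Subgroup G) (m n s : ℕ) : Prop where
  cardH : Nat.card H = m
  cardG : Nat.card G = m * n
  cop : Nat.Coprime m n
  s1 : s ≡ 1 [MOD m]
  s0 : n ∣ s
  fus : ∀ x ∈ H, ∀ y ∈ H, IsConj x y → ∃ h ∈ H, h * x * h⁻¹ = y
  elem : ∀ (E : Subgroup G) (p : ℕ), p.Prime → Cfsg.IsElementary p E → Nat.card E ∣ m →
    ∃ g : G, E.map (MulAut.conj g).toMonoidHom ≤ H

variable {H : Subgroup G} {m n s : ℕ}

theorem Setup.mpos [Finite G] (S : Setup H m n s) : 0 < m := by
  rw [← S.cardH]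
  exact Nat.card_pos

theorem Setup.npos [Finite G] (S : Setup H m n s) : 0 < n := by
  have h1 : 0 < Nat.card G := Nat.card_pos
  rw [S.cardG] at h1
  exact Nat.pos_of_mul_pos_left h1

theorem Setup.pow_card [Finite G] (S : Setup H m n s) (g : G) : g ^ (m * n) = 1 := by
  rw [← S.cardG]
  exact pow_card_eq_one'

theorem Setup.pow_pow [Finite G] (S : Setup H m n s) (g : G) : (g ^ s) ^ m = 1 := by
  obtain ⟨j, hj⟩ := S.s0
  rw [← pow_mul, hj, mul_comm n j, mul_assoc, mul_comm n m, mul_comm j, pow_mul, S.pow_card,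
    one_pow]

theorem Setup.pow_eq_self (S : Setup H m n s) {g : G} (hg : g ^ m = 1) : g ^ s = g := by
  have h1 : g ^ s = g ^ 1 := by
    rw [pow_eq_pow_iff_modEq]
    exact Nat.ModEq.of_dvd (orderOf_dvd_of_pow_eq_one hg) S.s1
  rw [h1, pow_one]

theorem Setup.pow_mem_eq [Finite G] (S : Setup H m n s) {h : G} (hh : h ∈ H) : h ^ s = h := by
  apply S.pow_eq_self
  have h1 : (⟨h, hh⟩ : H) ^ m = 1 := by
    rw [← S.cardH]
    exact pow_card_eq_one'
  have h2 := congrArg (fun x : H => (x : G)) h1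
  simpa using h2

/-- A cyclic group is elementary for any prime not dividing its order. -/
theorem zpowers_isElementary (y : G) {p : ℕ} (hp : p.Prime) (hy : Nat.Coprime (orderOf y) p) :
    Cfsg.IsElementary p (Subgroup.zpowers y) := by
  refine ⟨⟨y, Subgroup.mem_zpowers y⟩, ?_, ?_, 0, ?_⟩
  · rw [Subgroup.mem_center_iff]
    intro g
    obtain ⟨g, ⟨k, rfl⟩⟩ := g
    apply Subtype.ext
    show y ^ k * y = y * y ^ k
    rw [← zpow_add_one, ← zpow_one_add, add_comm]
  · rw [Subgroup.orderOf_mk]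
    exact hy
  · rw [pow_zero, Subgroup.index_eq_one, Subgroup.eq_top_iff']
    intro g
    obtain ⟨g, ⟨k, rfl⟩⟩ := g
    rw [Subgroup.mem_zpowers_iff]
    refine ⟨k, ?_⟩
    apply Subtype.ext
    simp

theorem Setup.exists_conj [Finite G] (S : Setup H m n s) (g : G) :
    ∃ c : G, c * g ^ s * c⁻¹ ∈ H := by
  obtain ⟨p, hpm, hp⟩ := Nat.exists_infinite_primes (m + 1)
  have hord : orderOf (g ^ s) ∣ m := orderOf_dvd_of_pow_eq_one (S.pow_pow g)
  have hcop : Nat.Coprime (orderOf (g ^ s)) p := by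
    rw [Nat.coprime_comm, Nat.Prime.coprime_iff_not_dvd hp]
    intro hd
    have := Nat.le_of_dvd S.mpos (hd.trans hord)
    omega
  have hcard : Nat.card (Subgroup.zpowers (g ^ s)) ∣ m := by
    rw [Nat.card_zpowers]
    exact hord
  obtain ⟨c, hc⟩ := S.elem _ p hp (zpowers_isElementary (g ^ s) hp hcop) hcard
  refine ⟨c, ?_⟩
  apply hc
  rw [Subgroup.mem_map]
  exact ⟨g ^ s, Subgroup.mem_zpowers _, by simp [MulAut.conj_apply]⟩

/-- A representative in `H` of the class of the `π`-part of `g`. -/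
noncomputable def Setup.rep [Finite G] (S : Setup H m n s) (g : G) : H :=
  ⟨(S.exists_conj g).choose * g ^ s * (S.exists_conj g).choose⁻¹, (S.exists_conj g).choose_spec⟩

theorem Setup.rep_isConj [Finite G] (S : Setup H m n s) (g : G) :
    IsConj (g ^ s) (S.rep g : G) :=
  isConj_iff.mpr ⟨(S.exists_conj g).choose, rfl⟩

/-- Control of fusion, in `H`-terms. -/
theorem Setup.isConj_in (S : Setup H m n s) {x y : H} (h : IsConj (x : G) (y : G)) :
    IsConj x y := by
  obtain ⟨k, hk, hkx⟩ := S.fus x x.2 y y.2 h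
  rw [isConj_iff]
  refine ⟨⟨k, hk⟩, ?_⟩
  apply Subtype.ext
  simpa using hkx

theorem Setup.isConj_out {x y : H} (h : IsConj x y) : IsConj (x : G) (y : G) := by
  obtain ⟨k, hk⟩ := isConj_iff.mp h
  rw [isConj_iff]
  refine ⟨(k : G), ?_⟩
  have := congrArg (fun z : H => (z : G)) hk
  simpa using this

/-- The extension of a function on `H` to `G` along the `π`-part map. -/
noncomputable def Setup.tilde [Finite G] (S : Setup H m n s) (θ : H → ℂ) : G → ℂ :=
  fun g => θ (S.rep g)

theorem Setup.tilde_apply [Finite G] (S : Setup H m n s) (θ : H → ℂ) (g : G) :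
    S.tilde θ g = θ (S.rep g) := rfl

theorem Setup.tilde_eq [Finite G] (S : Setup H m n s) {θ : H → ℂ}
    (hθ : Cfsg.IsClassFunction H θ) (g : G) (x : H) (hx : IsConj (g ^ s) (x : G)) :
    S.tilde θ g = θ x := by
  rw [S.tilde_apply]
  apply IsClassFunction.eq_of_isConj hθ
  apply S.isConj_in
  exact (S.rep_isConj g).symm.trans hx

theorem Setup.tilde_mem [Finite G] (S : Setup H m n s) {θ : H → ℂ}
    (hθ : Cfsg.IsClassFunction H θ) (x : H) : S.tilde θ (x : G) = θ x := by
  apply S.tilde_eq hθ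
  rw [S.pow_mem_eq x.2]

theorem Setup.tilde_isClassFunction [Finite G] (S : Setup H m n s) {θ : H → ℂ}
    (hθ : Cfsg.IsClassFunction H θ) : Cfsg.IsClassFunction G (S.tilde θ) := by
  intro g k
  rw [S.tilde_eq hθ (k * g * k⁻¹) (S.rep g)]
  · rfl
  · rw [conj_pow]
    have h1 : IsConj (k * g ^ s * k⁻¹) (g ^ s) := by
      rw [isConj_comm, isConj_iff]
      exact ⟨k, rfl⟩
    exact h1.trans (S.rep_isConj g)

theorem Setup.rep_eq_one_iff [Finite G] (S : Setup H m n s) (g : G) :
    S.rep g = 1 ↔ g ^ s = 1 := by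
  constructor
  · intro h
    have h1 := S.rep_isConj g
    rw [h] at h1
    have h2 : IsConj (g ^ s) (1 : G) := h1
    rw [isConj_one_left] at h2
    exact h2
  · intro h
    have h1 := (S.rep_isConj g).symm
    rw [h] at h1
    rw [isConj_one_left] at h1
    exact Subtype.ext h1

end Cfsg.Agent.Helper2.BSn
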