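import Mathlib
import Cfsg.Prelude.Def_Characters
import Cfsg.Agent.Helper6.PiSection
import Cfsg.Agent.Helper6.Brauer1
import Cfsg.Agent.Helper6.NormTwo
import Cfsg.Agent.Helper6.Induced
import Cfsg.Agent.S0164
import Cfsg.Agent.Helper2.BSnA

/-!
# The extension of a generalized character along the `π`-part map is a generalized character
-/

set_option autoImplicit false

namespace Cfsg.Agent.Helper2.BSn

open Cfsg.Agent.Helper6

universe u

/-- In an elementary group the `π`-part map `e ↦ e ^ s` is multiplicative. -/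
theorem pow_hom {E : Type u} [Group E] [Finite E] {q : ℕ} (hq : q.Prime)
    (hE : Cfsg.IsElementary q E) (m n s : ℕ) (hcop : Nat.Coprime m n)
    (hcard : Nat.card E ∣ m * n) (hs1 : s ≡ 1 [MOD m]) (hs0 : n ∣ s) (a b : E) :
    (a * b) ^ s = a ^ s * b ^ s := by
  have hmn : ∀ e : E, e ^ (m * n) = 1 := by
    intro e
    obtain ⟨j, hj⟩ := hcard
    rw [hj, pow_mul, pow_card_eq_one', one_pow]
  have hpi : ∀ e : E, (e ^ s) ^ m = 1 := by
    intro e
    obtain ⟨j, hj⟩ := hs0
    rw [← pow_mul, hj, mul_comm n j, mul_assoc, mul_comm n m, mul_comm j, pow_mul, hmn, one_pow]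
  have hrho : ∀ e : E, ((e ^ s)⁻¹ * e) ^ n = 1 := by
    intro e
    have hc : Commute (e ^ s)⁻¹ e := ((Commute.refl e).pow_left s).inv_left
    rw [hc.mul_pow, inv_pow, ← pow_mul]
    have h1 : e ^ (s * n) = e ^ (1 * n) := by
      rw [pow_eq_pow_iff_modEq]
      apply Nat.ModEq.of_dvd (orderOf_dvd_of_pow_eq_one (hmn e))
      exact Nat.ModEq.mul_right' n hs1
    rw [h1, one_mul, inv_mul_cancel]
  set A := coprimeSubgroup hq hE n with hA
  set B := coprimeSubgroup hq hE m with hB
  have hAm : ∀ x : E, x ∈ A → x ^ m = 1 := by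
    intro x hx
    rw [hA, mem_coprimeSubgroup] at hx
    apply orderOf_dvd_iff_pow_eq_one.mp
    exact Nat.Coprime.dvd_of_dvd_mul_right hx (orderOf_dvd_of_pow_eq_one (hmn x))
  have hBn : ∀ x : E, x ∈ B → x ^ n = 1 := by
    intro x hx
    rw [hB, mem_coprimeSubgroup] at hx
    apply orderOf_dvd_iff_pow_eq_one.mp
    exact Nat.Coprime.dvd_of_dvd_mul_left hx (orderOf_dvd_of_pow_eq_one (hmn x))
  have hpiA : ∀ e : E, e ^ s ∈ A := by
    intro e
    rw [hA, mem_coprimeSubgroup]
    exact Nat.Coprime.coprime_dvd_left (orderOf_dvd_of_pow_eq_one (hpi e)) hcop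
  have hrhoB : ∀ e : E, (e ^ s)⁻¹ * e ∈ B := by
    intro e
    rw [hB, mem_coprimeSubgroup]
    exact Nat.Coprime.coprime_dvd_left (orderOf_dvd_of_pow_eq_one (hrho e)) hcop.symm
  have hdis : Disjoint A B := by
    rw [Subgroup.disjoint_def]
    intro x hxA hxB
    have h1 := hAm x hxA
    have h2 := hBn x hxB
    have h3 : orderOf x ∣ Nat.gcd m n :=
      Nat.dvd_gcd (orderOf_dvd_of_pow_eq_one h1) (orderOf_dvd_of_pow_eq_one h2)
    rw [hcop.gcd_eq_one, Nat.dvd_one, orderOf_eq_one_iff] at h3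
    exact h3
  have hcomm : ∀ x y : E, x ∈ A → y ∈ B → Commute x y := fun x y hx hy =>
    Subgroup.commute_of_normal_of_disjoint A B (coprimeSubgroup_normal hq hE n)
      (coprimeSubgroup_normal hq hE m) hdis x y hx hy
  have hdecomp : (a * b) ^ s * (((a * b) ^ s)⁻¹ * (a * b)) =
      (a ^ s * b ^ s) * (((a ^ s)⁻¹ * a) * ((b ^ s)⁻¹ * b)) := by
    rw [mul_inv_cancel_left]
    have h1 : ((a ^ s)⁻¹ * a) * b ^ s = b ^ s * ((a ^ s)⁻¹ * a) :=
      ((hcomm _ _ (hpiA b) (hrhoB a)).eq).symm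
    calc a * b = a ^ s * (((a ^ s)⁻¹ * a) * b ^ s) * ((b ^ s)⁻¹ * b) := by group
      _ = a ^ s * (b ^ s * ((a ^ s)⁻¹ * a)) * ((b ^ s)⁻¹ * b) := by rw [h1]
      _ = _ := by group
  have huniq := pi_decomposition_unique m n hcop
    (hcomm _ _ (hpiA (a * b)) (hrhoB (a * b)))
    (hcomm _ _ (A.mul_mem (hpiA a) (hpiA b)) (B.mul_mem (hrhoB a) (hrhoB b)))
    hdecomp (hpi (a * b)) (hAm _ (A.mul_mem (hpiA a) (hpiA b))) (hrho (a * b))
    (hBn _ (B.mul_mem (hrhoB a) (hrhoB b)))
  exact huniq.1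

variable {G : Type u} [Group G] {H : Subgroup G} {m n s : ℕ}

theorem IsGeneralizedCharacter.comp_hom {K : Type u} [Group K] (f : K →* G) {θ : G → ℂ}
    (h : Cfsg.IsGeneralizedCharacter G θ) :
    Cfsg.IsGeneralizedCharacter K (fun x => θ (f x)) := by
  obtain ⟨χ1, χ2, h1, h2, rfl⟩ := h
  exact ⟨fun x => χ1 (f x), fun x => χ2 (f x), IsCharacter.comp_hom f h1,
    IsCharacter.comp_hom f h2, rfl⟩

theorem Setup.tilde_restrict_elementary [Finite G] (S : Setup H m n s) {θ : H → ℂ}
    (hθ : Cfsg.IsGeneralizedCharacter H θ) (E : Subgroup G) (p : ℕ) (hp : p.Prime)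
    (hE : Cfsg.IsElementary p E) :
    Cfsg.IsGeneralizedCharacter E (fun e : E => S.tilde θ e) := by
  have hθcf := IsGeneralizedCharacter.isClassFunction hθ
  have hcardE : Nat.card E ∣ m * n := by
    rw [← S.cardG]
    exact Subgroup.card_subgroup_dvd_card E
  set A := coprimeSubgroup hp hE n with hA
  have hpiA : ∀ e : E, e ^ s ∈ A := by
    intro e
    rw [hA, mem_coprimeSubgroup]
    have h1 : (e ^ s) ^ m = 1 := by
      apply Subtype.ext
      have := S.pow_pow (e : G)
      simpa using this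
    exact Nat.Coprime.coprime_dvd_left (orderOf_dvd_of_pow_eq_one h1) S.cop
  let f : E →* A :=
    { toFun := fun e => ⟨e ^ s, hpiA e⟩
      map_one' := by
        apply Subtype.ext
        simp
      map_mul' := by
        intro a b
        apply Subtype.ext
        exact pow_hom hp hE m n s S.cop hcardE S.s1 S.s0 a b }
  set A' := A.map E.subtype with hA'
  have hA'el : Cfsg.IsElementary p A' :=
    IsElementary.of_mulEquiv (A.equivMapOfInjective E.subtype E.subtype_injective)
      (IsElementary.subgroup hp hE A)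
  have hcardA : Nat.card A ∣ m := by
    have h1 : Nat.card A ∣ m * n := (Subgroup.card_subgroup_dvd_card A).trans hcardE
    have h2 : Nat.Coprime (Nat.card A) n := card_coprimeSubgroup_coprime hp hE n
    exact Nat.Coprime.dvd_of_dvd_mul_right h2 h1
  have hcardA' : Nat.card A' ∣ m := by
    have h1 : Nat.card A' = Nat.card A :=
      (Nat.card_congr (A.equivMapOfInjective E.subtype E.subtype_injective).toEquiv).symm
    rw [h1]
    exact hcardA
  obtain ⟨c, hc⟩ := S.elem A' p hp hA'el hcardA'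
  have hmem : ∀ x : A, c * ((x : E) : G) * c⁻¹ ∈ H := by
    intro x
    apply hc
    rw [Subgroup.mem_map]
    refine ⟨((x : E) : G), ?_, by simp [MulAut.conj_apply]⟩
    rw [hA', Subgroup.mem_map]
    exact ⟨(x : E), x.2, rfl⟩
  let ψ : A →* H :=
    { toFun := fun x => ⟨c * ((x : E) : G) * c⁻¹, hmem x⟩
      map_one' := by
        apply Subtype.ext
        simp
      map_mul' := by
        intro a b
        apply Subtype.ext
        simp }
  have heq : (fun e : E => S.tilde θ e) = fun e : E => θ ((ψ.comp f) e) := by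
    funext e
    apply S.tilde_eq hθcf
    rw [isConj_iff]
    refine ⟨c, ?_⟩
    simp [ψ, f]
  rw [heq]
  exact IsGeneralizedCharacter.comp_hom (ψ.comp f) hθ

theorem Setup.tilde_isGeneralizedCharacter [Finite G] (S : Setup H m n s) {θ : H → ℂ}
    (hθ : Cfsg.IsGeneralizedCharacter H θ) : Cfsg.IsGeneralizedCharacter G (S.tilde θ) :=
  Cfsg.Agent.S0164.result (S.tilde θ)
    (S.tilde_isClassFunction (IsGeneralizedCharacter.isClassFunction hθ))
    (fun E p hp hE => S.tilde_restrict_elementary hθ E p hp hE)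

end Cfsg.Agent.Helper2.BSn
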