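import Mathlib
import Cfsg.Prelude.Def_Characters
import Cfsg.Agent.Helper6.ClassInner
import Cfsg.Agent.Helper6.Brauer10
import Cfsg.Agent.Helper6.OddReal
import Cfsg.Agent.Helper6.PowCongr
import Cfsg.Agent.Helper6.DegreeDvd
import Cfsg.Agent.Helper2.BSnA
import Cfsg.Agent.Helper2.BSnB

/-!
# Counting `π`-sections: the extension map preserves inner products
-/

set_option autoImplicit false

namespace Cfsg.Agent.Helper2.BSn

open Cfsg.Agent.Helper6
open scoped ComplexConjugate

universe u

variable {G : Type u} [Group G] {H : Subgroup G} {m n s : ℕ}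

/-- Size of the `π`-section of `h`. -/
noncomputable def secCard (H : Subgroup G) (s : ℕ) (h : H) : ℕ :=
  Nat.card {g : G // IsConj (g ^ s) (h : G)}

/-- Size of the `H`-class of `h`. -/
noncomputable def clCard (H : Subgroup G) (h : H) : ℕ :=
  Nat.card {y : H // IsConj h y}

theorem clCard_pos [Finite G] (h : H) : 0 < clCard H h := by
  haveI : Nonempty {y : H // IsConj h y} := ⟨⟨h, IsConj.refl h⟩⟩
  exact Nat.card_pos

theorem clCard_eq_of_isConj {x y : H} (h : IsConj x y) : clCard H x = clCard H y := by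
  apply Nat.card_congr
  exact Equiv.subtypeEquivRight (fun z => ⟨fun h1 => h.symm.trans h1, fun h1 => h.trans h1⟩)

theorem secCard_eq_of_isConj {x y : H} (h : IsConj x y) : secCard H s x = secCard H s y := by
  apply Nat.card_congr
  have h' := Setup.isConj_out h
  exact Equiv.subtypeEquivRight (fun z => ⟨fun h1 => h1.trans h', fun h1 => h1.trans h'.symm⟩)

theorem secCard_pos [Finite G] (S : Setup H m n s) (h : H) : 0 < secCard H s h := by
  haveI : Nonempty {g : G // IsConj (g ^ s) (h : G)} :=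
    ⟨⟨(h : G), by rw [S.pow_mem_eq h.2]⟩⟩
  exact Nat.card_pos

theorem card_subtype_eq_sum {α : Type*} [Fintype α] (P : α → Prop) [DecidablePred P] :
    (Nat.card {a : α // P a} : ℂ) = ∑ a : α, if P a then (1 : ℂ) else 0 := by
  rw [Nat.card_eq_fintype_card, Fintype.card_subtype, Finset.sum_boole]

theorem Setup.count_formula [Fintype G] [Fintype H] (S : Setup H m n s) {F : H → ℂ}
    (hF : Cfsg.IsClassFunction H F) :
    ∑ g : G, F (S.rep g) = ∑ h : H, (secCard H s h : ℂ) * (clCard H h : ℂ)⁻¹ * F h := by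
  classical
  have key : ∀ g : G, ∑ h : H, (if IsConj (g ^ s) (h : G) then (clCard H h : ℂ)⁻¹ * F h else 0) =
      F (S.rep g) := by
    intro g
    have h1 : ∀ h : H, (if IsConj (g ^ s) (h : G) then (clCard H h : ℂ)⁻¹ * F h else 0) =
        (if IsConj (S.rep g) h then (1 : ℂ) else 0) *
          ((clCard H (S.rep g) : ℂ)⁻¹ * F (S.rep g)) := by
      intro h
      have hiff : IsConj (g ^ s) (h : G) ↔ IsConj (S.rep g) h :=
        ⟨fun hc => S.isConj_in ((S.rep_isConj g).symm.trans hc),
          fun hc => (S.rep_isConj g).trans (Setup.isConj_out hc)⟩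
      by_cases hc : IsConj (S.rep g) h
      · rw [if_pos (hiff.mpr hc), if_pos hc, one_mul, clCard_eq_of_isConj hc,
          IsClassFunction.eq_of_isConj hF hc]
      · rw [if_neg (fun h' => hc (hiff.mp h')), if_neg hc, zero_mul]
    rw [Finset.sum_congr rfl (fun h _ => h1 h), ← Finset.sum_mul, ← card_subtype_eq_sum]
    have hne : ((clCard H (S.rep g) : ℕ) : ℂ) ≠ 0 := by
      exact_mod_cast (clCard_pos (S.rep g)).ne'
    show (clCard H (S.rep g) : ℂ) * ((clCard H (S.rep g) : ℂ)⁻¹ * F (S.rep g)) = F (S.rep g)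
    rw [← mul_assoc, mul_inv_cancel₀ hne, one_mul]
  have h2 : ∀ h : H, (secCard H s h : ℂ) * (clCard H h : ℂ)⁻¹ * F h =
      ∑ g : G, (if IsConj (g ^ s) (h : G) then (clCard H h : ℂ)⁻¹ * F h else 0) := by
    intro h
    unfold secCard
    rw [card_subtype_eq_sum, mul_assoc, Finset.sum_mul]
    apply Finset.sum_congr rfl
    intro g _
    split_ifs
    · rw [one_mul]
    · rw [zero_mul]
  rw [Finset.sum_congr rfl (fun h _ => h2 h), Finset.sum_comm]
  apply Finset.sum_congr rfl
  intro g _
  exact (key g).symm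

/-- The weight function. -/
noncomputable def beta (H : Subgroup G) (n s : ℕ) : H → ℂ :=
  fun h => (secCard H s h : ℂ) * ((n : ℂ) * (clCard H h : ℂ))⁻¹

theorem beta_isClassFunction : Cfsg.IsClassFunction H (beta H n s) := by
  intro h k
  have hc : IsConj h (k * h * k⁻¹) := isConj_iff.mpr ⟨k, rfl⟩
  unfold beta
  rw [← secCard_eq_of_isConj hc, ← clCard_eq_of_isConj hc]

theorem mul_conj_isClassFunction {θ φ : H → ℂ} (hθ : Cfsg.IsClassFunction H θ)
    (hφ : Cfsg.IsClassFunction H φ) : Cfsg.IsClassFunction H (fun h => θ h * conj (φ h)) := by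
  intro h k
  show θ (k * h * k⁻¹) * conj (φ (k * h * k⁻¹)) = _
  rw [hθ h k, hφ h k]

theorem Setup.inner_tilde [Fintype G] [Fintype H] (S : Setup H m n s) {θ φ : H → ℂ}
    (hθ : Cfsg.IsClassFunction H θ) (hφ : Cfsg.IsClassFunction H φ) :
    Cfsg.classInner (S.tilde θ) (S.tilde φ) =
      Cfsg.classInner (fun h => beta H n s h * θ h) φ := by
  rw [classInner_def, classInner_def]
  have h1 : ∑ g : G, S.tilde θ g * conj (S.tilde φ g) =
      ∑ g : G, (fun h : H => θ h * conj (φ h)) (S.rep g) := rfl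
  rw [h1, S.count_formula (mul_conj_isClassFunction hθ hφ), S.cardG, S.cardH, Finset.mul_sum,
    Finset.mul_sum]
  apply Finset.sum_congr rfl
  intro h _
  have hm : (m : ℂ) ≠ 0 := by exact_mod_cast S.mpos.ne'
  have hn : (n : ℂ) ≠ 0 := by exact_mod_cast S.npos.ne'
  have hc : ((clCard H h : ℕ) : ℂ) ≠ 0 := by exact_mod_cast (clCard_pos h).ne'
  unfold beta
  push_cast
  field_simp

theorem Setup.tilde_one [Finite G] (S : Setup H m n s) :
    S.tilde (fun _ => (1 : ℂ)) = fun _ => (1 : ℂ) := rfl

theorem Setup.beta_isGeneralizedCharacter [Fintype G] [Fintype H] (S : Setup H m n s) :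
    Cfsg.IsGeneralizedCharacter H (beta H n s) := by
  apply isGeneralizedCharacter_of_classInner_int beta_isClassFunction
  intro χ hχ
  have hχg := S.tilde_isGeneralizedCharacter
    (IsGeneralizedCharacter.of_isCharacter (IsIrrCharacter.isCharacter hχ))
  obtain ⟨k, hk⟩ := IsGeneralizedCharacter.classInner_irr_int hχg (isIrrCharacter_one (G := G))
  refine ⟨k, ?_⟩
  have h1 := S.inner_tilde (θ := fun _ => (1 : ℂ)) (φ := χ)
    (IsCharacter.isClassFunction isCharacter_one)
    (IsCharacter.isClassFunction (IsIrrCharacter.isCharacter hχ))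
  rw [S.tilde_one] at h1
  have h2 : (fun h : H => beta H n s h * (fun _ => (1 : ℂ)) h) = beta H n s := by
    funext h
    simp
  rw [h2] at h1
  rw [← h1, classInner_conj_symm, hk]
  simp

theorem Setup.dvd_secCard [Fintype G] [Fintype H] (S : Setup H m n s) (h : H) :
    n * clCard H h ∣ secCard H s h := by
  obtain ⟨χ1, χ2, h1, h2, h3⟩ := S.beta_isGeneralizedCharacter
  have hint : IsIntegral ℤ (beta H n s h) := by
    rw [h3]
    exact IsIntegral.sub (IsCharacter.isIntegral_value h1 h) (IsCharacter.isIntegral_value h2 h)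
  have hd : n * clCard H h ≠ 0 := Nat.mul_ne_zero S.npos.ne' (clCard_pos h).ne'
  apply nat_dvd_of_isIntegral _ _ hd _ hint
  have hdC : ((n : ℂ) * (clCard H h : ℂ)) ≠ 0 := by exact_mod_cast hd
  unfold beta
  push_cast
  rw [mul_comm (secCard H s h : ℂ), ← mul_assoc, mul_inv_cancel₀ hdC, one_mul]

theorem Setup.secCard_eq [Fintype G] [Fintype H] (S : Setup H m n s) (h : H) :
    secCard H s h = n * clCard H h := by
  classical
  have hq : ∀ x : H, ∃ q : ℕ, secCard H s x = n * clCard H x * q := fun x => S.dvd_secCard x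
  choose q hq using hq
  have hqpos : ∀ x : H, 1 ≤ q x := by
    intro x
    have h1 := secCard_pos S x
    rw [hq x] at h1
    rcases Nat.eq_zero_or_pos (q x) with h0 | h0
    · rw [h0, mul_zero] at h1
      exact absurd h1 (lt_irrefl 0)
    · exact h0
  have hsum : ∑ x : H, (q x : ℂ) * (n : ℂ) = (m : ℂ) * (n : ℂ) := by
    have h1 := S.count_formula (F := fun _ => (1 : ℂ))
      (IsCharacter.isClassFunction isCharacter_one)
    rw [Finset.sum_const, Finset.card_univ, ← Nat.card_eq_fintype_card, S.cardG] at h1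
    rw [nsmul_eq_mul, mul_one] at h1
    push_cast at h1
    rw [h1]
    apply Finset.sum_congr rfl
    intro x _
    have hc : ((clCard H x : ℕ) : ℂ) ≠ 0 := by exact_mod_cast (clCard_pos x).ne'
    rw [hq x]
    push_cast
    field_simp
  have hsumN : ∑ x : H, q x = m := by
    have hn : (n : ℂ) ≠ 0 := by exact_mod_cast S.npos.ne'
    rw [← Finset.sum_mul] at hsum
    have h2 := mul_right_cancel₀ hn hsum
    exact_mod_cast h2
  have hcardH : ∑ _x : H, 1 = m := by
    rw [Finset.sum_const, Finset.card_univ, ← Nat.card_eq_fintype_card, S.cardH]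
    simp
  have hall : ∀ x : H, q x = 1 := by
    by_contra hcon
    push Not at hcon
    obtain ⟨x0, hx0⟩ := hcon
    have hlt : ∑ _x : H, 1 < ∑ x : H, q x := by
      apply Finset.sum_lt_sum
      · intro x _
        exact hqpos x
      · refine ⟨x0, Finset.mem_univ _, ?_⟩
        have := hqpos x0
        omega
    rw [hsumN, hcardH] at hlt
    exact lt_irrefl m hlt
  rw [hq h, hall h, mul_one]

theorem Setup.beta_eq_one [Fintype G] [Fintype H] (S : Setup H m n s) (h : H) :
    beta H n s h = 1 := by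
  unfold beta
  rw [S.secCard_eq h]
  have hd : n * clCard H h ≠ 0 := Nat.mul_ne_zero S.npos.ne' (clCard_pos h).ne'
  have hdC : ((n : ℂ) * (clCard H h : ℂ)) ≠ 0 := by exact_mod_cast hd
  push_cast
  exact mul_inv_cancel₀ hdC

theorem Setup.inner_tilde_eq [Fintype G] [Fintype H] (S : Setup H m n s) {θ φ : H → ℂ}
    (hθ : Cfsg.IsClassFunction H θ) (hφ : Cfsg.IsClassFunction H φ) :
    Cfsg.classInner (S.tilde θ) (S.tilde φ) = Cfsg.classInner θ φ := by
  rw [S.inner_tilde hθ hφ]
  congr 1
  funext h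
  rw [S.beta_eq_one h, one_mul]

end Cfsg.Agent.Helper2.BSn
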