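import Mathlib
import Cfsg.Prelude.Def_Characters
import Cfsg.Agent.Helper6.NormOne
import Cfsg.Agent.Helper6.ColumnOrth
import Cfsg.Agent.Helper6.BlockKernel
import Cfsg.Agent.Helper6.IrrDegree
import Cfsg.Agent.Helper2.BSnA
import Cfsg.Agent.Helper2.BSnB
import Cfsg.Agent.Helper2.BSnC

/-!
# The normal complement
-/

set_option autoImplicit false

namespace Cfsg.Agent.Helper2.BSn

open Cfsg.Agent.Helper6
open scoped ComplexConjugate

universe u

variable {G : Type u} [Group G] {H : Subgroup G} {m n s : ℕ}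

theorem Setup.tilde_at_one [Finite G] (S : Setup H m n s) {θ : H → ℂ}
    (hθ : Cfsg.IsClassFunction H θ) : S.tilde θ 1 = θ 1 := by
  have := S.tilde_mem hθ (1 : H)
  simpa using this

theorem Setup.tilde_irr [Fintype G] [Fintype H] (S : Setup H m n s) {χ : H → ℂ}
    (hχ : Cfsg.IsIrrCharacter H χ) : Cfsg.IsIrrCharacter G (S.tilde χ) := by
  have hcf := IsCharacter.isClassFunction (IsIrrCharacter.isCharacter hχ)
  have hgen := S.tilde_isGeneralizedCharacter
    (IsGeneralizedCharacter.of_isCharacter (IsIrrCharacter.isCharacter hχ))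
  have hnorm : Cfsg.classInner (S.tilde χ) (S.tilde χ) = 1 := by
    rw [S.inner_tilde_eq hcf hcf, classInner_irr_self hχ]
  obtain ⟨ψ, hψ, h | h⟩ := exists_signed_irr_of_norm_one hgen hnorm
  · rw [h]
    exact hψ
  · exfalso
    have h1 := congrFun h 1
    rw [S.tilde_at_one hcf] at h1
    obtain ⟨d, hd, hd1⟩ := IsIrrCharacter.apply_one_pos hχ
    obtain ⟨d', hd', hd1'⟩ := IsIrrCharacter.apply_one_pos hψ
    rw [Pi.neg_apply, hd1, hd1'] at h1
    have h2 : ((d + d' : ℕ) : ℂ) = 0 := by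
      push_cast
      rw [h1]
      ring
    have h3 : d + d' = 0 := by exact_mod_cast h2
    omega

/-- Irreducible characters separate the identity. -/
theorem eq_one_of_forall_irr [Fintype G] (x : G)
    (h : ∀ χ : G → ℂ, Cfsg.IsIrrCharacter G χ → χ x = χ 1) : x = 1 := by
  classical
  haveI : Finite (Cfsg.IrrCharacter G) := irr_finite
  haveI : Fintype (Cfsg.IrrCharacter G) := Fintype.ofFinite _
  have h1 := column_orthogonality_aux x (1 : G)
  have h2 := column_orthogonality_aux (1 : G) (1 : G)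
  have h3 : ∑ χ : Cfsg.IrrCharacter G, (χ : G → ℂ) x * conj ((χ : G → ℂ) 1) =
      ∑ χ : Cfsg.IrrCharacter G, (χ : G → ℂ) 1 * conj ((χ : G → ℂ) 1) := by
    apply Finset.sum_congr rfl
    intro χ _
    rw [h χ χ.2]
  rw [h3, h2, if_pos (IsConj.refl 1)] at h1
  by_contra hne
  have hnc : ¬ IsConj x 1 := by
    intro hc
    rw [isConj_one_left] at hc
    exact hne hc
  rw [if_neg hnc] at h1
  have hpos : 0 < Nat.card (Subgroup.centralizer ({(1 : G)} : Set G)) := Nat.card_pos
  have : (Nat.card (Subgroup.centralizer ({(1 : G)} : Set G)) : ℂ) ≠ 0 := by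
    exact_mod_cast hpos.ne'
  exact this h1

/-- The kernel. -/
noncomputable def Setup.ker [Fintype G] [Fintype H] (S : Setup H m n s) : Subgroup G :=
  ⨅ χ : Cfsg.IrrCharacter H, kerSub ⟨S.tilde (χ : H → ℂ), S.tilde_irr χ.2⟩

theorem Setup.ker_normal [Fintype G] [Fintype H] (S : Setup H m n s) : S.ker.Normal :=
  Subgroup.normal_iInf_normal (fun χ => kerSub_normal _)

theorem Setup.mem_ker [Fintype G] [Fintype H] (S : Setup H m n s) (g : G) :
    g ∈ S.ker ↔ g ^ s = 1 := by
  unfold Setup.ker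
  rw [Subgroup.mem_iInf]
  constructor
  · intro h
    rw [← S.rep_eq_one_iff]
    apply eq_one_of_forall_irr
    intro χ hχ
    have h1 := (mem_kerSub _ g).mp (h ⟨χ, hχ⟩)
    have hcf := IsCharacter.isClassFunction (IsIrrCharacter.isCharacter hχ)
    have h2 : S.tilde χ g = S.tilde χ 1 := h1
    rw [S.tilde_at_one hcf] at h2
    exact h2
  · intro h χ
    rw [mem_kerSub]
    have hcf := IsCharacter.isClassFunction (IsIrrCharacter.isCharacter χ.2)
    show S.tilde (χ : H → ℂ) g = S.tilde (χ : H → ℂ) 1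
    rw [S.tilde_at_one hcf, S.tilde_apply, (S.rep_eq_one_iff g).mpr h]

theorem Setup.card_ker [Fintype G] [Fintype H] (S : Setup H m n s) : Nat.card S.ker = n := by
  have h1 : Nat.card S.ker = secCard H s (1 : H) := by
    unfold secCard
    apply Nat.card_congr
    apply Equiv.subtypeEquivRight
    intro g
    rw [S.mem_ker]
    show g ^ s = 1 ↔ IsConj (g ^ s) ((1 : H) : G)
    rw [Subgroup.coe_one, isConj_one_left]
  have h2 : clCard H (1 : H) = 1 := by
    unfold clCard
    rw [Nat.card_eq_one_iff_unique]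
    refine ⟨⟨?_⟩, ⟨⟨1, IsConj.refl 1⟩⟩⟩
    intro a b
    apply Subtype.ext
    have ha := a.2
    have hb := b.2
    rw [isConj_one_right] at ha hb
    rw [ha, hb]
  rw [h1, S.secCard_eq, h2, mul_one]

theorem Setup.conclusion [Fintype G] [Fintype H] (S : Setup H m n s) :
    ∃ K : Subgroup G, K.Normal ∧ K ⊔ H = ⊤ ∧ K ⊓ H = ⊥ := by
  refine ⟨S.ker, S.ker_normal, ?_, ?_⟩
  · have h1 : Nat.card S.ker ∣ Nat.card (S.ker ⊔ H : Subgroup G) :=
      Subgroup.card_dvd_of_le le_sup_left
    have h2 : Nat.card H ∣ Nat.card (S.ker ⊔ H : Subgroup G) :=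
      Subgroup.card_dvd_of_le le_sup_right
    rw [S.card_ker] at h1
    rw [S.cardH] at h2
    have h3 : m * n ∣ Nat.card (S.ker ⊔ H : Subgroup G) :=
      Nat.Coprime.mul_dvd_of_dvd_of_dvd S.cop h2 h1
    rw [← S.cardG] at h3
    have h4 : Nat.card (S.ker ⊔ H : Subgroup G) ∣ Nat.card G :=
      Subgroup.card_subgroup_dvd_card _
    exact Subgroup.eq_top_of_card_eq _ (Nat.dvd_antisymm h4 h3)
  · rw [Subgroup.eq_bot_iff_forall]
    intro x hx
    rw [Subgroup.mem_inf] at hx
    have h1 := (S.mem_ker x).mp hx.1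
    rw [S.pow_mem_eq hx.2] at h1
    exact h1

end Cfsg.Agent.Helper2.BSn
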