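import Mathlib
import Cfsg.Prelude.Def_Characters
import Cfsg.Agent.Helper2.BSuzH

/-!
# Values of `(1 - λ)^N` on a normal subgroup of index two
-/

set_option autoImplicit false
set_option linter.style.haveILetI false

namespace Cfsg.Agent.Helper2.BSuzN

open Cfsg.Agent.Helper6 Cfsg.Agent.Helper2.BSuzH
open scoped ComplexConjugate

universe u

variable {N : Type u} [Group N]

theorem conjFun_phi_of_mem (C : Subgroup N) [hC : C.Normal] (lam : C →* ℂˣ) (x : N)
    (hx : x ∈ C) : conjFun C (phi C lam) x = phi C lam := by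
  rw [conjFun_phi, conjFun_lamC_of_mem C lam x hx, phi_eq]

theorem conjFun_phi_of_not_mem (C : Subgroup N) [hC : C.Normal] (hidx : C.index = 2)
    (lam : C →* ℂˣ) (b : N) (hb : b ∉ C) (x : N) (hx : x ∉ C) :
    conjFun C (phi C lam) x = conjFun C (phi C lam) b := by
  have hc : x * b⁻¹ ∈ C := by
    rw [Subgroup.mul_mem_iff_of_index_two hidx, inv_mem_iff]
    exact ⟨fun h => absurd h hx, fun h => absurd h hb⟩
  have h1 : x = (x * b⁻¹) * b := by group
  conv_lhs => rw [h1]
  rw [← conjFun_mul, conjFun_phi_of_mem C lam _ hc]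

theorem ind_apply_mem [Fintype N] (C : Subgroup N) [hC : C.Normal] (hidx : C.index = 2)
    (lam : C →* ℂˣ) (b : N) (hb : b ∉ C) (y : C) :
    Cfsg.indFun C (phi C lam) y =
      ((1 : ℂ) - ((lam y : ℂˣ) : ℂ)) +
        ((1 : ℂ) - ((lam ⟨b * y * b⁻¹, hC.conj_mem y y.2 b⟩ : ℂˣ) : ℂ)) := by
  classical
  rw [indFun_normal_apply]
  have hterm : ∀ x : N, conjFun C (phi C lam) x⁻¹ y =
      if x ∈ C then phi C lam y else conjFun C (phi C lam) b y := by
    intro x
    split_ifs with hx
    · rw [conjFun_phi_of_mem C lam _ (C.inv_mem hx)]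
    · have hx' : x⁻¹ ∉ C := fun h => hx (by simpa using C.inv_mem h)
      rw [conjFun_phi_of_not_mem C hidx lam b hb _ hx']
  simp_rw [hterm]
  rw [Finset.sum_ite, Finset.sum_const, Finset.sum_const, nsmul_eq_mul, nsmul_eq_mul]
  have hcardC : (Finset.univ.filter (fun x : N => x ∈ C)).card = Nat.card C := by
    rw [Nat.card_eq_fintype_card, Fintype.card_subtype]
  have hcardN : Fintype.card N = Nat.card C * 2 := by
    rw [← Nat.card_eq_fintype_card, ← hidx, C.card_mul_index]
  have hcardC' : (Finset.univ.filter (fun x : N => ¬ x ∈ C)).card = Nat.card C := by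
    have h1 := Finset.card_filter_add_card_filter_not
      (s := (Finset.univ : Finset N)) (fun x : N => x ∈ C)
    rw [hcardC, Finset.card_univ, hcardN] at h1
    omega
  rw [hcardC, hcardC']
  have hCne : (Nat.card C : ℂ) ≠ 0 := by
    have : 0 < Nat.card C := Nat.card_pos
    exact_mod_cast this.ne'
  have h2 : conjFun C (phi C lam) b y =
      (1 : ℂ) - ((lam ⟨b * y * b⁻¹, hC.conj_mem y y.2 b⟩ : ℂˣ) : ℂ) := rfl
  have h3 : phi C lam y = (1 : ℂ) - ((lam y : ℂˣ) : ℂ) := rfl
  rw [h2, h3]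
  field_simp

end Cfsg.Agent.Helper2.BSuzN
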