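import Mathlib
import Cfsg.Agent.Helper2.BTIdent
import Cfsg.Agent.Helper1.BTEntry
import Cfsg.Agent.S1095

set_option autoImplicit false

/-!
# Borel–Tits (S2154): the identification step, second part

The raw hypotheses of `bt2_ident` are discharged for a function `ψ` on root indices that is odd
under `neg`, additive along chains (helper1's `btf_Odd`, `btf_ChainAdd`) and dominant:

* `bt2_hn`: if `n_{p_i} ∈ P̂(ψ)` then `ψ p_i = 0` (the entry of `n_{p_i}` at `(e_{-p_i}, e_{p_i})`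
  is `-1`, so `ψ p_i ≤ ψ (-p_i) = - ψ p_i`);
* `bt2_ident_dom`: `P̂(ψ) ⊓ G ≤ P_J` and `Û(ψ) ⊓ G ≤ U_J` for `J = {i | ψ p_i = 0}`.
-/

namespace Cfsg.Agent.Helper2.BTIdent

open Cfsg Cfsg.Lie Cfsg.Agent.Helper1.BTFilt Cfsg.Agent.Helper7 Cfsg.Agent.Helper7.Chev

variable {F : Type*} [Field F] [Fintype F] (D : ChevalleyDatum)

/-- The two weights on the coordinate index set coincide. -/
theorem bt2_wt_eq_btf_wt (ψ : ℕ → ℝ) : bt2_wt D ψ = btf_wt D ψ := rfl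

/-- If the monomial element `n_{p_i}` lies in `P̂(ψ)`, `ψ` is odd at `p_i` and `0 ≤ ψ p_i`, then
`ψ p_i = 0`. -/
theorem bt2_hn
    (hD : D ∈ [Cfsg.Lie.chevG2, Cfsg.Lie.chevB2, Cfsg.Lie.chevD4, Cfsg.Lie.chevF4,
      Cfsg.Lie.chevE6, Cfsg.Lie.chevE7, Cfsg.Lie.chevE8])
    (ψ : ℕ → ℝ) {i : ℕ} (hi : i < D.rank)
    (hodd : ψ (D.neg (D.simple i)) = - ψ (D.simple i)) (hdom : 0 ≤ ψ (D.simple i))
    (g : GL D.Idx F) (hg : (g : Matrix D.Idx D.Idx F) = D.nMat F (D.simple i) 1)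
    (hgP : g ∈ btf_PSub (bt2_wt D ψ)) : ψ (D.simple i) = 0 := by
  have hG1 : Good1 D := good1_of_mem D hD
  have hp : D.simple i < D.nroots := hG1.simple_lt hi
  have hnp : D.neg (D.simple i) < D.nroots := hG1.neg_lt hp
  obtain ⟨η, -, hηp, -, -, hmat⟩ := Cfsg.Agent.S1095.result (F := F) D hD i hi
  have hrefl : D.reflectRoot i (D.simple i) = D.neg (D.simple i) := by
    unfold ChevalleyDatum.reflectRoot
    simp
  have hentry : (g : Matrix D.Idx D.Idx F) (Sum.inr ⟨D.neg (D.simple i), hnp⟩)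
      (Sum.inr ⟨D.simple i, hp⟩) ≠ 0 := by
    rw [hg, hmat]
    simp only [Matrix.of_apply, Sum.elim_inr]
    rw [if_pos hrefl.symm, hηp]
    simp
  have hle := hgP _ _ hentry
  simp only [bt2_wt_inr] at hle
  linarith

/-- **Identification for a dominant weight**: for `ψ` odd, chain-additive, non-negative on the
positive roots, positive on the positive roots outside `Φ_J` and zero on `Φ_J`, where `J` is the
set of the fundamental roots on which `ψ` vanishes: `P̂(ψ) ⊓ G ≤ P_J` and `Û(ψ) ⊓ G ≤ U_J`. -/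
theorem bt2_ident_dom
    (hD : D ∈ [Cfsg.Lie.chevG2, Cfsg.Lie.chevB2, Cfsg.Lie.chevD4, Cfsg.Lie.chevF4,
      Cfsg.Lie.chevE6, Cfsg.Lie.chevE7, Cfsg.Lie.chevE8])
    (ψ : ℕ → ℝ) (hodd : btf_Odd D ψ) (hch : btf_ChainAdd D ψ) (J : Set ℕ)
    (hJ : ∀ j, j ∈ J ↔ j < D.rank ∧ ψ (D.simple j) = 0)
    (hdom : ∀ i < D.rank, 0 ≤ ψ (D.simple i))
    (hpos : ∀ r, D.IsPosRoot r → 0 ≤ ψ r)
    (hposJ : ∀ r, D.IsPosRoot r → ¬ D.InRootSub J r → 0 < ψ r)
    (hzero : ∀ r, D.InRootSub J r → ψ r = 0) :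
    btf_PSub (btf_wt D ψ) ⊓ D.group F ≤ D.parabolicSubgroup F J ∧
      btf_USub (btf_wt D ψ) ⊓ D.group F ≤ D.unipotentRadical F J := by
  have hG1 : Good1 D := good1_of_mem D hD
  have hBle : D.borelSubgroup F ≤ btf_PSub (btf_wt D ψ) :=
    btf_borelSubgroup_le_PSub hG1 hodd hch hpos
  have hUle : D.unipotentRadical F J ≤ btf_UposSub (btf_wt D ψ) :=
    btf_unipotentRadical_le_UposSub hG1 hodd hch J hposJ
  have hLle : D.leviSubgroup F J ≤ btf_LSub (btf_wt D ψ) :=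
    btf_leviSubgroup_le_LSub hG1 hodd hch J hzero
  have hHle : D.diagonalSubgroup F ≤ btf_LSub (btf_wt D ψ) :=
    btf_diagonalSubgroup_le_LSub hG1 _
  refine bt2_ident (F := F) D hD ψ J hJ ?_ ?_ ?_ hHle ?_
  · intro r t g hr hg
    exact hBle ((le_sup_left : D.posUnipotent F ≤ D.borelSubgroup F)
      (Subgroup.subset_closure ⟨r, t, hr, hg⟩))
  · intro r t g hr hrJ hg
    exact hUle (Subgroup.subset_closure ⟨r, t, hr, hrJ, hg⟩)
  · intro r t g hr hg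
    exact hLle ((le_sup_right : _ ≤ D.leviSubgroup F J)
      (Subgroup.subset_closure ⟨r, t, hr, hg⟩))
  · intro i hi g hg hgP
    exact bt2_hn D hD ψ hi (hodd _ (hG1.simple_lt hi)) (hdom i hi) g hg hgP

end Cfsg.Agent.Helper2.BTIdent
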