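import Mathlib
import Cfsg.Agent.Helper2.BTIdent2
import Cfsg.Agent.Helper1.BTDom
import Cfsg.Agent.Helper8.BTWeylA

set_option autoImplicit false

/-!
# Borel–Tits (S2154): the identification step for the functionals `btw_phi D lam`

For a dominant parameter `lam` (the functional `φ = btw_phi D lam` is non-negative on the
fundamental roots) and `J = btf_zeroSet D lam` (the fundamental roots on which `φ` vanishes):
`P̂(φ) ⊓ G ≤ P_J` and `Û(φ) ⊓ G ≤ U_J`; in conjugated form: if `g⁻¹ x g ∈ P̂(φ)` for `x, g ∈ G`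
then `x ∈ g P_J g⁻¹`, and the same for `Û(φ)` and `U_J`.
-/

namespace Cfsg.Agent.Helper2.BTIdent

open Cfsg Cfsg.Lie Cfsg.Agent.Helper1.BTFilt Cfsg.Agent.Helper7 Cfsg.Agent.Helper7.Chev
  Cfsg.Agent.Helper8.BTW

variable {F : Type*} [Field F] [Fintype F] (D : ChevalleyDatum)

/-- `btw_phi D lam` is odd under `neg`. -/
theorem bt2_phi_odd
    (hD : D ∈ [Cfsg.Lie.chevG2, Cfsg.Lie.chevB2, Cfsg.Lie.chevD4, Cfsg.Lie.chevF4,
      Cfsg.Lie.chevE6, Cfsg.Lie.chevE7, Cfsg.Lie.chevE8]) (lam : ℕ → ℝ) :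
    btf_Odd D (btw_phi D lam) :=
  fun _ hr => btw_phi_neg (good2_of_mem D hD) lam hr

/-- `btw_phi D lam` is additive along chains. -/
theorem bt2_phi_chainAdd
    (hD : D ∈ [Cfsg.Lie.chevG2, Cfsg.Lie.chevB2, Cfsg.Lie.chevD4, Cfsg.Lie.chevF4,
      Cfsg.Lie.chevE6, Cfsg.Lie.chevE7, Cfsg.Lie.chevE8]) (lam : ℕ → ℝ) :
    btf_ChainAdd D (btw_phi D lam) :=
  fun _ hr _ hs _ hq => btw_phi_chain (good2_of_mem D hD) lam hr hs hq

/-- **Identification** for a dominant functional `φ = btw_phi D lam` and `J = btf_zeroSet D lam`: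
`P̂(φ) ⊓ G ≤ P_J` and `Û(φ) ⊓ G ≤ U_J`. -/
theorem bt2_ident_phi
    (hD : D ∈ [Cfsg.Lie.chevG2, Cfsg.Lie.chevB2, Cfsg.Lie.chevD4, Cfsg.Lie.chevF4,
      Cfsg.Lie.chevE6, Cfsg.Lie.chevE7, Cfsg.Lie.chevE8]) (lam : ℕ → ℝ)
    (hdom : ∀ i < D.rank, 0 ≤ btw_phi D lam (D.simple i)) :
    btf_PSub (btf_wt D (btw_phi D lam)) ⊓ D.group F ≤
        D.parabolicSubgroup F (btf_zeroSet D lam) ∧
      btf_USub (btf_wt D (btw_phi D lam)) ⊓ D.group F ≤
        D.unipotentRadical F (btf_zeroSet D lam) :=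
  bt2_ident_dom (F := F) D hD (btw_phi D lam) (bt2_phi_odd D hD lam) (bt2_phi_chainAdd D hD lam)
    (btf_zeroSet D lam) (fun _ => Iff.rfl) hdom
    (fun _ hr => btf_dom_nonneg hD hdom hr)
    (fun _ hr hrJ => btf_dom_pos hD hdom hr hrJ)
    (fun _ hr => (btf_dom_eq_zero_iff hD hdom hr.1).mpr hr)

/-- Membership in a conjugate subgroup, in the shape `g⁻¹ x g ∈ K → x ∈ g K g⁻¹`. -/
theorem bt2_mem_map_conj {G : Type*} [Group G] (K : Subgroup G) (g x : G)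
    (h : g⁻¹ * x * g ∈ K) : x ∈ K.map (MulAut.conj g).toMonoidHom := by
  refine ⟨g⁻¹ * x * g, h, ?_⟩
  show g * (g⁻¹ * x * g) * g⁻¹ = x
  group

/-- Conjugated form of the identification of `P̂(φ)`: for `g, x ∈ G` with `g⁻¹ x g ∈ P̂(φ)`,
`x` lies in the conjugate of `P_J` by `g`. -/
theorem bt2_ident_phi_conj_P
    (hD : D ∈ [Cfsg.Lie.chevG2, Cfsg.Lie.chevB2, Cfsg.Lie.chevD4, Cfsg.Lie.chevF4,
      Cfsg.Lie.chevE6, Cfsg.Lie.chevE7, Cfsg.Lie.chevE8]) (lam : ℕ → ℝ)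
    (hdom : ∀ i < D.rank, 0 ≤ btw_phi D lam (D.simple i))
    {g x : GL D.Idx F} (hg : g ∈ D.group F) (hx : x ∈ D.group F)
    (h : g⁻¹ * x * g ∈ btf_PSub (btf_wt D (btw_phi D lam))) :
    x ∈ (D.parabolicSubgroup F (btf_zeroSet D lam)).map (MulAut.conj g).toMonoidHom :=
  bt2_mem_map_conj _ g x ((bt2_ident_phi (F := F) D hD lam hdom).1
    ⟨h, (D.group F).mul_mem ((D.group F).mul_mem ((D.group F).inv_mem hg) hx) hg⟩)

/-- Conjugated form of the identification of `Û(φ)`. -/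
theorem bt2_ident_phi_conj_U
    (hD : D ∈ [Cfsg.Lie.chevG2, Cfsg.Lie.chevB2, Cfsg.Lie.chevD4, Cfsg.Lie.chevF4,
      Cfsg.Lie.chevE6, Cfsg.Lie.chevE7, Cfsg.Lie.chevE8]) (lam : ℕ → ℝ)
    (hdom : ∀ i < D.rank, 0 ≤ btw_phi D lam (D.simple i))
    {g x : GL D.Idx F} (hg : g ∈ D.group F) (hx : x ∈ D.group F)
    (h : g⁻¹ * x * g ∈ btf_USub (btf_wt D (btw_phi D lam))) :
    x ∈ (D.unipotentRadical F (btf_zeroSet D lam)).map (MulAut.conj g).toMonoidHom :=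
  bt2_mem_map_conj _ g x ((bt2_ident_phi (F := F) D hD lam hdom).2
    ⟨h, (D.group F).mul_mem ((D.group F).mul_mem ((D.group F).inv_mem hg) hx) hg⟩)

/-- **The conclusion of S2154 from the output of the optimisation step**: given `g ∈ G`, a dominant
parameter `lam` whose functional is not identically zero on the roots, `V ≤ G` with
`g⁻¹ V g ≤ Û(φ)` and `g⁻¹ (N_G(V)) g ≤ P̂(φ)`. -/
theorem bt2_conclusion
    (hD : D ∈ [Cfsg.Lie.chevG2, Cfsg.Lie.chevB2, Cfsg.Lie.chevD4, Cfsg.Lie.chevF4,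
      Cfsg.Lie.chevE6, Cfsg.Lie.chevE7, Cfsg.Lie.chevE8]) (lam : ℕ → ℝ)
    (hdom : ∀ i < D.rank, 0 ≤ btw_phi D lam (D.simple i))
    (hne : ∃ r < D.nroots, btw_phi D lam r ≠ 0)
    (V : Subgroup (GL D.Idx F)) (hVG : V ≤ D.group F)
    {g : GL D.Idx F} (hg : g ∈ D.group F)
    (hV : ∀ v ∈ V, g⁻¹ * v * g ∈ btf_USub (btf_wt D (btw_phi D lam)))
    (hN : ∀ x ∈ Subgroup.normalizer (V : Set (GL D.Idx F)) ⊓ D.group F,
      g⁻¹ * x * g ∈ btf_PSub (btf_wt D (btw_phi D lam))) :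
    ∃ g ∈ D.group F, ∃ J : Set ℕ, (∃ i, i < D.rank ∧ i ∉ J) ∧
      Subgroup.normalizer (V : Set (GL D.Idx F)) ⊓ D.group F ≤
        (D.parabolicSubgroup F J).map (MulAut.conj g).toMonoidHom ∧
      V ≤ (D.unipotentRadical F J).map (MulAut.conj g).toMonoidHom :=
  ⟨g, hg, btf_zeroSet D lam, btf_zeroSet_proper hD lam hne,
    fun x hx => bt2_ident_phi_conj_P D hD lam hdom hg hx.2 (hN x hx),
    fun v hv => bt2_ident_phi_conj_U D hD lam hdom hg (hVG hv) (hV v hv)⟩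

end Cfsg.Agent.Helper2.BTIdent
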