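import Mathlib

set_option autoImplicit false

/-!
Baer's trick: on a group of class at most two and odd prime exponent `p`, the operation
`x ∘ y = x y [y, x]^((p+1)/2)` is a commutative group law preserved by all endomorphisms.
-/

namespace Cfsg.Agent.Helper2.BaerC

open scoped commutatorElement

universe u v

/-- class at most two and exponent dividing `p` -/
structure Hyp (P : Type u) [Group P] (p : ℕ) : Prop where
  cen : ∀ x y z : P, ⁅x, y⁆ * z = z * ⁅x, y⁆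
  exp : ∀ x : P, x ^ p = 1

variable {P : Type u} [Group P] {p : ℕ}

namespace Hyp

theorem comm_pow (hB : Hyp P p) (x y z : P) (n : ℕ) : ⁅x, y⁆ ^ n * z = z * ⁅x, y⁆ ^ n :=
  ((show Commute ⁅x, y⁆ z from hB.cen x y z).pow_left n).eq

theorem comm_mul_left (hB : Hyp P p) (x y z : P) : ⁅x * y, z⁆ = ⁅x, z⁆ * ⁅y, z⁆ := by
  have h : ⁅x * y, z⁆ = x * ⁅y, z⁆ * x⁻¹ * ⁅x, z⁆ := by
    simp only [commutatorElement_def]; group
  rw [h, ← hB.cen y z x, mul_inv_cancel_right, hB.cen y z]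

theorem comm_mul_right (hB : Hyp P p) (x y z : P) : ⁅z, x * y⁆ = ⁅z, x⁆ * ⁅z, y⁆ := by
  have h : ⁅z, x * y⁆ = ⁅z, x⁆ * (x * ⁅z, y⁆ * x⁻¹) := by
    simp only [commutatorElement_def]; group
  rw [h, ← hB.cen z y x, mul_inv_cancel_right]

theorem comm_central_right (hB : Hyp P p) (z u v : P) (n : ℕ) : ⁅z, ⁅u, v⁆ ^ n⁆ = 1 := by
  rw [commutatorElement_eq_one_iff_commute]
  exact ((show Commute ⁅u, v⁆ z from hB.cen u v z).pow_left n).symm

theorem comm_central_left (hB : Hyp P p) (z u v : P) (n : ℕ) : ⁅⁅u, v⁆ ^ n, z⁆ = 1 := by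
  rw [commutatorElement_eq_one_iff_commute]
  exact ((show Commute ⁅u, v⁆ z from hB.cen u v z).pow_left n)

end Hyp

/-- the underlying set with Baer's operation -/
structure B (P : Type u) [Group P] (p : ℕ) (hB : Hyp P p) where
  val : P

namespace B

variable {hB : Hyp P p}

theorem ext' {a b : B P p hB} (h : a.val = b.val) : a = b := by
  cases a; cases b; simp only at h; rw [h]

/-- Baer's product -/
def bmul (hB : Hyp P p) (x y : P) : P := x * y * ⁅y, x⁆ ^ ((p + 1) / 2)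

theorem bmul_assoc (hB : Hyp P p) (x y z : P) :
    bmul hB (bmul hB x y) z = bmul hB x (bmul hB y z) := by
  unfold bmul
  set h := (p + 1) / 2
  rw [hB.comm_mul_right, hB.comm_central_right, mul_one, hB.comm_mul_right,
    hB.comm_mul_left, hB.comm_central_left, mul_one, hB.comm_mul_left]
  have c1 : Commute ⁅z, x⁆ ⁅z, y⁆ := hB.cen z x _
  have c2 : Commute ⁅y, x⁆ ⁅z, x⁆ := hB.cen y x _
  rw [c1.mul_pow, c2.mul_pow]
  -- LHS: x * y * [y,x]^h * z * ([z,x]^h * [z,y]^h)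
  -- RHS: x * (y * z * [z,y]^h) * ([y,x]^h * [z,x]^h)
  have e1 : x * y * ⁅y, x⁆ ^ h * z = x * y * z * ⁅y, x⁆ ^ h := by
    rw [mul_assoc (x * y), hB.comm_pow y x z h, ← mul_assoc]
  rw [e1]
  have e2 : ⁅z, x⁆ ^ h * ⁅z, y⁆ ^ h = ⁅z, y⁆ ^ h * ⁅z, x⁆ ^ h := hB.comm_pow z x _ h
  have e3 : ⁅z, y⁆ ^ h * (⁅y, x⁆ ^ h * ⁅z, x⁆ ^ h) = ⁅y, x⁆ ^ h * (⁅z, y⁆ ^ h * ⁅z, x⁆ ^ h) := by
    rw [← mul_assoc, hB.comm_pow z y _ h, mul_assoc]
  calc x * y * z * ⁅y, x⁆ ^ h * (⁅z, x⁆ ^ h * ⁅z, y⁆ ^ h)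
      = x * y * z * (⁅y, x⁆ ^ h * (⁅z, y⁆ ^ h * ⁅z, x⁆ ^ h)) := by rw [e2, mul_assoc]
    _ = x * y * z * (⁅z, y⁆ ^ h * (⁅y, x⁆ ^ h * ⁅z, x⁆ ^ h)) := by rw [e3]
    _ = x * (y * z * ⁅z, y⁆ ^ h) * (⁅y, x⁆ ^ h * ⁅z, x⁆ ^ h) := by simp only [mul_assoc]

theorem bmul_comm (hB : Hyp P p) (hp : Odd p) (x y : P) : bmul hB x y = bmul hB y x := by
  unfold bmul
  set h := (p + 1) / 2 with hh
  have h2 : 2 * h = p + 1 := by
    obtain ⟨k, hk⟩ := hp
    rw [hh, hk]; omega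
  set c := ⁅y, x⁆ with hc
  have hinv : ⁅x, y⁆ = c⁻¹ := by rw [hc, commutatorElement_inv]
  have hyx : y * x = c * (x * y) := by rw [hc, commutatorElement_def]; group
  have hcp : c ^ p = 1 := hB.exp c
  rw [hinv, hyx, inv_pow]
  have e : c * (x * y) = x * y * c := (hB.cen y x (x * y))
  rw [e, mul_assoc (x * y)]
  congr 1
  -- c ^ h = c * (c ^ h)⁻¹
  have : c ^ h * c ^ h = c := by
    rw [← pow_add, ← two_mul, h2, pow_succ, hcp, one_mul]
  rw [eq_mul_inv_iff_mul_eq, this]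

noncomputable instance instCommGroup [hp : Fact (Odd p)] : CommGroup (B P p hB) where
  mul a b := ⟨bmul hB a.val b.val⟩
  mul_assoc a b c := ext' (bmul_assoc hB a.val b.val c.val)
  one := ⟨1⟩
  one_mul a := ext' (by
    show bmul hB 1 a.val = a.val
    unfold bmul; simp)
  mul_one a := ext' (by
    show bmul hB a.val 1 = a.val
    unfold bmul; simp)
  inv a := ⟨a.val⁻¹⟩
  inv_mul_cancel a := ext' (by
    show bmul hB a.val⁻¹ a.val = 1
    unfold bmul; simp [commutatorElement_def])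
  mul_comm a b := ext' (bmul_comm hB hp.out a.val b.val)

end B

end Cfsg.Agent.Helper2.BaerC
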