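import Mathlib
import Cfsg.Agent.Helper2.BaerCA

set_option autoImplicit false

/-!
The averaging argument: if `A K` acts on a group `P` of class two and odd prime exponent `p`,
`K` a normal `p'`-subgroup and `A` a `p`-subgroup, and `K` fixes all `A`-fixed points, then `K` acts
trivially.
-/

namespace Cfsg.Agent.Helper2.BaerC

open scoped commutatorElement

universe u v

variable {P : Type u} [Group P] {p : ℕ}

namespace B

section basic
variable [hpo : Fact (Odd p)] {hB : Hyp P p}

theorem mul_val (a b : B P p hB) : (a * b).val = bmul hB a.val b.val := rfl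
theorem one_val : (1 : B P p hB).val = 1 := rfl
theorem inv_val (a : B P p hB) : (a⁻¹).val = a.val⁻¹ := rfl

theorem pow_val (a : B P p hB) (n : ℕ) : (a ^ n).val = a.val ^ n := by
  induction n with
  | zero => rw [pow_zero, pow_zero]; rfl
  | succ n ih =>
    rw [pow_succ, mul_val, ih, pow_succ]
    unfold bmul
    have : ⁅a.val, a.val ^ n⁆ = 1 := by
      rw [commutatorElement_eq_one_iff_commute]; exact (Commute.refl a.val).pow_right n
    rw [this, one_pow, mul_one]

theorem pow_p (a : B P p hB) : a ^ p = 1 := ext' (by rw [pow_val, one_val]; exact hB.exp _)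

/-- endomorphisms of `P` induce endomorphisms of `B` -/
noncomputable def mapHom (hB : Hyp P p) (φ : P →* P) : B P p hB →* B P p hB where
  toFun a := ⟨φ a.val⟩
  map_one' := ext' (by simp [one_val])
  map_mul' a b := ext' (by
    show φ (bmul hB a.val b.val) = bmul hB (φ a.val) (φ b.val)
    unfold bmul
    rw [map_mul, map_mul, map_pow, map_commutatorElement])

theorem mapHom_val (φ : P →* P) (a : B P p hB) : (mapHom hB φ a).val = φ a.val := rfl

/-- the obvious bijection -/
def equivP (hB : Hyp P p) : B P p hB ≃ P := ⟨B.val, B.mk, fun _ => rfl, fun _ => rfl⟩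

end basic

end B

open B in
theorem endgame {H : Type v} [Group H] [Finite P] [MulDistribMulAction H P]
    [hp : Fact p.Prime] (hp2 : p ≠ 2) (hB : Hyp P p)
    (A K : Subgroup H) [hKn : K.Normal] [Finite K] (hA : IsPGroup p A) (hK : (Nat.card K).Coprime p)
    (hyp : ∀ x : P, (∀ a ∈ A, a • x = x) → ∀ k ∈ K, k • x = x) : ∀ k ∈ K, ∀ x : P, k • x = x := by
  haveI : Fact (Odd p) := ⟨hp.out.odd_of_ne_two hp2⟩
  letI : Fintype K := Fintype.ofFinite K
  haveI : Finite (B P p hB) := Finite.of_equiv P (equivP hB).symm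
  -- the action on B
  let S : H → (B P p hB →* B P p hB) := fun h => mapHom hB (MulDistribMulAction.toMonoidHom P h)
  have hSval : ∀ h a, (S h a).val = h • a.val := fun h a => rfl
  have hSmul : ∀ h1 h2 a, S (h1 * h2) a = S h1 (S h2 a) := by
    intro h1 h2 a; apply ext'; rw [hSval, hSval, hSval, mul_smul]
  have hSone : ∀ a, S 1 a = a := by
    intro a; apply ext'; rw [hSval, one_smul]
  -- averaging
  let σ : B P p hB →* B P p hB := ∏ k : K, S (k : H)
  have hσ : ∀ a, σ a = ∏ k : K, S (k : H) a := fun a => MonoidHom.finset_prod_apply _ _ _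
  have hSσ : ∀ h a, S h (σ a) = σ (S h a) := by
    intro h a
    rw [hσ, hσ, map_prod]
    let e : K ≃ K :=
      { toFun := fun k => ⟨h * k * h⁻¹, hKn.conj_mem k k.2 h⟩
        invFun := fun k => ⟨h⁻¹ * k * h, by
          have := hKn.conj_mem k k.2 h⁻¹
          rwa [inv_inv] at this⟩
        left_inv := fun k => by apply Subtype.ext; simp only; group
        right_inv := fun k => by apply Subtype.ext; simp only; group }
    apply Fintype.prod_equiv e
    intro k
    have e1 : h * (k : H) = ((e k : K) : H) * h := by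
      show h * (k : H) = h * k * h⁻¹ * h
      group
    rw [← hSmul, ← hSmul, e1]
  have hσK : ∀ k0 ∈ K, ∀ a, σ (S k0 a) = σ a := by
    intro k0 hk0 a
    rw [hσ, hσ]
    apply Fintype.prod_equiv (Equiv.mulRight (⟨k0, hk0⟩ : K))
    intro k
    rw [← hSmul]
    rfl
  have hσfix : ∀ b, (∀ k ∈ K, S k b = b) → σ b = b ^ Nat.card K := by
    intro b hb
    rw [hσ, Finset.prod_congr rfl (fun (k : K) _ => hb (k : H) k.2), Finset.prod_const, Finset.card_univ,
      Nat.card_eq_fintype_card]
  obtain ⟨m, -, hm⟩ := Nat.exists_mul_mod_eq_one_of_coprime hK hp.out.one_lt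
  have hpow : ∀ b : B P p hB, b ^ (Nat.card K * m) = b := by
    intro b
    rw [pow_eq_pow_mod _ (pow_p b), hm, pow_one]
  let π : B P p hB →* B P p hB := MonoidHom.id _ / σ ^ m
  have hπ : ∀ a, π a = a / (σ a) ^ m := fun a => rfl
  have hSπ : ∀ h a, S h (π a) = π (S h a) := by
    intro h a
    rw [hπ, hπ, map_div, map_pow, hSσ]
  have hπfix : ∀ b, (∀ k ∈ K, S k b = b) → π b = 1 := by
    intro b hb
    rw [hπ, hσfix b hb, ← pow_mul, hpow, div_self']
  have hσσ : ∀ a, σ (σ a) = (σ a) ^ Nat.card K := by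
    intro a
    apply hσfix
    intro k hk
    rw [hSσ, hσK k hk]
  have hππ : ∀ a, π (π a) = π a := by
    intro a
    have h1 : σ (π a) = 1 := by
      rw [hπ, map_div, map_pow, hσσ, ← pow_mul, hpow, div_self']
    rw [hπ (π a), h1, one_pow, div_one]
  -- the image of π
  by_contra hcon
  push Not at hcon
  obtain ⟨k, hk, x, hkx⟩ := hcon
  have hπx : π ⟨x⟩ ≠ 1 := by
    intro h1
    rw [hπ, div_eq_one] at h1
    apply hkx
    have h2 : S k ⟨x⟩ = (⟨x⟩ : B P p hB) := by
      rw [h1, map_pow, hSσ, hσK k hk]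
    have := congrArg B.val h2
    rwa [hSval] at this
  let W : Subgroup (B P p hB) := π.range
  have hBp : IsPGroup p (B P p hB) := fun b => ⟨1, by rw [pow_one]; exact pow_p b⟩
  have hWp : IsPGroup p W := hBp.to_subgroup W
  have hWnt : Nat.card W ≠ 1 := by
    intro h1
    rw [Subgroup.card_eq_one] at h1
    apply hπx
    have : π ⟨x⟩ ∈ W := ⟨_, rfl⟩
    rw [h1, Subgroup.mem_bot] at this
    exact this
  have hpW : p ∣ Nat.card W := by
    rcases hWp.card_eq_or_dvd with h | h
    · exact absurd h hWnt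
    · exact h
  letI : MulAction A W :=
    { smul := fun a w => ⟨S (a : H) w.1, by
        obtain ⟨b, hb⟩ := w.2
        exact ⟨S (a : H) b, by rw [← hSπ, hb]⟩⟩
      one_smul := fun w => Subtype.ext (hSone w.1)
      mul_smul := fun a b w => Subtype.ext (hSmul a b w.1) }
  have hsm : ∀ (a : A) (w : W), ((a • w : W) : B P p hB) = S (a : H) w.1 := fun a w => rfl
  have h1fix : (1 : W) ∈ MulAction.fixedPoints A W := by
    intro a
    apply Subtype.ext
    rw [hsm]
    exact map_one _
  obtain ⟨b, hbfix, hb1⟩ := hA.exists_fixed_point_of_prime_dvd_card_of_fixed_point W hpW h1fix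
  apply hb1
  apply Subtype.ext
  obtain ⟨c, hc⟩ := b.2
  have hA' : ∀ a ∈ A, a • (b.1.val) = b.1.val := by
    intro a ha
    have := hbfix ⟨a, ha⟩
    have h2 := congrArg Subtype.val this
    rw [hsm] at h2
    have h3 := congrArg B.val h2
    rwa [hSval] at h3
  have hK' := hyp _ hA'
  have h4 : π b.1 = 1 := by
    apply hπfix
    intro k hk
    apply ext'
    rw [hSval]
    exact hK' k hk
  rw [← hc, hππ, hc] at h4
  exact h4.symm ▸ rfl
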