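import Mathlib
import Cfsg.Prelude.Def_KGroupFacts
import Cfsg.Agent.Helper2.Component
import Cfsg.Agent.Helper2.Signalizer1

/-!
Helper lemmas (helper2): the Schreier step.  A perfect subgroup normalizing a perfect subgroup `L` with
`Out(L/Z(L))` solvable lies in `L · C(L)`.
-/

set_option autoImplicit false

namespace Cfsg.Agent.Helper2

open scoped commutatorElement

section general
variable {G : Type*} [Group G]

/-- Conjugation by an element of `N_G(L)`, as an automorphism of `L`. -/
def conjNormalizer (L : Subgroup G) (n : ↥(Subgroup.normalizer (L : Set G))) : ↥L ≃* ↥L where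
  toFun x := ⟨(n : G) * x * (n : G)⁻¹, (Subgroup.mem_normalizer_iff.mp n.2 x).mp x.2⟩
  invFun x := ⟨(n : G)⁻¹ * x * (n : G), by
    have := (Subgroup.mem_normalizer_iff.mp (Subgroup.inv_mem _ n.2) x).mp x.2
    simpa using this⟩
  left_inv x := by ext; simp [mul_assoc]
  right_inv x := by ext; simp [mul_assoc]
  map_mul' x y := by ext; simp [mul_assoc]

/-- Conjugation by an element of `N_G(L)`, as an automorphism of `L/Z(L)`. -/
def conjQuot (L : Subgroup G) (n : ↥(Subgroup.normalizer (L : Set G))) :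
    (↥L ⧸ Subgroup.center ↥L) ≃* (↥L ⧸ Subgroup.center ↥L) :=
  QuotientGroup.congr (Subgroup.center ↥L) (Subgroup.center ↥L) (conjNormalizer L n)
    (Subgroup.characteristic_iff_map_eq.mp inferInstance (conjNormalizer L n))

theorem conjQuot_mk (L : Subgroup G) (n : ↥(Subgroup.normalizer (L : Set G))) (x : ↥L) :
    conjQuot L n (QuotientGroup.mk x) =
      QuotientGroup.mk (⟨(n : G) * x * (n : G)⁻¹, (Subgroup.mem_normalizer_iff.mp n.2 x).mp x.2⟩ : ↥L) :=
  rfl

/-- The action of `N_G(L)` on `L/Z(L)`. -/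
def conjQuotHom (L : Subgroup G) :
    ↥(Subgroup.normalizer (L : Set G)) →* MulAut (↥L ⧸ Subgroup.center ↥L) where
  toFun n := conjQuot L n
  map_one' := by
    ext x
    induction x using QuotientGroup.induction_on with
    | H x =>
      rw [conjQuot_mk]
      simp
  map_mul' a b := by
    ext x
    induction x using QuotientGroup.induction_on with
    | H x =>
      rw [MulAut.mul_apply, conjQuot_mk, conjQuot_mk, conjQuot_mk]
      congr 1
      ext
      simp [mul_assoc]

theorem conjQuotHom_mk (L : Subgroup G) (n : ↥(Subgroup.normalizer (L : Set G))) (x : ↥L) :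
    conjQuotHom L n (QuotientGroup.mk x) =
      QuotientGroup.mk (⟨(n : G) * x * (n : G)⁻¹, (Subgroup.mem_normalizer_iff.mp n.2 x).mp x.2⟩ : ↥L) :=
  rfl

theorem conjQuotHom_of_mem (L : Subgroup G) (l : ↥L) :
    conjQuotHom L ⟨(l : G), Subgroup.le_normalizer l.2⟩ =
      MulAut.conj (QuotientGroup.mk l : ↥L ⧸ Subgroup.center ↥L) := by
  ext x
  induction x using QuotientGroup.induction_on with
  | H x =>
    rw [conjQuotHom_mk, MulAut.conj_apply, ← QuotientGroup.mk_mul, ← QuotientGroup.mk_inv,
      ← QuotientGroup.mk_mul]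
    rfl

theorem ker_conjQuotHom_le_centralizer (L : Subgroup G) (hperf : ⁅L, L⁆ = L) :
    (conjQuotHom L).ker.map (Subgroup.normalizer (L : Set G)).subtype ≤
      Subgroup.centralizer (L : Set G) := by
  set B := (conjQuotHom L).ker.map (Subgroup.normalizer (L : Set G)).subtype with hB
  set Z := (Subgroup.center ↥L).map L.subtype with hZ
  have hZL : Z ≤ Subgroup.centralizer (L : Set G) := by
    rintro _ ⟨z, hz, rfl⟩
    rw [Subgroup.mem_centralizer_iff]
    intro x hx
    have := Subgroup.mem_center_iff.mp hz ⟨x, hx⟩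
    exact congrArg Subtype.val this
  have h1 : ⁅B, L⁆ ≤ Z := by
    rw [Subgroup.commutator_le]
    rintro _ ⟨b, hb, rfl⟩ x hx
    have hb : conjQuotHom L b = 1 := MonoidHom.mem_ker.mp hb
    have h2 := congrArg (fun φ : MulAut (↥L ⧸ Subgroup.center ↥L) => φ (QuotientGroup.mk ⟨x, hx⟩)) hb
    simp only [MulAut.one_apply] at h2
    rw [conjQuotHom_mk] at h2
    have h3 := QuotientGroup.eq.mp h2.symm
    refine ⟨_, h3, ?_⟩
    have hz := Subgroup.mem_center_iff.mp h3 ⟨x, hx⟩
    have hz' := congrArg Subtype.val hz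
    simp only [Subgroup.coe_mul, Subgroup.coe_inv] at hz'
    rw [commutatorElement_def]
    simp only [Subgroup.coe_subtype, Subgroup.coe_mul, Subgroup.coe_inv]
    have h5 : (b : G) * x * (b : G)⁻¹ = x⁻¹ * ((b : G) * x * (b : G)⁻¹) * x := by
      rw [← hz']; group
    calc x⁻¹ * ((b : G) * x * (b : G)⁻¹) = (x⁻¹ * ((b : G) * x * (b : G)⁻¹) * x) * x⁻¹ := by group
      _ = (b : G) * x * (b : G)⁻¹ * x⁻¹ := by rw [← h5]
  have h2 : ⁅⁅B, L⁆, L⁆ = ⊥ := by
    rw [eq_bot_iff]
    refine (Subgroup.commutator_mono h1 (le_refl L)).trans ?_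
    rw [← eq_bot_iff, Subgroup.commutator_eq_bot_iff_le_centralizer]
    exact hZL
  have h3 := commutator_eq_bot_of_commutator_commutator_eq_bot hperf h2
  rwa [Subgroup.commutator_eq_bot_iff_le_centralizer] at h3

end general

end Cfsg.Agent.Helper2
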