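import Mathlib
import Cfsg.Agent.Helper2.Balance2

/-!
Helper lemmas (helper2): the Schreier step.  A perfect subgroup normalizing a perfect subgroup `L` with
`Out(L/Z(L))` solvable lies in `L · C(L)`.
-/

set_option autoImplicit false

namespace Cfsg.Agent.Helper2

open scoped commutatorElement

section general
variable {G : Type*} [Group G]

theorem le_sup_centralizer_of_out_solvable (L : Subgroup G) (hperfL : ⁅L, L⁆ = L)
    (hS : Group.IsSolvable (Cfsg.Out (↥L ⧸ Subgroup.center ↥L))) (K : Subgroup G) (hK : ⁅K, K⁆ = K)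
    (hKL : K ≤ Subgroup.normalizer (L : Set G)) : K ≤ L ⊔ Subgroup.centralizer (L : Set G) := by
  have hKperf : Group.IsPerfect ↥K := Subgroup.isPerfect_iff.mpr hK
  set Ψ : ↥K →* Cfsg.Out (↥L ⧸ Subgroup.center ↥L) :=
    ((QuotientGroup.mk' (Cfsg.Inn (↥L ⧸ Subgroup.center ↥L))).comp (conjQuotHom L)).comp
      (Subgroup.inclusion hKL) with hΨ
  have hperfR : Group.IsPerfect ↥Ψ.range := Group.IsPerfect.range Ψ
  have hss : Subsingleton ↥Ψ.range := by
    by_contra h
    rw [not_subsingleton_iff_nontrivial] at h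
    exact Group.IsPerfect.not_isSolvable ↥Ψ.range inferInstance
  intro k hk
  have h1 : Ψ ⟨k, hk⟩ = 1 := by
    have := Subsingleton.elim (⟨Ψ ⟨k, hk⟩, MonoidHom.mem_range.mpr ⟨_, rfl⟩⟩ : ↥Ψ.range) 1
    exact congrArg Subtype.val this
  have h2 : conjQuotHom L ⟨k, hKL hk⟩ ∈ Cfsg.Inn (↥L ⧸ Subgroup.center ↥L) := by
    rw [← QuotientGroup.eq_one_iff]
    exact h1
  obtain ⟨lb, hlb⟩ := h2
  obtain ⟨l, rfl⟩ := QuotientGroup.mk_surjective lb
  have hlN : (l : G) ∈ Subgroup.normalizer (L : Set G) := Subgroup.le_normalizer l.2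
  have h3 : conjQuotHom L (⟨(l : G), hlN⟩⁻¹ * ⟨k, hKL hk⟩) = 1 := by
    rw [map_mul, map_inv, conjQuotHom_of_mem, ← hlb, inv_mul_cancel]
  have h4' : (Subgroup.normalizer (L : Set G)).subtype (⟨(l : G), hlN⟩⁻¹ * ⟨k, hKL hk⟩) ∈
      Subgroup.centralizer (L : Set G) :=
    ker_conjQuotHom_le_centralizer L hperfL (Subgroup.mem_map_of_mem _ (MonoidHom.mem_ker.mpr h3))
  have h4 : (l : G)⁻¹ * k ∈ Subgroup.centralizer (L : Set G) := h4'
  have h5 : k = (l : G) * ((l : G)⁻¹ * k) := by group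
  rw [h5]
  exact Subgroup.mul_mem _ (le_sup_left (a := L) l.2) (le_sup_right (a := L) h4)

end general

end Cfsg.Agent.Helper2
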