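import Mathlib
import Cfsg.Agent.Helper2.Layer
import Cfsg.Agent.Helper1.Coprime

/-!
Helper lemmas (helper2): a subgroup lying in `L · C(L)` for every component `L` lies in `E(G) · C(E(G))`.
-/

set_option autoImplicit false

namespace Cfsg.Agent.Helper2

section general
variable {G : Type*} [Group G]

theorem le_iSup_sup_iInf_centralizer (K : Subgroup G)
    (h : ∀ L : Subgroup G, Cfsg.IsComponent L → K ≤ L ⊔ Subgroup.centralizer (L : Set G)) :
    ∀ S : Finset (Subgroup G), (∀ L ∈ S, Cfsg.IsComponent L) →
      K ≤ (⨆ L ∈ S, L) ⊔ (⨅ L ∈ S, Subgroup.centralizer (L : Set G)) := by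
  classical
  intro S
  induction S using Finset.induction_on with
  | empty =>
    intro _
    simp
  | insert L₀ S hL₀ ih =>
    intro hS
    have hS' : ∀ L ∈ S, Cfsg.IsComponent L := fun L hL => hS L (Finset.mem_insert_of_mem hL)
    have hL₀c : Cfsg.IsComponent L₀ := hS L₀ (Finset.mem_insert_self L₀ S)
    have ih' := ih hS'
    set ES := ⨆ L ∈ S, L with hES
    set CS := ⨅ L ∈ S, Subgroup.centralizer (L : Set G) with hCS
    rw [Finset.iSup_insert, Finset.iInf_insert]
    -- `L₀` commutes with every `L ∈ S`
    have hcomm : ∀ L ∈ S, L₀ ≤ Subgroup.centralizer (L : Set G) := by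
      intro L hL
      rw [← Subgroup.commutator_eq_bot_iff_le_centralizer]
      apply components_commute hL₀c (hS' L hL)
      intro heq
      exact hL₀ (heq ▸ hL)
    have hL₀CS : L₀ ≤ CS := by
      rw [hCS]
      exact le_iInf₂ hcomm
    have hESC : ES ≤ Subgroup.centralizer (L₀ : Set G) := by
      rw [hES]
      apply iSup₂_le
      intro L hL
      rw [Subgroup.le_centralizer_iff]
      exact hcomm L hL
    have hCSES : CS ≤ Subgroup.normalizer (ES : Set G) := by
      refine le_trans ?_ (Subgroup.centralizer_le_normalizer _)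
      rw [Subgroup.le_centralizer_iff, hES]
      apply iSup₂_le
      intro L hL
      rw [Subgroup.le_centralizer_iff, hCS]
      exact iInf₂_le L hL
    intro k hk
    obtain ⟨e, he, c, hc, hkec⟩ := Cfsg.Agent.Helper1.mem_sup_of_le_normalizer hCSES (ih' hk)
    obtain ⟨l, hl, c₀, hc₀, hklc⟩ := Cfsg.Agent.Helper1.mem_sup_of_le_normalizer
      (Subgroup.centralizer_le_normalizer (L₀ : Set G)) (h L₀ hL₀c hk)
    have hel : e⁻¹ * l = l * e⁻¹ := by
      have := hESC (Subgroup.inv_mem _ he)
      rw [Subgroup.mem_centralizer_iff] at this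
      exact (this l hl).symm
    have hc'' : l⁻¹ * c = e⁻¹ * c₀ := by
      have h1 : c = e⁻¹ * (l * c₀) := by rw [← hklc, hkec]; group
      rw [h1, ← mul_assoc e⁻¹, hel]
      group
    have hk' : k = (l * e) * (l⁻¹ * c) := by
      rw [hkec]
      have hel' : l * e = e * l := by
        have := hESC he
        rw [Subgroup.mem_centralizer_iff] at this
        exact this l hl
      rw [hel']; group
    have hgoal : k ∈ (L₀ ⊔ ES) ⊔ (Subgroup.centralizer (L₀ : Set G) ⊓ CS) := by
      rw [hk']
      apply Subgroup.mul_mem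
      · apply Subgroup.mem_sup_left
        exact Subgroup.mul_mem _ (Subgroup.mem_sup_left hl) (Subgroup.mem_sup_right he)
      · apply Subgroup.mem_sup_right
        refine ⟨?_, ?_⟩
        · rw [hc'']
          exact Subgroup.mul_mem _ (hESC (Subgroup.inv_mem _ he)) hc₀
        · exact Subgroup.mul_mem _ (hL₀CS (Subgroup.inv_mem _ hl)) hc
    exact hgoal

theorem le_layer_sup_centralizer [Finite G] (K : Subgroup G)
    (h : ∀ L : Subgroup G, Cfsg.IsComponent L → K ≤ L ⊔ Subgroup.centralizer (L : Set G)) :
    K ≤ Cfsg.layer G ⊔ Subgroup.centralizer (Cfsg.layer G : Set G) := by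
  classical
  have hfin : Set.Finite {L : Subgroup G | Cfsg.IsComponent L} := Set.toFinite _
  have h1 := le_iSup_sup_iInf_centralizer K h hfin.toFinset
    (fun L hL => (Set.Finite.mem_toFinset hfin).mp hL)
  refine h1.trans (sup_le_sup ?_ ?_)
  · apply iSup₂_le
    intro L hL
    exact component_le_layer ((Set.Finite.mem_toFinset hfin).mp hL)
  · intro x hx
    simp only [Subgroup.mem_iInf] at hx
    have h2 : Cfsg.layer G ≤ Subgroup.centralizer ({x} : Set G) := by
      unfold Cfsg.layer
      apply sSup_le
      intro L hL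
      intro y hy
      have := hx L ((Set.Finite.mem_toFinset hfin).mpr hL)
      rw [Subgroup.mem_centralizer_iff] at this
      rw [Subgroup.mem_centralizer_singleton_iff]
      exact this y hy
    rw [Subgroup.mem_centralizer_iff]
    intro y hy
    have := h2 hy
    rw [Subgroup.mem_centralizer_singleton_iff] at this
    exact this

end general

end Cfsg.Agent.Helper2
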