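import Mathlib
import Cfsg.Agent.Helper2.Conj

set_option autoImplicit false

namespace Cfsg.Agent.Helper2

variable {G : Type*} [Group G]

/-- Partial diagonal product `l · l^x · l^{x^2} ⋯ l^{x^{n-1}}`. -/
def diagProd (x : G) : ℕ → G → G
  | 0, _ => 1
  | n + 1, l => diagProd x n l * (x ^ n * l * (x ^ n)⁻¹)

@[simp] theorem diagProd_zero (x l : G) : diagProd x 0 l = 1 := rfl

theorem diagProd_succ (x : G) (n : ℕ) (l : G) :
    diagProd x (n + 1) l = diagProd x n l * (x ^ n * l * (x ^ n)⁻¹) := rfl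

theorem diagProd_one (x l : G) : diagProd x 1 l = l := by
  rw [diagProd_succ, diagProd_zero, pow_zero]; group

/-- The hypothesis that the conjugates `L^{x^i}`, `i < p`, commute pairwise. -/
def ConjCommute (x : G) (L : Subgroup G) (p : ℕ) : Prop :=
  ∀ i j : ℕ, i < p → j < p → i ≠ j →
    ∀ u ∈ cj (x ^ i) L, ∀ v ∈ cj (x ^ j) L, u * v = v * u

theorem diagProd_mem (x : G) (L : Subgroup G) (n : ℕ) {l : G} (hl : l ∈ L) :
    diagProd x n l ∈ ⨆ i : ℕ, cj (x ^ i) L := by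
  induction n with
  | zero => exact Subgroup.one_mem _
  | succ n ih =>
    rw [diagProd_succ]
    apply Subgroup.mul_mem _ ih
    exact (le_iSup (fun i : ℕ => cj (x ^ i) L) n) (conj_mem_cj L (x ^ n) l hl)

theorem diagProd_comm {x : G} {L : Subgroup G} {p : ℕ} (h : ConjCommute x L p) :
    ∀ n j : ℕ, n ≤ j → j < p → ∀ l ∈ L, ∀ v ∈ cj (x ^ j) L,
      diagProd x n l * v = v * diagProd x n l := by
  intro n
  induction n with
  | zero => intro j _ _ l _ v _; simp
  | succ n ih =>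
    intro j hnj hjp l hl v hv
    rw [diagProd_succ]
    have h1 : (x ^ n * l * (x ^ n)⁻¹) * v = v * (x ^ n * l * (x ^ n)⁻¹) :=
      h n j (by omega) hjp (by omega) _ (conj_mem_cj L (x ^ n) l hl) v hv
    have h2 := ih j (by omega) hjp l hl v hv
    calc diagProd x n l * (x ^ n * l * (x ^ n)⁻¹) * v
        = diagProd x n l * ((x ^ n * l * (x ^ n)⁻¹) * v) := by group
      _ = diagProd x n l * (v * (x ^ n * l * (x ^ n)⁻¹)) := by rw [h1]
      _ = (diagProd x n l * v) * (x ^ n * l * (x ^ n)⁻¹) := by group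
      _ = (v * diagProd x n l) * (x ^ n * l * (x ^ n)⁻¹) := by rw [h2]
      _ = v * (diagProd x n l * (x ^ n * l * (x ^ n)⁻¹)) := by group

theorem diagProd_mul {x : G} {L : Subgroup G} {p : ℕ} (h : ConjCommute x L p) :
    ∀ n : ℕ, n ≤ p → ∀ l ∈ L, ∀ l' ∈ L,
      diagProd x n (l * l') = diagProd x n l * diagProd x n l' := by
  intro n
  induction n with
  | zero => intro _ l _ l' _; simp
  | succ n ih =>
    intro hn l hl l' hl'
    rw [diagProd_succ, diagProd_succ, diagProd_succ, ih (by omega) l hl l' hl']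
    have h1 := diagProd_comm h n n le_rfl (by omega) l' hl' _ (conj_mem_cj L (x ^ n) l hl)
    have h2 : x ^ n * (l * l') * (x ^ n)⁻¹ = (x ^ n * l * (x ^ n)⁻¹) * (x ^ n * l' * (x ^ n)⁻¹) := by
      group
    rw [h2]
    calc diagProd x n l * diagProd x n l' * ((x ^ n * l * (x ^ n)⁻¹) * (x ^ n * l' * (x ^ n)⁻¹))
        = diagProd x n l * (diagProd x n l' * (x ^ n * l * (x ^ n)⁻¹)) * (x ^ n * l' * (x ^ n)⁻¹) := by
          group
      _ = diagProd x n l * ((x ^ n * l * (x ^ n)⁻¹) * diagProd x n l') * (x ^ n * l' * (x ^ n)⁻¹) := by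
          rw [h1]
      _ = diagProd x n l * (x ^ n * l * (x ^ n)⁻¹) * (diagProd x n l' * (x ^ n * l' * (x ^ n)⁻¹)) := by
          group

/-- The tail `l⁻¹ · diagProd` commutes with `L`. -/
theorem diagProd_tail_comm {x : G} {L : Subgroup G} {p : ℕ} (h : ConjCommute x L p) :
    ∀ n : ℕ, 1 ≤ n → n ≤ p → ∀ l ∈ L, ∀ v ∈ L,
      (l⁻¹ * diagProd x n l) * v = v * (l⁻¹ * diagProd x n l) := by
  intro n
  induction n with
  | zero => intro h1; omega
  | succ n ih =>
    intro _ hn l hl v hv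
    by_cases hn0 : n = 0
    · subst hn0
      rw [diagProd_one]; simp
    · have hv0 : v ∈ cj (x ^ 0) L := by rw [pow_zero, cj_one]; exact hv
      have h1 : (x ^ n * l * (x ^ n)⁻¹) * v = v * (x ^ n * l * (x ^ n)⁻¹) :=
        h n 0 (by omega) (by omega) hn0 _ (conj_mem_cj L (x ^ n) l hl) v hv0
      have h2 := ih (by omega) (by omega) l hl v hv
      rw [diagProd_succ]
      calc l⁻¹ * (diagProd x n l * (x ^ n * l * (x ^ n)⁻¹)) * v
          = (l⁻¹ * diagProd x n l) * ((x ^ n * l * (x ^ n)⁻¹) * v) := by group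
        _ = (l⁻¹ * diagProd x n l) * (v * (x ^ n * l * (x ^ n)⁻¹)) := by rw [h1]
        _ = ((l⁻¹ * diagProd x n l) * v) * (x ^ n * l * (x ^ n)⁻¹) := by group
        _ = (v * (l⁻¹ * diagProd x n l)) * (x ^ n * l * (x ^ n)⁻¹) := by rw [h2]
        _ = v * (l⁻¹ * (diagProd x n l * (x ^ n * l * (x ^ n)⁻¹))) := by group

theorem diagProd_conj (x : G) (n : ℕ) (l : G) :
    x * diagProd x n l * x⁻¹ = l⁻¹ * diagProd x (n + 1) l := by
  induction n with
  | zero => rw [diagProd_one]; simp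
  | succ n ih =>
    rw [diagProd_succ x (n + 1), diagProd_succ x n]
    have h1 : x * (diagProd x n l * (x ^ n * l * (x ^ n)⁻¹)) * x⁻¹ =
        (x * diagProd x n l * x⁻¹) * (x * (x ^ n * l * (x ^ n)⁻¹) * x⁻¹) := by group
    have h2 : x * (x ^ n * l * (x ^ n)⁻¹) * x⁻¹ = x ^ (n + 1) * l * (x ^ (n + 1))⁻¹ := by
      rw [pow_succ']; group
    rw [h1, ih, h2, diagProd_succ x n]
    group

theorem diagProd_fixed {x : G} {L : Subgroup G} {p : ℕ} (h : ConjCommute x L p) (hp : 1 ≤ p)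
    (hxp : x ^ p = 1) {l : G} (hl : l ∈ L) :
    x * diagProd x p l * x⁻¹ = diagProd x p l := by
  rw [diagProd_conj, diagProd_succ, hxp]
  have h1 := diagProd_tail_comm h p hp le_rfl l hl l hl
  calc l⁻¹ * (diagProd x p l * (1 * l * (1 : G)⁻¹))
      = (l⁻¹ * diagProd x p l) * l := by group
    _ = l * (l⁻¹ * diagProd x p l) := h1
    _ = diagProd x p l := by group

theorem diagProd_conj_of_commute (x : G) {c : G} (hc : c * x = x * c) (n : ℕ) (l : G) :
    c * diagProd x n l * c⁻¹ = diagProd x n (c * l * c⁻¹) := by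
  have hcn : ∀ k : ℕ, c * x ^ k = x ^ k * c := by
    intro k
    have : Commute c x := hc
    exact (this.pow_right k).eq
  induction n with
  | zero => simp
  | succ n ih =>
    rw [diagProd_succ, diagProd_succ, ← ih]
    have h1 : c * (x ^ n * l * (x ^ n)⁻¹) * c⁻¹ = x ^ n * (c * l * c⁻¹) * (x ^ n)⁻¹ := by
      have h2 : c * x ^ n = x ^ n * c := hcn n
      have h3 : (x ^ n)⁻¹ * c⁻¹ = c⁻¹ * (x ^ n)⁻¹ := by
        rw [← mul_inv_rev, ← mul_inv_rev, h2]
      calc c * (x ^ n * l * (x ^ n)⁻¹) * c⁻¹ = (c * x ^ n) * l * ((x ^ n)⁻¹ * c⁻¹) := by group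
        _ = (x ^ n * c) * l * (c⁻¹ * (x ^ n)⁻¹) := by rw [h2, h3]
        _ = x ^ n * (c * l * c⁻¹) * (x ^ n)⁻¹ := by group
    rw [← h1]
    group

end Cfsg.Agent.Helper2
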