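import Mathlib
import Cfsg.Agent.Helper2.DiagProd
import Cfsg.Agent.Helper2.ExtLayer5
import Cfsg.Agent.Helper2.PLayerCent2
import Cfsg.Agent.Helper2.Quasisimple2
import Cfsg.Agent.Helper2.PComp1
import Cfsg.Agent.Helper2.Signalizer1

set_option autoImplicit false

namespace Cfsg.Agent.Helper2

open Cfsg.Agent.Helper1
open scoped commutatorElement

variable {G : Type*} [Group G]

theorem layer_le_normalizer_component {K : Subgroup G} (hK : Cfsg.IsComponent K) :
    Cfsg.layer G ≤ Subgroup.normalizer (K : Set G) := by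
  unfold Cfsg.layer
  apply sSup_le
  intro M hM
  by_cases h : M = K
  · rw [h]; exact Subgroup.le_normalizer
  · have h1 := components_commute hM hK h
    rw [Subgroup.commutator_eq_bot_iff_le_centralizer] at h1
    exact h1.trans (Subgroup.centralizer_le_normalizer _)

/-- A component of `C` of order divisible by `p` centralizes `O_{p'}(C)`. -/
theorem componentOf_commutator_coreOf_eq_bot [Finite G] (p : ℕ) [hp : Fact p.Prime]
    (C Δ : Subgroup G) (hΔC : Δ ≤ C) (hΔ : Cfsg.IsComponent (Δ.subgroupOf C))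
    (hdvd : p ∣ Nat.card Δ) : ⁅Δ, coreOf p C⁆ = ⊥ := by
  have hn : Δ.subgroupOf C ≤ Subgroup.normalizer ((Cfsg.pPrimeCore p ↥C : Subgroup ↥C) : Set ↥C) := by
    rw [Subgroup.normalizer_eq_top]; exact le_top
  rcases component_le_or_commutator_eq_bot _ _ hΔ hn with h | h
  · exfalso
    have h1 : Nat.card ↥(Δ.subgroupOf C) ∣ Nat.card ↥(Cfsg.pPrimeCore p ↥C) :=
      Subgroup.card_dvd_of_le h
    rw [card_subgroupOf_of_le hΔC] at h1
    have h2 : (Nat.card ↥(Cfsg.pPrimeCore p ↥C)).Coprime p := card_pPrimeCore_coprime p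
    have h3 := Nat.Coprime.coprime_dvd_left h1 h2
    exact (Nat.Prime.coprime_iff_not_dvd hp.out).mp h3.symm hdvd
  · have h1 := congrArg (Subgroup.map C.subtype) h
    rw [Subgroup.map_commutator, Subgroup.map_bot, Subgroup.subgroupOf_map_subtype,
      inf_eq_left.mpr hΔC] at h1
    exact h1

/-- If `u` commutes with each factor it commutes with the diagonal product. -/
theorem diagProd_comm_of_forall (x : G) (u l : G) :
    ∀ n : ℕ, (∀ j < n, u * (x ^ j * l * (x ^ j)⁻¹) = (x ^ j * l * (x ^ j)⁻¹) * u) →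
      u * diagProd x n l = diagProd x n l * u := by
  intro n
  induction n with
  | zero => intro _; simp
  | succ n ih =>
    intro h
    rw [diagProd_succ]
    have h1 := ih (fun j hj => h j (by omega))
    have h2 := h n (by omega)
    calc u * (diagProd x n l * (x ^ n * l * (x ^ n)⁻¹))
        = (u * diagProd x n l) * (x ^ n * l * (x ^ n)⁻¹) := by group
      _ = (diagProd x n l * u) * (x ^ n * l * (x ^ n)⁻¹) := by rw [h1]
      _ = diagProd x n l * (u * (x ^ n * l * (x ^ n)⁻¹)) := by group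
      _ = diagProd x n l * ((x ^ n * l * (x ^ n)⁻¹) * u) := by rw [h2]
      _ = diagProd x n l * (x ^ n * l * (x ^ n)⁻¹) * u := by group

/-- Powers of `x` normalizing `L` have exponent divisible by `p`, when `x ∉ N(L)`. -/
theorem dvd_of_pow_mem_normalizer {p : ℕ} [hp : Fact p.Prime] {x : G} (hx : orderOf x = p)
    {L : Subgroup G} (hxL : x ∉ Subgroup.normalizer (L : Set G)) {m : ℕ}
    (hm : x ^ m ∈ Subgroup.normalizer (L : Set G)) : p ∣ m := by
  by_contra hnd
  have hcop : Nat.Coprime m p := ((Nat.Prime.coprime_iff_not_dvd hp.out).mpr hnd).symm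
  obtain ⟨k, -, hk⟩ := Nat.exists_mul_mod_eq_one_of_coprime hcop hp.out.one_lt
  apply hxL
  have h1 : x ^ (m * k) = x := by
    rw [← pow_mod_orderOf, hx, hk, pow_one]
  rw [← h1, pow_mul]
  exact pow_mem hm k

section caseB
variable [Finite G]

/-- Distinctness of the conjugates `L^{x^i}`, `i < p`. -/
theorem cj_pow_ne_of_not_mem_normalizer {p : ℕ} [hp : Fact p.Prime] {x : G} (hx : orderOf x = p)
    {L : Subgroup G} (hxL : x ∉ Subgroup.normalizer (L : Set G)) :
    ∀ i j : ℕ, i < p → j < p → i ≠ j → cj (x ^ i) L ≠ cj (x ^ j) L := by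
  have key : ∀ i j : ℕ, i < j → j < p → cj (x ^ i) L ≠ cj (x ^ j) L := by
    intro i j hij hjp heq
    have h1 : cj (x ^ (j - i)) L = L := by
      have h2 : cj ((x ^ i)⁻¹) (cj (x ^ i) L) = cj ((x ^ i)⁻¹) (cj (x ^ j) L) := by rw [heq]
      rw [cj_cj, cj_cj, inv_mul_cancel, cj_one] at h2
      have h3 : (x ^ i)⁻¹ * x ^ j = x ^ (j - i) := by
        rw [inv_mul_eq_iff_eq_mul, ← pow_add]; congr 1; omega
      rw [h3] at h2
      exact h2.symm
    have h3 : x ^ (j - i) ∈ Subgroup.normalizer (L : Set G) := (mem_normalizer_iff_cj L _).mpr h1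
    have h4 := dvd_of_pow_mem_normalizer hx hxL h3
    have h5 : 0 < j - i := by omega
    have h6 := Nat.le_of_dvd h5 h4
    omega
  intro i j hi hj hne
  rcases Nat.lt_or_gt_of_ne hne with h | h
  · exact key i j h hj
  · exact (key j i h hi).symm

theorem conjCommute_of_component {p : ℕ} [hp : Fact p.Prime] {x : G} (hx : orderOf x = p)
    {L : Subgroup G} (hL : Cfsg.IsComponent L) (hxL : x ∉ Subgroup.normalizer (L : Set G)) :
    ConjCommute x L p := by
  intro i j hi hj hne u hu v hv
  have h1 := components_commute (isComponent_cj hL (x ^ i)) (isComponent_cj hL (x ^ j))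
    (cj_pow_ne_of_not_mem_normalizer hx hxL i j hi hj hne)
  rw [Subgroup.commutator_eq_bot_iff_le_centralizer] at h1
  have h2 := h1 hu
  rw [Subgroup.mem_centralizer_iff] at h2
  exact (h2 v hv).symm

end caseB

section main
variable [Finite G]

theorem commutator_coreOf_eq_bot_of_not_mem_normalizer (p : ℕ) [hp : Fact p.Prime]
    (hO : Cfsg.pPrimeCore p G = ⊥) (x : G) (hx : orderOf x = p) (L : Subgroup G)
    (hL : Cfsg.IsComponent L) (hxL : x ∉ Subgroup.normalizer (L : Set G)) :
    ⁅L, coreOf p (Subgroup.centralizer ({x} : Set G))⁆ = ⊥ := by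
  set C := Subgroup.centralizer ({x} : Set G) with hC
  set D := coreOf p C with hD
  have hp1 : 1 ≤ p := hp.out.one_lt.le
  have hxp : x ^ p = 1 := by rw [← hx, pow_orderOf_eq_one]
  have hperf : ⁅L, L⁆ = L := component_perfect hL
  have hCC : ConjCommute x L p := conjCommute_of_component hx hL hxL
  -- the diagonal homomorphism
  let δ : ↥L →* G := MonoidHom.mk' (fun l => diagProd x p (l : G))
    (fun l l' => by rw [Subgroup.coe_mul]; exact diagProd_mul hCC p le_rfl l l.2 l' l'.2)
  have hδ : ∀ l : ↥L, δ l = diagProd x p (l : G) := fun l => rfl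
  set Δ := δ.range with hΔ
  have hΔC : Δ ≤ C := by
    rintro _ ⟨l, rfl⟩
    rw [hC, Subgroup.mem_centralizer_singleton_iff, hδ]
    have := diagProd_fixed hCC hp1 hxp l.2
    calc diagProd x p ↑l * x = (x * diagProd x p ↑l * x⁻¹) * x := by rw [this]
      _ = x * diagProd x p ↑l := by group
  have hker : ∀ l : ↥L, δ l = 1 → ∀ v ∈ L, (l : G) * v = v * l := by
    intro l hl v hv
    have h1 := diagProd_tail_comm hCC p hp1 le_rfl l l.2 v hv
    rw [← hδ, hl, mul_one] at h1
    calc (l : G) * v = l * (v * (l : G)⁻¹) * l := by group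
      _ = l * ((l : G)⁻¹ * v) * l := by rw [h1]
      _ = v * l := by group
  have hkerc : δ.ker ≤ Subgroup.center ↥L := by
    intro l hl
    rw [Subgroup.mem_center_iff]
    intro g
    apply Subtype.ext
    rw [Subgroup.coe_mul, Subgroup.coe_mul]
    exact (hker l (MonoidHom.mem_ker.mp hl) g g.2).symm
  have htail : ∀ l ∈ L, ∀ l' : ↥L, l * δ l' = δ l' * l → l * (l' : G) = l' * l := by
    intro l hl l' h
    have h1 := diagProd_tail_comm hCC p hp1 le_rfl l' l'.2 l hl
    rw [← hδ] at h1
    set t := (l' : G)⁻¹ * δ l' with ht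
    have hδt : δ l' = l' * t := by rw [ht]; group
    rw [hδt] at h
    have : l * l' * t = l' * l * t := by
      calc l * l' * t = l * (l' * t) := by group
        _ = l' * t * l := h
        _ = l' * (t * l) := by group
        _ = l' * (l * t) := by rw [h1]
        _ = l' * l * t := by group
    exact mul_right_cancel this
  -- `Δ` is quasisimple
  have hsurj : Function.Surjective δ.rangeRestrict := δ.rangeRestrict_surjective
  have hqΔ : Cfsg.IsQuasisimple ↥Δ := by
    rcases isQuasisimple_or_of_surjective hL.2 δ.rangeRestrict hsurj with h | h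
    · exfalso
      apply component_not_commutative hL
      intro a ha b hb
      have h1 : δ ⟨b, hb⟩ = 1 := by
        have : (δ.rangeRestrict ⟨b, hb⟩) = 1 := Subsingleton.elim _ _
        exact congrArg Subtype.val this
      exact (hker ⟨b, hb⟩ h1 a ha).symm
    · exact h
  have hpΔ : p ∣ Nat.card ↥Δ := by
    have h1 : p ∣ Nat.card ↥L := component_dvd_card p hO hL
    have h2 := dvd_index_center_of_perfect (G := ↥L) hL.2.1.commutator_eq_top h1
    have h3 : (Subgroup.center ↥L).index ∣ δ.ker.index := Subgroup.index_dvd_of_le hkerc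
    rw [Subgroup.index_ker] at h3
    exact h2.trans h3
  -- `Δ` is subnormal in `C`
  set E := Cfsg.layer G with hE
  have hΔE : Δ ≤ E := by
    rintro _ ⟨l, rfl⟩
    have h1 := diagProd_mem x L p l.2
    have h2 : (⨆ i : ℕ, cj (x ^ i) L) ≤ E :=
      iSup_le (fun i => component_le_layer (isComponent_cj hL _))
    exact h2 h1
  have hEL : E ≤ Subgroup.normalizer (L : Set G) := layer_le_normalizer_component hL
  have hconjΔ : ∀ b ∈ C, b ∈ Subgroup.normalizer (L : Set G) → ∀ y ∈ Δ, b * y * b⁻¹ ∈ Δ := by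
    rintro b hbC hbN _ ⟨l, rfl⟩
    have hbx : b * x = x * b := by
      rw [hC, Subgroup.mem_centralizer_singleton_iff] at hbC
      exact hbC
    have h1 := diagProd_conj_of_commute x hbx p (l : G)
    have h2 : b * (l : G) * b⁻¹ ∈ L := (Subgroup.mem_normalizer_iff.mp hbN _).mp l.2
    rw [hδ, h1]
    exact ⟨⟨_, h2⟩, rfl⟩
  have hsn : (Δ.subgroupOf C).IsSubnormal := by
    have hE' : (E.subgroupOf C).IsSubnormal := Subgroup.Normal.isSubnormal inferInstance
    have hle : Δ.subgroupOf C ≤ E.subgroupOf C := Subgroup.subgroupOf_mono C hΔE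
    refine Subgroup.IsSubnormal.step _ _ hle hE' ?_
    rw [Subgroup.normal_subgroupOf_iff_le_normalizer hle]
    apply le_normalizer_of_conj_mem
    intro b hb y hy
    rw [Subgroup.mem_subgroupOf] at hb hy ⊢
    have := hconjΔ b b.2 (hEL hb) y hy
    simpa using this
  have hcompΔ : Cfsg.IsComponent (Δ.subgroupOf C) :=
    ⟨hsn, isQuasisimple_of_mulEquiv (Subgroup.subgroupOfEquivOfLe hΔC).symm hqΔ⟩
  have hΔD : ⁅Δ, D⁆ = ⊥ := componentOf_commutator_coreOf_eq_bot p C Δ hΔC hcompΔ hpΔ
  have hcommD : ∀ d ∈ D, ∀ l : ↥L, d * δ l * d⁻¹ = δ l := by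
    intro d hd l
    have h1 := Subgroup.commutator_eq_bot_iff_le_centralizer.mp hΔD (⟨l, rfl⟩ : δ l ∈ Δ)
    rw [Subgroup.mem_centralizer_iff] at h1
    rw [h1 d hd, mul_inv_cancel_right]
  have hDcop : (Nat.card D).Coprime p := card_coreOf_coprime p C
  -- every `d ∈ D` normalizes `L` and acts trivially modulo the centre
  have hmain : ∀ d ∈ D, ∀ l ∈ L, ∀ v ∈ L,
      (l⁻¹ * (d * l * d⁻¹)) * v = v * (l⁻¹ * (d * l * d⁻¹)) := by
    intro d hd
    have hdC : d ∈ C := coreOf_le p C hd
    have hdx : d * x = x * d := by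
      rw [hC, Subgroup.mem_centralizer_singleton_iff] at hdC
      exact hdC
    -- (d1)
    have hd1 : ∃ j, j < p ∧ cj d L = cj (x ^ j) L := by
      by_contra hno
      push Not at hno
      apply component_not_commutative hL
      intro l hl l' hl'
      have h1 : (d * l * d⁻¹) * δ ⟨l', hl'⟩ = δ ⟨l', hl'⟩ * (d * l * d⁻¹) := by
        rw [hδ]
        apply diagProd_comm_of_forall
        intro j hj
        have h2 := components_commute (isComponent_cj hL d) (isComponent_cj hL (x ^ j)) (hno j hj)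
        rw [Subgroup.commutator_eq_bot_iff_le_centralizer] at h2
        have h3 := h2 (conj_mem_cj L d l hl)
        rw [Subgroup.mem_centralizer_iff] at h3
        exact (h3 _ (conj_mem_cj L (x ^ j) l' hl')).symm
      have h4 := hcommD d hd ⟨l', hl'⟩
      have h5 : l * δ ⟨l', hl'⟩ = δ ⟨l', hl'⟩ * l := by
        have h6 : d⁻¹ * δ ⟨l', hl'⟩ * d = δ ⟨l', hl'⟩ := by
          conv_lhs => rw [← h4]
          group
        calc l * δ ⟨l', hl'⟩ = d⁻¹ * ((d * l * d⁻¹) * δ ⟨l', hl'⟩) * d := by
              conv_lhs => rw [← h6]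
              group
          _ = d⁻¹ * (δ ⟨l', hl'⟩ * (d * l * d⁻¹)) * d := by rw [h1]
          _ = (d⁻¹ * δ ⟨l', hl'⟩ * d) * l := by group
          _ = δ ⟨l', hl'⟩ * l := by rw [h6]
      exact htail l hl ⟨l', hl'⟩ h5
    obtain ⟨j, hj, hcj⟩ := hd1
    -- (d2)
    have hpow : ∀ k : ℕ, cj (d ^ k) L = cj (x ^ (j * k)) L := by
      intro k
      induction k with
      | zero => simp
      | succ k ih =>
        have hcomm : d * x ^ (j * k) = x ^ (j * k) * d := by
          have : Commute d x := hdx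
          exact (this.pow_right _).eq
        rw [pow_succ', ← cj_cj, ih, cj_cj, hcomm, ← cj_cj, hcj, cj_cj, ← pow_add]
        congr 2
    have hj0 : j = 0 := by
      have h1 := hpow (orderOf d)
      rw [pow_orderOf_eq_one, cj_one] at h1
      have h2 : x ^ (j * orderOf d) ∈ Subgroup.normalizer (L : Set G) :=
        (mem_normalizer_iff_cj L _).mpr h1.symm
      have h3 := dvd_of_pow_mem_normalizer hx hxL h2
      have h4 : (orderOf d).Coprime p :=
        Nat.Coprime.coprime_dvd_left (Subgroup.orderOf_dvd_natCard D hd) hDcop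
      have h5 : p ∣ j := (Nat.Coprime.dvd_mul_right h4.symm).mp h3
      exact Nat.eq_zero_of_dvd_of_lt h5 hj
    rw [hj0, pow_zero, cj_one] at hcj
    have hdN : d ∈ Subgroup.normalizer (L : Set G) := (mem_normalizer_iff_cj L d).mpr hcj
    -- (d3)
    intro l hl v hv
    have hl' : d * l * d⁻¹ ∈ L := (Subgroup.mem_normalizer_iff.mp hdN l).mp hl
    have h1 := diagProd_conj_of_commute x hdx p l
    have h2 := hcommD d hd ⟨l, hl⟩
    rw [hδ] at h2
    have h3 : δ (⟨l, hl⟩⁻¹ * ⟨d * l * d⁻¹, hl'⟩) = 1 := by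
      rw [map_mul, map_inv, hδ, hδ]
      change (diagProd x p l)⁻¹ * diagProd x p (d * l * d⁻¹) = 1
      rw [← h1, h2, inv_mul_cancel]
    exact hker _ h3 v hv
  -- conclusion
  have h1 : ⁅L, D⁆ ≤ Subgroup.centralizer (L : Set G) := by
    rw [Subgroup.commutator_le]
    intro l hl d hd
    rw [Subgroup.mem_centralizer_iff]
    intro v hv
    have h2 := hmain d hd l⁻¹ (inv_mem hl) v hv
    rw [inv_inv] at h2
    rw [commutatorElement_def]
    have h3 : l * d * l⁻¹ * d⁻¹ = l * (d * l⁻¹ * d⁻¹) := by group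
    rw [h3]
    exact h2.symm
  have h2 : ⁅⁅D, L⁆, L⁆ = ⊥ := by
    rw [Subgroup.commutator_comm D L, Subgroup.commutator_eq_bot_iff_le_centralizer]
    exact h1
  rw [Subgroup.commutator_comm]
  exact commutator_eq_bot_of_commutator_commutator_eq_bot hperf h2

end main

section caseA
variable [Finite G]

theorem commutator_coreOf_eq_bot_of_mem_normalizer (p : ℕ) [hp : Fact p.Prime]
    (hO : Cfsg.pPrimeCore p G = ⊥) (x : G) (L : Subgroup G)
    (hL : Cfsg.IsComponent L) (hxL : x ∈ Subgroup.normalizer (L : Set G))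
    (hne : ⁅L, Subgroup.zpowers x⁆ ≠ L) :
    ⁅L, coreOf p (Subgroup.centralizer ({x} : Set G))⁆ = ⊥ := by
  set Z := Subgroup.zpowers x with hZ
  have hZN : Z ≤ Subgroup.normalizer (L : Set G) := Subgroup.zpowers_le.mpr hxL
  have hperf : ⁅L, L⁆ = L := component_perfect hL
  set T := ⁅L, Z⁆ with hT
  have hTL : T ≤ L := by
    rw [hT, Subgroup.commutator_comm]
    exact commutator_le_of_le_normalizer hZN
  have hLT : L ≤ Subgroup.normalizer (T : Set G) := le_normalizer_commutator_left L Z
  have hTn : (T.subgroupOf L).Normal := (Subgroup.normal_subgroupOf_iff_le_normalizer hTL).mpr hLT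
  have hTc : ⁅T, L⁆ = ⊥ := by
    rcases isSubnormal_quasisimple hL.2 (T.subgroupOf L) (Subgroup.Normal.isSubnormal hTn) with h | h
    · exfalso
      rw [Subgroup.subgroupOf_eq_top] at h
      exact hne (le_antisymm hTL h)
    · rw [Subgroup.commutator_eq_bot_iff_le_centralizer]
      intro t ht
      rw [Subgroup.mem_centralizer_iff]
      intro l hl
      have h1 : (⟨t, hTL ht⟩ : ↥L) ∈ T.subgroupOf L := Subgroup.mem_subgroupOf.mpr ht
      have h2 := h h1
      rw [Subgroup.mem_center_iff] at h2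
      have h3 := h2 ⟨l, hl⟩
      exact congrArg Subtype.val h3
  have h2 : ⁅⁅Z, L⁆, L⁆ = ⊥ := by
    rw [Subgroup.commutator_comm Z L]; exact hTc
  have h3 : ⁅Z, L⁆ = ⊥ := commutator_eq_bot_of_commutator_commutator_eq_bot hperf h2
  rw [Subgroup.commutator_eq_bot_iff_le_centralizer] at h3
  have hxc : x ∈ Subgroup.centralizer (L : Set G) := h3 (Subgroup.mem_zpowers x)
  have hLC : L ≤ Subgroup.centralizer ({x} : Set G) := by
    intro l hl
    rw [Subgroup.mem_centralizer_singleton_iff]
    rw [Subgroup.mem_centralizer_iff] at hxc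
    exact hxc l hl
  exact componentOf_commutator_coreOf_eq_bot p _ L hLC (isComponent_subgroupOf hL hLC)
    (component_dvd_card p hO hL)

theorem component_commutator_coreOf_eq_bot (p : ℕ) [hp : Fact p.Prime]
    (hO : Cfsg.pPrimeCore p G = ⊥) (x : G) (hx : orderOf x = p) (L : Subgroup G)
    (hL : Cfsg.IsComponent L) (hne : ⁅L, Subgroup.zpowers x⁆ ≠ L) :
    ⁅L, coreOf p (Subgroup.centralizer ({x} : Set G))⁆ = ⊥ := by
  by_cases hxL : x ∈ Subgroup.normalizer (L : Set G)
  · exact commutator_coreOf_eq_bot_of_mem_normalizer p hO x L hL hxL hne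
  · exact commutator_coreOf_eq_bot_of_not_mem_normalizer p hO x hx L hL hxL

end caseA

end Cfsg.Agent.Helper2
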