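import Mathlib
import Cfsg.Agent.Helper2.CompCent
import Cfsg.Agent.Helper2.SubnormalP
import Cfsg.Agent.Helper2.PComp4
import Cfsg.Agent.Helper5.AxB
import Cfsg.Agent.Helper1.Subnormal

/-!
Helper lemmas (helper2) towards `O_{p'}(N_X(R)) ≤ L̂_{p'}(X)`: general lemmas on orbits of components
under a `p`-group and on upper central series.
-/

set_option autoImplicit false

namespace Cfsg.Agent.Helper2

section general
variable {G : Type*} [Group G]

theorem mem_of_pow_mem_of_coprime {x : G} {n : ℕ} (H : Subgroup G)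
    (hcop : Nat.Coprime n (orderOf x)) (h : x ^ n ∈ H) : x ∈ H := by
  by_cases h0 : orderOf x = 0
  · rw [h0, Nat.coprime_zero_right] at hcop
    subst hcop
    simpa using h
  by_cases h1 : orderOf x = 1
  · rw [orderOf_eq_one_iff] at h1
    rw [h1]; exact H.one_mem
  have h2 : 1 < orderOf x := by omega
  obtain ⟨k, -, hk⟩ := Nat.exists_mul_mod_eq_one_of_coprime hcop h2
  have h3 : x ^ (n * k) = x := by
    rw [← pow_mod_orderOf, hk, pow_one]
  rw [← h3, pow_mul]
  exact H.pow_mem h k

theorem cj_pow_eq_of_commute {d r : G} (hdr : d * r = r * d) {L : Subgroup G}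
    (h : cj d L = cj r L) : ∀ n : ℕ, cj (d ^ n) L = cj (r ^ n) L := by
  intro n
  induction n with
  | zero => simp
  | succ n ih =>
    have hc : d * r ^ n = r ^ n * d := (Commute.pow_right (show Commute d r from hdr) n)
    rw [pow_succ' d, ← cj_cj, ih, cj_cj, hc, ← cj_cj, h, cj_cj, ← pow_succ]

theorem cj_eq_self_of_cj_eq_cj {d r : G} (hdr : d * r = r * d)
    (hcop : Nat.Coprime (orderOf d) (orderOf r)) {L : Subgroup G} (h : cj d L = cj r L) :
    cj d L = L := by
  have h1 := cj_pow_eq_of_commute hdr h (orderOf d)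
  rw [pow_orderOf_eq_one, cj_one] at h1
  have h2 : r ^ orderOf d ∈ Subgroup.normalizer (L : Set G) :=
    (mem_normalizer_iff_cj L _).mpr h1.symm
  have h3 := mem_of_pow_mem_of_coprime _ hcop h2
  rw [h]
  exact (mem_normalizer_iff_cj L r).mp h3

theorem pow_mem_centralizer_of_mul_pow_eq_one {a b : G} {M : Subgroup G} (ha : a ∈ M)
    (hb : b ∈ Subgroup.centralizer (M : Set G)) {m : ℕ} (h : (a * b) ^ m = 1) :
    a ^ m ∈ Subgroup.centralizer (M : Set G) := by
  have hc : Commute a b := by
    rw [Subgroup.mem_centralizer_iff] at hb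
    exact hb a ha
  rw [hc.mul_pow] at h
  have h1 : a ^ m = (b ^ m)⁻¹ := eq_inv_of_mul_eq_one_left h
  rw [h1]
  exact Subgroup.inv_mem _ (Subgroup.pow_mem _ hb m)

/-- In a nilpotent group, a property failing at `1` and holding somewhere holds at an element all of whose
commutators fail it. -/
theorem exists_min_upperCentralSeries {S : Type*} [Group S] [Group.IsNilpotent S] (P : S → Prop)
    (h1 : ¬ P 1) (hex : ∃ s, P s) : ∃ y, P y ∧ ∀ t : S, ¬ P (y * t * y⁻¹ * t⁻¹) := by
  classical
  obtain ⟨N, hN⟩ := Group.IsNilpotent.nilpotent (G := S)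
  have hexn : ∃ n, ∃ s ∈ Subgroup.upperCentralSeries S n, P s := by
    obtain ⟨s, hs⟩ := hex
    exact ⟨N, s, by rw [hN]; trivial, hs⟩
  obtain ⟨y, hy, hPy⟩ := Nat.find_spec hexn
  rcases Nat.eq_zero_or_pos (Nat.find hexn) with hn | hn
  · rw [hn, Subgroup.upperCentralSeries_zero, Subgroup.mem_bot] at hy
    subst hy
    exact absurd hPy h1
  · obtain ⟨k, hk⟩ : ∃ k, Nat.find hexn = k + 1 := ⟨Nat.find hexn - 1, by omega⟩
    refine ⟨y, hPy, fun t hP => ?_⟩
    rw [hk, Subgroup.mem_upperCentralSeries_succ_iff] at hy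
    have := Nat.find_min hexn (m := k) (by omega)
    have h2 := hy t
    rw [commutatorElement_def] at h2
    exact this ⟨_, h2, hP⟩

/-- The join of the `R`-conjugates of `L`. -/
def orbSup (R L : Subgroup G) : Subgroup G := ⨆ r : ↥R, cj (r : G) L

theorem le_orbSup (R L : Subgroup G) : L ≤ orbSup R L := by
  have h : cj ((⟨1, R.one_mem⟩ : ↥R) : G) L ≤ orbSup R L := le_iSup (fun r : ↥R => cj (r : G) L) _
  rwa [cj_one] at h

theorem cj_le_orbSup (R L : Subgroup G) {r : G} (hr : r ∈ R) : cj r L ≤ orbSup R L :=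
  le_iSup (fun r : ↥R => cj (r : G) L) ⟨r, hr⟩

theorem cj_orbSup (R L : Subgroup G) (e : G) : cj e (orbSup R L) = ⨆ r : ↥R, cj (e * r) L := by
  unfold orbSup cj
  rw [Subgroup.map_iSup]
  congr 1
  funext r
  exact cj_cj L e r

theorem cj_orbSup_of_comm (R L : Subgroup G) (e : G) (he : ∀ r ∈ R, e * r = r * e) :
    cj e (orbSup R L) = orbSup R (cj e L) := by
  rw [cj_orbSup]
  unfold orbSup
  congr 1
  funext r
  rw [he r r.2, ← cj_cj]

theorem le_normalizer_orbSup (R L : Subgroup G) : R ≤ Subgroup.normalizer (orbSup R L : Set G) := by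
  apply le_normalizer_of_conj_mem
  intro r' hr' x hx
  have h1 : cj r' (orbSup R L) ≤ orbSup R L := by
    rw [cj_orbSup]
    apply iSup_le
    intro r
    exact cj_le_orbSup R L (R.mul_mem hr' r.2)
  exact h1 (conj_mem_cj _ r' x hx)

theorem orbSup_le_centralizer (R : Subgroup G) {L L' : Subgroup G} (hL : Cfsg.IsComponent L)
    (hL' : Cfsg.IsComponent L') (h : ∀ r ∈ R, ∀ r' ∈ R, cj r L ≠ cj r' L') :
    orbSup R L ≤ Subgroup.centralizer (orbSup R L' : Set G) := by
  unfold orbSup
  apply iSup_le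
  intro r
  rw [Subgroup.le_centralizer_iff]
  apply iSup_le
  intro r'
  rw [Subgroup.le_centralizer_iff, ← Subgroup.commutator_eq_bot_iff_le_centralizer]
  exact components_commute (isComponent_cj hL r) (isComponent_cj hL' r') (h r r.2 r' r'.2)

theorem orbSup_le_layer (R : Subgroup G) {L : Subgroup G} (hL : Cfsg.IsComponent L) :
    orbSup R L ≤ Cfsg.layer G := by
  unfold orbSup
  apply iSup_le
  intro r
  exact component_le_layer (isComponent_cj hL r)

theorem layer_le_normalizer_orbSup (R : Subgroup G) {L : Subgroup G} (hL : Cfsg.IsComponent L) :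
    Cfsg.layer G ≤ Subgroup.normalizer (orbSup R L : Set G) := by
  apply le_normalizer_of_conj_mem
  intro e he x hx
  have h1 : cj e (orbSup R L) ≤ orbSup R L := by
    unfold orbSup
    change Subgroup.map (MulAut.conj e).toMonoidHom (⨆ r : ↥R, cj (r : G) L) ≤ _
    rw [Subgroup.map_iSup]
    apply iSup_le
    intro r
    have h2 : cj e (cj (r : G) L) = cj (r : G) L :=
      (mem_normalizer_iff_cj _ e).mp (layer_le_normalizer_component (isComponent_cj hL r) he)
    change cj e (cj (r : G) L) ≤ _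
    rw [h2]
    exact le_iSup (fun r : ↥R => cj (r : G) L) r
  exact h1 (conj_mem_cj _ e x hx)

end general

end Cfsg.Agent.Helper2
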