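import Mathlib
import Cfsg.Agent.Helper2.HatLayer1

/-!
Helper lemmas (helper2): if `O_{p'}(G) = 1`, `R` is a `p`-subgroup and `D` is a normal `p'`-subgroup of
`N_G(R)`, then `D` centralizes `O_p(G)` and normalizes every component of `G`.
-/

set_option autoImplicit false

namespace Cfsg.Agent.Helper2

section main
variable {G : Type*} [Group G]

theorem eq_one_of_isPGroup_of_coprime {p : ℕ} {P D : Subgroup G} (hP : IsPGroup p ↥P)
    (hD : (Nat.card ↥D).Coprime p) {x : G} (hxP : x ∈ P) (hxD : x ∈ D) : x = 1 := by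
  obtain ⟨k, hk⟩ := hP ⟨x, hxP⟩
  have h1 : x ^ p ^ k = 1 := congrArg Subtype.val hk
  have h2 : orderOf x ∣ p ^ k := orderOf_dvd_of_pow_eq_one h1
  have h3 : orderOf x ∣ Nat.card ↥D := Subgroup.orderOf_dvd_natCard D hxD
  have h4 : orderOf x = 1 := Nat.eq_one_of_dvd_coprimes (Nat.Coprime.pow_right k hD) h3 h2
  exact orderOf_eq_one_iff.mp h4

variable [Finite G]

theorem exists_noncentral_pElt {p : ℕ} [hp : Fact p.Prime]
    (hO : Cfsg.pPrimeCore p G = ⊥) (R : Subgroup G) (hR : IsPGroup p ↥R) (L : Subgroup G)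
    (hL : Cfsg.IsComponent L) (M : Subgroup G) (hLM : L ≤ M)
    (hRM : R ≤ Subgroup.normalizer (M : Set G)) :
    ∃ y ∈ M, y ∉ Subgroup.centralizer (M : Set G) ∧ (∃ k : ℕ, y ^ p ^ k = 1) ∧
      ∀ r ∈ R, (y * r * y⁻¹ * r⁻¹ ∈ M ∧ y * r * y⁻¹ * r⁻¹ ∈ Subgroup.centralizer (M : Set G) ∧
        ∃ k : ℕ, (y * r * y⁻¹ * r⁻¹) ^ p ^ k = 1) := by
  obtain ⟨SG, hRS⟩ := hR.exists_le_sylow
  set S := (SG : Subgroup G) ⊓ Subgroup.normalizer (M : Set G) with hSdef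
  have hSp : IsPGroup p ↥S := SG.2.to_le inf_le_left
  have hRS' : R ≤ S := le_inf hRS hRM
  have hpL : p ∣ Nat.card ↥L := by
    by_contra hnd
    have hcop : (Nat.card ↥L).Coprime p := ((Nat.Prime.coprime_iff_not_dvd hp.out).mpr hnd).symm
    have := le_pPrimeCore_of_subnormal L hL.1 hcop
    rw [hO] at this
    exact component_ne_bot hL (eq_bot_iff.mpr this)
  have hperf : commutator ↥L = ⊤ := hL.2.1.commutator_eq_top
  have hidx : p ∣ (Subgroup.center ↥L).index := dvd_index_center_of_perfect hperf hpL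
  obtain ⟨Q, hQ⟩ := Cfsg.Agent.Helper1.sylow_inf_subnormal p L hL.1 SG
  have hy0 : ∃ y₀ ∈ (SG : Subgroup G) ⊓ L, y₀ ∉ Subgroup.centralizer (L : Set G) := by
    by_contra hno
    push Not at hno
    have hQc : (Q : Subgroup ↥L) ≤ Subgroup.center ↥L := by
      intro x hx
      rw [hQ, Subgroup.mem_subgroupOf] at hx
      have := hno x.1 ⟨hx, x.2⟩
      rw [Subgroup.mem_center_iff]
      intro g
      rw [Subgroup.mem_centralizer_iff] at this
      exact Subtype.ext (this g.1 g.2)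
    have h1 : (Subgroup.center ↥L).index ∣ (Q : Subgroup ↥L).index := Subgroup.index_dvd_of_le hQc
    exact Q.not_dvd_index (hidx.trans h1)
  obtain ⟨y₀, hy₀, hy₀c⟩ := hy0
  have hnil : Group.IsNilpotent ↥S := hSp.isNilpotent
  obtain ⟨y, ⟨hyM, hyC⟩, hmin⟩ := exists_min_upperCentralSeries (S := ↥S)
    (fun s => (s : G) ∈ M ∧ (s : G) ∉ Subgroup.centralizer (M : Set G))
    (by rintro ⟨_, h⟩; exact h (Subgroup.one_mem _))
    ⟨⟨y₀, ⟨hy₀.1, Subgroup.le_normalizer (hLM hy₀.2)⟩⟩, hLM hy₀.2,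
      fun h => hy₀c (Subgroup.centralizer_le hLM h)⟩
  refine ⟨y, hyM, hyC, ?_, ?_⟩
  · obtain ⟨k, hk⟩ := hSp y
    exact ⟨k, congrArg Subtype.val hk⟩
  · intro r hr
    have hrS : r ∈ S := hRS' hr
    have hcM : (y : G) * r * (y : G)⁻¹ * r⁻¹ ∈ M := by
      have h1 : r * (y : G)⁻¹ * r⁻¹ ∈ M := conj_mem_of_le_normalizer hRM r hr _ (M.inv_mem hyM)
      have h2 : (y : G) * r * (y : G)⁻¹ * r⁻¹ = (y : G) * (r * (y : G)⁻¹ * r⁻¹) := by group
      rw [h2]; exact M.mul_mem hyM h1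
    refine ⟨hcM, ?_, ?_⟩
    · by_contra hc
      exact hmin ⟨r, hrS⟩ ⟨hcM, hc⟩
    · obtain ⟨k, hk⟩ := hSp (y * ⟨r, hrS⟩ * y⁻¹ * ⟨r, hrS⟩⁻¹)
      exact ⟨k, congrArg Subtype.val hk⟩

end main

end Cfsg.Agent.Helper2
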