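import Mathlib
import Cfsg.Agent.Helper2.HatLayer2

/-!
Helper lemmas (helper2): if `O_{p'}(G) = 1`, `R` is a `p`-subgroup and `D` is a normal `p'`-subgroup of
`N_G(R)`, then `D` centralizes `O_p(G)` and normalizes every component of `G`.
-/

set_option autoImplicit false

namespace Cfsg.Agent.Helper2

section main
variable {G : Type*} [Group G] [Finite G]

/-- `D` and `R` commute elementwise. -/
theorem comm_of_normal_pPrime_of_normalizer {p : ℕ} (R D : Subgroup G) (hR : IsPGroup p ↥R)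
    (hDR : D ≤ Subgroup.normalizer (R : Set G))
    (hRD : Subgroup.normalizer (R : Set G) ≤ Subgroup.normalizer (D : Set G))
    (hDp : (Nat.card ↥D).Coprime p) : ∀ d ∈ D, ∀ r ∈ R, d * r = r * d := by
  intro d hd r hr
  have h1 : d * r * d⁻¹ * r⁻¹ ∈ R :=
    R.mul_mem (conj_mem_of_le_normalizer hDR d hd r hr) (R.inv_mem hr)
  have h2 : d * r * d⁻¹ * r⁻¹ ∈ D := by
    have h3 : r * d⁻¹ * r⁻¹ ∈ D :=
      conj_mem_of_le_normalizer (Subgroup.le_normalizer.trans hRD) r hr _ (D.inv_mem hd)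
    have : d * r * d⁻¹ * r⁻¹ = d * (r * d⁻¹ * r⁻¹) := by group
    rw [this]; exact D.mul_mem hd h3
  have h4 := eq_one_of_isPGroup_of_coprime hR hDp h1 h2
  have := congrArg (· * (r * d)) h4
  simpa [mul_assoc] using this

/-- `D` centralizes `O_p(G)` (Thompson's `A × B` lemma). -/
theorem comm_pCore_of_normal_pPrime_of_normalizer {p : ℕ} [hp : Fact p.Prime] (R D : Subgroup G)
    (hR : IsPGroup p ↥R) (hDR : D ≤ Subgroup.normalizer (R : Set G))
    (hRD : Subgroup.normalizer (R : Set G) ≤ Subgroup.normalizer (D : Set G))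
    (hDp : (Nat.card ↥D).Coprime p) : ∀ d ∈ D, ∀ q ∈ Cfsg.pCore p G, d * q = q * d := by
  have hcomm := comm_of_normal_pPrime_of_normalizer R D hR hDR hRD hDp
  intro d hd
  have hQn : (Cfsg.pCore p G).Normal := inferInstance
  have hQp : IsPGroup p ↥(Cfsg.pCore p G) := Cfsg.Agent.Helper1.pCore_isPGroup p
  have hdord : (orderOf d).Coprime p :=
    Nat.Coprime.coprime_dvd_left (Subgroup.orderOf_dvd_natCard D hd) hDp
  have hNtop : Subgroup.normalizer ((Cfsg.pCore p G : Subgroup G) : Set G) = ⊤ :=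
    Subgroup.normalizer_eq_top _
  apply Cfsg.Agent.Helper5.thompson_AxB R hR d hdord ?_ (Cfsg.pCore p G) hQp ?_ ?_ ?_
  · rw [Subgroup.mem_centralizer_iff]
    intro r hr
    exact (hcomm d hd r hr).symm
  · rw [hNtop]; trivial
  · rw [hNtop]; exact le_top
  · intro q hq hqR
    have hqN : q ∈ Subgroup.normalizer (D : Set G) :=
      hRD (Subgroup.centralizer_le_normalizer _ hqR)
    have h1 : q * d * q⁻¹ * d⁻¹ ∈ D :=
      D.mul_mem ((Subgroup.mem_normalizer_iff.mp hqN d).mp hd) (D.inv_mem hd)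
    have h2 : q * d * q⁻¹ * d⁻¹ ∈ Cfsg.pCore p G := by
      have : q * d * q⁻¹ * d⁻¹ = q * (d * q⁻¹ * d⁻¹) := by group
      rw [this]
      exact Subgroup.mul_mem _ hq (hQn.conj_mem _ (Subgroup.inv_mem _ hq) d)
    have h4 := eq_one_of_isPGroup_of_coprime hQp hDp h2 h1
    have := congrArg (· * (d * q)) h4
    have h5 : q * d = d * q := by simpa [mul_assoc] using this
    exact h5.symm

end main

end Cfsg.Agent.Helper2
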