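import Mathlib
import Cfsg.Agent.Helper2.HatLayer3

/-!
Helper lemmas (helper2): an elementwise criterion for a `p'`-element to normalize every component of a
group `G` with `O_{p'}(G) = 1`.
-/

set_option autoImplicit false

namespace Cfsg.Agent.Helper2

section main
variable {G : Type*} [Group G] [Finite G]

/-- Let `O_{p'}(G) = 1`, `R` a `p`-subgroup, `D` a `p'`-subgroup and `d` a `p'`-element centralizing `R`
and `O_p(G)` such that `[w, e] ∈ D` for all `w ∈ C_{E(G)}(R)` and all powers `e` of `d`.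
Then `d` normalizes every component of `G`. -/
theorem mem_normalizer_component_of_commutators_mem (p : ℕ) [hp : Fact p.Prime]
    (hO : Cfsg.pPrimeCore p G = ⊥) (R D : Subgroup G) (hR : IsPGroup p ↥R)
    (hDp : (Nat.card ↥D).Coprime p) (d : G) (hdord : (orderOf d).Coprime p)
    (hcomm0 : ∀ r ∈ R, d * r = r * d)
    (hcent0 : ∀ q ∈ Cfsg.pCore p G, d * q = q * d)
    (hwD : ∀ w ∈ Cfsg.layer G ⊓ Subgroup.centralizer (R : Set G), ∀ e ∈ Subgroup.zpowers d,
      w * e * w⁻¹ * e⁻¹ ∈ D)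
    (L : Subgroup G) (hL : Cfsg.IsComponent L) : d ∈ Subgroup.normalizer (L : Set G) := by
  classical
  set Zd := Subgroup.zpowers d with hZd
  have hdZ : d ∈ Zd := Subgroup.mem_zpowers d
  have hcomm : ∀ e ∈ Zd, ∀ r ∈ R, e * r = r * e := by
    intro e he r hr
    have h1 : Zd ≤ Subgroup.centralizer ({r} : Set G) := by
      rw [hZd, Subgroup.zpowers_le, Subgroup.mem_centralizer_singleton_iff]
      exact hcomm0 r hr
    have := h1 he
    rw [Subgroup.mem_centralizer_singleton_iff] at this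
    exact this
  have hcent : ∀ e ∈ Zd, ∀ q ∈ Cfsg.pCore p G, e * q = q * e := by
    intro e he q hq
    have h1 : Zd ≤ Subgroup.centralizer ({q} : Set G) := by
      rw [hZd, Subgroup.zpowers_le, Subgroup.mem_centralizer_singleton_iff]
      exact hcent0 q hq
    have := h1 he
    rw [Subgroup.mem_centralizer_singleton_iff] at this
    exact this
  have hDord : ∀ e ∈ Zd, (orderOf e).Coprime p := by
    intro e he
    obtain ⟨k, rfl⟩ := Subgroup.mem_zpowers_iff.mp he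
    have h1 : (d ^ k) ^ orderOf d = 1 := by
      rw [← zpow_natCast, ← zpow_mul, mul_comm, zpow_mul, zpow_natCast, pow_orderOf_eq_one, one_zpow]
    exact Nat.Coprime.coprime_dvd_left (orderOf_dvd_of_pow_eq_one h1) hdord
  have hpow : ∀ x : G, (∃ k : ℕ, x ^ p ^ k = 1) → ∃ k : ℕ, orderOf x = p ^ k := by
    rintro x ⟨k, hk⟩
    obtain ⟨j, -, hj⟩ := (Nat.dvd_prime_pow hp.out).mp (orderOf_dvd_of_pow_eq_one hk)
    exact ⟨j, hj⟩
  have hRord : ∀ r ∈ R, ∃ k : ℕ, orderOf r = p ^ k := by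
    intro r hr
    obtain ⟨k, hk⟩ := hR ⟨r, hr⟩
    exact hpow r ⟨k, congrArg Subtype.val hk⟩
  have hcopDR : ∀ e ∈ Zd, ∀ r ∈ R, Nat.Coprime (orderOf e) (orderOf r) := by
    intro e he r hr
    obtain ⟨k, hk⟩ := hRord r hr
    rw [hk]; exact Nat.Coprime.pow_right k (hDord e he)
  rw [mem_normalizer_iff_cj]
  by_contra hne
  set M := orbSup R L with hM
  have hLM : L ≤ M := le_orbSup R L
  have hRM : R ≤ Subgroup.normalizer (M : Set G) := le_normalizer_orbSup R L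
  have hME : M ≤ Cfsg.layer G := orbSup_le_layer R hL
  have hkey : ∀ e ∈ Zd, cj e L ≠ L → cj e M ≤ Subgroup.centralizer (M : Set G) := by
    intro e he hne'
    rw [hM, cj_orbSup_of_comm R L e (fun r hr => hcomm e he r hr)]
    apply orbSup_le_centralizer R (isComponent_cj hL e) hL
    intro r hr r' hr' heq
    apply hne'
    have h1 : cj e L = cj (r⁻¹ * r') L := by
      calc cj e L = cj r⁻¹ (cj r (cj e L)) := by rw [cj_cj (cj e L), inv_mul_cancel, cj_one]
        _ = cj r⁻¹ (cj r' L) := by rw [heq]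
        _ = cj (r⁻¹ * r') L := cj_cj L _ _
    exact cj_eq_self_of_cj_eq_cj (hcomm e he _ (R.mul_mem (R.inv_mem hr) hr'))
      (hcopDR e he _ (R.mul_mem (R.inv_mem hr) hr')) h1
  obtain ⟨y, hyM, hyC, hyp, hyR⟩ := exists_noncentral_pElt hO R hR L hL M hLM hRM
  obtain ⟨ky, hky⟩ := hpow y hyp
  have hz : ∀ e ∈ Zd, ∀ r ∈ R, e * (y * r * y⁻¹ * r⁻¹) = (y * r * y⁻¹ * r⁻¹) * e := by
    intro e he r hr
    obtain ⟨hzM, hzC, hzp⟩ := hyR r hr
    apply hcent e he
    set z := y * r * y⁻¹ * r⁻¹ with hzdef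
    have hMsub : M.IsSubnormal :=
      Subgroup.IsSubnormal.step _ _ hME (Subgroup.Normal.isSubnormal inferInstance)
        ((Subgroup.normal_subgroupOf_iff_le_normalizer hME).mpr (layer_le_normalizer_orbSup R hL))
    have hzM' : Subgroup.zpowers z ≤ M := Subgroup.zpowers_le.mpr hzM
    have hsub : (Subgroup.zpowers z).IsSubnormal := by
      refine Subgroup.IsSubnormal.step _ _ hzM' hMsub
        ((Subgroup.normal_subgroupOf_iff_le_normalizer hzM').mpr ?_)
      apply le_normalizer_of_conj_mem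
      intro m hm x hx
      have hxC : x ∈ Subgroup.centralizer (M : Set G) := (Subgroup.zpowers_le.mpr hzC) hx
      rw [Subgroup.mem_centralizer_iff] at hxC
      rw [hxC m hm, mul_inv_cancel_right]
      exact hx
    have hzp' : IsPGroup p ↥(Subgroup.zpowers z) := by
      obtain ⟨j, hj⟩ := hpow z hzp
      apply IsPGroup.of_card (n := j)
      rw [Nat.card_zpowers, hj]
    exact isSubnormal_pGroup_le_pCore hsub hzp' (Subgroup.mem_zpowers z)
  have hlayer_n : (Cfsg.layer G).Normal := inferInstance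
  have hw : ∀ e ∈ Zd, y⁻¹ * (e * y * e⁻¹) ∈ Cfsg.layer G ⊓ Subgroup.centralizer (R : Set G) := by
    intro e he
    refine ⟨Subgroup.mul_mem _ (Subgroup.inv_mem _ (hME hyM)) (hlayer_n.conj_mem _ (hME hyM) e), ?_⟩
    change _ ∈ Subgroup.centralizer (R : Set G)
    rw [Subgroup.mem_centralizer_iff]
    intro r hr
    have her : r * e * r⁻¹ = e := by rw [← hcomm e he r hr, mul_inv_cancel_right]
    have hze : (y * r * y⁻¹ * r⁻¹) * e * (y * r * y⁻¹ * r⁻¹)⁻¹ = e := by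
      rw [← hz e he r hr, mul_inv_cancel_right]
    have h1 : r * y * r⁻¹ = (y * r * y⁻¹ * r⁻¹)⁻¹ * y := by group
    have h2 : r * (y⁻¹ * (e * y * e⁻¹)) * r⁻¹ = y⁻¹ * (e * y * e⁻¹) := by
      calc r * (y⁻¹ * (e * y * e⁻¹)) * r⁻¹
          = (r * y * r⁻¹)⁻¹ * (r * e * r⁻¹) * (r * y * r⁻¹) * (r * e * r⁻¹)⁻¹ := by group
        _ = ((y * r * y⁻¹ * r⁻¹)⁻¹ * y)⁻¹ * e * ((y * r * y⁻¹ * r⁻¹)⁻¹ * y) * e⁻¹ := by rw [her, h1]
        _ = y⁻¹ * ((y * r * y⁻¹ * r⁻¹) * e * (y * r * y⁻¹ * r⁻¹)⁻¹) * y * e⁻¹ := by group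
        _ = y⁻¹ * (e * y * e⁻¹) := by rw [hze]; group
    have := congrArg (· * r) h2
    simpa [mul_assoc] using this
  have hDpow : ∀ u ∈ D, u ^ Nat.card ↥D = 1 := by
    intro u hu
    have := pow_card_eq_one' (G := ↥D) (x := ⟨u, hu⟩)
    exact congrArg Subtype.val this
  set m := Nat.card ↥D with hm
  by_cases hp2 : p = 2
  · have hdd : d * d ∈ Zd := Zd.mul_mem hdZ hdZ
    have hne2 : cj (d * d) L ≠ L := by
      intro h
      apply hne
      rw [← mem_normalizer_iff_cj] at h ⊢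
      have h2 : d ^ 2 ∈ Subgroup.normalizer (L : Set G) := by rw [pow_two]; exact h
      apply mem_of_pow_mem_of_coprime _ _ h2
      have := hdord
      rw [hp2] at this
      exact this.symm
    set y₁ := d * y * d⁻¹ with hy₁
    set y₂ := (d * d) * y * (d * d)⁻¹ with hy₂
    have hy₁C : y₁ ∈ Subgroup.centralizer (M : Set G) := hkey d hdZ hne (conj_mem_cj M d y hyM)
    have hy₂C : y₂ ∈ Subgroup.centralizer (M : Set G) :=
      hkey (d * d) hdd hne2 (conj_mem_cj M (d * d) y hyM)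
    have hu : (y⁻¹ * y₁) * d * (y⁻¹ * y₁)⁻¹ * d⁻¹ ∈ D := hwD _ (hw d hdZ) d hdZ
    have hueq : (y⁻¹ * y₁) * d * (y⁻¹ * y₁)⁻¹ * d⁻¹ = y⁻¹ * (y₁ * y₂⁻¹ * y₁) := by
      rw [hy₁, hy₂]; group
    rw [hueq] at hu
    have hb : y₁ * y₂⁻¹ * y₁ ∈ Subgroup.centralizer (M : Set G) :=
      Subgroup.mul_mem _ (Subgroup.mul_mem _ hy₁C (Subgroup.inv_mem _ hy₂C)) hy₁C
    have h3 := pow_mem_centralizer_of_mul_pow_eq_one (M.inv_mem hyM) hb (hDpow _ hu)
    rw [inv_pow] at h3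
    have h4 : y ^ m ∈ Subgroup.centralizer (M : Set G) := by
      have := Subgroup.inv_mem _ h3
      rwa [inv_inv] at this
    apply hyC
    apply mem_of_pow_mem_of_coprime _ _ h4
    rw [hky]
    exact Nat.Coprime.pow_right ky hDp
  · have hdinv : d⁻¹ ∈ Zd := Zd.inv_mem hdZ
    have hne2 : cj d⁻¹ L ≠ L := by
      intro h
      apply hne
      have := cj_eq_of_cj_inv_eq h
      rwa [inv_inv] at this
    set y₁ := d * y * d⁻¹ with hy₁
    set y₂ := d⁻¹ * y * d with hy₂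
    have hy₁C : y₁ ∈ Subgroup.centralizer (M : Set G) := hkey d hdZ hne (conj_mem_cj M d y hyM)
    have hy₂C : y₂ ∈ Subgroup.centralizer (M : Set G) := by
      have := hkey d⁻¹ hdinv hne2 (conj_mem_cj M d⁻¹ y hyM)
      rwa [inv_inv] at this
    have hu : (y⁻¹ * y₁) * d⁻¹ * (y⁻¹ * y₁)⁻¹ * d ∈ D := by
      have := hwD _ (hw d hdZ) d⁻¹ hdinv
      rwa [inv_inv] at this
    have hcomm1 : y₁ * y⁻¹ = y⁻¹ * y₁ := by
      rw [Subgroup.mem_centralizer_iff] at hy₁C
      exact (hy₁C y⁻¹ (M.inv_mem hyM)).symm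
    have hueq : (y⁻¹ * y₁) * d⁻¹ * (y⁻¹ * y₁)⁻¹ * d = (y⁻¹ * y⁻¹) * (y₁ * y₂) := by
      calc (y⁻¹ * y₁) * d⁻¹ * (y⁻¹ * y₁)⁻¹ * d = y⁻¹ * (y₁ * y⁻¹) * y₂ := by
            rw [hy₁, hy₂]; group
        _ = y⁻¹ * (y⁻¹ * y₁) * y₂ := by rw [hcomm1]
        _ = (y⁻¹ * y⁻¹) * (y₁ * y₂) := by group
    rw [hueq] at hu
    have hb : y₁ * y₂ ∈ Subgroup.centralizer (M : Set G) := Subgroup.mul_mem _ hy₁C hy₂C
    have h3 := pow_mem_centralizer_of_mul_pow_eq_one (M.mul_mem (M.inv_mem hyM) (M.inv_mem hyM)) hb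
      (hDpow _ hu)
    have h4 : y ^ (2 * m) ∈ Subgroup.centralizer (M : Set G) := by
      have h5 : (y⁻¹ * y⁻¹) ^ m = (y ^ (2 * m))⁻¹ := by
        rw [← mul_inv_rev, ← pow_two, inv_pow, ← pow_mul]
      rw [h5] at h3
      have := Subgroup.inv_mem _ h3
      rwa [inv_inv] at this
    apply hyC
    apply mem_of_pow_mem_of_coprime _ _ h4
    rw [hky]
    apply Nat.Coprime.pow_right ky
    apply Nat.Coprime.mul_left _ hDp
    rw [Nat.coprime_primes Nat.prime_two hp.out]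
    exact fun h => hp2 h.symm

end main

end Cfsg.Agent.Helper2
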