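import Mathlib
import Cfsg.Agent.Helper2.HatLayer5
import Cfsg.Agent.Helper5.PResidual

/-!
Helper lemmas (helper2): perfect groups are generated by `p'`-elements; lifting `p'`-elements.
-/

set_option autoImplicit false

namespace Cfsg.Agent.Helper2

section general
variable {G : Type*} [Group G]

theorem pResidual_eq_top_of_isPerfect [Finite G] [Group.IsPerfect G] (p : ℕ) [Fact p.Prime] :
    Cfsg.pResidual p G = ⊤ := by
  by_contra hne
  have hQ : IsPGroup p (G ⧸ Cfsg.pResidual p G) := Cfsg.Agent.Helper5.isPGroup_quotient_pResidual p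
  have hnil : Group.IsNilpotent (G ⧸ Cfsg.pResidual p G) := hQ.isNilpotent
  have hnt : Nontrivial (G ⧸ Cfsg.pResidual p G) := by
    by_contra hs
    rw [not_nontrivial_iff_subsingleton] at hs
    apply hne
    rw [eq_top_iff]
    intro g _
    have : (QuotientGroup.mk g : G ⧸ Cfsg.pResidual p G) = 1 := Subsingleton.elim _ _
    exact (QuotientGroup.eq_one_iff g).mp this
  exact Group.IsPerfect.not_isNilpotent (G ⧸ Cfsg.pResidual p G) hnil

/-- A perfect subgroup of a finite group is generated by its `p'`-elements. -/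
theorem closure_coprime_eq_of_isPerfect [Finite G] (p : ℕ) [Fact p.Prime] (K : Subgroup G)
    [Group.IsPerfect ↥K] :
    Subgroup.closure {g : G | g ∈ K ∧ (orderOf g).Coprime p} = K := by
  rw [← Cfsg.Agent.Helper5.map_subtype_pResidual, pResidual_eq_top_of_isPerfect,
    ← MonoidHom.range_eq_map, Subgroup.range_subtype]

/-- A `p'`-element of a quotient lifts to a `p'`-element. -/
theorem exists_coprime_lift [Finite G] {H : Type*} [Group H] {p : ℕ} [hp : Fact p.Prime]
    (f : G →* H) (hf : Function.Surjective f) (y : H) (hy : (orderOf y).Coprime p) :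
    ∃ x : G, (orderOf x).Coprime p ∧ f x = y := by
  obtain ⟨x₀, rfl⟩ := hf y
  have hpos : orderOf x₀ ≠ 0 := (orderOf_pos x₀).ne'
  obtain ⟨a, n', hn', hn⟩ := Nat.exists_eq_pow_mul_and_not_dvd hpos p hp.out.one_lt.ne'
  set m := orderOf (f x₀) with hm
  have hcop : Nat.Coprime (p ^ a) m := Nat.Coprime.pow_left a hy.symm
  by_cases hm1 : m = 1
  · refine ⟨1, by simp, ?_⟩
    rw [map_one]
    exact (orderOf_eq_one_iff.mp hm1).symm
  have hmpos : 0 < m := Nat.pos_of_dvd_of_pos (orderOf_map_dvd f x₀) (orderOf_pos x₀)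
  have hm2 : 1 < m := by omega
  obtain ⟨c, -, hc⟩ := Nat.exists_mul_mod_eq_one_of_coprime hcop hm2
  refine ⟨x₀ ^ (p ^ a * c), ?_, ?_⟩
  · have h1 : (x₀ ^ (p ^ a * c)) ^ n' = 1 := by
      rw [← pow_mul, mul_comm (p ^ a) c, mul_assoc, ← hn, pow_mul', pow_orderOf_eq_one, one_pow]
    exact Nat.Coprime.coprime_dvd_left (orderOf_dvd_of_pow_eq_one h1)
      ((Nat.Prime.coprime_iff_not_dvd hp.out).mpr hn').symm
  · rw [map_pow, ← pow_mod_orderOf, ← hm, hc, pow_one]

end general

end Cfsg.Agent.Helper2
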