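import Mathlib
import Cfsg.Agent.Helper2.HatLayer4
import Cfsg.Agent.Helper2.HatLayer6
import Cfsg.Agent.Helper1.Fitting

/-!
Helper lemmas (helper2): the preimage of `E(N/O_{p'}(N))`, `N = N_G(P)`, normalizes every component of `G`
when `O_{p'}(G) = 1`.
-/

set_option autoImplicit false

namespace Cfsg.Agent.Helper2

theorem normalizer_le_normalizer_centralizer {G : Type*} [Group G] (P : Subgroup G) :
    Subgroup.normalizer (P : Set G) ≤
      Subgroup.normalizer ((Subgroup.centralizer (P : Set G) : Subgroup G) : Set G) := by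
  apply le_normalizer_of_conj_mem
  intro n hn w hw
  rw [Subgroup.mem_centralizer_iff] at hw ⊢
  intro r hr
  have hr' : n⁻¹ * r * n⁻¹⁻¹ ∈ P :=
    conj_mem_of_le_normalizer (le_refl _) n⁻¹ (Subgroup.inv_mem _ hn) r hr
  rw [inv_inv] at hr'
  have h1 := hw _ hr'
  calc r * (n * w * n⁻¹) = n * ((n⁻¹ * r * n) * w) * n⁻¹ := by group
    _ = n * (w * (n⁻¹ * r * n)) * n⁻¹ := by rw [h1]
    _ = n * w * n⁻¹ * r := by group

/-- Elements of the preimage of the layer of `N/O_{p'}(N)` centralize the normal `p`-subgroups of `N`. -/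
theorem comm_of_mk_mem_layer {N : Type*} [Group N] [Finite N] {p : ℕ} [hp : Fact p.Prime]
    (V : Subgroup N) (hV : V.Normal) (hVp : IsPGroup p ↥V) (k : N)
    (hk : QuotientGroup.mk' (Cfsg.pPrimeCore p N) k ∈ Cfsg.layer (N ⧸ Cfsg.pPrimeCore p N)) :
    ∀ v ∈ V, k * v = v * k := by
  intro v hv
  set π := QuotientGroup.mk' (Cfsg.pPrimeCore p N) with hπ
  have hVb : V.map π ≤ Cfsg.fittingSubgroup (N ⧸ Cfsg.pPrimeCore p N) := by
    apply Cfsg.Agent.Helper1.le_fittingSubgroup (hV.map π (QuotientGroup.mk'_surjective _))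
    exact (hVp.map π).isNilpotent
  have h1 := layer_commutator_fittingSubgroup (G := N ⧸ Cfsg.pPrimeCore p N)
  rw [Subgroup.commutator_eq_bot_iff_le_centralizer] at h1
  have h2 := h1 hk
  rw [Subgroup.mem_centralizer_iff] at h2
  have h3 := h2 (π v) (hVb ⟨v, hv, rfl⟩)
  have hc1 : k * v * k⁻¹ * v⁻¹ ∈ Cfsg.pPrimeCore p N := by
    rw [← QuotientGroup.ker_mk' (Cfsg.pPrimeCore p N), MonoidHom.mem_ker, ← hπ]
    simp only [map_mul, map_inv]
    rw [← h3]; group
  have hc2 : k * v * k⁻¹ * v⁻¹ ∈ V := V.mul_mem (hV.conj_mem v hv k) (V.inv_mem hv)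
  have h4 := eq_one_of_isPGroup_of_coprime hVp (Cfsg.Agent.Helper1.card_pPrimeCore_coprime p) hc2 hc1
  have := congrArg (· * (v * k)) h4
  simpa [mul_assoc] using this

section main
variable {G : Type*} [Group G] [Finite G]

theorem comap_layer_le_normalizer_component (p : ℕ) [hp : Fact p.Prime]
    (hO : Cfsg.pPrimeCore p G = ⊥) (P : Subgroup G) (hP : IsPGroup p ↥P) (L : Subgroup G)
    (hL : Cfsg.IsComponent L) :
    (Cfsg.layer (↥(Subgroup.normalizer (P : Set G)) ⧸
        Cfsg.pPrimeCore p ↥(Subgroup.normalizer (P : Set G)))).comap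
      (QuotientGroup.mk' (Cfsg.pPrimeCore p ↥(Subgroup.normalizer (P : Set G)))) ≤
      (Subgroup.normalizer (L : Set G)).subgroupOf (Subgroup.normalizer (P : Set G)) := by
  set N := Subgroup.normalizer (P : Set G) with hN
  set DN := Cfsg.pPrimeCore p ↥N with hDN
  set π := QuotientGroup.mk' DN with hπ
  set Stab := (Subgroup.normalizer (L : Set G)).subgroupOf N with hStab
  set D := DN.map N.subtype with hD
  have hDNc : (Nat.card ↥DN).Coprime p := Cfsg.Agent.Helper1.card_pPrimeCore_coprime p
  have hDc : (Nat.card ↥D).Coprime p := by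
    rw [hD, Subgroup.card_map_of_injective N.subtype_injective]; exact hDNc
  have hDN' : D ≤ N := Subgroup.map_subtype_le _
  have hND : N ≤ Subgroup.normalizer (D : Set G) := by
    apply le_normalizer_of_conj_mem
    intro n hn x hx
    obtain ⟨x', hx', rfl⟩ := hx
    have hnorm : DN.Normal := inferInstance
    exact ⟨⟨n, hn⟩ * x' * ⟨n, hn⟩⁻¹, hnorm.conj_mem x' hx' ⟨n, hn⟩, rfl⟩
  have hDL : D ≤ Subgroup.normalizer (L : Set G) :=
    le_normalizer_component_of_normal_pPrime_of_normalizer p hO P D hP hDN' hND hDc L hL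
  have hDStab : DN ≤ Stab := fun x hx => hDL ⟨x, hx, rfl⟩
  have hsuff : Cfsg.layer (↥N ⧸ DN) ≤ Stab.map π := by
    unfold Cfsg.layer
    apply sSup_le
    intro Kb hKb
    set I := Cfsg.layer G ⊓ Subgroup.centralizer (P : Set G) with hI
    have hIN : I ≤ N := inf_le_right.trans (Subgroup.centralizer_le_normalizer _)
    have hIn : (I.subgroupOf N).Normal := by
      rw [Subgroup.normal_subgroupOf_iff_le_normalizer hIN]
      apply le_normalizer_of_conj_mem
      intro n hn w hw
      have hlayer_n : (Cfsg.layer G).Normal := inferInstance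
      exact ⟨hlayer_n.conj_mem w hw.1 n,
        conj_mem_of_le_normalizer (normalizer_le_normalizer_centralizer P) n hn w hw.2⟩
    set Ib := (I.subgroupOf N).map π with hIb
    have hIbn : Ib.Normal := hIn.map π (QuotientGroup.mk'_surjective DN)
    have hKbN : Kb ≤ Subgroup.normalizer (Ib : Set (↥N ⧸ DN)) := by
      rw [Subgroup.normalizer_eq_top]; exact le_top
    rcases component_le_or_commutator_eq_bot Kb Ib hKb hKbN with h | h
    · refine h.trans (Subgroup.map_mono ?_)
      intro w hw
      exact layer_le_normalizer_component hL hw.1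
    · have hperf : Group.IsPerfect ↥Kb := hKb.2.1
      rw [← closure_coprime_eq_of_isPerfect p Kb, Subgroup.closure_le]
      rintro kb ⟨hkb, hkbord⟩
      obtain ⟨k, hkord, rfl⟩ := exists_coprime_lift π (QuotientGroup.mk'_surjective DN) kb hkbord
      refine ⟨k, ?_, rfl⟩
      change (k : G) ∈ Subgroup.normalizer (L : Set G)
      have hklayer : π k ∈ Cfsg.layer (↥N ⧸ DN) := component_le_layer hKb hkb
      have hkordG : (orderOf (k : G)).Coprime p := by
        rw [Subgroup.orderOf_coe]; exact hkord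
      have hcommP : ∀ r ∈ P, (k : G) * r = r * (k : G) := by
        intro r hr
        have hrN : r ∈ N := Subgroup.le_normalizer hr
        have := comm_of_mk_mem_layer (P.subgroupOf N) Subgroup.normal_in_normalizer
          (hP.comap_of_injective N.subtype N.subtype_injective) k hklayer ⟨r, hrN⟩
          (Subgroup.mem_subgroupOf.mpr hr)
        exact congrArg Subtype.val this
      apply mem_normalizer_component_of_commutators_mem p hO P D hP hDc (k : G) hkordG hcommP ?_ ?_ L hL
      · have hQn : (Cfsg.pCore p G).Normal := inferInstance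
        have hQp : IsPGroup p ↥(Cfsg.pCore p G) := Cfsg.Agent.Helper1.pCore_isPGroup p
        have hNtop : Subgroup.normalizer ((Cfsg.pCore p G : Subgroup G) : Set G) = ⊤ :=
          Subgroup.normalizer_eq_top _
        apply Cfsg.Agent.Helper5.thompson_AxB P hP (k : G) hkordG ?_ (Cfsg.pCore p G) hQp ?_ ?_ ?_
        · rw [Subgroup.mem_centralizer_iff]
          intro r hr
          exact (hcommP r hr).symm
        · rw [hNtop]; trivial
        · rw [hNtop]; exact le_top
        · intro q hq hqP
          have hqN : q ∈ N := Subgroup.centralizer_le_normalizer _ hqP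
          have := comm_of_mk_mem_layer ((Cfsg.pCore p G).subgroupOf N) (hQn.subgroupOf N)
            (hQp.comap_of_injective N.subtype N.subtype_injective) k hklayer ⟨q, hqN⟩
            (Subgroup.mem_subgroupOf.mpr hq)
          exact congrArg Subtype.val this
      · intro w hw e he
        have hwN : w ∈ N := hIN hw
        obtain ⟨j, rfl⟩ := Subgroup.mem_zpowers_iff.mp he
        have h1 : π ⟨w, hwN⟩ ∈ Ib := ⟨⟨w, hwN⟩, Subgroup.mem_subgroupOf.mpr hw, rfl⟩
        have h2 : π (k ^ j) ∈ Kb := by rw [map_zpow]; exact Kb.zpow_mem hkb j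
        rw [Subgroup.commutator_eq_bot_iff_le_centralizer] at h
        have h3 := h h2
        rw [Subgroup.mem_centralizer_iff] at h3
        have h4 := h3 _ h1
        have h5 : (⟨w, hwN⟩ : ↥N) * k ^ j * (⟨w, hwN⟩ : ↥N)⁻¹ * (k ^ j)⁻¹ ∈ DN := by
          rw [← QuotientGroup.ker_mk' DN, MonoidHom.mem_ker, ← hπ]
          simp only [map_mul, map_inv]
          rw [h4]; group
        exact ⟨_, h5, by simp⟩
  intro x hx
  have h1 : π x ∈ Stab.map π := hsuff hx
  obtain ⟨s, hs, hsx⟩ := h1
  have h2 : s⁻¹ * x ∈ DN := by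
    rw [← QuotientGroup.ker_mk' DN, MonoidHom.mem_ker, map_mul, map_inv, ← hπ, hsx]
    group
  have h3 : x = s * (s⁻¹ * x) := by group
  rw [h3]
  exact Stab.mul_mem hs (hDStab h2)

end main

end Cfsg.Agent.Helper2
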