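import Mathlib
import Cfsg.Agent.Helper2.HatLayer7
import Cfsg.Agent.Helper2.Balance3
import Cfsg.Agent.Helper2.Balance4
import Cfsg.Agent.Helper2.Layer3
import Cfsg.Agent.Helper2.CharPLocal

/-!
Helper lemmas (helper2): `L_{p'}`-balance for groups with `O_{p'}(G) = 1` under the Schreier property.
-/

set_option autoImplicit false

namespace Cfsg.Agent.Helper2

open scoped commutatorElement

section main
variable {G : Type*} [Group G] [Finite G]

/-- `F(G) ≤ O_p(G)` when `O_{p'}(G) = 1`. -/
theorem fittingSubgroup_le_pCore_of_pPrimeCore_eq_bot (p : ℕ) [hp : Fact p.Prime]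
    (hO : Cfsg.pPrimeCore p G = ⊥) : Cfsg.fittingSubgroup G ≤ Cfsg.pCore p G := by
  rw [Cfsg.Agent.Helper1.fittingSubgroup_eq_fitJoin]
  unfold Cfsg.Agent.Helper1.fitJoin
  apply iSup_le
  intro q
  by_cases hq : (q : ℕ) = p
  · rw [hq]
  · have : Fact (q : ℕ).Prime := ⟨q.2⟩
    have h1 : Cfsg.pCore (q : ℕ) G ≤ Cfsg.pPrimeCore p G := by
      apply Cfsg.Agent.Helper1.le_pPrimeCore inferInstance
      obtain ⟨n, hn⟩ := IsPGroup.iff_card.1 (Cfsg.Agent.Helper5.isPGroup_pCore (G := G) (q : ℕ))
      rw [hn]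
      apply Nat.Coprime.pow_left
      rw [Nat.coprime_primes q.2 hp.out]
      exact hq
    rw [hO] at h1
    exact h1.trans bot_le

/-- `p'`-elements of the preimage of the layer of `N/O_{p'}(N)`, `N = N_G(P)`, centralize `O_p(G)`. -/
theorem comm_pCore_of_mk_mem_layer (p : ℕ) [hp : Fact p.Prime] (P : Subgroup G) (hP : IsPGroup p ↥P)
    (k : ↥(Subgroup.normalizer (P : Set G))) (hkord : (orderOf k).Coprime p)
    (hklayer : QuotientGroup.mk' (Cfsg.pPrimeCore p ↥(Subgroup.normalizer (P : Set G))) k ∈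
      Cfsg.layer (↥(Subgroup.normalizer (P : Set G)) ⧸
        Cfsg.pPrimeCore p ↥(Subgroup.normalizer (P : Set G)))) :
    ∀ q ∈ Cfsg.pCore p G, (k : G) * q = q * (k : G) := by
  have hkordG : (orderOf (k : G)).Coprime p := by
    rw [Subgroup.orderOf_coe]; exact hkord
  have hcommP : ∀ r ∈ P, (k : G) * r = r * (k : G) := by
    intro r hr
    have hrN : r ∈ (Subgroup.normalizer (P : Set G)) := Subgroup.le_normalizer hr
    have := comm_of_mk_mem_layer (P.subgroupOf (Subgroup.normalizer (P : Set G))) Subgroup.normal_in_normalizer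
      (hP.comap_of_injective (Subgroup.normalizer (P : Set G)).subtype (Subgroup.normalizer (P : Set G)).subtype_injective) k hklayer ⟨r, hrN⟩
      (Subgroup.mem_subgroupOf.mpr hr)
    exact congrArg Subtype.val this
  have hQn : (Cfsg.pCore p G).Normal := inferInstance
  have hQp : IsPGroup p ↥(Cfsg.pCore p G) := Cfsg.Agent.Helper1.pCore_isPGroup p
  have hNtop : Subgroup.normalizer ((Cfsg.pCore p G : Subgroup G) : Set G) = ⊤ :=
    Subgroup.normalizer_eq_top _
  apply Cfsg.Agent.Helper5.thompson_AxB P hP (k : G) hkordG ?_ (Cfsg.pCore p G) hQp ?_ ?_ ?_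
  · rw [Subgroup.mem_centralizer_iff]
    intro r hr
    exact (hcommP r hr).symm
  · rw [hNtop]; trivial
  · rw [hNtop]; exact le_top
  · intro q hq hqP
    have hqN : q ∈ (Subgroup.normalizer (P : Set G)) := Subgroup.centralizer_le_normalizer _ hqP
    have := comm_of_mk_mem_layer ((Cfsg.pCore p G).subgroupOf (Subgroup.normalizer (P : Set G))) (hQn.subgroupOf (Subgroup.normalizer (P : Set G)))
      (hQp.comap_of_injective (Subgroup.normalizer (P : Set G)).subtype (Subgroup.normalizer (P : Set G)).subtype_injective) k hklayer ⟨q, hqN⟩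
      (Subgroup.mem_subgroupOf.mpr hq)
    exact congrArg Subtype.val this

/-- `L_{p'}`-balance when `O_{p'}(G) = 1`: a perfect subgroup of `N = N_G(P)` inside the preimage of
`E(N/O_{p'}(N))` lies in `E(G)`, if all components of `G` have the Schreier property. -/
theorem map_le_layer_of_perfect_of_le_comap_layer (p : ℕ) [hp : Fact p.Prime]
    (hO : Cfsg.pPrimeCore p G = ⊥)
    (hS : ∀ L : Subgroup G, Cfsg.IsComponent L →
      Group.IsSolvable (Cfsg.Out (↥L ⧸ Subgroup.center ↥L)))
    (P : Subgroup G) (hP : IsPGroup p ↥P)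
    (K : Subgroup ↥(Subgroup.normalizer (P : Set G))) (hKperf : ⁅K, K⁆ = K)
    (hKJ : K ≤ (Cfsg.layer (↥(Subgroup.normalizer (P : Set G)) ⧸
        Cfsg.pPrimeCore p ↥(Subgroup.normalizer (P : Set G)))).comap
      (QuotientGroup.mk' (Cfsg.pPrimeCore p ↥(Subgroup.normalizer (P : Set G))))) :
    K.map (Subgroup.normalizer (P : Set G)).subtype ≤ Cfsg.layer G := by
  set K' := K.map (Subgroup.normalizer (P : Set G)).subtype with hK'
  set E := Cfsg.layer G with hE
  set Q := Cfsg.pCore p G with hQ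
  set Fs := Cfsg.generalizedFittingSubgroup G with hFs
  have hK'perf : ⁅K', K'⁆ = K' := by
    rw [hK', ← Subgroup.map_commutator, hKperf]
  -- (B1)
  have hB1 : ∀ L : Subgroup G, Cfsg.IsComponent L → K' ≤ Subgroup.normalizer (L : Set G) := by
    intro L hL
    rintro _ ⟨k, hk, rfl⟩
    have := comap_layer_le_normalizer_component p hO P hP L hL (hKJ hk)
    exact Subgroup.mem_subgroupOf.mp this
  -- (B3)
  have hB3 : ∀ L : Subgroup G, Cfsg.IsComponent L → K' ≤ L ⊔ Subgroup.centralizer (L : Set G) :=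
    fun L hL => le_sup_centralizer_of_out_solvable L (component_perfect hL) (hS L hL) K' hK'perf
      (hB1 L hL)
  have hB4 : K' ≤ E ⊔ Subgroup.centralizer (E : Set G) := le_layer_sup_centralizer K' hB3
  -- (B2)
  have hB2 : K' ≤ Subgroup.centralizer (Q : Set G) := by
    have hperfK : Group.IsPerfect ↥K := Subgroup.isPerfect_iff.mpr hKperf
    rw [hK', Subgroup.map_le_iff_le_comap, ← closure_coprime_eq_of_isPerfect p K, Subgroup.closure_le]
    rintro k ⟨hk, hkord⟩
    change (k : G) ∈ Subgroup.centralizer (Q : Set G)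
    rw [Subgroup.mem_centralizer_iff]
    intro q hq
    exact (comm_pCore_of_mk_mem_layer p P hP k hkord (hKJ hk) q hq).symm
  -- `E` centralizes `Q`
  have hEQ : E ≤ Subgroup.centralizer (Q : Set G) := by
    rw [← Subgroup.commutator_eq_bot_iff_le_centralizer]
    exact layer_commutator_solvable_normal Q (isSolvable_pCore p)
  have hFQ : Cfsg.fittingSubgroup G ≤ Q := fittingSubgroup_le_pCore_of_pPrimeCore_eq_bot p hO
  have hEn : E.Normal := inferInstance
  -- every element of `K'` is `e * c` with `c` centralizing `F*(G)`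
  have hdecomp : ∀ k ∈ K', ∃ e ∈ E, ∃ c ∈ Subgroup.centralizer (Fs : Set G), k = e * c := by
    intro k hk
    obtain ⟨e, he, c, hc, hkec⟩ := Cfsg.Agent.Helper1.mem_sup_of_le_normalizer
      (Subgroup.centralizer_le_normalizer (E : Set G)) (hB4 hk)
    refine ⟨e, he, c, ?_, hkec⟩
    have hcQ : c ∈ Subgroup.centralizer (Q : Set G) := by
      have h1 : c = e⁻¹ * k := by rw [hkec]; group
      rw [h1]
      exact Subgroup.mul_mem _ (Subgroup.inv_mem _ (hEQ he)) (hB2 hk)
    have h2 : Fs ≤ Subgroup.centralizer ({c} : Set G) := by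
      rw [hFs]
      unfold Cfsg.generalizedFittingSubgroup
      apply sup_le
      · intro y hy
        rw [Subgroup.mem_centralizer_iff] at hc
        rw [Subgroup.mem_centralizer_singleton_iff]
        exact hc y hy
      · intro y hy
        rw [Subgroup.mem_centralizer_iff] at hcQ
        rw [Subgroup.mem_centralizer_singleton_iff]
        exact hcQ y (hFQ hy)
    rw [Subgroup.mem_centralizer_iff]
    intro y hy
    have := h2 hy
    rw [Subgroup.mem_centralizer_singleton_iff] at this
    exact this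
  have hcent : Subgroup.centralizer (Fs : Set G) ≤ Fs := centralizer_generalizedFittingSubgroup_le
  -- commutators of elements of `K'` lie in `E`
  rw [← hK'perf, Subgroup.commutator_le]
  intro x hx y hy
  obtain ⟨e, he, c, hc, rfl⟩ := hdecomp x hx
  obtain ⟨e', he', c', hc', rfl⟩ := hdecomp y hy
  have hcc' : ⁅c, c'⁆ = 1 := by
    rw [commutatorElement_eq_one_iff_mul_comm]
    rw [Subgroup.mem_centralizer_iff] at hc
    exact (hc c' (hcent hc')).symm
  rw [← QuotientGroup.eq_one_iff (N := E)]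
  have h1 : ((e * c : G) : G ⧸ E) = (c : G ⧸ E) := by
    rw [QuotientGroup.mk_mul, (QuotientGroup.eq_one_iff e).mpr he, one_mul]
  have h2 : ((e' * c' : G) : G ⧸ E) = (c' : G ⧸ E) := by
    rw [QuotientGroup.mk_mul, (QuotientGroup.eq_one_iff e').mpr he', one_mul]
  have h3 : ((⁅e * c, e' * c'⁆ : G) : G ⧸ E) = ((⁅c, c'⁆ : G) : G ⧸ E) := by
    simp only [commutatorElement_def, QuotientGroup.mk_mul, QuotientGroup.mk_inv] at h1 h2 ⊢
    rw [h1, h2]
  rw [h3, hcc']
  rfl

end main

end Cfsg.Agent.Helper2
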