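import Mathlib
import Cfsg.Agent.Helper2.Balance7

/-!
Helper lemmas (helper2): `L_{2'}`-balance, unconditional glue, part 2.  From the statement for groups
with `O(G) = 1` (`BalStmt`) to the `N_X(R)`-form and the `C_X(T)`-form.
-/

set_option autoImplicit false

namespace Cfsg.Agent.Helper2

open scoped commutatorElement
open Cfsg.Agent.Helper1

universe u

/-- `L_{2'}`-balance for groups with `O(G) = 1`: every `2`-component of `N_G(P)` lies in `E(G)`. -/
def BalStmt : Prop :=
  ∀ {G : Type u} [Group G] [Finite G], Cfsg.pPrimeCore 2 G = ⊥ → ∀ (P : Subgroup G),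
    IsPGroup 2 ↥P → ∀ I : Subgroup ↥(Subgroup.normalizer (P : Set G)), Cfsg.IsPComponent 2 I →
      I.map (Subgroup.normalizer (P : Set G)).subtype ≤ Cfsg.layer G

section main
variable {X : Type u} [Group X] [Finite X]

/-- `L_{2'}`-balance, normalizer form. -/
theorem pLayer_normalizer_le_pLayer_two_of (h3 : BalStmt.{u}) (R : Subgroup X)
    (hR : IsPGroup 2 ↥R) :
    (Cfsg.pLayer 2 ↥(Subgroup.normalizer (R : Set X))).map
      (Subgroup.normalizer (R : Set X)).subtype ≤ Cfsg.pLayer 2 X := by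
  haveI hp : Fact (Nat.Prime 2) := ⟨Nat.prime_two⟩
  set O := Cfsg.pPrimeCore 2 X with hO
  set π := QuotientGroup.mk' O with hπ
  set Y := Subgroup.normalizer (R : Set X) with hY
  set Rb := R.map π with hRb
  set Nb := Subgroup.normalizer (Rb : Set (X ⧸ O)) with hNb
  have hOc : (Nat.card ↥O).Coprime 2 := Cfsg.Agent.Helper1.card_pPrimeCore_coprime 2
  have hObar : Cfsg.pPrimeCore 2 (X ⧸ O) = ⊥ := Cfsg.Agent.Helper1.pPrimeCore_quotient_pPrimeCore 2
  have hNmap : Y.map π = Nb := map_normalizer_eq_of_coprime 2 O hOc R hR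
  let f : ↥Y →* ↥Nb := (π.comp Y.subtype).codRestrict Nb (fun y => by
    rw [← hNmap]; exact ⟨y, y.2, rfl⟩)
  have hf : Function.Surjective f := by
    rintro ⟨n, hn⟩
    rw [← hNmap] at hn
    obtain ⟨y, hy, rfl⟩ := hn
    exact ⟨⟨y, hy⟩, rfl⟩
  have hker : (Nat.card f.ker).Coprime 2 := by
    have h1 : f.ker.map Y.subtype ≤ O := by
      rintro _ ⟨y, hy, rfl⟩
      have h2 : f y = 1 := MonoidHom.mem_ker.mp hy
      have h3 : π (y : X) = 1 := congrArg Subtype.val h2
      rw [hπ, QuotientGroup.mk'_apply, QuotientGroup.eq_one_iff] at h3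
      exact h3
    have h4 := Subgroup.card_dvd_of_le h1
    rw [Subgroup.card_map_of_injective Y.subtype_injective] at h4
    exact Nat.Coprime.coprime_dvd_left h4 hOc
  have hcomp : Nb.subtype.comp f = π.comp Y.subtype := by
    ext y; rfl
  unfold Cfsg.pLayer
  rw [(Subgroup.gc_map_comap _).l_sSup]
  apply iSup₂_le
  intro K hK
  set K' := K.map Y.subtype with hK'
  have hKf : Cfsg.IsPComponent 2 (K.map f) := isPComponent_map_of_surjective 2 f hf hker K hK
  have h1 := h3 hObar Rb (hR.map π) (K.map f) hKf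
  have h2 : (K.map f).map Nb.subtype = K'.map π := by
    rw [hK', Subgroup.map_map, Subgroup.map_map, hcomp]
  rw [h2, ← map_pLayer 2] at h1
  have h3' : K' ≤ Cfsg.pLayer 2 X ⊔ O := by
    have := Subgroup.map_le_iff_le_comap.mp h1
    rwa [comap_map_mk'_eq_sup] at this
  have h4 : opp 2 K' = K' := by
    rw [hK', ← map_opp_eq, pComponent_opp_eq 2 hK]
  have hLsub : (Cfsg.pLayer 2 X).IsSubnormal := Subgroup.Normal.isSubnormal inferInstance
  change K' ≤ sSup {K : Subgroup X | Cfsg.IsPComponent 2 K}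
  rw [← h4]
  calc opp 2 K' ≤ opp 2 (Cfsg.pLayer 2 X ⊔ O) := opp_mono h3'
    _ = opp 2 (Cfsg.pLayer 2 X) := opp_sup_eq O hOc _ hLsub
    _ ≤ Cfsg.pLayer 2 X := opp_le 2 _

/-- `L_{2'}`-balance, centralizer form (the statement of `S1301`). -/
theorem pLayer_centralizer_le_pLayer_two_of (h3 : BalStmt.{u}) (T : Subgroup X)
    (hT : IsPGroup 2 ↥T) :
    (Cfsg.pLayer 2 ↥(Subgroup.centralizer (T : Set X))).map
      (Subgroup.centralizer (T : Set X)).subtype ≤ Cfsg.pLayer 2 X := by
  haveI hp : Fact (Nat.Prime 2) := ⟨Nat.prime_two⟩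
  set C := Subgroup.centralizer (T : Set X) with hC
  set N := Subgroup.normalizer (T : Set X) with hN
  have hCN : C ≤ N := Subgroup.centralizer_le_normalizer _
  haveI hMn : (C.subgroupOf N).Normal := by
    rw [hC, hN]; infer_instance
  let e : ↥(C.subgroupOf N) ≃* ↥C := Subgroup.subgroupOfEquivOfLe hCN
  have h1 : (Cfsg.pLayer 2 ↥(C.subgroupOf N)).map e.toMonoidHom = Cfsg.pLayer 2 ↥C :=
    map_pLayer_equiv 2 e
  have h2 : C.subtype.comp e.toMonoidHom = N.subtype.comp (C.subgroupOf N).subtype := by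
    ext x; rfl
  have h4 := map_pLayer_subtype_le_of_normal 2 (C.subgroupOf N)
  have h5 := pLayer_normalizer_le_pLayer_two_of h3 T hT
  rw [← h1, Subgroup.map_map, h2, ← Subgroup.map_map]
  exact (Subgroup.map_mono h4).trans h5

end main

end Cfsg.Agent.Helper2
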