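import Mathlib
import Cfsg.Agent.Helper2.Invol
import Cfsg.Agent.Helper2.ClassCount

set_option autoImplicit false

namespace Cfsg.Agent.Helper2

open Finset

variable {G : Type*} [Group G] [Fintype G] [DecidableEq G]

/-- The set of involutions. -/
noncomputable def invols (G : Type*) [Group G] [Fintype G] [DecidableEq G] : Finset G :=
  univ.filter (fun u : G => orderOf u = 2)

/-- `bfβ x` is the number of involutions `u` such that `u * x` is an involution, i.e. the number
of ways of writing `x` as a product of two involutions. -/
noncomputable def bfβ (x : G) : ℕ := ((invols G).filter (fun u => orderOf (u * x) = 2)).card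

theorem mem_invols {u : G} : u ∈ invols G ↔ orderOf u = 2 := by
  simp [invols]

theorem card_invols_eq : (invols G).card = Nat.card {t : G // orderOf t = 2} := by
  rw [natCard_subtype_eq_card_filter]; rfl

/-- The Brauer–Fowler counting identity: `n ^ 2 = ∑ x, β x`. -/
theorem sum_bfβ : ∑ x : G, bfβ x = (invols G).card * (invols G).card := by
  have h1 : ∀ x : G, bfβ x = ∑ u ∈ invols G, if orderOf (u * x) = 2 then 1 else 0 := by
    intro x
    rw [bfβ, card_filter]
  simp_rw [h1]
  rw [sum_comm]
  have h2 : ∀ u ∈ invols G, (∑ x : G, if orderOf (u * x) = 2 then 1 else 0) = (invols G).card := by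
    intro u _
    rw [← card_filter]
    apply card_equiv (Equiv.mulLeft u)
    intro x
    simp [invols]
  rw [sum_congr rfl h2, sum_const, smul_eq_mul]

theorem bfβ_one : bfβ (1 : G) = (invols G).card := by
  rw [bfβ]
  congr 1
  apply filter_true_of_mem
  intro u hu
  rw [mul_one]; exact mem_invols.mp hu

omit [Fintype G] [DecidableEq G] in
/-- If `u` and `u * x` are involutions then `u` inverts `x`. -/
theorem inverts_of_invol_mul {u x : G} (hu : orderOf u = 2) (hux : orderOf (u * x) = 2) :
    u * x * u⁻¹ = x⁻¹ := by
  have huu := mul_self_of_orderOf_two hu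
  have h2 := mul_self_of_orderOf_two hux
  have huinv := inv_eq_self_of_orderOf_two hu
  rw [huinv]
  have : u * x * u * x = 1 := by simpa [mul_assoc] using h2
  exact eq_inv_of_mul_eq_one_left this

/-- For `x ≠ 1`... in fact for all `x`: `β x ≤ |C(x)|`. -/
theorem bfβ_le_card_centralizer (x : G) :
    bfβ x ≤ Nat.card (Subgroup.centralizer ({x} : Set G)) := by
  rw [natCard_centralizer_eq_card_filter x, bfβ]
  by_cases hne : ((invols G).filter (fun u => orderOf (u * x) = 2)).Nonempty
  · obtain ⟨u0, hu0⟩ := hne
    rw [mem_filter, mem_invols] at hu0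
    have h0 := inverts_of_invol_mul hu0.1 hu0.2
    apply card_le_card_of_injOn (fun u => u0⁻¹ * u)
    · intro u hu
      have hu' := hu
      simp only [coe_filter, Set.mem_ofPred_eq, mem_invols] at hu'
      have h1 := inverts_of_invol_mul hu'.1 hu'.2
      simp only [coe_filter, mem_univ, true_and, Set.mem_ofPred_eq]
      -- `u0⁻¹ * u` commutes with `x`
      have e1 : u * x = x⁻¹ * u := by
        have := congrArg (· * u) h1
        simpa [mul_assoc] using this
      have e0 : u0 * x = x⁻¹ * u0 := by
        have := congrArg (· * u0) h0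
        simpa [mul_assoc] using this
      have e0' : u0⁻¹ * x⁻¹ = x * u0⁻¹ := by
        have : x⁻¹ = u0 * x * u0⁻¹ := h0.symm
        rw [this]; group
      calc u0⁻¹ * u * x = u0⁻¹ * (u * x) := by rw [mul_assoc]
        _ = u0⁻¹ * (x⁻¹ * u) := by rw [e1]
        _ = (u0⁻¹ * x⁻¹) * u := by rw [mul_assoc]
        _ = x * u0⁻¹ * u := by rw [e0']
        _ = x * (u0⁻¹ * u) := by rw [mul_assoc]
    · intro a _ b _ hab
      exact mul_left_cancel hab
  · rw [not_nonempty_iff_eq_empty] at hne
    rw [hne, card_empty]
    exact Nat.zero_le _

end Cfsg.Agent.Helper2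

namespace Cfsg.Agent.Helper2

open Finset

/-- A simple group embeds in the symmetric group on the cosets of a proper subgroup. -/
theorem card_le_factorial_index_of_simple {G : Type*} [Group G] [Finite G] [IsSimpleGroup G]
    (H : Subgroup G) (hH : H ≠ ⊤) : Nat.card G ≤ Nat.factorial H.index := by
  have hker : (MulAction.toPermHom G (G ⧸ H)).ker = ⊥ := by
    rw [← Subgroup.normalCore_eq_ker]
    rcases (Subgroup.normalCore_normal H).eq_bot_or_eq_top with h | h
    · exact h
    · exfalso; apply hH; rw [eq_top_iff, ← h]; exact Subgroup.normalCore_le H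
  have hinj : Function.Injective (MulAction.toPermHom G (G ⧸ H)) :=
    (MonoidHom.ker_eq_bot_iff _).mp hker
  have := Nat.card_le_card_of_injective _ hinj
  rwa [Nat.card_perm] at this

/-- The crude Brauer–Fowler inequality: `n * n ≤ n + (|G| - 1) * M` where `M` bounds the
centralizer orders of nonidentity elements. -/
theorem bf_crude {G : Type*} [Group G] [Fintype G] [DecidableEq G] (M : ℕ)
    (hM : ∀ x : G, x ≠ 1 → Nat.card (Subgroup.centralizer ({x} : Set G)) ≤ M) :
    (invols G).card * (invols G).card ≤ (invols G).card + (Fintype.card G - 1) * M := by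
  rw [← sum_bfβ, ← add_sum_erase univ bfβ (mem_univ (1 : G)), bfβ_one]
  apply Nat.add_le_add_left
  have : (univ.erase (1 : G)).card = Fintype.card G - 1 := by
    rw [card_erase_of_mem (mem_univ _), card_univ]
  rw [← this, ← smul_eq_mul, ← sum_const]
  apply sum_le_sum
  intro x hx
  exact (bfβ_le_card_centralizer x).trans (hM x (ne_of_mem_erase hx))

theorem brauer_fowler_bound {G : Type*} [Group G] [Finite G] [IsSimpleGroup G] (t : G)
    (ht : orderOf t = 2) :
    Nat.card G ≤ Nat.factorial (2 * (Nat.card (Subgroup.centralizer ({t} : Set G))) ^ 2) := by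
  classical
  have : Fintype G := Fintype.ofFinite G
  have ht1 : t ≠ 1 := ne_one_of_orderOf_two ht
  have hmpos : 0 < Nat.card (Subgroup.centralizer ({t} : Set G)) := Nat.card_pos
  rcases (inferInstance : (Subgroup.center G).Normal).eq_bot_or_eq_top with hbot | htop
  · -- trivial centre
    have hprop : ∀ x : G, x ≠ 1 → Subgroup.centralizer ({x} : Set G) ≠ ⊤ := by
      intro x hx htop
      have : x ∈ Subgroup.center G := by
        rw [Subgroup.mem_center_iff]
        intro g
        have hg : g ∈ Subgroup.centralizer ({x} : Set G) := by rw [htop]; trivial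
        exact Subgroup.mem_centralizer_singleton_iff.mp hg
      rw [hbot, Subgroup.mem_bot] at this
      exact hx this
    obtain ⟨x0, hx0, hmax⟩ := exists_max_image (univ.filter (fun x : G => x ≠ 1))
      (fun x => Nat.card (Subgroup.centralizer ({x} : Set G))) ⟨t, by simp [ht1]⟩
    rw [mem_filter] at hx0
    have hx01 : x0 ≠ 1 := hx0.2
    have hM : ∀ x : G, x ≠ 1 → Nat.card (Subgroup.centralizer ({x} : Set G)) ≤
        Nat.card (Subgroup.centralizer ({x0} : Set G)) := fun x hx => hmax x (by simp [hx])
    have hcrude := bf_crude _ hM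
    -- `n * m ≥ |G|`
    have hclass := card_isConj_mul_card_centralizer t
    have hle : Nat.card {x : G // IsConj t x} ≤ (invols G).card := by
      rw [card_invols_eq]
      apply Nat.card_le_card_of_injective
        (fun x : {x : G // IsConj t x} => (⟨x.1, by
          obtain ⟨c, hc⟩ := isConj_iff.mp x.2
          rw [← hc]
          have : c * t * c⁻¹ = MulAut.conj c t := rfl
          rw [this, MulEquiv.orderOf_eq]; exact ht⟩ : {t : G // orderOf t = 2}))
      intro a b hab
      exact Subtype.ext (Subtype.mk.inj hab)
    have hfact := card_le_factorial_index_of_simple _ (hprop x0 hx01)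
    have hindex := (Subgroup.centralizer ({x0} : Set G)).card_mul_index
    rw [← Nat.card_eq_fintype_card] at hcrude
    have hMpos : 0 < Nat.card (Subgroup.centralizer ({x0} : Set G)) := Nat.card_pos
    have hNpos : 0 < Nat.card G := Nat.card_pos
    generalize Nat.card (Subgroup.centralizer ({x0} : Set G)) = M at *
    generalize Nat.card (Subgroup.centralizer ({t} : Set G)) = m at *
    generalize (invols G).card = n at *
    generalize Nat.card G = N at *
    generalize Nat.card {x : G // IsConj t x} = c at *
    have hb : N ≤ n * m := by rw [← hclass]; exact Nat.mul_le_mul_right m hle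
    -- the key inequality `N < 2 * M * m * m`
    have hkey : N < 2 * M * (m * m) := by
      by_contra hcon
      push Not at hcon
      have h1 : 2 * M * m ≤ n := by
        have : 2 * M * m * m ≤ n * m := by
          calc 2 * M * m * m = 2 * M * (m * m) := by ring
            _ ≤ N := hcon
            _ ≤ n * m := hb
        exact Nat.le_of_mul_le_mul_right this hmpos
      have hn2 : 2 ≤ n := by nlinarith
      have h2 : n * n ≤ 2 * ((N - 1) * M) := by nlinarith
      have h3 : 2 * ((N - 1) * M) < 2 * (N * M) := by
        have : N - 1 < N := by omega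
        nlinarith
      have h4 : N * N ≤ (n * n) * (m * m) := by nlinarith
      have h5 : (n * n) * (m * m) < 2 * (N * M) * (m * m) := by
        have hmm : 0 < m * m := Nat.mul_pos hmpos hmpos
        nlinarith
      have h6 : N * N < N * (2 * M * (m * m)) := by nlinarith
      have := Nat.lt_of_mul_lt_mul_left h6
      omega
    have hidx : (Subgroup.centralizer ({x0} : Set G)).index < 2 * (m * m) := by
      have : M * (Subgroup.centralizer ({x0} : Set G)).index < M * (2 * (m * m)) := by
        rw [hindex]; calc N < 2 * M * (m * m) := hkey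
          _ = M * (2 * (m * m)) := by ring
      exact Nat.lt_of_mul_lt_mul_left this
    calc N ≤ Nat.factorial (Subgroup.centralizer ({x0} : Set G)).index := hfact
      _ ≤ Nat.factorial (2 * m ^ 2) := by
          apply Nat.factorial_le
          rw [pow_two]; exact hidx.le
  · -- abelian case: `|G| = 2`
    have hcen : ∀ g x : G, g * x = x * g := fun g x =>
      Subgroup.mem_center_iff.mp (by rw [htop]; trivial) g
    have hnorm : (Subgroup.zpowers t).Normal := by
      constructor
      intro n hn g
      rw [hcen g n, mul_inv_cancel_right]; exact hn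
    rcases hnorm.eq_bot_or_eq_top with h | h
    · exfalso
      have : t ∈ Subgroup.zpowers t := Subgroup.mem_zpowers t
      rw [h, Subgroup.mem_bot] at this
      exact ht1 this
    · have hcard : Nat.card G = 2 := by
        rw [← Subgroup.card_top (G := G), ← h, Nat.card_zpowers, ht]
      rw [hcard]
      have h2 : 2 ≤ 2 * Nat.card (Subgroup.centralizer ({t} : Set G)) ^ 2 := by
        have : 1 ≤ Nat.card (Subgroup.centralizer ({t} : Set G)) ^ 2 := Nat.one_le_pow _ _ hmpos
        omega
      exact h2.trans (Nat.self_le_factorial _)

end Cfsg.Agent.Helper2
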