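import Mathlib
import Cfsg.Agent.Helper2.BrauerFowler
import Cfsg.Agent.Helper2.StrEmb
import Cfsg.Agent.Helper2.CyclicSylow2

set_option autoImplicit false

namespace Cfsg.Agent.Helper2

open Finset

section
variable {G : Type*} [Group G]

/-- The extended centralizer `C*(x)`: elements conjugating `x` to `x` or `x⁻¹`. -/
def extCentralizer (x : G) : Subgroup G where
  carrier := {g | g * x * g⁻¹ = x ∨ g * x * g⁻¹ = x⁻¹}
  one_mem' := Or.inl (by simp)
  mul_mem' := by
    intro a b ha hb
    have e : a * b * x * (a * b)⁻¹ = a * (b * x * b⁻¹) * a⁻¹ := by group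
    have e' : a * x⁻¹ * a⁻¹ = (a * x * a⁻¹)⁻¹ := by group
    rcases hb with hb | hb <;> rcases ha with ha | ha
    · left; rw [e, hb, ha]
    · right; rw [e, hb, ha]
    · right; rw [e, hb, e', ha]
    · left; rw [e, hb, e', ha, inv_inv]
  inv_mem' := by
    intro a ha
    rcases ha with ha | ha
    · left
      rw [inv_inv]
      calc a⁻¹ * x * a = a⁻¹ * (a * x * a⁻¹) * a := by rw [ha]
        _ = x := by group
    · right
      rw [inv_inv]
      have h1 : a * x⁻¹ * a⁻¹ = x := by
        have : a * x⁻¹ * a⁻¹ = (a * x * a⁻¹)⁻¹ := by group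
        rw [this, ha, inv_inv]
      calc a⁻¹ * x * a = a⁻¹ * (a * x⁻¹ * a⁻¹) * a := by rw [h1]
        _ = x⁻¹ := by group

theorem mem_extCentralizer {x g : G} :
    g ∈ extCentralizer x ↔ g * x * g⁻¹ = x ∨ g * x * g⁻¹ = x⁻¹ := Iff.rfl

/-- If `C*(x) = G`, `x ≠ x⁻¹` and some element inverts `x`, then `C(x)` has index 2. -/
theorem index_centralizer_eq_two_of_extCentralizer_eq_top {x u : G} (hx : x ≠ x⁻¹)
    (hu : u * x * u⁻¹ = x⁻¹) (htop : extCentralizer x = ⊤) :
    (Subgroup.centralizer ({x} : Set G)).index = 2 := by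
  rw [Subgroup.index_eq_two_iff]
  refine ⟨u, fun b => ?_⟩
  have hb : b ∈ extCentralizer x := by rw [htop]; trivial
  have e : b * u * x = b * (u * x * u⁻¹) * u := by group
  rcases hb with hb | hb
  · right
    refine ⟨?_, ?_⟩
    · rw [Subgroup.mem_centralizer_singleton_iff]
      calc b * x = (b * x * b⁻¹) * b := by group
        _ = x * b := by rw [hb]
    · rw [Subgroup.mem_centralizer_singleton_iff, e, hu]
      intro h
      apply hx
      have h2 : b * x⁻¹ * b⁻¹ = x⁻¹ := by
        have : b * x⁻¹ * b⁻¹ = (b * x * b⁻¹)⁻¹ := by group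
        rw [this, hb]
      have h3 : b * x⁻¹ * u = x⁻¹ * b * u := by
        calc b * x⁻¹ * u = (b * x⁻¹ * b⁻¹) * b * u := by group
          _ = x⁻¹ * b * u := by rw [h2]
      rw [h3, mul_assoc] at h
      exact (mul_right_cancel h).symm
  · left
    refine ⟨?_, ?_⟩
    · rw [Subgroup.mem_centralizer_singleton_iff, e, hu]
      have h2 : b * x⁻¹ * b⁻¹ = x := by
        have : b * x⁻¹ * b⁻¹ = (b * x * b⁻¹)⁻¹ := by group
        rw [this, hb, inv_inv]
      calc b * x⁻¹ * u = (b * x⁻¹ * b⁻¹) * b * u := by group
        _ = x * (b * u) := by rw [h2, mul_assoc]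
    · rw [Subgroup.mem_centralizer_singleton_iff]
      intro h
      apply hx
      have : b * x * b⁻¹ = x := by rw [h]; group
      rw [← hb, this]

end

section
variable {G : Type*} [Group G] [Fintype G] [DecidableEq G]

/-- For an involution `x`: `β x + 2 ≤ |C(x)|`. -/
theorem bfβ_add_two_le_of_invol {x : G} (hx : orderOf x = 2) :
    bfβ x + 2 ≤ Nat.card (Subgroup.centralizer ({x} : Set G)) := by
  rw [natCard_centralizer_eq_card_filter x, bfβ]
  have hx1 : x ≠ 1 := ne_one_of_orderOf_two hx
  have hxinv := inv_eq_self_of_orderOf_two hx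
  have hsub : insert 1 (insert x ((invols G).filter (fun u => orderOf (u * x) = 2))) ⊆
      univ.filter (fun g : G => g * x = x * g) := by
    intro g hg
    simp only [mem_insert, mem_filter, mem_invols] at hg
    simp only [mem_filter, mem_univ, true_and]
    rcases hg with rfl | rfl | ⟨hg2, hgx⟩
    · simp
    · rfl
    · have := inverts_of_invol_mul hg2 hgx
      rw [hxinv] at this
      calc g * x = (g * x * g⁻¹) * g := by group
        _ = x * g := by rw [this]
  have hcard : (insert 1 (insert x ((invols G).filter (fun u => orderOf (u * x) = 2)))).card =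
      ((invols G).filter (fun u => orderOf (u * x) = 2)).card + 2 := by
    rw [card_insert_of_notMem, card_insert_of_notMem]
    · simp only [mem_filter, mem_invols, not_and]
      intro _ h
      rw [mul_self_of_orderOf_two hx, orderOf_one] at h
      omega
    · simp only [mem_insert, mem_filter, mem_invols, not_or, not_and]
      refine ⟨hx1.symm, fun h => ?_⟩
      rw [orderOf_one] at h; omega
  rw [← hcard]
  exact card_le_card hsub

/-- For `x ≠ x⁻¹`: `2 * β x ≤ |C*(x)|`. -/
theorem two_mul_bfβ_le {x : G} (hx : x ≠ x⁻¹) : 2 * bfβ x ≤ Nat.card (extCentralizer x) := by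
  classical
  have hcardC : Nat.card (extCentralizer x) =
      (univ.filter (fun g : G => g ∈ extCentralizer x)).card :=
    natCard_subtype_eq_card_filter _
  rw [hcardC, bfβ]
  by_cases hne : ((invols G).filter (fun u => orderOf (u * x) = 2)).Nonempty
  · obtain ⟨u0, hu0⟩ := hne
    rw [mem_filter, mem_invols] at hu0
    have h0 := inverts_of_invol_mul hu0.1 hu0.2
    set B := (invols G).filter (fun u => orderOf (u * x) = 2) with hB
    have hBinv : ∀ u ∈ B, u * x * u⁻¹ = x⁻¹ := by
      intro u hu
      rw [hB, mem_filter, mem_invols] at hu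
      exact inverts_of_invol_mul hu.1 hu.2
    have hdisj : Disjoint B (B.image (fun u => u0⁻¹ * u)) := by
      rw [disjoint_left]
      intro g hg hg'
      rw [mem_image] at hg'
      obtain ⟨u, hu, rfl⟩ := hg'
      apply hx
      have h1 := hBinv _ hg
      have h2 := hBinv u hu
      have : u0⁻¹ * u * x * (u0⁻¹ * u)⁻¹ = x := by
        calc u0⁻¹ * u * x * (u0⁻¹ * u)⁻¹ = u0⁻¹ * (u * x * u⁻¹) * u0 := by group
          _ = u0⁻¹ * (u0 * x * u0⁻¹) * u0 := by rw [h2, h0]
          _ = x := by group
      rw [← h1, this]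
    have hcard : (B ∪ B.image (fun u => u0⁻¹ * u)).card = 2 * B.card := by
      rw [card_union_of_disjoint hdisj, card_image_of_injective _ (mul_right_injective u0⁻¹)]
      ring
    rw [← hcard]
    apply card_le_card
    intro g hg
    simp only [mem_filter, mem_univ, true_and, mem_extCentralizer]
    rw [mem_union, mem_image] at hg
    rcases hg with hg | ⟨u, hu, rfl⟩
    · right; exact hBinv g hg
    · left
      have h2 := hBinv u hu
      calc u0⁻¹ * u * x * (u0⁻¹ * u)⁻¹ = u0⁻¹ * (u * x * u⁻¹) * u0 := by group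
        _ = u0⁻¹ * (u0 * x * u0⁻¹) * u0 := by rw [h2, h0]
        _ = x := by group
  · rw [not_nonempty_iff_eq_empty] at hne
    rw [hne, card_empty]
    exact Nat.zero_le _

/-- The refined Brauer–Fowler inequality. -/
theorem bf_refined (M : ℕ)
    (h1 : ∀ x : G, orderOf x = 2 → Nat.card (Subgroup.centralizer ({x} : Set G)) ≤ M)
    (h2 : ∀ x : G, x ≠ x⁻¹ → (∃ u : G, orderOf u = 2 ∧ u * x * u⁻¹ = x⁻¹) →
      Nat.card (extCentralizer x) ≤ M) :
    2 * ((invols G).card * (invols G).card) + 2 * (invols G).card ≤
      (Fintype.card G - 1 + (invols G).card) * M := by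
  have hI : invols G ⊆ univ.erase (1 : G) := by
    intro x hx
    rw [mem_erase]
    exact ⟨ne_one_of_orderOf_two (mem_invols.mp hx), mem_univ _⟩
  -- pointwise bound
  have hpt : ∀ x ∈ univ.erase (1 : G),
      2 * bfβ x + (if x ∈ invols G then 4 else 0) ≤ M + (if x ∈ invols G then M else 0) := by
    intro x hx
    have hx1 : x ≠ 1 := ne_of_mem_erase hx
    by_cases hxI : x ∈ invols G
    · rw [if_pos hxI, if_pos hxI]
      have := bfβ_add_two_le_of_invol (mem_invols.mp hxI)
      have := h1 x (mem_invols.mp hxI)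
      omega
    · rw [if_neg hxI, if_neg hxI]
      have hxne : x ≠ x⁻¹ := by
        intro h
        apply hxI
        rw [mem_invols]
        apply orderOf_two_of_mul_self _ hx1
        calc x * x = x * x⁻¹ := by rw [← h]
          _ = 1 := mul_inv_cancel x
      by_cases hβ : bfβ x = 0
      · rw [hβ]; omega
      · have hne : ((invols G).filter (fun u => orderOf (u * x) = 2)).Nonempty := by
          rw [nonempty_iff_ne_empty]
          intro h
          apply hβ
          rw [bfβ, h, card_empty]
        obtain ⟨u, hu⟩ := hne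
        rw [mem_filter, mem_invols] at hu
        have := h2 x hxne ⟨u, hu.1, inverts_of_invol_mul hu.1 hu.2⟩
        have := two_mul_bfβ_le hxne
        omega
  have hsum := sum_le_sum hpt
  rw [sum_add_distrib, sum_add_distrib, ← mul_sum] at hsum
  -- evaluate the sums
  have hs1 : ∑ x ∈ univ.erase (1 : G), bfβ x = (invols G).card * (invols G).card - (invols G).card := by
    have := add_sum_erase univ bfβ (mem_univ (1 : G))
    rw [sum_bfβ, bfβ_one] at this
    omega
  have hs2 : ∀ c : ℕ, ∑ x ∈ univ.erase (1 : G), (if x ∈ invols G then c else 0) = (invols G).card * c := by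
    intro c
    rw [← sum_filter, filter_mem_eq_inter, inter_eq_right.mpr hI, sum_const, smul_eq_mul]
  have hs3 : ∑ _x ∈ univ.erase (1 : G), M = (Fintype.card G - 1) * M := by
    rw [sum_const, smul_eq_mul, card_erase_of_mem (mem_univ _), card_univ]
  rw [hs1, hs2, hs2, hs3] at hsum
  have hnn : (invols G).card ≤ (invols G).card * (invols G).card := by
    rcases Nat.eq_zero_or_pos (invols G).card with h | h
    · rw [h]
    · exact Nat.le_mul_of_pos_left _ h
  have : 2 * ((invols G).card * (invols G).card - (invols G).card) =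
      2 * ((invols G).card * (invols G).card) - 2 * (invols G).card := by omega
  rw [this] at hsum
  have hexp : (Fintype.card G - 1 + (invols G).card) * M =
      (Fintype.card G - 1) * M + (invols G).card * M := by ring
  rw [hexp]
  omega

end

end Cfsg.Agent.Helper2
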