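import Mathlib
import Cfsg.Agent.Helper2.BrauerFowler2

set_option autoImplicit false

namespace Cfsg.Agent.Helper2

open Finset

theorem card_isConj_le_card_invols {G : Type*} [Group G] [Fintype G] [DecidableEq G] {t : G}
    (ht : orderOf t = 2) : Nat.card {x : G // IsConj t x} ≤ (invols G).card := by
  rw [card_invols_eq]
  apply Nat.card_le_card_of_injective
    (fun x : {x : G // IsConj t x} => (⟨x.1, by
      obtain ⟨c, hc⟩ := isConj_iff.mp x.2
      rw [← hc]
      have : c * t * c⁻¹ = MulAut.conj c t := rfl
      rw [this, MulEquiv.orderOf_eq]; exact ht⟩ : {t : G // orderOf t = 2}))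
  intro a b hab
  exact Subtype.ext (Subtype.mk.inj hab)

theorem centralizer_ne_top_of_not_mem_center {G : Type*} [Group G] {x : G}
    (hx : x ∉ Subgroup.center G) : Subgroup.centralizer ({x} : Set G) ≠ ⊤ := by
  intro htop
  apply hx
  rw [Subgroup.mem_center_iff]
  intro g
  have hg : g ∈ Subgroup.centralizer ({x} : Set G) := by rw [htop]; trivial
  exact Subgroup.mem_centralizer_singleton_iff.mp hg

/-- Brauer–Fowler: a group of even order with centre of odd order has a proper subgroup of index
`2` or of index `< a(a+1)/2`, `a = |G| / n`. -/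
theorem bf_index_bound {G : Type*} [Group G] [Finite G] (heven : Even (Nat.card G))
    (hZ : Odd (Nat.card (Subgroup.center G))) :
    ∃ H : Subgroup G, H ≠ ⊤ ∧ (H.index = 2 ∨
      2 * H.index * (Nat.card {t : G // orderOf t = 2}) ^ 2 <
        Nat.card G * (Nat.card G + Nat.card {t : G // orderOf t = 2})) := by
  classical
  have : Fintype G := Fintype.ofFinite G
  by_contra hcon
  push Not at hcon
  rw [← card_invols_eq] at hcon
  obtain ⟨t, -, ht2⟩ := exists_invol_of_even_card (⊤ : Subgroup G)
    (by rw [Subgroup.card_top]; exact heven)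
  have hnpos : 0 < (invols G).card := card_pos.mpr ⟨t, mem_invols.mpr ht2⟩
  have hNpos : 0 < Nat.card G := Nat.card_pos
  have hprop : ∀ H : Subgroup G, H ≠ ⊤ → Nat.card H ≤
      2 * (invols G).card ^ 2 / (Nat.card G + (invols G).card) := by
    intro H hH
    have h2 := (hcon H hH).2
    have hidx := H.card_mul_index
    have hipos : 0 < H.index := Nat.pos_of_ne_zero Subgroup.index_ne_zero_of_finite
    rw [Nat.le_div_iff_mul_le (by omega)]
    have : H.index * (Nat.card H * (Nat.card G + (invols G).card)) ≤
        H.index * (2 * (invols G).card ^ 2) := by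
      calc H.index * (Nat.card H * (Nat.card G + (invols G).card))
          = Nat.card G * (Nat.card G + (invols G).card) := by rw [← hidx]; ring
        _ ≤ 2 * H.index * (invols G).card ^ 2 := h2
        _ = H.index * (2 * (invols G).card ^ 2) := by ring
    exact Nat.le_of_mul_le_mul_left this hipos
  have hnc : ∀ x : G, orderOf x = 2 → x ∉ Subgroup.center G := by
    intro x hx hxc
    have hdvd : orderOf (⟨x, hxc⟩ : Subgroup.center G) ∣ Nat.card (Subgroup.center G) :=
      orderOf_dvd_natCard _
    rw [Subgroup.orderOf_mk, hx] at hdvd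
    exact (Nat.not_even_iff_odd.mpr hZ) (even_iff_two_dvd.mpr hdvd)
  have h1 : ∀ x : G, orderOf x = 2 → Nat.card (Subgroup.centralizer ({x} : Set G)) ≤
      2 * (invols G).card ^ 2 / (Nat.card G + (invols G).card) := fun x hx =>
    hprop _ (centralizer_ne_top_of_not_mem_center (hnc x hx))
  have h2 : ∀ x : G, x ≠ x⁻¹ → (∃ u : G, orderOf u = 2 ∧ u * x * u⁻¹ = x⁻¹) →
      Nat.card (extCentralizer x) ≤ 2 * (invols G).card ^ 2 / (Nat.card G + (invols G).card) := by
    intro x hx ⟨u, _, hu⟩
    apply hprop
    intro htop
    have hidx := index_centralizer_eq_two_of_extCentralizer_eq_top hx hu htop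
    have hne : Subgroup.centralizer ({x} : Set G) ≠ ⊤ := by
      intro h
      rw [h, Subgroup.index_top] at hidx
      omega
    exact (hcon _ hne).1 hidx
  have hmain := bf_refined _ h1 h2
  rw [← Nat.card_eq_fintype_card] at hmain
  generalize hK : 2 * (invols G).card ^ 2 / (Nat.card G + (invols G).card) = K at hmain
  have hdiv : K * (Nat.card G + (invols G).card) ≤ 2 * (invols G).card ^ 2 := by
    rw [← hK]; exact Nat.div_mul_le_self _ _
  have hle : (Nat.card G - 1 + (invols G).card) * K ≤ 2 * ((invols G).card * (invols G).card) := by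
    calc (Nat.card G - 1 + (invols G).card) * K ≤ (Nat.card G + (invols G).card) * K :=
          Nat.mul_le_mul_right _ (by omega)
      _ = K * (Nat.card G + (invols G).card) := Nat.mul_comm _ _
      _ ≤ 2 * (invols G).card ^ 2 := hdiv
      _ = 2 * ((invols G).card * (invols G).card) := by rw [pow_two]
  omega


/-- Case of no central involution. -/
theorem exists_proper_subgroup_cube_of_no_central_invol {G : Type*} [Group G] [Finite G]
    (heven : Even (Nat.card G)) (hgt : 2 < Nat.card G)
    (hnc : ∀ x : G, orderOf x = 2 → x ∉ Subgroup.center G) :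
    ∃ H : Subgroup G, H ≠ ⊤ ∧ Nat.card G < (Nat.card H) ^ 3 := by
  classical
  have : Fintype G := Fintype.ofFinite G
  have : Fintype (Subgroup G) := Fintype.ofFinite _
  by_contra hcon
  push Not at hcon
  obtain ⟨t, -, ht2⟩ := exists_invol_of_even_card (⊤ : Subgroup G)
    (by rw [Subgroup.card_top]; exact heven)
  have hnpos : 0 < (invols G).card := card_pos.mpr ⟨t, mem_invols.mpr ht2⟩
  have hbot : (⊥ : Subgroup G) ≠ ⊤ := by
    intro h
    have := congrArg (fun K : Subgroup G => Nat.card K) h
    simp only [Subgroup.card_bot, Subgroup.card_top] at this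
    omega
  obtain ⟨H0, hH0, hmax⟩ := exists_max_image (univ.filter (fun H : Subgroup G => H ≠ ⊤))
    (fun H => Nat.card H) ⟨⊥, by simp [hbot]⟩
  rw [mem_filter] at hH0
  have hM3 := hcon H0 hH0.2
  have hprop : ∀ H : Subgroup G, H ≠ ⊤ → Nat.card H ≤ Nat.card H0 := fun H hH =>
    hmax H (by simp [hH])
  have hMpos : 0 < Nat.card H0 := Nat.card_pos
  have h1 : ∀ x : G, orderOf x = 2 → Nat.card (Subgroup.centralizer ({x} : Set G)) ≤
      Nat.card H0 := fun x hx => hprop _ (centralizer_ne_top_of_not_mem_center (hnc x hx))
  have h2 : ∀ x : G, x ≠ x⁻¹ → (∃ u : G, orderOf u = 2 ∧ u * x * u⁻¹ = x⁻¹) →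
      Nat.card (extCentralizer x) ≤ Nat.card H0 := by
    intro x hx ⟨u, _, hu⟩
    apply hprop
    intro htop
    have hidx := index_centralizer_eq_two_of_extCentralizer_eq_top hx hu htop
    have hne : Subgroup.centralizer ({x} : Set G) ≠ ⊤ := by
      intro h
      rw [h, Subgroup.index_top] at hidx
      omega
    have h3 := hcon _ hne
    have h4 := (Subgroup.centralizer ({x} : Set G)).card_mul_index
    rw [hidx] at h4
    generalize Nat.card (Subgroup.centralizer ({x} : Set G)) = c at h3 h4
    have hc2 : 2 ≤ c := by omega
    have : c * 4 ≤ c ^ 3 := by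
      have : c ^ 3 = c * (c * c) := by ring
      rw [this]
      exact Nat.mul_le_mul_left c (by nlinarith)
    omega
  have hmain := bf_refined _ h1 h2
  rw [← Nat.card_eq_fintype_card] at hmain
  -- `N ≤ n * M`
  have hclass := card_isConj_mul_card_centralizer t
  have hle := card_isConj_le_card_invols ht2
  have hb : Nat.card G ≤ (invols G).card * Nat.card H0 := by
    rw [← hclass]
    exact Nat.mul_le_mul hle (h1 t ht2)
  generalize Nat.card H0 = M at *
  generalize (invols G).card = n at *
  generalize Nat.card G = N at *
  -- `M * M ≤ n`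
  have hMM : M * M ≤ n := by
    have : M * (M * M) ≤ M * n := by
      calc M * (M * M) = M ^ 3 := by ring
        _ ≤ N := hM3
        _ ≤ n * M := hb
        _ = M * n := Nat.mul_comm _ _
    exact Nat.le_of_mul_le_mul_left this hMpos
  have hMn : M ≤ n := le_trans (Nat.le_mul_of_pos_left M hMpos) hMM
  have h5 : (N - 1 + n) * M ≤ 2 * (n * n) := by
    calc (N - 1 + n) * M ≤ (N + n) * M := Nat.mul_le_mul_right _ (by omega)
      _ = N * M + n * M := by ring
      _ ≤ n * M * M + n * M := by
          apply Nat.add_le_add_right
          exact Nat.mul_le_mul_right _ hb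
      _ = n * (M * M) + n * M := by ring
      _ ≤ n * n + n * n := Nat.add_le_add (Nat.mul_le_mul_left _ hMM) (Nat.mul_le_mul_left _ hMn)
      _ = 2 * (n * n) := by ring
  omega

/-- A finite group of even order `> 2` has a proper subgroup `H` with `|G| < |H| ^ 3`. -/
theorem exists_proper_subgroup_cube {G : Type*} [Group G] [Finite G]
    (heven : Even (Nat.card G)) (hgt : 2 < Nat.card G) :
    ∃ H : Subgroup G, H ≠ ⊤ ∧ Nat.card G < (Nat.card H) ^ 3 := by
  induction hN : Nat.card G using Nat.strong_induction_on generalizing G with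
  | _ N ih =>
  subst hN
  by_cases hc : ∃ z : G, orderOf z = 2 ∧ z ∈ Subgroup.center G
  · obtain ⟨z, hz2, hzc⟩ := hc
    have hzcomm : ∀ g : G, g * z = z * g := Subgroup.mem_center_iff.mp hzc
    have hnorm : (Subgroup.zpowers z).Normal := by
      constructor
      intro n hn g
      obtain ⟨k, rfl⟩ := Subgroup.mem_zpowers_iff.mp hn
      have hck : Commute g (z ^ k) := (show Commute g z from hzcomm g).zpow_right k
      rw [hck.eq, mul_inv_cancel_right]
      exact hn
    have hZcard : Nat.card (Subgroup.zpowers z) = 2 := by rw [Nat.card_zpowers, hz2]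
    have hquot := Subgroup.card_eq_card_quotient_mul_card_subgroup (Subgroup.zpowers z)
    rw [hZcard] at hquot
    rcases Nat.even_or_odd (Nat.card (G ⧸ Subgroup.zpowers z)) with hqe | hqo
    · by_cases hq2 : 2 < Nat.card (G ⧸ Subgroup.zpowers z)
      · -- induction
        obtain ⟨Hbar, hHbar, hlt⟩ := ih (Nat.card (G ⧸ Subgroup.zpowers z)) (by omega) hqe hq2 rfl
        refine ⟨Hbar.comap (QuotientGroup.mk' (Subgroup.zpowers z)), ?_, ?_⟩
        · intro htop
          apply hHbar
          rw [← Subgroup.index_eq_one] at htop ⊢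
          rwa [Subgroup.index_comap_of_surjective Hbar (QuotientGroup.mk'_surjective _)] at htop
        · have hidx := Subgroup.index_comap_of_surjective Hbar
            (QuotientGroup.mk'_surjective (Subgroup.zpowers z))
          have e1 := (Hbar.comap (QuotientGroup.mk' (Subgroup.zpowers z))).card_mul_index
          have e2 := Hbar.card_mul_index
          rw [hidx] at e1
          have hipos : 0 < Hbar.index := Nat.pos_of_ne_zero Subgroup.index_ne_zero_of_finite
          have e3 : Nat.card (Hbar.comap (QuotientGroup.mk' (Subgroup.zpowers z))) =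
              2 * Nat.card Hbar := by
            have : Nat.card (Hbar.comap (QuotientGroup.mk' (Subgroup.zpowers z))) * Hbar.index =
                (2 * Nat.card Hbar) * Hbar.index := by
              rw [e1, hquot, ← e2]; ring
            exact Nat.eq_of_mul_eq_mul_right hipos this
          rw [e3, hquot]
          have hbpos : 0 < Nat.card Hbar := Nat.card_pos
          calc Nat.card (G ⧸ Subgroup.zpowers z) * 2 < Nat.card Hbar ^ 3 * 2 :=
                Nat.mul_lt_mul_of_pos_right hlt (by norm_num)
            _ ≤ (2 * Nat.card Hbar) ^ 3 := by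
                have : (2 * Nat.card Hbar) ^ 3 = Nat.card Hbar ^ 3 * 8 := by ring
                rw [this]
                exact Nat.mul_le_mul_left _ (by norm_num)
      · -- `|G| = 4`
        have hq : Nat.card (G ⧸ Subgroup.zpowers z) = 2 := by
          have hpos : 0 < Nat.card (G ⧸ Subgroup.zpowers z) := Nat.card_pos
          obtain ⟨k, hk⟩ := hqe
          omega
        refine ⟨Subgroup.zpowers z, ?_, ?_⟩
        · intro htop
          have := congrArg (fun K : Subgroup G => Nat.card K) htop
          simp only [Subgroup.card_top] at this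
          omega
        · rw [hZcard, hquot, hq]; norm_num
    · -- `|G| = 2 * odd`: subgroup of index 2
      have : Fact (Nat.Prime 2) := ⟨Nat.prime_two⟩
      obtain ⟨P⟩ : Nonempty (Sylow 2 G) := inferInstance
      have hPcard : Nat.card (P : Subgroup G) = 2 := by
        have h2P : 2 ∣ Nat.card (P : Subgroup G) := P.dvd_card_of_dvd_card heven.two_dvd
        obtain ⟨k, hk⟩ := IsPGroup.iff_card.mp P.isPGroup'
        have hdvd : Nat.card (P : Subgroup G) ∣ Nat.card G := Subgroup.card_subgroup_dvd_card _
        rw [hk] at hdvd h2P ⊢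
        rcases k with _ | _ | k
        · norm_num at h2P
        · norm_num
        · exfalso
          have h4 : 4 ∣ Nat.card G := by
            refine Dvd.dvd.trans ?_ hdvd
            exact ⟨2 ^ k, by ring⟩
          rw [hquot] at h4
          obtain ⟨j, hj⟩ := hqo
          omega
      have hcyc : IsCyclic (P : Subgroup G) := isCyclic_of_prime_card hPcard
      obtain ⟨H, hH⟩ := exists_index_two_of_cyclic_sylow_two heven P hcyc
      refine ⟨H, ?_, ?_⟩
      · intro htop
        rw [htop, Subgroup.index_top] at hH
        omega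
      · have e := H.card_mul_index
        rw [hH] at e
        generalize Nat.card H = c at e
        have hc3 : 3 ≤ c := by
          obtain ⟨j, hj⟩ := hqo
          omega
        have : c * 9 ≤ c ^ 3 := by
          have : c ^ 3 = c * (c * c) := by ring
          rw [this]
          exact Nat.mul_le_mul_left c (by nlinarith)
        omega
  · push Not at hc
    exact exists_proper_subgroup_cube_of_no_central_invol heven hgt hc

end Cfsg.Agent.Helper2
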