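import Mathlib
import Cfsg.Prelude.Def_Characters
import Cfsg.Prelude.Def_Blocks
import Cfsg.Agent.Helper6.BlockKernel
import Cfsg.Agent.Helper6.BlockBasic
import Cfsg.Agent.Helper6.CentralChar
import Cfsg.Agent.Helper6.ColumnOrth

/-!
Renamed copy (namespace `Cfsg.Agent.Helper2.Zc2`) of `Cfsg/Agent/Helper6/StructConst.lean` (author helper6), made so that
the S0731 theorem can be used together with the closure of S3282 (which contains `Helper6.ClassMult`).

# Class algebra structure constants: fixed points and the product formula for central characters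
-/

set_option autoImplicit false
set_option linter.style.haveILetI false

namespace Cfsg.Agent.Helper2.Zc2

open Cfsg.Agent.Helper6

open scoped ComplexConjugate

universe u

variable {G : Type u} [Group G] {M : Ideal Cfsg.AlgInt}

/-- the pairs `(x, y)` with `x` conjugate to `h`, `y` conjugate to `g` and `x * y = t` -/
noncomputable def classPairs [Fintype G] (h g t : G) : Finset (G × G) := by
  classical exact (classFinset h ×ˢ classFinset g).filter (fun q : G × G => q.1 * q.2 = t)

theorem mem_classPairs [Fintype G] (h g t : G) (q : G × G) :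
    q ∈ classPairs h g t ↔ IsConj h q.1 ∧ IsConj g q.2 ∧ q.1 * q.2 = t := by
  classical
  unfold classPairs
  rw [Finset.mem_filter, Finset.mem_product, mem_classFinset, mem_classFinset, and_assoc]

/-- **fixed point lemma**: if the structure constant is prime to `p`, every `p`-subgroup of the
centralizer of `t` centralizes some pair -/
theorem exists_fixed_classPair [Fintype G] (p : ℕ) [hp : Fact p.Prime] (h g t : G)
    (hnd : ¬ p ∣ (classPairs h g t).card) (Q : Subgroup G) (hQ : IsPGroup p Q)
    (hQt : Q ≤ Subgroup.centralizer ({t} : Set G)) :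
    ∃ x y : G, IsConj h x ∧ IsConj g y ∧ x * y = t ∧
      ∀ q ∈ Q, q * x * q⁻¹ = x ∧ q * y * q⁻¹ = y := by
  classical
  have hcomm : ∀ q ∈ Q, q * t * q⁻¹ = t := by
    intro q hq
    have := Subgroup.mem_centralizer_iff.mp (hQt hq) t (Set.mem_singleton t)
    rw [← this, mul_inv_cancel_right]
  letI : MulAction Q {z // z ∈ classPairs h g t} :=
    { smul := fun q z => ⟨((q : G) * z.1.1 * (q : G)⁻¹, (q : G) * z.1.2 * (q : G)⁻¹), by
        have hz := (mem_classPairs h g t z.1).mp z.2
        rw [mem_classPairs]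
        refine ⟨hz.1.trans (isConj_iff.mpr ⟨_, rfl⟩), hz.2.1.trans (isConj_iff.mpr ⟨_, rfl⟩), ?_⟩
        show (q : G) * z.1.1 * (q : G)⁻¹ * ((q : G) * z.1.2 * (q : G)⁻¹) = t
        have : (q : G) * z.1.1 * (q : G)⁻¹ * ((q : G) * z.1.2 * (q : G)⁻¹) =
            (q : G) * (z.1.1 * z.1.2) * (q : G)⁻¹ := by group
        rw [this, hz.2.2]
        exact hcomm q q.2⟩
      one_smul := fun z => Subtype.ext (Prod.ext (by
        show ((1 : Q) : G) * z.1.1 * ((1 : Q) : G)⁻¹ = z.1.1
        simp) (by
        show ((1 : Q) : G) * z.1.2 * ((1 : Q) : G)⁻¹ = z.1.2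
        simp))
      mul_smul := fun a c z => Subtype.ext (Prod.ext (by
        show ((a * c : Q) : G) * z.1.1 * ((a * c : Q) : G)⁻¹ =
          (a : G) * ((c : G) * z.1.1 * (c : G)⁻¹) * (a : G)⁻¹
        simp [mul_assoc]) (by
        show ((a * c : Q) : G) * z.1.2 * ((a * c : Q) : G)⁻¹ =
          (a : G) * ((c : G) * z.1.2 * (c : G)⁻¹) * (a : G)⁻¹
        simp [mul_assoc])) }
  have hsm : ∀ (q : Q) (z : {z // z ∈ classPairs h g t}),
      ((q • z : {z // z ∈ classPairs h g t}) : G × G) =
        ((q : G) * z.1.1 * (q : G)⁻¹, (q : G) * z.1.2 * (q : G)⁻¹) := fun q z => rfl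
  have hnd' : ¬ p ∣ Nat.card {z // z ∈ classPairs h g t} := by
    rw [Nat.card_eq_fintype_card, Fintype.card_coe]
    exact hnd
  obtain ⟨z, hz⟩ := hQ.nonempty_fixed_point_of_prime_not_dvd_card _ hnd'
  have hzm := (mem_classPairs h g t z.1).mp z.2
  refine ⟨z.1.1, z.1.2, hzm.1, hzm.2.1, hzm.2.2, fun q hq => ?_⟩
  have h1 := hz ⟨q, hq⟩
  have h2 := congrArg Subtype.val h1
  rw [hsm] at h2
  exact ⟨congrArg Prod.fst h2, congrArg Prod.snd h2⟩

/-- the structure constant is a class function of `t` -/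
theorem card_classPairs_conj [Fintype G] (h g t c : G) :
    (classPairs h g (c * t * c⁻¹)).card = (classPairs h g t).card := by
  classical
  symm
  apply Finset.card_bij (fun q _ => (c * q.1 * c⁻¹, c * q.2 * c⁻¹))
  · intro q hq
    rw [mem_classPairs] at hq ⊢
    refine ⟨hq.1.trans (isConj_iff.mpr ⟨_, rfl⟩), hq.2.1.trans (isConj_iff.mpr ⟨_, rfl⟩), ?_⟩
    show c * q.1 * c⁻¹ * (c * q.2 * c⁻¹) = c * t * c⁻¹
    rw [← hq.2.2]; group
  · intro q _ q' _ hqq
    have h1 := congrArg Prod.fst hqq
    have h2 := congrArg Prod.snd hqq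
    simp only [mul_left_inj, mul_right_inj] at h1 h2
    exact Prod.ext h1 h2
  · intro q hq
    rw [mem_classPairs] at hq
    refine ⟨(c⁻¹ * q.1 * c, c⁻¹ * q.2 * c), ?_, ?_⟩
    · rw [mem_classPairs]
      refine ⟨hq.1.trans (isConj_iff.mpr ⟨c⁻¹, by simp⟩),
        hq.2.1.trans (isConj_iff.mpr ⟨c⁻¹, by simp⟩), ?_⟩
      show c⁻¹ * q.1 * c * (c⁻¹ * q.2 * c) = t
      have : c⁻¹ * q.1 * c * (c⁻¹ * q.2 * c) = c⁻¹ * (q.1 * q.2) * c := by group
      rw [this, hq.2.2]; group
    · apply Prod.ext
      · show c * (c⁻¹ * q.1 * c) * c⁻¹ = q.1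
        group
      · show c * (c⁻¹ * q.2 * c) * c⁻¹ = q.2
        group

/-- the sum of an irreducible character over a class -/
theorem sum_classFinset_char [Fintype G] (χ : Cfsg.IrrCharacter G) (g : G) :
    ∑ y ∈ classFinset g, (χ : G → ℂ) y =
      ((Subgroup.centralizer ({g} : Set G)).index : ℂ) * (χ : G → ℂ) g := by
  have hcf := IsCharacter.isClassFunction (IsIrrCharacter.isCharacter χ.2)
  rw [← card_classFinset, ← nsmul_eq_mul, ← Finset.sum_const]
  apply Finset.sum_congr rfl
  intro x hx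
  rw [mem_classFinset] at hx
  obtain ⟨a, ha⟩ := isConj_iff.mp hx
  rw [← ha, hcf]

/-- the sum of a translated irreducible character over a class -/
theorem sum_classFinset_char_mul [Fintype G] (χ : Cfsg.IrrCharacter G) (h y : G) :
    ∑ x ∈ classFinset h, (χ : G → ℂ) (x * y) =
      Cfsg.centralChar (χ : G → ℂ) h * (χ : G → ℂ) y := by
  classical
  have h1 := sum_classFunction_char_translate χ (classIndicator h)
    (classIndicator_isClassFunction h) y
  have e1 : ∀ f : G → ℂ, ∑ x : G, classIndicator h x * f x = ∑ x ∈ classFinset h, f x := by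
    intro f
    unfold classFinset
    rw [Finset.sum_filter]
    apply Finset.sum_congr rfl
    intro x _
    rw [classIndicator_apply]
    split_ifs <;> simp
  rw [e1 (fun x => (χ : G → ℂ) (x * y)), e1 (fun x => (χ : G → ℂ) x), sum_classFinset_char] at h1
  rw [h1]
  unfold Cfsg.centralChar
  ring

/-- **product formula** for central characters in terms of structure constants -/
theorem centralChar_mul_centralChar [Fintype G] (χ : Cfsg.IrrCharacter G) (h g : G) :
    Cfsg.centralChar (χ : G → ℂ) h * Cfsg.centralChar (χ : G → ℂ) g =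
      ∑ t : G, ((classPairs h g t).card : ℂ) * (χ : G → ℂ) t / (χ : G → ℂ) 1 := by
  classical
  have hχ1 : (χ : G → ℂ) 1 ≠ 0 := IsIrrCharacter.apply_one_ne_zero χ.2
  have h1 : ∑ t : G, ((classPairs h g t).card : ℂ) * (χ : G → ℂ) t =
      ∑ q ∈ classFinset h ×ˢ classFinset g, (χ : G → ℂ) (q.1 * q.2) := by
    rw [← Finset.sum_fiberwise (classFinset h ×ˢ classFinset g) (fun q : G × G => q.1 * q.2)
      (fun q => (χ : G → ℂ) (q.1 * q.2))]
    apply Finset.sum_congr rfl
    intro t _
    have : ∀ q ∈ (classFinset h ×ˢ classFinset g).filter (fun q : G × G => q.1 * q.2 = t),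
        (χ : G → ℂ) (q.1 * q.2) = (χ : G → ℂ) t := by
      intro q hq
      rw [(Finset.mem_filter.mp hq).2]
    rw [Finset.sum_congr rfl this, Finset.sum_const, nsmul_eq_mul]
    rfl
  have h2 : ∑ q ∈ classFinset h ×ˢ classFinset g, (χ : G → ℂ) (q.1 * q.2) =
      Cfsg.centralChar (χ : G → ℂ) h * Cfsg.centralChar (χ : G → ℂ) g * (χ : G → ℂ) 1 := by
    rw [Finset.sum_product_right]
    simp only [sum_classFinset_char_mul]
    rw [← Finset.mul_sum, sum_classFinset_char]
    unfold Cfsg.centralChar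
    field_simp
  rw [← Finset.sum_div, h1, h2, mul_div_assoc, div_self hχ1, mul_one]

end Cfsg.Agent.Helper2.Zc2
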