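import Mathlib
import Cfsg.Prelude.Def_Characters
import Cfsg.Agent.Helper2.Zc2_O
import Cfsg.Agent.Helper6.ZasChP
import Cfsg.Agent.Helper6.ZasChQ

/-!
Renamed copy (namespace `Cfsg.Agent.Helper2.Zc2`) of `Cfsg/Agent/Helper6/ZasChR.lean` (author helper6), made so that
the S0731 theorem can be used together with the closure of S3282 (which contains `Helper6.ClassMult`).

# Zassenhaus groups with abelian kernel: the kernel cannot have even order
-/

set_option autoImplicit false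
set_option linter.style.haveILetI false
set_option linter.unusedSectionVars false

namespace Cfsg.Agent.Helper2.Zc2

open Cfsg.Agent.Helper6

open MulAction Cfsg.Agent.Helper2
open scoped ComplexConjugate

variable {G Ω : Type*} [Group G] [MulAction G Ω]

section

variable [Fintype G] [Fintype Ω]
  (hZ : Cfsg.IsZassenhausGroup G Ω) {a b : Ω} (hab : a ≠ b)
  (H : Subgroup G) (hHa : H ≤ stabilizer G a) (hHcard : Nat.card H + 1 = Fintype.card Ω)
  (hHfix : ∀ u ∈ H, u ≠ 1 → ∀ c : Ω, u • c = c → c = a)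
  (hHab : ∀ u ∈ H, ∀ v ∈ H, u * v = v * u)

include hZ hab hHa hHcard hHfix hHab

/-- an induced relevant character does not contain the principal character -/
theorem zas_classInner_ind_rel_one {χ₀ : stabilizer G a → ℂ} (hχ₀ : χ₀ ∈ zasRel a H) :
    Cfsg.classInner (Cfsg.indFun (stabilizer G a) χ₀) (fun _ => (1 : ℂ)) = 0 := by
  classical
  haveI : Fintype (stabilizer G a) := Fintype.ofFinite _
  rw [frobenius_reciprocity _ _ _
    (IsCharacter.isClassFunction (IsIrrCharacter.isCharacter isIrrCharacter_one))]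
  have hne : χ₀ ≠ fun _ => (1 : ℂ) := by
    intro h2
    obtain ⟨k, -, hk⟩ := hχ₀.2
    apply hk
    rw [h2]
  exact classInner_irr_ne hχ₀.1 isIrrCharacter_one hne

/-- the two-point stabiliser of a Zassenhaus group is not trivial -/
theorem zas_one_lt_card_two_stab :
    1 < Nat.card ↥(stabilizer G a ⊓ stabilizer G b : Subgroup G) := by
  obtain ⟨g, hg1, c, d, hcd, hgc, hgd⟩ := hZ.2.2.2.1
  rw [← zas_card_two_stab_eq hZ hab hcd]
  rw [Finite.one_lt_card_iff_nontrivial]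
  refine ⟨⟨⟨g, ?_⟩, 1, ?_⟩⟩
  · rw [Subgroup.mem_inf]
    exact ⟨mem_stabilizer_iff.mpr hgc, mem_stabilizer_iff.mpr hgd⟩
  · intro h
    exact hg1 (congrArg Subtype.val h)

/-- **the Frobenius kernel of a point stabiliser cannot be abelian of even order** -/
theorem zas_even_false [IsSimpleGroup G]
    (hodd : Odd (Nat.card ↥(stabilizer G a ⊓ stabilizer G b : Subgroup G)))
    (hlt : 2 * Nat.card ↥(stabilizer G a ⊓ stabilizer G b : Subgroup G) <
      Fintype.card Ω - 2) (heven : Even (Nat.card H)) : False := by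
  classical
  haveI : Fintype (stabilizer G a) := Fintype.ofFinite _
  haveI : Finite (Cfsg.IrrCharacter (stabilizer G a)) := irr_finite
  haveI : Fintype (Cfsg.IrrCharacter (stabilizer G a)) := Fintype.ofFinite _
  haveI : Finite (Cfsg.IrrCharacter G) := irr_finite
  haveI : Fintype (Cfsg.IrrCharacter G) := Fintype.ofFinite _
  haveI : Fintype (ZasS a H) := Fintype.ofFinite _
  obtain ⟨e, he⟩ : ∃ e, e = Nat.card ↥(stabilizer G a ⊓ stabilizer G b : Subgroup G) := ⟨_, rfl⟩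
  obtain ⟨s, hs⟩ : ∃ s, s = Fintype.card (ZasS a H) := ⟨_, rfl⟩
  obtain ⟨h, hh⟩ : ∃ h, h = Fintype.card Ω - 1 := ⟨_, rfl⟩
  have he1 : 1 < e := he ▸ zas_one_lt_card_two_stab hZ hab H hHa hHcard hHfix hHab
  have hse : s * e = Fintype.card Ω - 2 := by
    rw [hs, he, ← Nat.card_eq_fintype_card]
    exact zas_card_rel_mul hZ hab H hHa hHcard hHfix hHab
  have hΩ : 4 ≤ Fintype.card Ω := by rw [← he] at hlt; omega
  have hhse : h = s * e + 1 := by omega
  have hspos : 0 < s := by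
    rcases Nat.eq_zero_or_pos s with h0 | h0
    · rw [h0, zero_mul] at hse
      omega
    · exact h0
  have he0 : (e : ℂ) ≠ 0 := by
    have : 0 < e := by omega
    exact_mod_cast this.ne'
  -- the two elements
  obtain ⟨t, ht, ht1, ht2, u, hu, hu2⟩ :=
    zas_exists_involution_and_non hZ hab H hHa hHcard hHfix hHab hodd hlt heven
  have hu1 : u ≠ 1 := by
    rintro rfl
    exact hu2 (one_mul 1)
  obtain ⟨tX, htX⟩ : ∃ tX : stabilizer G a, tX = ⟨t, hHa ht⟩ := ⟨_, rfl⟩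
  obtain ⟨uX, huX⟩ : ∃ uX : stabilizer G a, uX = ⟨u, hHa hu⟩ := ⟨_, rfl⟩
  have htXH : (tX : G) ∈ H := by rw [htX]; exact ht
  have huXH : (uX : G) ∈ H := by rw [huX]; exact hu
  have htXc : (tX : G) = t := by rw [htX]
  have huXc : (uX : G) = u := by rw [huX]
  have htX1 : tX ≠ 1 := by
    intro h1
    apply ht1
    rw [← htXc, h1]
    rfl
  have huX1 : uX ≠ 1 := by
    intro h1
    apply hu1
    rw [← huXc, h1]
    rfl
  have htXinv : tX⁻¹ = tX := by
    apply inv_eq_of_mul_eq_one_left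
    apply Subtype.ext
    show (tX : G) * (tX : G) = 1
    rw [htXc, ht2]
  -- non-conjugacy
  have hnc : ¬ IsConj t u := by
    intro hc
    obtain ⟨c, hc⟩ := isConj_iff.mp hc
    apply hu2
    rw [← hc]
    calc c * t * c⁻¹ * (c * t * c⁻¹) = c * (t * t) * c⁻¹ := by group
      _ = 1 := by rw [ht2]; group
  have hncX : ¬ IsConj tX uX := by
    intro hc
    apply hnc
    have h1 : IsConj (tX : G) (uX : G) := (Subgroup.subtype (stabilizer G a)).map_isConj hc
    rw [htXc, huXc] at h1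
    exact h1
  have hprod := zas_involution_products hZ hab H hHa hHcard hHfix hHab hodd ht2 hu hu2
  have hprodX : ∀ x y : stabilizer G a, IsConj tX x → IsConj tX y → ¬ IsConj uX (x * y) := by
    intro x y hx hy hxy
    have h1 : IsConj (tX : G) (x : G) := (Subgroup.subtype (stabilizer G a)).map_isConj hx
    have h2 : IsConj (tX : G) (y : G) := (Subgroup.subtype (stabilizer G a)).map_isConj hy
    have h3 : IsConj (uX : G) ((x : G) * (y : G)) :=
      (Subgroup.subtype (stabilizer G a)).map_isConj hxy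
    rw [htXc] at h1 h2
    rw [huXc] at h3
    exact hprod _ _ h1 h2 h3
  -- sums over the relevant characters
  have S1x : ∑ χ : ZasS a H,
      ((χ.1 : Cfsg.IrrCharacter (stabilizer G a)) : stabilizer G a → ℂ) tX = -1 :=
    zas_sum_rel_apply hZ hab H hHa hHcard hHfix hHab htXH htX1
  have S1u : ∑ χ : ZasS a H,
      ((χ.1 : Cfsg.IrrCharacter (stabilizer G a)) : stabilizer G a → ℂ) uX = -1 :=
    zas_sum_rel_apply hZ hab H hHa hHcard hHfix hHab huXH huX1
  have S1y : ∑ χ : ZasS a H,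
      conj (((χ.1 : Cfsg.IrrCharacter (stabilizer G a)) : stabilizer G a → ℂ) uX) = -1 := by
    rw [← map_sum, S1u, map_neg, map_one]
  have Sxy : ∑ χ : ZasS a H,
      ((χ.1 : Cfsg.IrrCharacter (stabilizer G a)) : stabilizer G a → ℂ) tX *
        conj (((χ.1 : Cfsg.IrrCharacter (stabilizer G a)) : stabilizer G a → ℂ) uX) =
      -(e : ℂ) := by
    have h1 := zas_sum_rel_mul_conj hZ hab H hHa hHcard hHfix hHab htXH huXH
    rw [if_neg hncX, zero_sub, ← he] at h1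
    exact h1
  have hreal : ∀ χ : ZasS a H,
      conj (((χ.1 : Cfsg.IrrCharacter (stabilizer G a)) : stabilizer G a → ℂ) tX) =
        ((χ.1 : Cfsg.IrrCharacter (stabilizer G a)) : stabilizer G a → ℂ) tX := by
    intro χ
    rw [← IsCharacter.inv_eq_conj (IsIrrCharacter.isCharacter χ.1.2), htXinv]
  have Sxx : ∑ χ : ZasS a H,
      ((χ.1 : Cfsg.IrrCharacter (stabilizer G a)) : stabilizer G a → ℂ) tX *
        ((χ.1 : Cfsg.IrrCharacter (stabilizer G a)) : stabilizer G a → ℂ) tX =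
      (h : ℂ) - e := by
    have h1 := zas_sum_rel_mul_conj hZ hab H hHa hHcard hHfix hHab htXH htXH
    rw [if_pos (IsConj.refl _),
      zas_card_centralizer_kernel_elt hZ hab H hHa hHcard hHfix hHab htXH htX1, ← he, ← hh] at h1
    rw [← h1]
    apply Finset.sum_congr rfl
    intro χ _
    rw [hreal χ]
  have Sxxy : ∑ χ : ZasS a H,
      ((χ.1 : Cfsg.IrrCharacter (stabilizer G a)) : stabilizer G a → ℂ) tX *
        ((χ.1 : Cfsg.IrrCharacter (stabilizer G a)) : stabilizer G a → ℂ) tX *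
        conj (((χ.1 : Cfsg.IrrCharacter (stabilizer G a)) : stabilizer G a → ℂ) uX) =
      -((e : ℂ) * e) := by
    have h1 := zas_sum_rel_sq_mul_conj hZ hab H hHa hHcard hHfix hHab htXH huXH hprodX
    rw [← he] at h1
    exact h1
  have Sdeg : ∑ χ : ZasS a H,
      ((χ.1 : Cfsg.IrrCharacter (stabilizer G a)) : stabilizer G a → ℂ) 1 = (h : ℂ) - 1 := by
    rw [zas_sum_rel_deg hZ hab H hHa hHcard hHfix hHab]
    have : Fintype.card Ω - 2 = h - 1 := by omega
    rw [this, Nat.cast_sub (by omega), Nat.cast_one]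
  have Sone : ∑ _χ : ZasS a H, (1 : ℂ) = s := by
    rw [Finset.sum_const, Finset.card_univ, nsmul_eq_mul, mul_one, hs]
  -- the irreducible characters of `G` and their values on `H`
  obtain ⟨Λ, D, hΛ, hDcard, hDuni, hsplit⟩ :=
    zas_irr_structure hZ hab H hHa hHcard hHfix hHab hodd hlt
  have hΛv : ∀ χ : ZasS a H, ∃ w : ℕ, ∀ k : stabilizer G a, (k : G) ∈ H →
      (Λ χ : G → ℂ) k =
        ((χ.1 : Cfsg.IrrCharacter (stabilizer G a)) : stabilizer G a → ℂ) k + w := fun χ =>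
    zasExc_values a H χ.2 (IsIrrCharacter.isCharacter (Λ χ).2) (hΛ χ)
  choose wΛ hwΛ using hΛv
  have hDv : ∀ Ξ : Cfsg.IrrCharacter G, ∃ n : ℕ, Ξ ∈ D → ∀ k : stabilizer G a, (k : G) ∈ H →
      (Ξ : G → ℂ) k = ∑ χ : ZasS a H,
        ((χ.1 : Cfsg.IrrCharacter (stabilizer G a)) : stabilizer G a → ℂ) k + n := by
    intro Ξ
    by_cases hΞ : Ξ ∈ D
    · obtain ⟨n, hn⟩ := zas_uniform_values a H (IsIrrCharacter.isCharacter Ξ.2) (hDuni Ξ hΞ)
      exact ⟨n, fun _ => hn⟩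
    · exact ⟨0, fun h' => absurd h' hΞ⟩
  choose nn hnn using hDv
  have hΛt : ∀ χ : ZasS a H, (Λ χ : G → ℂ) t =
      ((χ.1 : Cfsg.IrrCharacter (stabilizer G a)) : stabilizer G a → ℂ) tX + wΛ χ := by
    intro χ
    have h1 := hwΛ χ tX htXH
    rwa [htXc] at h1
  have hΛu : ∀ χ : ZasS a H, (Λ χ : G → ℂ) u =
      ((χ.1 : Cfsg.IrrCharacter (stabilizer G a)) : stabilizer G a → ℂ) uX + wΛ χ := by
    intro χ
    have h1 := hwΛ χ uX huXH
    rwa [huXc] at h1
  have hΛ1 : ∀ χ : ZasS a H, (Λ χ : G → ℂ) 1 = (e : ℂ) + wΛ χ := by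
    intro χ
    have h1 := hwΛ χ 1 (by rw [Subgroup.coe_one]; exact H.one_mem)
    rw [Subgroup.coe_one, zasRel_apply_one hZ hab H hHa hHcard hHfix hHab χ.2, ← he] at h1
    exact h1
  have hDt : ∀ Ξ ∈ D, (Ξ : G → ℂ) t = -1 + nn Ξ := by
    intro Ξ hΞ
    have h1 := hnn Ξ hΞ tX htXH
    rwa [htXc, S1x] at h1
  have hDu : ∀ Ξ ∈ D, (Ξ : G → ℂ) u = -1 + nn Ξ := by
    intro Ξ hΞ
    have h1 := hnn Ξ hΞ uX huXH
    rwa [huXc, S1u] at h1
  have hD1 : ∀ Ξ ∈ D, (Ξ : G → ℂ) 1 = ((h : ℂ) - 1) + nn Ξ := by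
    intro Ξ hΞ
    have h1 := hnn Ξ hΞ 1 (by rw [Subgroup.coe_one]; exact H.one_mem)
    rwa [Subgroup.coe_one, Sdeg] at h1
  -- the multiplicities of the exceptional characters
  have hmΛ : ∀ χ χ' : ZasS a H, Cfsg.classInner (Cfsg.indFun (stabilizer G a)
      ((χ.1 : Cfsg.IrrCharacter (stabilizer G a)) : stabilizer G a → ℂ)) (Λ χ' : G → ℂ) =
        if χ' = χ then 1 else 0 := by
    intro χ χ'
    by_cases h1 : χ' = χ
    · rw [if_pos h1, h1]
      exact (hΛ χ).1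
    · rw [if_neg h1]
      apply (hΛ χ').2 _ χ.2
      intro h2
      apply h1
      apply Subtype.ext
      apply Subtype.ext
      exact h2.symm
  -- the defect of an exceptional character is determined by the other characters
  have hE : ∀ χ : ZasS a H, (wΛ χ : ℂ) + ∑ Ξ ∈ D, ((nn Ξ : ℂ) - 1) = 0 := by
    intro χ
    have hexp := classFunction_expansion
      (Cfsg.indFun (stabilizer G a)
        ((χ.1 : Cfsg.IrrCharacter (stabilizer G a)) : stabilizer G a → ℂ))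
      (indFun_isClassFunction _ _)
    have h1 := congrFun hexp u
    simp only [Finset.sum_apply, Pi.smul_apply, smul_eq_mul] at h1
    rw [zas_indFun_apply_kernel hZ hab H hHa hHcard hHfix _
      (IsCharacter.isClassFunction (IsIrrCharacter.isCharacter χ.1.2)) hu hu1, ← huX,
      hsplit] at h1
    rw [zas_classInner_ind_rel_one hZ hab H hHa hHcard hHfix hHab χ.2, zero_mul, zero_add,
      Finset.sum_eq_single χ, hmΛ χ χ, if_pos rfl, one_mul, hΛu χ] at h1
    · have h2 : ∑ Ξ ∈ D, Cfsg.classInner (Cfsg.indFun (stabilizer G a)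
          ((χ.1 : Cfsg.IrrCharacter (stabilizer G a)) : stabilizer G a → ℂ)) (Ξ : G → ℂ) *
            (Ξ : G → ℂ) u = ∑ Ξ ∈ D, ((nn Ξ : ℂ) - 1) := by
        apply Finset.sum_congr rfl
        intro Ξ hΞ
        rw [hDuni Ξ hΞ _ χ.2, one_mul, hDu Ξ hΞ]
        ring
      rw [h2] at h1
      linear_combination -h1
    · intro χ' _ hne
      rw [hmΛ χ χ', if_neg hne, zero_mul]
    · intro h2
      exact absurd (Finset.mem_univ _) h2
  -- all exceptional characters have the same defect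
  obtain ⟨χ₁⟩ : Nonempty (ZasS a H) := zas_rel_nonempty hZ hab H hHa hHcard hHfix hHab hlt
  obtain ⟨W, hW⟩ : ∃ W, W = wΛ χ₁ := ⟨_, rfl⟩
  have hWall : ∀ χ : ZasS a H, wΛ χ = W := by
    intro χ
    have h1 := hE χ
    have h2 := hE χ₁
    have h3 : (wΛ χ : ℂ) = (wΛ χ₁ : ℂ) := by linear_combination h1 - h2
    rw [hW]
    exact_mod_cast h3
  -- column orthogonality in `G`
  have hQ : 1 + (-(e : ℂ) - 2 * W + s * (W : ℂ) ^ 2) + ∑ Ξ ∈ D, ((nn Ξ : ℂ) - 1) ^ 2 = 0 := by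
    have h1 := column_orthogonality_aux t u
    rw [if_neg hnc, hsplit] at h1
    have h2 : ∑ χ : ZasS a H, (Λ χ : G → ℂ) t * conj ((Λ χ : G → ℂ) u) =
        -(e : ℂ) - 2 * W + s * (W : ℂ) ^ 2 := by
      have h3 : ∀ χ : ZasS a H, (Λ χ : G → ℂ) t * conj ((Λ χ : G → ℂ) u) =
          ((χ.1 : Cfsg.IrrCharacter (stabilizer G a)) : stabilizer G a → ℂ) tX *
            conj (((χ.1 : Cfsg.IrrCharacter (stabilizer G a)) : stabilizer G a → ℂ) uX) +
          (W : ℂ) * ((χ.1 : Cfsg.IrrCharacter (stabilizer G a)) : stabilizer G a → ℂ) tX +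
          (W : ℂ) * conj (((χ.1 : Cfsg.IrrCharacter (stabilizer G a)) : stabilizer G a → ℂ) uX) +
          (W : ℂ) ^ 2 * 1 := by
        intro χ
        rw [hΛt, hΛu, hWall, map_add, Complex.conj_natCast]
        ring
      rw [Finset.sum_congr rfl (fun χ _ => h3 χ), Finset.sum_add_distrib, Finset.sum_add_distrib,
        Finset.sum_add_distrib, ← Finset.mul_sum, ← Finset.mul_sum, ← Finset.mul_sum, Sxy, S1x,
        S1y, Sone]
      ring
    have h4 : ∑ Ξ ∈ D, (Ξ : G → ℂ) t * conj ((Ξ : G → ℂ) u) =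
        ∑ Ξ ∈ D, ((nn Ξ : ℂ) - 1) ^ 2 := by
      apply Finset.sum_congr rfl
      intro Ξ hΞ
      rw [hDt Ξ hΞ, hDu Ξ hΞ, map_add, map_neg, map_one, Complex.conj_natCast]
      ring
    rw [h2, h4] at h1
    dsimp only at h1
    rw [map_one, mul_one] at h1
    exact h1
  -- the vanishing class algebra constant in `G`
  have hF : 1 + (-(e : ℂ) ^ 2 + W * ((h : ℂ) - e) - 2 * W * e - 3 * (W : ℂ) ^ 2 +
      s * (W : ℂ) ^ 3) / (e + W) +
      ∑ Ξ ∈ D, ((nn Ξ : ℂ) - 1) ^ 3 / (((h : ℂ) - 1) + nn Ξ) = 0 := by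
    have h1 := sum_irr_sq_mul_conj_eq_zero t u hprod
    rw [hsplit] at h1
    have h2 : ∑ χ : ZasS a H, (Λ χ : G → ℂ) t * (Λ χ : G → ℂ) t * conj ((Λ χ : G → ℂ) u) /
        (Λ χ : G → ℂ) 1 =
        (-(e : ℂ) ^ 2 + W * ((h : ℂ) - e) - 2 * W * e - 3 * (W : ℂ) ^ 2 +
          s * (W : ℂ) ^ 3) / (e + W) := by
      have h3 : ∀ χ : ZasS a H, (Λ χ : G → ℂ) t * (Λ χ : G → ℂ) t * conj ((Λ χ : G → ℂ) u) /
          (Λ χ : G → ℂ) 1 =
          (((χ.1 : Cfsg.IrrCharacter (stabilizer G a)) : stabilizer G a → ℂ) tX *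
            ((χ.1 : Cfsg.IrrCharacter (stabilizer G a)) : stabilizer G a → ℂ) tX *
            conj (((χ.1 : Cfsg.IrrCharacter (stabilizer G a)) : stabilizer G a → ℂ) uX) +
          (W : ℂ) * (((χ.1 : Cfsg.IrrCharacter (stabilizer G a)) : stabilizer G a → ℂ) tX *
            ((χ.1 : Cfsg.IrrCharacter (stabilizer G a)) : stabilizer G a → ℂ) tX) +
          2 * (W : ℂ) * (((χ.1 : Cfsg.IrrCharacter (stabilizer G a)) : stabilizer G a → ℂ) tX *
            conj (((χ.1 : Cfsg.IrrCharacter (stabilizer G a)) : stabilizer G a → ℂ) uX)) +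
          2 * (W : ℂ) ^ 2 *
            ((χ.1 : Cfsg.IrrCharacter (stabilizer G a)) : stabilizer G a → ℂ) tX +
          (W : ℂ) ^ 2 *
            conj (((χ.1 : Cfsg.IrrCharacter (stabilizer G a)) : stabilizer G a → ℂ) uX) +
          (W : ℂ) ^ 3 * 1) / (e + W) := by
        intro χ
        rw [hΛt, hΛu, hΛ1, hWall, map_add, Complex.conj_natCast]
        ring
      rw [Finset.sum_congr rfl (fun χ _ => h3 χ), ← Finset.sum_div, Finset.sum_add_distrib,
        Finset.sum_add_distrib, Finset.sum_add_distrib, Finset.sum_add_distrib,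
        Finset.sum_add_distrib, ← Finset.mul_sum, ← Finset.mul_sum, ← Finset.mul_sum,
        ← Finset.mul_sum, ← Finset.mul_sum, Sxxy, Sxx, Sxy, S1x, S1y, Sone]
      ring
    have h4 : ∑ Ξ ∈ D, (Ξ : G → ℂ) t * (Ξ : G → ℂ) t * conj ((Ξ : G → ℂ) u) / (Ξ : G → ℂ) 1 =
        ∑ Ξ ∈ D, ((nn Ξ : ℂ) - 1) ^ 3 / (((h : ℂ) - 1) + nn Ξ) := by
      apply Finset.sum_congr rfl
      intro Ξ hΞ
      rw [hDt Ξ hΞ, hDu Ξ hΞ, hD1 Ξ hΞ, map_add, map_neg, map_one, Complex.conj_natCast]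
      ring
    rw [h2, h4] at h1
    dsimp only at h1
    rw [map_one, mul_one, mul_one, div_one] at h1
    exact h1
  -- transfer to the reals
  have h1R : (W : ℝ) + ∑ Ξ ∈ D, ((nn Ξ : ℝ) - 1) = 0 := by
    have h1 := hE χ₁
    rw [← hW] at h1
    have h2 : (((W : ℝ) + ∑ Ξ ∈ D, ((nn Ξ : ℝ) - 1) : ℝ) : ℂ) = ((0 : ℝ) : ℂ) := by
      push_cast
      exact h1
    exact Complex.ofReal_injective h2
  have h2R : 1 + (-(e : ℝ) - 2 * W + s * (W : ℝ) ^ 2) + ∑ Ξ ∈ D, ((nn Ξ : ℝ) - 1) ^ 2 = 0 := by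
    have h2 : ((1 + (-(e : ℝ) - 2 * W + s * (W : ℝ) ^ 2) +
        ∑ Ξ ∈ D, ((nn Ξ : ℝ) - 1) ^ 2 : ℝ) : ℂ) = ((0 : ℝ) : ℂ) := by
      push_cast
      exact hQ
    exact Complex.ofReal_injective h2
  have h3R : 1 + (-(e : ℝ) ^ 2 + W * ((h : ℝ) - e) - 2 * W * e - 3 * (W : ℝ) ^ 2 +
      s * (W : ℝ) ^ 3) / (e + W) +
      ∑ Ξ ∈ D, ((nn Ξ : ℝ) - 1) ^ 3 / (((h : ℝ) - 1) + nn Ξ) = 0 := by
    have h2 : ((1 + (-(e : ℝ) ^ 2 + W * ((h : ℝ) - e) - 2 * W * e - 3 * (W : ℝ) ^ 2 +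
      s * (W : ℝ) ^ 3) / (e + W) +
      ∑ Ξ ∈ D, ((nn Ξ : ℝ) - 1) ^ 3 / (((h : ℝ) - 1) + nn Ξ) : ℝ) : ℂ) = ((0 : ℝ) : ℂ) := by
      push_cast
      exact hF
    exact Complex.ofReal_injective h2
  exact zas_even_arith D nn e s W h he1 hhse hspos h1R h2R h3R

end

end Cfsg.Agent.Helper2.Zc2
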