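import Mathlib
import Cfsg.Prelude.Def_LieExceptional
import Cfsg.Agent.Helper2.ZasAbF
import Cfsg.Agent.Helper6.ZasChH
import Cfsg.Agent.Helper2.Zc2_S

/-!
# The statement of S0731, proved without `Helper6.StructConst` in the import closure

`Cfsg.Agent.S0731` imports `Helper6/StructConst`, which cannot be imported together with
`Helper6/ClassMult` (in the closure of S3282).  This file re-proves the same statement from the
renamed copies `Helper2/Zc2_*`.
-/

set_option autoImplicit false
open Cfsg

namespace Cfsg.Agent.Helper2.Bsd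

/-- A finite Zassenhaus group whose point stabiliser has an abelian regular normal subgroup on the
remaining points is sharply triply transitive or isomorphic to `PSL(2, K)`, `K` a finite field of odd
characteristic (the statement of S0731). -/
theorem zas_abelian_regular {G Ω : Type*} [Group G] [Finite G] [MulAction G Ω] [Finite Ω]
    (hZ : Cfsg.IsZassenhausGroup G Ω) (x : Ω) (F : Subgroup G) (hFle : F ≤ MulAction.stabilizer G x)
    (hFn : (F.subgroupOf (MulAction.stabilizer G x)).Normal) (hFab : IsMulCommutative F)
    (hreg : ∀ y z : Ω, y ≠ x → z ≠ x → ∃! u : F, (u : G) • y = z) :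
    (MulAction.IsMultiplyPretransitive G Ω 3 ∧ ∀ t : Fin 3 ↪ Ω, MulAction.stabilizer G t = ⊥) ∨
    ∃ (K : Type) (_ : Field K) (_ : Fintype K), ringChar K ≠ 2 ∧
      Nonempty (G ≃* Matrix.ProjectiveSpecialLinearGroup (Fin 2) K) := by
  exact Cfsg.Agent.Helper2.ZasAb.main_of
    (fun G Ω _ _ _ _ hZ a b hab hS h e hh he hodd hlt H hHa hHcard hHfix hHab => by
      haveI := hS
      exact Cfsg.Agent.Helper6.zas_class_bound hZ hab h e hh he hlt H hHa hHcard hHfix hHab)
    (fun G Ω _ _ _ _ hZ a b hab hS h e hh he hodd hlt H hHa hHcard hHfix hHab hev => by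
      haveI := hS
      exact Cfsg.Agent.Helper2.Zc2.zas_even_contra hZ hab h e hh he hodd hlt H hHa hHcard hHfix hHab hev)
    hZ x F hFle hFn hFab hreg

end Cfsg.Agent.Helper2.Bsd
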