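import Mathlib
import Cfsg.Prelude.Def_LieExceptional
import Cfsg.Agent.Helper2.Zc2_Main

/-!
# S0508, part 3: from the Zassenhaus action to `PSL(2,F)`
-/

set_option autoImplicit false
open Cfsg

namespace Cfsg.Agent.Helper2.Bsd

/-- PART 3 glue: the conclusion of `part2` (Zassenhaus action on `G ⧸ N(Q)` with `Q` abelian regular
normal in the point stabiliser, not sharply 3-transitive) gives `G ≃* PSL(2,F)`, `|F|` odd. -/
theorem part3_of {G : Type*} [Group G] [Finite G] (Q : Subgroup G)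
    (h2 : Cfsg.IsZassenhausGroup G (G ⧸ Subgroup.normalizer (Q : Set G)) ∧
      Q ≤ MulAction.stabilizer G ((1 : G) : G ⧸ Subgroup.normalizer (Q : Set G)) ∧
      (Q.subgroupOf (MulAction.stabilizer G ((1 : G) : G ⧸ Subgroup.normalizer (Q : Set G)))).Normal ∧
      IsMulCommutative ↥Q ∧
      (∀ y z : G ⧸ Subgroup.normalizer (Q : Set G),
        y ≠ ((1 : G) : G ⧸ Subgroup.normalizer (Q : Set G)) →
        z ≠ ((1 : G) : G ⧸ Subgroup.normalizer (Q : Set G)) → ∃! u : Q, (u : G) • y = z) ∧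
      ¬ (MulAction.IsMultiplyPretransitive G (G ⧸ Subgroup.normalizer (Q : Set G)) 3 ∧
          ∀ t : Fin 3 ↪ (G ⧸ Subgroup.normalizer (Q : Set G)), MulAction.stabilizer G t = ⊥)) :
    ∃ (F : Type) (_ : Field F) (_ : Fintype F), Odd (Fintype.card F) ∧
      Nonempty (G ≃* Matrix.ProjectiveSpecialLinearGroup (Fin 2) F) := by
  obtain ⟨hZ, hle, hn, hab, hreg, hns⟩ := h2
  rcases zas_abelian_regular hZ _ Q hle hn hab hreg with h3 | ⟨K, iF, iFin, hchar, hiso⟩
  · exact absurd h3 hns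
  · refine ⟨K, iF, iFin, ?_, hiso⟩
    rw [Nat.odd_iff]
    exact FiniteField.odd_card_of_char_ne_two hchar

end Cfsg.Agent.Helper2.Bsd
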