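import Mathlib
import Cfsg.Agent.Lead.BswDefs
import Cfsg.Agent.Lead.BswDefs2
import Cfsg.Agent.Lead.Bsw_A1_12
import Cfsg.Agent.Helper5.Bsw_A13_20
import Cfsg.Agent.Helper5.Bsw_A21_27
import Cfsg.Agent.Helper6.Bsw_A29_30
import Cfsg.Agent.Helper7.Bsw_A31_35
import Cfsg.Agent.Helper7.Bsw_B1_9
import Cfsg.Agent.Helper9.Bsw_B10_17
import Cfsg.Agent.Helper5.Bsw_B18_23
import Cfsg.Agent.Helper3.Bsw_C2_C6
import Cfsg.Agent.Helper6.Bsw_C3

/-! S3282 group side, pieces D1–D7 (case `k = 2`), helper2. -/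

set_option autoImplicit false
set_option linter.unusedSectionVars false
set_option linter.style.haveILetI false
namespace Cfsg.Agent.Lead.Bsw
variable {G : Type*} [Group G] [Finite G] {t s : G} {K : Subgroup G}

-- D1 : no K-type non-involutions; n = 3 + #R_t
theorem k2_count (h : Hyp t K s) (hk2 : Nat.card K = 2) :
    nInv G = 3 + Nat.card {y : G // IsTorusElt y ∧ t * y * t⁻¹ = y⁻¹} := by
  have := count_per_inv h
  rw [hk2] at this
  omega

/-- a subgroup of a group of order `2` containing an involution has order `2`. -/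
theorem h2_card_two_of_le {A B : Subgroup G} (hAB : A ≤ B) (hB : Nat.card B = 2) {u : G}
    (hu : orderOf u = 2) (huA : u ∈ A) : Nat.card A = 2 := by
  have hdvd := Subgroup.card_dvd_of_le hAB
  rw [hB] at hdvd
  have hne1 : Nat.card A ≠ 1 := by
    intro h1
    have hbot : A = ⊥ := Subgroup.card_eq_one.mp h1
    rw [hbot, Subgroup.mem_bot] at huA
    rw [huA, orderOf_one] at hu
    omega
  have hle := Nat.le_of_dvd (by norm_num) hdvd
  have hpos : 0 < Nat.card A := Nat.card_pos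
  omega

-- D2 : |N(A)| = 2|A|
theorem k2_normalizer_card (h : Hyp t K s) (hk2 : Nat.card K = 2) {y : G} (hy : IsTorusElt y) :
    Nat.card (Subgroup.normalizer ((Subgroup.centralizer ({y} : Set G) : Subgroup G) : Set G)) =
      2 * Nat.card (Subgroup.centralizer ({y} : Set G)) := by
  obtain ⟨u, hu, huy⟩ := hy.2.1
  have huN := inverter_mem_normalizer huy
  rw [torus_normalizer_card h hy hu huN]
  have hK2 : Nat.card (Kz u) = 2 := by rw [card_Kz h hu, hk2]
  have h2 := h2_card_two_of_le (inf_le_right :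
    Subgroup.normalizer ((Subgroup.centralizer ({y} : Set G) : Subgroup G) : Set G) ⊓ Kz u ≤ Kz u)
    hK2 hu ⟨huN, mem_Kz_self h hu⟩
  rw [h2, mul_comm]

-- D3 : sum of F over torus elements  (C3 with P = IsTorusElt, and B13)
theorem k2_sum (h : Hyp t K s) :
    Nat.card {p : G × G // IsTorusElt p.1 ∧ orderOf p.2 = 2 ∧ p.2 * p.1 * p.2⁻¹ = p.1⁻¹} =
      nInv G * Nat.card {y : G // IsTorusElt y ∧ t * y * t⁻¹ = y⁻¹} :=
  double_count h.hconj t h.ht IsTorusElt (fun g y hy => (isTorusElt_conj g y).mpr hy)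

/-- the pairs (torus element, inverting involution), fibred over the torus elements. -/
theorem h2_pairs_eq_sum (h : Hyp t K s) :
    Nat.card {p : G × G // IsTorusElt p.1 ∧ orderOf p.2 = 2 ∧ p.2 * p.1 * p.2⁻¹ = p.1⁻¹} =
      ∑ᶠ y : {y : G // IsTorusElt y}, Nat.card (Subgroup.centralizer ({(y : G)} : Set G)) := by
  classical
  haveI : Fintype {y : G // IsTorusElt y} := Fintype.ofFinite _
  have e : {p : G × G // IsTorusElt p.1 ∧ orderOf p.2 = 2 ∧ p.2 * p.1 * p.2⁻¹ = p.1⁻¹} ≃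
      Σ y : {y : G // IsTorusElt y}, {z : G // orderOf z = 2 ∧ z * (y : G) * z⁻¹ = (y : G)⁻¹} :=
    { toFun := fun p => ⟨⟨p.1.1, p.2.1⟩, ⟨p.1.2, p.2.2⟩⟩
      invFun := fun q => ⟨(q.1.1, q.2.1), ⟨q.1.2, q.2.2⟩⟩
      left_inv := fun p => rfl
      right_inv := fun q => rfl }
  rw [Nat.card_congr e, Nat.card_sigma, finsum_eq_sum_of_fintype]
  apply Finset.sum_congr rfl
  intro y _
  rw [← F_eq_inverters (torusElt_sq_ne h y.2).1, F_torus h y.2]

-- D4 : if a bounds all torus orders then  n (n-3) ≤ a * #torus elements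
theorem k2_sum_le (h : Hyp t K s) (hk2 : Nat.card K = 2) (a : ℕ)
    (ha : ∀ y : G, IsTorusElt y → Nat.card (Subgroup.centralizer ({y} : Set G)) ≤ a) :
    nInv G * (nInv G - 3) ≤ a * Nat.card {y : G // IsTorusElt y} := by
  classical
  haveI : Fintype {y : G // IsTorusElt y} := Fintype.ofFinite _
  have h1 := k2_count h hk2
  have h3 : nInv G - 3 = Nat.card {y : G // IsTorusElt y ∧ t * y * t⁻¹ = y⁻¹} := by omega
  rw [h3, ← k2_sum h, h2_pairs_eq_sum h, finsum_eq_sum_of_fintype]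
  calc ∑ y : {y : G // IsTorusElt y}, Nat.card (Subgroup.centralizer ({(y : G)} : Set G))
      ≤ ∑ _y : {y : G // IsTorusElt y}, a := Finset.sum_le_sum (fun y _ => ha y.1 y.2)
    _ = a * Nat.card {y : G // IsTorusElt y} := by
        rw [Finset.sum_const, Finset.card_univ, Nat.card_eq_fintype_card, smul_eq_mul, mul_comm]

-- D5 : census for k = 2
theorem k2_census (h : Hyp t K s) (hk2 : Nat.card K = 2) :
    Nat.card {y : G // IsTorusElt y} + 1 ≤ 3 * nInv G := by
  have h1 := census h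
  have h2 := card_G h
  rw [hk2] at h1 h2
  norm_num at h1
  omega

-- D6 : a torus of maximal order, inverted by t
theorem k2_exists_max (h : Hyp t K s) (hR : ∃ y : G, IsTorusElt y) :
    ∃ y : G, IsTorusElt y ∧ t * y * t⁻¹ = y⁻¹ ∧
      ∀ y' : G, IsTorusElt y' → Nat.card (Subgroup.centralizer ({y'} : Set G)) ≤
        Nat.card (Subgroup.centralizer ({y} : Set G)) := by
  obtain ⟨y₀, hy₀, hmax⟩ := Set.exists_max_image {y : G | IsTorusElt y}
    (fun y => Nat.card (Subgroup.centralizer ({y} : Set G))) (Set.toFinite _) hR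
  obtain ⟨z, hz, hzy⟩ := hy₀.2.1
  obtain ⟨g, hg⟩ := exists_conj_t h hz
  refine ⟨g⁻¹ * y₀ * g⁻¹⁻¹, (isTorusElt_conj g⁻¹ y₀).mpr hy₀, ?_, ?_⟩
  · have ht : t = g⁻¹ * z * g := by rw [hg]; group
    rw [ht]
    calc g⁻¹ * z * g * (g⁻¹ * y₀ * g⁻¹⁻¹) * (g⁻¹ * z * g)⁻¹
        = g⁻¹ * (z * y₀ * z⁻¹) * g := by group
      _ = g⁻¹ * y₀⁻¹ * g := by rw [hzy]
      _ = (g⁻¹ * y₀ * g⁻¹⁻¹)⁻¹ := by group
  · intro y' hy'
    rw [h7_card_cent_conj]
    exact hmax y' hy'

-- D7 : n = 3a for the maximal order a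
theorem k2_n_eq (h : Hyp t K s) (hk2 : Nat.card K = 2) {y : G} (hy : IsTorusElt y)
    (hmax : ∀ y' : G, IsTorusElt y' → Nat.card (Subgroup.centralizer ({y'} : Set G)) ≤
        Nat.card (Subgroup.centralizer ({y} : Set G))) :
    nInv G = 3 * Nat.card (Subgroup.centralizer ({y} : Set G)) := by
  have h4 := k2_sum_le h hk2 _ hmax
  have h5 := k2_census h hk2
  have hB := coset_bound h hy
  have hmod := nInv_mod h
  have hodd := hy.2.2
  have h3 := torus_card_ge h hy
  have hG := card_G h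
  have hdvd : Nat.card (Subgroup.centralizer ({y} : Set G)) ∣ Nat.card G :=
    Subgroup.card_subgroup_dvd_card _
  rw [hk2] at hB hmod hG
  generalize Nat.card (Subgroup.centralizer ({y} : Set G)) = a at *
  generalize Nat.card {y : G // IsTorusElt y} = R at *
  generalize nInv G = n at *
  rw [hG] at hdvd
  obtain ⟨c, hc⟩ := hodd
  obtain ⟨d, hd⟩ := hmod
  -- n ≤ 3 a + 2
  have hle : n ≤ 3 * a + 2 := by
    by_contra hcon
    have hcon := not_le.mp hcon
    obtain ⟨m, hm⟩ : ∃ m, n = m + 3 := ⟨n - 3, by omega⟩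
    have hm3 : n - 3 = m := by omega
    rw [hm3] at h4
    have h6 : a * R ≤ a * (3 * n - 1) := Nat.mul_le_mul_left a (by omega)
    have h7 : 3 * a ≤ m := by omega
    have h8 : n * (3 * a) ≤ n * m := Nat.mul_le_mul_left n h7
    have h9 : a * (3 * n - 1) + a = n * (3 * a) := by
      have : 3 * n - 1 + 1 = 3 * n := by omega
      calc a * (3 * n - 1) + a = a * (3 * n - 1 + 1) := by ring
        _ = a * (3 * n) := by rw [this]
        _ = n * (3 * a) := by ring
    have : 0 < a := by omega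
    omega
  -- parity
  have hpar : n = 3 * a ∨ n = 3 * a + 2 := by
    push_cast at hd
    have : (n : ℤ) = 2 * d + 1 := by linarith
    have hn' : n % 2 = 1 := by omega
    omega
  rcases hpar with h0 | h2
  · exact h0
  · exfalso
    rw [h2] at hdvd
    have h8 : a ∣ 8 := by
      have e1 : 2 * 2 * (3 * a + 2) = a * 12 + 8 := by ring
      rw [e1] at hdvd
      exact (Nat.dvd_add_right (dvd_mul_right a 12)).mp hdvd
    have hle8 := Nat.le_of_dvd (by norm_num) h8
    interval_cases a <;> omega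

end Cfsg.Agent.Lead.Bsw
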