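import Mathlib
import Cfsg.Agent.Lead.BswDefs
import Cfsg.Agent.Lead.BswDefs2
import Cfsg.Agent.Lead.Bsw_A1_12
import Cfsg.Agent.Helper5.Bsw_A13_20
import Cfsg.Agent.Helper5.Bsw_A21_27
import Cfsg.Agent.Helper6.Bsw_A29_30
import Cfsg.Agent.Helper7.Bsw_A31_35
import Cfsg.Agent.Helper7.Bsw_B1_9
import Cfsg.Agent.Helper9.Bsw_B10_17
import Cfsg.Agent.Helper5.Bsw_B18_23
import Cfsg.Agent.Helper3.Bsw_C2_C6
import Cfsg.Agent.Helper6.Bsw_C3
import Cfsg.Agent.Helper2.Bsw_D1_7
import Cfsg.Agent.Helper2.Bsw_D8_11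

/-! S3282 group side, pieces D12–D14 (case `k = 2`), helper2. -/

set_option autoImplicit false
set_option linter.unusedSectionVars false
set_option linter.unusedVariables false
set_option linter.style.haveILetI false
namespace Cfsg.Agent.Lead.Bsw
variable {G : Type*} [Group G] [Finite G] {t s : G} {K : Subgroup G}

/-- for `k = 2`, an element of order `3` commutes with no involution. -/
theorem h2_no_inv_cent (h : Hyp t K s) (hk2 : Nat.card K = 2) {x w : G} (hx : orderOf x = 3)
    (hw : orderOf w = 2) (hwx : w ∈ Subgroup.centralizer ({x} : Set G)) : False := by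
  have hxw : x ∈ Subgroup.centralizer ({w} : Set G) := by
    rw [Subgroup.mem_centralizer_singleton_iff] at hwx ⊢
    exact hwx.symm
  have hxK := mem_Kz_of_cent h hw hxw (by rw [hx]; norm_num)
  have hdvd : orderOf x ∣ Nat.card (Kz w) := by
    have := Subgroup.orderOf_dvd_natCard (Kz w) hxK
    exact this
  rw [card_Kz h hw, hk2, hx] at hdvd
  omega

/-- for `k = 2` and no tori, an element of order `3` is not real. -/
theorem h2_not_real (h : Hyp t K s) (hk2 : Nat.card K = 2) (hR : ¬ ∃ y : G, IsTorusElt y) {x : G}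
    (hx : orderOf x = 3) : ¬ IsReal x := by
  intro hr
  have hx1 : x ≠ 1 := by
    intro e; rw [e, orderOf_one] at hx; omega
  rcases real_dichotomy h hx1 (by rw [hx]; norm_num) hr with ⟨w, hw, hxw⟩ | htor
  · have hdvd : orderOf x ∣ Nat.card (Kz w) := Subgroup.orderOf_dvd_natCard (Kz w) hxw
    rw [card_Kz h hw, hk2, hx] at hdvd
    omega
  · exact hR ⟨x, htor⟩

/-- a subgroup of a group of order `12` containing an element of order `3` and no involution
has order `3`. -/
theorem h2_card_three (hG : Nat.card G = 12) (A : Subgroup G) {x : G} (hx : orderOf x = 3)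
    (hxA : x ∈ A) (hno : ∀ w ∈ A, orderOf w ≠ 2) : Nat.card A = 3 := by
  have hdvd : Nat.card A ∣ 12 := hG ▸ Subgroup.card_subgroup_dvd_card A
  have h3 : 3 ∣ Nat.card A := hx ▸ Subgroup.orderOf_dvd_natCard A hxA
  have hodd : ¬ 2 ∣ Nat.card A := by
    intro h2
    haveI : Fact (Nat.Prime 2) := ⟨Nat.prime_two⟩
    obtain ⟨⟨w, hwA⟩, hw⟩ := exists_prime_orderOf_dvd_card' (G := A) 2 h2
    rw [Subgroup.orderOf_mk] at hw
    exact hno w hwA hw
  have hle := Nat.le_of_dvd (by norm_num) hdvd
  have hpos : 0 < Nat.card A := Nat.card_pos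
  generalize Nat.card A = m at *
  interval_cases m <;> omega

-- D12 : conclusion when there is no torus (n = 3, |G| = 12)
theorem k2_concl_small (h : Hyp t K s) (hk2 : Nat.card K = 2) (hR : ¬ ∃ y : G, IsTorusElt y) :
    Concl G := by
  classical
  have hemp : Nat.card {y : G // IsTorusElt y ∧ t * y * t⁻¹ = y⁻¹} = 0 := by
    haveI : IsEmpty {y : G // IsTorusElt y ∧ t * y * t⁻¹ = y⁻¹} :=
      ⟨fun y => hR ⟨y.1, y.2.1⟩⟩
    exact Nat.card_of_isEmpty
  have hn : nInv G = 3 := by
    have := k2_count h hk2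
    omega
  have hG : Nat.card G = 12 := by
    rw [card_G h, hk2, hn]
  haveI : Fact (Nat.Prime 3) := ⟨Nat.prime_three⟩
  obtain ⟨x, hx⟩ := exists_prime_orderOf_dvd_card' (G := G) 3 (by rw [hG]; norm_num)
  have hx1 : x ≠ 1 := by
    intro e; rw [e, orderOf_one] at hx; omega
  have hQcard : Nat.card (Subgroup.zpowers x) = 3 := by rw [Nat.card_zpowers, hx]
  -- centralizers of elements of order 3
  have hcent : ∀ x' : G, orderOf x' = 3 →
      Nat.card (Subgroup.centralizer ({x'} : Set G)) = 3 := by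
    intro x' hx'
    exact h2_card_three hG _ hx' (h2_mem_cent_self x')
      (fun w hw hw2 => h2_no_inv_cent h hk2 hx' hw2 hw)
  refine ⟨Subgroup.zpowers x, ⊥, ?_, ?_, ?_, ?_, ?_, ?_, ?_⟩
  · rw [hG, hQcard]
  · intro x' hx'Q hx'1
    have hord : orderOf x' = 3 := by
      have hd : orderOf x' ∣ 3 := hQcard ▸ Subgroup.orderOf_dvd_natCard _ hx'Q
      have hne : orderOf x' ≠ 1 := by
        intro e; exact hx'1 (orderOf_eq_one_iff.mp e)
      rcases (Nat.dvd_prime Nat.prime_three).mp hd with e | e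
      · exact absurd e hne
      · exact e
    symm
    apply Subgroup.eq_of_le_of_card_ge
    · intro z hz
      rw [Subgroup.mem_centralizer_singleton_iff]
      obtain ⟨i, rfl⟩ := Subgroup.mem_zpowers_iff.mp hz
      obtain ⟨j, rfl⟩ := Subgroup.mem_zpowers_iff.mp hx'Q
      rw [← zpow_add, ← zpow_add, add_comm]
    · rw [hcent x' hord, hQcard]
  · exact ⟨⟨fun a b => by
      apply Subtype.ext
      have ha := Subgroup.mem_bot.mp a.2
      have hb := Subgroup.mem_bot.mp b.2
      show (a : G) * (b : G) = (b : G) * (a : G)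
      rw [ha, hb]⟩⟩
  · rw [Subgroup.card_bot, hQcard]
  · exact inf_bot_eq _
  · rw [sup_bot_eq]
    symm
    apply Subgroup.eq_of_le_of_card_ge Subgroup.le_normalizer
    rw [hQcard]
    apply le_of_eq
    apply h2_card_three hG _ hx (Subgroup.le_normalizer (Subgroup.mem_zpowers x))
    intro w hwN hw2
    -- w x w⁻¹ ∈ zpowers x
    have hconj : w * x * w⁻¹ ∈ Subgroup.zpowers x :=
      (Subgroup.mem_normalizer_iff.mp hwN x).mp (Subgroup.mem_zpowers x)
    rw [mem_zpowers_iff_mem_range_orderOf, hx] at hconj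
    simp only [Finset.mem_image, Finset.mem_range] at hconj
    obtain ⟨j, hj, hxj⟩ := hconj
    interval_cases j
    · -- w x w⁻¹ = 1
      rw [pow_zero] at hxj
      apply hx1
      have : x = w⁻¹ * (w * x * w⁻¹) * w := by group
      rw [this, ← hxj]; group
    · -- w commutes with x
      rw [pow_one] at hxj
      apply h2_no_inv_cent h hk2 hx hw2
      rw [Subgroup.mem_centralizer_singleton_iff]
      calc w * x = (w * x * w⁻¹) * w := by group
        _ = x * w := by rw [← hxj]
    · -- w inverts x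
      apply h2_not_real h hk2 hR hx
      refine ⟨w, hw2, ?_⟩
      rw [← hxj]
      have : x ^ 3 = 1 := by rw [← hx]; exact pow_orderOf_eq_one x
      have e : x ^ 2 * x = 1 := by rw [← pow_succ]; exact this
      exact (inv_eq_of_mul_eq_one_left e).symm
  · intro X hX hX1
    exact absurd (le_bot_iff.mp hX) hX1

-- D13 : conclusion when there is a torus (n = 15, |G| = 60)
theorem k2_concl_big (h : Hyp t K s) (hk2 : Nat.card K = 2) (hR : ∃ y : G, IsTorusElt y) :
    Concl G := by
  obtain ⟨y, hy, hty, hmax⟩ := k2_exists_max h hR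
  have hn := k2_n_eq h hk2 hy hmax
  obtain ⟨y₁, hy₁, h21⟩ := k2_second h hk2 hy hty hn
  have ha3 := torus_card_ge h hy
  have hb3 := torus_card_ge h hy₁
  have hlt : Nat.card (Subgroup.centralizer ({y₁} : Set G)) <
      Nat.card (Subgroup.centralizer ({y} : Set G)) := by omega
  have hlow := k2_lower h hk2 hy hy₁ hlt
  have hcen := k2_census h hk2
  have hG := card_G h
  rw [hk2] at hG
  have hab : Nat.card (Subgroup.centralizer ({y} : Set G)) = 5 ∧
      Nat.card (Subgroup.centralizer ({y₁} : Set G)) = 3 := by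
    apply k2_arith (nInv G) _ _ (Nat.card {y' : G // IsTorusElt y'}) ha3 hb3 hy.2.2 hy₁.2.2 hn h21
      hcen
    rw [hG] at hlow
    have e : 2 * 2 * nInv G = 4 * nInv G := by ring
    rw [e] at hlow
    exact hlow
  have ha : Nat.card (Subgroup.centralizer ({y} : Set G)) = 5 := hab.1
  have htN := inverter_mem_normalizer hty
  have hKt : Kz t = K := Kz_t h
  have hK1 : K ≠ ⊥ := by
    intro e
    have := h.htK
    rw [e, Subgroup.mem_bot] at this
    exact h7_ne_one h.ht this
  refine ⟨Subgroup.centralizer ({y} : Set G), K, ?_, ?_, h.hKab, ?_, ?_, ?_, ?_⟩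
  · rw [hG, hn, ha]
  · intro x hx hx1
    exact (torus_cent h hy hx hx1).1
  · rw [hk2, ha]
  · have := torus_inf_Kz h hy h.ht
    rw [hKt] at this
    exact this
  · have hB := torus_normalizer_eq h hy h.ht htN
    rw [hKt] at hB
    have hKN : K ≤ Subgroup.normalizer
        ((Subgroup.centralizer ({y} : Set G) : Subgroup G) : Set G) := by
      intro x hx
      -- K = {1, t}
      have hKt2 : Nat.card (Subgroup.zpowers t) = 2 := by rw [Nat.card_zpowers, h.ht]
      have hle : Subgroup.zpowers t ≤ K := by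
        rw [Subgroup.zpowers_le]; exact h.htK
      have heq : Subgroup.zpowers t = K :=
        Subgroup.eq_of_le_of_card_ge hle (by rw [hk2, hKt2])
      rw [← heq] at hx
      obtain ⟨i, rfl⟩ := Subgroup.mem_zpowers_iff.mp hx
      exact Subgroup.zpow_mem _ htN i
    rw [inf_eq_right.mpr hKN] at hB
    exact hB
  · intro X hX hX1
    have e1 := normalizer_sub_K h hX hX1
    have e2 := normalizer_sub_K h (le_refl K) hK1
    refine ⟨e1.trans e2.symm, s, h.hs, h.hsK, h.hinv, ?_⟩
    rw [e2, h.hH]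

-- D14
theorem k2_concl (h : Hyp t K s) (hk2 : Nat.card K = 2) : Concl G := by
  by_cases hR : ∃ y : G, IsTorusElt y
  · exact k2_concl_big h hk2 hR
  · exact k2_concl_small h hk2 hR

end Cfsg.Agent.Lead.Bsw
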