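import Mathlib
import Cfsg.Agent.Lead.BswDefs
import Cfsg.Agent.Lead.BswDefs2
import Cfsg.Agent.Lead.Bsw_A1_12
import Cfsg.Agent.Helper5.Bsw_A13_20
import Cfsg.Agent.Helper5.Bsw_A21_27
import Cfsg.Agent.Helper6.Bsw_A29_30
import Cfsg.Agent.Helper7.Bsw_A31_35
import Cfsg.Agent.Helper7.Bsw_B1_9
import Cfsg.Agent.Helper9.Bsw_B10_17
import Cfsg.Agent.Helper5.Bsw_B18_23
import Cfsg.Agent.Helper3.Bsw_C2_C6
import Cfsg.Agent.Helper6.Bsw_C3
import Cfsg.Agent.Helper2.Bsw_D1_7

/-! S3282 group side, pieces D8–D11 (case `k = 2`), helper2. -/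

set_option autoImplicit false
set_option linter.unusedSectionVars false
set_option linter.unusedVariables false
set_option linter.style.haveILetI false
namespace Cfsg.Agent.Lead.Bsw
variable {G : Type*} [Group G] [Finite G] {t s : G} {K : Subgroup G}

theorem h2_cent_conj_eq_map (g y : G) :
    Subgroup.centralizer ({g * y * g⁻¹} : Set G) =
      (Subgroup.centralizer ({y} : Set G)).map (MulAut.conj g).toMonoidHom := by
  ext x
  rw [Subgroup.mem_map, Subgroup.mem_centralizer_singleton_iff]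
  constructor
  · intro hx
    refine ⟨g⁻¹ * x * g, ?_, ?_⟩
    · rw [Subgroup.mem_centralizer_singleton_iff]
      have h1 : g⁻¹ * x * g * y = g⁻¹ * (x * (g * y * g⁻¹)) * g := by group
      have h2 : y * (g⁻¹ * x * g) = g⁻¹ * ((g * y * g⁻¹) * x) * g := by group
      rw [h1, h2, hx]
    · show g * (g⁻¹ * x * g) * g⁻¹ = x
      group
  · rintro ⟨x', hx', rfl⟩
    rw [Subgroup.mem_centralizer_singleton_iff] at hx'
    show g * x' * g⁻¹ * (g * y * g⁻¹) = g * y * g⁻¹ * (g * x' * g⁻¹)
    have h1 : g * x' * g⁻¹ * (g * y * g⁻¹) = g * (x' * y) * g⁻¹ := by group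
    have h2 : g * y * g⁻¹ * (g * x' * g⁻¹) = g * (y * x') * g⁻¹ := by group
    rw [h1, h2, hx']

theorem h2_mem_normalizer_of_map_eq {A : Subgroup G} {c : G}
    (hmap : A.map (MulAut.conj c).toMonoidHom = A) : c ∈ Subgroup.normalizer (A : Set G) := by
  rw [Subgroup.mem_normalizer_iff]
  intro x
  constructor
  · intro hx
    rw [← hmap]
    exact ⟨x, hx, rfl⟩
  · intro hx
    rw [← hmap] at hx
    obtain ⟨x', hx', hxx⟩ := hx
    have hxx' : c * x' * c⁻¹ = c * x * c⁻¹ := hxx
    have : x' = x := by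
      have := congrArg (fun z => c⁻¹ * z * c) hxx'
      have e1 : c⁻¹ * (c * x' * c⁻¹) * c = x' := by group
      have e2 : c⁻¹ * (c * x * c⁻¹) * c = x := by group
      rw [e1, e2] at this
      exact this
    rw [← this]; exact hx'

theorem h2_mem_cent_self (y : G) : y ∈ Subgroup.centralizer ({y} : Set G) := by
  rw [Subgroup.mem_centralizer_singleton_iff]

-- D8 : the s-conjugate torus is different, also inverted by t
theorem k2_pair (h : Hyp t K s) (hk2 : Nat.card K = 2) {y : G} (hy : IsTorusElt y)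
    (hty : t * y * t⁻¹ = y⁻¹) :
    IsTorusElt (s * y * s⁻¹) ∧ t * (s * y * s⁻¹) * t⁻¹ = (s * y * s⁻¹)⁻¹ ∧
    Subgroup.centralizer ({s * y * s⁻¹} : Set G) ⊓ Subgroup.centralizer ({y} : Set G) = ⊥ := by
  have hst : t * s = s * t := by
    have := h.hsH
    rw [Subgroup.mem_centralizer_singleton_iff] at this
    exact this.symm
  refine ⟨(isTorusElt_conj s y).mpr hy, ?_, ?_⟩
  · have h2 : s⁻¹ * t⁻¹ = t⁻¹ * s⁻¹ := by rw [← mul_inv_rev, ← mul_inv_rev, hst]
    calc t * (s * y * s⁻¹) * t⁻¹ = (t * s) * y * (s⁻¹ * t⁻¹) := by group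
      _ = (s * t) * y * (t⁻¹ * s⁻¹) := by rw [hst, h2]
      _ = s * (t * y * t⁻¹) * s⁻¹ := by group
      _ = s * y⁻¹ * s⁻¹ := by rw [hty]
      _ = (s * y * s⁻¹)⁻¹ := by group
  · by_contra hne
    rw [h2_cent_conj_eq_map, inf_comm] at hne
    have hmap := torus_TI h hy hne
    have hsN := h2_mem_normalizer_of_map_eq hmap
    have htN := inverter_mem_normalizer hty
    have hne_st : s ≠ t := fun e => h.hsK (e ▸ h.htK)
    exact torus_commuting_inv h hy h.ht htN h.hs hne_st hst hsN

open Classical in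
/-- the non-identity elements of the torus of `v`. -/
noncomputable def h2_P (v : G) : Finset G :=
  haveI : Fintype G := Fintype.ofFinite G
  Finset.univ.filter (fun x => x ∈ Subgroup.centralizer ({v} : Set G) ∧ x ≠ 1)

theorem h2_mem_P (v x : G) : x ∈ h2_P v ↔ x ∈ Subgroup.centralizer ({v} : Set G) ∧ x ≠ 1 := by
  unfold h2_P
  simp

theorem h2_card_P (v : G) : (h2_P v).card = Nat.card (Subgroup.centralizer ({v} : Set G)) - 1 := by
  classical
  haveI : Fintype G := Fintype.ofFinite G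
  have h1 : Nat.card (Subgroup.centralizer ({v} : Set G)) =
      (Finset.univ.filter (fun x : G => x ∈ Subgroup.centralizer ({v} : Set G))).card := by
    apply Nat.subtype_card
    intro x
    simp
  have h2 : h2_P v = (Finset.univ.filter (fun x : G => x ∈ Subgroup.centralizer ({v} : Set G))).erase 1 := by
    ext x
    rw [h2_mem_P, Finset.mem_erase, Finset.mem_filter]
    constructor
    · rintro ⟨a, b⟩; exact ⟨b, Finset.mem_univ _, a⟩
    · rintro ⟨b, -, a⟩; exact ⟨a, b⟩
  rw [h2, Finset.card_erase_of_mem, h1]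
  rw [Finset.mem_filter]
  exact ⟨Finset.mem_univ _, Subgroup.one_mem _⟩

open Classical in
/-- the torus elements inverted by `t`. -/
noncomputable def h2_S (t : G) : Finset G :=
  haveI : Fintype G := Fintype.ofFinite G
  Finset.univ.filter (fun y' => IsTorusElt y' ∧ t * y' * t⁻¹ = y'⁻¹)

theorem h2_mem_S (t y' : G) : y' ∈ h2_S t ↔ IsTorusElt y' ∧ t * y' * t⁻¹ = y'⁻¹ := by
  unfold h2_S
  simp

theorem h2_card_S (t : G) :
    (h2_S t).card = Nat.card {y : G // IsTorusElt y ∧ t * y * t⁻¹ = y⁻¹} := by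
  symm
  apply Nat.subtype_card
  intro x
  rw [h2_mem_S]

theorem h2_P_subset_S (h : Hyp t K s) {v : G} (hv : IsTorusElt v) (htv : t * v * t⁻¹ = v⁻¹) :
    h2_P v ⊆ h2_S t := by
  intro x hx
  rw [h2_mem_P] at hx
  rw [h2_mem_S]
  refine ⟨(torus_cent h hv hx.1 hx.2).2, ?_⟩
  exact torus_inverts h hv h.ht (inverter_mem_normalizer htv) x hx.1

theorem h2_P_disjoint (h : Hyp t K s) {v v' : G} (hv : IsTorusElt v) (hv' : IsTorusElt v')
    (hvv' : v ∉ Subgroup.centralizer ({v'} : Set G)) : Disjoint (h2_P v) (h2_P v') := by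
  rw [Finset.disjoint_left]
  intro x hx hx'
  rw [h2_mem_P] at hx hx'
  apply hvv'
  have e1 := (torus_cent h hv hx.1 hx.2).1
  have e2 := (torus_cent h hv' hx'.1 hx'.2).1
  rw [← e2, e1]
  exact h2_mem_cent_self v

theorem h2_conj_mem_cent_iff (c x v : G) :
    c * x * c⁻¹ ∈ Subgroup.centralizer ({c * v * c⁻¹} : Set G) ↔
      x ∈ Subgroup.centralizer ({v} : Set G) := by
  rw [Subgroup.mem_centralizer_singleton_iff, Subgroup.mem_centralizer_singleton_iff]
  have h1 : c * x * c⁻¹ * (c * v * c⁻¹) = c * (x * v) * c⁻¹ := by group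
  have h2 : c * v * c⁻¹ * (c * x * c⁻¹) = c * (v * x) * c⁻¹ := by group
  rw [h1, h2]
  constructor
  · intro e
    have := congrArg (fun z => c⁻¹ * z * c) e
    have e1 : c⁻¹ * (c * (x * v) * c⁻¹) * c = x * v := by group
    have e2 : c⁻¹ * (c * (v * x) * c⁻¹) * c = v * x := by group
    rw [e1, e2] at this
    exact this
  · intro e; rw [e]

-- D9 : a second (smaller) torus
theorem k2_second (h : Hyp t K s) (hk2 : Nat.card K = 2) {y : G} (hy : IsTorusElt y)
    (hty : t * y * t⁻¹ = y⁻¹)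
    (hn : nInv G = 3 * Nat.card (Subgroup.centralizer ({y} : Set G))) :
    ∃ y₁ : G, IsTorusElt y₁ ∧
      2 * (Nat.card (Subgroup.centralizer ({y₁} : Set G)) - 1) ≤
        Nat.card (Subgroup.centralizer ({y} : Set G)) - 1 := by
  classical
  have hss : s * s = 1 := h7_mul_self h.hs
  have hsi : s⁻¹ = s := h7_inv_eq_self h.hs
  obtain ⟨hy', hty', hinf⟩ := k2_pair h hk2 hy hty
  have h3 := torus_card_ge h hy
  have hcS : (h2_S t).card = 3 * Nat.card (Subgroup.centralizer ({y} : Set G)) - 3 := by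
    rw [h2_card_S]
    have := k2_count h hk2
    omega
  have hy1 : y ≠ 1 := hy.1
  -- y ∉ C(y')
  have hyy' : y ∉ Subgroup.centralizer ({s * y * s⁻¹} : Set G) := by
    intro hmem
    have : y ∈ Subgroup.centralizer ({s * y * s⁻¹} : Set G) ⊓ Subgroup.centralizer ({y} : Set G) :=
      ⟨hmem, h2_mem_cent_self y⟩
    rw [hinf, Subgroup.mem_bot] at this
    exact hy1 this
  have hd1 : Disjoint (h2_P y) (h2_P (s * y * s⁻¹)) := h2_P_disjoint h hy hy' hyy'
  have hsub1 : h2_P y ∪ h2_P (s * y * s⁻¹) ⊆ h2_S t :=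
    Finset.union_subset (h2_P_subset_S h hy hty) (h2_P_subset_S h hy' hty')
  have hc1 : (h2_P y ∪ h2_P (s * y * s⁻¹)).card =
      2 * (Nat.card (Subgroup.centralizer ({y} : Set G)) - 1) := by
    rw [Finset.card_union_of_disjoint hd1, h2_card_P, h2_card_P, h7_card_cent_conj]
    ring
  -- a further torus element inverted by t
  obtain ⟨y₁, hy₁S, hy₁n⟩ := Finset.exists_mem_notMem_of_card_lt_card
    (s := h2_P y ∪ h2_P (s * y * s⁻¹)) (t := h2_S t) (by rw [hc1, hcS]; omega)
  rw [h2_mem_S] at hy₁S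
  obtain ⟨hy₁, hty₁⟩ := hy₁S
  rw [Finset.mem_union, not_or, h2_mem_P, h2_mem_P] at hy₁n
  have hy₁1 : y₁ ≠ 1 := hy₁.1
  have hA : y₁ ∉ Subgroup.centralizer ({y} : Set G) := fun hm => hy₁n.1 ⟨hm, hy₁1⟩
  have hA' : y₁ ∉ Subgroup.centralizer ({s * y * s⁻¹} : Set G) := fun hm => hy₁n.2 ⟨hm, hy₁1⟩
  obtain ⟨hy₁', hty₁', hinf₁⟩ := k2_pair h hk2 hy₁ hty₁
  -- s y₁ s⁻¹ ∉ C(y), ∉ C(y')
  have hB : s * y₁ * s⁻¹ ∉ Subgroup.centralizer ({y} : Set G) := by
    intro hm
    apply hA'
    have := (h2_conj_mem_cent_iff s (s * y₁ * s⁻¹) y).mpr hm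
    have e : s * (s * y₁ * s⁻¹) * s⁻¹ = y₁ := by
      rw [hsi]
      calc s * (s * y₁ * s) * s = (s * s) * y₁ * (s * s) := by group
        _ = y₁ := by rw [hss, one_mul, mul_one]
    rw [e] at this
    exact this
  have hB' : s * y₁ * s⁻¹ ∉ Subgroup.centralizer ({s * y * s⁻¹} : Set G) := by
    intro hm
    exact hA ((h2_conj_mem_cent_iff s y₁ y).mp hm)
  have hy₁y₁' : y₁ ∉ Subgroup.centralizer ({s * y₁ * s⁻¹} : Set G) := by
    intro hmem
    have : y₁ ∈ Subgroup.centralizer ({s * y₁ * s⁻¹} : Set G) ⊓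
        Subgroup.centralizer ({y₁} : Set G) := ⟨hmem, h2_mem_cent_self y₁⟩
    rw [hinf₁, Subgroup.mem_bot] at this
    exact hy₁1 this
  -- the four sets
  have d12 := hd1
  have d13 : Disjoint (h2_P y) (h2_P y₁) := (h2_P_disjoint h hy₁ hy hA).symm
  have d14 : Disjoint (h2_P y) (h2_P (s * y₁ * s⁻¹)) := (h2_P_disjoint h hy₁' hy hB).symm
  have d23 : Disjoint (h2_P (s * y * s⁻¹)) (h2_P y₁) := (h2_P_disjoint h hy₁ hy' hA').symm
  have d24 : Disjoint (h2_P (s * y * s⁻¹)) (h2_P (s * y₁ * s⁻¹)) :=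
    (h2_P_disjoint h hy₁' hy' hB').symm
  have d34 : Disjoint (h2_P y₁) (h2_P (s * y₁ * s⁻¹)) := h2_P_disjoint h hy₁ hy₁' hy₁y₁'
  have hsubU : ((h2_P y ∪ h2_P (s * y * s⁻¹)) ∪ h2_P y₁) ∪ h2_P (s * y₁ * s⁻¹) ⊆ h2_S t :=
    Finset.union_subset (Finset.union_subset hsub1 (h2_P_subset_S h hy₁ hty₁))
      (h2_P_subset_S h hy₁' hty₁')
  have hcU : (((h2_P y ∪ h2_P (s * y * s⁻¹)) ∪ h2_P y₁) ∪ h2_P (s * y₁ * s⁻¹)).card =
      2 * (Nat.card (Subgroup.centralizer ({y} : Set G)) - 1) +
      2 * (Nat.card (Subgroup.centralizer ({y₁} : Set G)) - 1) := by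
    rw [Finset.card_union_of_disjoint, Finset.card_union_of_disjoint, hc1, h2_card_P, h2_card_P,
      h7_card_cent_conj]
    · ring
    · rw [Finset.disjoint_union_left]; exact ⟨d13, d23⟩
    · rw [Finset.disjoint_union_left, Finset.disjoint_union_left]; exact ⟨⟨d14, d24⟩, d34⟩
  have hle := Finset.card_le_card hsubU
  rw [hcU, hcS] at hle
  exact ⟨y₁, hy₁, by omega⟩

/-- lower bound for the number of torus elements of a given torus order. -/
theorem h2_lower_one (h : Hyp t K s) (hk2 : Nat.card K = 2) {y : G} (hy : IsTorusElt y) :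
    Nat.card G * (Nat.card (Subgroup.centralizer ({y} : Set G)) - 1) ≤
      2 * Nat.card (Subgroup.centralizer ({y} : Set G)) *
        Nat.card {y' : G // IsTorusElt y' ∧ Nat.card (Subgroup.centralizer ({y'} : Set G)) =
          Nat.card (Subgroup.centralizer ({y} : Set G))} := by
  classical
  haveI : Fintype G := Fintype.ofFinite G
  obtain ⟨T, hT⟩ : ∃ T : Finset G, T = Finset.univ.filter (fun y' : G => IsTorusElt y' ∧
      Nat.card (Subgroup.centralizer ({y'} : Set G)) =
        Nat.card (Subgroup.centralizer ({y} : Set G))) := ⟨_, rfl⟩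
  have hTcard : T.card = Nat.card {y' : G // IsTorusElt y' ∧
      Nat.card (Subgroup.centralizer ({y'} : Set G)) =
        Nat.card (Subgroup.centralizer ({y} : Set G))} := by
    symm
    apply Nat.subtype_card
    intro x
    rw [hT]; simp
  obtain ⟨NA, hNA⟩ : ∃ NA : Finset G, NA = Finset.univ.filter (fun x : G => x ∈
      Subgroup.normalizer ((Subgroup.centralizer ({y} : Set G) : Subgroup G) : Set G)) := ⟨_, rfl⟩
  have hNAcard : NA.card = 2 * Nat.card (Subgroup.centralizer ({y} : Set G)) := by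
    rw [← k2_normalizer_card h hk2 hy]
    symm
    apply Nat.subtype_card
    intro x
    rw [hNA]; simp
  have key := Finset.card_le_mul_card_image_of_maps_to
    (s := (Finset.univ : Finset G) ×ˢ h2_P y) (t := T)
    (f := fun p : G × G => p.1 * p.2 * p.1⁻¹) ?_ (2 * Nat.card (Subgroup.centralizer ({y} : Set G))) ?_
  · rw [Finset.card_product, Finset.card_univ, h2_card_P, ← Nat.card_eq_fintype_card, hTcard] at key
    exact key
  · rintro ⟨g, x⟩ hp
    rw [Finset.mem_product, h2_mem_P] at hp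
    obtain ⟨-, hxA, hx1⟩ := hp
    obtain ⟨hcx, hxT⟩ := torus_cent h hy hxA hx1
    rw [hT, Finset.mem_filter]
    refine ⟨Finset.mem_univ _, (isTorusElt_conj g x).mpr hxT, ?_⟩
    show Nat.card (Subgroup.centralizer ({g * x * g⁻¹} : Set G)) = _
    rw [h7_card_cent_conj, hcx]
  · intro b _
    by_cases hemp : (Finset.filter (fun p : G × G => p.1 * p.2 * p.1⁻¹ = b)
        ((Finset.univ : Finset G) ×ˢ h2_P y)) = ∅
    · rw [hemp, Finset.card_empty]; exact Nat.zero_le _
    · obtain ⟨⟨g₀, x₀⟩, hp₀⟩ := Finset.nonempty_iff_ne_empty.mpr hemp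
      rw [Finset.mem_filter, Finset.mem_product, h2_mem_P] at hp₀
      obtain ⟨⟨-, hx₀A, hx₀1⟩, hb₀⟩ := hp₀
      simp only at hb₀
      rw [← hNAcard]
      apply Finset.card_le_card_of_injOn (fun p : G × G => g₀⁻¹ * p.1)
      · rintro ⟨g', x'⟩ hp
        rw [Finset.mem_coe, Finset.mem_filter, Finset.mem_product, h2_mem_P] at hp
        obtain ⟨⟨-, hx'A, hx'1⟩, hb'⟩ := hp
        simp only at hb'
        rw [Finset.mem_coe, hNA, Finset.mem_filter]
        refine ⟨Finset.mem_univ _, ?_⟩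
        show g₀⁻¹ * g' ∈ _
        apply h2_mem_normalizer_of_map_eq
        apply torus_TI h hy
        intro hbot
        have hx₀eq : x₀ = (g₀⁻¹ * g') * x' * (g₀⁻¹ * g')⁻¹ := by
          have e1 : (g₀⁻¹ * g') * x' * (g₀⁻¹ * g')⁻¹ = g₀⁻¹ * (g' * x' * g'⁻¹) * g₀ := by group
          rw [e1, hb', ← hb₀]
          group
        have : x₀ ∈ Subgroup.centralizer ({y} : Set G) ⊓
            (Subgroup.centralizer ({y} : Set G)).map (MulAut.conj (g₀⁻¹ * g')).toMonoidHom := by
          refine ⟨hx₀A, ?_⟩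
          rw [hx₀eq]
          exact ⟨x', hx'A, rfl⟩
        rw [hbot, Subgroup.mem_bot] at this
        exact hx₀1 this
      · rintro ⟨g', x'⟩ hp ⟨g'', x''⟩ hq hpq
        rw [Finset.mem_coe, Finset.mem_filter] at hp hq
        simp only at hpq
        have hg : g' = g'' := mul_left_cancel hpq
        have hb' := hp.2
        have hb'' := hq.2
        simp only at hb' hb''
        subst hg
        have hx : x' = x'' := by
          have e : g' * x' * g'⁻¹ = g' * x'' * g'⁻¹ := by rw [hb', hb'']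
          have := congrArg (fun z => g'⁻¹ * z * g') e
          have e1 : g'⁻¹ * (g' * x' * g'⁻¹) * g' = x' := by group
          have e2 : g'⁻¹ * (g' * x'' * g'⁻¹) * g' = x'' := by group
          rw [e1, e2] at this
          exact this
        rw [hx]

-- D10 : lower bound for the number of torus elements from two tori of different orders
theorem k2_lower (h : Hyp t K s) (hk2 : Nat.card K = 2) {y y₁ : G} (hy : IsTorusElt y)
    (hy₁ : IsTorusElt y₁)
    (hlt : Nat.card (Subgroup.centralizer ({y₁} : Set G)) <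
      Nat.card (Subgroup.centralizer ({y} : Set G))) :
    Nat.card G * (Nat.card (Subgroup.centralizer ({y} : Set G)) - 1) *
        Nat.card (Subgroup.centralizer ({y₁} : Set G)) +
    Nat.card G * (Nat.card (Subgroup.centralizer ({y₁} : Set G)) - 1) *
        Nat.card (Subgroup.centralizer ({y} : Set G)) ≤
      Nat.card {y' : G // IsTorusElt y'} * (2 * Nat.card (Subgroup.centralizer ({y} : Set G)) *
        Nat.card (Subgroup.centralizer ({y₁} : Set G))) := by
  classical
  haveI : Fintype G := Fintype.ofFinite G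
  have e1 := h2_lower_one h hk2 hy
  have e2 := h2_lower_one h hk2 hy₁
  have e3 : Nat.card {y' : G // IsTorusElt y' ∧ Nat.card (Subgroup.centralizer ({y'} : Set G)) =
        Nat.card (Subgroup.centralizer ({y} : Set G))} +
      Nat.card {y' : G // IsTorusElt y' ∧ Nat.card (Subgroup.centralizer ({y'} : Set G)) =
        Nat.card (Subgroup.centralizer ({y₁} : Set G))} ≤ Nat.card {y' : G // IsTorusElt y'} := by
    have c1 : Nat.card {y' : G // IsTorusElt y' ∧ Nat.card (Subgroup.centralizer ({y'} : Set G)) =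
        Nat.card (Subgroup.centralizer ({y} : Set G))} =
        (Finset.univ.filter (fun y' : G => IsTorusElt y' ∧
          Nat.card (Subgroup.centralizer ({y'} : Set G)) =
            Nat.card (Subgroup.centralizer ({y} : Set G)))).card := by
      apply Nat.subtype_card; intro x; simp
    have c2 : Nat.card {y' : G // IsTorusElt y' ∧ Nat.card (Subgroup.centralizer ({y'} : Set G)) =
        Nat.card (Subgroup.centralizer ({y₁} : Set G))} =
        (Finset.univ.filter (fun y' : G => IsTorusElt y' ∧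
          Nat.card (Subgroup.centralizer ({y'} : Set G)) =
            Nat.card (Subgroup.centralizer ({y₁} : Set G)))).card := by
      apply Nat.subtype_card; intro x; simp
    have c3 : Nat.card {y' : G // IsTorusElt y'} =
        (Finset.univ.filter (fun y' : G => IsTorusElt y')).card := by
      apply Nat.subtype_card; intro x; simp
    rw [c1, c2, c3, ← Finset.card_union_of_disjoint]
    · apply Finset.card_le_card
      intro x hx
      rw [Finset.mem_union, Finset.mem_filter, Finset.mem_filter] at hx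
      rw [Finset.mem_filter]
      rcases hx with hx | hx
      · exact ⟨Finset.mem_univ _, hx.2.1⟩
      · exact ⟨Finset.mem_univ _, hx.2.1⟩
    · rw [Finset.disjoint_left]
      intro x hx hx'
      rw [Finset.mem_filter] at hx hx'
      have := hx.2.2.symm.trans hx'.2.2
      omega
  generalize Nat.card {y' : G // IsTorusElt y' ∧ Nat.card (Subgroup.centralizer ({y'} : Set G)) =
        Nat.card (Subgroup.centralizer ({y} : Set G))} = Ra at *
  generalize Nat.card {y' : G // IsTorusElt y' ∧ Nat.card (Subgroup.centralizer ({y'} : Set G)) =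
        Nat.card (Subgroup.centralizer ({y₁} : Set G))} = Rb at *
  generalize Nat.card {y' : G // IsTorusElt y'} = R at *
  generalize Nat.card (Subgroup.centralizer ({y} : Set G)) = a at *
  generalize Nat.card (Subgroup.centralizer ({y₁} : Set G)) = b at *
  generalize Nat.card G = N at *
  have f1 := Nat.mul_le_mul_right b e1
  have f2 := Nat.mul_le_mul_right a e2
  have f3 := Nat.mul_le_mul_left (2 * a * b) e3
  nlinarith [f1, f2, f3]

-- D11 (pure arithmetic)
theorem k2_arith (n a b R : ℕ) (ha : 3 ≤ a) (hb : 3 ≤ b) (hao : Odd a) (hbo : Odd b) (hn : n = 3 * a)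
    (h1 : 2 * (b - 1) ≤ a - 1) (hR : R + 1 ≤ 3 * n)
    (h2 : 4 * n * (a - 1) * b + 4 * n * (b - 1) * a ≤ R * (2 * a * b)) : a = 5 ∧ b = 3 := by
  obtain ⟨a', rfl⟩ : ∃ a', a = a' + 1 := ⟨a - 1, by omega⟩
  obtain ⟨b', rfl⟩ : ∃ b', b = b' + 1 := ⟨b - 1, by omega⟩
  simp only [Nat.add_sub_cancel] at h1 h2
  subst hn
  -- (a-2)(b-2) < 4
  have key : (a' + 1) * (b' + 1) < 2 * (a' + 1) + 2 * (b' + 1) := by
    by_contra hcon
    have hcon := not_lt.mp hcon
    have hR' : R * (2 * (a' + 1) * (b' + 1)) < 3 * (3 * (a' + 1)) * (2 * (a' + 1) * (b' + 1)) := by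
      apply Nat.mul_lt_mul_of_pos_right
      · omega
      · positivity
    nlinarith [h2, hR', hcon]
  have hb3 : b' ≤ 2 := by
    by_contra hcon
    have hcon := not_le.mp hcon
    nlinarith [key, h1, hcon]
  have ha5 : a' ≤ 8 := by
    nlinarith [key, hb]
  obtain ⟨c, hc⟩ := hao
  obtain ⟨d, hd⟩ := hbo
  interval_cases b' <;> interval_cases a' <;> omega

end Cfsg.Agent.Lead.Bsw
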