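import Mathlib

set_option autoImplicit false

namespace Cfsg.Agent.Helper2.BurnsidePrime

open Polynomial

section PolyShift

variable {K : Type*} [Field K]

/-- Coefficient of `q(X+β)` at `m` when `natDegree q ≤ m + 1`. -/
theorem coeff_comp_shift (β : K) (m : ℕ) (q : K[X]) (hq : q.natDegree ≤ m + 1) :
    (q.comp (X + C β)).coeff m = q.coeff m + ((m : K) + 1) * β * q.coeff (m + 1) := by
  rw [← taylor_apply, taylor_coeff]
  have h1 : (hasseDeriv m q).natDegree < 2 := by
    have := natDegree_hasseDeriv_le q m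
    omega
  rw [eval_eq_sum_range' h1, Finset.sum_range_succ, Finset.sum_range_one]
  simp only [hasseDeriv_coeff, pow_zero, mul_one, zero_add, pow_one, Nat.choose_self, Nat.cast_one,
    one_mul]
  have h2 : (1 + m).choose m = m + 1 := by
    rw [add_comm, Nat.choose_succ_self_right]
  rw [h2, add_comm 1 m]
  push_cast
  ring

/-- The shifted difference has smaller degree. -/
theorem coeff_comp_shift_sub_of_le (β : K) (q : K[X]) (n : ℕ) (hn : q.natDegree ≤ n) :
    (q.comp (X + C β) - q).coeff n = 0 := by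
  rw [coeff_sub]
  rcases hn.lt_or_eq with h | h
  · rw [coeff_eq_zero_of_natDegree_lt h, coeff_eq_zero_of_natDegree_lt, sub_zero]
    rw [← taylor_apply, natDegree_taylor]; exact h
  · have h1 : (q.comp (X + C β)).coeff n = (q.comp (X + C β)).leadingCoeff := by
      rw [← taylor_apply, leadingCoeff, natDegree_taylor, h]
    rw [h1, ← taylor_apply, leadingCoeff_taylor, leadingCoeff, h, sub_self]

/-- The operator `q ↦ ∑ β ∈ B, (q(X + v β) - q)`. -/
noncomputable def shiftSum {I : Type*} (B : Finset I) (v : I → K) : K[X] →ₗ[K] K[X] :=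
  ∑ β ∈ B, (taylor (v β) - LinearMap.id)

theorem shiftSum_apply {I : Type*} (B : Finset I) (v : I → K) (q : K[X]) :
    shiftSum B v q = ∑ β ∈ B, (q.comp (X + C (v β)) - q) := by
  unfold shiftSum
  rw [LinearMap.sum_apply]
  rfl

theorem coeff_shiftSum_of_le {I : Type*} (B : Finset I) (v : I → K) (q : K[X]) (n : ℕ)
    (hn : q.natDegree ≤ n) : (shiftSum B v q).coeff n = 0 := by
  rw [shiftSum_apply, finset_sum_coeff]
  exact Finset.sum_eq_zero fun β _ => coeff_comp_shift_sub_of_le (v β) q n hn

theorem natDegree_shiftSum_le {I : Type*} (B : Finset I) (v : I → K) (q : K[X]) (n : ℕ)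
    (hn : q.natDegree ≤ n + 1) : (shiftSum B v q).natDegree ≤ n := by
  rw [natDegree_le_iff_coeff_eq_zero]
  intro N hN
  exact coeff_shiftSum_of_le B v q N (by omega)

theorem shiftSum_eq_zero_of_natDegree_eq_zero {I : Type*} (B : Finset I) (v : I → K) (q : K[X])
    (hq : q.natDegree = 0) : shiftSum B v q = 0 := by
  ext n
  rw [coeff_zero]
  exact coeff_shiftSum_of_le B v q n (by omega)

theorem coeff_shiftSum {I : Type*} (B : Finset I) (v : I → K) (q : K[X]) (m : ℕ)
    (hq : q.natDegree ≤ m + 1) :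
    (shiftSum B v q).coeff m = ((m : K) + 1) * (∑ β ∈ B, v β) * q.coeff (m + 1) := by
  rw [shiftSum_apply, finset_sum_coeff]
  simp only [coeff_sub]
  rw [Finset.mul_sum, Finset.sum_mul]
  refine Finset.sum_congr rfl fun β _ => ?_
  rw [coeff_comp_shift (v β) m q hq]
  ring

theorem shiftSum_exact {I : Type*} (B : Finset I) (v : I → K) (p : ℕ) [CharP K p]
    (hs : ∑ β ∈ B, v β ≠ 0) (q : K[X]) (m : ℕ) (hq : q.natDegree = m + 1) (hm : m + 1 < p) :
    shiftSum B v q ≠ 0 ∧ (shiftSum B v q).natDegree = m := by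
  have h1 : (shiftSum B v q).coeff m ≠ 0 := by
    rw [coeff_shiftSum B v q m hq.le]
    have h2 : ((m : K) + 1) ≠ 0 := by
      have : ((m + 1 : ℕ) : K) ≠ 0 := by
        rw [Ne, CharP.cast_eq_zero_iff K p]
        intro h
        have := Nat.le_of_dvd (Nat.succ_pos m) h
        omega
      simpa using this
    have h3 : q.coeff (m + 1) ≠ 0 := by
      rw [← hq]
      intro h
      have : q = 0 := leadingCoeff_eq_zero.1 h
      rw [this, natDegree_zero] at hq
      omega
    exact mul_ne_zero (mul_ne_zero h2 hs) h3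
  refine ⟨fun h => h1 (by rw [h, coeff_zero]), le_antisymm ?_ ?_⟩
  · exact natDegree_shiftSum_le B v q m hq.le
  · exact le_natDegree_of_ne_zero h1

end PolyShift

end Cfsg.Agent.Helper2.BurnsidePrime
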