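import Mathlib
import Cfsg.Agent.Helper2.BurnsidePrimePoly

set_option autoImplicit false

namespace Cfsg.Agent.Helper2.BurnsidePrime

open Polynomial

section Fun

variable {p : ℕ} [hp : Fact p.Prime] {α : Type*} [Fintype α]

/-- The coordinate function `α → K` attached to a bijection `α ≃ ZMod p`. -/
noncomputable def coord (K : Type*) [Field K] [CharP K p] (e : α ≃ ZMod p) (x : α) : K :=
  ZMod.castHom (dvd_refl p) K (e x)

/-- Polynomial functions on `α`. -/
noncomputable def evL (K : Type*) [Field K] [CharP K p] (e : α ≃ ZMod p) :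
    K[X] →ₗ[K] (α → K) where
  toFun q := fun x => q.eval (coord K e x)
  map_add' q r := by ext x; simp
  map_smul' a q := by ext x; simp

/-- Functions of degree at most `d`. -/
noncomputable def P (K : Type*) [Field K] [CharP K p] (e : α ≃ ZMod p) (d : ℕ) :
    Submodule K (α → K) :=
  (degreeLE K (d : WithBot ℕ)).map (evL K e)

variable {K : Type*} [Field K] [CharP K p] (e : α ≃ ZMod p)

theorem evL_apply (q : K[X]) (x : α) : evL K e q x = q.eval (coord K e x) := rfl

theorem mem_P {d : ℕ} {f : α → K} :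
    f ∈ P K e d ↔ ∃ q : K[X], q.natDegree ≤ d ∧ evL K e q = f := by
  unfold P
  rw [Submodule.mem_map]
  constructor
  · rintro ⟨q, hq, rfl⟩
    exact ⟨q, natDegree_le_iff_degree_le.2 (mem_degreeLE.1 hq), rfl⟩
  · rintro ⟨q, hq, rfl⟩
    exact ⟨q, mem_degreeLE.2 (natDegree_le_iff_degree_le.1 hq), rfl⟩

theorem evL_mem_P {d : ℕ} {q : K[X]} (hq : q.natDegree ≤ d) : evL K e q ∈ P K e d :=
  (mem_P e).2 ⟨q, hq, rfl⟩

theorem P_mono {d d' : ℕ} (h : d ≤ d') : P K e d ≤ P K e d' := by
  intro f hf
  obtain ⟨q, hq, rfl⟩ := (mem_P e).1 hf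
  exact evL_mem_P e (hq.trans h)

theorem coord_injective : Function.Injective (coord K e) := by
  intro x y h
  unfold coord at h
  exact e.injective ((ZMod.castHom (dvd_refl p) K).injective h)

omit [Fintype α] in
theorem coord_symm_add (x : α) (β : ZMod p) :
    coord K e (e.symm (e x + β)) = coord K e x + ZMod.castHom (dvd_refl p) K β := by
  unfold coord
  rw [Equiv.apply_symm_apply, map_add]

include e in
theorem card_eq : Fintype.card α = p := by
  rw [Fintype.card_congr e, ZMod.card]

theorem exists_poly (f : α → K) : ∃ q : K[X], q.natDegree < p ∧ evL K e q = f := by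
  classical
  have hinj : Set.InjOn (coord K e) (Finset.univ : Finset α) :=
    fun x _ y _ h => coord_injective e h
  refine ⟨Lagrange.interpolate Finset.univ (coord K e) f, ?_, ?_⟩
  · have h1 := Lagrange.degree_interpolate_lt (r := f) hinj
    rw [Finset.card_univ, card_eq e] at h1
    by_cases h0 : Lagrange.interpolate Finset.univ (coord K e) f = 0
    · rw [h0, natDegree_zero]; exact hp.out.pos
    · exact (natDegree_lt_iff_degree_lt h0).2 h1
  · ext x
    rw [evL_apply]
    exact Lagrange.eval_interpolate_at_node f hinj (Finset.mem_univ x)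

theorem eq_zero_of_evL {q : K[X]} (hq : q.natDegree < p) (h : evL K e q = 0) : q = 0 := by
  classical
  have hinj : Set.InjOn (coord K e) (Finset.univ : Finset α) :=
    fun x _ y _ h => coord_injective e h
  refine Polynomial.eq_zero_of_degree_lt_of_eval_index_eq_zero (v := coord K e) Finset.univ hinj
    ?_ ?_
  · rw [Finset.card_univ, card_eq e]
    exact lt_of_le_of_lt degree_le_natDegree (by exact_mod_cast hq)
  · intro x _
    have := congrFun h x
    rwa [evL_apply] at this

theorem evL_injOn {q r : K[X]} (hq : q.natDegree < p) (hr : r.natDegree < p)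
    (h : evL K e q = evL K e r) : q = r := by
  have h1 : (q - r).natDegree < p :=
    lt_of_le_of_lt (natDegree_sub_le q r) (max_lt hq hr)
  have h2 : evL K e (q - r) = 0 := by rw [map_sub, h, sub_self]
  exact sub_eq_zero.1 (eq_zero_of_evL e h1 h2)

theorem evL_mem_P_iff {d : ℕ} (hd : d < p) {q : K[X]} (hq : q.natDegree < p) :
    evL K e q ∈ P K e d ↔ q.natDegree ≤ d := by
  constructor
  · intro h
    obtain ⟨r, hr, hrq⟩ := (mem_P e).1 h
    have := evL_injOn e (lt_of_le_of_lt hr hd) hq hrq
    rw [← this]; exact hr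
  · exact evL_mem_P e

theorem P_le_iff {d d' : ℕ} (hd : d < p) (hd' : d' < p) : P K e d ≤ P K e d' ↔ d ≤ d' := by
  constructor
  · intro h
    have h1 : evL K e (X ^ d) ∈ P K e d := evL_mem_P e (by rw [natDegree_X_pow])
    have h2 := h h1
    rw [evL_mem_P_iff e hd' (by rw [natDegree_X_pow]; exact hd), natDegree_X_pow] at h2
    exact h2
  · exact P_mono e

theorem P_zero : P K e 0 = Submodule.span K {fun _ => (1 : K)} := by
  ext f
  rw [mem_P, Submodule.mem_span_singleton]
  constructor
  · rintro ⟨q, hq, rfl⟩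
    rw [eq_C_of_natDegree_le_zero hq]
    refine ⟨q.coeff 0, ?_⟩
    ext x
    simp [evL_apply]
  · rintro ⟨a, rfl⟩
    refine ⟨C a, by simp, ?_⟩
    ext x
    simp [evL_apply]

theorem sum_zmod_pow (m : ℕ) (hm : m < p) :
    ∑ i : ZMod p, i ^ m = if m = p - 1 then -1 else 0 := by
  have hp1 : 1 < p := hp.out.one_lt
  split_ifs with h
  · have h1 : ∀ i : ZMod p, i ^ m = if i = 0 then 0 else 1 := by
      intro i
      split_ifs with hi
      · rw [hi, zero_pow (by omega)]
      · rw [h]; exact ZMod.pow_card_sub_one_eq_one hi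
    simp_rw [h1]
    rw [Finset.sum_ite, Finset.sum_const_zero, zero_add, Finset.sum_const, nsmul_one,
      Finset.filter_ne', Finset.card_erase_of_mem (Finset.mem_univ _), Finset.card_univ, ZMod.card,
      Nat.cast_sub hp1.le, ZMod.natCast_self]
    simp
  · exact FiniteField.sum_pow_lt_card_sub_one (ZMod p) m (by rw [ZMod.card]; omega)

theorem sum_coord_pow (m : ℕ) (hm : m < p) :
    ∑ x, (coord K e x) ^ m = if m = p - 1 then -1 else 0 := by
  unfold coord
  rw [Equiv.sum_comp e (fun i => (ZMod.castHom (dvd_refl p) K i) ^ m)]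
  simp_rw [← map_pow]
  rw [← map_sum, sum_zmod_pow m hm]
  split_ifs <;> simp

theorem sum_evL {q : K[X]} (hq : q.natDegree < p) :
    ∑ x, evL K e q x = - q.coeff (p - 1) := by
  have hp1 : 1 < p := hp.out.one_lt
  simp_rw [evL_apply, eval_eq_sum_range' hq]
  rw [Finset.sum_comm]
  simp_rw [← Finset.mul_sum]
  rw [Finset.sum_eq_single (p - 1)]
  · rw [sum_coord_pow e (p - 1) (by omega), if_pos rfl, mul_neg, mul_one]
  · intro m hm hm'
    rw [sum_coord_pow e m (Finset.mem_range.1 hm), if_neg hm', mul_zero]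
  · intro h
    exact absurd (Finset.mem_range.2 (by omega)) h

theorem mem_P_sumzero {f : α → K} : f ∈ P K e (p - 2) ↔ ∑ x, f x = 0 := by
  have hp1 : 1 < p := hp.out.one_lt
  constructor
  · intro hf
    obtain ⟨q, hq, rfl⟩ := (mem_P e).1 hf
    rw [sum_evL e (by omega), coeff_eq_zero_of_natDegree_lt (by omega), neg_zero]
  · intro hf
    obtain ⟨q, hq, rfl⟩ := exists_poly e f
    rw [sum_evL e hq, neg_eq_zero] at hf
    refine evL_mem_P e ?_
    rw [natDegree_le_iff_coeff_eq_zero]
    intro N hN
    rcases (show N = p - 1 ∨ p ≤ N by omega) with h | h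
    · rw [h]; exact hf
    · exact coeff_eq_zero_of_natDegree_lt (by omega)

/-- Duality: `P (p-2-d)` is the orthogonal complement of `P d`. -/
theorem mem_P_dual {d : ℕ} (hd : d + 2 ≤ p) {h : α → K} :
    h ∈ P K e (p - 2 - d) ↔ ∀ f ∈ P K e d, ∑ x, f x * h x = 0 := by
  constructor
  · intro hh f hf
    obtain ⟨r, hr, rfl⟩ := (mem_P e).1 hh
    obtain ⟨q, hq, rfl⟩ := (mem_P e).1 hf
    have h1 : (q * r).natDegree ≤ p - 2 := le_trans natDegree_mul_le (by omega)
    have h2 : ∀ x, evL K e q x * evL K e r x = evL K e (q * r) x := by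
      intro x; simp only [evL_apply, eval_mul]
    simp_rw [h2]
    rw [sum_evL e (by omega), coeff_eq_zero_of_natDegree_lt (by omega), neg_zero]
  · intro hh
    obtain ⟨r, hr, rfl⟩ := exists_poly e h
    refine evL_mem_P e ?_
    by_contra hcon
    have hr0 : r ≠ 0 := by
      rintro rfl
      rw [natDegree_zero] at hcon
      omega
    have h1 := hh (evL K e (X ^ (p - 1 - r.natDegree)))
      (evL_mem_P e (by rw [natDegree_X_pow]; omega))
    have h2 : ∀ x, evL K e (X ^ (p - 1 - r.natDegree)) x * evL K e r x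
        = evL K e (X ^ (p - 1 - r.natDegree) * r) x := by
      intro x; simp only [evL_apply, eval_mul]
    simp_rw [h2] at h1
    have h3 : (X ^ (p - 1 - r.natDegree) * r).natDegree = p - 1 := by
      rw [natDegree_X_pow_mul _ hr0]; omega
    rw [sum_evL e (by omega), neg_eq_zero] at h1
    have h4 : (X ^ (p - 1 - r.natDegree) * r).coeff (r.natDegree + (p - 1 - r.natDegree))
        = r.coeff r.natDegree := coeff_X_pow_mul r _ _
    rw [show r.natDegree + (p - 1 - r.natDegree) = p - 1 by omega, h1] at h4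
    exact hr0 (leadingCoeff_eq_zero.1 h4.symm)

/-- The operator `u ↦ (x ↦ ∑ β ∈ B, (u (x + β) - u x))`. -/
noncomputable def phi (K : Type*) [Field K] [CharP K p] (e : α ≃ ZMod p) (B : Finset (ZMod p)) :
    (α → K) →ₗ[K] (α → K) where
  toFun u := fun x => ∑ β ∈ B, (u (e.symm (e x + β)) - u x)
  map_add' u v := by
    ext x
    simp only [Pi.add_apply]
    rw [← Finset.sum_add_distrib]
    exact Finset.sum_congr rfl fun β _ => by ring
  map_smul' a u := by
    ext x
    simp only [Pi.smul_apply, smul_eq_mul, RingHom.id_apply]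
    rw [Finset.mul_sum]
    exact Finset.sum_congr rfl fun β _ => by ring

theorem phi_apply (B : Finset (ZMod p)) (u : α → K) (x : α) :
    phi K e B u x = ∑ β ∈ B, (u (e.symm (e x + β)) - u x) := rfl

theorem phi_evL (B : Finset (ZMod p)) (q : K[X]) :
    phi K e B (evL K e q) = evL K e (shiftSum B (ZMod.castHom (dvd_refl p) K) q) := by
  ext x
  rw [phi_apply, shiftSum_apply]
  simp only [evL_apply, eval_finset_sum, eval_sub, eval_comp, eval_add, eval_X, eval_C,
    coord_symm_add]

end Fun

end Cfsg.Agent.Helper2.BurnsidePrime
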