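import Mathlib
import Cfsg.Agent.Helper2.BurnsidePrimeFun

set_option autoImplicit false

namespace Cfsg.Agent.Helper2.BurnsidePrime

open Polynomial

section Inv

variable {p : ℕ} [hp : Fact p.Prime] {α : Type*} [Fintype α]
variable {K : Type*} [Field K] [CharP K p] (e : α ≃ ZMod p)

theorem phi_one_apply (u : α → K) (x : α) :
    phi K e {1} u x = u (e.symm (e x + 1)) - u x := by
  rw [phi_apply, Finset.sum_singleton]

theorem phi_one_mem (W : Submodule K (α → K))
    (hW : ∀ f ∈ W, (fun x => f (e.symm (e x + 1))) ∈ W) (u : α → K) (hu : u ∈ W) :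
    phi K e {1} u ∈ W := by
  have : phi K e {1} u = (fun x => u (e.symm (e x + 1))) - u := by
    ext x; rw [phi_one_apply]; rfl
  rw [this]
  exact W.sub_mem (hW u hu) hu

/-- A nonzero subspace invariant under the shift is one of the `P d`. -/
theorem eq_P_of_shift_invariant (W : Submodule K (α → K))
    (hW : ∀ f ∈ W, (fun x => f (e.symm (e x + 1))) ∈ W) (hne : W ≠ ⊥) :
    ∃ d, d < p ∧ W = P K e d := by
  have hp1 : 1 < p := hp.out.one_lt
  let D : Set ℕ := {n | ∃ q : K[X], q ≠ 0 ∧ q.natDegree < p ∧ evL K e q ∈ W ∧ q.natDegree = n}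
  have hDne : D.Nonempty := by
    obtain ⟨f, hf, hf0⟩ := Submodule.exists_mem_ne_zero_of_ne_bot hne
    obtain ⟨q, hq, rfl⟩ := exists_poly e f
    refine ⟨q.natDegree, q, ?_, hq, hf, rfl⟩
    rintro rfl; exact hf0 (map_zero _)
  have hDb : BddAbove D := ⟨p, fun n ⟨q, _, hq, _, hn⟩ => hn ▸ hq.le⟩
  obtain ⟨q₀, hq₀0, hq₀p, hq₀W, hq₀d⟩ := Nat.sSup_mem hDne hDb
  have hmax : ∀ n ∈ D, n ≤ sSup D := fun n hn => le_csSup hDb hn
  generalize sSup D = d at hq₀d hmax
  have hdp : d < p := hq₀d ▸ hq₀p
  refine ⟨d, hdp, ?_⟩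
  have hs1 : ∑ β ∈ ({1} : Finset (ZMod p)), (ZMod.castHom (dvd_refl p) K) β ≠ 0 := by
    rw [Finset.sum_singleton, map_one]; exact one_ne_zero
  have key : ∀ k, k ≤ d → ∃ q : K[X], q ≠ 0 ∧ q.natDegree = d - k ∧ evL K e q ∈ W := by
    intro k
    induction k with
    | zero => intro _; exact ⟨q₀, hq₀0, by simpa using hq₀d, hq₀W⟩
    | succ k ih =>
      intro hk
      obtain ⟨q, hq0, hqd, hqW⟩ := ih (by omega)
      have hex := shiftSum_exact ({1} : Finset (ZMod p)) (ZMod.castHom (dvd_refl p) K) p hs1 q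
        (d - (k + 1)) (by omega) (by omega)
      refine ⟨shiftSum {1} (ZMod.castHom (dvd_refl p) K) q, hex.1, hex.2, ?_⟩
      rw [← phi_evL]
      exact phi_one_mem e W hW _ hqW
  apply le_antisymm
  · intro f hf
    obtain ⟨q, hq, rfl⟩ := exists_poly e f
    by_cases h0 : q = 0
    · subst h0; rw [map_zero]; exact Submodule.zero_mem _
    · exact evL_mem_P e (hmax _ ⟨q, h0, hq, hf, rfl⟩)
  · have main : ∀ n, n ≤ d + 1 → ∀ r : K[X], r.degree < n → evL K e r ∈ W := by
      intro n
      induction n with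
      | zero =>
        intro _ r hr
        have : r = 0 := by
          rw [← degree_eq_bot]
          have : r.degree < (0 : ℕ) := hr
          rw [Nat.cast_zero] at this
          exact Nat.WithBot.lt_zero_iff.1 this
        rw [this, map_zero]; exact Submodule.zero_mem _
      | succ n ih =>
        intro hn r hr
        obtain ⟨q, hq0, hqd, hqW⟩ := key (d - n) (by omega)
        have hqn : q.natDegree = n := by omega
        have hlc : q.coeff n ≠ 0 := by
          rw [← hqn]; exact fun h => hq0 (leadingCoeff_eq_zero.1 h)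
        have h1 : (r - C (r.coeff n / q.coeff n) * q).degree < n := by
          rw [degree_lt_iff_coeff_zero]
          intro m hm
          rw [coeff_sub, coeff_C_mul]
          rcases hm.lt_or_eq with h | h
          · have e1 : r.coeff m = 0 :=
              coeff_eq_zero_of_degree_lt (lt_of_lt_of_le hr (by exact_mod_cast h))
            have e2 : q.coeff m = 0 := coeff_eq_zero_of_natDegree_lt (by omega)
            rw [e1, e2, mul_zero, sub_zero]
          · rw [← h]; field_simp; ring
        have h2 := ih (by omega) _ h1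
        have h3 : evL K e r = evL K e (r - C (r.coeff n / q.coeff n) * q)
            + (r.coeff n / q.coeff n) • evL K e q := by
          rw [← map_smul, ← map_add, smul_eq_C_mul]; ring_nf
        rw [h3]
        exact W.add_mem h2 (W.smul_mem _ hqW)
    intro f hf
    obtain ⟨r, hr, rfl⟩ := (mem_P e).1 hf
    refine main (d + 1) le_rfl r ?_
    exact lt_of_le_of_lt (natDegree_le_iff_degree_le.1 hr) (by exact_mod_cast Nat.lt_succ_self d)

end Inv

end Cfsg.Agent.Helper2.BurnsidePrime
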