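import Mathlib
import Cfsg.Agent.Helper2.BurnsidePrimeInv

set_option autoImplicit false

namespace Cfsg.Agent.Helper2.BurnsidePrime

open Polynomial

section Grp

variable {p : ℕ} [hp : Fact p.Prime] {α : Type*} [Fintype α]
variable {K : Type*} [Field K] [CharP K p] (e : α ≃ ZMod p)

/-- `P d` is invariant under the permutation group `G`. -/
def InvG (K : Type*) [Field K] [CharP K p] (e : α ≃ ZMod p) (G : Subgroup (Equiv.Perm α))
    (d : ℕ) : Prop :=
  ∀ g ∈ G, ∀ f ∈ P K e d, (fun x => f (g x)) ∈ P K e d

/-- All elements of `G` are affine in the coordinate. -/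
def AffG (K : Type*) [Field K] [CharP K p] (e : α ≃ ZMod p) (G : Subgroup (Equiv.Perm α)) :
    Prop :=
  ∀ g ∈ G, ∃ a b : K, ∀ x, coord K e (g x) = a * coord K e x + b

theorem InvG_dual (G : Subgroup (Equiv.Perm α)) {d : ℕ} (hd : d + 2 ≤ p)
    (h : InvG K e G d) : InvG K e G (p - 2 - d) := by
  intro g hg u hu
  rw [mem_P_dual e hd] at hu ⊢
  intro f hf
  have h1 := hu _ (h g⁻¹ (G.inv_mem hg) f hf)
  rw [← Equiv.sum_comp g] at h1
  simpa using h1

theorem AffG_of_InvG (G : Subgroup (Equiv.Perm α)) {d : ℕ} (hd1 : 1 ≤ d) (hd2 : 2 * d < p)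
    (h : InvG K e G d) : AffG K e G := by
  intro g hg
  have hdp : d < p := by omega
  have hX : ∀ m, m ≤ d → (fun x => (coord K e (g x)) ^ m) ∈ P K e d := by
    intro m hm
    have h1 : evL K e (X ^ m) ∈ P K e d := evL_mem_P e (by rw [natDegree_X_pow]; exact hm)
    have h2 := h g hg _ h1
    simpa [evL_apply] using h2
  obtain ⟨r, hr, hrπ⟩ := (mem_P e).1 (hX 1 hd1)
  have hrx : ∀ x, coord K e (g x) = r.eval (coord K e x) := by
    intro x
    have := congrFun hrπ x
    simp only [pow_one] at this
    rw [← this, evL_apply]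
  by_cases hn : r.natDegree ≤ 1
  · refine ⟨r.coeff 1, r.coeff 0, fun x => ?_⟩
    rw [hrx x]
    conv_lhs => rw [eq_X_add_C_of_natDegree_le_one hn]
    simp
  · exfalso
    push_neg at hn
    have hpow : ∀ m, m ≤ d → m * r.natDegree < p → m * r.natDegree ≤ d := by
      intro m hm hmp
      have h1 := hX m hm
      have h2 : (fun x => (coord K e (g x)) ^ m) = evL K e (r ^ m) := by
        ext x
        rw [hrx x, evL_apply, eval_pow]
      rw [h2, evL_mem_P_iff e hdp (by rw [natDegree_pow]; exact hmp), natDegree_pow] at h1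
      exact h1
    by_cases hc : d * r.natDegree < p
    · have := hpow d le_rfl hc
      nlinarith
    · push_neg at hc
      have h1 : (p - 1) / r.natDegree * r.natDegree ≤ p - 1 := Nat.div_mul_le_self _ _
      have h2 : p - 1 < r.natDegree * ((p - 1) / r.natDegree + 1) :=
        Nat.lt_mul_div_succ _ (by omega)
      have h3 : (p - 1) / r.natDegree ≤ d := by
        by_contra hcon
        push_neg at hcon
        have : (d + 1) * r.natDegree ≤ (p - 1) / r.natDegree * r.natDegree :=
          Nat.mul_le_mul_right _ hcon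
        have h5 : (d + 1) * r.natDegree = d * r.natDegree + r.natDegree := by ring
        omega
      have h4 := hpow _ h3 (by omega)
      have h5 : r.natDegree * ((p - 1) / r.natDegree + 1)
          = (p - 1) / r.natDegree * r.natDegree + r.natDegree := by ring
      omega

theorem AffG_of_InvG' (G : Subgroup (Equiv.Perm α)) {d : ℕ} (hd1 : 1 ≤ d) (hd3 : d + 3 ≤ p)
    (h : InvG K e G d) : AffG K e G := by
  by_cases hd2 : 2 * d < p
  · exact AffG_of_InvG e G hd1 hd2 h
  · exact AffG_of_InvG e G (d := p - 2 - d) (by omega) (by omega) (InvG_dual e G (by omega) h)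

end Grp

end Cfsg.Agent.Helper2.BurnsidePrime
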