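import Mathlib
import Cfsg.Agent.Helper2.BurnsidePrimeGrp

set_option autoImplicit false

namespace Cfsg.Agent.Helper2.BurnsidePrime

open Polynomial

section Solv

variable {p : ℕ} [hp : Fact p.Prime] {α : Type*} [Fintype α]
variable {K : Type*} [Field K] [CharP K p] (e : α ≃ ZMod p)

theorem isSolvable_of_AffG (G : Subgroup (Equiv.Perm α)) (h : AffG K e G) :
    Group.IsSolvable G := by
  classical
  have c0 : coord K e (e.symm 0) = 0 := by simp [coord]
  have c1 : coord K e (e.symm 1) = 1 := by simp [coord]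
  let sl : G → K := fun g => coord K e (g.1 (e.symm 1)) - coord K e (g.1 (e.symm 0))
  have haff : ∀ g : G, ∀ x,
      coord K e (g.1 x) = sl g * coord K e x + coord K e (g.1 (e.symm 0)) := by
    intro g x
    obtain ⟨a, b, hab⟩ := h g.1 g.2
    have h0 := hab (e.symm 0)
    have h1 := hab (e.symm 1)
    rw [c0] at h0
    rw [c1] at h1
    simp only [sl]
    rw [hab x, h0, h1]; ring
  have hsl0 : ∀ g : G, sl g ≠ 0 := by
    intro g hg
    have h1 : coord K e (g.1 (e.symm 1)) = coord K e (g.1 (e.symm 0)) := sub_eq_zero.1 hg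
    have h2 := g.1.injective (coord_injective e h1)
    have h3 : (1 : ZMod p) = 0 := e.symm.injective h2
    exact one_ne_zero h3
  have hmul : ∀ g h : G, sl (g * h) = sl g * sl h := by
    intro g h
    have e1 : ∀ x, ((g * h : G) : Equiv.Perm α) x = g.1 (h.1 x) := fun x => rfl
    simp only [sl, e1]
    rw [haff g (h.1 (e.symm 1)), haff g (h.1 (e.symm 0))]
    simp only [sl]; ring
  let f : G →* Kˣ := MonoidHom.mk' (fun g => Units.mk0 (sl g) (hsl0 g))
    (by intro g h; ext; simp [hmul])
  have hker : ∀ a b : f.ker, a * b = b * a := by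
    intro a b
    have ha : sl a.1 = 1 := by
      have := a.2
      rw [MonoidHom.mem_ker] at this
      simpa [f] using congrArg Units.val this
    have hb : sl b.1 = 1 := by
      have := b.2
      rw [MonoidHom.mem_ker] at this
      simpa [f] using congrArg Units.val this
    apply Subtype.ext
    apply Subtype.ext
    ext x
    apply coord_injective (K := K) e
    have e1 : (((a * b : f.ker) : G) : Equiv.Perm α) x = a.1.1 (b.1.1 x) := rfl
    have e2 : (((b * a : f.ker) : G) : Equiv.Perm α) x = b.1.1 (a.1.1 x) := rfl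
    have l1 := haff a.1 (b.1.1 x)
    have l2 := haff b.1 x
    have l3 := haff b.1 (a.1.1 x)
    have l4 := haff a.1 x
    rw [ha] at l1 l4
    rw [hb] at l2 l3
    rw [e1, e2, l1, l2, l3, l4]
    ring
  haveI : Group.IsSolvable f.ker := Group.isSolvable_of_comm hker
  exact Group.isSolvable_of_ker_le_range f.ker.subtype f (by rw [Subgroup.range_subtype])

end Solv

section Cyc

variable {p : ℕ} [hp : Fact p.Prime] {α : Type*} [Fintype α] [DecidableEq α]

theorem exists_cycle_equiv (hα : Fintype.card α = p) (G : Subgroup (Equiv.Perm α))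
    [MulAction.IsPretransitive G α] :
    ∃ τ ∈ G, ∃ e : α ≃ ZMod p, ∀ x, e (τ x) = e x + 1 := by
  have hp1 : 1 < p := hp.out.one_lt
  haveI : Nonempty α := Fintype.card_pos_iff.1 (by omega)
  obtain ⟨a₀⟩ := ‹Nonempty α›
  have hdvd : p ∣ Nat.card G := by
    have h1 := MulAction.index_stabilizer_of_transitive G a₀
    rw [Nat.card_eq_fintype_card, hα] at h1
    rw [← h1]
    exact Subgroup.index_dvd_card _
  obtain ⟨τ', hτ'⟩ := exists_prime_orderOf_dvd_card' p hdvd
  have hτo : orderOf (τ' : Equiv.Perm α) = p := by rw [Subgroup.orderOf_coe]; exact hτ'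
  have hcyc : (τ' : Equiv.Perm α).IsCycle :=
    Equiv.Perm.isCycle_of_prime_order'' (hα ▸ hp.out) (hτo.trans hα.symm)
  have hsupp : ∀ x, (τ' : Equiv.Perm α) x ≠ x := by
    intro x
    have h1 : (τ' : Equiv.Perm α).support.card = Fintype.card α := by
      rw [← hcyc.orderOf, hτo, hα]
    have h2 : (τ' : Equiv.Perm α).support = Finset.univ := (Finset.card_eq_iff_eq_univ _).1 h1
    have : x ∈ (τ' : Equiv.Perm α).support := by rw [h2]; exact Finset.mem_univ x
    exact Equiv.Perm.mem_support.1 this
  let fn : ZMod p → α := fun i => ((τ' : Equiv.Perm α) ^ i.val) a₀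
  have hsurj : Function.Surjective fn := by
    intro y
    obtain ⟨i, hi⟩ := hcyc.exists_pow_eq (hsupp a₀) (hsupp y)
    refine ⟨(i : ZMod p), ?_⟩
    simp only [fn]
    rw [ZMod.val_natCast, ← hτo, pow_mod_orderOf]
    exact hi
  have hbij : Function.Bijective fn := by
    rw [Fintype.bijective_iff_surjective_and_card]
    exact ⟨hsurj, by rw [ZMod.card, hα]⟩
  refine ⟨τ', τ'.2, (Equiv.ofBijective fn hbij).symm, fun x => ?_⟩
  obtain ⟨i, rfl⟩ := hsurj x
  have h1 : (τ' : Equiv.Perm α) (fn i) = fn (i + 1) := by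
    simp only [fn]
    have h2 : (i + 1).val = (i.val + 1) % p := by
      rw [ZMod.val_add]
      congr 2
      haveI : Fact (1 < p) := ⟨hp1⟩
      exact ZMod.val_one p
    have h4 : (τ' : Equiv.Perm α) ^ ((i.val + 1) % p) = (τ' : Equiv.Perm α) ^ (i.val + 1) := by
      have := pow_mod_orderOf (τ' : Equiv.Perm α) (i.val + 1)
      rwa [hτo] at this
    rw [h2, h4, pow_succ']
    rfl
  rw [h1]
  have h3 : ∀ j, (Equiv.ofBijective fn hbij).symm (fn j) = j := fun j =>
    (Equiv.ofBijective fn hbij).symm_apply_apply j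
  rw [h3, h3]

end Cyc

end Cfsg.Agent.Helper2.BurnsidePrime
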