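import Mathlib
import Cfsg.Agent.Helper2.BurnsidePrimeSolv

set_option autoImplicit false

namespace Cfsg.Agent.Helper2.BurnsidePrime

open Polynomial

section Orb

variable {p : ℕ} [hp : Fact p.Prime] {α : Type*} [Fintype α]
variable {K : Type*} [Field K] [CharP K p] (e : α ≃ ZMod p)

/-- The kernel of a `G`-equivariant operator killing the constants is an invariant `P j`. -/
theorem ker_eq_P (G : Subgroup (Equiv.Perm α)) (τ : Equiv.Perm α) (hτG : τ ∈ G)
    (hτ : ∀ x, e (τ x) = e x + 1) (ψ : (α → K) →ₗ[K] (α → K))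
    (hψ : ∀ g ∈ G, ∀ u : α → K, ψ (fun x => u (g x)) = fun x => ψ u (g x))
    (h1 : ψ (fun _ => 1) = 0) :
    ∃ j, j < p ∧ LinearMap.ker ψ = P K e j ∧ InvG K e G j := by
  have hτ' : ∀ x, e.symm (e x + 1) = τ x := by
    intro x; rw [← hτ x, Equiv.symm_apply_apply]
  have hinv : ∀ g ∈ G, ∀ f ∈ LinearMap.ker ψ, (fun x => f (g x)) ∈ LinearMap.ker ψ := by
    intro g hg f hf
    rw [LinearMap.mem_ker] at hf ⊢
    rw [hψ g hg f, hf]; rfl
  have hne : LinearMap.ker ψ ≠ ⊥ := by
    intro h
    have h2 : (fun _ => 1 : α → K) ∈ LinearMap.ker ψ := LinearMap.mem_ker.2 h1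
    rw [h, Submodule.mem_bot] at h2
    have := congrFun h2 (e.symm 0)
    simp at this
  obtain ⟨j, hj, hker⟩ := eq_P_of_shift_invariant e (LinearMap.ker ψ)
    (fun f hf => by
      have := hinv τ hτG f hf
      simpa only [hτ'] using this) hne
  refine ⟨j, hj, hker, ?_⟩
  intro g hg f hf
  rw [← hker] at hf ⊢
  exact hinv g hg f hf

theorem shiftSum_X {I : Type*} (B : Finset I) (v : I → K) :
    shiftSum B v (X : K[X]) = C (∑ β ∈ B, v β) := by
  rw [shiftSum_apply, map_sum]
  refine Finset.sum_congr rfl fun β _ => ?_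
  rw [X_comp, add_sub_cancel_left]

theorem AffG_of_not_two_transitive (G : Subgroup (Equiv.Perm α)) [MulAction.IsPretransitive G α]
    (τ : Equiv.Perm α) (hτG : τ ∈ G) (hτ : ∀ x, e (τ x) = e x + 1)
    (h2 : ¬ MulAction.IsMultiplyPretransitive G α 2) : AffG K e G := by
  classical
  have hp1 : 1 < p := hp.out.one_lt
  rw [MulAction.is_two_pretransitive_iff] at h2
  push_neg at h2
  obtain ⟨a, b, c, d, hab, hcd, hno⟩ := h2
  let Γ : α → α → Prop := fun x y => ∃ g ∈ G, g a = x ∧ g b = y
  have hΓinv : ∀ g ∈ G, ∀ x y, Γ x y ↔ Γ (g x) (g y) := by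
    intro g hg x y
    constructor
    · rintro ⟨k, hk, rfl, rfl⟩
      exact ⟨g * k, G.mul_mem hg hk, rfl, rfl⟩
    · rintro ⟨k, hk, h1, h2⟩
      refine ⟨g⁻¹ * k, G.mul_mem (G.inv_mem hg) hk, ?_, ?_⟩
      · rw [Equiv.Perm.mul_apply, h1, Equiv.Perm.inv_def, Equiv.symm_apply_apply]
      · rw [Equiv.Perm.mul_apply, h2, Equiv.Perm.inv_def, Equiv.symm_apply_apply]
  have hΓirr : ∀ x, ¬ Γ x x := by
    rintro x ⟨k, _, h1, h2⟩
    exact hab (k.injective (h1.trans h2.symm))
  have hΓcd : ¬ Γ c d := by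
    rintro ⟨k, hk, h1, h2⟩
    exact hno ⟨k, hk⟩ h1 h2
  have hΓne : ∀ x, ∃ y, Γ x y := by
    intro x
    obtain ⟨g, hg⟩ := MulAction.exists_smul_eq G a x
    exact ⟨g.1 b, g.1, g.2, hg, rfl⟩
  have htr : ∀ i : ZMod p, ∃ σ ∈ G, ∀ x, e (σ x) = e x + i := by
    intro i
    have hpow : ∀ n : ℕ, ∀ x, e ((τ ^ n) x) = e x + n := by
      intro n
      induction n with
      | zero => intro x; simp
      | succ n ih =>
        intro x
        rw [pow_succ', Equiv.Perm.mul_apply, hτ, ih]; push_cast; ring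
    refine ⟨τ ^ i.val, G.pow_mem hτG _, fun x => ?_⟩
    rw [hpow, ZMod.natCast_zmod_val]
  let B : Finset (ZMod p) := Finset.univ.filter (fun β => Γ (e.symm 0) (e.symm β))
  have hB : ∀ β, β ∈ B ↔ Γ (e.symm 0) (e.symm β) := by
    intro β; simp only [B, Finset.mem_filter, Finset.mem_univ, true_and]
  have hΓB : ∀ x y, Γ x y ↔ e y - e x ∈ B := by
    intro x y
    obtain ⟨σ, hσG, hσ⟩ := htr (- e x)
    rw [hΓinv σ hσG x y]
    have e1 : σ x = e.symm 0 := by
      apply e.injective; rw [hσ, Equiv.apply_symm_apply]; ring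
    have e2 : σ y = e.symm (e y - e x) := by
      apply e.injective; rw [hσ, Equiv.apply_symm_apply]; ring
    rw [e1, e2, hB]
  have hphi : ∀ (u : α → K) (x : α),
      phi K e B u x = ∑ y, if Γ x y then (u y - u x) else 0 := by
    intro u x
    rw [phi_apply]
    have h3 : ∑ β ∈ B, (u (e.symm (e x + β)) - u x)
        = ∑ β : ZMod p, if β ∈ B then (u (e.symm (e x + β)) - u x) else 0 := by
      rw [← Finset.sum_filter]
      refine Finset.sum_congr ?_ fun _ _ => rfl
      ext β; simp
    rw [h3]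
    symm
    apply Fintype.sum_equiv (e.trans (Equiv.addRight (- e x)))
    intro y
    simp only [Equiv.trans_apply, Equiv.coe_addRight]
    have h4 : e x + (e y + - e x) = e y := by ring
    rw [h4, Equiv.symm_apply_apply]
    have h5 : Γ x y ↔ e y + - e x ∈ B := by rw [hΓB x y, sub_eq_add_neg]
    by_cases hm : Γ x y
    · rw [if_pos hm]; exact (if_pos (h5.1 hm)).symm
    · rw [if_neg hm]; exact (if_neg (fun h => hm (h5.2 h))).symm
  have hequi : ∀ g ∈ G, ∀ u : α → K,
      phi K e B (fun x => u (g x)) = fun x => phi K e B u (g x) := by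
    intro g hg u
    ext x
    rw [hphi, hphi]
    rw [← Equiv.sum_comp g (fun z => if Γ (g x) z then (u z - u (g x)) else 0)]
    refine Finset.sum_congr rfl fun y _ => ?_
    by_cases hm : Γ x y
    · rw [if_pos hm, if_pos ((hΓinv g hg x y).1 hm)]
    · rw [if_neg hm, if_neg (fun h => hm ((hΓinv g hg x y).2 h))]
  have h1 : phi K e B (fun _ => 1) = 0 := by
    ext x; simp [phi_apply]
  obtain ⟨j, hj, hker, hinvj⟩ := ker_eq_P e G τ hτG hτ (phi K e B) hequi h1
  have hj2 : j + 2 < p := by
    by_contra hcon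
    push_neg at hcon
    have hle : P K e (p - 2) ≤ P K e j := P_mono e (by omega)
    let u : α → K := fun y => (if y = d then 1 else 0) - (if y = c then 1 else 0)
    have hu : u ∈ P K e (p - 2) := by
      rw [mem_P_sumzero]
      simp [u, Finset.sum_sub_distrib]
    have hu0 : phi K e B u = 0 := by
      have := hle hu
      rw [← hker] at this
      exact LinearMap.mem_ker.1 this
    have h3 := congrFun hu0 c
    rw [hphi] at h3
    have h4 : ∀ y, (if Γ c y then (u y - u c) else 0) = if Γ c y then (1 : K) else 0 := by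
      intro y
      split_ifs with hy
      · have hyc : y ≠ c := by rintro rfl; exact hΓirr _ hy
        have hyd : y ≠ d := by rintro rfl; exact hΓcd hy
        simp [u, hyc, hyd, hcd]
      · rfl
    simp_rw [h4] at h3
    rw [Finset.sum_boole] at h3
    simp only [Pi.zero_apply] at h3
    rw [CharP.cast_eq_zero_iff K p] at h3
    have hpos : 0 < (Finset.univ.filter (fun y => Γ c y)).card := by
      obtain ⟨y, hy⟩ := hΓne c
      exact Finset.card_pos.2 ⟨y, by simp [hy]⟩
    have hlt : (Finset.univ.filter (fun y => Γ c y)).card < p := by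
      have hsub : (Finset.univ.filter (fun y => Γ c y)) ⊆ Finset.univ.erase c := by
        intro y hy
        simp only [Finset.mem_filter, Finset.mem_univ, true_and] at hy
        simp only [Finset.mem_erase, Finset.mem_univ, and_true]
        rintro rfl; exact hΓirr _ hy
      have := Finset.card_le_card hsub
      rw [Finset.card_erase_of_mem (Finset.mem_univ _), Finset.card_univ, card_eq e] at this
      omega
    exact absurd (Nat.le_of_dvd hpos h3) (by omega)
  rcases Nat.eq_zero_or_pos j with hj0 | hjpos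
  · subst hj0
    have hs : ∑ β ∈ B, (ZMod.castHom (dvd_refl p) K) β ≠ 0 := by
      intro h0
      have : evL K e X ∈ P K e 0 := by
        rw [← hker, LinearMap.mem_ker, phi_evL, shiftSum_X, h0, map_zero, map_zero]
      rw [evL_mem_P_iff e (by omega) (by rw [natDegree_X]; omega), natDegree_X] at this
      omega
    have hequi2 : ∀ g ∈ G, ∀ u : α → K,
        ((phi K e B).comp (phi K e B)) (fun x => u (g x))
          = fun x => ((phi K e B).comp (phi K e B)) u (g x) := by
      intro g hg u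
      rw [LinearMap.comp_apply, hequi g hg u, hequi g hg (phi K e B u)]; rfl
    have h12 : ((phi K e B).comp (phi K e B)) (fun _ => 1) = 0 := by
      rw [LinearMap.comp_apply, h1, map_zero]
    obtain ⟨j₂, hj₂, hker₂, hinv₂⟩ := ker_eq_P e G τ hτG hτ _ hequi2 h12
    have hX : evL K e X ∈ P K e j₂ := by
      rw [← hker₂, LinearMap.mem_ker, LinearMap.comp_apply, phi_evL, phi_evL, shiftSum_X,
        shiftSum_eq_zero_of_natDegree_eq_zero _ _ _ (natDegree_C _), map_zero]
    rw [evL_mem_P_iff e hj₂ (by rw [natDegree_X]; omega), natDegree_X] at hX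
    have hj₂' : j₂ ≤ 1 := by
      by_contra hcon
      push_neg at hcon
      have hX2 : evL K e (X ^ 2) ∈ P K e j₂ :=
        evL_mem_P e (by rw [natDegree_X_pow]; omega)
      rw [← hker₂, LinearMap.mem_ker, LinearMap.comp_apply, phi_evL, phi_evL] at hX2
      obtain ⟨hq1, hq1d⟩ := shiftSum_exact B (ZMod.castHom (dvd_refl p) K) p hs (X ^ 2) 1
        (natDegree_X_pow 2) (by omega)
      obtain ⟨hq2, hq2d⟩ := shiftSum_exact B (ZMod.castHom (dvd_refl p) K) p hs _ 0 hq1d
        (by omega)
      exact hq2 (eq_zero_of_evL e (by rw [hq2d]; omega) hX2)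
    have hj₂1 : j₂ = 1 := by omega
    subst hj₂1
    exact AffG_of_InvG e G le_rfl (by omega) hinv₂
  · exact AffG_of_InvG' e G hjpos (by omega) hinvj

end Orb

end Cfsg.Agent.Helper2.BurnsidePrime
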