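import Mathlib
import Cfsg.Agent.Helper2.BurnsidePrimeOrb

set_option autoImplicit false

namespace Cfsg.Agent.Helper2.BurnsidePrime

section Refl

variable {p : ℕ} [hp : Fact p.Prime] {α : Type*} [Fintype α] [DecidableEq α]

/-- A permutation of order `p` on `p` points is a translation in suitable coordinates. -/
theorem exists_equiv_of_orderOf (hα : Fintype.card α = p) (τ : Equiv.Perm α)
    (hτo : orderOf τ = p) : ∃ e : α ≃ ZMod p, ∀ x, e (τ x) = e x + 1 := by
  have hp1 : 1 < p := hp.out.one_lt
  haveI : Nonempty α := Fintype.card_pos_iff.1 (by omega)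
  obtain ⟨a₀⟩ := ‹Nonempty α›
  have hcyc : τ.IsCycle :=
    Equiv.Perm.isCycle_of_prime_order'' (hα ▸ hp.out) (hτo.trans hα.symm)
  have hsupp : ∀ x, τ x ≠ x := by
    intro x
    have h1 : τ.support.card = Fintype.card α := by
      rw [← hcyc.orderOf, hτo, hα]
    have h2 : τ.support = Finset.univ := (Finset.card_eq_iff_eq_univ _).1 h1
    have : x ∈ τ.support := by rw [h2]; exact Finset.mem_univ x
    exact Equiv.Perm.mem_support.1 this
  let fn : ZMod p → α := fun i => (τ ^ i.val) a₀
  have hsurj : Function.Surjective fn := by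
    intro y
    obtain ⟨i, hi⟩ := hcyc.exists_pow_eq (hsupp a₀) (hsupp y)
    refine ⟨(i : ZMod p), ?_⟩
    simp only [fn]
    have h4 : τ ^ (i % p) = τ ^ i := by
      have := pow_mod_orderOf τ i
      rwa [hτo] at this
    rw [ZMod.val_natCast, h4]
    exact hi
  have hbij : Function.Bijective fn := by
    rw [Fintype.bijective_iff_surjective_and_card]
    exact ⟨hsurj, by rw [ZMod.card, hα]⟩
  refine ⟨(Equiv.ofBijective fn hbij).symm, fun x => ?_⟩
  obtain ⟨i, rfl⟩ := hsurj x
  have h1 : τ (fn i) = fn (i + 1) := by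
    simp only [fn]
    have h2 : (i + 1).val = (i.val + 1) % p := by
      rw [ZMod.val_add]
      congr 2
      haveI : Fact (1 < p) := ⟨hp1⟩
      exact ZMod.val_one p
    have h4 : τ ^ ((i.val + 1) % p) = τ ^ (i.val + 1) := by
      have := pow_mod_orderOf τ (i.val + 1)
      rwa [hτo] at this
    rw [h2, h4, pow_succ']
    rfl
  rw [h1]
  have h3 : ∀ j, (Equiv.ofBijective fn hbij).symm (fn j) = j := fun j =>
    (Equiv.ofBijective fn hbij).symm_apply_apply j
  rw [h3, h3]

omit [DecidableEq α] in
/-- `p ^ 2` does not divide the order of a permutation group of degree `p`. -/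
theorem not_sq_dvd_card (hα : Fintype.card α = p) (G : Subgroup (Equiv.Perm α)) :
    ¬ p ^ 2 ∣ Nat.card G := by
  classical
  intro h
  have h1 : Nat.card G ∣ Nat.card (Equiv.Perm α) := Subgroup.card_subgroup_dvd_card G
  rw [Nat.card_eq_fintype_card (α := Equiv.Perm α), Fintype.card_perm, hα] at h1
  have h2 : p ^ 2 ∣ p.factorial := h.trans h1
  have hp0 : 0 < p := hp.out.pos
  obtain ⟨m, hm⟩ : ∃ m, p = m + 1 := ⟨p - 1, by omega⟩
  rw [hm, Nat.factorial_succ, ← hm, pow_two] at h2
  have h3 : p ∣ m.factorial := Nat.dvd_of_mul_dvd_mul_left hp0 h2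
  have := (hp.out.dvd_factorial).1 h3
  omega

omit [Fintype α] [DecidableEq α] in
/-- Parity of a finite set carrying an involution with a unique fixed point in the ambient type. -/
theorem card_mod_two_of_involution {ι : Type*} [DecidableEq ι] (S : Finset ι) (g : ι → ι)
    (y₀ : ι) (hgS : ∀ a ∈ S, g a ∈ S) (hgg : ∀ a, g (g a) = a) (hfix : ∀ a, g a = a ↔ a = y₀) :
    (S.card : ZMod 2) = if y₀ ∈ S then 1 else 0 := by
  have h1 : ∑ a ∈ S, (if a = y₀ then (0 : ZMod 2) else 1) = 0 := by
    refine Finset.sum_involution (fun a _ => g a) ?_ ?_ (fun a ha => hgS a ha) (fun a _ => hgg a)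
    · intro a _
      by_cases ha : a = y₀
      · have : g a = y₀ := by rw [ha]; exact (hfix y₀).2 rfl
        rw [if_pos ha, if_pos this, add_zero]
      · have : g a ≠ y₀ := by
          intro h
          apply ha
          have h2 := hgg a
          rw [h, (hfix y₀).2 rfl] at h2
          exact h2.symm
        rw [if_neg ha, if_neg this]
        decide
    · intro a _ hne
      by_cases ha : a = y₀
      · rw [if_pos ha] at hne; exact absurd rfl hne
      · exact fun h => ha ((hfix a).1 h)
  have h2 : (S.card : ZMod 2) = ∑ a ∈ S, ((if a = y₀ then (0 : ZMod 2) else 1)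
      + (if a = y₀ then 1 else 0)) := by
    rw [Finset.card_eq_sum_ones, Nat.cast_sum]
    refine Finset.sum_congr rfl fun a _ => ?_
    split_ifs <;> simp
  rw [h2, Finset.sum_add_distrib, h1, zero_add, Finset.sum_ite_eq']

end Refl

end Cfsg.Agent.Helper2.BurnsidePrime
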