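import Mathlib
import Cfsg.Agent.Helper2.BurnsidePrimeRefl

set_option autoImplicit false

namespace Cfsg.Agent.Helper2.BurnsidePrime

section Refl2

variable {p : ℕ} [hp : Fact p.Prime] {α : Type*} [Fintype α] [DecidableEq α]

omit [Fintype α] [DecidableEq α] in
theorem e_pow (e : α ≃ ZMod p) (τ : Equiv.Perm α) (hτ : ∀ x, e (τ x) = e x + 1) (m : ℕ) (x : α) :
    e ((τ ^ m) x) = e x + m := by
  induction m with
  | zero => simp
  | succ m ih => rw [pow_succ', Equiv.Perm.mul_apply, hτ, ih]; push_cast; ring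

omit [Fintype α] [DecidableEq α] in
theorem eq_pow_apply (e : α ≃ ZMod p) (τ : Equiv.Perm α) (hτ : ∀ x, e (τ x) = e x + 1) (y : α) :
    y = (τ ^ (e y).val) (e.symm 0) := by
  apply e.injective
  have h1 := e_pow e τ hτ (e y).val (e.symm 0)
  rw [Equiv.apply_symm_apply, ZMod.natCast_zmod_val, zero_add] at h1
  exact h1.symm

omit [Fintype α] [DecidableEq α] in
/-- A permutation conjugating the translation to a power of it is affine. -/
theorem affine_of_conj (e : α ≃ ZMod p) (τ : Equiv.Perm α) (hτ : ∀ x, e (τ x) = e x + 1)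
    (s : Equiv.Perm α) (n : ℕ) (hs : ∀ x, s (τ x) = (τ ^ n) (s x)) (y : α) :
    e (s y) = (n : ZMod p) * e y + e (s (e.symm 0)) := by
  have h1 : ∀ m : ℕ, ∀ x, e (s ((τ ^ m) x)) = e (s x) + m * n := by
    intro m
    induction m with
    | zero => intro x; simp
    | succ m ih =>
      intro x
      rw [pow_succ', Equiv.Perm.mul_apply, hs, e_pow e τ hτ, ih]; push_cast; ring
  conv_lhs => rw [eq_pow_apply e τ hτ y]
  rw [h1, ZMod.natCast_zmod_val]; ring

omit [Fintype α] [DecidableEq α] in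
/-- An affine involution in odd characteristic is a reflection. -/
theorem slope_of_involution (hp2 : p ≠ 2) (e : α ≃ ZMod p) (s : Equiv.Perm α) (k b : ZMod p)
    (hs : ∀ x, e (s x) = k * e x + b) (hs2 : ∀ x, s (s x) = x) (hs1 : s ≠ 1) : k = -1 := by
  have h2 : (2 : ZMod p) ≠ 0 := by
    intro h
    have h3 : ((2 : ℕ) : ZMod p) = 0 := by exact_mod_cast h
    rw [ZMod.natCast_eq_zero_iff] at h3
    have := (Nat.prime_dvd_prime_iff_eq hp.out Nat.prime_two).1 h3
    exact hp2 this
  have e0 := hs (s (e.symm 0))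
  rw [hs2, hs, Equiv.apply_symm_apply] at e0
  have e1 := hs (s (e.symm 1))
  rw [hs2, hs, Equiv.apply_symm_apply] at e1
  have hk : (k - 1) * (k + 1) = 0 := by
    have : k * k = 1 := by linear_combination e0 - e1
    linear_combination this
  rcases mul_eq_zero.1 hk with h | h
  · exfalso
    have hk1 : k = 1 := by linear_combination h
    have hb : b = 0 := by
      have : (2 : ZMod p) * b = 0 := by rw [hk1] at e0; linear_combination -e0
      rcases mul_eq_zero.1 this with h' | h'
      · exact absurd h' h2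
      · exact h'
    apply hs1
    ext x
    apply e.injective
    rw [hs, hk1, hb]; simp
  · linear_combination h

/-- Even Sylow normaliser gives a reflection in suitable coordinates. -/
theorem exists_reflection (hp2 : p ≠ 2) (hα : Fintype.card α = p) (G : Subgroup (Equiv.Perm α))
    [MulAction.IsPretransitive G α] (P : Sylow p G)
    (heven : Even (Nat.card (Subgroup.normalizer ((P : Subgroup G) : Set G)))) :
    ∃ τ' : G, orderOf τ' = p ∧ ∃ s' : G, ∃ e : α ≃ ZMod p,
      (∀ x, e ((τ' : Equiv.Perm α) x) = e x + 1) ∧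
        ∃ b, ∀ x, e ((s' : Equiv.Perm α) x) = - e x + b := by
  have hp1 : 1 < p := hp.out.one_lt
  haveI : Nonempty α := Fintype.card_pos_iff.1 (by omega)
  obtain ⟨a₀⟩ := ‹Nonempty α›
  have hdvd : p ∣ Nat.card G := by
    have h1 := MulAction.index_stabilizer_of_transitive G a₀
    rw [Nat.card_eq_fintype_card, hα] at h1
    rw [← h1]
    exact Subgroup.index_dvd_card _
  have hnsq := not_sq_dvd_card hα G
  have hPcard : Nat.card P = p := by
    rw [Sylow.card_eq_multiplicity]
    have h1 : (Nat.card G).factorization p = 1 := by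
      have hpos : 0 < (Nat.card G).factorization p :=
        hp.out.factorization_pos_of_dvd Nat.card_pos.ne' hdvd
      have hle : (Nat.card G).factorization p < 2 := by
        by_contra hcon
        push_neg at hcon
        exact hnsq ((pow_dvd_pow p hcon).trans (Nat.ordProj_dvd _ p))
      omega
    rw [h1, pow_one]
  obtain ⟨x, hx⟩ := exists_prime_orderOf_dvd_card' (G := P) p (by rw [hPcard])
  have hτ'o : orderOf (x : G) = p := by rw [Subgroup.orderOf_coe]; exact hx
  have hPz : (P : Subgroup G) = Subgroup.zpowers (x : G) := by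
    symm
    apply Subgroup.eq_of_le_of_card_ge
    · rw [Subgroup.zpowers_le]; exact x.2
    · rw [Nat.card_zpowers, hτ'o]; exact hPcard.le
  obtain ⟨s'', hs''⟩ := exists_prime_orderOf_dvd_card'
    (G := Subgroup.normalizer ((P : Subgroup G) : Set G)) 2 heven.two_dvd
  have hs'o : orderOf (s'' : G) = 2 := by rw [Subgroup.orderOf_coe]; exact hs''
  have hs'n : (s'' : G) * (x : G) * (s'' : G)⁻¹ ∈ Subgroup.zpowers (x : G) := by
    rw [← hPz]
    have := s''.2
    rw [Subgroup.mem_normalizer_iff] at this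
    exact (this (x : G)).1 x.2
  obtain ⟨n, hn⟩ : ∃ n : ℕ, (x : G) ^ n = (s'' : G) * (x : G) * (s'' : G)⁻¹ := by
    have := mem_powers_iff_mem_zpowers.2 hs'n
    exact (Submonoid.mem_powers_iff _ _).1 this
  obtain ⟨e, he⟩ := exists_equiv_of_orderOf hα (((x : G) : Equiv.Perm α))
    (by rw [Subgroup.orderOf_coe]; exact hτ'o)
  have hconj : ∀ y, ((s'' : G) : Equiv.Perm α) (((x : G) : Equiv.Perm α) y)
      = (((x : G) : Equiv.Perm α) ^ n) (((s'' : G) : Equiv.Perm α) y) := by
    intro y
    have h1 : (s'' : G) * (x : G) = (x : G) ^ n * (s'' : G) := by rw [hn]; group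
    have h2 := congrArg (fun g : G => (g : Equiv.Perm α) y) h1
    simpa using h2
  have haff := affine_of_conj e _ he _ n hconj
  have hs2 : ∀ y, ((s'' : G) : Equiv.Perm α) (((s'' : G) : Equiv.Perm α) y) = y := by
    intro y
    have h1 : (s'' : G) * (s'' : G) = 1 := by rw [← pow_two, ← hs'o, pow_orderOf_eq_one]
    have h2 := congrArg (fun g : G => (g : Equiv.Perm α) y) h1
    simpa using h2
  have hs1 : ((s'' : G) : Equiv.Perm α) ≠ 1 := by
    intro h
    have : (s'' : G) = 1 := Subtype.ext h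
    rw [this, orderOf_one] at hs'o
    omega
  have hk := slope_of_involution hp2 e _ _ _ haff hs2 hs1
  refine ⟨(x : G), hτ'o, (s'' : G), e, he, e (((s'' : G) : Equiv.Perm α) (e.symm 0)), fun y => ?_⟩
  rw [haff y, hk]; ring

omit [DecidableEq α] in
theorem index_p_facts (hα : Fintype.card α = p) (G : Subgroup (Equiv.Perm α))
    (H : Subgroup G) (hH : H.index = p) (τ' : G) (hτ' : orderOf τ' = p) :
    ¬ p ∣ Nat.card H ∧ (∀ g : G, ∃ h ∈ H, ∃ m : ℕ, g = h * τ' ^ m) ∧
      (∀ g : G, ∃ h ∈ H, ∃ m : ℕ, g = τ' ^ m * h) := by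
  have hcard : Nat.card H * p = Nat.card G := by rw [← hH]; exact H.card_mul_index
  have hnd : ¬ p ∣ Nat.card H := by
    intro h
    apply not_sq_dvd_card hα G
    rw [← hcard, pow_two]
    exact Nat.mul_dvd_mul_right h p
  have hc : Subgroup.IsComplement' H (Subgroup.zpowers τ') := by
    apply Subgroup.isComplement'_of_coprime
    · rw [Nat.card_zpowers, hτ']; exact hcard
    · rw [Nat.card_zpowers, hτ']
      exact ((Nat.Prime.coprime_iff_not_dvd hp.out).2 hnd).symm
  have key : ∀ g : G, ∃ h ∈ H, ∃ m : ℕ, g = h * τ' ^ m := by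
    intro g
    obtain ⟨⟨⟨h, hh⟩, ⟨k, hk⟩⟩, hg⟩ := hc.2 g
    obtain ⟨m, hm⟩ := (Submonoid.mem_powers_iff _ _).1 (mem_powers_iff_mem_zpowers.2 hk)
    exact ⟨h, hh, m, by rw [hm]; exact hg.symm⟩
  refine ⟨hnd, key, fun g => ?_⟩
  obtain ⟨h, hh, m, hm⟩ := key g⁻¹
  have hk : (τ' ^ m)⁻¹ ∈ Subgroup.zpowers τ' :=
    Subgroup.inv_mem _ (Subgroup.pow_mem _ (Subgroup.mem_zpowers τ') m)
  obtain ⟨m', hm'⟩ := (Submonoid.mem_powers_iff _ _).1 (mem_powers_iff_mem_zpowers.2 hk)
  refine ⟨h⁻¹, H.inv_mem hh, m', ?_⟩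
  rw [hm', ← mul_inv_rev, ← hm, inv_inv]

/-- With even Sylow normaliser, a subgroup of index `p` contains a reflection. -/
theorem exists_reflection_in (hp2 : p ≠ 2) (hα : Fintype.card α = p)
    (G : Subgroup (Equiv.Perm α)) [MulAction.IsPretransitive G α] (P : Sylow p G)
    (heven : Even (Nat.card (Subgroup.normalizer ((P : Subgroup G) : Set G))))
    (H : Subgroup G) (hH : H.index = p) :
    ∃ τ' : G, orderOf τ' = p ∧ ∃ h ∈ H, ∃ e : α ≃ ZMod p,
      (∀ x, e ((τ' : Equiv.Perm α) x) = e x + 1) ∧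
        ∀ x, e ((h : Equiv.Perm α) x) = - e x := by
  obtain ⟨τ', hτ', s', e, he, b, hs⟩ := exists_reflection hp2 hα G P heven
  obtain ⟨-, hdec, -⟩ := index_p_facts hα G H hH τ' hτ'
  obtain ⟨h, hh, m, hm⟩ := hdec s'
  have h2 : (2 : ZMod p) ≠ 0 := by
    intro h
    have h3 : ((2 : ℕ) : ZMod p) = 0 := by exact_mod_cast h
    rw [ZMod.natCast_eq_zero_iff] at h3
    have := (Nat.prime_dvd_prime_iff_eq hp.out Nat.prime_two).1 h3
    exact hp2 this
  have hh1 : ∀ y, e ((h : Equiv.Perm α) y) = - e y + (b + m) := by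
    intro y
    have h3 : ((τ' : Equiv.Perm α) ^ m) (e.symm (e y - m)) = y := by
      apply e.injective
      rw [e_pow e _ he, Equiv.apply_symm_apply]; ring
    have h4 : (s' : Equiv.Perm α) (e.symm (e y - m)) = (h : Equiv.Perm α) y := by
      have := congrArg (fun g : G => (g : Equiv.Perm α) (e.symm (e y - m))) hm
      simp only [Subgroup.coe_mul, Subgroup.coe_pow, Equiv.Perm.coe_mul, Function.comp_apply]
        at this
      rw [this, h3]
    rw [← h4, hs, Equiv.apply_symm_apply]; ring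
  refine ⟨τ', hτ', h, hh, e.trans (Equiv.addRight (-((b + m) * 2⁻¹))), fun x => ?_, fun x => ?_⟩
  · simp only [Equiv.trans_apply, Equiv.coe_addRight]
    rw [he]; ring
  · simp only [Equiv.trans_apply, Equiv.coe_addRight]
    rw [hh1]
    have : (b + m) = 2 * ((b + m) * 2⁻¹) := by field_simp
    linear_combination this

end Refl2

end Cfsg.Agent.Helper2.BurnsidePrime
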