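import Mathlib
import Cfsg.Agent.Helper2.BurnsidePrimeRefl2

set_option autoImplicit false

namespace Cfsg.Agent.Helper2.BurnsidePrime

section Refl3

variable {p : ℕ} [hp : Fact p.Prime] {α : Type*} [Fintype α] [DecidableEq α]

omit [Fintype α] [DecidableEq α] in
theorem two_ne_zero_zmod (hp2 : p ≠ 2) : (2 : ZMod p) ≠ 0 := by
  intro h
  have h3 : ((2 : ℕ) : ZMod p) = 0 := by exact_mod_cast h
  rw [ZMod.natCast_eq_zero_iff] at h3
  have := (Nat.prime_dvd_prime_iff_eq hp.out Nat.prime_two).1 h3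
  exact hp2 this

omit [DecidableEq α] in
/-- A translation in a group of order prime to `p` is trivial. -/
theorem translation_trivial (G : Subgroup (Equiv.Perm α)) (H : Subgroup G)
    (hnd : ¬ p ∣ Nat.card H) (e : α ≃ ZMod p) (c : G) (hc : c ∈ H) (b : ZMod p)
    (hcb : ∀ y, e ((c : Equiv.Perm α) y) = e y + b) : b = 0 := by
  by_contra hb
  have hpow : ∀ n : ℕ, ∀ y, e (((c : Equiv.Perm α) ^ n) y) = e y + n * b := by
    intro n
    induction n with
    | zero => intro y; simp
    | succ n ih =>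
      intro y
      rw [pow_succ', Equiv.Perm.mul_apply, hcb, ih]; push_cast; ring
  have h1 : (c : Equiv.Perm α) ^ p = 1 := by
    ext y
    apply e.injective
    rw [hpow, ZMod.natCast_self, zero_mul, add_zero]; rfl
  have h2 : (c : Equiv.Perm α) ≠ 1 := by
    intro h
    have := hcb (e.symm 0)
    rw [h] at this
    simp at this
    exact hb this.symm
  have h3 : orderOf (c : Equiv.Perm α) = p := orderOf_eq_prime h1 h2
  have h4 : orderOf (⟨c, hc⟩ : H) = p := by
    rw [← h3, ← Subgroup.orderOf_coe, ← Subgroup.orderOf_coe]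
  exact hnd (h4 ▸ orderOf_dvd_natCard _)

omit [DecidableEq α] in
/-- Affine case: a subgroup of order prime to `p` containing the reflection about `0`
fixes the point `0`. -/
theorem fix_of_AffG (hp2 : p ≠ 2) (G : Subgroup (Equiv.Perm α)) (H : Subgroup G)
    (hnd : ¬ p ∣ Nat.card H) (e : α ≃ ZMod p) (h₀ : G) (hh₀ : h₀ ∈ H)
    (hrefl : ∀ x, e ((h₀ : Equiv.Perm α) x) = - e x) (haff : AffG (ZMod p) e G)
    (h' : G) (hh' : h' ∈ H) : (h' : Equiv.Perm α) (e.symm 0) = e.symm 0 := by
  obtain ⟨a, b, hab⟩ := haff h' h'.2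
  have hab' : ∀ x, e ((h' : Equiv.Perm α) x) = a * e x + b := by
    intro x
    have := hab x
    simpa [coord, ZMod.cast_id] using this
  have hc : ∀ y, e (((h' * h₀ * (h₀ * h')⁻¹ : G) : Equiv.Perm α) y) = e y + 2 * b := by
    intro y
    have h1 : y = ((h₀ * h' : G) : Equiv.Perm α) ((((h₀ * h')⁻¹ : G) : Equiv.Perm α) y) := by
      have : (h₀ * h' : G) * (h₀ * h')⁻¹ = 1 := mul_inv_cancel _
      have h2 := congrArg (fun g : G => (g : Equiv.Perm α) y) this
      simpa using h2.symm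
    have h3 : ((h' * h₀ * (h₀ * h')⁻¹ : G) : Equiv.Perm α) y
        = (h' : Equiv.Perm α) ((h₀ : Equiv.Perm α) ((((h₀ * h')⁻¹ : G) : Equiv.Perm α) y)) := rfl
    have h4 : ((h₀ * h' : G) : Equiv.Perm α) ((((h₀ * h')⁻¹ : G) : Equiv.Perm α) y)
        = (h₀ : Equiv.Perm α) ((h' : Equiv.Perm α) ((((h₀ * h')⁻¹ : G) : Equiv.Perm α) y)) := rfl
    rw [h3, hab', hrefl]
    conv_rhs => rw [h1, h4, hrefl, hab']
    ring
  have hb2 := translation_trivial G H hnd e _
    (H.mul_mem (H.mul_mem hh' hh₀) (H.inv_mem (H.mul_mem hh₀ hh'))) (2 * b) hc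
  have hb : b = 0 := by
    rcases mul_eq_zero.1 hb2 with h | h
    · exact absurd h (two_ne_zero_zmod hp2)
    · exact h
  apply e.injective
  rw [hab', Equiv.apply_symm_apply, hb]; ring

/-- Doubly transitive case: the parity argument for symmetric block structures. -/
theorem fix_of_two_transitive (hp2 : p ≠ 2) (G : Subgroup (Equiv.Perm α)) (H : Subgroup G)
    (hnd : ¬ p ∣ Nat.card H) (e : α ≃ ZMod p) (τ' : G)
    (he : ∀ x, e ((τ' : Equiv.Perm α) x) = e x + 1)
    (hdec : ∀ g : G, ∃ h ∈ H, ∃ m : ℕ, g = τ' ^ m * h)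
    (h₀ : G) (hh₀ : h₀ ∈ H) (hrefl : ∀ x, e ((h₀ : Equiv.Perm α) x) = - e x)
    (h2t : MulAction.IsMultiplyPretransitive G α 2)
    (h' : G) (hh' : h' ∈ H) : (h' : Equiv.Perm α) (e.symm 0) = e.symm 0 := by
  classical
  have h2ne := two_ne_zero_zmod (p := p) hp2
  let Dα : α → Prop := fun x => ∃ k : G, k ∈ H ∧ (k : Equiv.Perm α) (e.symm 0) = x
  have hDH : ∀ k : G, k ∈ H → ∀ x, Dα ((k : Equiv.Perm α) x) ↔ Dα x := by
    intro k hk x
    constructor
    · rintro ⟨k', hk', h1⟩
      refine ⟨k⁻¹ * k', H.mul_mem (H.inv_mem hk) hk', ?_⟩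
      have h3 : ((k⁻¹ * k' : G) : Equiv.Perm α) (e.symm 0)
          = ((k⁻¹ : G) : Equiv.Perm α) ((k' : Equiv.Perm α) (e.symm 0)) := rfl
      rw [h3, h1]
      simp
    · rintro ⟨k', hk', rfl⟩
      exact ⟨k * k', H.mul_mem hk hk', rfl⟩
  let D' : Finset (ZMod p) := Finset.univ.filter (fun y => Dα (e.symm y))
  have hD' : ∀ y, y ∈ D' ↔ Dα (e.symm y) := by
    intro y; simp only [D', Finset.mem_filter, Finset.mem_univ, true_and]
  have hD0 : (0 : ZMod p) ∈ D' := (hD' 0).2 ⟨1, H.one_mem, rfl⟩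
  have hDneg : ∀ y, y ∈ D' → -y ∈ D' := by
    intro y hy
    rw [hD'] at hy ⊢
    have h1 := (hDH h₀ hh₀ (e.symm y)).2 hy
    have e1 : (h₀ : Equiv.Perm α) (e.symm y) = e.symm (-y) := by
      apply e.injective; rw [hrefl]; simp
    rwa [e1] at h1
  have hDtop : ¬ (∀ y, y ∈ D') := by
    intro hall
    apply hnd
    have horb : MulAction.orbit H (e.symm 0) = Set.univ := by
      ext x
      simp only [Set.mem_univ, iff_true]
      obtain ⟨k, hk, hkx⟩ := (hD' (e x)).1 (hall (e x))
      rw [Equiv.symm_apply_apply] at hkx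
      exact ⟨⟨k, hk⟩, hkx⟩
    have h1 := MulAction.index_stabilizer (G := H) (x := e.symm 0)
    rw [horb, Set.ncard_univ, Nat.card_eq_fintype_card, card_eq e] at h1
    rw [← h1]
    exact Subgroup.index_dvd_card _
  let Inc : α → ZMod p → Prop := fun x i => e x - i ∈ D'
  have hInc : ∀ (g : G) (i : ZMod p), ∃ i' : ZMod p,
      ∀ x, Inc x i ↔ Inc ((g : Equiv.Perm α) x) i' := by
    intro g i
    obtain ⟨k, hk, m, hm⟩ := hdec (g * τ' ^ i.val)
    refine ⟨(m : ZMod p), fun x => ?_⟩
    have h1 : ((τ' : Equiv.Perm α) ^ i.val) (e.symm (e x - i)) = x := by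
      apply e.injective
      rw [e_pow e _ he, Equiv.apply_symm_apply, ZMod.natCast_zmod_val]; ring
    have h2 : (g : Equiv.Perm α) x
        = ((τ' : Equiv.Perm α) ^ m) ((k : Equiv.Perm α) (e.symm (e x - i))) := by
      have h3 := congrArg (fun u : G => (u : Equiv.Perm α) (e.symm (e x - i))) hm
      simp only [Subgroup.coe_mul, Subgroup.coe_pow, Equiv.Perm.coe_mul, Function.comp_apply]
        at h3
      rw [h1] at h3
      exact h3
    show e x - i ∈ D' ↔ e ((g : Equiv.Perm α) x) - m ∈ D'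
    rw [h2, e_pow e _ he, hD', hD']
    have e1 : e ((k : Equiv.Perm α) (e.symm (e x - i))) + m - m
        = e ((k : Equiv.Perm α) (e.symm (e x - i))) := by ring
    rw [e1, Equiv.symm_apply_apply]
    exact (hDH k hk _).symm
  have hdist : ∀ i₁ i₂ : ZMod p, (∀ x, Inc x i₁ ↔ Inc x i₂) → i₁ = i₂ := by
    intro i₁ i₂ hi
    by_contra hne
    apply hDtop
    have hδ : i₁ - i₂ ≠ 0 := sub_ne_zero.2 hne
    have hstep : ∀ y, y ∈ D' → y + (i₁ - i₂) ∈ D' := by
      intro y hy
      have h3 : Inc (e.symm (y + i₁)) i₁ := by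
        show e (e.symm (y + i₁)) - i₁ ∈ D'
        rw [Equiv.apply_symm_apply, add_sub_cancel_right]; exact hy
      have h4 : e (e.symm (y + i₁)) - i₂ ∈ D' := (hi _).1 h3
      rw [Equiv.apply_symm_apply] at h4
      have h5 : y + i₁ - i₂ = y + (i₁ - i₂) := by ring
      rwa [h5] at h4
    have hmul : ∀ n : ℕ, (n : ZMod p) * (i₁ - i₂) ∈ D' := by
      intro n
      induction n with
      | zero => simpa using hD0
      | succ n ih =>
        have h6 := hstep _ ih
        have h7 : ((n + 1 : ℕ) : ZMod p) * (i₁ - i₂) = (n : ZMod p) * (i₁ - i₂) + (i₁ - i₂) := by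
          push_cast; ring
        rwa [h7]
    intro y
    have h8 := hmul (y * (i₁ - i₂)⁻¹).val
    rwa [ZMod.natCast_zmod_val, mul_assoc, inv_mul_cancel₀ hδ, mul_one] at h8
  let n : α → α → ℕ := fun x x' => (Finset.univ.filter (fun i => Inc x i ∧ Inc x' i)).card
  have hnle : ∀ (g : G) (x x' : α),
      n x x' ≤ n ((g : Equiv.Perm α) x) ((g : Equiv.Perm α) x') := by
    intro g x x'
    choose σ hσ using hInc g
    apply Finset.card_le_card_of_injOn σ
    · intro i hi
      simp only [Finset.coe_filter, Finset.mem_univ, true_and, Set.mem_setOf_eq] at hi ⊢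
      exact ⟨(hσ i x).1 hi.1, (hσ i x').1 hi.2⟩
    · intro i₁ _ i₂ _ h12
      apply hdist
      intro y
      rw [hσ i₁ y, hσ i₂ y, h12]
  have hneq : ∀ (g : G) (x x' : α),
      n ((g : Equiv.Perm α) x) ((g : Equiv.Perm α) x') = n x x' := by
    intro g x x'
    apply le_antisymm _ (hnle g x x')
    have h3 := hnle g⁻¹ ((g : Equiv.Perm α) x) ((g : Equiv.Perm α) x')
    have e1 : ∀ z, ((g⁻¹ : G) : Equiv.Perm α) ((g : Equiv.Perm α) z) = z := by
      intro z; simp
    rwa [e1, e1] at h3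
  let mm : ZMod p → ℕ := fun d => (Finset.univ.filter (fun y => y ∈ D' ∧ y + d ∈ D')).card
  have hnm : ∀ x x', n x x' = mm (e x' - e x) := by
    intro x x'
    apply Finset.card_bij (fun i _ => e x - i)
    · intro i hi
      simp only [Finset.mem_filter, Finset.mem_univ, true_and] at hi ⊢
      refine ⟨hi.1, ?_⟩
      have h3 : e x - i + (e x' - e x) = e x' - i := by ring
      rw [h3]; exact hi.2
    · intro i₁ _ i₂ _ h
      exact sub_right_injective h
    · intro y hy
      simp only [Finset.mem_filter, Finset.mem_univ, true_and] at hy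
      refine ⟨e x - y, ?_, by ring⟩
      simp only [Finset.mem_filter, Finset.mem_univ, true_and]
      constructor
      · show e x - (e x - y) ∈ D'
        rw [sub_sub_cancel]; exact hy.1
      · show e x' - (e x - y) ∈ D'
        have h3 : e x' - (e x - y) = y + (e x' - e x) := by ring
        rw [h3]; exact hy.2
  have hmconst : ∀ d d' : ZMod p, d ≠ 0 → d' ≠ 0 → mm d = mm d' := by
    intro d d' hd hd'
    have hx : e.symm 0 ≠ e.symm d := fun h => hd (e.symm.injective h).symm
    have hx' : e.symm 0 ≠ e.symm d' := fun h => hd' (e.symm.injective h).symm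
    obtain ⟨g, hg1, hg2⟩ := MulAction.is_two_pretransitive_iff.mp h2t hx hx'
    have h3 := hneq g (e.symm 0) (e.symm d)
    rw [show (g : Equiv.Perm α) (e.symm 0) = e.symm 0 from hg1,
      show (g : Equiv.Perm α) (e.symm d) = e.symm d' from hg2, hnm, hnm] at h3
    simpa using h3.symm
  have hpar : ∀ d : ZMod p, ((mm d : ℕ) : ZMod 2) = if d * 2⁻¹ ∈ D' then 1 else 0 := by
    intro d
    have h3 := card_mod_two_of_involution
      (Finset.univ.filter (fun y => y ∈ D' ∧ y + d ∈ D')) (fun y => -y - d) (-(d * 2⁻¹))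
      ?_ ?_ ?_
    · have h4 : (-(d * 2⁻¹) ∈ Finset.univ.filter (fun y => y ∈ D' ∧ y + d ∈ D'))
          ↔ d * 2⁻¹ ∈ D' := by
        simp only [Finset.mem_filter, Finset.mem_univ, true_and]
        have e1 : -(d * 2⁻¹) + d = d * 2⁻¹ := by field_simp; ring
        rw [e1]
        constructor
        · exact fun h => h.2
        · exact fun h => ⟨hDneg _ h, h⟩
      show ((Finset.univ.filter (fun y => y ∈ D' ∧ y + d ∈ D')).card : ZMod 2) = _
      rw [h3]
      by_cases h5 : d * 2⁻¹ ∈ D'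
      · rw [if_pos h5, if_pos (h4.2 h5)]
      · rw [if_neg h5, if_neg (fun h => h5 (h4.1 h))]
    · intro y hy
      simp only [Finset.mem_filter, Finset.mem_univ, true_and] at hy ⊢
      refine ⟨?_, ?_⟩
      · have h6 := hDneg _ hy.2
        have e1 : -(y + d) = -y - d := by ring
        rwa [e1] at h6
      · have h6 := hDneg _ hy.1
        have e1 : -y - d + d = -y := by ring
        rwa [e1]
    · intro y; ring
    · intro y
      constructor
      · intro h
        have h6 : 2 * y = -d := by linear_combination -h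
        have h7 : y = (2 * y) * 2⁻¹ := by field_simp
        rw [h7, h6]; ring
      · intro h
        rw [h]
        field_simp
        ring
  have hall : ∀ z z' : ZMod p, z ≠ 0 → z' ≠ 0 → (z ∈ D' ↔ z' ∈ D') := by
    intro z z' hz hz'
    have e1 := hpar (2 * z)
    have e2 := hpar (2 * z')
    rw [hmconst (2 * z) (2 * z') (mul_ne_zero h2ne hz) (mul_ne_zero h2ne hz')] at e1
    rw [e1] at e2
    have e3 : 2 * z * 2⁻¹ = z := by field_simp
    have e4 : 2 * z' * 2⁻¹ = z' := by field_simp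
    rw [e3, e4] at e2
    by_cases hA : z ∈ D' <;> by_cases hB : z' ∈ D' <;> simp [hA, hB] at e2 ⊢
  by_contra hfix
  have hz : e ((h' : Equiv.Perm α) (e.symm 0)) ≠ 0 := fun h =>
    hfix (by apply e.injective; rw [h, Equiv.apply_symm_apply])
  have hzD : e ((h' : Equiv.Perm α) (e.symm 0)) ∈ D' :=
    (hD' _).2 ⟨h', hh', by rw [Equiv.symm_apply_apply]⟩
  apply hDtop
  intro y
  by_cases hy : y = 0
  · rw [hy]; exact hD0
  · exact (hall _ _ hz hy).1 hzD

end Refl3

end Cfsg.Agent.Helper2.BurnsidePrime
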