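import Mathlib
import Cfsg.Agent.Helper2.ThreeTransHom

set_option autoImplicit false

namespace Cfsg.Agent.Helper2.ThreeTrans

open MulAction
open scoped Pointwise

variable {G : Type*} [Group G] {Ω : Type*} [Fintype Ω] [DecidableEq Ω] [MulAction G Ω]

open Classical in
/-- The linear map attached to a relation between points and pairs. -/
noncomputable def relMap (K : Type*) [Field K] (Q : Ω → Finset Ω → Prop) :
    (Ω → K) →ₗ[K] (Set.powersetCard Ω 2 → K) where
  toFun f P := ∑ x, if Q x P.1 then f x else 0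
  map_add' f₁ f₂ := by
    ext P
    simp only [Pi.add_apply]
    rw [← Finset.sum_add_distrib]
    refine Finset.sum_congr rfl fun x _ => ?_
    split_ifs <;> simp
  map_smul' a f := by
    ext P
    simp only [Pi.smul_apply, smul_eq_mul, RingHom.id_apply]
    rw [Finset.mul_sum]
    refine Finset.sum_congr rfl fun x _ => ?_
    split_ifs <;> simp

open Classical in
theorem relMap_apply (K : Type*) [Field K] (Q : Ω → Finset Ω → Prop) (f : Ω → K)
    (P : Set.powersetCard Ω 2) : relMap K Q f P = ∑ x, if Q x P.1 then f x else 0 := rfl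

theorem relMap_permRep (K : Type*) [Field K] (Q : Ω → Finset Ω → Prop)
    (hQ : ∀ (u : G) (x : Ω) (P : Finset Ω), Q (u • x) (u • P) ↔ Q x P) (g : G) (f : Ω → K) :
    relMap K Q (Cfsg.permRep K G Ω g f)
      = Cfsg.permRep K G (Set.powersetCard Ω 2) g (relMap K Q f) := by
  classical
  ext P
  have e1 : Cfsg.permRep K G (Set.powersetCard Ω 2) g (relMap K Q f) P
      = relMap K Q f (g⁻¹ • P) := rfl
  have e2 : ∀ x, Cfsg.permRep K G Ω g f x = f (g⁻¹ • x) := fun x => rfl
  rw [e1, relMap_apply, relMap_apply]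
  simp only [e2]
  rw [← Equiv.sum_comp (MulAction.toPerm g) (fun x => if Q x P.1 then f (g⁻¹ • x) else 0)]
  refine Finset.sum_congr rfl fun y _ => ?_
  simp only [MulAction.toPerm_apply, inv_smul_smul]
  have h3 : Q (g • y) P.1 ↔ Q y (g⁻¹ • P).1 := by
    rw [Set.powersetCard.coe_smul, ← hQ g y (g⁻¹ • P.1), smul_inv_smul]
  by_cases h : Q (g • y) P.1
  · rw [if_pos h, if_pos (h3.1 h)]
  · rw [if_neg h, if_neg (fun h' => h (h3.2 h'))]

theorem relMap_one (K : Type*) [Field K] (Q : Ω → Finset Ω → Prop)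
    (hQ : ∀ (u : G) (x : Ω) (P : Finset Ω), Q (u • x) (u • P) ↔ Q x P)
    (h2 : IsMultiplyPretransitive G Ω 2) (b c : Ω) (hbc : b ≠ c) (P : Set.powersetCard Ω 2) :
    relMap K Q (fun _ => (1 : K)) P = ((Set.ncard {x | Q x {b, c}} : ℕ) : K) := by
  classical
  rw [relMap_apply, Finset.sum_boole]
  congr 1
  obtain ⟨y, z, hyz, hP⟩ := Finset.card_eq_two.1 P.2
  rw [is_two_pretransitive_iff] at h2
  obtain ⟨g, hgy, hgz⟩ := h2 hbc hyz
  have hP' : P.1 = g • ({b, c} : Finset Ω) := by
    rw [hP, Finset.smul_finset_insert, Finset.smul_finset_singleton, hgy, hgz]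
  have h3 : {x | Q x P.1} = (fun x => g • x) '' {x | Q x {b, c}} := by
    ext x
    simp only [Set.mem_setOf_eq, Set.mem_image]
    constructor
    · intro hx
      refine ⟨g⁻¹ • x, ?_, smul_inv_smul g x⟩
      rw [← hQ g (g⁻¹ • x) {b, c}, smul_inv_smul, ← hP']
      exact hx
    · rintro ⟨w, hw, rfl⟩
      rw [hP', hQ]
      exact hw
  rw [← Set.ncard_image_of_injective _ (MulAction.injective g), ← h3,
    Set.ncard_eq_toFinset_card']
  congr 1
  ext x
  simp

theorem relMap_single (K : Type*) [Field K] (Q : Ω → Finset Ω → Prop) (y : Ω)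
    (P : Set.powersetCard Ω 2) [Decidable (Q y P.1)] :
    relMap K Q (Pi.single y (1 : K)) P = if Q y P.1 then 1 else 0 := by
  classical
  rw [relMap_apply, Finset.sum_eq_single y]
  · rw [Pi.single_eq_same]
    split_ifs <;> rfl
  · intro x _ hx
    rw [Pi.single_eq_of_ne hx]
    split_ifs <;> rfl
  · intro h
    exact absurd (Finset.mem_univ y) h

/-- From an invariant relation separating the points off a pair, a non-zero intertwiner from the
sum-zero functions to the functions on pairs that kills the constants. -/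
theorem exists_intertwiner (K : Type*) [Field K] (h2 : IsMultiplyPretransitive G Ω 2)
    (R : Ω → Finset Ω → Prop) (b c x₁ x₂ : Ω)
    (hR : ∀ (u : G) (x : Ω) (P : Finset Ω), R (u • x) (u • P) ↔ R x P) (hbc : b ≠ c)
    (hx₁ : R x₁ {b, c}) (hx₂b : x₂ ≠ b) (hx₂c : x₂ ≠ c) (hx₂ : ¬ R x₂ {b, c})
    (hRbc : ∀ x, R x {b, c} → x ≠ b ∧ x ≠ c) :
    ∃ f : Representation.IntertwiningMap (Cfsg.permSumZero K G Ω).toRepresentation
        (Cfsg.permRep K G (Set.powersetCard Ω 2)),
      (∀ v : (Cfsg.permSumZero K G Ω).toSubmodule,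
        (v : Ω → K) ∈ (Cfsg.permConstants K G Ω).toSubmodule → f v = 0) ∧ f ≠ 0 := by
  classical
  let R₂ : Ω → Finset Ω → Prop := fun x P => x ∉ P ∧ ¬ R x P
  have hR₂ : ∀ (u : G) (x : Ω) (P : Finset Ω), R₂ (u • x) (u • P) ↔ R₂ x P := by
    intro u x P
    simp only [R₂, Finset.smul_mem_smul_finset_iff, hR]
  obtain ⟨α, β, hαβ, hne⟩ : ∃ α β : K,
      α * ((Set.ncard {x | R x {b, c}} : ℕ) : K) + β * ((Set.ncard {x | R₂ x {b, c}} : ℕ) : K) = 0
        ∧ (α ≠ 0 ∨ β ≠ 0) := by
    by_cases h : ((Set.ncard {x | R x {b, c}} : ℕ) : K) = 0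
    · exact ⟨1, 0, by rw [h]; ring, Or.inl one_ne_zero⟩
    · exact ⟨((Set.ncard {x | R₂ x {b, c}} : ℕ) : K), -((Set.ncard {x | R x {b, c}} : ℕ) : K),
        by ring, Or.inr (neg_ne_zero.2 h)⟩
  let ψ : (Ω → K) →ₗ[K] (Set.powersetCard Ω 2 → K) := α • relMap K R + β • relMap K R₂
  have hψ : ∀ (g : G) (f : Ω → K), ψ (Cfsg.permRep K G Ω g f)
      = Cfsg.permRep K G (Set.powersetCard Ω 2) g (ψ f) := by
    intro g f
    simp only [ψ, LinearMap.add_apply, LinearMap.smul_apply, relMap_permRep K R hR,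
      relMap_permRep K R₂ hR₂, map_add, map_smul]
  have hψ1 : ψ (fun _ => 1) = 0 := by
    ext P
    simp only [ψ, LinearMap.add_apply, LinearMap.smul_apply, Pi.add_apply, Pi.smul_apply,
      smul_eq_mul, relMap_one K R hR h2 b c hbc P, relMap_one K R₂ hR₂ h2 b c hbc P]
    exact hαβ
  let fl : (Cfsg.permSumZero K G Ω).toSubmodule →ₗ[K] (Set.powersetCard Ω 2 → K) :=
    ψ ∘ₗ (Cfsg.permSumZero K G Ω).toSubmodule.subtype
  refine ⟨fl.intertwiningMap_of_isIntertwiningMap _ _ ?_, ?_, ?_⟩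
  · intro g v
    exact hψ g v.1
  · intro v hv
    obtain ⟨k, hk⟩ := Submodule.mem_span_singleton.1 hv
    show ψ v.1 = 0
    rw [← hk, map_smul, hψ1, smul_zero]
  · intro h0
    have hsum : ∀ y z : Ω, ((Pi.single y (1 : K) - Pi.single z (1 : K) : Ω → K))
        ∈ (Cfsg.permSumZero K G Ω).toSubmodule := by
      intro y z
      show ∑ x, ((Pi.single y (1 : K) - Pi.single z (1 : K) : Ω → K)) x = 0
      simp [Finset.sum_sub_distrib]
    have hval : ∀ y z : Ω, ψ ((Pi.single y (1 : K) - Pi.single z (1 : K) : Ω → K)) = 0 := by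
      intro y z
      have := congrArg (fun F => F ⟨_, hsum y z⟩) h0
      exact this
    have hb1 : ¬ R b {b, c} := fun h => (hRbc b h).1 rfl
    have hb2 : ¬ R₂ b {b, c} := fun h => h.1 (by simp)
    rcases hne with hα | hβ
    · have h3 := congrFun (hval x₁ b) ⟨{b, c}, Finset.card_pair hbc⟩
      simp only [ψ, map_sub, LinearMap.add_apply, LinearMap.smul_apply, Pi.sub_apply,
        Pi.add_apply, Pi.smul_apply, smul_eq_mul, relMap_single, Pi.zero_apply] at h3
      have hx₁2 : ¬ R₂ x₁ {b, c} := fun h => h.2 hx₁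
      rw [if_pos hx₁, if_neg hb1, if_neg hx₁2, if_neg hb2] at h3
      apply hα
      linear_combination h3
    · have h3 := congrFun (hval x₂ b) ⟨{b, c}, Finset.card_pair hbc⟩
      simp only [ψ, map_sub, LinearMap.add_apply, LinearMap.smul_apply, Pi.sub_apply,
        Pi.add_apply, Pi.smul_apply, smul_eq_mul, relMap_single, Pi.zero_apply] at h3
      have hx₂2 : R₂ x₂ {b, c} := ⟨by simp [hx₂b, hx₂c], hx₂⟩
      rw [if_neg hx₂, if_neg hb1, if_pos hx₂2, if_neg hb2] at h3
      apply hβ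
      linear_combination h3

end Cfsg.Agent.Helper2.ThreeTrans
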