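import Mathlib
import Cfsg.Agent.Helper2.BurnsidePrimeRefl3
import Cfsg.Agent.Helper2.ThreeTransHom2
import Cfsg.Agent.S0674

set_option autoImplicit false

namespace Cfsg.Agent.Helper2.BurnsidePrime

open scoped Pointwise

attribute [local instance 2000] Set.powersetCard.instMulActionElemFinset

section Three

variable {p : ℕ} [hp : Fact p.Prime] {α : Type*} [Fintype α] [DecidableEq α]

/-- Even Sylow normaliser gives a reflection about the origin in suitable coordinates. -/
theorem exists_reflection_centered (hp2 : p ≠ 2) (hα : Fintype.card α = p)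
    (G : Subgroup (Equiv.Perm α)) [MulAction.IsPretransitive G α] (P : Sylow p G)
    (heven : Even (Nat.card (Subgroup.normalizer ((P : Subgroup G) : Set G)))) :
    ∃ τ' : G, ∃ s' : G, ∃ e : α ≃ ZMod p,
      (∀ x, e ((τ' : Equiv.Perm α) x) = e x + 1) ∧
        ∀ x, e ((s' : Equiv.Perm α) x) = - e x := by
  obtain ⟨τ', -, s', e, he, b, hs⟩ := exists_reflection hp2 hα G P heven
  have h2 := two_ne_zero_zmod (p := p) hp2
  refine ⟨τ', s', e.trans (Equiv.addRight (-(b * 2⁻¹))), fun x => ?_, fun x => ?_⟩
  · simp only [Equiv.trans_apply, Equiv.coe_addRight]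
    rw [he]; ring
  · simp only [Equiv.trans_apply, Equiv.coe_addRight]
    rw [hs]
    have : b = 2 * (b * 2⁻¹) := by field_simp
    linear_combination this

/-- With a reflection and irreducible heart, no non-zero equivariant map from the heart to the
functions on pairs. -/
theorem hom_pairs_eq_zero (hp2 : p ≠ 2) (hα : Fintype.card α = p)
    (G : Subgroup (Equiv.Perm α)) [MulAction.IsPretransitive G α] (hG : ¬ Group.IsSolvable G)
    (τ' s' : G) (e : α ≃ ZMod p) (he : ∀ x, e ((τ' : Equiv.Perm α) x) = e x + 1)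
    (hs : ∀ x, e ((s' : Equiv.Perm α) x) = - e x)
    (f : Representation.IntertwiningMap (Cfsg.permSumZero (ZMod p) G α).toRepresentation
        (Cfsg.permRep (ZMod p) G (Set.powersetCard α 2)))
    (hf : ∀ v : (Cfsg.permSumZero (ZMod p) G α).toSubmodule,
        (v : α → ZMod p) ∈ (Cfsg.permConstants (ZMod p) G α).toSubmodule → f v = 0) : f = 0 := by
  classical
  have h2 := two_ne_zero_zmod (p := p) hp2
  have hp1 : 1 < p := hp.out.one_lt
  have hone : (fun _ => (1 : ZMod p) : α → ZMod p)
      ∈ (Cfsg.permSumZero (ZMod p) G α).toSubmodule := by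
    show ∑ _x : α, (1 : ZMod p) = 0
    rw [Finset.sum_const, Finset.card_univ, hα, nsmul_one, ZMod.natCast_self]
  have hCS : (Cfsg.permConstants (ZMod p) G α).toSubmodule
      ≤ (Cfsg.permSumZero (ZMod p) G α).toSubmodule := by
    intro v hv
    obtain ⟨k, rfl⟩ := Submodule.mem_span_singleton.1 hv
    exact (Cfsg.permSumZero (ZMod p) G α).toSubmodule.smul_mem k hone
  let W : Subrepresentation (Cfsg.permRep (ZMod p) G α) :=
    { toSubmodule := (LinearMap.ker f.toLinearMap).map
        (Cfsg.permSumZero (ZMod p) G α).toSubmodule.subtype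
      apply_mem_toSubmodule := by
        intro g v hv
        obtain ⟨w, hw, rfl⟩ := hv
        refine ⟨(Cfsg.permSumZero (ZMod p) G α).toRepresentation g w, ?_, rfl⟩
        have hw' : f w = 0 := hw
        show f ((Cfsg.permSumZero (ZMod p) G α).toRepresentation g w) = 0
        rw [f.isIntertwining, hw', map_zero] }
  have hW1 : (Cfsg.permConstants (ZMod p) G α).toSubmodule ≤ W.toSubmodule := by
    intro v hv
    exact ⟨⟨v, hCS hv⟩, hf ⟨v, hCS hv⟩ hv, rfl⟩
  have hW2 : W.toSubmodule ≤ (Cfsg.permSumZero (ZMod p) G α).toSubmodule := by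
    rintro v ⟨w, -, rfl⟩
    exact w.2
  have hX : (fun x => e x : α → ZMod p) ∈ (Cfsg.permSumZero (ZMod p) G α).toSubmodule := by
    show ∑ x : α, e x = 0
    rw [Equiv.sum_comp e (fun i => i)]
    have h3 := sum_zmod_pow (p := p) 1 hp1
    simp only [pow_one] at h3
    rw [h3, if_neg (by omega)]
  -- values of `e` under inverse group elements
  have key1 : ∀ (m : ℕ) (x : α), e (((τ' ^ m : G)⁻¹ : G) • x) = e x - m := by
    intro m x
    have h3 : ((τ' : Equiv.Perm α) ^ m) (((τ' ^ m : G)⁻¹ : G) • x) = x := by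
      have : (τ' ^ m : G) • (((τ' ^ m : G)⁻¹ : G) • x) = x := smul_inv_smul _ _
      exact this
    have h4 := e_pow e _ he m (((τ' ^ m : G)⁻¹ : G) • x)
    rw [h3] at h4
    rw [h4]; ring
  have key2 : ∀ x : α, e ((s'⁻¹ : G) • x) = - e x := by
    intro x
    have h3 : (s' : Equiv.Perm α) ((s'⁻¹ : G) • x) = x := by
      have : s' • ((s'⁻¹ : G) • x) = x := smul_inv_smul _ _
      exact this
    have h4 := hs ((s'⁻¹ : G) • x)
    rw [h3] at h4
    rw [h4]; ring
  -- `f` kills the coordinate function
  let Xv : (Cfsg.permSumZero (ZMod p) G α).toSubmodule := ⟨fun x => e x, hX⟩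
  let onev : (Cfsg.permSumZero (ZMod p) G α).toSubmodule := ⟨fun _ => 1, hone⟩
  have hfX : f Xv = 0 := by
    have hf1 : f onev = 0 :=
      hf onev (Submodule.subset_span (Set.mem_singleton _))
    have hτinv : ∀ (m : ℕ) (P : Set.powersetCard α 2),
        f Xv ((τ' ^ m : G)⁻¹ • P) = f Xv P := by
      intro m P
      have h3 := Representation.IntertwiningMap.isIntertwining _ _ f (τ' ^ m : G) Xv
      have h4 : (Cfsg.permSumZero (ZMod p) G α).toRepresentation (τ' ^ m : G)
          Xv = Xv - (m : ZMod p) • onev := by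
        apply Subtype.ext
        funext x
        show e (((τ' ^ m : G)⁻¹ : G) • x) = e x - (m : ZMod p) • (1 : ZMod p)
        rw [key1, smul_eq_mul, mul_one]
      rw [h4, map_sub, map_smul, hf1, smul_zero, sub_zero] at h3
      have h5 := congrFun h3 P
      exact h5.symm
    have hsinv : ∀ (P : Set.powersetCard α 2),
        f Xv ((s'⁻¹ : G) • P) = - f Xv P := by
      intro P
      have h3 := Representation.IntertwiningMap.isIntertwining _ _ f s' Xv
      have h4 : (Cfsg.permSumZero (ZMod p) G α).toRepresentation s'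
          Xv = - Xv := by
        apply Subtype.ext
        funext x
        show e ((s'⁻¹ : G) • x) = - e x
        exact key2 x
      rw [h4, map_neg] at h3
      have h5 := congrFun h3 P
      exact h5.symm
    funext P
    obtain ⟨x, y, hxy, hP⟩ := Finset.card_eq_two.1 P.2
    have hPP : ((τ' ^ (e x + e y).val : G)⁻¹ : G) • P = (s'⁻¹ : G) • P := by
      apply Subtype.ext
      rw [Set.powersetCard.coe_smul, Set.powersetCard.coe_smul, hP,
        Finset.smul_finset_insert, Finset.smul_finset_singleton,
        Finset.smul_finset_insert, Finset.smul_finset_singleton]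
      have e1 : ((τ' ^ (e x + e y).val : G)⁻¹ : G) • x = (s'⁻¹ : G) • y := by
        apply e.injective
        rw [key1, key2, ZMod.natCast_zmod_val]; ring
      have e2 : ((τ' ^ (e x + e y).val : G)⁻¹ : G) • y = (s'⁻¹ : G) • x := by
        apply e.injective
        rw [key1, key2, ZMod.natCast_zmod_val]; ring
      rw [e1, e2, Finset.pair_comm]
    have h6 := hτinv (e x + e y).val P
    rw [hPP, hsinv] at h6
    have h7 : (2 : ZMod p) * f Xv P = 0 := by linear_combination -h6
    rcases mul_eq_zero.1 h7 with h | h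
    · exact absurd h h2
    · exact h
  have hXW : (fun x => e x : α → ZMod p) ∈ W.toSubmodule :=
    ⟨Xv, hfX, rfl⟩
  rcases Cfsg.Agent.S0674.result hα G hG W hW1 hW2 with hW | hW
  · exfalso
    rw [hW] at hXW
    obtain ⟨k, hk⟩ := Submodule.mem_span_singleton.1 hXW
    have h3 := congrFun hk (e.symm 0)
    have h4 := congrFun hk (e.symm 1)
    simp only [Pi.smul_apply, smul_eq_mul, mul_one, Equiv.apply_symm_apply] at h3 h4
    rw [h3] at h4
    exact zero_ne_one h4
  · apply Representation.IntertwiningMap.ext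
    apply LinearMap.ext
    intro v
    have h3 : (v : α → ZMod p) ∈ W.toSubmodule := by rw [hW]; exact v.2
    obtain ⟨w, hw, hwv⟩ := h3
    have h4 : w = v := Subtype.ext hwv
    rw [← h4]
    exact hw

end Three

end Cfsg.Agent.Helper2.BurnsidePrime
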