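import Mathlib
import Cfsg.Agent.Helper2.BrTIM2

/-!
# Exceptional characters of an abelian T.I. subgroup, summarized on the level of `G`

For an abelian subgroup `K` of a group `G` of odd order which contains the centralizers of its
nonidentity elements and is a T.I. set, we record the family `E` of exceptional characters
together with all the numerical information needed later, in a form which does not mention the
normalizer of `K` as a type.
-/

set_option autoImplicit false
set_option linter.style.haveILetI false

namespace Cfsg.Agent.Helper2.CAOdd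

open Cfsg.Agent.Helper6 Cfsg.Agent.Helper2.BrTI
open scoped ComplexConjugate

universe u

variable {G : Type u} [Group G] {K : Subgroup G}

local notation "NK" => Subgroup.normalizer (K : Set G)

variable [Fintype G]

/-- an induced class function from the normalizer vanishes at elements no conjugate of which
lies in the support -/
theorem indFun_eq_zero_of_support (θ : ↥NK → ℂ)
    (hθ : ∀ n : ↥NK, (n : G) ∉ K ∨ n = 1 → θ n = 0) (x : G)
    (hx : ∀ g : G, g * x * g⁻¹ ∈ K → x = 1) : Cfsg.indFun NK θ x = 0 := by
  rw [indFun_apply]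
  rw [Finset.sum_eq_zero, mul_zero]
  intro y _
  unfold Cfsg.extendByZero
  by_cases hy : y⁻¹ * x * y ∈ NK
  · have h1 : y⁻¹ * x * y = ((⟨y⁻¹ * x * y, hy⟩ : ↥NK) : G) := rfl
    rw [h1, Subtype.val_injective.extend_apply]
    apply hθ
    by_cases hK : y⁻¹ * x * y ∈ K
    · right
      have h2 := hx y⁻¹ (by rw [inv_inv]; exact hK)
      apply Subtype.ext
      change y⁻¹ * x * y = 1
      rw [h2, mul_one, inv_mul_cancel]
    · left
      exact hK
  · rw [Function.extend_apply']
    · rfl
    · rintro ⟨n, hn⟩
      exact hy (hn ▸ n.2)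


open Classical in
/-- a sum over the nonidentity elements of `K`, written over `G` or over the normalizer -/
theorem sum_K_eq [Fintype ↥NK] (Φ : G → ℂ) :
    ∑ x : G, (if x ∈ K ∧ x ≠ 1 then Φ x else 0) =
      ∑ n : ↥NK, (if (n : G) ∈ K ∧ n ≠ 1 then Φ n else 0) := by
  classical
  rw [← Finset.sum_filter_add_sum_filter_not Finset.univ (fun x : G => x ∈ NK)]
  have h2 : ∑ x ∈ Finset.univ.filter (fun x : G => ¬ x ∈ NK),
      (if x ∈ K ∧ x ≠ 1 then Φ x else 0) = 0 := by
    apply Finset.sum_eq_zero
    intro x hx
    rw [Finset.mem_filter] at hx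
    rw [if_neg]
    intro h
    exact hx.2 (Subgroup.le_normalizer h.1)
  rw [h2, add_zero]
  rw [Finset.sum_subtype (Finset.univ.filter (fun x : G => x ∈ NK)) (p := fun x : G => x ∈ NK)
    (fun x => by simp)]
  apply Finset.sum_congr rfl
  intro n _
  have h3 : ((n : G) ≠ 1) ↔ (n ≠ 1) := by
    constructor
    · intro h h'
      exact h (by rw [h']; rfl)
    · intro h h'
      exact h (Subtype.ext h')
  simp only [h3]

open Classical in
/-- the number of nonidentity elements of `K`, as a sum over the normalizer -/
theorem card_K_sum [Fintype ↥NK] :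
    ∑ n : ↥NK, (if (n : G) ∈ K ∧ n ≠ 1 then (1 : ℂ) else 0) = (Nat.card K : ℂ) - 1 := by
  classical
  have h1 : ∑ n : ↥NK, (if (n : G) ∈ K ∧ n ≠ 1 then (1 : ℂ) else 0) =
      ∑ n : ↥NK, (if (n : G) ∈ K then (1 : ℂ) else 0) - 1 := by
    rw [eq_sub_iff_add_eq]
    rw [← Finset.add_sum_erase Finset.univ (fun n : ↥NK => if (n : G) ∈ K then (1 : ℂ) else 0)
      (Finset.mem_univ (1 : ↥NK))]
    rw [← Finset.add_sum_erase Finset.univ
      (fun n : ↥NK => if (n : G) ∈ K ∧ n ≠ 1 then (1 : ℂ) else 0) (Finset.mem_univ (1 : ↥NK))]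
    have h2 : ((1 : ↥NK) : G) ∈ K := by
      rw [Subgroup.coe_one]; exact K.one_mem
    simp only [h2, ne_eq, not_true_eq_false, and_false, if_false, if_true, zero_add]
    rw [add_comm]
    congr 1
    apply Finset.sum_congr rfl
    intro n hn
    rw [Finset.mem_erase] at hn
    simp only [hn.1, not_false_eq_true, and_true]
  rw [h1]
  congr 1
  rw [Finset.sum_ite, Finset.sum_const_zero, add_zero, Finset.sum_const, nsmul_eq_mul, mul_one]
  rw [← card_subgroupOf_normalizer K, Nat.card_eq_fintype_card, Fintype.card_subtype]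
  congr 2

end Cfsg.Agent.Helper2.CAOdd
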