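import Mathlib
import Cfsg.Agent.Helper2.CAOddA

/-!
# The family of exceptional characters of an abelian T.I. subgroup in a group of odd order
-/

set_option autoImplicit false
set_option linter.style.haveILetI false

namespace Cfsg.Agent.Helper2.CAOdd

open Cfsg.Agent.Helper6 Cfsg.Agent.Helper2.BrTI
open scoped ComplexConjugate

universe u

variable {G : Type u} [Group G] (K : Subgroup G)

local notation "NK" => Subgroup.normalizer (K : Set G)

variable [Fintype G]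

open Classical in
set_option maxHeartbeats 6400000 in
/-- the family of exceptional characters and its numerical invariants -/
theorem fam_exists [Fintype (Cfsg.IrrCharacter G)]
    (hTI : ∀ g : G, g ∉ NK → ∀ k ∈ K, g * k * g⁻¹ ∈ K → k = 1)
    (hC : ∀ k ∈ K, k ≠ 1 → Subgroup.centralizer ({k} : Set G) ≤ K)
    (hab : ∀ a ∈ K, ∀ b ∈ K, a * b = b * a) (hK1 : K ≠ ⊥) (hodd : Odd (Nat.card G)) :
    ∃ (e t : ℕ) (εz m : ℤ) (E : Finset (Cfsg.IrrCharacter G)) (c : Cfsg.IrrCharacter G → ℤ)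
      (d : ℕ),
      (εz = 1 ∨ εz = -1) ∧
      e * Nat.card K = Nat.card ↥NK ∧
      t * e + 1 = Nat.card K ∧ E.card = t ∧ 2 ≤ t ∧ Even t ∧
      (⟨fun _ => 1, isIrrCharacter_one⟩ : Cfsg.IrrCharacter G) ∉ E ∧
      (∀ χ ∈ E, (χ : G → ℂ) 1 = (d : ℂ)) ∧
      (∀ χ : Cfsg.IrrCharacter G, χ ∉ E → ∀ k ∈ K, k ≠ 1 → (χ : G → ℂ) k = (c χ : ℂ)) ∧
      (∀ χ ∈ E, c χ = 0) ∧
      c ⟨fun _ => 1, isIrrCharacter_one⟩ = 1 ∧
      ∑ χ, c χ ^ 2 = (e : ℤ) + 2 * εz * m - t * m ^ 2 ∧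
      (∀ k ∈ K, k ≠ 1 → ∑ χ ∈ E, (χ : G → ℂ) k = -(εz : ℂ) + t * m) ∧
      (∀ χ ∈ E, ∑ x : G, (if x ∈ K ∧ x ≠ 1 then (χ : G → ℂ) x * conj ((χ : G → ℂ) x) else 0) =
        (e : ℂ) * (Nat.card K : ℂ) - (e : ℂ) ^ 2 - 2 * εz * m * e +
          ((Nat.card K : ℂ) - 1) * (m : ℂ) ^ 2) ∧
      (∀ χ ∈ E, ∀ χ' ∈ E, ∀ x : G, (∀ g : G, g * x * g⁻¹ ∈ K → x = 1) →
        (χ : G → ℂ) x = (χ' : G → ℂ) x) := by
  haveI : Fintype ↥NK := Fintype.ofFinite _
  haveI : Finite (Cfsg.IrrCharacter ↥NK) := irr_finite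
  haveI : Fintype (Cfsg.IrrCharacter ↥NK) := Fintype.ofFinite _
  haveI : Fintype (Rel K) := Fintype.ofFinite _
  set e := (K.subgroupOf NK).index with he
  have hepos : 0 < e := Nat.pos_of_ne_zero Subgroup.index_ne_zero_of_finite
  -- a nonidentity element
  obtain ⟨k₀, hk₀K, hk₀1⟩ : ∃ k₀ : ↥NK, (k₀ : G) ∈ K ∧ k₀ ≠ 1 := by
    obtain ⟨x, hx1⟩ := (Subgroup.ne_bot_iff_exists_ne_one).mp hK1
    refine ⟨⟨(x : G), Subgroup.le_normalizer x.2⟩, x.2, fun h => hx1 (Subtype.ext ?_)⟩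
    have h2 := congrArg (fun n : ↥NK => (n : G)) h
    simpa using h2
  have hk₀1' : (k₀ : G) ≠ 1 := fun h => hk₀1 (Subtype.ext h)
  obtain ⟨hs1, hs2, hcard⟩ := nside K hC hab k₀ hk₀K hk₀1
  rw [← he] at hs2 hcard
  set t := Nat.card (Rel K) with ht
  -- cardinalities
  have hcardN : e * Nat.card K = Nat.card ↥NK := by
    rw [← card_subgroupOf_normalizer K, he, mul_comm]
    exact Subgroup.card_mul_index (K.subgroupOf NK)
  have hNdvd : Nat.card ↥NK ∣ Nat.card G := Subgroup.card_subgroup_dvd_card _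
  have hNodd : Odd (Nat.card ↥NK) := Odd.of_dvd_nat hodd hNdvd
  have heodd : Odd e := Odd.of_dvd_nat hNodd (Dvd.intro _ hcardN)
  have hKodd : Odd (Nat.card K) := Odd.of_dvd_nat hNodd (Dvd.intro_left _ hcardN)
  have hteven : Even t := by
    have h1 : Even (t * e) := by
      obtain ⟨a, ha⟩ := hKodd
      exact ⟨a, by omega⟩
    rcases (Nat.even_mul.mp h1) with h | h
    · exact h
    · exact absurd h (Nat.not_even_iff_odd.mpr heodd)
  have hK2 : 2 ≤ Nat.card K := by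
    have h1 : 1 < Nat.card (K.subgroupOf NK) := by
      haveI : Nontrivial (K.subgroupOf NK) := ⟨⟨⟨k₀, Subgroup.mem_subgroupOf.mpr hk₀K⟩, 1,
        fun h => hk₀1 (congrArg Subtype.val h)⟩⟩
      exact Finite.one_lt_card
    rw [card_subgroupOf_normalizer] at h1
    omega
  have ht2 : 2 ≤ t := by
    have h1 : t ≠ 0 := by
      intro h0
      rw [h0] at hcard
      omega
    obtain ⟨a, ha⟩ := hteven
    omega
  -- the data
  obtain ⟨D⟩ : Nonempty (Data K) := by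
    rcases tifrob_abelian K hTI hC hab with h | h
    · exfalso
      obtain ⟨h1, -⟩ := h
      change Nat.card (Rel K) = 1 at h1
      rw [← ht] at h1
      omega
    · obtain ⟨ε, f, hε, hf, hind⟩ := h
      exact ⟨⟨hTI, hC, hab, ε, hε, f, hf, hind⟩⟩
  obtain ⟨η₀, η₁, hη01⟩ : ∃ η₀ η₁ : Rel K, η₀ ≠ η₁ := by
    have h1 : 1 < Nat.card (Rel K) := by omega
    haveI : Nontrivial (Rel K) := (Finite.one_lt_card_iff_nontrivial).mp h1
    exact exists_pair_ne _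
  obtain ⟨εz, hεz, hεzC⟩ : ∃ εz : ℤ, (εz = 1 ∨ εz = -1) ∧ (εz : ℂ) = D.ε := by
    rcases D.hε with h | h
    · exact ⟨1, Or.inl rfl, by rw [h]; simp⟩
    · exact ⟨-1, Or.inr rfl, by rw [h]; simp⟩
  obtain ⟨c₀, hc₀⟩ := D.exc_const η₀
  have hrel_e : ∀ η : Rel K, Cfsg.charDegree (η.1 : ↥NK → ℂ) = e := by
    intro η
    have h1 := charDegree_cast_of_isCharacter (IsIrrCharacter.isCharacter η.1.2)
    rw [(rel_data K D.hC D.hab _ η.1.2 η.2).2] at h1
    exact_mod_cast h1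
  obtain ⟨m, hm, -⟩ := const_int K hK2 (IsIrrCharacter.isCharacter (D.f η₀).2)
    (IsIrrCharacter.isCharacter η₀.1.2) εz c₀ (by
      intro k hk hk1
      rw [hεzC]
      exact hc₀ k hk hk1)
  have hexc : ∀ η : Rel K, ∀ k : ↥NK, (k : G) ∈ K → k ≠ 1 →
      (D.f η : G → ℂ) k = D.ε * (η.1 : ↥NK → ℂ) k + m := by
    intro η k hk hk1
    have h1 := D.diff_apply η η₀ k
    have h2 := hc₀ k hk hk1
    rw [hm] at h2
    linear_combination h1 + h2
  have hz : ∀ χ : Cfsg.IrrCharacter G, (∀ η : Rel K, D.f η ≠ χ) → ∃ z : ℤ,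
      (∀ k : ↥NK, (k : G) ∈ K → k ≠ 1 → (χ : G → ℂ) k = z) := by
    intro χ hχ
    obtain ⟨c, hc⟩ := D.nonexc_const χ hχ
    obtain ⟨z, hz1, -⟩ := const_int K hK2 (IsIrrCharacter.isCharacter χ.2)
      (IsCharacter.zero (G := ↥NK)) 0 c (by
        intro k hk hk1
        rw [hc k hk hk1]
        simp)
    exact ⟨z, fun k hk hk1 => by rw [hc k hk hk1, hz1]⟩
  set c : Cfsg.IrrCharacter G → ℤ := fun χ =>
    if hχ : ∀ η : Rel K, D.f η ≠ χ then Classical.choose (hz χ hχ) else 0 with hcdef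
  have hc_non : ∀ χ : Cfsg.IrrCharacter G, (∀ η : Rel K, D.f η ≠ χ) →
      (∀ k : ↥NK, (k : G) ∈ K → k ≠ 1 → (χ : G → ℂ) k = c χ) := by
    intro χ hχ
    have := Classical.choose_spec (hz χ hχ)
    simp only [hcdef, dif_pos hχ]
    exact this
  have hc_exc : ∀ η : Rel K, c (D.f η) = 0 := by
    intro η
    simp only [hcdef]
    rw [dif_neg]
    push Not
    exact ⟨η, rfl⟩
  -- the trivial character
  set triv : Cfsg.IrrCharacter G := ⟨fun _ => 1, isIrrCharacter_one⟩ with htriv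
  have htriv_non : ∀ η : Rel K, D.f η ≠ triv := by
    intro η
    by_cases h : η = η₀
    · rw [h]; exact D.triv_not_exc η₀ η₁ hη01
    · exact D.triv_not_exc η η₀ h
  have hctriv : c triv = 1 := by
    have h1 := hc_non triv htriv_non k₀ hk₀K hk₀1
    have h2 : ((1 : ℤ) : ℂ) = (c triv : ℂ) := by
      rw [← h1]
      simp [htriv]
    exact_mod_cast h2.symm
  -- splitting sums
  set S : Finset (Cfsg.IrrCharacter G) := Finset.univ.image D.f with hS
  have hsplit : ∀ F : Cfsg.IrrCharacter G → ℂ,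
      ∑ χ, F χ = ∑ η : Rel K, F (D.f η) + ∑ χ ∈ Sᶜ, F χ := by
    intro F
    rw [← Finset.sum_add_sum_compl S F, hS, Finset.sum_image (fun a _ b _ h => D.hf h)]
  have hScompl : ∀ χ ∈ Sᶜ, ∀ η : Rel K, D.f η ≠ χ := by
    intro χ hχ η h
    rw [Finset.mem_compl, hS, Finset.mem_image] at hχ
    exact hχ ⟨η, Finset.mem_univ _, h⟩
  have hsumc : ∀ F : Cfsg.IrrCharacter G → ℂ, (∀ η, F (D.f η) = 0) →
      ∑ χ ∈ Sᶜ, F χ = ∑ χ, F χ := by
    intro F hF
    rw [hsplit F, Finset.sum_eq_zero (fun η _ => hF η), zero_add]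
  have htC : (∑ _η : Rel K, (1 : ℂ)) = (t : ℂ) := by
    rw [Finset.sum_const, Finset.card_univ, nsmul_eq_mul, mul_one, ht,
      Nat.card_eq_fintype_card]
  have hs1c : ∑ η : Rel K, conj ((η.1 : ↥NK → ℂ) k₀) = -1 := by
    rw [← map_sum, hs1]
    simp
  -- the diagonal relation
  have hG2 := column_orthogonality_aux (G := G) (k₀ : G) (k₀ : G)
  rw [if_pos (IsConj.refl _), centralizer_eq K D.hC D.hab _ hk₀K hk₀1', hsplit] at hG2
  have hG2a : ∑ η : Rel K, (D.f η : G → ℂ) k₀ * conj ((D.f η : G → ℂ) k₀) =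
      (Nat.card K : ℂ) - e - 2 * D.ε * m + t * (m : ℂ) ^ 2 := by
    have h1 : ∀ η : Rel K, (D.f η : G → ℂ) k₀ * conj ((D.f η : G → ℂ) k₀) =
        (η.1 : ↥NK → ℂ) k₀ * conj ((η.1 : ↥NK → ℂ) k₀) +
          D.ε * m * (η.1 : ↥NK → ℂ) k₀ + D.ε * m * conj ((η.1 : ↥NK → ℂ) k₀) +
          (m : ℂ) ^ 2 * 1 := by
      intro η
      rw [hexc η k₀ hk₀K hk₀1, map_add, map_mul, D.eps_conj, map_intCast]
      linear_combination ((η.1 : ↥NK → ℂ) k₀ * conj ((η.1 : ↥NK → ℂ) k₀)) * D.eps_sq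
    rw [Finset.sum_congr rfl (fun η _ => h1 η)]
    rw [Finset.sum_add_distrib, Finset.sum_add_distrib, Finset.sum_add_distrib,
      ← Finset.mul_sum, ← Finset.mul_sum, ← Finset.mul_sum, hs2, hs1, hs1c, htC]
    ring
  have hG2b : ∑ χ ∈ Sᶜ, (χ : G → ℂ) k₀ * conj ((χ : G → ℂ) k₀) =
      ∑ χ, ((c χ : ℤ) : ℂ) ^ 2 := by
    rw [← hsumc (fun χ => ((c χ : ℤ) : ℂ) ^ 2) (fun η => by rw [hc_exc]; simp)]
    apply Finset.sum_congr rfl
    intro χ hχ
    rw [hc_non χ (hScompl χ hχ) k₀ hk₀K hk₀1, map_intCast, sq]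
  rw [hG2a, hG2b] at hG2
  have hsq : ∑ χ, c χ ^ 2 = (e : ℤ) + 2 * εz * m - t * m ^ 2 := by
    have h1 : ((∑ χ, c χ ^ 2 : ℤ) : ℂ) = (((e : ℤ) + 2 * εz * m - t * m ^ 2 : ℤ) : ℂ) := by
      push_cast
      rw [hεzC]
      linear_combination hG2
    exact_mod_cast h1
  -- the degree
  obtain ⟨d, -, hd⟩ := IsIrrCharacter.apply_one_pos (D.f η₀).2
  have hmemS : ∀ χ : Cfsg.IrrCharacter G, χ ∈ S ↔ ∃ η : Rel K, D.f η = χ := by
    intro χ
    rw [hS, Finset.mem_image]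
    constructor
    · rintro ⟨η, -, h⟩
      exact ⟨η, h⟩
    · rintro ⟨η, h⟩
      exact ⟨η, Finset.mem_univ _, h⟩
  refine ⟨e, t, εz, m, S, c, d, hεz, hcardN, hcard, ?_, ht2, hteven, ?_, ?_, ?_, ?_, hctriv,
    hsq, ?_, ?_, ?_⟩
  · rw [hS, Finset.card_image_of_injective _ D.hf, Finset.card_univ, ht,
      Nat.card_eq_fintype_card]
  · intro h
    obtain ⟨η, hη⟩ := (hmemS _).mp h
    exact htriv_non η hη
  · intro χ hχ
    obtain ⟨η, rfl⟩ := (hmemS _).mp hχ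
    rw [D.deg_eq η η₀, hd]
  · intro χ hχ k hk hk1
    have h1 : ∀ η : Rel K, D.f η ≠ χ := fun η h => hχ ((hmemS _).mpr ⟨η, h⟩)
    exact hc_non χ h1 ⟨k, Subgroup.le_normalizer hk⟩ hk (fun h => hk1 (congrArg Subtype.val h))
  · intro χ hχ
    obtain ⟨η, rfl⟩ := (hmemS _).mp hχ
    exact hc_exc η
  · intro k hk hk1
    have hkN : k ∈ NK := Subgroup.le_normalizer hk
    have hk1' : (⟨k, hkN⟩ : ↥NK) ≠ 1 := fun h => hk1 (congrArg Subtype.val h)
    obtain ⟨hk_s1, -, -⟩ := nside K hC hab ⟨k, hkN⟩ hk hk1'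
    rw [hS, Finset.sum_image (fun a _ b _ h => D.hf h)]
    have h1 : ∀ η : Rel K, (D.f η : G → ℂ) k = D.ε * (η.1 : ↥NK → ℂ) ⟨k, hkN⟩ + m * 1 := by
      intro η
      rw [mul_one]
      exact hexc η ⟨k, hkN⟩ hk hk1'
    rw [Finset.sum_congr rfl (fun η _ => h1 η), Finset.sum_add_distrib, ← Finset.mul_sum,
      ← Finset.mul_sum, hk_s1, htC, hεzC]
    ring
  · intro χ hχ
    obtain ⟨η, rfl⟩ := (hmemS _).mp hχ
    rw [sum_K_eq]
    -- norm and mean of `η`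
    have hηirr := η.1.2
    have hηdata := rel_data K D.hC D.hab _ η.1.2 η.2
    have hnorm := classInner_irr_self hηirr
    have hηne : (η.1 : ↥NK → ℂ) ≠ fun _ => 1 := by
      intro h3
      obtain ⟨k, -, hk⟩ := η.2
      apply hk
      rw [h3]
    have hmean := classInner_irr_ne hηirr isIrrCharacter_one hηne
    unfold Cfsg.classInner at hnorm hmean
    have hN0 : (Nat.card ↥NK : ℂ) ≠ 0 := by
      have : 0 < Nat.card ↥NK := Nat.card_pos
      exact_mod_cast this.ne'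
    have hnorm' : ∑ n : ↥NK, (η.1 : ↥NK → ℂ) n * conj ((η.1 : ↥NK → ℂ) n) =
        (Nat.card ↥NK : ℂ) := by
      field_simp at hnorm
      exact hnorm
    have hmean' : ∑ n : ↥NK, (η.1 : ↥NK → ℂ) n = 0 := by
      have h1 : ∑ n : ↥NK, (η.1 : ↥NK → ℂ) n * conj ((fun _ : ↥NK => (1 : ℂ)) n) = 0 := by
        rcases mul_eq_zero.mp hmean with h | h
        · exact absurd (inv_eq_zero.mp h) hN0
        · exact h
      simpa using h1
    have hη1 : (η.1 : ↥NK → ℂ) 1 = (e : ℂ) := hηdata.2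
    have hηoff : ∀ n : ↥NK, ¬ ((n : G) ∈ K ∧ n ≠ 1) → n ≠ 1 → (η.1 : ↥NK → ℂ) n = 0 := by
      intro n hn hn1
      apply hηdata.1
      intro h
      exact hn ⟨h, hn1⟩
    -- restricted sums
    have hsumA : ∑ n : ↥NK, (if (n : G) ∈ K ∧ n ≠ 1 then
        (η.1 : ↥NK → ℂ) n * conj ((η.1 : ↥NK → ℂ) n) else 0) =
        (Nat.card ↥NK : ℂ) - (e : ℂ) ^ 2 := by
      rw [← hnorm', ← Finset.add_sum_erase Finset.univ
        (fun n : ↥NK => (η.1 : ↥NK → ℂ) n * conj ((η.1 : ↥NK → ℂ) n)) (Finset.mem_univ 1)]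
      rw [← Finset.add_sum_erase Finset.univ (fun n : ↥NK => if (n : G) ∈ K ∧ n ≠ 1 then
        (η.1 : ↥NK → ℂ) n * conj ((η.1 : ↥NK → ℂ) n) else 0) (Finset.mem_univ 1)]
      simp only [ne_eq, not_true_eq_false, and_false, if_false, zero_add]
      rw [hη1, Complex.conj_natCast]
      have : ∑ n ∈ Finset.univ.erase (1 : ↥NK), (if (n : G) ∈ K ∧ ¬ n = 1 then
          (η.1 : ↥NK → ℂ) n * conj ((η.1 : ↥NK → ℂ) n) else 0) =
          ∑ n ∈ Finset.univ.erase (1 : ↥NK),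
            (η.1 : ↥NK → ℂ) n * conj ((η.1 : ↥NK → ℂ) n) := by
        apply Finset.sum_congr rfl
        intro n hn
        rw [Finset.mem_erase] at hn
        split_ifs with h
        · rfl
        · rw [hηoff n h hn.1, zero_mul]
      rw [this]
      ring
    have hsumB : ∑ n : ↥NK, (if (n : G) ∈ K ∧ n ≠ 1 then (η.1 : ↥NK → ℂ) n else 0) =
        -(e : ℂ) := by
      have h0 := hmean'
      rw [← Finset.add_sum_erase Finset.univ (fun n : ↥NK => (η.1 : ↥NK → ℂ) n)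
        (Finset.mem_univ 1), hη1] at h0
      rw [← Finset.add_sum_erase Finset.univ (fun n : ↥NK => if (n : G) ∈ K ∧ n ≠ 1 then
        (η.1 : ↥NK → ℂ) n else 0) (Finset.mem_univ 1)]
      simp only [ne_eq, not_true_eq_false, and_false, if_false, zero_add]
      have : ∑ n ∈ Finset.univ.erase (1 : ↥NK), (if (n : G) ∈ K ∧ ¬ n = 1 then
          (η.1 : ↥NK → ℂ) n else 0) =
          ∑ n ∈ Finset.univ.erase (1 : ↥NK), (η.1 : ↥NK → ℂ) n := by
        apply Finset.sum_congr rfl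
        intro n hn
        rw [Finset.mem_erase] at hn
        split_ifs with h
        · rfl
        · rw [hηoff n h hn.1]
      rw [this]
      linear_combination h0
    have hsumBc : ∑ n : ↥NK, (if (n : G) ∈ K ∧ n ≠ 1 then conj ((η.1 : ↥NK → ℂ) n) else 0) =
        -(e : ℂ) := by
      have h1 := congrArg conj hsumB
      rw [map_sum, map_neg, Complex.conj_natCast] at h1
      rw [← h1]
      apply Finset.sum_congr rfl
      intro n _
      split_ifs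
      · rfl
      · simp
    have hterm : ∀ n : ↥NK, (if (n : G) ∈ K ∧ n ≠ 1 then
        (D.f η : G → ℂ) n * conj ((D.f η : G → ℂ) n) else 0) =
        (if (n : G) ∈ K ∧ n ≠ 1 then
          (η.1 : ↥NK → ℂ) n * conj ((η.1 : ↥NK → ℂ) n) else 0) +
        D.ε * m * (if (n : G) ∈ K ∧ n ≠ 1 then (η.1 : ↥NK → ℂ) n else 0) +
        D.ε * m * (if (n : G) ∈ K ∧ n ≠ 1 then conj ((η.1 : ↥NK → ℂ) n) else 0) +
        (m : ℂ) ^ 2 * (if (n : G) ∈ K ∧ n ≠ 1 then (1 : ℂ) else 0) := by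
      intro n
      split_ifs with h
      · rw [hexc η n h.1 h.2, map_add, map_mul, D.eps_conj, map_intCast]
        linear_combination ((η.1 : ↥NK → ℂ) n * conj ((η.1 : ↥NK → ℂ) n)) * D.eps_sq
      · ring
    rw [Finset.sum_congr rfl (fun n _ => hterm n)]
    rw [Finset.sum_add_distrib, Finset.sum_add_distrib, Finset.sum_add_distrib,
      ← Finset.mul_sum, ← Finset.mul_sum, ← Finset.mul_sum, hsumA, hsumB, hsumBc, card_K_sum,
      ← hcardN, hεzC]
    push_cast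
    ring
  · intro χ hχ χ' hχ' x hx
    obtain ⟨η, rfl⟩ := (hmemS _).mp hχ
    obtain ⟨ξ, rfl⟩ := (hmemS _).mp hχ'
    have h1 := congrFun (D.hind η ξ) x
    have hη := rel_data K D.hC D.hab _ η.1.2 η.2
    have hξ := rel_data K D.hC D.hab _ ξ.1.2 ξ.2
    rw [indFun_eq_zero_of_support _ (by
      intro n hn
      simp only [Pi.sub_apply]
      rcases hn with hn | hn
      · rw [hη.1 n hn, hξ.1 n hn, sub_zero]
      · rw [hn, hη.2, hξ.2, sub_self]) x hx] at h1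
    simp only [Pi.smul_apply, Pi.sub_apply, smul_eq_mul] at h1
    have hε0 : D.ε ≠ 0 := by
      rcases D.hε with h | h <;> rw [h] <;> norm_num
    rcases mul_eq_zero.mp h1.symm with h | h
    · exact absurd h hε0
    · linear_combination h

end Cfsg.Agent.Helper2.CAOdd
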