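import Mathlib
import Cfsg.Agent.Helper2.CAOddB

/-!
# Groups in which the centralizers of nonidentity elements are abelian: the partition
-/

set_option autoImplicit false
set_option linter.style.haveILetI false

namespace Cfsg.Agent.Helper2.CAOdd

open scoped ComplexConjugate

universe u

variable {G : Type u} [Group G]

/-- a nontrivial subgroup which is the centralizer of each of its nonidentity elements -/
def IsMaxAb (K : Subgroup G) : Prop :=
  K ≠ ⊥ ∧ ∀ k ∈ K, k ≠ 1 → Subgroup.centralizer ({k} : Set G) = K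

theorem mem_centralizer_singleton {x y : G} :
    y ∈ Subgroup.centralizer ({x} : Set G) ↔ x * y = y * x := by
  rw [Subgroup.mem_centralizer_iff]
  constructor
  · intro h
    exact h x rfl
  · intro h z hz
    rw [Set.mem_singleton_iff] at hz
    rw [hz]
    exact h

/-- in a CA-group the centralizers of commuting nonidentity elements coincide -/
theorem centralizer_eq_of_mem
    (hCA : ∀ x : G, x ≠ 1 → ∀ a ∈ Subgroup.centralizer ({x} : Set G),
      ∀ b ∈ Subgroup.centralizer ({x} : Set G), a * b = b * a)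
    {x y : G} (hx : x ≠ 1) (hy : y ≠ 1) (hxy : y ∈ Subgroup.centralizer ({x} : Set G)) :
    Subgroup.centralizer ({y} : Set G) = Subgroup.centralizer ({x} : Set G) := by
  have hxx : x ∈ Subgroup.centralizer ({x} : Set G) := mem_centralizer_singleton.mpr rfl
  have hyy : y ∈ Subgroup.centralizer ({y} : Set G) := mem_centralizer_singleton.mpr rfl
  have hyx : x ∈ Subgroup.centralizer ({y} : Set G) :=
    mem_centralizer_singleton.mpr (mem_centralizer_singleton.mp hxy).symm
  apply le_antisymm
  · intro z hz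
    exact mem_centralizer_singleton.mpr (hCA y hy x hyx z hz)
  · intro z hz
    exact mem_centralizer_singleton.mpr (hCA x hx y hxy z hz)

/-- the centralizer of a nonidentity element of a CA-group -/
theorem isMaxAb_centralizer
    (hCA : ∀ x : G, x ≠ 1 → ∀ a ∈ Subgroup.centralizer ({x} : Set G),
      ∀ b ∈ Subgroup.centralizer ({x} : Set G), a * b = b * a)
    {x : G} (hx : x ≠ 1) : IsMaxAb (Subgroup.centralizer ({x} : Set G)) := by
  constructor
  · intro h
    have hxx : x ∈ Subgroup.centralizer ({x} : Set G) := mem_centralizer_singleton.mpr rfl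
    rw [h, Subgroup.mem_bot] at hxx
    exact hx hxx
  · intro k hk hk1
    exact centralizer_eq_of_mem hCA hx hk1 hk

namespace IsMaxAb

variable {K : Subgroup G} (hK : IsMaxAb K)

include hK

theorem comm : ∀ a ∈ K, ∀ b ∈ K, a * b = b * a := by
  intro a ha b hb
  by_cases hb1 : b = 1
  · rw [hb1, mul_one, one_mul]
  · have h1 : a ∈ Subgroup.centralizer ({b} : Set G) := by rw [hK.2 b hb hb1]; exact ha
    exact (mem_centralizer_singleton.mp h1).symm

theorem cent_le : ∀ k ∈ K, k ≠ 1 → Subgroup.centralizer ({k} : Set G) ≤ K := by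
  intro k hk hk1
  rw [hK.2 k hk hk1]

theorem ti : ∀ g : G, g ∉ Subgroup.normalizer (K : Set G) → ∀ k ∈ K, g * k * g⁻¹ ∈ K → k = 1 := by
  intro g hg k hk hgk
  by_contra hk1
  apply hg
  have hgk1 : g * k * g⁻¹ ≠ 1 := by
    intro h
    apply hk1
    have : k = g⁻¹ * (g * k * g⁻¹) * g := by group
    rw [this, h]
    group
  rw [Subgroup.mem_normalizer_iff]
  intro h
  constructor
  · intro hh
    have h1 : g * h * g⁻¹ ∈ Subgroup.centralizer ({g * k * g⁻¹} : Set G) := by
      rw [mem_centralizer_singleton]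
      have h2 := hK.comm k hk h hh
      calc g * k * g⁻¹ * (g * h * g⁻¹) = g * (k * h) * g⁻¹ := by group
        _ = g * (h * k) * g⁻¹ := by rw [h2]
        _ = g * h * g⁻¹ * (g * k * g⁻¹) := by group
    rw [hK.2 _ hgk hgk1] at h1
    exact h1
  · intro hh
    have h1 : g * h * g⁻¹ ∈ Subgroup.centralizer ({g * k * g⁻¹} : Set G) := by
      rw [hK.2 _ hgk hgk1]; exact hh
    rw [mem_centralizer_singleton] at h1
    have h2 : h ∈ Subgroup.centralizer ({k} : Set G) := by
      rw [mem_centralizer_singleton]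
      have : k * h = g⁻¹ * (g * k * g⁻¹ * (g * h * g⁻¹)) * g := by group
      rw [this, h1]
      group
    rw [hK.2 k hk hk1] at h2
    exact h2

end IsMaxAb

/-- conjugate of a subgroup -/
def cj (g : G) (A : Subgroup G) : Subgroup G := A.comap (MulAut.conj g⁻¹).toMonoidHom

theorem mem_cj {g y : G} {A : Subgroup G} : y ∈ cj g A ↔ g⁻¹ * y * g ∈ A := by
  unfold cj
  rw [Subgroup.mem_comap]
  simp [MulAut.conj_apply]

theorem cj_one (A : Subgroup G) : cj 1 A = A := by
  ext y
  rw [mem_cj]
  simp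

theorem cj_cj (g h : G) (A : Subgroup G) : cj h (cj g A) = cj (h * g) A := by
  ext y
  rw [mem_cj, mem_cj, mem_cj]
  have : g⁻¹ * (h⁻¹ * y * h) * g = (h * g)⁻¹ * y * (h * g) := by group
  rw [this]

theorem centralizer_conj (g k : G) :
    Subgroup.centralizer ({g * k * g⁻¹} : Set G) = cj g (Subgroup.centralizer ({k} : Set G)) := by
  ext y
  rw [mem_cj, mem_centralizer_singleton, mem_centralizer_singleton]
  constructor
  · intro h
    have : k * (g⁻¹ * y * g) = g⁻¹ * (g * k * g⁻¹ * y) * g := by group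
    rw [this, h]
    group
  · intro h
    have : g * k * g⁻¹ * y = g * (k * (g⁻¹ * y * g)) * g⁻¹ := by group
    rw [this, h]
    group

theorem IsMaxAb.cj {K : Subgroup G} (hK : IsMaxAb K) (g : G) : IsMaxAb (cj g K) := by
  constructor
  · intro h
    apply hK.1
    rw [Subgroup.eq_bot_iff_forall] at h ⊢
    intro x hx
    have h1 : g * x * g⁻¹ ∈ CAOdd.cj g K := by
      rw [mem_cj]
      have : g⁻¹ * (g * x * g⁻¹) * g = x := by group
      rw [this]
      exact hx
    have h2 := h _ h1
    have : x = g⁻¹ * (g * x * g⁻¹) * g := by group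
    rw [this, h2]
    group
  · intro k hk hk1
    rw [mem_cj] at hk
    have hk1' : g⁻¹ * k * g ≠ 1 := by
      intro h
      apply hk1
      have : k = g * (g⁻¹ * k * g) * g⁻¹ := by group
      rw [this, h]
      group
    have h1 := hK.2 _ hk hk1'
    have h2 := centralizer_conj g (g⁻¹ * k * g)
    have h3 : g * (g⁻¹ * k * g) * g⁻¹ = k := by group
    rw [h3, h1] at h2
    exact h2

/-- conjugacy of subgroups -/
def cjSetoid (G : Type u) [Group G] : Setoid (Subgroup G) where
  r A B := ∃ g : G, B = cj g A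
  iseqv := by
    refine ⟨fun A => ⟨1, (cj_one A).symm⟩, ?_, ?_⟩
    · rintro A B ⟨g, rfl⟩
      refine ⟨g⁻¹, ?_⟩
      rw [cj_cj, inv_mul_cancel, cj_one]
    · rintro A B C ⟨g, rfl⟩ ⟨h, rfl⟩
      exact ⟨h * g, cj_cj g h A⟩

/-- the representative of the conjugacy class of a subgroup -/
noncomputable def rep (A : Subgroup G) : Subgroup G :=
  (Quotient.mk (cjSetoid G) A).out

theorem rep_spec (A : Subgroup G) : ∃ g : G, rep A = cj g A := by
  have h : (cjSetoid G).r (rep A) A := Quotient.exact (Quotient.out_eq _)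
  obtain ⟨g, hg⟩ := (cjSetoid G).iseqv.symm h
  exact ⟨g, hg⟩

theorem rep_eq_of_conj {A B : Subgroup G} (g : G) (h : B = cj g A) : rep A = rep B := by
  unfold rep
  congr 1
  exact Quotient.sound ⟨g, h⟩

/-- the existence of a system of representatives of the maximal abelian subgroups -/
theorem exists_reps [Finite G]
    (hCA : ∀ x : G, x ≠ 1 → ∀ a ∈ Subgroup.centralizer ({x} : Set G),
      ∀ b ∈ Subgroup.centralizer ({x} : Set G), a * b = b * a) :
    ∃ R : Finset (Subgroup G), (∀ K ∈ R, IsMaxAb K) ∧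
      (∀ x : G, x ≠ 1 → ∃ K ∈ R, ∃ g : G, g * x * g⁻¹ ∈ K) ∧
      (∀ K ∈ R, ∀ K' ∈ R, ∀ k ∈ K, k ≠ 1 → ∀ g : G, g * k * g⁻¹ ∈ K' → K = K') := by
  classical
  have hfin : Set.Finite {K : Subgroup G | ∃ A : Subgroup G, IsMaxAb A ∧ K = rep A} :=
    Set.toFinite _
  refine ⟨hfin.toFinset, ?_, ?_, ?_⟩
  · intro K hK
    rw [Set.Finite.mem_toFinset] at hK
    obtain ⟨A, hA, rfl⟩ := hK
    obtain ⟨g, hg⟩ := rep_spec A
    rw [hg]
    exact hA.cj g
  · intro x hx
    have hA := isMaxAb_centralizer hCA hx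
    obtain ⟨g, hg⟩ := rep_spec (Subgroup.centralizer ({x} : Set G))
    refine ⟨rep (Subgroup.centralizer ({x} : Set G)), ?_, g, ?_⟩
    · rw [Set.Finite.mem_toFinset]
      exact ⟨_, hA, rfl⟩
    · rw [hg, mem_cj]
      have : g⁻¹ * (g * x * g⁻¹) * g = x := by group
      rw [this]
      exact mem_centralizer_singleton.mpr rfl
  · intro K hK K' hK' k hk hk1 g hgk
    rw [Set.Finite.mem_toFinset] at hK hK'
    obtain ⟨A, hA, rfl⟩ := hK
    obtain ⟨A', hA', rfl⟩ := hK'
    obtain ⟨a, ha⟩ := rep_spec A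
    obtain ⟨a', ha'⟩ := rep_spec A'
    have hKm : IsMaxAb (rep A) := by rw [ha]; exact hA.cj a
    have hKm' : IsMaxAb (rep A') := by rw [ha']; exact hA'.cj a'
    have hgk1 : g * k * g⁻¹ ≠ 1 := by
      intro h
      apply hk1
      have : k = g⁻¹ * (g * k * g⁻¹) * g := by group
      rw [this, h]
      group
    have h1 : rep A' = cj g (rep A) := by
      rw [← hKm'.2 _ hgk hgk1, centralizer_conj, hKm.2 k hk hk1]
    -- `A'` is conjugate to `A`
    have h2 : A' = cj (a'⁻¹ * g * a) A := by
      have h3 : cj a' A' = cj g (cj a A) := by rw [← ha', ← ha]; exact h1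
      have h4 : cj a'⁻¹ (cj a' A') = A' := by rw [cj_cj, inv_mul_cancel, cj_one]
      rw [← h4, h3, cj_cj, cj_cj]
    exact rep_eq_of_conj _ h2

end Cfsg.Agent.Helper2.CAOdd
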