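import Mathlib
import Cfsg.Agent.Helper2.CAOddC
import Cfsg.Agent.Helper2.StrEmb3

/-!
# CA-groups of even order: the normalizer of the centralizer of an involution is strongly embedded
-/

set_option autoImplicit false
set_option linter.style.haveILetI false

namespace Cfsg.Agent.Helper2.CAEv

open Cfsg Cfsg.Agent.Helper2

universe u

variable {G : Type u} [Group G]

/-- a `p`-element normalizing `K`, with `p ∣ |K|`, centralizes a nonidentity element of `K` -/
theorem exists_fixed_of_zpowers [Finite G] {K : Subgroup G} {p : ℕ} [hp : Fact p.Prime] {y : G}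
    (hy : y ∈ Subgroup.normalizer (K : Set G)) {a : ℕ} (hya : orderOf y = p ^ a)
    (hpK : p ∣ Nat.card K) : ∃ x ∈ K, x ≠ 1 ∧ y * x * y⁻¹ = x := by
  set y' : ↥(Subgroup.normalizer (K : Set G)) := ⟨y, hy⟩ with hy'
  have hP : IsPGroup p ↥(Subgroup.zpowers y') := by
    apply IsPGroup.of_card (n := a)
    rw [Nat.card_zpowers, ← hya, hy', Subgroup.orderOf_mk]
  have h1 : (1 : ↥K) ∈ MulAction.fixedPoints ↥(Subgroup.zpowers y') ↥K := by
    intro z
    rw [Subgroup.smul_def, smul_one]
  obtain ⟨b, hb, hb1⟩ := hP.exists_fixed_point_of_prime_dvd_card_of_fixed_point (α := ↥K) hpK h1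
  refine ⟨b.1, b.2, ?_, ?_⟩
  · intro h
    exact hb1 (Subtype.ext h.symm)
  · have := hb ⟨y', Subgroup.mem_zpowers y'⟩
    exact congrArg Subtype.val this

variable {K : Subgroup G} (hK : CAOdd.IsMaxAb K)

include hK in
/-- a `p`-element normalizing `K`, with `p ∣ |K|`, lies in `K` -/
theorem mem_of_prime_pow [Finite G] {p : ℕ} [hp : Fact p.Prime] {y : G}
    (hy : y ∈ Subgroup.normalizer (K : Set G)) {a : ℕ} (hya : orderOf y = p ^ a)
    (hpK : p ∣ Nat.card K) : y ∈ K := by
  obtain ⟨x, hx, hx1, hyx⟩ := exists_fixed_of_zpowers hy hya hpK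
  rw [← hK.2 x hx hx1, CAOdd.mem_centralizer_singleton]
  calc x * y = (y * x * y⁻¹) * y := by rw [hyx]
    _ = y * x := by group

include hK in
/-- `K` acts semiregularly off the fixed point -/
theorem mem_normalizer_of_conj_mem [Finite G] {k g : G} (hk : k ∈ K) (hk1 : k ≠ 1)
    (h : g⁻¹ * k * g ∈ Subgroup.normalizer (K : Set G)) :
    g ∈ Subgroup.normalizer (K : Set G) := by
  have hn0 : orderOf k ≠ 0 := (orderOf_pos k).ne'
  have hn1 : orderOf k ≠ 1 := by
    intro h1
    exact hk1 (orderOf_eq_one_iff.mp h1)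
  set p := (orderOf k).minFac with hp
  have hpp : p.Prime := Nat.minFac_prime hn1
  haveI : Fact p.Prime := ⟨hpp⟩
  have hpd : p ∣ orderOf k := Nat.minFac_dvd _
  set k' := k ^ (orderOf k / p) with hk'
  have hk'o : orderOf k' = p := orderOf_pow_orderOf_div hn0 hpd
  have hk'K : k' ∈ K := K.pow_mem hk _
  have hk'1 : k' ≠ 1 := by
    intro h1
    rw [h1, orderOf_one] at hk'o
    exact hpp.one_lt.ne' hk'o.symm
  have hy' : g⁻¹ * k' * g ∈ Subgroup.normalizer (K : Set G) := by
    have e : g⁻¹ * k' * g = (g⁻¹ * k * g) ^ (orderOf k / p) := by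
      rw [hk']
      have := conj_pow (a := g⁻¹) (b := k) (i := orderOf k / p)
      rw [inv_inv] at this
      exact this.symm
    rw [e]
    exact Subgroup.pow_mem _ h _
  have hy'o : orderOf (g⁻¹ * k' * g) = p ^ 1 := by
    rw [pow_one, ← hk'o]
    have := orderOf_conj_eq g⁻¹ k'
    rw [inv_inv] at this
    exact this
  have hpK : p ∣ Nat.card K := by
    rw [← hk'o]
    have := orderOf_dvd_natCard (⟨k', hk'K⟩ : K)
    rwa [Subgroup.orderOf_mk] at this
  have hmem : g⁻¹ * k' * g ∈ K := mem_of_prime_pow hK hy' hy'o hpK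
  by_contra hg
  have hg' : g⁻¹ ∉ Subgroup.normalizer (K : Set G) := by
    intro h'
    apply hg
    have := inv_mem h'
    rwa [inv_inv] at this
  apply hk'1
  apply hK.ti g⁻¹ hg' k' hk'K
  rw [inv_inv]
  exact hmem

include hK in
/-- involutions of `N(K)` lie in `K` when `K` has even order -/
theorem invol_mem [Finite G] {t : G} (ht : orderOf t = 2) (htK : t ∈ K) {s : G}
    (hs : orderOf s = 2) (hsN : s ∈ Subgroup.normalizer (K : Set G)) : s ∈ K := by
  haveI : Fact (Nat.Prime 2) := ⟨Nat.prime_two⟩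
  apply mem_of_prime_pow hK hsN (p := 2) (a := 1) (by rw [hs, pow_one])
  exact even_iff_two_dvd.mp (even_card_of_invol K htK ht)

include hK in
/-- the normalizer of `K` is strongly embedded -/
theorem stronglyEmbedded [Finite G] {t : G} (ht : orderOf t = 2) (htK : t ∈ K)
    (hne : Subgroup.normalizer (K : Set G) ≠ ⊤) :
    Cfsg.IsStronglyEmbedded (Subgroup.normalizer (K : Set G)) := by
  apply stronglyEmbedded_of_invol hne
  · exact even_card_of_invol _ (Subgroup.le_normalizer htK) ht
  · intro s g hs hsN hsg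
    have hsK := invol_mem hK ht htK hs hsN
    rw [mem_cj_iff] at hsg
    exact mem_normalizer_of_conj_mem hK hsK (ne_one_of_orderOf_two hs) hsg

end Cfsg.Agent.Helper2.CAEv
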