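import Mathlib
import Cfsg.Agent.Helper2.CAEvA

/-!
# CA-groups of even order: the two-point stabilizer `D = N(K) ∩ N(K)^u`
-/

set_option autoImplicit false
set_option linter.style.haveILetI false

namespace Cfsg.Agent.Helper2.CAEv

open Cfsg Cfsg.Agent.Helper2

universe u

variable {G : Type u} [Group G] [Finite G]

section main

variable {K : Subgroup G} (hK : CAOdd.IsMaxAb K) {t : G} (ht : orderOf t = 2) (htK : t ∈ K)
  (hne : Subgroup.normalizer (K : Set G) ≠ ⊤) (u : G) (hu : orderOf u = 2)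
  (huH : u ∉ Subgroup.normalizer (K : Set G))

local notation "NK" => Subgroup.normalizer (K : Set G)

include hK huH in
theorem inter_inf : (NK ⊓ cj u NK) ⊓ K = ⊥ := by
  rw [eq_bot_iff]
  intro x hx
  rw [Subgroup.mem_inf, Subgroup.mem_inf] at hx
  rw [Subgroup.mem_bot]
  by_contra hx1
  apply huH
  have h2 := hx.1.2
  rw [mem_cj_iff] at h2
  exact mem_normalizer_of_conj_mem hK hx.2 hx1 h2

include hK ht htK in
theorem centralizer_eq : Subgroup.centralizer ({t} : Set G) = K :=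
  hK.2 t htK (ne_one_of_orderOf_two ht)

include hK ht htK hne hu huH in
theorem card_inter :
    Nat.card ↥(NK ⊓ cj u NK) = Nat.card {s : G // orderOf s = 2 ∧ s ∈ NK} := by
  have hSE := stronglyEmbedded hK ht htK hne
  have htN : t ∈ NK := Subgroup.le_normalizer htK
  let f : ↥(NK ⊓ cj u NK) → {s : G // orderOf s = 2 ∧ s ∈ NK} :=
    fun d => ⟨d.1 * t * d.1⁻¹, by
      have : d.1 * t * d.1⁻¹ = MulAut.conj d.1 t := rfl
      rw [this, MulEquiv.orderOf_eq]; exact ht,
      mul_mem (mul_mem (Subgroup.mem_inf.mp d.2).1 htN) (inv_mem (Subgroup.mem_inf.mp d.2).1)⟩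
  apply Nat.card_eq_of_bijective f
  constructor
  · intro d d' h
    have h1 : d.1 * t * d.1⁻¹ = d'.1 * t * d'.1⁻¹ := congrArg Subtype.val h
    have h2 : d'.1⁻¹ * d.1 ∈ Subgroup.centralizer ({t} : Set G) := by
      rw [Subgroup.mem_centralizer_singleton_iff]
      calc d'.1⁻¹ * d.1 * t = d'.1⁻¹ * (d.1 * t * d.1⁻¹) * d.1 := by group
        _ = d'.1⁻¹ * (d'.1 * t * d'.1⁻¹) * d.1 := by rw [h1]
        _ = t * (d'.1⁻¹ * d.1) := by group
    rw [centralizer_eq hK ht htK] at h2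
    have h3 : d'.1⁻¹ * d.1 ∈ (NK ⊓ cj u NK) ⊓ K :=
      Subgroup.mem_inf.mpr ⟨mul_mem (inv_mem d'.2) d.2, h2⟩
    rw [inter_inf hK u huH, Subgroup.mem_bot] at h3
    apply Subtype.ext
    calc d.1 = d'.1 * (d'.1⁻¹ * d.1) := by group
      _ = d'.1 := by rw [h3, mul_one]
  · rintro ⟨s, hs2, hsN⟩
    obtain ⟨d, hd, hdt⟩ := invol_conj_in_inter hSE hu huH ht htN hs2 hsN
    exact ⟨⟨d, hd⟩, Subtype.ext hdt⟩

include hK ht htK hne hu huH in
theorem exists_mul_eq (h : G) (hh : h ∈ NK) :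
    ∃ d ∈ NK ⊓ cj u NK, ∃ k ∈ K, d * k = h := by
  have hSE := stronglyEmbedded hK ht htK hne
  have htN : t ∈ NK := Subgroup.le_normalizer htK
  have h2 : orderOf (h * t * h⁻¹) = 2 := by
    have : h * t * h⁻¹ = MulAut.conj h t := rfl
    rw [this, MulEquiv.orderOf_eq]; exact ht
  have hN : h * t * h⁻¹ ∈ NK := mul_mem (mul_mem hh htN) (inv_mem hh)
  obtain ⟨d, hd, hdt⟩ := invol_conj_in_inter hSE hu huH ht htN h2 hN
  refine ⟨d, hd, d⁻¹ * h, ?_, by group⟩
  rw [← centralizer_eq hK ht htK, Subgroup.mem_centralizer_singleton_iff]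
  calc d⁻¹ * h * t = d⁻¹ * (h * t * h⁻¹) * h := by group
    _ = d⁻¹ * (d * t * d⁻¹) * h := by rw [hdt]
    _ = t * (d⁻¹ * h) := by group

include hK ht htK hne hu huH in
theorem inverts_inter : ∀ d ∈ NK ⊓ cj u NK, u * d * u⁻¹ = d⁻¹ := by
  have hSE := stronglyEmbedded hK ht htK hne
  have huu := mul_self_of_orderOf_two hu
  have huinv := inv_eq_self_of_orderOf_two hu
  set N := Subgroup.normalizer (K : Set G) with hN
  have hxy : ((1 : G) : G ⧸ N) ≠ ((u : G) : G ⧸ N) := by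
    rw [Ne, QuotientGroup.eq]; simpa using huH
  have hcard := card_invol_swap hSE _ _ hxy
  rw [← card_inter hK ht htK hne u hu huH] at hcard
  have hux : u • ((1 : G) : G ⧸ N) = ((u : G) : G ⧸ N) := by
    rw [MulAction.Quotient.smul_coe, smul_eq_mul, mul_one]
  have huy : u • ((u : G) : G ⧸ N) = ((1 : G) : G ⧸ N) := by
    rw [MulAction.Quotient.smul_coe, smul_eq_mul, huu]
  let Θ : {i : G // orderOf i = 2 ∧ i • ((1 : G) : G ⧸ N) = ((u : G) : G ⧸ N)} → ↥(N ⊓ cj u N) :=
    fun i => ⟨u * i.1, by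
      have hii := mul_self_of_orderOf_two i.2.1
      have h0 : i.1 • ((1 : G) : G ⧸ N) = ((u : G) : G ⧸ N) := i.2.2
      have hiy : i.1 • ((u : G) : G ⧸ N) = ((1 : G) : G ⧸ N) := by
        calc i.1 • ((u : G) : G ⧸ N) = i.1 • (i.1 • ((1 : G) : G ⧸ N)) := congrArg _ h0.symm
          _ = ((1 : G) : G ⧸ N) := by rw [← mul_smul, hii, one_smul]
      rw [Subgroup.mem_inf, mem_cj_iff]
      constructor
      · have : (u * i.1) • ((1 : G) : G ⧸ N) = ((1 : G) : G ⧸ N) := by
          rw [mul_smul, h0, huy]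
        rw [smul_coset_eq_iff] at this
        simpa using this
      · have : (i.1 * u) • ((1 : G) : G ⧸ N) = ((1 : G) : G ⧸ N) := by
          rw [mul_smul, hux, hiy]
        rw [smul_coset_eq_iff] at this
        have e : u⁻¹ * (u * i.1) * u = (1 : G)⁻¹ * (i.1 * u) * 1 := by group
        rw [e]; exact this⟩
  have hinj : Function.Injective Θ := by
    intro i j h
    have := congrArg Subtype.val h
    exact Subtype.ext (mul_left_cancel this)
  have hbij := hinj.bijective_of_nat_card_le hcard.symm.le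
  intro d hd
  obtain ⟨i, hi⟩ := hbij.2 ⟨d, hd⟩
  have hid : u * i.1 = d := congrArg Subtype.val hi
  have hii := mul_self_of_orderOf_two i.2.1
  have hi' : i.1 = u * d := by rw [← hid, ← mul_assoc, huu, one_mul]
  rw [hi'] at hii
  rw [huinv]
  apply eq_inv_of_mul_eq_one_left
  calc u * d * u * d = u * d * (u * d) := by group
    _ = 1 := hii

end main

end Cfsg.Agent.Helper2.CAEv
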