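import Mathlib
import Cfsg.Agent.Helper2.CAEvB
import Cfsg.Agent.Helper2.CIT3

/-!
# CA-groups of even order: the two-point stabilizer fixes exactly two points
-/

set_option autoImplicit false
set_option linter.style.haveILetI false

namespace Cfsg.Agent.Helper2.CAEv

open Cfsg Cfsg.Agent.Helper2

universe u

variable {G : Type u} [Group G] [Finite G]

section main

variable {K : Subgroup G} (hK : CAOdd.IsMaxAb K) {t : G} (ht : orderOf t = 2) (htK : t ∈ K)
  (hne : Subgroup.normalizer (K : Set G) ≠ ⊤)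
  (h2inv : ∃ s : G, orderOf s = 2 ∧ s ∈ Subgroup.normalizer (K : Set G) ∧ s ≠ t)
  (u : G) (hu : orderOf u = 2)
  (huH : u ∉ Subgroup.normalizer (K : Set G))

local notation "NK" => Subgroup.normalizer (K : Set G)

include hK ht htK hne h2inv hu huH in
theorem exists_ne_one_inter : ∃ d ∈ NK ⊓ cj u NK, d ≠ 1 := by
  have hcard := card_inter hK ht htK hne u hu huH
  obtain ⟨s, hs2, hsN, hst⟩ := h2inv
  by_contra hcon
  push Not at hcon
  have hbot : NK ⊓ cj u NK = ⊥ := by
    rw [eq_bot_iff]; intro x hx; rw [Subgroup.mem_bot]; exact hcon x hx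
  rw [hbot, Subgroup.card_bot] at hcard
  have hsub : Subsingleton {s : G // orderOf s = 2 ∧ s ∈ NK} :=
    (Nat.card_eq_one_iff_unique.mp hcard.symm).1
  have := Subsingleton.elim (⟨s, hs2, hsN⟩ : {s : G // orderOf s = 2 ∧ s ∈ NK})
    ⟨t, ht, Subgroup.le_normalizer htK⟩
  exact hst (congrArg Subtype.val this)

include hK ht htK hne h2inv hu huH in
/-- no involution centralizes `D` -/
theorem not_invol_centralizes_inter {c : G} (hc : orderOf c = 2)
    (hcD : ∀ d ∈ NK ⊓ cj u NK, c * d = d * c) : False := by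
  have hSE := stronglyEmbedded hK ht htK hne
  obtain ⟨d, hd, hd1⟩ := exists_ne_one_inter hK ht htK hne h2inv u hu huH
  obtain ⟨g, hg⟩ := isConj_iff.mp (isConj_of_invol hSE hc ht)
  -- `k = g d g⁻¹` commutes with `t`
  have hk : g * d * g⁻¹ ∈ K := by
    rw [← centralizer_eq hK ht htK, CAOdd.mem_centralizer_singleton, ← hg]
    calc g * c * g⁻¹ * (g * d * g⁻¹) = g * (c * d) * g⁻¹ := by group
      _ = g * (d * c) * g⁻¹ := by rw [hcD d hd]
      _ = g * d * g⁻¹ * (g * c * g⁻¹) := by group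
  have hk1 : g * d * g⁻¹ ≠ 1 := by
    intro h
    apply hd1
    have : d = g⁻¹ * (g * d * g⁻¹) * g := by group
    rw [this, h]; group
  rw [Subgroup.mem_inf, mem_cj_iff] at hd
  have hgN : g ∈ NK := by
    apply mem_normalizer_of_conj_mem hK hk hk1
    have e : g⁻¹ * (g * d * g⁻¹) * g = d := by group
    rw [e]; exact hd.1
  have hguN : g * u ∈ NK := by
    apply mem_normalizer_of_conj_mem hK hk hk1
    have e : (g * u)⁻¹ * (g * d * g⁻¹) * (g * u) = u⁻¹ * d * u := by group
    rw [e]; exact hd.2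
  apply huH
  have e : u = g⁻¹ * (g * u) := by group
  rw [e]
  exact mul_mem (inv_mem hgN) hguN

include hK ht htK hne h2inv hu huH in
/-- `N_H(D) = D` -/
theorem mem_inter_of_mem_normalizer {h : G} (hh : h ∈ NK)
    (hn : h ∈ Subgroup.normalizer ((NK ⊓ cj u NK : Subgroup G) : Set G)) :
    h ∈ NK ⊓ cj u NK := by
  obtain ⟨d, hd, k, hk, hdk⟩ := exists_mul_eq hK ht htK hne u hu huH h hh
  have hkn : k ∈ Subgroup.normalizer ((NK ⊓ cj u NK : Subgroup G) : Set G) := by
    have : k = d⁻¹ * h := by rw [← hdk]; group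
    rw [this]
    exact mul_mem (inv_mem (Subgroup.le_normalizer hd)) hn
  by_cases hk1 : k = 1
  · rw [← hdk, hk1, mul_one]; exact hd
  · exfalso
    obtain ⟨d', hd', hd'1⟩ := exists_ne_one_inter hK ht htK hne h2inv u hu huH
    have h1 : k * d' * k⁻¹ ∈ NK ⊓ cj u NK := (Subgroup.mem_normalizer_iff.mp hkn d').mp hd'
    have h2 : k * d' * k⁻¹ * d'⁻¹ ∈ K := by
      have hd'N : d' ∈ NK := (Subgroup.mem_inf.mp hd').1
      have : d' * k⁻¹ * d'⁻¹ ∈ K := (Subgroup.mem_normalizer_iff.mp hd'N k⁻¹).mp (inv_mem hk)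
      have e : k * d' * k⁻¹ * d'⁻¹ = k * (d' * k⁻¹ * d'⁻¹) := by group
      rw [e]; exact mul_mem hk this
    have h3 : k * d' * k⁻¹ * d'⁻¹ ∈ (NK ⊓ cj u NK) ⊓ K :=
      Subgroup.mem_inf.mpr ⟨mul_mem h1 (inv_mem hd'), h2⟩
    rw [inter_inf hK u huH, Subgroup.mem_bot] at h3
    have hc : k * d' = d' * k := by
      calc k * d' = (k * d' * k⁻¹ * d'⁻¹) * d' * k := by group
        _ = d' * k := by rw [h3, one_mul]
    have h4 : d' ∈ K := by
      rw [← hK.2 k hk hk1, CAOdd.mem_centralizer_singleton]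
      exact hc
    have h5 : d' ∈ (NK ⊓ cj u NK) ⊓ K := Subgroup.mem_inf.mpr ⟨hd', h4⟩
    rw [inter_inf hK u huH, Subgroup.mem_bot] at h5
    exact hd'1 h5

include hK ht htK hne hu huH in
/-- if `D` fixes `v H` for an involution `v ∉ H`, then `v` inverts `D`. -/
theorem inverts_of_fix {v : G} (hv : orderOf v = 2) (hvH : v ∉ NK)
    (hfix : ∀ d ∈ NK ⊓ cj u NK, d • ((v : G) : G ⧸ NK) = (v : G)) :
    ∀ d ∈ NK ⊓ cj u NK, v * d * v⁻¹ = d⁻¹ := by
  have hle : NK ⊓ cj u NK ≤ NK ⊓ cj v NK := by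
    intro d hd
    refine Subgroup.mem_inf.mpr ⟨(Subgroup.mem_inf.mp hd).1, ?_⟩
    rw [mem_cj_iff]
    have := hfix d hd
    rwa [smul_coset_eq_iff] at this
  have heq : NK ⊓ cj u NK = NK ⊓ cj v NK := by
    apply Subgroup.eq_of_le_of_card_ge hle
    rw [card_inter hK ht htK hne u hu huH, card_inter hK ht htK hne v hv hvH]
  rw [heq]
  exact inverts_inter hK ht htK hne v hv hvH

include hK ht htK hne h2inv hu huH in
theorem fix_iff (g : G) :
    (∀ d ∈ NK ⊓ cj u NK, d • ((g : G) : G ⧸ NK) = (g : G)) ↔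
    (((g : G) : G ⧸ NK) = ((1 : G) : G ⧸ _) ∨ ((g : G) : G ⧸ NK) = ((u : G) : G ⧸ _)) := by
  have hSE := stronglyEmbedded hK ht htK hne
  have huu := mul_self_of_orderOf_two hu
  have huinv := inv_eq_self_of_orderOf_two hu
  set N := Subgroup.normalizer (K : Set G) with hN
  have hα : ∀ d ∈ N ⊓ cj u N, d • ((1 : G) : G ⧸ N) = ((1 : G) : G ⧸ N) := by
    intro d hd
    rw [smul_coset_eq_iff]; simpa using (Subgroup.mem_inf.mp hd).1
  have hβ : ∀ d ∈ N ⊓ cj u N, d • ((u : G) : G ⧸ N) = ((u : G) : G ⧸ N) := by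
    intro d hd
    rw [smul_coset_eq_iff]
    have := (Subgroup.mem_inf.mp hd).2
    rwa [mem_cj_iff] at this
  constructor
  · intro hfix
    by_contra hcon
    push Not at hcon
    obtain ⟨hg1, hgu⟩ := hcon
    -- an involution `v` with `v α = γ`
    have hpos : 0 < Nat.card {i : G // orderOf i = 2 ∧ i • ((1 : G) : G ⧸ N) = ((g : G) : G ⧸ N)} := by
      rw [card_invol_swap hSE _ _ (Ne.symm hg1)]
      obtain ⟨t, htH, ht2⟩ := exists_invol_of_even_card N hSE.2.1
      haveI : Nonempty {t : G // orderOf t = 2 ∧ t ∈ N} := ⟨⟨t, ht2, htH⟩⟩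
      exact Nat.card_pos
    obtain ⟨⟨v, hv2, hvg⟩⟩ := (Nat.card_pos_iff.mp hpos).1
    have hvα : ((v : G) : G ⧸ N) = ((g : G) : G ⧸ N) := by
      rw [← hvg, MulAction.Quotient.smul_coe, smul_eq_mul, mul_one]
    have hvH : v ∉ N := by
      intro hvN
      apply hg1
      rw [← hvα, QuotientGroup.eq]; simpa using hvN
    have hvinv := inverts_of_fix hK ht htK hne u hu huH hv2 hvH (by rw [hvα]; exact hfix)
    have huinvD := inverts_inter hK ht htK hne u hu huH
    have hvv := mul_self_of_orderOf_two hv2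
    have hvi := inv_eq_self_of_orderOf_two hv2
    -- c = u v centralizes D
    have hcD : ∀ d ∈ N ⊓ cj u N, (u * v) * d = d * (u * v) := by
      intro d hd
      have h1 := hvinv d hd
      have h2 := huinvD d⁻¹ (inv_mem hd)
      rw [inv_inv] at h2
      calc u * v * d = u * (v * d * v⁻¹) * v := by group
        _ = u * d⁻¹ * v := by rw [h1]
        _ = (u * d⁻¹ * u⁻¹) * u * v := by group
        _ = d * (u * v) := by rw [h2]; group
    -- y = c α
    have hy1 : ((u * v : G) : G ⧸ N) ≠ ((1 : G) : G ⧸ N) := by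
      intro h
      apply hgu
      rw [← hvα, QuotientGroup.eq]
      have h' := QuotientGroup.eq.mp h
      have e : (u * v)⁻¹ * 1 = v⁻¹ * u := by
        rw [mul_one, mul_inv_rev, huinv]
      rw [e] at h'
      exact h'
    have hyfix : ∀ d ∈ N ⊓ cj u N, d • ((u * v : G) : G ⧸ N) = ((u * v : G) : G ⧸ N) := by
      intro d hd
      have e : ((u * v : G) : G ⧸ N) = (u * v) • ((1 : G) : G ⧸ N) := by
        rw [MulAction.Quotient.smul_coe, smul_eq_mul, mul_one]
      rw [e, ← mul_smul, ← hcD d hd, mul_smul, hα d hd]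
    have hpos' : 0 < Nat.card {i : G // orderOf i = 2 ∧
        i • ((1 : G) : G ⧸ N) = ((u * v : G) : G ⧸ N)} := by
      rw [card_invol_swap hSE _ _ (Ne.symm hy1)]
      obtain ⟨t, htH, ht2⟩ := exists_invol_of_even_card N hSE.2.1
      haveI : Nonempty {t : G // orderOf t = 2 ∧ t ∈ N} := ⟨⟨t, ht2, htH⟩⟩
      exact Nat.card_pos
    obtain ⟨⟨w, hw2, hwy⟩⟩ := (Nat.card_pos_iff.mp hpos').1
    have hwα : ((w : G) : G ⧸ N) = ((u * v : G) : G ⧸ N) := by
      rw [← hwy, MulAction.Quotient.smul_coe, smul_eq_mul, mul_one]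
    have hwH : w ∉ N := by
      intro hwN
      apply hy1
      rw [← hwα, QuotientGroup.eq]; simpa using hwN
    have hwinv := inverts_of_fix hK ht htK hne u hu huH hw2 hwH (by rw [hwα]; exact hyfix)
    have hww := mul_self_of_orderOf_two hw2
    have hwi := inv_eq_self_of_orderOf_two hw2
    -- w⁻¹ c ∈ N_H(D) = D
    have hmemH : w⁻¹ * (u * v) ∈ N := by
      have := QuotientGroup.eq.mp hwα
      exact this
    have hnormD : ∀ x : G, (∀ d ∈ N ⊓ cj u N, x * d * x⁻¹ = d⁻¹) →
        x ∈ Subgroup.normalizer ((N ⊓ cj u N : Subgroup G) : Set G) := by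
      intro x hx
      apply CIT.mem_normalizer_of_forall_conj_mem
      intro d hd
      rw [hx d hd]; exact inv_mem hd
    have hcn : w⁻¹ * (u * v) ∈ Subgroup.normalizer ((N ⊓ cj u N : Subgroup G) : Set G) :=
      mul_mem (inv_mem (hnormD w hwinv)) (mul_mem (hnormD u huinvD) (hnormD v hvinv))
    have hd0 := mem_inter_of_mem_normalizer hK ht htK hne h2inv u hu huH hmemH hcn
    have hc2 : (u * v) * (u * v) = 1 := by
      have h1 := hwinv _ hd0
      have e : u * v = w * (w⁻¹ * (u * v)) := by group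
      calc (u * v) * (u * v) = w * (w⁻¹ * (u * v)) * (w * (w⁻¹ * (u * v))) := by rw [← e]
        _ = (w * (w⁻¹ * (u * v)) * w⁻¹) * (w * w) * (w⁻¹ * (u * v)) := by group
        _ = 1 := by rw [h1, hww]; group
    have hc1 : u * v ≠ 1 := by
      intro h
      apply hy1
      rw [h]
    exact not_invol_centralizes_inter hK ht htK hne h2inv u hu huH
      (orderOf_two_of_mul_self hc2 hc1) hcD
  · rintro (h | h)
    · rw [h]; exact hα
    · rw [h]; exact hβ

end main

end Cfsg.Agent.Helper2.CAEv
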