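import Mathlib
import Cfsg.Agent.Helper2.CAEvC

/-!
# CA-groups of even order: conjugacy of the complements, transitivity of `K`
-/

set_option autoImplicit false
set_option linter.style.haveILetI false

namespace Cfsg.Agent.Helper2.CAEv

open Cfsg Cfsg.Agent.Helper2

universe u

variable {G : Type u} [Group G] [Finite G]

section main

variable {K : Subgroup G} (hK : CAOdd.IsMaxAb K) {t : G} (ht : orderOf t = 2) (htK : t ∈ K)
  (hne : Subgroup.normalizer (K : Set G) ≠ ⊤)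
  (h2inv : ∃ s : G, orderOf s = 2 ∧ s ∈ Subgroup.normalizer (K : Set G) ∧ s ≠ t)

local notation "NK" => Subgroup.normalizer (K : Set G)

include hK in
/-- an element of `D_v` commuting with a nonidentity element of `K` is trivial -/
theorem eq_one_of_commute {v : G} (hvH : v ∉ NK) {e s : G}
    (he : e ∈ NK ⊓ cj v NK) (hs : s ∈ K) (hs1 : s ≠ 1) (hc : e * s = s * e) :
    e = 1 := by
  have h1 : e ∈ K := by
    rw [← hK.2 s hs hs1, CAOdd.mem_centralizer_singleton]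
    exact hc.symm
  have h2 : e ∈ (NK ⊓ cj v NK) ⊓ K := Subgroup.mem_inf.mpr ⟨he, h1⟩
  rw [inter_inf hK v hvH, Subgroup.mem_bot] at h2
  exact h2

include hK ht htK hne in
theorem inter_comm {v : G} (hv : orderOf v = 2) (hvH : v ∉ NK) {a b : G}
    (ha : a ∈ NK ⊓ cj v NK) (hb : b ∈ NK ⊓ cj v NK) : a * b = b * a := by
  have hinv := inverts_inter hK ht htK hne v hv hvH
  have h1 := hinv (a * b) (mul_mem ha hb)
  have h2 := hinv a ha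
  have h3 := hinv b hb
  have h4 : v * (a * b) * v⁻¹ = (v * a * v⁻¹) * (v * b * v⁻¹) := by group
  rw [h1, h2, h3, mul_inv_rev] at h4
  have := congrArg (fun x => x⁻¹) h4
  simpa using this

include hK in
/-- the map `t ↦ (e⁻¹ t e) t⁻¹` is onto `K` when `e` acts without fixed points. -/
theorem exists_psi_eq {e : G} (heN : e ∈ NK)
    (hfree : ∀ s ∈ K, e * s = s * e → s = 1) (t₂ : G)
    (ht₂ : t₂ ∈ K) : ∃ t ∈ K, (e⁻¹ * t * e) * t⁻¹ = t₂ := by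
  have hcomm := hK.comm
  have hconj : ∀ t ∈ K, e⁻¹ * t * e ∈ K := by
    intro t ht
    have := (Subgroup.mem_normalizer_iff.mp (inv_mem heN) t).mp ht
    simpa using this
  let ψ : ↥K → ↥K :=
    fun t => ⟨(e⁻¹ * t.1 * e) * t.1⁻¹, mul_mem (hconj t.1 t.2) (inv_mem t.2)⟩
  have hinj : Function.Injective ψ := by
    intro a b h
    have h1 : (e⁻¹ * a.1 * e) * a.1⁻¹ = (e⁻¹ * b.1 * e) * b.1⁻¹ := congrArg Subtype.val h
    -- s = a b⁻¹ commutes with e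
    have hs : a.1 * b.1⁻¹ ∈ K := mul_mem a.2 (inv_mem b.2)
    have h2 : e⁻¹ * (a.1 * b.1⁻¹) * e = a.1 * b.1⁻¹ := by
      have e1 : e⁻¹ * (a.1 * b.1⁻¹) * e = (e⁻¹ * a.1 * e) * (e⁻¹ * b.1 * e)⁻¹ := by group
      rw [e1]
      have e2 : e⁻¹ * a.1 * e = (e⁻¹ * b.1 * e) * b.1⁻¹ * a.1 := by
        rw [← h1]; group
      rw [e2]
      have e3 : (e⁻¹ * b.1 * e) * b.1⁻¹ * a.1 * (e⁻¹ * b.1 * e)⁻¹
          = (e⁻¹ * b.1 * e) * ((b.1⁻¹ * a.1) * (e⁻¹ * b.1 * e)⁻¹) := by group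
      rw [e3, hcomm _ (mul_mem (inv_mem b.2) a.2) _ (inv_mem (hconj b.1 b.2))]
      rw [hcomm _ (inv_mem b.2) _ a.2]
      group
    have h3 : e * (a.1 * b.1⁻¹) = (a.1 * b.1⁻¹) * e := by
      calc e * (a.1 * b.1⁻¹) = e * (e⁻¹ * (a.1 * b.1⁻¹) * e) := by rw [h2]
        _ = (a.1 * b.1⁻¹) * e := by group
    have h4 := hfree _ hs h3
    apply Subtype.ext
    calc a.1 = (a.1 * b.1⁻¹) * b.1 := by group
      _ = b.1 := by rw [h4, one_mul]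
  obtain ⟨t, ht⟩ := (Finite.injective_iff_surjective.mp hinj) ⟨t₂, ht₂⟩
  exact ⟨t.1, t.2, congrArg Subtype.val ht⟩

include hK ht htK hne h2inv in
/-- complements are conjugate under `K` -/
theorem exists_conj_inter_le {u v : G} (hu : orderOf u = 2) (huH : u ∉ NK) (hv : orderOf v = 2)
    (hvH : v ∉ NK) :
    ∃ t ∈ K, ∀ d ∈ NK ⊓ cj u NK, t⁻¹ * d * t ∈ NK ⊓ cj v NK := by
  obtain ⟨d, hd, hd1⟩ := exists_ne_one_inter hK ht htK hne h2inv u hu huH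
  have hdN : d ∈ NK := (Subgroup.mem_inf.mp hd).1
  obtain ⟨d₂, hd₂, t₂, ht₂, hdt⟩ := exists_mul_eq hK ht htK hne v hv hvH d hdN
  have hd₂1 : d₂ ≠ 1 := by
    intro h
    rw [h, one_mul] at hdt
    have : d ∈ (NK ⊓ cj u NK) ⊓ K := Subgroup.mem_inf.mpr ⟨hd, hdt ▸ ht₂⟩
    rw [inter_inf hK u huH, Subgroup.mem_bot] at this
    exact hd1 this
  have hfree : ∀ s ∈ K, d₂ * s = s * d₂ → s = 1 := by
    intro s hs hc
    by_contra hs1
    exact hd₂1 (eq_one_of_commute hK hvH hd₂ hs hs1 hc)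
  obtain ⟨t, ht, hψ⟩ := exists_psi_eq hK (Subgroup.mem_inf.mp hd₂).1 hfree t₂ ht₂
  have hconj : t⁻¹ * d * t = d₂ := by
    rw [← hdt, ← hψ]; group
  refine ⟨t, ht, ?_⟩
  intro d₁ hd₁
  have htN : t ∈ NK := Subgroup.le_normalizer ht
  have heN : t⁻¹ * d₁ * t ∈ NK :=
    mul_mem (mul_mem (inv_mem htN) (Subgroup.mem_inf.mp hd₁).1) htN
  obtain ⟨e₂, he₂, s₂, hs₂, hes⟩ := exists_mul_eq hK ‹orderOf _ = 2› htK hne v hv hvH _ heN
  have hc1 : (t⁻¹ * d₁ * t) * d₂ = d₂ * (t⁻¹ * d₁ * t) := by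
    rw [← hconj]
    have := inter_comm hK ‹orderOf _ = 2› htK hne hu huH hd₁ hd
    calc t⁻¹ * d₁ * t * (t⁻¹ * d * t) = t⁻¹ * (d₁ * d) * t := by group
      _ = t⁻¹ * (d * d₁) * t := by rw [this]
      _ = t⁻¹ * d * t * (t⁻¹ * d₁ * t) := by group
  have hc2 : e₂ * d₂ = d₂ * e₂ := inter_comm hK ‹orderOf _ = 2› htK hne hv hvH he₂ hd₂
  have hs₂c : d₂ * s₂ = s₂ * d₂ := by
    have hs₂e : s₂ = e₂⁻¹ * (t⁻¹ * d₁ * t) := by rw [← hes]; group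
    rw [hs₂e]
    calc d₂ * (e₂⁻¹ * (t⁻¹ * d₁ * t)) = e₂⁻¹ * (e₂ * d₂) * e₂⁻¹ * (t⁻¹ * d₁ * t) := by group
      _ = e₂⁻¹ * (d₂ * e₂) * e₂⁻¹ * (t⁻¹ * d₁ * t) := by rw [hc2]
      _ = e₂⁻¹ * (d₂ * (t⁻¹ * d₁ * t)) := by group
      _ = e₂⁻¹ * ((t⁻¹ * d₁ * t) * d₂) := by rw [hc1]
      _ = e₂⁻¹ * (t⁻¹ * d₁ * t) * d₂ := by group
  have hs₂1 : s₂ = 1 := hfree s₂ hs₂ hs₂c
  rw [← hes, hs₂1, mul_one]
  exact he₂

end main

end Cfsg.Agent.Helper2.CAEv
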