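import Mathlib
import Cfsg.Agent.Helper2.CAEvD

/-!
# CA-groups of even order: `K` is regular off the fixed point, three-point stabilizers are trivial
-/

set_option autoImplicit false
set_option linter.style.haveILetI false

namespace Cfsg.Agent.Helper2.CAEv

open Cfsg Cfsg.Agent.Helper2

universe u

variable {G : Type u} [Group G] [Finite G]

section main

variable {K : Subgroup G} (hK : CAOdd.IsMaxAb K) {t : G} (ht : orderOf t = 2) (htK : t ∈ K)
  (hne : Subgroup.normalizer (K : Set G) ≠ ⊤)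
  (h2inv : ∃ s : G, orderOf s = 2 ∧ s ∈ Subgroup.normalizer (K : Set G) ∧ s ≠ t)

local notation "NK" => Subgroup.normalizer (K : Set G)

include hK ht htK hne in
theorem exists_invol_map {x : G ⧸ NK} (hx : x ≠ ((1 : G) : G ⧸ NK)) :
    ∃ v : G, orderOf v = 2 ∧ v ∉ NK ∧ ((v : G) : G ⧸ NK) = x := by
  have hSE := stronglyEmbedded hK ht htK hne
  have hpos : 0 < Nat.card {i : G // orderOf i = 2 ∧ i • ((1 : G) : G ⧸ NK) = x} := by
    rw [card_invol_swap hSE _ _ (Ne.symm hx)]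
    obtain ⟨t, htH, ht2⟩ := exists_invol_of_even_card NK hSE.2.1
    haveI : Nonempty {t : G // orderOf t = 2 ∧ t ∈ NK} := ⟨⟨t, ht2, htH⟩⟩
    exact Nat.card_pos
  obtain ⟨⟨v, hv2, hvg⟩⟩ := (Nat.card_pos_iff.mp hpos).1
  have hvα : ((v : G) : G ⧸ NK) = x := by
    rw [← hvg, MulAction.Quotient.smul_coe, smul_eq_mul, mul_one]
  refine ⟨v, hv2, ?_, hvα⟩
  intro hvN
  apply hx
  rw [← hvα, QuotientGroup.eq]; simpa using hvN

include hK ht htK hne in
theorem exists_invol_not_mem : ∃ u : G, orderOf u = 2 ∧ u ∉ NK := by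
  have hSE := stronglyEmbedded hK ht htK hne
  obtain ⟨g, hg⟩ : ∃ g : G, g ∉ NK := by
    by_contra hcon
    push Not at hcon
    exact hSE.1 (eq_top_iff.mpr fun g _ => hcon g)
  have hx : ((g : G) : G ⧸ NK) ≠ ((1 : G) : G ⧸ NK) := by
    rw [Ne, QuotientGroup.eq]
    intro h
    apply hg
    simpa using inv_mem h
  obtain ⟨v, hv, hvH, -⟩ := exists_invol_map hK ht htK hne hx
  exact ⟨v, hv, hvH⟩

omit [Finite G] in
theorem smul_one_coset_of_mem {h : G} (hh : h ∈ NK) :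
    h • ((1 : G) : G ⧸ NK) = ((1 : G) : G ⧸ NK) := by
  rw [smul_coset_eq_iff]; simpa using hh

variable (u : G) (hu : orderOf u = 2)
  (huH : u ∉ Subgroup.normalizer (K : Set G))

omit [Finite G] in
theorem smul_u_coset_of_mem {d : G} (hd : d ∈ NK ⊓ cj u NK) :
    d • ((u : G) : G ⧸ NK) = ((u : G) : G ⧸ NK) := by
  rw [smul_coset_eq_iff]
  have := (Subgroup.mem_inf.mp hd).2
  rwa [mem_cj_iff] at this

include hK ht htK hne h2inv hu huH in
/-- `K` is transitive on the points different from `H`. -/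
theorem exists_smul_eq {x : G ⧸ NK} (hx : x ≠ ((1 : G) : G ⧸ NK)) :
    ∃ k ∈ K, k • ((u : G) : G ⧸ NK) = x := by
  obtain ⟨v, hv, hvH, hvx⟩ := exists_invol_map hK ht htK hne hx
  obtain ⟨k, hk, hconj⟩ := exists_conj_inter_le hK ht htK hne h2inv hu huH hv hvH
  have hfix : ∀ d ∈ NK ⊓ cj u NK, d • ((k * v : G) : G ⧸ NK) = ((k * v : G) : G ⧸ NK) := by
    intro d hd
    have h1 := hconj d hd
    have h2 : (k⁻¹ * d * k) • ((v : G) : G ⧸ NK) = ((v : G) : G ⧸ NK) := by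
      rw [smul_coset_eq_iff]
      have := (Subgroup.mem_inf.mp h1).2
      rwa [mem_cj_iff] at this
    have e : ((k * v : G) : G ⧸ NK) = k • ((v : G) : G ⧸ NK) := by
      rw [MulAction.Quotient.smul_coe, smul_eq_mul]
    rw [e]
    calc d • (k • ((v : G) : G ⧸ NK)) = k • ((k⁻¹ * d * k) • ((v : G) : G ⧸ NK)) := by
          rw [← mul_smul, ← mul_smul]; congr 1; group
      _ = k • ((v : G) : G ⧸ NK) := by rw [h2]
  rcases (fix_iff hK ht htK hne h2inv u hu huH (k * v)).mp hfix with h | h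
  · exfalso
    apply hvH
    have h' := QuotientGroup.eq.mp h
    have e : (k * v)⁻¹ * 1 = v⁻¹ * k⁻¹ := by group
    rw [e] at h'
    have hkN : k ∈ NK := Subgroup.le_normalizer hk
    have : v⁻¹ = (v⁻¹ * k⁻¹) * k := by group
    have h2 : v⁻¹ ∈ NK := by rw [this]; exact mul_mem h' hkN
    simpa using inv_mem h2
  · refine ⟨k⁻¹, inv_mem hk, ?_⟩
    rw [← hvx, ← h, MulAction.Quotient.smul_coe, smul_eq_mul]
    congr 1; group

include hK in
/-- `K` acts semiregularly off the point `H`. -/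
theorem eq_one_of_fix {k : G} (hk : k ∈ K) {x : G ⧸ NK}
    (hx : x ≠ ((1 : G) : G ⧸ NK)) (hkx : k • x = x) : k = 1 := by
  by_contra hk1
  apply hx
  induction x using QuotientGroup.induction_on with | _ g => ?_
  rw [smul_coset_eq_iff] at hkx
  have hg := mem_normalizer_of_conj_mem hK hk hk1 hkx
  rw [QuotientGroup.eq, mul_one]
  exact inv_mem hg

include hK ht htK hne h2inv in
theorem existsUnique_smul (x y : G ⧸ NK) (hx : x ≠ ((1 : G) : G ⧸ NK))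
    (hy : y ≠ ((1 : G) : G ⧸ NK)) : ∃! k : G, k ∈ K ∧ k • x = y := by
  obtain ⟨u, hu, huH⟩ := exists_invol_not_mem hK ht htK hne
  obtain ⟨t₁, ht₁, h1⟩ := exists_smul_eq hK ht htK hne h2inv u hu huH hx
  obtain ⟨t₂, ht₂, h2⟩ := exists_smul_eq hK ht htK hne h2inv u hu huH hy
  refine ⟨t₂ * t₁⁻¹, ⟨mul_mem ht₂ (inv_mem ht₁), ?_⟩, ?_⟩
  · rw [← h1, ← mul_smul, inv_mul_cancel_right, h2]
  · rintro t' ⟨ht', h'⟩
    have hfix : ((t₂ * t₁⁻¹)⁻¹ * t') • x = x := by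
      rw [mul_smul, h', ← h2, ← mul_smul]
      have : (t₂ * t₁⁻¹)⁻¹ * t₂ = t₁ := by group
      rw [this, h1]
    have := eq_one_of_fix hK
      (mul_mem (inv_mem (mul_mem ht₂ (inv_mem ht₁))) ht') hx hfix
    calc t' = (t₂ * t₁⁻¹) * ((t₂ * t₁⁻¹)⁻¹ * t') := by group
      _ = t₂ * t₁⁻¹ := by rw [this, mul_one]

include hK huH in
/-- a nonidentity element of `D` fixes no third point -/
theorem eq_one_of_inter_fix {d s : G} (hd : d ∈ NK ⊓ cj u NK) (hs : s ∈ K)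
    (hs1 : s ≠ 1) (hfix : d • (s • ((u : G) : G ⧸ NK)) = s • ((u : G) : G ⧸ NK)) : d = 1 := by
  have hsN : s ∈ NK := Subgroup.le_normalizer hs
  have hdN : d ∈ NK := (Subgroup.mem_inf.mp hd).1
  have h1 : s⁻¹ * d * s ∈ NK ⊓ cj u NK := by
    refine Subgroup.mem_inf.mpr ⟨mul_mem (mul_mem (inv_mem hsN) hdN) hsN, ?_⟩
    rw [mem_cj_iff]
    have : (s⁻¹ * d * s) • ((u : G) : G ⧸ NK) = ((u : G) : G ⧸ NK) := by
      rw [mul_smul, mul_smul, hfix, ← mul_smul, inv_mul_cancel, one_smul]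
    rwa [smul_coset_eq_iff] at this
  have h2 : s⁻¹ * d * s * d⁻¹ ∈ K := by
    have : d * s * d⁻¹ ∈ K := (Subgroup.mem_normalizer_iff.mp hdN s).mp hs
    have e : s⁻¹ * d * s * d⁻¹ = s⁻¹ * (d * s * d⁻¹) := by group
    rw [e]; exact mul_mem (inv_mem hs) this
  have h3 : s⁻¹ * d * s * d⁻¹ ∈ (NK ⊓ cj u NK) ⊓ K :=
    Subgroup.mem_inf.mpr ⟨mul_mem h1 (inv_mem hd), h2⟩
  rw [inter_inf hK u huH, Subgroup.mem_bot] at h3
  have hc : d * s = s * d := by
    calc d * s = s * (s⁻¹ * d * s * d⁻¹) * d := by group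
      _ = s * d := by rw [h3, mul_one]
  exact eq_one_of_commute hK huH hd hs hs1 hc

include hK ht htK hne h2inv hu huH in
/-- normal form for pairs of distinct points -/
theorem exists_normalize (x₁ x₂ : G ⧸ NK) (h12 : x₁ ≠ x₂) :
    ∃ g : G, g • x₁ = ((1 : G) : G ⧸ NK) ∧ g • x₂ = ((u : G) : G ⧸ NK) := by
  obtain ⟨g₁, hg₁⟩ : ∃ g₁ : G, g₁ • x₁ = ((1 : G) : G ⧸ NK) := by
    induction x₁ using QuotientGroup.induction_on with | _ a => ?_
    exact ⟨a⁻¹, by rw [MulAction.Quotient.smul_coe, smul_eq_mul, inv_mul_cancel]⟩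
  have hx₂ : g₁ • x₂ ≠ ((1 : G) : G ⧸ NK) := by
    rw [← hg₁]; intro h; exact h12 (MulAction.injective g₁ h).symm
  obtain ⟨k, hk, hkx⟩ := exists_smul_eq hK ht htK hne h2inv u hu huH hx₂
  have hkN : k ∈ NK := Subgroup.le_normalizer hk
  have h2 : k⁻¹ • (g₁ • x₂) = ((u : G) : G ⧸ NK) := by rw [← hkx, inv_smul_smul]
  have h1 : k⁻¹ • (g₁ • x₁) = ((1 : G) : G ⧸ NK) := by
    rw [hg₁]; exact smul_one_coset_of_mem (inv_mem hkN)
  refine ⟨k⁻¹ * g₁, ?_, ?_⟩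
  · rw [mul_smul, h1]
  · rw [mul_smul, h2]

include hK ht htK hne h2inv in
theorem doubly_transitive (x₁ x₂ y₁ y₂ : G ⧸ NK) (h12 : x₁ ≠ x₂) (k12 : y₁ ≠ y₂) :
    ∃ g : G, g • x₁ = y₁ ∧ g • x₂ = y₂ := by
  obtain ⟨u, hu, huH⟩ := exists_invol_not_mem hK ht htK hne
  obtain ⟨g, hg1, hg2⟩ := exists_normalize hK ht htK hne h2inv u hu huH x₁ x₂ h12
  obtain ⟨k, hk1, hk2⟩ := exists_normalize hK ht htK hne h2inv u hu huH y₁ y₂ k12
  refine ⟨k⁻¹ * g, ?_, ?_⟩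
  · rw [mul_smul, hg1, ← hk1, inv_smul_smul]
  · rw [mul_smul, hg2, ← hk2, inv_smul_smul]

include hK ht htK hne h2inv in
theorem eq_one_of_fix_three (g : G) (x₁ x₂ x₃ : G ⧸ NK) (h12 : x₁ ≠ x₂) (h13 : x₁ ≠ x₃)
    (h23 : x₂ ≠ x₃) (f1 : g • x₁ = x₁) (f2 : g • x₂ = x₂) (f3 : g • x₃ = x₃) : g = 1 := by
  obtain ⟨u, hu, huH⟩ := exists_invol_not_mem hK ht htK hne
  obtain ⟨k, hk1, hk2⟩ := exists_normalize hK ht htK hne h2inv u hu huH x₁ x₂ h12
  have hx₃a : k • x₃ ≠ ((1 : G) : G ⧸ NK) := by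
    rw [← hk1]; intro h
    exact h13 (MulAction.injective k h).symm
  have hx₃b : k • x₃ ≠ ((u : G) : G ⧸ NK) := by
    rw [← hk2]; intro h
    exact h23 (MulAction.injective k h).symm
  obtain ⟨s, hs, hsx⟩ := exists_smul_eq hK ht htK hne h2inv u hu huH hx₃a
  have hs1 : s ≠ 1 := by
    intro h
    rw [h, one_smul] at hsx
    exact hx₃b hsx.symm
  have e1 : (k * g * k⁻¹) • ((1 : G) : G ⧸ NK) = ((1 : G) : G ⧸ NK) := by
    rw [← hk1, mul_smul, inv_smul_smul, mul_smul, f1]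
  have e2 : (k * g * k⁻¹) • ((u : G) : G ⧸ NK) = ((u : G) : G ⧸ NK) := by
    rw [← hk2, mul_smul, inv_smul_smul, mul_smul, f2]
  have e3 : (k * g * k⁻¹) • (s • ((u : G) : G ⧸ NK)) = s • ((u : G) : G ⧸ NK) := by
    rw [hsx, mul_smul, inv_smul_smul, mul_smul, f3]
  have hd : k * g * k⁻¹ ∈ NK ⊓ cj u NK := by
    refine Subgroup.mem_inf.mpr ⟨?_, ?_⟩
    · rw [smul_coset_eq_iff] at e1; simpa using e1
    · rw [mem_cj_iff]; rwa [smul_coset_eq_iff] at e2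
  have h := eq_one_of_inter_fix hK u huH hd hs hs1 e3
  calc g = k⁻¹ * (k * g * k⁻¹) * k := by group
    _ = 1 := by rw [h]; group

end main

end Cfsg.Agent.Helper2.CAEv
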