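import Mathlib
import Cfsg.Agent.Helper2.CAEvE
import Cfsg.Agent.Helper6.ZasChS

/-!
# CA-groups of even order: the centralizer of an involution is an elementary abelian `2`-group
-/

set_option autoImplicit false
set_option linter.style.haveILetI false

namespace Cfsg.Agent.Helper2.CAEv

open Cfsg Cfsg.Agent.Helper2 MulAction

universe u

variable {G : Type u} [Group G] [Finite G]

section main

variable {K : Subgroup G} (hK : CAOdd.IsMaxAb K) {t : G} (ht : orderOf t = 2) (htK : t ∈ K)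
  (hne : Subgroup.normalizer (K : Set G) ≠ ⊤)
  (h2inv : ∃ s : G, orderOf s = 2 ∧ s ∈ Subgroup.normalizer (K : Set G) ∧ s ≠ t)

local notation "NK" => Subgroup.normalizer (K : Set G)

omit [Finite G] in
theorem one_ne_coset {u : G} (huH : u ∉ NK) : ((1 : G) : G ⧸ NK) ≠ ((u : G) : G ⧸ NK) := by
  rw [Ne, QuotientGroup.eq]; simpa using huH

include hK ht htK in
theorem third_point {u : G} (huH : u ∉ NK) :
    t • ((u : G) : G ⧸ NK) ≠ ((1 : G) : G ⧸ NK) ∧ t • ((u : G) : G ⧸ NK) ≠ ((u : G) : G ⧸ NK) := by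
  have htN : t ∈ NK := Subgroup.le_normalizer htK
  constructor
  · intro h
    have h1 : t • ((u : G) : G ⧸ NK) = t • ((1 : G) : G ⧸ NK) := by
      rw [h, smul_one_coset_of_mem htN]
    exact one_ne_coset huH (MulAction.injective t h1).symm
  · intro h
    exact ne_one_of_orderOf_two ht (eq_one_of_fix hK htK (one_ne_coset huH).symm h)

include hK ht htK hne h2inv in
theorem isZassenhaus [IsSimpleGroup G] : Cfsg.IsZassenhausGroup G (G ⧸ NK) := by
  obtain ⟨u, hu, huH⟩ := exists_invol_not_mem hK ht htK hne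
  have hαβ := one_ne_coset (K := K) huH
  obtain ⟨hγα, hγβ⟩ := third_point hK ht htK huH
  have htN : t ∈ NK := Subgroup.le_normalizer htK
  refine ⟨⟨?_⟩, ?_, ?_, ?_, ?_⟩
  · intro g₁ g₂ h
    have hfix : ∀ x : G ⧸ NK, (g₂⁻¹ * g₁) • x = x := by
      intro x
      rw [mul_smul, h x, inv_smul_smul]
    have := eq_one_of_fix_three hK ht htK hne h2inv (g₂⁻¹ * g₁) _ _ _ hαβ hγα.symm hγβ.symm
      (hfix _) (hfix _) (hfix _)
    calc g₁ = g₂ * (g₂⁻¹ * g₁) := by group
      _ = g₂ := by rw [this, mul_one]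
  · rw [MulAction.is_two_pretransitive_iff]
    intro a b c d hab hcd
    exact doubly_transitive hK ht htK hne h2inv a b c d hab hcd
  · intro g a b c hab hbc hac fa fb fc
    exact eq_one_of_fix_three hK ht htK hne h2inv g a b c hab hac hbc fa fb fc
  · obtain ⟨d, hd, hd1⟩ := exists_ne_one_inter hK ht htK hne h2inv u hu huH
    exact ⟨d, hd1, _, _, hαβ, smul_one_coset_of_mem (Subgroup.mem_inf.mp hd).1,
      smul_u_coset_of_mem u hd⟩
  · intro N hN htr
    rcases hN.eq_bot_or_eq_top with rfl | rfl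
    · exfalso
      obtain ⟨n, hn⟩ := htr.exists_smul_eq ((1 : G) : G ⧸ NK) ((u : G) : G ⧸ NK)
      have hn1 : (n : G) = 1 := Subgroup.mem_bot.mp n.2
      rw [Subgroup.smul_def, hn1, one_smul] at hn
      exact hαβ hn
    · refine ⟨((1 : G) : G ⧸ NK), fun hbot => ?_⟩
      have hmem : (⟨t, Subgroup.mem_top t⟩ : (⊤ : Subgroup G)) ∈
          MulAction.stabilizer (⊤ : Subgroup G) ((1 : G) : G ⧸ NK) := by
        rw [MulAction.mem_stabilizer_iff]
        exact smul_one_coset_of_mem htN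
      have hmem' := hbot.le hmem
      rw [Subgroup.mem_bot] at hmem'
      exact ne_one_of_orderOf_two ht (congrArg Subtype.val hmem')

include hK in
/-- the conjugation action of `D` on `K ∖ 1` is free -/
theorem conj_inj {u : G} (huH : u ∉ NK) {y : G} (hy : y ∈ K) (hy1 : y ≠ 1) {d d' : G}
    (hd : d ∈ NK ⊓ cj u NK) (hd' : d' ∈ NK ⊓ cj u NK) (h : d * y * d⁻¹ = d' * y * d'⁻¹) :
    d = d' := by
  have h2 : d'⁻¹ * d ∈ K := by
    rw [← hK.2 y hy hy1, Subgroup.mem_centralizer_singleton_iff]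
    calc d'⁻¹ * d * y = d'⁻¹ * (d * y * d⁻¹) * d := by group
      _ = d'⁻¹ * (d' * y * d'⁻¹) * d := by rw [h]
      _ = y * (d'⁻¹ * d) := by group
  have h3 : d'⁻¹ * d ∈ (NK ⊓ cj u NK) ⊓ K :=
    Subgroup.mem_inf.mpr ⟨mul_mem (inv_mem hd') hd, h2⟩
  rw [inter_inf hK u huH, Subgroup.mem_bot] at h3
  calc d = d' * (d'⁻¹ * d) := by group
    _ = d' := by rw [h3, mul_one]

include hK ht htK hne h2inv in
/-- the centralizer of an involution is an elementary abelian `2`-group -/
theorem sq_eq_one [IsSimpleGroup G] {x : G} (hx : x ∈ K) : x * x = 1 := by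
  classical
  by_contra hxx
  have hx1 : x ≠ 1 := by
    rintro rfl
    exact hxx (one_mul 1)
  haveI : Fintype (G ⧸ NK) := Fintype.ofFinite _
  have hSE := stronglyEmbedded hK ht htK hne
  obtain ⟨u, hu, huH⟩ := exists_invol_not_mem hK ht htK hne
  have hαβ := one_ne_coset (K := K) huH
  have hZ := isZassenhaus hK ht htK hne h2inv
  have htN : t ∈ NK := Subgroup.le_normalizer htK
  have ht1 := ne_one_of_orderOf_two ht
  have htt := mul_self_of_orderOf_two ht
  -- the cardinality of the set of points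
  have hne' : ∀ k : K, (k : G) • ((u : G) : G ⧸ NK) ≠ ((1 : G) : G ⧸ NK) := by
    intro k h
    have h1 : (k : G) • ((u : G) : G ⧸ NK) = (k : G) • ((1 : G) : G ⧸ NK) := by
      rw [h, smul_one_coset_of_mem (Subgroup.le_normalizer k.2)]
    exact hαβ (MulAction.injective _ h1).symm
  have hbij : Function.Bijective (fun k : K => (⟨(k : G) • ((u : G) : G ⧸ NK), hne' k⟩ :
      {x : G ⧸ NK // x ≠ ((1 : G) : G ⧸ NK)})) := by
    constructor
    · intro k k' hkk
      have h1 : (k : G) • ((u : G) : G ⧸ NK) = (k' : G) • ((u : G) : G ⧸ NK) :=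
        congrArg Subtype.val hkk
      obtain ⟨s, -, hs⟩ := existsUnique_smul hK ht htK hne h2inv _ _ hαβ.symm (hne' k')
      have e1 := hs k ⟨k.2, h1⟩
      have e2 := hs k' ⟨k'.2, rfl⟩
      exact Subtype.ext (e1.trans e2.symm)
    · rintro ⟨y, hy⟩
      obtain ⟨s, ⟨hs1, hs2⟩, -⟩ := existsUnique_smul hK ht htK hne h2inv _ y hαβ.symm hy
      exact ⟨⟨s, hs1⟩, Subtype.ext hs2⟩
  have hcard : Fintype.card (G ⧸ NK) = Nat.card K + 1 := by
    rw [← Nat.card_eq_fintype_card, ← Nat.card_congr (Equiv.optionSubtypeNe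
      (((1 : G) : G ⧸ NK))), Finite.card_option]
    exact congrArg (· + 1) (Nat.card_eq_of_bijective _ hbij).symm
  -- the two-point stabilizer
  have hstab : stabilizer G ((1 : G) : G ⧸ NK) ⊓ stabilizer G ((u : G) : G ⧸ NK) =
      NK ⊓ cj u NK := by
    ext y
    rw [Subgroup.mem_inf, Subgroup.mem_inf, MulAction.mem_stabilizer_iff,
      MulAction.mem_stabilizer_iff, smul_coset_eq_iff, smul_coset_eq_iff, mem_cj_iff]
    simp
  have hodd : Odd (Nat.card ↥(NK ⊓ cj u NK)) := hSE.2.2 u huH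
  have heven : Even (Nat.card K) := even_card_of_invol K htK ht
  -- the bound
  have hbound : Nat.card K - 1 ≤ 2 * Nat.card ↥(NK ⊓ cj u NK) := by
    by_contra hcon
    push Not at hcon
    refine Cfsg.Agent.Helper6.zas_even_contra hZ hαβ (Nat.card K) (Nat.card ↥(NK ⊓ cj u NK)) hcard
      (by rw [hstab]) hodd hcon K ?_ hcard.symm ?_ hK.comm heven
    · intro k hk
      rw [MulAction.mem_stabilizer_iff]
      exact smul_one_coset_of_mem (Subgroup.le_normalizer hk)
    · intro k hk hk1 c hc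
      by_contra hcα
      exact hk1 (eq_one_of_fix hK hk hcα hc)
  -- the injection
  let f : Option (↥(NK ⊓ cj u NK) ⊕ ↥(NK ⊓ cj u NK)) → ↥K := fun o =>
    match o with
    | none => 1
    | some (Sum.inl d) => ⟨d.1 * t * d.1⁻¹,
        (Subgroup.mem_normalizer_iff.mp (Subgroup.mem_inf.mp d.2).1 t).mp htK⟩
    | some (Sum.inr d) => ⟨d.1 * x * d.1⁻¹,
        (Subgroup.mem_normalizer_iff.mp (Subgroup.mem_inf.mp d.2).1 x).mp hx⟩
  have hconj1 : ∀ (d y : G), y ≠ 1 → d * y * d⁻¹ ≠ 1 := by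
    intro d y hy h
    apply hy
    have : y = d⁻¹ * (d * y * d⁻¹) * d := by group
    rw [this, h]; group
  have hf : Function.Injective f := by
    intro o o' h
    rcases o with _ | (d | d) <;> rcases o' with _ | (d' | d')
    · rfl
    · exfalso
      have h1 : (1 : G) = d'.1 * t * d'.1⁻¹ := congrArg Subtype.val h
      exact hconj1 _ _ ht1 h1.symm
    · exfalso
      have h1 : (1 : G) = d'.1 * x * d'.1⁻¹ := congrArg Subtype.val h
      exact hconj1 _ _ hx1 h1.symm
    · exfalso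
      have h1 : d.1 * t * d.1⁻¹ = (1 : G) := congrArg Subtype.val h
      exact hconj1 _ _ ht1 h1
    · have h1 : d.1 * t * d.1⁻¹ = d'.1 * t * d'.1⁻¹ := congrArg Subtype.val h
      have := conj_inj hK huH htK ht1 d.2 d'.2 h1
      rw [Subtype.ext this]
    · exfalso
      have h1 : d.1 * t * d.1⁻¹ = d'.1 * x * d'.1⁻¹ := congrArg Subtype.val h
      apply hxx
      have h2 : (d'.1 * x * d'.1⁻¹) * (d'.1 * x * d'.1⁻¹) = 1 := by
        rw [← h1]
        calc d.1 * t * d.1⁻¹ * (d.1 * t * d.1⁻¹) = d.1 * (t * t) * d.1⁻¹ := by group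
          _ = 1 := by rw [htt]; group
      calc x * x = d'.1⁻¹ * ((d'.1 * x * d'.1⁻¹) * (d'.1 * x * d'.1⁻¹)) * d'.1 := by group
        _ = 1 := by rw [h2]; group
    · exfalso
      have h1 : d.1 * x * d.1⁻¹ = (1 : G) := congrArg Subtype.val h
      exact hconj1 _ _ hx1 h1
    · exfalso
      have h1 : d.1 * x * d.1⁻¹ = d'.1 * t * d'.1⁻¹ := congrArg Subtype.val h
      apply hxx
      have h2 : (d.1 * x * d.1⁻¹) * (d.1 * x * d.1⁻¹) = 1 := by
        rw [h1]
        calc d'.1 * t * d'.1⁻¹ * (d'.1 * t * d'.1⁻¹) = d'.1 * (t * t) * d'.1⁻¹ := by group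
          _ = 1 := by rw [htt]; group
      calc x * x = d.1⁻¹ * ((d.1 * x * d.1⁻¹) * (d.1 * x * d.1⁻¹)) * d.1 := by group
        _ = 1 := by rw [h2]; group
    · have h1 : d.1 * x * d.1⁻¹ = d'.1 * x * d'.1⁻¹ := congrArg Subtype.val h
      have := conj_inj hK huH hx hx1 d.2 d'.2 h1
      rw [Subtype.ext this]
  have hle := Nat.card_le_card_of_injective f hf
  rw [Finite.card_option, Nat.card_sum] at hle
  obtain ⟨a, ha⟩ := heven
  obtain ⟨b, hb⟩ := hodd
  omega

end main

end Cfsg.Agent.Helper2.CAEv
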