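import Mathlib
import Cfsg.Agent.Helper2.CAOddC

/-!
# Summing a class function over a group partitioned by T.I. subgroups
-/

set_option autoImplicit false
set_option linter.style.haveILetI false

namespace Cfsg.Agent.Helper2.CAOdd

open scoped ComplexConjugate

universe u

variable {G : Type u} [Group G] [Fintype G]

open Classical in
/-- the number of elements conjugating a given nonidentity element into a T.I. subgroup -/
theorem card_conj_into (K : Subgroup G)
    (hTI : ∀ g : G, g ∉ Subgroup.normalizer (K : Set G) → ∀ k ∈ K, g * k * g⁻¹ ∈ K → k = 1)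
    (x : G) (hx : x ≠ 1) (g₁ : G) (hg₁ : g₁⁻¹ * x * g₁ ∈ K) :
    (Finset.univ.filter (fun g : G => g⁻¹ * x * g ∈ K)).card =
      Nat.card ↥(Subgroup.normalizer (K : Set G)) := by
  have hk1 : g₁⁻¹ * x * g₁ ≠ 1 := by
    intro h
    apply hx
    have : x = g₁ * (g₁⁻¹ * x * g₁) * g₁⁻¹ := by group
    rw [this, h]
    group
  have hset : Finset.univ.filter (fun g : G => g⁻¹ * x * g ∈ K) =
      (Finset.univ.filter (fun n : G => n ∈ Subgroup.normalizer (K : Set G))).image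
        (fun n => g₁ * n) := by
    ext g
    rw [Finset.mem_filter, Finset.mem_image]
    constructor
    · rintro ⟨-, hg⟩
      refine ⟨g₁⁻¹ * g, ?_, by group⟩
      rw [Finset.mem_filter]
      refine ⟨Finset.mem_univ _, ?_⟩
      by_contra hn
      have hn' : (g₁⁻¹ * g)⁻¹ ∉ Subgroup.normalizer (K : Set G) := by
        intro h
        exact hn (by simpa using Subgroup.inv_mem _ h)
      apply hk1
      apply hTI _ hn' _ hg₁
      have : (g₁⁻¹ * g)⁻¹ * (g₁⁻¹ * x * g₁) * (g₁⁻¹ * g)⁻¹⁻¹ = g⁻¹ * x * g := by group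
      rw [this]
      exact hg
    · rintro ⟨n, hn, rfl⟩
      rw [Finset.mem_filter] at hn
      refine ⟨Finset.mem_univ _, ?_⟩
      have hn2 : n⁻¹ ∈ Subgroup.normalizer (K : Set G) := Subgroup.inv_mem _ hn.2
      rw [Subgroup.mem_normalizer_iff] at hn2
      have h1 := (hn2 (g₁⁻¹ * x * g₁)).mp hg₁
      have : (g₁ * n)⁻¹ * x * (g₁ * n) = n⁻¹ * (g₁⁻¹ * x * g₁) * n⁻¹⁻¹ := by group
      rw [this]
      exact h1
  rw [hset, Finset.card_image_of_injective _ (mul_right_injective g₁),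
    Nat.card_eq_fintype_card, Fintype.card_subtype]

open Classical in
/-- the sum of a class function over the nonidentity elements conjugate into a T.I. subgroup -/
theorem sum_conj_into (K : Subgroup G)
    (hTI : ∀ g : G, g ∉ Subgroup.normalizer (K : Set G) → ∀ k ∈ K, g * k * g⁻¹ ∈ K → k = 1)
    (F : G → ℂ) (hF : Cfsg.IsClassFunction G F) :
    ∑ x : G, (if x ≠ 1 ∧ ∃ g : G, g * x * g⁻¹ ∈ K then F x else 0) =
      ((Subgroup.normalizer (K : Set G)).index : ℂ) *
        ∑ x : G, (if x ∈ K ∧ x ≠ 1 then F x else 0) := by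
  set N := Subgroup.normalizer (K : Set G) with hN
  -- the double sum
  have hT1 : ∑ g : G, ∑ x : G, (if x ≠ 1 ∧ g⁻¹ * x * g ∈ K then F x else 0) =
      (Nat.card G : ℂ) * ∑ x : G, (if x ∈ K ∧ x ≠ 1 then F x else 0) := by
    have h1 : ∀ g : G, ∑ x : G, (if x ≠ 1 ∧ g⁻¹ * x * g ∈ K then F x else 0) =
        ∑ y : G, (if y ∈ K ∧ y ≠ 1 then F y else 0) := by
      intro g
      apply Fintype.sum_equiv (MulAut.conj g⁻¹).toEquiv
      intro x
      simp only [MulEquiv.toEquiv_eq_coe, MulEquiv.coe_toEquiv, MulAut.conj_apply, inv_inv]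
      have h2 : (g⁻¹ * x * g ≠ 1) ↔ (x ≠ 1) := by
        constructor
        · intro h h'
          apply h
          rw [h']
          group
        · intro h h'
          apply h
          have : x = g * (g⁻¹ * x * g) * g⁻¹ := by group
          rw [this, h']
          group
      have h3 : F (g⁻¹ * x * g) = F x := by
        have := hF x g⁻¹
        rwa [inv_inv] at this
      rw [h3]
      by_cases hc : x ≠ 1 ∧ g⁻¹ * x * g ∈ K
      · rw [if_pos hc, if_pos ⟨hc.2, h2.mpr hc.1⟩]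
      · rw [if_neg hc, if_neg]
        intro h
        exact hc ⟨h2.mp h.2, h.1⟩
    rw [Finset.sum_congr rfl (fun g _ => h1 g), Finset.sum_const, Finset.card_univ,
      nsmul_eq_mul, Nat.card_eq_fintype_card]
  have hT2 : ∑ g : G, ∑ x : G, (if x ≠ 1 ∧ g⁻¹ * x * g ∈ K then F x else 0) =
      (Nat.card ↥N : ℂ) * ∑ x : G, (if x ≠ 1 ∧ ∃ g : G, g * x * g⁻¹ ∈ K then F x else 0) := by
    rw [Finset.sum_comm, Finset.mul_sum]
    apply Finset.sum_congr rfl
    intro x _
    by_cases hc : x ≠ 1 ∧ ∃ g : G, g * x * g⁻¹ ∈ K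
    · rw [if_pos hc]
      obtain ⟨hx, g₀, hg₀⟩ := hc
      have hcard := card_conj_into K hTI x hx g₀⁻¹ (by rwa [inv_inv])
      have h1 : ∑ g : G, (if x ≠ 1 ∧ g⁻¹ * x * g ∈ K then F x else 0) =
          ∑ g ∈ Finset.univ.filter (fun g : G => g⁻¹ * x * g ∈ K), F x := by
        rw [Finset.sum_filter]
        apply Finset.sum_congr rfl
        intro g _
        simp only [hx, ne_eq, not_false_eq_true, true_and]
      rw [h1, Finset.sum_const, hcard, nsmul_eq_mul]
    · rw [if_neg hc, mul_zero]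
      apply Finset.sum_eq_zero
      intro g _
      rw [if_neg]
      intro h
      apply hc
      refine ⟨h.1, g⁻¹, ?_⟩
      rw [inv_inv]
      exact h.2
  have hNG : (Nat.card ↥N : ℂ) * (N.index : ℂ) = (Nat.card G : ℂ) := by
    exact_mod_cast Subgroup.card_mul_index N
  have hN0 : (Nat.card ↥N : ℂ) ≠ 0 := by
    have : 0 < Nat.card ↥N := Nat.card_pos
    exact_mod_cast this.ne'
  have h := hT1.symm.trans hT2
  rw [← hNG] at h
  have h2 : (Nat.card ↥N : ℂ) * ((N.index : ℂ) * ∑ x : G, (if x ∈ K ∧ x ≠ 1 then F x else 0)) =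
      (Nat.card ↥N : ℂ) *
        ∑ x : G, (if x ≠ 1 ∧ ∃ g : G, g * x * g⁻¹ ∈ K then F x else 0) := by
    rw [← h]; ring
  exact (mul_left_cancel₀ hN0 h2).symm

open Classical in
/-- the sum of a class function over a group partitioned by the conjugates of T.I. subgroups -/
theorem sum_partition (R : Finset (Subgroup G))
    (hTI : ∀ K ∈ R, ∀ g : G, g ∉ Subgroup.normalizer (K : Set G) → ∀ k ∈ K,
      g * k * g⁻¹ ∈ K → k = 1)
    (hcover : ∀ x : G, x ≠ 1 → ∃ K ∈ R, ∃ g : G, g * x * g⁻¹ ∈ K)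
    (hdisj : ∀ K ∈ R, ∀ K' ∈ R, ∀ k ∈ K, k ≠ 1 → ∀ g : G, g * k * g⁻¹ ∈ K' → K = K')
    (F : G → ℂ) (hF : Cfsg.IsClassFunction G F) :
    ∑ x : G, F x = F 1 + ∑ K ∈ R, ((Subgroup.normalizer (K : Set G)).index : ℂ) *
        ∑ x : G, (if x ∈ K ∧ x ≠ 1 then F x else 0) := by
  have h1 : ∀ K ∈ R, ((Subgroup.normalizer (K : Set G)).index : ℂ) *
        ∑ x : G, (if x ∈ K ∧ x ≠ 1 then F x else 0) =
      ∑ x : G, (if x ≠ 1 ∧ ∃ g : G, g * x * g⁻¹ ∈ K then F x else 0) :=
    fun K hK => (sum_conj_into K (hTI K hK) F hF).symm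
  rw [Finset.sum_congr rfl h1, Finset.sum_comm]
  rw [← Finset.add_sum_erase Finset.univ F (Finset.mem_univ (1 : G))]
  rw [← Finset.add_sum_erase Finset.univ _ (Finset.mem_univ (1 : G))]
  have h2 : ∑ K ∈ R, (if (1 : G) ≠ 1 ∧ ∃ g : G, g * (1 : G) * g⁻¹ ∈ K then F 1 else 0) = 0 := by
    apply Finset.sum_eq_zero
    intro K _
    rw [if_neg]
    intro h
    exact h.1 rfl
  rw [h2, zero_add]
  congr 1
  apply Finset.sum_congr rfl
  intro x hx
  rw [Finset.mem_erase] at hx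
  obtain ⟨K₀, hK₀, g₀, hg₀⟩ := hcover x hx.1
  rw [Finset.sum_eq_single K₀]
  · rw [if_pos ⟨hx.1, g₀, hg₀⟩]
  · intro K hK hne
    rw [if_neg]
    rintro ⟨-, g, hg⟩
    apply hne
    -- `g₀ x g₀⁻¹ ∈ K₀` and `g x g⁻¹ ∈ K`
    have hk1 : g₀ * x * g₀⁻¹ ≠ 1 := by
      intro h
      apply hx.1
      have : x = g₀⁻¹ * (g₀ * x * g₀⁻¹) * g₀ := by group
      rw [this, h]
      group
    have := hdisj K₀ hK₀ K hK _ hg₀ hk1 (g * g₀⁻¹) (by
      have : g * g₀⁻¹ * (g₀ * x * g₀⁻¹) * (g * g₀⁻¹)⁻¹ = g * x * g⁻¹ := by group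
      rw [this]
      exact hg)
    exact this.symm
  · intro h
    exact absurd hK₀ h

end Cfsg.Agent.Helper2.CAOdd
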