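import Mathlib
import Cfsg.Agent.Helper2.CAOddD
import Cfsg.Agent.Helper6.OddReal

/-!
# The families of exceptional characters of a CA-group of odd order
-/

set_option autoImplicit false
set_option linter.style.haveILetI false

namespace Cfsg.Agent.Helper2.CAOdd

open Cfsg.Agent.Helper6
open scoped ComplexConjugate

universe u

variable {G : Type u} [Group G] [Fintype G] [Fintype (Cfsg.IrrCharacter G)]

/-- the trivial character -/
noncomputable def triv (G : Type u) [Group G] : Cfsg.IrrCharacter G :=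
  ⟨fun _ => 1, isIrrCharacter_one⟩

open Classical in
/-- the family of exceptional characters of a maximal abelian subgroup, with its invariants -/
structure Fam (K : Subgroup G) where
  e : ℕ
  t : ℕ
  εz : ℤ
  m : ℤ
  E : Finset (Cfsg.IrrCharacter G)
  c : Cfsg.IrrCharacter G → ℤ
  d : ℕ
  hε : εz = 1 ∨ εz = -1
  hN : e * Nat.card K = Nat.card ↥(Subgroup.normalizer (K : Set G))
  hcard : t * e + 1 = Nat.card K
  hE : E.card = t
  ht2 : 2 ≤ t
  hteven : Even t
  htriv : triv G ∉ E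
  hdeg : ∀ χ ∈ E, (χ : G → ℂ) 1 = (d : ℂ)
  hnon : ∀ χ : Cfsg.IrrCharacter G, χ ∉ E → ∀ k ∈ K, k ≠ 1 → (χ : G → ℂ) k = (c χ : ℂ)
  hcE : ∀ χ ∈ E, c χ = 0
  hctriv : c (triv G) = 1
  hsq : ∑ χ, c χ ^ 2 = (e : ℤ) + 2 * εz * m - t * m ^ 2
  hsumE : ∀ k ∈ K, k ≠ 1 → ∑ χ ∈ E, (χ : G → ℂ) k = -(εz : ℂ) + t * m
  hrow : ∀ χ ∈ E,
    ∑ x : G, (if x ∈ K ∧ x ≠ 1 then (χ : G → ℂ) x * conj ((χ : G → ℂ) x) else 0) =
      (e : ℂ) * (Nat.card K : ℂ) - (e : ℂ) ^ 2 - 2 * εz * m * e +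
        ((Nat.card K : ℂ) - 1) * (m : ℂ) ^ 2
  hout : ∀ χ ∈ E, ∀ χ' ∈ E, ∀ x : G, (∀ g : G, g * x * g⁻¹ ∈ K → x = 1) →
    (χ : G → ℂ) x = (χ' : G → ℂ) x

theorem fam_nonempty {K : Subgroup G} (hK : IsMaxAb K) (hodd : Odd (Nat.card G)) :
    Nonempty (Fam K) := by
  obtain ⟨e, t, εz, m, E, c, d, h1, h2, h3, h4, h5, h6, h7, h8, h9, h10, h11, h12, h13, h14,
    h15⟩ := fam_exists K hK.ti hK.cent_le hK.comm hK.1 hodd
  exact ⟨⟨e, t, εz, m, E, c, d, h1, h2, h3, h4, h5, h6, h7, h8, h9, h10, h11, h12, h13, h14,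
    h15⟩⟩

section Families

variable (R : Finset (Subgroup G)) (hR1 : ∀ K ∈ R, IsMaxAb K)
  (hR2 : ∀ x : G, x ≠ 1 → ∃ K ∈ R, ∃ g : G, g * x * g⁻¹ ∈ K)
  (hR3 : ∀ K ∈ R, ∀ K' ∈ R, ∀ k ∈ K, k ≠ 1 → ∀ g : G, g * k * g⁻¹ ∈ K' → K = K')
  (Φ : ∀ i : ↥R, Fam (i : Subgroup G))

include hR3 in
/-- nonidentity elements of different representatives are not conjugate -/
theorem no_conj {i j : ↥R} (hij : i ≠ j) {k : G} (hk : k ∈ (i : Subgroup G)) :
    ∀ g : G, g * k * g⁻¹ ∈ (j : Subgroup G) → k = 1 := by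
  intro g hg
  by_contra hk1
  exact hij (Subtype.ext (hR3 _ i.2 _ j.2 k hk hk1 g hg))

include hR3 in
/-- an element cannot be conjugate into two different representatives -/
theorem no_conj' {i j : ↥R} (hij : i ≠ j) {x g : G} (hx1 : x ≠ 1)
    (hg : g * x * g⁻¹ ∈ (i : Subgroup G)) : ∀ g' : G, g' * x * g'⁻¹ ∈ (j : Subgroup G) → x = 1 := by
  intro g' hg'
  exfalso
  have hk1 : g * x * g⁻¹ ≠ 1 := by
    intro h
    apply hx1
    have : x = g⁻¹ * (g * x * g⁻¹) * g := by group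
    rw [this, h]
    group
  apply hk1
  apply no_conj R hR3 hij hg (g' * g⁻¹)
  have : g' * g⁻¹ * (g * x * g⁻¹) * (g' * g⁻¹)⁻¹ = g' * x * g'⁻¹ := by group
  rw [this]
  exact hg'

include hR3 in
/-- different families are disjoint -/
theorem fam_disjoint {i j : ↥R} (hij : i ≠ j) : Disjoint (Φ i).E (Φ j).E := by
  classical
  rw [Finset.disjoint_left]
  intro χ hχi hχj
  -- second members
  obtain ⟨χi, hχi', hne_i⟩ : ∃ χ' ∈ (Φ i).E, χ' ≠ χ := by
    have h1 : 1 < (Φ i).E.card := by rw [(Φ i).hE]; exact (Φ i).ht2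
    exact Finset.exists_mem_ne h1 χ
  obtain ⟨χj, hχj', hne_j⟩ : ∃ χ' ∈ (Φ j).E, χ' ≠ χ := by
    have h1 : 1 < (Φ j).E.card := by rw [(Φ j).hE]; exact (Φ j).ht2
    exact Finset.exists_mem_ne h1 χ
  have hzero : Cfsg.classInner ((χ : G → ℂ) - (χi : G → ℂ)) ((χ : G → ℂ) - (χj : G → ℂ)) = 0 := by
    rw [classInner_def, Finset.sum_eq_zero, mul_zero]
    intro x _
    simp only [Pi.sub_apply]
    by_cases hx : ∀ g : G, g * x * g⁻¹ ∈ (i : Subgroup G) → x = 1
    · rw [(Φ i).hout χ hχi χi hχi' x hx, sub_self, zero_mul]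
    · push Not at hx
      obtain ⟨g, hg, hx1⟩ := hx
      rw [(Φ j).hout χ hχj χj hχj' x (no_conj' R hR3 hij hx1 hg), sub_self, map_zero, mul_zero]
  rw [classInner_sub_left, classInner_sub_right, classInner_sub_right,
    classInner_irr_self χ.2, classInner_irr_ne χ.2 χj.2 (fun h => hne_j (Subtype.ext h.symm)),
    classInner_irr_ne χi.2 χ.2 (fun h => hne_i (Subtype.ext h))] at hzero
  by_cases h : χi = χj
  · rw [h, classInner_irr_self χj.2] at hzero
    norm_num at hzero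
  · rw [classInner_irr_ne χi.2 χj.2 (fun h' => h (Subtype.ext h'))] at hzero
    norm_num at hzero

include hR2 in
/-- every nonprincipal irreducible character is exceptional for some representative -/
theorem fam_exhaustive (hodd : Odd (Nat.card G)) (χ : Cfsg.IrrCharacter G) (hχ : χ ≠ triv G) :
    ∃ i : ↥R, χ ∈ (Φ i).E := by
  by_contra hcon
  push Not at hcon
  apply hχ
  apply Subtype.ext
  apply eq_one_of_real_of_odd hodd χ
  intro x
  by_cases hx : x = 1
  · rw [hx]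
    obtain ⟨n, hn⟩ := IsCharacter.apply_one (IsIrrCharacter.isCharacter χ.2)
    rw [hn]
    simp
  · obtain ⟨K, hK, g, hg⟩ := hR2 x hx
    have h1 : (χ : G → ℂ) (g * x * g⁻¹) = (χ : G → ℂ) x :=
      IsCharacter.isClassFunction (IsIrrCharacter.isCharacter χ.2) x g
    have hk1 : g * x * g⁻¹ ≠ 1 := by
      intro h
      apply hx
      have : x = g⁻¹ * (g * x * g⁻¹) * g := by group
      rw [this, h]
      group
    have h2 := (Φ ⟨K, hK⟩).hnon χ (hcon ⟨K, hK⟩) _ hg hk1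
    rw [← h1, h2]
    simp

include hR2 hR3 in
/-- splitting a sum over the irreducible characters along the families -/
theorem sum_irr (hodd : Odd (Nat.card G)) {M : Type*} [AddCommMonoid M]
    (Ψ : Cfsg.IrrCharacter G → M) :
    ∑ χ, Ψ χ = Ψ (triv G) + ∑ i : ↥R, ∑ χ ∈ (Φ i).E, Ψ χ := by
  classical
  have huniv : (Finset.univ : Finset (Cfsg.IrrCharacter G)) =
      insert (triv G) (Finset.univ.biUnion (fun i : ↥R => (Φ i).E)) := by
    ext χ
    simp only [Finset.mem_univ, Finset.mem_insert, Finset.mem_biUnion, true_and, true_iff]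
    by_cases h : χ = triv G
    · exact Or.inl h
    · exact Or.inr (fam_exhaustive R hR2 Φ hodd χ h)
  rw [huniv, Finset.sum_insert, Finset.sum_biUnion]
  · intro i _ j _ hij
    exact fam_disjoint R hR3 Φ hij
  · simp only [Finset.mem_biUnion, Finset.mem_univ, true_and, not_exists]
    intro i
    exact (Φ i).htriv

include hR1 hR3 in
/-- the value of the characters of one family on another representative -/
theorem c_const {i j : ↥R} (hij : i ≠ j) {χ χ' : Cfsg.IrrCharacter G} (hχ : χ ∈ (Φ i).E)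
    (hχ' : χ' ∈ (Φ i).E) : (Φ j).c χ = (Φ j).c χ' := by
  obtain ⟨k, hk1⟩ := (Subgroup.ne_bot_iff_exists_ne_one).mp (hR1 _ j.2).1
  have hk1' : (k : G) ≠ 1 := fun h => hk1 (Subtype.ext h)
  have hd := fam_disjoint R hR3 Φ hij
  rw [Finset.disjoint_left] at hd
  have h1 := (Φ j).hnon χ (hd hχ) k k.2 hk1'
  have h2 := (Φ j).hnon χ' (hd hχ') k k.2 hk1'
  have h3 := (Φ i).hout χ hχ χ' hχ' k (no_conj R hR3 (Ne.symm hij) k.2)
  rw [h1, h2] at h3
  exact_mod_cast h3

/-- a chosen member of each family -/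
noncomputable def famRep (i : ↥R) : Cfsg.IrrCharacter G :=
  Classical.choose (Finset.card_pos.mp (by rw [(Φ i).hE]; have := (Φ i).ht2; omega))

theorem famRep_mem (i : ↥R) : famRep R Φ i ∈ (Φ i).E :=
  Classical.choose_spec (Finset.card_pos.mp (by rw [(Φ i).hE]; have := (Φ i).ht2; omega))

/-- the value of the `i`-th family on the `j`-th representative -/
noncomputable def uval (i j : ↥R) : ℤ := (Φ j).c (famRep R Φ i)

include hR1 hR3 in
theorem c_eq_uval {i j : ↥R} (hij : i ≠ j) {χ : Cfsg.IrrCharacter G} (hχ : χ ∈ (Φ i).E) :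
    (Φ j).c χ = uval R Φ i j :=
  c_const R hR1 hR3 Φ hij hχ (famRep_mem R Φ i)

include hR1 hR3 in
/-- values of the `i`-th family on the `j`-th representative -/
theorem val_eq_uval {i j : ↥R} (hij : i ≠ j) {χ : Cfsg.IrrCharacter G} (hχ : χ ∈ (Φ i).E)
    {k : G} (hk : k ∈ (j : Subgroup G)) (hk1 : k ≠ 1) :
    (χ : G → ℂ) k = (uval R Φ i j : ℂ) := by
  have hd := fam_disjoint R hR3 Φ hij
  rw [Finset.disjoint_left] at hd
  rw [(Φ j).hnon χ (hd hχ) k hk hk1, c_eq_uval R hR1 hR3 Φ hij hχ]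

end Families

end Cfsg.Agent.Helper2.CAOdd
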