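import Mathlib
import Cfsg.Agent.Helper2.CAOddE

/-!
# The numerical relations between the families of exceptional characters
-/

set_option autoImplicit false
set_option linter.style.haveILetI false

namespace Cfsg.Agent.Helper2.CAOdd

open Cfsg.Agent.Helper6
open scoped ComplexConjugate

universe u

variable {G : Type u} [Group G] [Fintype G] [Fintype (Cfsg.IrrCharacter G)]

variable (R : Finset (Subgroup G)) (hR1 : ∀ K ∈ R, IsMaxAb K)
  (hR2 : ∀ x : G, x ≠ 1 → ∃ K ∈ R, ∃ g : G, g * x * g⁻¹ ∈ K)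
  (hR3 : ∀ K ∈ R, ∀ K' ∈ R, ∀ k ∈ K, k ≠ 1 → ∀ g : G, g * k * g⁻¹ ∈ K' → K = K')
  (Φ : ∀ i : ↥R, Fam (i : Subgroup G))

include hR1 hR2 hR3 in
/-- the parity relation: of two different families, one does not vanish on the other -/
theorem parity (hodd : Odd (Nat.card G)) {i j : ↥R} (hij : i ≠ j) :
    uval R Φ i j ≠ 0 ∨ uval R Φ j i ≠ 0 := by
  classical
  by_contra hcon
  push Not at hcon
  obtain ⟨hu1, hu2⟩ := hcon
  obtain ⟨x, hx1⟩ := (Subgroup.ne_bot_iff_exists_ne_one).mp (hR1 _ i.2).1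
  obtain ⟨y, hy1⟩ := (Subgroup.ne_bot_iff_exists_ne_one).mp (hR1 _ j.2).1
  have hx1' : (x : G) ≠ 1 := fun h => hx1 (Subtype.ext h)
  have hy1' : (y : G) ≠ 1 := fun h => hy1 (Subtype.ext h)
  have hnc : ¬ IsConj (x : G) (y : G) := by
    intro h
    obtain ⟨g, hg⟩ := isConj_iff.mp h
    apply hx1'
    apply no_conj R hR3 hij x.2 g
    rw [hg]
    exact y.2
  have hcol := column_orthogonality_aux (G := G) (x : G) (y : G)
  rw [if_neg hnc, sum_irr R hR2 hR3 Φ hodd] at hcol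
  have hz : ∀ l : ↥R, ∃ z : ℤ, ∑ χ ∈ (Φ l).E, (χ : G → ℂ) x * conj ((χ : G → ℂ) y) =
      ((2 * z : ℤ) : ℂ) := by
    intro l
    by_cases hli : l = i
    · refine ⟨0, ?_⟩
      subst hli
      rw [Finset.sum_eq_zero]
      · simp
      · intro χ hχ
        rw [val_eq_uval R hR1 hR3 Φ hij hχ y.2 hy1', hu1]
        simp
    · by_cases hlj : l = j
      · refine ⟨0, ?_⟩
        subst hlj
        rw [Finset.sum_eq_zero]
        · simp
        · intro χ hχ
          rw [val_eq_uval R hR1 hR3 Φ (Ne.symm hij) hχ x.2 hx1', hu2]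
          simp
      · obtain ⟨a, ha⟩ := (Φ l).hteven
        refine ⟨a * (uval R Φ l i * uval R Φ l j), ?_⟩
        have h1 : ∀ χ ∈ (Φ l).E, (χ : G → ℂ) x * conj ((χ : G → ℂ) y) =
            ((uval R Φ l i * uval R Φ l j : ℤ) : ℂ) := by
          intro χ hχ
          rw [val_eq_uval R hR1 hR3 Φ hli hχ x.2 hx1', val_eq_uval R hR1 hR3 Φ hlj hχ y.2 hy1']
          simp
        rw [Finset.sum_congr rfl h1, Finset.sum_const, (Φ l).hE, ha]
        push_cast
        ring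
  choose z hz using hz
  rw [Finset.sum_congr rfl (fun l _ => hz l)] at hcol
  have h1 : (((1 + 2 * ∑ l : ↥R, z l : ℤ)) : ℂ) = 0 := by
    rw [← hcol]
    simp only [triv]
    push_cast
    rw [Finset.mul_sum]
    simp
  have h2 : (1 + 2 * ∑ l : ↥R, z l : ℤ) = 0 := by exact_mod_cast h1
  omega

open Classical in
include hR1 hR2 hR3 in
/-- the column relation -/
theorem col (hodd : Odd (Nat.card G)) (j : ↥R) :
    1 + ∑ i ∈ Finset.univ.erase j, ((Φ i).t : ℤ) * (uval R Φ i j) ^ 2 =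
      ((Φ j).e : ℤ) + 2 * (Φ j).εz * (Φ j).m - (Φ j).t * (Φ j).m ^ 2 := by
  classical
  rw [← (Φ j).hsq, sum_irr R hR2 hR3 Φ hodd, (Φ j).hctriv, one_pow]
  congr 1
  rw [← Finset.sum_erase (Finset.univ : Finset ↥R) (a := j)]
  · apply Finset.sum_congr rfl
    intro i hi
    rw [Finset.mem_erase] at hi
    rw [Finset.sum_congr rfl (fun χ hχ => by rw [c_eq_uval R hR1 hR3 Φ hi.1 hχ]),
      Finset.sum_const, (Φ i).hE, nsmul_eq_mul]
  · apply Finset.sum_eq_zero
    intro χ hχ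
    rw [(Φ j).hcE χ hχ]
    norm_num

/-- the index of the normalizer of a representative -/
noncomputable def idx (i : ↥R) : ℕ := (Subgroup.normalizer ((i : Subgroup G) : Set G)).index

theorem idx_mul (Φ : ∀ i : ↥R, Fam (i : Subgroup G)) (i : ↥R) :
    idx R i * ((Φ i).e * Nat.card (i : Subgroup G)) = Nat.card G := by
  rw [(Φ i).hN, idx, mul_comm]
  exact Subgroup.card_mul_index _

open Classical in
/-- the number of nonidentity elements of a subgroup as a sum -/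
theorem sum_one_K (K : Subgroup G) :
    ∑ x : G, (if x ∈ K ∧ x ≠ 1 then (1 : ℂ) else 0) = (Nat.card K : ℂ) - 1 := by
  haveI : Fintype ↥(Subgroup.normalizer (K : Set G)) := Fintype.ofFinite _
  rw [sum_K_eq (K := K) (fun _ => (1 : ℂ)), card_K_sum]

include hR1 hR2 hR3 in
/-- the counting relation -/
theorem count (Φ : ∀ i : ↥R, Fam (i : Subgroup G)) :
    (Nat.card G : ℤ) = 1 + ∑ i : ↥R, (idx R i : ℤ) * ((Φ i).t * (Φ i).e) := by
  classical
  have h := sum_partition R (fun K hK => (hR1 K hK).ti) hR2 hR3 (fun _ => (1 : ℂ))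
    (fun _ _ => rfl)
  rw [Finset.sum_const, Finset.card_univ, nsmul_eq_mul, mul_one, ← Nat.card_eq_fintype_card,
    ← Finset.sum_coe_sort R] at h
  have h2 : ∀ i : ↥R, ((Subgroup.normalizer ((i : Subgroup G) : Set G)).index : ℂ) *
      ∑ x : G, (if x ∈ (i : Subgroup G) ∧ x ≠ 1 then (1 : ℂ) else 0) =
      (((idx R i : ℤ) * ((Φ i).t * (Φ i).e) : ℤ) : ℂ) := by
    intro i
    rw [sum_one_K, ← (Φ i).hcard]
    simp only [idx]
    push_cast
    ring
  rw [Finset.sum_congr rfl (fun i _ => h2 i)] at h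
  have h3 : ((Nat.card G : ℤ) : ℂ) =
      ((1 + ∑ i : ↥R, (idx R i : ℤ) * ((Φ i).t * (Φ i).e) : ℤ) : ℂ) := by
    push_cast
    push_cast at h
    exact h
  exact_mod_cast h3

open Classical in
include hR1 hR2 hR3 in
/-- the row relation -/
theorem row (j : ↥R) :
    ∑ i ∈ Finset.univ.erase j, (idx R i : ℤ) * ((Φ i).t * (Φ i).e) * (uval R Φ j i) ^ 2 =
      (idx R j : ℤ) * (Φ j).e * ((Φ j).e + 2 * (Φ j).εz * (Φ j).m - (Φ j).t * (Φ j).m ^ 2) -
        ((Φ j).d : ℤ) ^ 2 := by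
  classical
  set χ := famRep R Φ j with hχdef
  have hχ : χ ∈ (Φ j).E := famRep_mem R Φ j
  have hcf : Cfsg.IsClassFunction G (fun x => (χ : G → ℂ) x * conj ((χ : G → ℂ) x)) := by
    intro g h
    simp only
    rw [IsCharacter.isClassFunction (IsIrrCharacter.isCharacter χ.2) g h]
  have h := sum_partition R (fun K hK => (hR1 K hK).ti) hR2 hR3 _ hcf
  have hnorm := classInner_irr_self χ.2
  rw [classInner_def] at hnorm
  have hG0 : (Nat.card G : ℂ) ≠ 0 := by
    have : 0 < Nat.card G := Nat.card_pos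
    exact_mod_cast this.ne'
  have hnorm' : ∑ g : G, (χ : G → ℂ) g * conj ((χ : G → ℂ) g) = (Nat.card G : ℂ) := by
    field_simp at hnorm
    exact hnorm
  rw [hnorm', ← Finset.sum_coe_sort R] at h
  rw [(Φ j).hdeg χ hχ, Complex.conj_natCast] at h
  rw [← Finset.add_sum_erase Finset.univ _ (Finset.mem_univ j)] at h
  rw [(Φ j).hrow χ hχ] at h
  have h2 : ∀ i ∈ Finset.univ.erase j,
      ((Subgroup.normalizer ((i : Subgroup G) : Set G)).index : ℂ) *
      ∑ x : G, (if x ∈ (i : Subgroup G) ∧ x ≠ 1 then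
        (χ : G → ℂ) x * conj ((χ : G → ℂ) x) else 0) =
      (((idx R i : ℤ) * ((Φ i).t * (Φ i).e) * (uval R Φ j i) ^ 2 : ℤ) : ℂ) := by
    intro i hi
    rw [Finset.mem_erase] at hi
    have h3 : ∀ x : G, (if x ∈ (i : Subgroup G) ∧ x ≠ 1 then
        (χ : G → ℂ) x * conj ((χ : G → ℂ) x) else 0) =
        ((uval R Φ j i : ℤ) : ℂ) ^ 2 * (if x ∈ (i : Subgroup G) ∧ x ≠ 1 then (1 : ℂ) else 0) := by
      intro x
      split_ifs with hx
      · rw [val_eq_uval R hR1 hR3 Φ (Ne.symm hi.1) hχ hx.1 hx.2]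
        simp
        ring
      · ring
    rw [Finset.sum_congr rfl (fun x _ => h3 x), ← Finset.mul_sum, sum_one_K, ← (Φ i).hcard]
    simp only [idx]
    push_cast
    ring
  rw [Finset.sum_congr rfl h2] at h
  have hidx := idx_mul R Φ j
  have hidxC : ((idx R j : ℤ) : ℂ) * (((Φ j).e : ℂ) * (Nat.card (j : Subgroup G) : ℂ)) =
      (Nat.card G : ℂ) := by exact_mod_cast hidx
  have hcardC : ((Φ j).t : ℂ) * ((Φ j).e : ℂ) + 1 = (Nat.card (j : Subgroup G) : ℂ) := by
    exact_mod_cast (Φ j).hcard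
  have h4 : ((∑ i ∈ Finset.univ.erase j,
      (idx R i : ℤ) * ((Φ i).t * (Φ i).e) * (uval R Φ j i) ^ 2 : ℤ) : ℂ) =
      (((idx R j : ℤ) * (Φ j).e * ((Φ j).e + 2 * (Φ j).εz * (Φ j).m - (Φ j).t * (Φ j).m ^ 2) -
        ((Φ j).d : ℤ) ^ 2 : ℤ) : ℂ) := by
    push_cast
    push_cast at h
    simp only [idx] at hidxC h ⊢
    rw [← hcardC] at h hidxC
    linear_combination (-1 : ℂ) * h - hidxC
  exact_mod_cast h4

end Cfsg.Agent.Helper2.CAOdd
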