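import Mathlib
import Cfsg.Agent.Helper2.CAOddF
import Cfsg.Agent.Helper6.Linear

/-!
# CA-groups of odd order are solvable (Suzuki)
-/

set_option autoImplicit false
set_option linter.style.haveILetI false

namespace Cfsg.Agent.Helper2.CAOdd

open Cfsg.Agent.Helper6
open scoped ComplexConjugate

universe u

/-- an elementary inequality -/
theorem tm_nonneg (t ε m : ℤ) (ht : 2 ≤ t) (hε : ε = 1 ∨ ε = -1) : 0 ≤ t * m ^ 2 - 2 * ε * m := by
  have h1 : 0 ≤ m * (m - 1) := by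
    rcases le_or_gt m 0 with h | h
    · nlinarith
    · nlinarith
  have h2 : 0 ≤ m * (m + 1) := by
    rcases le_or_gt m (-1) with h | h
    · nlinarith
    · nlinarith
  rcases hε with h | h <;> rw [h] <;> nlinarith [sq_nonneg m]

open Classical in
set_option maxHeartbeats 1600000 in
/-- a perfect nonabelian CA-group of odd order does not exist -/
theorem false_of_perfect {G : Type u} [Group G] [Fintype G] (hodd : Odd (Nat.card G))
    (hCA : ∀ x : G, x ≠ 1 → ∀ a ∈ Subgroup.centralizer ({x} : Set G),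
      ∀ b ∈ Subgroup.centralizer ({x} : Set G), a * b = b * a)
    (hnab : ∃ a b : G, a * b ≠ b * a) (hperf : commutator G = ⊤) : False := by
  haveI : Finite (Cfsg.IrrCharacter G) := irr_finite
  haveI : Fintype (Cfsg.IrrCharacter G) := Fintype.ofFinite _
  obtain ⟨R, hR1, hR2, hR3⟩ := exists_reps hCA
  set Φ : ∀ i : ↥R, Fam (i : Subgroup G) :=
    fun i => Classical.choice (fam_nonempty (hR1 i.1 i.2) hodd) with hΦ
  -- a nonidentity element
  obtain ⟨a, b, hab⟩ := hnab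
  have ha1 : a ≠ 1 := by
    intro h
    apply hab
    rw [h, one_mul, mul_one]
  obtain ⟨K₀, hK₀, -⟩ := hR2 a ha1
  obtain ⟨k, -, hkmin⟩ := Finset.exists_min_image (Finset.univ : Finset ↥R) (fun i => (Φ i).e)
    ⟨⟨K₀, hK₀⟩, Finset.mem_univ _⟩
  -- basic facts
  have hepos : ∀ i : ↥R, 1 ≤ (Φ i).e := by
    intro i
    by_contra h
    have h0 : (Φ i).e = 0 := by omega
    have := (Φ i).hN
    rw [h0, zero_mul] at this
    have hpos : 0 < Nat.card ↥(Subgroup.normalizer ((i : Subgroup G) : Set G)) := Nat.card_pos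
    omega
  have hidx : ∀ i : ↥R, (idx R i : ℤ) * ((Φ i).e * ((Φ i).t * (Φ i).e + 1)) = (Nat.card G : ℤ) := by
    intro i
    have h1 := idx_mul R Φ i
    rw [← (Φ i).hcard] at h1
    exact_mod_cast h1
  have hidx0 : ∀ i : ↥R, (0 : ℤ) ≤ (idx R i : ℤ) := fun i => Int.natCast_nonneg _
  -- the degree
  have hd2 : 2 ≤ (Φ k).d := by
    set χ := famRep R Φ k with hχdef
    have hχ : χ ∈ (Φ k).E := famRep_mem R Φ k
    have hdeg := (Φ k).hdeg χ hχ
    obtain ⟨n, hn, hn1⟩ := IsIrrCharacter.apply_one_pos χ.2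
    have hdn : (Φ k).d = n := by
      rw [hn1] at hdeg
      exact_mod_cast hdeg.symm
    by_contra hlt
    have hn1' : n = 1 := by omega
    rw [hn1'] at hn1
    have hcard := card_linear_irr (G := G)
    rw [hperf, Subgroup.index_top] at hcard
    have hsub : Subsingleton {χ : Cfsg.IrrCharacter G // (χ : G → ℂ) 1 = 1} :=
      (Nat.card_eq_one_iff_unique.mp hcard).1
    have := Subsingleton.elim (⟨χ, by simpa using hn1⟩ :
      {χ : Cfsg.IrrCharacter G // (χ : G → ℂ) 1 = 1}) ⟨triv G, rfl⟩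
    have h2 : χ = triv G := congrArg Subtype.val this
    exact (Φ k).htriv (h2 ▸ hχ)
  -- the relations
  have hcount := count R hR1 hR2 hR3 Φ
  have hcol := col R hR1 hR2 hR3 Φ hodd k
  have hrow := row R hR1 hR2 hR3 Φ k
  rw [← Finset.add_sum_erase Finset.univ _ (Finset.mem_univ k)] at hcount
  set ek : ℤ := ((Φ k).e : ℤ) with hek
  set tk : ℤ := ((Φ k).t : ℤ) with htk
  set Ik : ℤ := (idx R k : ℤ) with hIk
  set w : ℤ := ek + 2 * (Φ k).εz * (Φ k).m - tk * (Φ k).m ^ 2 with hw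
  set g : ℤ := (Nat.card G : ℤ) with hg
  set A : ℤ := ∑ i ∈ Finset.univ.erase k, (idx R i : ℤ) * (((Φ i).t : ℤ) * (Φ i).e) with hA
  set B : ℤ := ∑ i ∈ Finset.univ.erase k,
    (idx R i : ℤ) * (((Φ i).t : ℤ) * (Φ i).e) * (uval R Φ i k) ^ 2 with hB
  set C : ℤ := ∑ i ∈ Finset.univ.erase k,
    (idx R i : ℤ) * (((Φ i).t : ℤ) * (Φ i).e) * (uval R Φ k i) ^ 2 with hC
  set Dd : ℤ := ∑ i ∈ Finset.univ.erase k, ((Φ i).t : ℤ) * (uval R Φ i k) ^ 2 with hDd
  have hek1 : 1 ≤ ek := by rw [hek]; exact_mod_cast hepos k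
  have htk2 : 2 ≤ tk := by rw [htk]; exact_mod_cast (Φ k).ht2
  have hIk0 : 0 ≤ Ik := hidx0 k
  have hg0 : 0 ≤ g := Int.natCast_nonneg _
  have hwle : w ≤ ek := by
    have := tm_nonneg tk (Φ k).εz (Φ k).m htk2 (Φ k).hε
    rw [hw]
    linarith
  -- `A ≤ B + C`
  have hABC : A ≤ B + C := by
    rw [hA, hB, hC, ← Finset.sum_add_distrib]
    apply Finset.sum_le_sum
    intro i hi
    rw [Finset.mem_erase] at hi
    have hpar := parity R hR1 hR2 hR3 Φ hodd hi.1
    have h1 : 1 ≤ (uval R Φ i k) ^ 2 + (uval R Φ k i) ^ 2 := by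
      rcases hpar with h | h
      · have : 1 ≤ (uval R Φ i k) ^ 2 := by
          have : 0 < (uval R Φ i k) ^ 2 := by positivity
          omega
        nlinarith [sq_nonneg (uval R Φ k i)]
      · have : 1 ≤ (uval R Φ k i) ^ 2 := by
          have : 0 < (uval R Φ k i) ^ 2 := by positivity
          omega
        nlinarith [sq_nonneg (uval R Φ i k)]
    have h2 : 0 ≤ (idx R i : ℤ) * (((Φ i).t : ℤ) * (Φ i).e) := by positivity
    nlinarith
  -- `q * B ≤ g * Dd`
  have hqB : (1 + 2 * ek) * B ≤ g * Dd := by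
    rw [hB, hDd, Finset.mul_sum, Finset.mul_sum]
    apply Finset.sum_le_sum
    intro i hi
    rw [Finset.mem_erase] at hi
    have hei : ek ≤ ((Φ i).e : ℤ) := by
      rw [hek]
      exact_mod_cast hkmin i (Finset.mem_univ _)
    have hti : (2 : ℤ) ≤ ((Φ i).t : ℤ) := by exact_mod_cast (Φ i).ht2
    have hi1 := hidx i
    have hI0 := hidx0 i
    have he0 : (0 : ℤ) ≤ ((Φ i).e : ℤ) := Int.natCast_nonneg _
    have hu0 : 0 ≤ ((Φ i).t : ℤ) * (uval R Φ i k) ^ 2 := by positivity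
    have hq : (1 + 2 * ek) ≤ ((Φ i).t : ℤ) * (Φ i).e + 1 := by nlinarith
    have h3 : (1 + 2 * ek) * ((idx R i : ℤ) * (Φ i).e) ≤ g := by
      rw [← hi1]
      have : 0 ≤ (idx R i : ℤ) * (Φ i).e := by positivity
      nlinarith
    calc (1 + 2 * ek) * ((idx R i : ℤ) * (((Φ i).t : ℤ) * (Φ i).e) * (uval R Φ i k) ^ 2)
        = ((1 + 2 * ek) * ((idx R i : ℤ) * (Φ i).e)) * (((Φ i).t : ℤ) * (uval R Φ i k) ^ 2) := by
          ring
      _ ≤ g * (((Φ i).t : ℤ) * (uval R Φ i k) ^ 2) := by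
          exact mul_le_mul_of_nonneg_right h3 hu0
  -- assembling
  have hcol' : 1 + Dd = w := hcol
  have hrow' : C = Ik * ek * w - ((Φ k).d : ℤ) ^ 2 := hrow
  have hcount' : g = 1 + (Ik * (tk * ek) + A) := hcount
  have hgk : Ik * (ek * (tk * ek + 1)) = g := hidx k
  have hd2' : (2 : ℤ) ≤ ((Φ k).d : ℤ) := by exact_mod_cast hd2
  -- `q * Ik * ek * (tk + ek) ≤ g * (2 + ek)`
  have h6 : (1 + 2 * ek) * (Ik * ek * (tk + ek)) ≤ g * (2 + ek) := by
    rw [← hgk]
    have h7 : (1 + 2 * ek) * (tk + ek) ≤ (tk * ek + 1) * (2 + ek) := by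
      nlinarith [mul_nonneg (sub_nonneg.mpr htk2) (show (0:ℤ) ≤ ek * ek - 1 by nlinarith)]
    have h8 : 0 ≤ Ik * ek := by positivity
    calc (1 + 2 * ek) * (Ik * ek * (tk + ek)) = (Ik * ek) * ((1 + 2 * ek) * (tk + ek)) := by ring
      _ ≤ (Ik * ek) * ((tk * ek + 1) * (2 + ek)) := mul_le_mul_of_nonneg_left h7 h8
      _ = Ik * (ek * (tk * ek + 1)) * (2 + ek) := by ring
  have hq0 : 0 < 1 + 2 * ek := by linarith
  have hIw : Ik * ek * w ≤ Ik * ek * ek := by
    have h8 : 0 ≤ Ik * ek := by positivity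
    exact mul_le_mul_of_nonneg_left hwle h8
  have hgw : g * Dd ≤ g * (ek - 1) := by
    apply mul_le_mul_of_nonneg_left _ hg0
    linarith
  have hfinal : (1 + 2 * ek) * (g - 1) ≤ (1 + 2 * ek) * (g - ((Φ k).d : ℤ) ^ 2) := by
    have e1 : (1 + 2 * ek) * (g - 1) = (1 + 2 * ek) * (Ik * (tk * ek)) + (1 + 2 * ek) * A := by
      rw [hcount']; ring
    have e2 : (1 + 2 * ek) * A ≤ (1 + 2 * ek) * B + (1 + 2 * ek) * C := by
      have := mul_le_mul_of_nonneg_left hABC hq0.le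
      linarith
    have e3 : (1 + 2 * ek) * C ≤
        (1 + 2 * ek) * (Ik * ek * ek) - (1 + 2 * ek) * ((Φ k).d : ℤ) ^ 2 := by
      rw [hrow']
      have := mul_le_mul_of_nonneg_left hIw hq0.le
      linarith
    have e4 : (1 + 2 * ek) * (Ik * (tk * ek)) + (1 + 2 * ek) * (Ik * ek * ek) =
        (1 + 2 * ek) * (Ik * ek * (tk + ek)) := by ring
    linarith
  have hle : g - 1 ≤ g - ((Φ k).d : ℤ) ^ 2 := le_of_mul_le_mul_left hfinal hq0
  nlinarith

end Cfsg.Agent.Helper2.CAOdd
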