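import Mathlib
import Cfsg.Agent.Helper2.CAOddG

/-!
# CA-groups of odd order are solvable: the induction
-/

set_option autoImplicit false
set_option linter.style.haveILetI false

namespace Cfsg.Agent.Helper2.CAOdd

universe u

/-- the CA-property passes to subgroups -/
theorem ca_subgroup {G : Type u} [Group G] (H : Subgroup G)
    (hCA : ∀ x : G, x ≠ 1 → ∀ a ∈ Subgroup.centralizer ({x} : Set G),
      ∀ b ∈ Subgroup.centralizer ({x} : Set G), a * b = b * a) :
    ∀ x : ↥H, x ≠ 1 → ∀ a ∈ Subgroup.centralizer ({x} : Set ↥H),
      ∀ b ∈ Subgroup.centralizer ({x} : Set ↥H), a * b = b * a := by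
  intro x hx a ha b hb
  have hx' : (x : G) ≠ 1 := by
    intro h
    apply hx
    exact Subtype.ext h
  have ha' : (a : G) ∈ Subgroup.centralizer ({(x : G)} : Set G) := by
    rw [Subgroup.mem_centralizer_singleton_iff] at ha ⊢
    have := congrArg (Subtype.val) ha
    simpa using this
  have hb' : (b : G) ∈ Subgroup.centralizer ({(x : G)} : Set G) := by
    rw [Subgroup.mem_centralizer_singleton_iff] at hb ⊢
    have := congrArg (Subtype.val) hb
    simpa using this
  have := hCA (x : G) hx' a ha' b hb'
  exact Subtype.ext (by simpa using this)

/-- CA-groups of odd order are solvable (strong induction on the order) -/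
theorem solvable_of_ca_odd : ∀ (n : ℕ) (G : Type u) [Group G] [Finite G], Nat.card G = n →
    Odd (Nat.card G) →
    (∀ x : G, x ≠ 1 → ∀ a ∈ Subgroup.centralizer ({x} : Set G),
      ∀ b ∈ Subgroup.centralizer ({x} : Set G), a * b = b * a) → Group.IsSolvable G := by
  intro n
  induction n using Nat.strong_induction_on with
  | _ n ih =>
    intro G _ _ hn hodd hCA
    by_cases hab : ∀ a b : G, a * b = b * a
    · exact isSolvable_of_comm hab
    · push_neg at hab
      by_cases hperf : commutator G = ⊤
      · exfalso
        haveI : Fintype G := Fintype.ofFinite G
        exact false_of_perfect hodd hCA hab hperf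
      · -- the commutator subgroup is a proper subgroup
        have hlt : Nat.card ↥(commutator G) < n := by
          rw [← hn]
          have hle := Subgroup.card_le_card_group (commutator G)
          rcases Nat.lt_or_ge (Nat.card ↥(commutator G)) (Nat.card G) with h | h
          · exact h
          · exfalso
            apply hperf
            exact Subgroup.eq_top_of_card_eq _ (le_antisymm hle h)
        have hodd' : Odd (Nat.card ↥(commutator G)) :=
          Odd.of_dvd_nat hodd (Subgroup.card_subgroup_dvd_card _)
        have hsolv : Group.IsSolvable ↥(commutator G) :=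
          ih _ hlt ↥(commutator G) rfl hodd' (ca_subgroup _ hCA)
        haveI := hsolv
        haveI : Group.IsSolvable (G ⧸ commutator G) := by
          apply isSolvable_of_comm
          intro a b
          exact (inferInstance : CommGroup (Abelianization G)).mul_comm a b
        exact solvable_of_ker_le_range (commutator G).subtype (QuotientGroup.mk' (commutator G))
          (by simp)

end Cfsg.Agent.Helper2.CAOdd
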