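import Mathlib
import Cfsg.Agent.Helper2.CAEvF
import Cfsg.Agent.Helper2.CAOddH
import Cfsg.Agent.Helper2.CyclicSylow2
import Cfsg.Agent.S1230
import Cfsg.Agent.S4065

/-!
# Simple CA-groups are `PSL₂(2^f)`
-/

set_option autoImplicit false
set_option linter.style.haveILetI false

namespace Cfsg.Agent.Helper2.CAEv

open Cfsg Cfsg.Agent.Helper2

universe u

section simple

variable {G : Type u} [Group G] [Finite G] [IsSimpleGroup G]
  (hCA : ∀ x : G, x ≠ 1 → ∀ a ∈ Subgroup.centralizer ({x} : Set G),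
      ∀ b ∈ Subgroup.centralizer ({x} : Set G), a * b = b * a)
  (hnab : ∃ a b : G, a * b ≠ b * a)

include hnab in
theorem normalizer_ne_top {K : Subgroup G} (hK : CAOdd.IsMaxAb K) :
    Subgroup.normalizer (K : Set G) ≠ ⊤ := by
  intro h
  have hN : K.Normal := Subgroup.normalizer_eq_top_iff.1 h
  obtain ⟨a, b, hab⟩ := hnab
  rcases hN.eq_bot_or_eq_top with h1 | h1
  · exact hK.1 h1
  · apply hab
    apply hK.comm a _ b _ <;> rw [h1] <;> exact Subgroup.mem_top _

include hnab in
theorem exists_second_invol {K : Subgroup G} (hK : CAOdd.IsMaxAb K) {t : G}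
    (ht : orderOf t = 2) (htK : t ∈ K) (hKt : Subgroup.centralizer ({t} : Set G) = K) :
    ∃ s : G, orderOf s = 2 ∧ s ∈ Subgroup.normalizer (K : Set G) ∧ s ≠ t := by
  by_contra hcon
  push Not at hcon
  haveI : Fact (Nat.Prime 2) := ⟨Nat.prime_two⟩
  have ht1 := ne_one_of_orderOf_two ht
  have hzp : IsPGroup 2 ↥(Subgroup.zpowers t) :=
    IsPGroup.of_card (n := 1) (by rw [Nat.card_zpowers, ht, pow_one])
  obtain ⟨P, hP⟩ := hzp.exists_le_sylow
  have htP : t ∈ (P : Subgroup G) := hP (Subgroup.mem_zpowers t)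
  haveI : Nontrivial ↥(P : Subgroup G) :=
    ⟨⟨⟨t, htP⟩, 1, fun h => ht1 (congrArg Subtype.val h)⟩⟩
  haveI : Nontrivial ↥(Subgroup.center ↥(P : Subgroup G)) := P.isPGroup'.center_nontrivial
  obtain ⟨z, hz1⟩ := exists_ne (1 : ↥(Subgroup.center ↥(P : Subgroup G)))
  have hzt : (⟨t, htP⟩ : ↥(P : Subgroup G)) * z.1 = z.1 * ⟨t, htP⟩ :=
    Subgroup.mem_center_iff.mp z.2 ⟨t, htP⟩
  have hzt' : t * (z.1 : G) = (z.1 : G) * t := congrArg Subtype.val hzt
  have hzK : (z.1 : G) ∈ K := by
    rw [← hKt, CAOdd.mem_centralizer_singleton]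
    exact hzt'
  have hz1' : (z.1 : G) ≠ 1 := by
    intro h
    apply hz1
    apply Subtype.ext
    apply Subtype.ext
    exact h
  have hPK : (P : Subgroup G) ≤ K := by
    intro p hp
    rw [← hK.2 _ hzK hz1', CAOdd.mem_centralizer_singleton]
    have := Subgroup.mem_center_iff.mp z.2 ⟨p, hp⟩
    exact (congrArg Subtype.val this).symm
  have hNC : Subgroup.normalizer ((P : Subgroup G) : Set G) ≤
      Subgroup.centralizer ((P : Subgroup G) : Set G) := by
    intro g hg
    have h1 : g * t * g⁻¹ ∈ (P : Subgroup G) := (Subgroup.mem_normalizer_iff.mp hg t).mp htP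
    have h2 : orderOf (g * t * g⁻¹) = 2 := by
      rw [orderOf_conj_eq]; exact ht
    have h3 := hcon _ h2 (Subgroup.le_normalizer (hPK h1))
    have hgK : g ∈ K := by
      rw [← hKt, CAOdd.mem_centralizer_singleton]
      calc t * g = (g * t * g⁻¹) * g := by rw [h3]
        _ = g * t := by group
    rw [Subgroup.mem_centralizer_iff]
    intro p hp
    exact hK.comm p (hPK hp) g hgK
  have hcomp := MonoidHom.ker_transferSylow_isComplement' P hNC
  have hcard := hcomp.card_mul_card
  have hnorm : (MonoidHom.transferSylow P hNC).ker.Normal := MonoidHom.normal_ker _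
  obtain ⟨a, b, hab⟩ := hnab
  rcases hnorm.eq_bot_or_eq_top with h1 | h1
  · rw [h1, Subgroup.card_bot, one_mul] at hcard
    have htop : (P : Subgroup G) = ⊤ := Subgroup.eq_top_of_card_eq _ hcard
    apply hab
    apply hK.comm a (hPK _) b (hPK _) <;> rw [htop] <;> exact Subgroup.mem_top _
  · rw [h1, Subgroup.card_top] at hcard
    have hP1 : Nat.card ↥(P : Subgroup G) = 1 := by
      have hpos : 0 < Nat.card G := Nat.card_pos
      exact Nat.eq_of_mul_eq_mul_left hpos (by rw [hcard, mul_one])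
    have hsub : Subsingleton ↥(P : Subgroup G) := (Nat.card_eq_one_iff_unique.mp hP1).1
    exact ht1 (congrArg Subtype.val (Subsingleton.elim (⟨t, htP⟩ : ↥(P : Subgroup G)) 1))

include hCA hnab in
/-- in a simple nonabelian CA-group the centralizer of an involution has exponent `2` -/
theorem centralizer_sq {t : G} (ht : orderOf t = 2) :
    ∀ c ∈ Subgroup.centralizer ({t} : Set G), c ^ 2 = 1 := by
  have ht1 := ne_one_of_orderOf_two ht
  have hK := CAOdd.isMaxAb_centralizer hCA ht1
  have htK : t ∈ Subgroup.centralizer ({t} : Set G) := CAOdd.mem_centralizer_singleton.mpr rfl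
  have hne := normalizer_ne_top hnab hK
  have h2inv := exists_second_invol hnab hK ht htK rfl
  intro c hc
  rw [pow_two]
  exact sq_eq_one hK ht htK hne h2inv hc

include hCA hnab in
theorem even_card : Even (Nat.card G) := by
  by_contra hodd
  rw [Nat.not_even_iff_odd] at hodd
  have hsolv := CAOdd.solvable_of_ca_odd _ G rfl hodd hCA
  have hcomm := IsSimpleGroup.comm_iff_isSolvable.mpr hsolv
  obtain ⟨a, b, hab⟩ := hnab
  exact hab (hcomm a b)

include hCA hnab in
/-- a simple nonabelian CA-group is `PSL₂(2^f)` -/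
theorem exists_psl : ∃ (F : Type) (_ : Field F) (_ : Fintype F) (f : ℕ), 2 ≤ f ∧
    Fintype.card F = 2 ^ f ∧
    Nonempty (G ≃* Matrix.ProjectiveSpecialLinearGroup (Fin 2) F) := by
  haveI : Fact (Nat.Prime 2) := ⟨Nat.prime_two⟩
  have heven := even_card hCA hnab
  obtain ⟨T⟩ : Nonempty (Sylow 2 G) := inferInstance
  obtain ⟨a, b, hab⟩ := hnab
  have hnc : ¬ IsCyclic (T : Subgroup G) := by
    intro hT
    obtain ⟨H, hH⟩ := exists_index_two_of_cyclic_sylow_two heven T hT
    have hHn : H.Normal := Subgroup.normal_of_index_eq_two hH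
    rcases hHn.eq_bot_or_eq_top with h1 | h1
    · rw [h1, Subgroup.index_bot] at hH
      haveI : IsCyclic G := isCyclic_of_prime_card hH
      exact hab (IsCyclic.commGroup.mul_comm a b)
    · rw [h1, Subgroup.index_top] at hH
      omega
  have hnn : ¬ (T : Subgroup G).Normal := by
    intro hTn
    rcases hTn.eq_bot_or_eq_top with h1 | h1
    · have h2 := T.dvd_card_of_dvd_card (even_iff_two_dvd.mp heven)
      rw [h1, Subgroup.card_bot] at h2
      omega
    · have hG2 : IsPGroup 2 G := by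
        have := T.isPGroup'
        rw [h1] at this
        intro g
        obtain ⟨k, hk⟩ := this ⟨g, Subgroup.mem_top g⟩
        exact ⟨k, congrArg Subtype.val hk⟩
      haveI : Nontrivial G := ⟨⟨a * b, b * a, hab⟩⟩
      haveI : Nontrivial ↥(Subgroup.center G) := hG2.center_nontrivial
      have hcn : (Subgroup.center G).Normal := inferInstance
      rcases hcn.eq_bot_or_eq_top with h2 | h2
      · obtain ⟨z, hz⟩ := exists_ne (1 : ↥(Subgroup.center G))
        apply hz
        apply Subtype.ext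
        have h3 : (z : G) ∈ (⊥ : Subgroup G) := h2 ▸ z.2
        exact Subgroup.mem_bot.mp h3
      · have hb : b ∈ Subgroup.center G := by rw [h2]; exact Subgroup.mem_top b
        exact hab (Subgroup.mem_center_iff.mp hb a)
  have hC : ∀ t : G, orderOf t = 2 →
      IsMulCommutative ↥(Subgroup.centralizer ({t} : Set G)) ∧
        ∀ c ∈ Subgroup.centralizer ({t} : Set G), c ^ 2 = 1 := by
    intro t ht
    refine ⟨⟨⟨fun x y => Subtype.ext (hCA t (ne_one_of_orderOf_two ht) x x.2 y y.2)⟩⟩, ?_⟩
    exact centralizer_sq hCA ⟨a, b, hab⟩ ht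
  obtain ⟨F, iF, iFin, hFcard, hiso⟩ := Cfsg.Agent.S1230.result T hnc hnn hC
  obtain ⟨n, hn⟩ := IsPGroup.iff_card.mp T.2
  refine ⟨F, iF, iFin, n, ?_, by rw [hFcard, hn], hiso⟩
  rcases n with _ | _ | n
  · exfalso; apply hnc
    rw [pow_zero] at hn
    haveI : Subsingleton ↥(T : Subgroup G) := (Nat.card_eq_one_iff_unique.mp hn).1
    infer_instance
  · exfalso; apply hnc
    rw [zero_add, pow_one] at hn
    exact isCyclic_of_prime_card hn
  · omega

end simple

end Cfsg.Agent.Helper2.CAEv
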