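import Mathlib
import Cfsg.Prelude.Def_Characters
import Cfsg.Prelude.Def_Blocks
import Cfsg.Prelude.Def_CaseTheorems
import Cfsg.Agent.Helper6.Linear
import Cfsg.Agent.Helper6.LinearCount
import Cfsg.Agent.Helper6.Regular
import Cfsg.Agent.Helper6.ColumnOrth
import Cfsg.Agent.Helper6.IrrDegree
import Cfsg.Agent.Helper6.OddReal
import Cfsg.Agent.Helper5.PPrimeCore

/-!
# Groups with an element `u` such that `χ(1) - χ(u) = c` or `χ(u) = 0` for all non-principal `χ`
-/

set_option autoImplicit false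
set_option linter.style.haveILetI false

namespace Cfsg.Agent.Helper2.CMinus

open Cfsg.Agent.Helper6
open scoped ComplexConjugate

universe u

variable {G : Type u} [Group G]

/-- the irreducible character of a homomorphism to `ℂˣ` -/
noncomputable def linIrr (μ : G →* ℂˣ) : Cfsg.IrrCharacter G :=
  ⟨fun g => ((μ g : ℂˣ) : ℂ), isIrrCharacter_of_hom μ⟩

theorem linIrr_apply (μ : G →* ℂˣ) (g : G) : ((linIrr μ : Cfsg.IrrCharacter G) : G → ℂ) g =
    ((μ g : ℂˣ) : ℂ) := rfl

theorem linIrr_ne_one {μ : G →* ℂˣ} (hμ : μ ≠ 1) :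
    ((linIrr μ : Cfsg.IrrCharacter G) : G → ℂ) ≠ fun _ => 1 := by
  intro h
  apply hμ
  ext g
  have := congrFun h g
  rw [linIrr_apply] at this
  rw [this]
  simp

/-- non-perfect groups have non-principal homomorphisms to `ℂˣ` -/
theorem exists_hom_ne_one_iff [Finite G] : commutator G ≠ ⊤ ↔ ∃ μ : G →* ℂˣ, μ ≠ 1 := by
  haveI : Finite (G →* ℂˣ) := finite_hom_units
  have hcard := card_hom_units (G := G)
  constructor
  · intro h
    by_contra hcon
    push Not at hcon
    have h1 : Nat.card (G →* ℂˣ) = 1 := by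
      rw [Nat.card_eq_one_iff_unique]
      exact ⟨⟨fun a b => by rw [hcon a, hcon b]⟩, ⟨1⟩⟩
    rw [hcard] at h1
    exact h (Subgroup.index_eq_one.mp h1)
  · rintro ⟨μ, hμ⟩ h
    rw [h, Subgroup.index_top] at hcard
    rw [Nat.card_eq_one_iff_unique] at hcard
    exact hμ (hcard.1.elim μ 1)

end Cfsg.Agent.Helper2.CMinus
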