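import Mathlib
import Cfsg.Agent.Helper2.CMinusA

/-!
# Column orthogonality consequences
-/

set_option autoImplicit false
set_option linter.style.haveILetI false

namespace Cfsg.Agent.Helper2.CMinus

open Cfsg.Agent.Helper6
open scoped ComplexConjugate

universe u

variable {G : Type u} [Group G]

/-- the principal character -/
noncomputable def trivI (G : Type u) [Group G] : Cfsg.IrrCharacter G :=
  ⟨fun _ => 1, isIrrCharacter_one⟩

theorem trivI_apply (g : G) : ((trivI G : Cfsg.IrrCharacter G) : G → ℂ) g = 1 := rfl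

theorem eq_trivI_iff (χ : Cfsg.IrrCharacter G) : χ = trivI G ↔ (χ : G → ℂ) = fun _ => 1 := by
  constructor
  · intro h
    rw [h]
    rfl
  · intro h
    exact Subtype.ext h

/-- the real parts of `χ(1) χ(u)` sum to zero -/
theorem sum_re_eq_zero [Finite G] [Fintype (Cfsg.IrrCharacter G)] (u : G) (hu : u ≠ 1) :
    ∑ χ : Cfsg.IrrCharacter G, ((χ : G → ℂ) 1 * (χ : G → ℂ) u).re = 0 := by
  classical
  haveI := Fintype.ofFinite G
  have h := sum_degree_mul_irr (G := G) u
  rw [if_neg hu] at h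
  have h2 := congrArg Complex.re h
  rw [Complex.re_sum, Complex.zero_re] at h2
  exact h2

/-- some non-principal character has `re (χ(1) χ(u)) < 0` -/
theorem exists_neg [Finite G] (u : G) (hu : u ≠ 1) :
    ∃ χ : Cfsg.IrrCharacter G, (χ : G → ℂ) ≠ (fun _ => 1) ∧
      ((χ : G → ℂ) 1 * (χ : G → ℂ) u).re < 0 := by
  classical
  haveI : Finite (Cfsg.IrrCharacter G) := irr_finite
  haveI : Fintype (Cfsg.IrrCharacter G) := Fintype.ofFinite _
  by_contra hcon
  push Not at hcon
  have hsum := sum_re_eq_zero u hu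
  have hnonneg : ∀ χ ∈ (Finset.univ : Finset (Cfsg.IrrCharacter G)),
      0 ≤ ((χ : G → ℂ) 1 * (χ : G → ℂ) u).re := by
    intro χ _
    by_cases hχ : (χ : G → ℂ) = fun _ => 1
    · rw [hχ]
      simp
    · exact hcon χ hχ
  have h1 := Finset.single_le_sum hnonneg (Finset.mem_univ (trivI G))
  rw [hsum, trivI_apply, trivI_apply] at h1
  simp at h1
  linarith

/-- if `λ` contributes `-1` and all other non-principal characters contribute non-negatively, then
the others contribute zero -/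
theorem others_zero [Finite G] (u : G) (hu : u ≠ 1) (lam : Cfsg.IrrCharacter G)
    (hlam : (lam : G → ℂ) ≠ fun _ => 1)
    (hval : ((lam : G → ℂ) 1 * (lam : G → ℂ) u).re = -1)
    (hothers : ∀ χ : Cfsg.IrrCharacter G, (χ : G → ℂ) ≠ (fun _ => 1) → χ ≠ lam →
      0 ≤ ((χ : G → ℂ) 1 * (χ : G → ℂ) u).re) :
    ∀ χ : Cfsg.IrrCharacter G, (χ : G → ℂ) ≠ (fun _ => 1) → χ ≠ lam →
      ((χ : G → ℂ) 1 * (χ : G → ℂ) u).re = 0 := by
  classical
  haveI : Finite (Cfsg.IrrCharacter G) := irr_finite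
  haveI : Fintype (Cfsg.IrrCharacter G) := Fintype.ofFinite _
  have hsum := sum_re_eq_zero u hu
  have hne : trivI G ≠ lam := by
    intro h
    apply hlam
    rw [← h]
    rfl
  rw [← Finset.add_sum_erase Finset.univ _ (Finset.mem_univ (trivI G)),
    ← Finset.add_sum_erase _ _ (Finset.mem_erase.mpr ⟨hne.symm, Finset.mem_univ lam⟩),
    hval, trivI_apply, trivI_apply] at hsum
  have hnonneg : ∀ χ ∈ (Finset.univ.erase (trivI G)).erase lam,
      0 ≤ ((χ : G → ℂ) 1 * (χ : G → ℂ) u).re := by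
    intro χ hχ
    rw [Finset.mem_erase, Finset.mem_erase] at hχ
    apply hothers χ _ hχ.1
    intro h
    exact hχ.2.1 ((eq_trivI_iff χ).mpr h)
  have hzero : ∑ χ ∈ (Finset.univ.erase (trivI G)).erase lam,
      ((χ : G → ℂ) 1 * (χ : G → ℂ) u).re = 0 := by
    have h1 : ((1 : ℂ) * 1).re = 1 := by simp
    rw [h1] at hsum
    linarith
  intro χ hχ1 hχ2
  have hmem : χ ∈ (Finset.univ.erase (trivI G)).erase lam := by
    rw [Finset.mem_erase, Finset.mem_erase]
    refine ⟨hχ2, ?_, Finset.mem_univ _⟩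
    intro h
    exact hχ1 ((eq_trivI_iff χ).mp h)
  exact (Finset.sum_eq_zero_iff_of_nonneg hnonneg).mp hzero χ hmem

/-- the order of the centralizer as the sum of `|χ(u)|²` -/
theorem card_centralizer_eq_sum [Finite G] [Fintype (Cfsg.IrrCharacter G)] (u : G) :
    (Nat.card (Subgroup.centralizer ({u} : Set G)) : ℂ) =
      ∑ χ : Cfsg.IrrCharacter G, (χ : G → ℂ) u * conj ((χ : G → ℂ) u) := by
  classical
  haveI := Fintype.ofFinite G
  rw [column_orthogonality_aux u u, if_pos (IsConj.refl u)]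

end Cfsg.Agent.Helper2.CMinus
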