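import Mathlib
import Cfsg.Agent.Helper2.CMinusB

/-!
# Group theoretic part: a self-centralizing involution
-/

set_option autoImplicit false
set_option linter.style.haveILetI false

namespace Cfsg.Agent.Helper2.CMinus

universe u

variable {G : Type u} [Group G]

theorem centralizer_eq_zpowers [Finite G] (u : G) (hu : u ≠ 1)
    (h2 : Nat.card (Subgroup.centralizer ({u} : Set G)) = 2) :
    orderOf u = 2 ∧ Subgroup.centralizer ({u} : Set G) = Subgroup.zpowers u := by
  have hle : Subgroup.zpowers u ≤ Subgroup.centralizer ({u} : Set G) := by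
    rw [Subgroup.zpowers_le, Subgroup.mem_centralizer_singleton_iff]
  have hdvd := Subgroup.card_dvd_of_le hle
  rw [Nat.card_zpowers, h2] at hdvd
  have hne1 : orderOf u ≠ 1 := by
    intro h
    exact hu (orderOf_eq_one_iff.mp h)
  have ho : orderOf u = 2 := by
    rcases (Nat.dvd_prime Nat.prime_two).mp hdvd with h | h
    · exact absurd h hne1
    · exact h
  refine ⟨ho, ?_⟩
  symm
  apply Subgroup.eq_of_le_of_card_ge hle
  rw [h2, Nat.card_zpowers, ho]

theorem mem_zpowers_two {u z : G} (ho : orderOf u = 2) (hz : z ∈ Subgroup.zpowers u) :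
    z = 1 ∨ z = u := by
  obtain ⟨i, rfl⟩ := Subgroup.mem_zpowers_iff.mp hz
  have huu : u ^ (2 : ℤ) = 1 := by
    have h := pow_orderOf_eq_one u
    rw [ho] at h
    exact_mod_cast h
  rcases Int.emod_two_eq_zero_or_one i with h | h
  · left
    have : i = 2 * (i / 2) := by omega
    rw [this, zpow_mul, huu, one_zpow]
  · right
    have : i = 2 * (i / 2) + 1 := by omega
    rw [this, zpow_add, zpow_mul, huu, one_zpow, one_mul, zpow_one]

/-- a self-centralizing involution generates a Sylow `2`-subgroup, so that all involutions are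
conjugate to it -/
theorem isConj_of_self_centralizing [Finite G] (u : G) (ho : orderOf u = 2)
    (hC : Subgroup.centralizer ({u} : Set G) = Subgroup.zpowers u) (v : G) (hv : orderOf v = 2) :
    IsConj u v := by
  haveI : Fact (Nat.Prime 2) := ⟨Nat.prime_two⟩
  have hu1 : u ≠ 1 := by
    rintro rfl
    rw [orderOf_one] at ho
    omega
  have hup : IsPGroup 2 (Subgroup.zpowers u) := by
    apply IsPGroup.of_card (n := 1)
    rw [Nat.card_zpowers, ho, pow_one]
  obtain ⟨P, hP⟩ := hup.exists_le_sylow
  have huP : u ∈ (P : Subgroup G) := hP (Subgroup.mem_zpowers u)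
  haveI : Nontrivial (P : Subgroup G) := ⟨⟨⟨u, huP⟩, 1, fun h => hu1 (congrArg Subtype.val h)⟩⟩
  have hcenter := IsPGroup.center_nontrivial P.2
  obtain ⟨z, hz1⟩ := exists_ne (1 : Subgroup.center (P : Subgroup G))
  have hzc : ((z : (P : Subgroup G)) : G) ∈ Subgroup.centralizer ({u} : Set G) := by
    rw [Subgroup.mem_centralizer_singleton_iff]
    have h := Subgroup.mem_center_iff.mp z.2 ⟨u, huP⟩
    have h' := congrArg (fun t : (P : Subgroup G) => (t : G)) h
    simp only [Subgroup.coe_mul] at h'
    exact h'.symm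
  rw [hC] at hzc
  have hzu : ((z : (P : Subgroup G)) : G) = u := by
    rcases mem_zpowers_two ho hzc with h | h
    · exfalso
      apply hz1
      apply Subtype.ext
      apply Subtype.ext
      exact h
    · exact h
  have hPle : (P : Subgroup G) ≤ Subgroup.centralizer ({u} : Set G) := by
    intro x hx
    rw [Subgroup.mem_centralizer_singleton_iff]
    have h := Subgroup.mem_center_iff.mp z.2 ⟨x, hx⟩
    have h' := congrArg (fun t : (P : Subgroup G) => (t : G)) h
    simp only [Subgroup.coe_mul] at h'
    rw [hzu] at h'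
    exact h'
  rw [hC] at hPle
  have hPeq : (P : Subgroup G) = Subgroup.zpowers u := le_antisymm hPle hP
  -- `v` lies in a conjugate of `P`
  have hvp : IsPGroup 2 (Subgroup.zpowers v) := by
    apply IsPGroup.of_card (n := 1)
    rw [Nat.card_zpowers, hv, pow_one]
  obtain ⟨Q, hQ⟩ := hvp.exists_le_sylow
  obtain ⟨g, hg⟩ := MulAction.exists_smul_eq G P Q
  have hvQ : v ∈ (Q : Subgroup G) := hQ (Subgroup.mem_zpowers v)
  rw [← hg, Sylow.coe_subgroup_smul, Subgroup.mem_pointwise_smul_iff_inv_smul_mem] at hvQ
  rw [hPeq] at hvQ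
  have hv1 : v ≠ 1 := by
    rintro rfl
    rw [orderOf_one] at hv
    omega
  rcases mem_zpowers_two ho hvQ with h | h
  · exfalso
    apply hv1
    have : (MulAut.conj g)⁻¹ • v = (1 : G) := h
    rw [← map_inv, MulAut.smul_def, MulAut.conj_apply] at this
    have h3 : v = g⁻¹⁻¹ * 1 * g⁻¹ := by
      rw [← this]
      group
    rw [h3]
    group
  · rw [isConj_iff]
    refine ⟨g, ?_⟩
    have : (MulAut.conj g)⁻¹ • v = u := h
    rw [← map_inv, MulAut.smul_def, MulAut.conj_apply] at this
    rw [← this]
    group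

end Cfsg.Agent.Helper2.CMinus
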