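import Mathlib
import Cfsg.Agent.Helper2.CMinusC

/-!
# The main argument
-/

set_option autoImplicit false
set_option linter.style.haveILetI false

namespace Cfsg.Agent.Helper2.CMinus

open Cfsg.Agent.Helper6
open scoped ComplexConjugate

universe u

variable {G : Type u} [Group G]

section main

variable [Finite G] (u : G) (hu : u ≠ 1) (c : ℂ)
  (hyp : ∀ χ : Cfsg.IrrCharacter G, (χ : G → ℂ) ≠ (fun _ => (1 : ℂ)) →
    ((χ : G → ℂ) 1 - (χ : G → ℂ) u = c ∨ (χ : G → ℂ) u = 0))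

include hu hyp

theorem c_ne_zero : c ≠ 0 := by
  intro hc
  obtain ⟨χ, hχ, hneg⟩ := exists_neg u hu
  obtain ⟨n, -, hn⟩ := IsIrrCharacter.apply_one_pos χ.2
  rcases hyp χ hχ with h | h
  · rw [hc, sub_eq_zero] at h
    rw [← h, hn] at hneg
    have : ((n : ℂ) * (n : ℂ)).re = (n : ℝ) * n := by simp
    rw [this] at hneg
    have : (0 : ℝ) ≤ (n : ℝ) * n := by positivity
    linarith
  · rw [h, mul_zero, Complex.zero_re] at hneg
    exact lt_irrefl _ hneg

theorem hom_apply_u (μ : G →* ℂˣ) (hμ : μ ≠ 1) : ((μ u : ℂˣ) : ℂ) = 1 - c := by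
  rcases hyp (linIrr μ) (linIrr_ne_one hμ) with h | h
  · rw [linIrr_apply, linIrr_apply, map_one] at h
    rw [← h]
    simp
  · rw [linIrr_apply] at h
    exact absurd h (Units.ne_zero _)

theorem hom_u_eq_neg_one (μ : G →* ℂˣ) (hμ : μ ≠ 1) : ((μ u : ℂˣ) : ℂ) = -1 ∧ c = 2 := by
  have hc0 := c_ne_zero u hu c hyp
  have h1 := hom_apply_u u hu c hyp μ hμ
  have hne1 : ((μ u : ℂˣ) : ℂ) ≠ 1 := by
    intro h
    rw [h] at h1
    apply hc0
    linear_combination h1
  have hsq : ((μ u : ℂˣ) : ℂ) ^ 2 = 1 := by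
    by_cases h2 : μ ^ 2 = 1
    · have := congrArg (fun ν : G →* ℂˣ => ((ν u : ℂˣ) : ℂ)) h2
      simpa using this
    · exfalso
      have h3 := hom_apply_u u hu c hyp (μ ^ 2) h2
      rw [MonoidHom.pow_apply, Units.val_pow_eq_pow_val, ← h1] at h3
      apply hne1
      have h0 : ((μ u : ℂˣ) : ℂ) ≠ 0 := Units.ne_zero _
      have : ((μ u : ℂˣ) : ℂ) * (((μ u : ℂˣ) : ℂ) - 1) = 0 := by linear_combination h3
      rcases mul_eq_zero.mp this with h | h
      · exact absurd h h0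
      · exact sub_eq_zero.mp h
  have hm1 : ((μ u : ℂˣ) : ℂ) = -1 := by
    have : (((μ u : ℂˣ) : ℂ) - 1) * (((μ u : ℂˣ) : ℂ) + 1) = 0 := by linear_combination hsq
    rcases mul_eq_zero.mp this with h | h
    · exact absurd (sub_eq_zero.mp h) hne1
    · exact eq_neg_of_add_eq_zero_left h
  refine ⟨hm1, ?_⟩
  rw [hm1] at h1
  linear_combination h1

theorem hom_unique (μ ν : G →* ℂˣ) (hμ : μ ≠ 1) (hν : ν ≠ 1) : μ = ν := by
  by_contra hne
  have h1 : μ * ν⁻¹ ≠ 1 := by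
    intro h
    apply hne
    exact mul_inv_eq_one.mp h
  have h2 := (hom_u_eq_neg_one u hu c hyp (μ * ν⁻¹) h1).1
  have h3 := (hom_u_eq_neg_one u hu c hyp μ hμ).1
  have h4 := (hom_u_eq_neg_one u hu c hyp ν hν).1
  rw [MonoidHom.mul_apply, MonoidHom.inv_apply, Units.val_mul, Units.val_inv_eq_inv_val, h3, h4]
    at h2
  norm_num at h2

/-- a non-principal irreducible character of degree one comes from a non-principal
homomorphism -/
theorem exists_hom_of_degree_one (χ : Cfsg.IrrCharacter G) (hχ : (χ : G → ℂ) ≠ fun _ => 1)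
    (h1 : (χ : G → ℂ) 1 = 1) : ∃ μ : G →* ℂˣ, μ ≠ 1 ∧ χ = linIrr μ := by
  obtain ⟨μ, hμ⟩ := exists_hom_of_irr_degree_one χ.2 h1
  refine ⟨μ, ?_, Subtype.ext hμ⟩
  rintro rfl
  apply hχ
  rw [hμ]
  funext g
  simp

theorem not_perfect_of_c_two (hc : c = 2) : commutator G ≠ ⊤ := by
  rw [exists_hom_ne_one_iff]
  by_contra hcon
  push Not at hcon
  obtain ⟨χ, hχ, hneg⟩ := exists_neg u hu
  obtain ⟨n, hn0, hn⟩ := IsIrrCharacter.apply_one_pos χ.2
  have hn1 : n ≠ 1 := by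
    intro h
    rw [h, Nat.cast_one] at hn
    obtain ⟨μ, hμ, -⟩ := exists_hom_of_degree_one u hu c hyp χ hχ hn
    exact hμ (hcon μ)
  rcases hyp χ hχ with h | h
  · have h2 : (χ : G → ℂ) u = (n : ℂ) - 2 := by
      rw [← hn, ← hc]
      linear_combination -h
    rw [h2, hn] at hneg
    have h3 : ((n : ℂ) * ((n : ℂ) - 2)).re = (n : ℝ) * ((n : ℝ) - 2) := by simp
    rw [h3] at hneg
    have h4 : (2 : ℝ) ≤ n := by
      have : 2 ≤ n := by omega
      exact_mod_cast this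
    have h5 : (0 : ℝ) ≤ (n : ℝ) * ((n : ℝ) - 2) := by
      apply mul_nonneg
      · positivity
      · linarith
    linarith
  · rw [h, mul_zero, Complex.zero_re] at hneg
    exact lt_irrefl _ hneg

theorem card_centralizer_two (hne : commutator G ≠ ⊤) :
    Nat.card (Subgroup.centralizer ({u} : Set G)) = 2 := by
  classical
  haveI : Finite (Cfsg.IrrCharacter G) := irr_finite
  haveI : Fintype (Cfsg.IrrCharacter G) := Fintype.ofFinite _
  obtain ⟨μ, hμ⟩ := exists_hom_ne_one_iff.mp hne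
  obtain ⟨hμu, hc⟩ := hom_u_eq_neg_one u hu c hyp μ hμ
  have hlam1 := linIrr_ne_one hμ
  have hval : (((linIrr μ : Cfsg.IrrCharacter G) : G → ℂ) 1 *
      ((linIrr μ : Cfsg.IrrCharacter G) : G → ℂ) u).re = -1 := by
    rw [linIrr_apply, linIrr_apply, hμu, map_one]
    simp
  -- the other characters vanish at `u`
  have hdeg : ∀ χ : Cfsg.IrrCharacter G, (χ : G → ℂ) ≠ (fun _ => 1) → χ ≠ linIrr μ →
      ∃ n : ℕ, 2 ≤ n ∧ (χ : G → ℂ) 1 = n := by
    intro χ hχ1 hχ2
    obtain ⟨n, hn0, hn⟩ := IsIrrCharacter.apply_one_pos χ.2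
    refine ⟨n, ?_, hn⟩
    by_contra hlt
    have h1 : n = 1 := by omega
    rw [h1, Nat.cast_one] at hn
    obtain ⟨ν, hν, hχν⟩ := exists_hom_of_degree_one u hu c hyp χ hχ1 hn
    apply hχ2
    rw [hχν, hom_unique u hu c hyp ν μ hν hμ]
  have hothers : ∀ χ : Cfsg.IrrCharacter G, (χ : G → ℂ) ≠ (fun _ => 1) → χ ≠ linIrr μ →
      0 ≤ ((χ : G → ℂ) 1 * (χ : G → ℂ) u).re := by
    intro χ hχ1 hχ2
    obtain ⟨n, hn2, hn⟩ := hdeg χ hχ1 hχ2
    rcases hyp χ hχ1 with h | h
    · have h2 : (χ : G → ℂ) u = (n : ℂ) - 2 := by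
        rw [← hn, ← hc]
        linear_combination -h
      rw [h2, hn]
      have h3 : ((n : ℂ) * ((n : ℂ) - 2)).re = (n : ℝ) * ((n : ℝ) - 2) := by simp
      rw [h3]
      have h4 : (2 : ℝ) ≤ n := by exact_mod_cast hn2
      apply mul_nonneg
      · positivity
      · linarith
    · rw [h, mul_zero, Complex.zero_re]
  have hz := others_zero u hu (linIrr μ) hlam1 hval hothers
  have hvanish : ∀ χ : Cfsg.IrrCharacter G, (χ : G → ℂ) ≠ (fun _ => 1) → χ ≠ linIrr μ →
      (χ : G → ℂ) u = 0 := by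
    intro χ hχ1 hχ2
    obtain ⟨n, hn2, hn⟩ := hdeg χ hχ1 hχ2
    rcases hyp χ hχ1 with h | h
    · have h2 : (χ : G → ℂ) u = (n : ℂ) - 2 := by
        rw [← hn, ← hc]
        linear_combination -h
      have h0 := hz χ hχ1 hχ2
      rw [h2, hn] at h0
      have h3 : ((n : ℂ) * ((n : ℂ) - 2)).re = (n : ℝ) * ((n : ℝ) - 2) := by simp
      rw [h3] at h0
      have h4 : (n : ℝ) ≠ 0 := by
        have : n ≠ 0 := by omega
        exact_mod_cast this
      rcases mul_eq_zero.mp h0 with h5 | h5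
      · exact absurd h5 h4
      · rw [h2]
        have : (n : ℝ) = 2 := by linarith
        have hn' : n = 2 := by exact_mod_cast this
        rw [hn']
        norm_num
    · exact h
  have hcard := card_centralizer_eq_sum u
  have hne' : trivI G ≠ linIrr μ := by
    intro h
    apply hlam1
    rw [← h]
    rfl
  rw [← Finset.add_sum_erase Finset.univ _ (Finset.mem_univ (trivI G)),
    ← Finset.add_sum_erase _ _ (Finset.mem_erase.mpr ⟨hne'.symm, Finset.mem_univ (linIrr μ)⟩),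
    trivI_apply, linIrr_apply, hμu] at hcard
  have hzero : ∑ χ ∈ (Finset.univ.erase (trivI G)).erase (linIrr μ),
      (χ : G → ℂ) u * conj ((χ : G → ℂ) u) = 0 := by
    apply Finset.sum_eq_zero
    intro χ hχ
    rw [Finset.mem_erase, Finset.mem_erase] at hχ
    rw [hvanish χ (fun h => hχ.2.1 ((eq_trivI_iff χ).mpr h)) hχ.1, zero_mul]
  rw [hzero] at hcard
  have : (Nat.card (Subgroup.centralizer ({u} : Set G)) : ℂ) = ((2 : ℕ) : ℂ) := by
    rw [hcard]
    simp
    norm_num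
  exact_mod_cast this

end main

end Cfsg.Agent.Helper2.CMinus
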