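import Mathlib
import Cfsg.Agent.Helper2.CMinusD

/-!
# Assembly
-/

set_option autoImplicit false
set_option linter.style.haveILetI false

namespace Cfsg.Agent.Helper2.CMinus

open Cfsg.Agent.Helper6
open scoped ComplexConjugate

universe u

variable {G : Type u} [Group G]

/-- if `G` is generated by an involution and `O(G)` then `G` is not perfect -/
theorem not_perfect_of_sup [Finite G] (u : G) (ho : orderOf u = 2)
    (hsup : Subgroup.zpowers u ⊔ Cfsg.oddCore G = ⊤) : commutator G ≠ ⊤ := by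
  haveI : Fact (Nat.Prime 2) := ⟨Nat.prime_two⟩
  have hdecomp : ∀ a : G, ∃ i : ℤ, ∃ n ∈ Cfsg.oddCore G, a = u ^ i * n := by
    intro a
    have ha : a ∈ ((Subgroup.zpowers u ⊔ Cfsg.oddCore G : Subgroup G) : Set G) := by
      rw [hsup]
      exact Set.mem_univ _
    rw [Subgroup.mul_normal, Set.mem_mul] at ha
    obtain ⟨h, hh, n, hn, rfl⟩ := ha
    obtain ⟨i, rfl⟩ := Subgroup.mem_zpowers_iff.mp hh
    exact ⟨i, n, hn, rfl⟩
  have hle : commutator G ≤ Cfsg.oddCore G := by
    rw [commutator_def, Subgroup.commutator_le]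
    intro a _ b _
    obtain ⟨i, n, hn, rfl⟩ := hdecomp a
    obtain ⟨j, m, hm, rfl⟩ := hdecomp b
    rw [← QuotientGroup.eq_one_iff, commutatorElement_def]
    have h1 : ((u ^ i * n : G) : G ⧸ Cfsg.oddCore G) = ((u : G) : G ⧸ Cfsg.oddCore G) ^ i := by
      rw [QuotientGroup.mk_mul, (QuotientGroup.eq_one_iff n).mpr hn, mul_one,
        QuotientGroup.mk_zpow]
    have h2 : ((u ^ j * m : G) : G ⧸ Cfsg.oddCore G) = ((u : G) : G ⧸ Cfsg.oddCore G) ^ j := by
      rw [QuotientGroup.mk_mul, (QuotientGroup.eq_one_iff m).mpr hm, mul_one,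
        QuotientGroup.mk_zpow]
    rw [QuotientGroup.mk_mul, QuotientGroup.mk_mul, QuotientGroup.mk_mul, QuotientGroup.mk_inv,
      QuotientGroup.mk_inv, h1, h2]
    have hc : Commute (((u : G) : G ⧸ Cfsg.oddCore G) ^ i) (((u : G) : G ⧸ Cfsg.oddCore G) ^ j) :=
      (Commute.refl _).zpow_zpow i j
    rw [hc.eq, mul_inv_cancel_right, mul_inv_cancel]
  intro htop
  rw [htop, top_le_iff] at hle
  have hnd : ¬ 2 ∣ Nat.card (Cfsg.oddCore G) := Helper5.not_dvd_card_pPrimeCore 2
  apply hnd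
  rw [hle, Subgroup.card_top, ← ho]
  exact orderOf_dvd_natCard u

/-- the kernel of the non-principal homomorphism together with `u` generates `G` -/
theorem sup_eq_top [Finite G] (u : G) (ho : orderOf u = 2)
    (hC : Subgroup.centralizer ({u} : Set G) = Subgroup.zpowers u)
    (μ : G →* ℂˣ) (hμu : ((μ u : ℂˣ) : ℂ) = -1) (hμ2 : μ ^ 2 = 1) :
    Subgroup.zpowers u ⊔ Cfsg.oddCore G = ⊤ := by
  haveI : Fact (Nat.Prime 2) := ⟨Nat.prime_two⟩
  have hodd : ¬ 2 ∣ Nat.card μ.ker := by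
    intro hdvd
    obtain ⟨v, hv⟩ := exists_prime_orderOf_dvd_card' (G := μ.ker) 2 hdvd
    have hv' : orderOf (v : G) = 2 := by rw [Subgroup.orderOf_coe, hv]
    have hconj := isConj_of_self_centralizing u ho hC (v : G) hv'
    obtain ⟨g, hg⟩ := isConj_iff.mp hconj
    have hmem : g * u * g⁻¹ ∈ μ.ker := by
      rw [hg]
      exact v.2
    have hu_mem : u ∈ μ.ker := by
      have := (inferInstance : μ.ker.Normal).conj_mem _ hmem g⁻¹
      have e : g⁻¹ * (g * u * g⁻¹) * g⁻¹⁻¹ = u := by group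
      rw [e] at this
      exact this
    rw [MonoidHom.mem_ker] at hu_mem
    rw [hu_mem] at hμu
    norm_num at hμu
  have hker_le : μ.ker ≤ Cfsg.oddCore G := by
    apply Helper5.le_pPrimeCore inferInstance
    rw [Nat.coprime_comm, Nat.Prime.coprime_iff_not_dvd Nat.prime_two]
    exact hodd
  rw [eq_top_iff]
  intro g _
  have hsq : ((μ g : ℂˣ) : ℂ) ^ 2 = 1 := by
    have := congrArg (fun ν : G →* ℂˣ => ((ν g : ℂˣ) : ℂ)) hμ2
    simpa using this
  have hcases : ((μ g : ℂˣ) : ℂ) = 1 ∨ ((μ g : ℂˣ) : ℂ) = -1 := by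
    have : (((μ g : ℂˣ) : ℂ) - 1) * (((μ g : ℂˣ) : ℂ) + 1) = 0 := by linear_combination hsq
    rcases mul_eq_zero.mp this with h | h
    · left; exact sub_eq_zero.mp h
    · right; exact eq_neg_of_add_eq_zero_left h
  rcases hcases with h | h
  · apply Subgroup.mem_sup_right
    apply hker_le
    rw [MonoidHom.mem_ker]
    exact Units.ext h
  · have hmem : u⁻¹ * g ∈ μ.ker := by
      rw [MonoidHom.mem_ker, map_mul, map_inv]
      apply Units.ext
      rw [Units.val_mul, Units.val_inv_eq_inv_val, hμu, h]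
      norm_num
    have : g = u * (u⁻¹ * g) := by group
    rw [this]
    exact Subgroup.mul_mem _ (Subgroup.mem_sup_left (Subgroup.mem_zpowers u))
      (Subgroup.mem_sup_right (hker_le hmem))

end Cfsg.Agent.Helper2.CMinus
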