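import Mathlib
import Cfsg.Prelude.Def_LieExceptional
import Cfsg.Prelude.Def_OddOrderLocal
import Cfsg.Prelude.Def_PLocal
import Cfsg.Prelude.Def_LocalEven
import Cfsg.Agent.Helper1.Cores
import Cfsg.Agent.Helper1.CNFrobenius
import Cfsg.Agent.Helper1.CNSolvB
import Cfsg.Agent.Helper1.CNSolvE
import Cfsg.Agent.Helper1.CNSolvF
import Cfsg.Agent.Lead.QdStruct
import Cfsg.Agent.Helper2.CNThreeA

set_option autoImplicit false

/-!
Solvable CN-groups without nontrivial normal Sylow subgroups: a `q`-quotient, and non-embeddability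
into nilpotent-by-nilpotent groups.  Groups of odd order are `Qd(p)`-free.
-/

namespace Cfsg.Agent.Helper2

namespace CNThree

open Cfsg

universe u

variable {G : Type u} [Group G]

/-- `Qd(p)` has even order for odd `p`. -/
theorem even_card_qd (p : ℕ) [hp : Fact p.Prime] (hp2 : p ≠ 2) : 2 ∣ Nat.card ↥(Cfsg.qd p) := by
  have hdet : (!![(-1 : ZMod p), 0; 0, -1]).det = 1 := by
    rw [Matrix.det_fin_two_of]; ring
  set m : Cfsg.Agent.Lead.Qd.SL2 p := ⟨!![(-1 : ZMod p), 0; 0, -1], hdet⟩ with hm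
  have hmm : m * m = 1 := by
    apply Subtype.ext
    rw [Matrix.SpecialLinearGroup.coe_mul, hm]
    ext i j
    fin_cases i <;> fin_cases j <;> simp [Matrix.mul_apply, Fin.sum_univ_two]
  have hm1 : m ≠ 1 := by
    intro h
    have h1 : (m : Matrix (Fin 2) (Fin 2) (ZMod p)) 0 0 = 1 := by rw [h]; simp
    rw [hm] at h1
    simp only [Matrix.of_apply, Matrix.cons_val', Matrix.cons_val_zero, Matrix.cons_val_fin_one]
      at h1
    have h2 : (2 : ZMod p) = 0 := by
      have : (1 : ZMod p) + 1 = 0 := by nth_rewrite 1 [← h1]; ring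
      rw [← this]; ring
    have h3 : ((2 : ℕ) : ZMod p) = 0 := by exact_mod_cast h2
    rw [ZMod.natCast_eq_zero_iff] at h3
    exact hp2 ((Nat.prime_dvd_prime_iff_eq hp.out Nat.prime_two).1 h3)
  set t := Cfsg.Agent.Lead.Qd.mkq p m 0 with ht
  have ht2 : t * t = 1 := by
    rw [ht, Cfsg.Agent.Lead.Qd.mkq_mul, hmm]
    simp only [Matrix.mulVec_zero, add_zero]
    exact Cfsg.Agent.Lead.Qd.mkq_one p
  have ht1 : t ≠ 1 := by
    intro h
    rw [ht, ← Cfsg.Agent.Lead.Qd.mkq_one p] at h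
    exact hm1 (Cfsg.Agent.Lead.Qd.mkq_inj p h).1
  have ho : orderOf t = 2 := orderOf_eq_prime (by rw [sq]; exact ht2) ht1
  rw [← ho]
  exact orderOf_dvd_natCard t

/-- A finite group of odd order is `Qd(p)`-free for odd `p`. -/
theorem not_involves_qd_of_odd [Finite G] (hodd : Odd (Nat.card G)) (p : ℕ) [hp : Fact p.Prime]
    (hp2 : p ≠ 2) : ¬ Cfsg.Involves ↥(Cfsg.qd p) G := by
  rintro ⟨K, R, hR, ⟨e⟩⟩
  have h1 : Nat.card (↥K ⧸ R.subgroupOf K) = Nat.card ↥(Cfsg.qd p) := Nat.card_congr e.toEquiv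
  have h2 : Nat.card (↥K ⧸ R.subgroupOf K) ∣ Nat.card ↥K := by
    rw [← Subgroup.index_eq_card]
    exact Subgroup.index_dvd_card _
  have h3 : Nat.card ↥K ∣ Nat.card G := Subgroup.card_subgroup_dvd_card K
  have h4 : 2 ∣ Nat.card G := ((even_card_qd p hp2).trans (h1 ▸ h2)).trans h3
  exact (Nat.not_even_iff_odd.2 hodd) (even_iff_two_dvd.2 h4)

/-- If `H` embeds in `L`, `K ⊴ L` is nilpotent with `L / K` nilpotent and the CN-group `H` has a
self-centralizing `O_q(H) ≠ 1`, then the Sylow `q`-subgroups of `H` are normal. -/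
theorem sylow_normal_of_le_nilp_by_nilp {L : Type u} [Group L] [Finite L] {H : Type u} [Group H]
    [Finite H] (f : H →* L) (hf : Function.Injective f) (K : Subgroup L)
    [hKn : K.Normal] (hK : Group.IsNilpotent K) (hLK : Group.IsNilpotent (L ⧸ K))
    (hCN : Cfsg.IsCNGroup H) {q : ℕ} [hq : Fact q.Prime] (hQ1 : Cfsg.pCore q H ≠ ⊥)
    (hC : Subgroup.centralizer (Cfsg.pCore q H : Set H) ≤ Cfsg.pCore q H)
    (P : Sylow q H) : (P : Subgroup H).Normal := by
  set Q := Cfsg.pCore q H with hQ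
  have hQp : IsPGroup q Q := Cfsg.Agent.Helper1.pCore_isPGroup q
  have hQn : Q.Normal := inferInstance
  set N := K.comap f with hN
  have hNn : N.Normal := inferInstance
  have hNnil : Group.IsNilpotent ↥N := by
    have hle : N.map f ≤ K := by
      rintro _ ⟨x, hx, rfl⟩
      exact hx
    have h1 := Cfsg.Agent.Helper1.CNFrob.nilp_of_le hle hK
    exact Group.nilpotent_of_mulEquiv
      (N.equivMapOfInjective f hf).symm
  obtain ⟨z, hzQ, hz1⟩ : ∃ z ∈ Q, z ≠ 1 := by
    by_contra hcon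
    push Not at hcon
    exact hQ1 ((Subgroup.eq_bot_iff_forall _).2 hcon)
  -- `q'`-elements of `N` are trivial
  have hkey : ∀ y ∈ N, (orderOf y).Coprime q → y = 1 := by
    intro y hyN hyq
    by_cases hc : y * z * y⁻¹ * z⁻¹ = 1
    · have hyz : y * z = z * y := by
        have : y * z = (y * z * y⁻¹ * z⁻¹) * (z * y) := by group
        rw [this, hc, one_mul]
      exact Cfsg.Agent.Helper1.CNSolv.eq_one_of_commute_pCore hCN hC hyq hzQ hz1 hyz
    · set c := y * z * y⁻¹ * z⁻¹ with hcdef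
      have hcN : c ∈ N := by
        have : c = y * (z * y⁻¹ * z⁻¹) := by rw [hcdef]; group
        rw [this]
        exact Subgroup.mul_mem _ hyN (hNn.conj_mem _ (Subgroup.inv_mem _ hyN) z)
      have hcQ : c ∈ Q :=
        Subgroup.mul_mem _ (hQn.conj_mem _ hzQ y) (Subgroup.inv_mem _ hzQ)
      obtain ⟨j, hj⟩ := Cfsg.Agent.Helper1.exists_orderOf_eq_pow_of_mem_isPGroup hQp hcQ
      have hcop : (orderOf y).Coprime (orderOf c) := by
        rw [hj]; exact Nat.Coprime.pow_right _ hyq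
      have hyc : y * c = c * y :=
        Cfsg.Agent.Helper1.commute_of_coprime_orderOf_of_mem hNnil hyN hcN hcop
      exact Cfsg.Agent.Helper1.CNSolv.eq_one_of_commute_pCore hCN hC hyq hcQ hc hyc
  have hNq : IsPGroup q N := by
    rintro ⟨x, hx⟩
    obtain ⟨k, m, hqm, hord⟩ :=
      Nat.exists_eq_pow_mul_and_not_dvd (orderOf_pos x).ne' q hq.out.ne_one
    have hqk0 : q ^ k ≠ 0 := pow_ne_zero _ hq.out.ne_zero
    have hyo : orderOf (x ^ q ^ k) = m := by
      rw [orderOf_pow_of_dvd hqk0 ⟨m, hord⟩, hord, Nat.mul_div_cancel_left _ (Nat.pos_of_ne_zero hqk0)]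
    have hcop : (orderOf (x ^ q ^ k)).Coprime q := by
      rw [hyo]
      exact ((Nat.Prime.coprime_iff_not_dvd hq.out).2 hqm).symm
    have h1 := hkey _ (Subgroup.pow_mem _ hx _) hcop
    exact ⟨k, Subtype.ext h1⟩
  have hNQ : N ≤ Q := Cfsg.Agent.Helper1.le_pCore hNn hNq
  -- `H / Q` is nilpotent
  set φ : H →* L ⧸ K := (QuotientGroup.mk' K).comp f with hφ
  have hker : φ.ker ≤ Q := by
    intro x hx
    apply hNQ
    rw [MonoidHom.mem_ker, hφ, MonoidHom.comp_apply, QuotientGroup.mk'_apply,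
      QuotientGroup.eq_one_iff] at hx
    exact hx
  have h1 : Group.IsNilpotent φ.range := inferInstance
  have h2 : Group.IsNilpotent (H ⧸ φ.ker) :=
    Group.nilpotent_of_mulEquiv (QuotientGroup.quotientKerEquivRange φ).symm
  have hnil : Group.IsNilpotent (H ⧸ Q) := by
    refine Group.nilpotent_of_surjective
      (QuotientGroup.map φ.ker Q (MonoidHom.id _) (by simpa using hker)) ?_
    intro y
    obtain ⟨x, rfl⟩ := QuotientGroup.mk_surjective y
    exact ⟨(x : H ⧸ φ.ker), rfl⟩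
  exact Cfsg.Agent.Helper1.CNSolv.sylow_normal_of_quotient_nilpotent Q hQp hnil P

/-- A non-nilpotent solvable CN-group with no nontrivial normal Sylow subgroup has a prime `q` with
`O_q` nontrivial and self-centralizing, and a proper subgroup of `q`-power index containing the
commutator subgroup. -/
theorem exists_q_quotient [Finite G] [Group.IsSolvable G] (hCN : Cfsg.IsCNGroup G)
    (hnn : ¬ Group.IsNilpotent G)
    (hns : ∀ (q : ℕ) [Fact q.Prime] (S : Sylow q G), (S : Subgroup G).Normal →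
      (S : Subgroup G) = ⊥) :
    ∃ q : ℕ, q.Prime ∧ Cfsg.pCore q G ≠ ⊥ ∧
      Subgroup.centralizer (Cfsg.pCore q G : Set G) ≤ Cfsg.pCore q G ∧
      ∃ M : Subgroup G, M ≠ ⊤ ∧ commutator G ≤ M ∧ ∃ n : ℕ, M.index ∣ q ^ n := by
  obtain ⟨q, hq, hQ1, hC⟩ := Cfsg.Agent.Helper1.CNSolv.exists_pCore_self_centralizing hCN hnn hns
  obtain ⟨p, hp, h3⟩ := Cfsg.Agent.Helper1.CNSolv.threeStep_of_no_normal_sylow hCN hnn hns
  have hqF : Fact q.Prime := ⟨hq⟩
  have hpF : Fact p.Prime := ⟨hp⟩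
  have hpq : p = q := by
    by_contra hne
    have hdisj : Disjoint (Cfsg.pCore p G) (Cfsg.pCore q G) :=
      IsPGroup.disjoint_of_ne p q hne _ _ (Cfsg.Agent.Helper1.pCore_isPGroup p)
        (Cfsg.Agent.Helper1.pCore_isPGroup q)
    have hcomm : ∀ x ∈ Cfsg.pCore p G, ∀ y ∈ Cfsg.pCore q G, x * y = y * x := fun x hx y hy =>
      Subgroup.commute_of_normal_of_disjoint _ _ inferInstance inferInstance hdisj x y hx hy
    apply h3.1
    rw [eq_bot_iff]
    intro x hx
    have hxC : x ∈ Subgroup.centralizer (Cfsg.pCore q G : Set G) := by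
      rw [Subgroup.mem_centralizer_iff]
      intro y hy
      exact (hcomm x hx y hy).symm
    have := hdisj.le_bot (show x ∈ Cfsg.pCore p G ⊓ Cfsg.pCore q G from ⟨hx, hC hxC⟩)
    exact this
  subst hpq
  refine ⟨p, hq, hQ1, hC, ?_⟩
  obtain ⟨-, A, -, -, -, -, hMn, hMtop, ⟨n, hn⟩, -, -⟩ := h3
  set M := Cfsg.pCore p G ⊔ A with hM
  have hMn' := hMn
  have hnt : Nontrivial (G ⧸ M) := by
    rw [← Finite.one_lt_card_iff_nontrivial, ← Subgroup.index_eq_card]
    have h1 : M.index ≠ 1 := fun h => hMtop (Subgroup.index_eq_one.1 h)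
    have h0 : M.index ≠ 0 := Subgroup.index_ne_zero_of_finite
    omega
  have hlt := Group.IsSolvable.commutator_lt_top_of_nontrivial (G ⧸ M)
  refine ⟨(commutator (G ⧸ M)).comap (QuotientGroup.mk' M), ?_, ?_, n, ?_⟩
  · intro htop
    apply hlt.ne
    rw [eq_top_iff]
    intro y _
    obtain ⟨x, rfl⟩ := QuotientGroup.mk_surjective y
    have : x ∈ (commutator (G ⧸ M)).comap (QuotientGroup.mk' M) := by rw [htop]; trivial
    exact this
  · rw [← Subgroup.map_le_iff_le_comap, commutator_def, Subgroup.map_commutator]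
    exact Subgroup.commutator_mono le_top le_top
  · rw [← hn]
    apply Subgroup.index_dvd_of_le
    intro x hx
    rw [Subgroup.mem_comap, QuotientGroup.mk'_apply, (QuotientGroup.eq_one_iff x).2 hx]
    exact Subgroup.one_mem _

end CNThree

end Cfsg.Agent.Helper2
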