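import Mathlib
import Cfsg.Agent.Helper1.MaxClassKlein
import Cfsg.Agent.Helper1.MaxClassBasic
import Cfsg.Agent.Helper1.Hall

set_option autoImplicit false

/-! A `2`-group with an element whose centralizer has order at most `4` has maximal class. -/

namespace Cfsg.Agent.Helper2.CentFour

universe u

theorem maxClass_of_centralizer_le_four : ∀ (n : ℕ), 3 ≤ n → ∀ (X : Type u) [Group X] [Finite X],
    Nat.card X = 2 ^ n → (∃ x : X, Nat.card (Subgroup.centralizer ({x} : Set X)) ≤ 4) →
    Group.nilpotencyClass X = n - 1 := by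
  intro n hn
  haveI : Fact (Nat.Prime 2) := ⟨Nat.prime_two⟩
  induction n, hn using Nat.le_induction with
  | base =>
    intro X _ _ hX hx
    obtain ⟨x, hx⟩ := hx
    have hXp : IsPGroup 2 X := IsPGroup.of_card hX
    haveI hnil : Group.IsNilpotent X := hXp.isNilpotent
    have h1 := Cfsg.Agent.Helper1.nilpotencyClass_le_pred (p := 2) 3 X hX (by norm_num)
    have h2 : ¬ Group.nilpotencyClass X ≤ 1 := by
      rw [Group.IsNilpotent.nilpotencyClass_le_one_iff]
      intro hcomm
      have htop : Subgroup.centralizer ({x} : Set X) = ⊤ := by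
        rw [eq_top_iff]
        intro y _
        rw [Subgroup.mem_centralizer_iff]
        intro z hz
        exact hcomm.is_comm.comm _ _
      rw [htop, Subgroup.card_top, hX] at hx
      norm_num at hx
    omega
  | succ n hn ih =>
    intro X _ _ hX hx
    obtain ⟨x, hx⟩ := hx
    have hXp : IsPGroup 2 X := IsPGroup.of_card hX
    haveI hnil : Group.IsNilpotent X := hXp.isNilpotent
    haveI hnt : Nontrivial X := by
      rw [← Finite.one_lt_card_iff_nontrivial, hX]
      exact Nat.one_lt_pow (by omega) (by norm_num)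
    set Z := Subgroup.center X with hZ
    set Cx := Subgroup.centralizer ({x} : Set X) with hCx
    have hZC : Z ≤ Cx := Subgroup.center_le_centralizer _
    have hxC : x ∈ Cx := by
      rw [hCx, Subgroup.mem_centralizer_iff]
      intro z hz
      rw [Set.mem_singleton_iff] at hz
      rw [hz]
    have hxZ : x ∉ Z := by
      intro h
      have htop : Cx = ⊤ := by
        rw [eq_top_iff]
        intro y _
        rw [hCx, Subgroup.mem_centralizer_iff]
        intro z hz
        rw [Set.mem_singleton_iff] at hz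
        subst hz
        exact (Subgroup.mem_center_iff.mp h y).symm
      rw [htop, Subgroup.card_top, hX] at hx
      have : 2 ^ 4 ≤ 2 ^ (n + 1) := Nat.pow_le_pow_right (by norm_num) (by omega)
      omega
    have hZcard : Nat.card Z = 2 := by
      obtain ⟨k, hk0, hk⟩ := IsPGroup.card_center_eq_prime_pow hX (by omega)
      have hlt : Nat.card Z < Nat.card Cx := by
        by_contra hge
        push Not at hge
        have := Subgroup.eq_of_le_of_card_ge hZC hge
        exact hxZ (this ▸ hxC)
      rw [hZ, hk]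
      rw [hZ, hk] at hlt
      have hk1 : k < 2 := by
        by_contra hk2
        push Not at hk2
        have : 2 ^ 2 ≤ 2 ^ k := Nat.pow_le_pow_right (by norm_num) hk2
        omega
      have hk1' : k = 1 := by omega
      rw [hk1']; norm_num
    set π := QuotientGroup.mk' Z with hπ
    have hQcard : Nat.card (X ⧸ Z) = 2 ^ n := by
      have := Subgroup.card_eq_card_quotient_mul_card_subgroup Z
      rw [hX, hZcard, pow_succ] at this
      omega
    set Cb := Subgroup.centralizer ({π x} : Set (X ⧸ Z)) with hCb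
    set L := Cb.comap π with hL
    have hLcard : Nat.card L = Nat.card Cb * 2 := by
      rw [hL, Cfsg.Agent.Helper1.card_comap_mk', hZcard]
    have hLmem : ∀ s ∈ L, s * x * s⁻¹ * x⁻¹ ∈ Z := by
      intro s hs
      rw [hL, Subgroup.mem_comap, hCb, Subgroup.mem_centralizer_iff] at hs
      have h1 := hs (π x) (Set.mem_singleton _)
      rw [← QuotientGroup.eq_one_iff]
      change π (s * x * s⁻¹ * x⁻¹) = 1
      rw [map_mul, map_mul, map_mul, map_inv, map_inv, ← h1]
      group
    let f : L →* Z := MonoidHom.mk' (fun s => ⟨s.1 * x * s.1⁻¹ * x⁻¹, hLmem s.1 s.2⟩) (by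
      intro s t
      apply Subtype.ext
      have hc := Subgroup.mem_center_iff.mp (hLmem t.1 t.2)
      change (s.1 * t.1) * x * (s.1 * t.1)⁻¹ * x⁻¹ =
        (s.1 * x * s.1⁻¹ * x⁻¹) * (t.1 * x * t.1⁻¹ * x⁻¹)
      calc (s.1 * t.1) * x * (s.1 * t.1)⁻¹ * x⁻¹
          = (s.1 * (t.1 * x * t.1⁻¹ * x⁻¹)) * x * s.1⁻¹ * x⁻¹ := by group
        _ = ((t.1 * x * t.1⁻¹ * x⁻¹) * s.1) * x * s.1⁻¹ * x⁻¹ := by rw [hc s.1]
        _ = (t.1 * x * t.1⁻¹ * x⁻¹) * (s.1 * x * s.1⁻¹ * x⁻¹) := by group
        _ = (s.1 * x * s.1⁻¹ * x⁻¹) * (t.1 * x * t.1⁻¹ * x⁻¹) := (hc _).symm)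
    have hker : Nat.card f.ker ≤ Nat.card Cx := by
      have hmem : ∀ s : f.ker, (s.1.1 : X) ∈ Cx := by
        intro s
        have h1 : f s.1 = 1 := s.2
        have h2 : s.1.1 * x * s.1.1⁻¹ * x⁻¹ = 1 := congrArg Subtype.val h1
        rw [hCx, Subgroup.mem_centralizer_iff]
        intro z hz
        rw [Set.mem_singleton_iff] at hz
        subst hz
        have h4 : s.1.1 * z * s.1.1⁻¹ = z := by
          rw [mul_inv_eq_one] at h2; exact h2
        have h3 : s.1.1 * z = z * s.1.1 := mul_inv_eq_iff_eq_mul.mp h4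
        exact h3.symm
      apply Nat.card_le_card_of_injective (fun s : f.ker => (⟨s.1.1, hmem s⟩ : Cx))
      intro s t hst
      have h1 : (⟨s.1.1, hmem s⟩ : Cx) = ⟨t.1.1, hmem t⟩ := hst
      exact Subtype.ext (Subtype.ext (Subtype.mk.inj h1))
    have hCb4 : Nat.card Cb ≤ 4 := by
      have h1 := Subgroup.card_mul_index f.ker
      rw [Subgroup.index_ker] at h1
      have h2 : Nat.card f.range ≤ Nat.card Z := Subgroup.card_le_card_group _
      rw [hZcard] at h2
      have h3 : Nat.card L ≤ Nat.card Cx * 2 := by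
        rw [← h1]; exact Nat.mul_le_mul hker h2
      rw [hLcard] at h3
      omega
    have hcl := ih (X ⧸ Z) hQcard ⟨π x, hCb4⟩
    have := Cfsg.Agent.Helper1.class_of_quotient_eq_center Z rfl (n - 1) hcl
    rw [this]; omega

end Cfsg.Agent.Helper2.CentFour
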