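import Mathlib
import Cfsg.Prelude.Def_Solvable

set_option autoImplicit false

/-!
Commuting graph of a conjugation-closed family of subgroups of order `p` with the
"one or all" property: there is a member commuting with all the others.
-/

namespace Cfsg.Agent.Helper2.CommGraph

variable {G : Type*} [Group G]

/-- product decomposition in the join of two commuting subgroups. -/
theorem mem_sup_of_comm {L₁ L₂ : Subgroup G}
    (hc : ∀ x ∈ L₁, ∀ y ∈ L₂, x * y = y * x) {y : G} (hy : y ∈ L₁ ⊔ L₂) :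
    ∃ a ∈ L₁, ∃ b ∈ L₂, y = a * b := by
  let S : Subgroup G :=
    { carrier := {y | ∃ a ∈ L₁, ∃ b ∈ L₂, y = a * b}
      one_mem' := ⟨1, one_mem _, 1, one_mem _, by simp⟩
      mul_mem' := by
        rintro _ _ ⟨a, ha, b, hb, rfl⟩ ⟨a', ha', b', hb', rfl⟩
        refine ⟨a * a', mul_mem ha ha', b * b', mul_mem hb hb', ?_⟩
        have c1 : b * a' = a' * b := (hc a' ha' b hb).symm
        calc a * b * (a' * b') = a * (b * a') * b' := by group
        _ = a * (a' * b) * b' := by rw [c1]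
        _ = _ := by group
      inv_mem' := by
        rintro _ ⟨a, ha, b, hb, rfl⟩
        refine ⟨a⁻¹, inv_mem ha, b⁻¹, inv_mem hb, ?_⟩
        have c1 : a⁻¹ * b⁻¹ = b⁻¹ * a⁻¹ := hc _ (inv_mem ha) _ (inv_mem hb)
        rw [mul_inv_rev, c1] }
  have h1 : L₁ ≤ S := fun a ha => ⟨a, ha, 1, one_mem _, by simp⟩
  have h2 : L₂ ≤ S := fun b hb => ⟨1, one_mem _, b, hb, by simp⟩
  exact (sup_le h1 h2) hy

theorem comm_zpowers {x y : G} (h : x * y = y * x) :
    ∀ a ∈ Subgroup.zpowers x, ∀ b ∈ Subgroup.zpowers y, a * b = b * a := by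
  intro a ha b hb
  obtain ⟨i, rfl⟩ := Subgroup.mem_zpowers_iff.mp ha
  obtain ⟨j, rfl⟩ := Subgroup.mem_zpowers_iff.mp hb
  have hc : Commute x y := h
  exact (hc.zpow_zpow i j).eq

theorem comm_of_mem_zpowers {t h g : G} (ht : t * h = h * t) (hg : g ∈ Subgroup.zpowers h) :
    t * g = g * t := by
  obtain ⟨i, rfl⟩ := Subgroup.mem_zpowers_iff.mp hg
  have hc : Commute t h := ht
  exact (hc.zpow_right i).eq

/-- class-two commutator computation. -/
theorem comm_zpow_mem {c v w : G} (hc : v⁻¹ * w⁻¹ * v * w = c) (hcv : c * v = v * c)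
    (hcw : c * w = w * c) (m l : ℤ) :
    (v ^ m)⁻¹ * (w ^ l)⁻¹ * v ^ m * w ^ l ∈ Subgroup.zpowers c := by
  have cv : Commute c v := hcv
  have cw : Commute c w := hcw
  have h1 : w⁻¹ * v * w = v * c := by rw [← hc]; group
  have h2 : w⁻¹ * v ^ m * w = v ^ m * c ^ m := by
    have := map_zpow (MulAut.conj w⁻¹) v m
    rw [MulAut.conj_apply, MulAut.conj_apply, inv_inv, h1, cv.symm.mul_zpow] at this
    exact this
  have cmw : Commute (c ^ m) w⁻¹ := (cw.zpow_left m).inv_right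
  have h3 : (v ^ m)⁻¹ * w⁻¹ * v ^ m = c ^ m * w⁻¹ := by
    have : v ^ m * c ^ m = c ^ m * v ^ m := ((cv.zpow_left m).zpow_right m).eq.symm
    calc (v ^ m)⁻¹ * w⁻¹ * v ^ m = (v ^ m)⁻¹ * (w⁻¹ * v ^ m * w) * w⁻¹ := by group
    _ = (v ^ m)⁻¹ * (c ^ m * v ^ m) * w⁻¹ := by rw [h2, this]
    _ = (v ^ m)⁻¹ * (v ^ m * c ^ m) * w⁻¹ := by rw [this]
    _ = c ^ m * w⁻¹ := by group
  have h4 : (v ^ m)⁻¹ * (w⁻¹) ^ l * v ^ m = (c ^ m) ^ l * (w⁻¹) ^ l := by
    have := map_zpow (MulAut.conj (v ^ m)⁻¹) w⁻¹ l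
    rw [MulAut.conj_apply, MulAut.conj_apply, inv_inv, h3, cmw.mul_zpow] at this
    exact this
  have h5 : (v ^ m)⁻¹ * (w ^ l)⁻¹ * v ^ m * w ^ l = (c ^ m) ^ l := by
    have e1 : (w ^ l)⁻¹ = (w⁻¹) ^ l := (inv_zpow w l).symm
    rw [e1, h4, inv_zpow]; group
  rw [h5, ← zpow_mul]
  exact Subgroup.zpow_mem_zpowers c _

theorem comm_central {a₁ a₂ b₁ b₂ : G} (h11 : Commute a₁ b₁) (h12 : Commute a₁ b₂)
    (h21 : Commute a₂ b₁) (h22 : Commute a₂ b₂) (haa : Commute a₁ a₂) :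
    (a₁ * b₁)⁻¹ * (a₂ * b₂)⁻¹ * (a₁ * b₁) * (a₂ * b₂) = b₁⁻¹ * b₂⁻¹ * b₁ * b₂ := by
  have e1 : a₂ * (a₁ * b₁) = (a₁ * b₁) * a₂ := ((haa.symm).mul_right h21).eq
  have e2 : a₁ * b₂⁻¹ = b₂⁻¹ * a₁ := (h12.inv_right).eq
  calc (a₁ * b₁)⁻¹ * (a₂ * b₂)⁻¹ * (a₁ * b₁) * (a₂ * b₂)
      = b₁⁻¹ * a₁⁻¹ * b₂⁻¹ * (a₂⁻¹ * ((a₁ * b₁) * a₂)) * b₂ := by group
    _ = b₁⁻¹ * a₁⁻¹ * b₂⁻¹ * (a₂⁻¹ * (a₂ * (a₁ * b₁))) * b₂ := by rw [e1]
    _ = b₁⁻¹ * a₁⁻¹ * (b₂⁻¹ * a₁) * b₁ * b₂ := by group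
    _ = b₁⁻¹ * a₁⁻¹ * (a₁ * b₂⁻¹) * b₁ * b₂ := by rw [e2]
    _ = b₁⁻¹ * b₂⁻¹ * b₁ * b₂ := by group

/-- the generators of the members of `K`. -/
def pts (K : Set (Subgroup G)) : Set G := {g | g ≠ 1 ∧ Subgroup.zpowers g ∈ K}

section facts

variable [Finite G] {p : ℕ} (hp : p.Prime) {K : Set (Subgroup G)}
  (hK : ∀ X ∈ K, Nat.card ↥X = p)

include hK in
theorem orderOf_pt {g : G} (hg : g ∈ pts K) : orderOf g = p := by
  rw [← Nat.card_zpowers]; exact hK _ hg.2

include hp hK in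
theorem zpowers_eq_of_mem {g h : G} (hg : g ∈ pts K) (hh : h ∈ Subgroup.zpowers g) (h1 : h ≠ 1) :
    Subgroup.zpowers h = Subgroup.zpowers g := by
  have hle : Subgroup.zpowers h ≤ Subgroup.zpowers g := Subgroup.zpowers_le.mpr hh
  apply Subgroup.eq_of_le_of_card_ge hle
  rw [Nat.card_zpowers, Nat.card_zpowers, orderOf_pt hK hg]
  have hd : orderOf h ∣ p := by
    have := Subgroup.card_dvd_of_le hle
    rwa [Nat.card_zpowers, Nat.card_zpowers, orderOf_pt hK hg] at this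
  rcases (Nat.dvd_prime hp).mp hd with h' | h'
  · exact absurd (orderOf_eq_one_iff.mp h') h1
  · exact h'.ge

include hp hK in
theorem pt_of_mem {g h : G} (hg : g ∈ pts K) (hh : h ∈ Subgroup.zpowers g) (h1 : h ≠ 1) :
    h ∈ pts K :=
  ⟨h1, by rw [zpowers_eq_of_mem hp hK hg hh h1]; exact hg.2⟩

include hp hK in
theorem mem_zpowers_of_mem {g h : G} (hg : g ∈ pts K) (hh : h ∈ Subgroup.zpowers g) (h1 : h ≠ 1) :
    g ∈ Subgroup.zpowers h := by
  rw [zpowers_eq_of_mem hp hK hg hh h1]; exact Subgroup.mem_zpowers g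

include hp hK in
/-- if `t` commutes with a nontrivial power of a point `g`, it commutes with `g`. -/
theorem comm_of_comm_mem {g h t : G} (hg : g ∈ pts K) (hh : h ∈ Subgroup.zpowers g) (h1 : h ≠ 1)
    (ht : t * h = h * t) : t * g = g * t :=
  comm_of_mem_zpowers ht (mem_zpowers_of_mem hp hK hg hh h1)

include hp hK in
theorem exists_gen {X : Subgroup G} (hX : X ∈ K) : ∃ g ∈ pts K, Subgroup.zpowers g = X := by
  have hc := hK X hX
  have hne : X ≠ ⊥ := by
    intro h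
    rw [h, Subgroup.card_bot] at hc
    exact hp.one_lt.ne hc
  obtain ⟨⟨g, hgX⟩, hg1⟩ := (Subgroup.ne_bot_iff_exists_ne_one).mp hne
  have hg1' : g ≠ 1 := fun h => hg1 (Subtype.ext h)
  have hle : Subgroup.zpowers g ≤ X := Subgroup.zpowers_le.mpr hgX
  have hd : orderOf g ∣ p := by
    have := Subgroup.card_dvd_of_le hle
    rwa [Nat.card_zpowers, hc] at this
  have ho : orderOf g = p := by
    rcases (Nat.dvd_prime hp).mp hd with h' | h'
    · exact absurd (orderOf_eq_one_iff.mp h') hg1'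
    · exact h'
  have he : Subgroup.zpowers g = X := by
    apply Subgroup.eq_of_le_of_card_ge hle
    rw [Nat.card_zpowers, ho, hc]
  exact ⟨g, ⟨hg1', by rw [he]; exact hX⟩, he⟩

include hK in
theorem conj_pt (hKc : ∀ X ∈ K, ∀ g : G, X.map (MulAut.conj g).toMonoidHom ∈ K)
    {g : G} (hg : g ∈ pts K) (a : G) : a * g * a⁻¹ ∈ pts K := by
  refine ⟨?_, ?_⟩
  · intro h
    apply hg.1
    have : g = a⁻¹ * (a * g * a⁻¹) * a := by group
    rw [this, h]; group
  · have := hKc _ hg.2 a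
    rw [MonoidHom.map_zpowers] at this
    exact this

section line

variable (ha : ∀ X ∈ K, ∀ Y ∈ K, X ≠ Y → (∀ x ∈ X, ∀ y ∈ Y, x * y = y * x) →
      ∀ Z : Subgroup G, Z ≤ X ⊔ Y → Nat.card ↥Z = p → Z ∈ K)
    (hb : ∀ X ∈ K, ∀ Y ∈ K, X ≠ Y → (∀ x ∈ X, ∀ y ∈ Y, x * y = y * x) →
      ∀ W ∈ K, (X ⊔ Y) ⊓ Subgroup.centralizer (W : Set G) ≠ ⊥)

include hp hK ha in
theorem pt_of_mem_sup {x y : G} (hx : x ∈ pts K) (hy : y ∈ pts K) (hxy : x * y = y * x)
    (hne : Subgroup.zpowers x ≠ Subgroup.zpowers y) {g : G}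
    (hg : g ∈ Subgroup.zpowers x ⊔ Subgroup.zpowers y) (g1 : g ≠ 1) : g ∈ pts K := by
  refine ⟨g1, ?_⟩
  have hcomm := comm_zpowers hxy
  obtain ⟨a, ha', b, hb', rfl⟩ := mem_sup_of_comm hcomm hg
  have hap : a ^ p = 1 := by
    obtain ⟨i, rfl⟩ := Subgroup.mem_zpowers_iff.mp ha'
    rw [← zpow_natCast, ← zpow_mul, mul_comm, zpow_mul, zpow_natCast, ← orderOf_pt hK hx,
      pow_orderOf_eq_one, one_zpow]
  have hbp : b ^ p = 1 := by
    obtain ⟨i, rfl⟩ := Subgroup.mem_zpowers_iff.mp hb'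
    rw [← zpow_natCast, ← zpow_mul, mul_comm, zpow_mul, zpow_natCast, ← orderOf_pt hK hy,
      pow_orderOf_eq_one, one_zpow]
  have hab : Commute a b := hcomm a ha' b hb'
  have hgp : (a * b) ^ p = 1 := by rw [hab.mul_pow, hap, hbp, one_mul]
  have ho : orderOf (a * b) = p := by
    rcases (Nat.dvd_prime hp).mp (orderOf_dvd_of_pow_eq_one hgp) with h' | h'
    · exact absurd (orderOf_eq_one_iff.mp h') g1
    · exact h'
  apply ha _ hx.2 _ hy.2 hne hcomm _ (Subgroup.zpowers_le.mpr hg)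
  rw [Nat.card_zpowers, ho]

include hp hK ha hb in
/-- every point `w` commutes with some point of the line through two commuting points. -/
theorem line_pt {x y w : G} (hx : x ∈ pts K) (hy : y ∈ pts K) (hxy : x * y = y * x)
    (hne : Subgroup.zpowers x ≠ Subgroup.zpowers y) (hw : w ∈ pts K) :
    ∃ a ∈ Subgroup.zpowers x, ∃ b ∈ Subgroup.zpowers y, a * b ≠ 1 ∧ a * b ∈ pts K ∧
      (a * b) * w = w * (a * b) := by
  have hcomm := comm_zpowers hxy
  have h := hb _ hx.2 _ hy.2 hne hcomm _ hw.2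
  obtain ⟨⟨g, hg⟩, hg1⟩ := (Subgroup.ne_bot_iff_exists_ne_one).mp h
  have hg1' : g ≠ 1 := fun h => hg1 (Subtype.ext h)
  obtain ⟨hgs, hgc⟩ := Subgroup.mem_inf.mp hg
  obtain ⟨a, ha', b, hb', rfl⟩ := mem_sup_of_comm hcomm hgs
  refine ⟨a, ha', b, hb', hg1', pt_of_mem_sup hp hK ha hx hy hxy hne hgs hg1', ?_⟩
  have := (Subgroup.mem_centralizer_iff.mp hgc) w (Subgroup.mem_zpowers w)
  exact this.symm

end line

end facts

section main

variable [Finite G] {p : ℕ} (hp : p.Prime) {K : Set (Subgroup G)}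
  (hK : ∀ X ∈ K, Nat.card ↥X = p)
  (hKc : ∀ X ∈ K, ∀ g : G, X.map (MulAut.conj g).toMonoidHom ∈ K)
  (ha : ∀ X ∈ K, ∀ Y ∈ K, X ≠ Y → (∀ x ∈ X, ∀ y ∈ Y, x * y = y * x) →
      ∀ Z : Subgroup G, Z ≤ X ⊔ Y → Nat.card ↥Z = p → Z ∈ K)
  (hb : ∀ X ∈ K, ∀ Y ∈ K, X ≠ Y → (∀ x ∈ X, ∀ y ∈ Y, x * y = y * x) →
      ∀ W ∈ K, (X ⊔ Y) ⊓ Subgroup.centralizer (W : Set G) ≠ ⊥)

include hp hK hKc ha hb in
/-- the key configuration: it produces a point commuting with all the others. -/
theorem core {v w z z₂ : G} (hv : v ∈ pts K) (hw : w ∈ pts K)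
    (hvz : v * z = z * v) (hwz : w * z = z * w) (hvz₂ : v * z₂ = z₂ * v) (hwz₂ : w * z₂ = z₂ * w)
    (hvw : v * w ≠ w * v) (hrel : (z₂ * w) * (v * z) = (v * z) * (z₂ * w)) :
    ∃ c ∈ pts K, ∀ t ∈ pts K, c * t = t * c := by
  have cvz : Commute v z := hvz
  have cwz : Commute w z := hwz
  have cvz₂ : Commute v z₂ := hvz₂
  have cwz₂ : Commute w z₂ := hwz₂
  set c : G := v⁻¹ * w⁻¹ * v * w with hc
  have hc2 : c * (z * z₂) = z₂ * z := by
    have e1 : z₂ * w * (v * z) = w * v * (z₂ * z) := by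
      calc z₂ * w * (v * z) = (z₂ * w) * v * z := by group
      _ = (w * z₂) * v * z := by rw [hwz₂]
      _ = w * (z₂ * v) * z := by group
      _ = w * (v * z₂) * z := by rw [hvz₂]
      _ = w * v * (z₂ * z) := by group
    have e2 : v * z * (z₂ * w) = v * w * (z * z₂) := by
      calc v * z * (z₂ * w) = v * z * (z₂ * w) := rfl
      _ = v * z * (w * z₂) := by rw [hwz₂]
      _ = v * (z * w) * z₂ := by group
      _ = v * (w * z) * z₂ := by rw [hwz]
      _ = v * w * (z * z₂) := by group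
    rw [e1, e2] at hrel
    calc c * (z * z₂) = v⁻¹ * w⁻¹ * (v * w * (z * z₂)) := by rw [hc]; group
    _ = v⁻¹ * w⁻¹ * (w * v * (z₂ * z)) := by rw [hrel]
    _ = z₂ * z := by group
  have hc3 : c = z₂ * z * z₂⁻¹ * z⁻¹ := by
    have : c = c * (z * z₂) * (z * z₂)⁻¹ := by group
    rw [this, hc2]; group
  have ccv : Commute c v := by
    rw [hc3]
    exact ((cvz₂.symm.mul_left cvz.symm).mul_left cvz₂.symm.inv_left).mul_left cvz.symm.inv_left
  have ccw : Commute c w := by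
    rw [hc3]
    exact ((cwz₂.symm.mul_left cwz.symm).mul_left cwz₂.symm.inv_left).mul_left cwz.symm.inv_left
  have hc1 : c ≠ 1 := by
    intro h
    apply hvw
    have : v * w = w * v * c := by rw [hc]; group
    rw [this, h, mul_one]
  -- `c` is a point
  have hv' : w⁻¹ * v * w ∈ pts K := by
    have := conj_pt hK hKc hv w⁻¹
    rwa [inv_inv] at this
  have hcv' : c = v⁻¹ * (w⁻¹ * v * w) := by rw [hc]; group
  have hv'c : w⁻¹ * v * w = v * c := by rw [hc]; group
  have hvv' : v * (w⁻¹ * v * w) = (w⁻¹ * v * w) * v := by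
    rw [hv'c]
    calc v * (v * c) = v * (c * v) := by rw [ccv.eq]
    _ = v * c * v := by group
  have hcw_of : ∀ g : G, g ∈ Subgroup.zpowers c → g * w = w * g := by
    intro g hg
    exact (comm_of_mem_zpowers ccw.symm.eq hg).symm
  have hcv_of : ∀ g : G, g ∈ Subgroup.zpowers c → g * v = v * g := by
    intro g hg
    exact (comm_of_mem_zpowers ccv.symm.eq hg).symm
  have hnevv' : Subgroup.zpowers v ≠ Subgroup.zpowers (w⁻¹ * v * w) := by
    intro h
    have h1 : w⁻¹ * v * w ∈ Subgroup.zpowers v := by rw [h]; exact Subgroup.mem_zpowers _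
    have h2 : c ∈ Subgroup.zpowers v := by
      rw [hcv']; exact mul_mem (inv_mem (Subgroup.mem_zpowers v)) h1
    have h3 := mem_zpowers_of_mem hp hK hv h2 hc1
    exact hvw (hcw_of v h3)
  have hcpt : c ∈ pts K := by
    apply pt_of_mem_sup hp hK ha hv hv' hvv' hnevv' _ hc1
    rw [hcv']
    exact Subgroup.mul_mem_sup (inv_mem (Subgroup.mem_zpowers v)) (Subgroup.mem_zpowers _)
  refine ⟨c, hcpt, ?_⟩
  intro t ht
  by_contra hct
  have hnecv : Subgroup.zpowers c ≠ Subgroup.zpowers v := by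
    intro h
    have : v ∈ Subgroup.zpowers c := by rw [h]; exact Subgroup.mem_zpowers v
    exact hvw (hcw_of v this)
  have hnecw : Subgroup.zpowers c ≠ Subgroup.zpowers w := by
    intro h
    have : w ∈ Subgroup.zpowers c := by rw [h]; exact Subgroup.mem_zpowers w
    exact hvw (hcv_of w this).symm
  obtain ⟨a₁, ha₁, b₁, hb₁, hn₁, -, hg₁⟩ := line_pt hp hK ha hb hcpt hv ccv.eq hnecv ht
  obtain ⟨a₂, ha₂, b₂, hb₂, hn₂, -, hg₂⟩ := line_pt hp hK ha hb hcpt hw ccw.eq hnecw ht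
  have hb₁1 : b₁ ≠ 1 := by
    intro h
    rw [h, mul_one] at hn₁ hg₁
    exact hct (comm_of_comm_mem hp hK hcpt ha₁ hn₁ hg₁.symm).symm
  have hb₂1 : b₂ ≠ 1 := by
    intro h
    rw [h, mul_one] at hn₂ hg₂
    exact hct (comm_of_comm_mem hp hK hcpt ha₂ hn₂ hg₂.symm).symm
  obtain ⟨m, rfl⟩ := Subgroup.mem_zpowers_iff.mp hb₁
  obtain ⟨l, rfl⟩ := Subgroup.mem_zpowers_iff.mp hb₂
  have hd := comm_zpow_mem hc.symm ccv.eq ccw.eq m l
  have hd1 : (v ^ m)⁻¹ * (w ^ l)⁻¹ * v ^ m * w ^ l ≠ 1 := by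
    intro h
    have hcomm : v ^ m * w ^ l = w ^ l * v ^ m := by
      have : v ^ m * w ^ l = w ^ l * v ^ m * ((v ^ m)⁻¹ * (w ^ l)⁻¹ * v ^ m * w ^ l) := by group
      rw [this, h, mul_one]
    have h1 : w ^ l * v = v * w ^ l := comm_of_comm_mem hp hK hv hb₁ hb₁1 hcomm.symm
    have h2 : v * w = w * v := comm_of_comm_mem hp hK hw hb₂ hb₂1 h1.symm
    exact hvw h2
  have h11 : Commute a₁ (v ^ m) := Commute.zpow_right (hcv_of a₁ ha₁) m
  have h12 : Commute a₁ (w ^ l) := Commute.zpow_right (hcw_of a₁ ha₁) l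
  have h21 : Commute a₂ (v ^ m) := Commute.zpow_right (hcv_of a₂ ha₂) m
  have h22 : Commute a₂ (w ^ l) := Commute.zpow_right (hcw_of a₂ ha₂) l
  have haa : Commute a₁ a₂ := comm_zpowers rfl a₁ ha₁ a₂ ha₂
  have e := comm_central h11 h12 h21 h22 haa
  have ct1 : Commute t (a₁ * v ^ m) := hg₁.symm
  have ct2 : Commute t (a₂ * w ^ l) := hg₂.symm
  have ct : Commute t ((a₁ * v ^ m)⁻¹ * (a₂ * w ^ l)⁻¹ * (a₁ * v ^ m) * (a₂ * w ^ l)) :=
    ((ct1.inv_right.mul_right ct2.inv_right).mul_right ct1).mul_right ct2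
  rw [e] at ct
  exact hct (comm_of_comm_mem hp hK hcpt hd hd1 ct.eq).symm

include hp hK hKc ha hb in
/-- there is a point commuting with all the points. -/
theorem exists_radical (hex : ∃ X ∈ K, ∃ Y ∈ K, X ≠ Y ∧ ∀ x ∈ X, ∀ y ∈ Y, x * y = y * x) :
    ∃ r ∈ pts K, ∀ t ∈ pts K, r * t = t * r := by
  obtain ⟨X, hX, Y, hY, hXY, hcXY⟩ := hex
  obtain ⟨x0, hx0, rfl⟩ := exists_gen hp hK hX
  obtain ⟨y0, hy0, rfl⟩ := exists_gen hp hK hY
  have hxy0 : x0 * y0 = y0 * x0 :=
    hcXY x0 (Subgroup.mem_zpowers x0) y0 (Subgroup.mem_zpowers y0)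
  obtain ⟨v, hv, hmax⟩ := Set.exists_max_image (pts K)
    (fun v => ({u | u ∈ pts K ∧ u * v = v * u} : Set G).ncard) (Set.toFinite _) ⟨x0, hx0⟩
  by_cases hrad : ∀ t ∈ pts K, v * t = t * v
  · exact ⟨v, hv, hrad⟩
  push_neg at hrad
  obtain ⟨w, hw, hvw⟩ := hrad
  -- a neighbour of `v`
  have hnb : ∃ x ∈ pts K, x * v = v * x ∧ Subgroup.zpowers x ≠ Subgroup.zpowers v := by
    obtain ⟨a, ha', b, hb', hn, hpt, hcm⟩ := line_pt hp hK ha hb hx0 hy0 hxy0 hXY hv
    by_cases h : Subgroup.zpowers (a * b) = Subgroup.zpowers v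
    · have hvab : v ∈ Subgroup.zpowers (a * b) := by rw [h]; exact Subgroup.mem_zpowers v
      have hx0ab : x0 * (a * b) = (a * b) * x0 := by
        have c1 : Commute x0 a := comm_of_mem_zpowers rfl ha'
        have c2 : Commute x0 b := comm_of_mem_zpowers hxy0 hb'
        exact (c1.mul_right c2).eq
      have hy0ab : y0 * (a * b) = (a * b) * y0 := by
        have c1 : Commute y0 a := comm_of_mem_zpowers hxy0.symm ha'
        have c2 : Commute y0 b := comm_of_mem_zpowers rfl hb'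
        exact (c1.mul_right c2).eq
      have hx0v : x0 * v = v * x0 := comm_of_mem_zpowers hx0ab hvab
      have hy0v : y0 * v = v * y0 := comm_of_mem_zpowers hy0ab hvab
      by_cases hxv : Subgroup.zpowers x0 = Subgroup.zpowers v
      · refine ⟨y0, hy0, hy0v, ?_⟩
        intro h'
        exact hXY (hxv.trans h'.symm)
      · exact ⟨x0, hx0, hx0v, hxv⟩
    · exact ⟨a * b, hpt, hcm, h⟩
  obtain ⟨x, hx, hxv, hnexv⟩ := hnb
  -- a common neighbour `z` of `v` and `w`
  obtain ⟨a, ha', b, hb', hn, hzpt, hzw⟩ :=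
    line_pt hp hK ha hb hv hx hxv.symm hnexv.symm hw
  have hzv : (a * b) * v = v * (a * b) := by
    have c1 : Commute v a := comm_of_mem_zpowers rfl ha'
    have c2 : Commute v b := comm_of_mem_zpowers hxv.symm hb'
    exact (c1.mul_right c2).eq.symm
  generalize a * b = z at hn hzpt hzw hzv
  have hnezv : Subgroup.zpowers z ≠ Subgroup.zpowers v := by
    intro h
    have : v ∈ Subgroup.zpowers z := by rw [h]; exact Subgroup.mem_zpowers v
    exact hvw (comm_of_mem_zpowers hzw.symm this).symm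
  by_cases hA : ∀ z' ∈ pts K, z' * v = v * z' → z' * w = w * z' → z * z' = z' * z
  · exfalso
    have hsub : {u | u ∈ pts K ∧ u * v = v * u} ⊂ {u | u ∈ pts K ∧ u * z = z * u} := by
      constructor
      · rintro t ⟨ht, htv⟩
        refine ⟨ht, ?_⟩
        by_cases htv' : Subgroup.zpowers t = Subgroup.zpowers v
        · have : t ∈ Subgroup.zpowers v := by rw [← htv']; exact Subgroup.mem_zpowers t
          exact (comm_of_mem_zpowers hzv this).symm
        · obtain ⟨a', ha'', b', hb'', hn', hpt', hcm'⟩ :=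
            line_pt hp hK ha hb hv ht htv.symm (Ne.symm htv') hw
          have hz'v : (a' * b') * v = v * (a' * b') := by
            have c1 : Commute v a' := comm_of_mem_zpowers rfl ha''
            have c2 : Commute v b' := comm_of_mem_zpowers htv.symm hb''
            exact (c1.mul_right c2).eq.symm
          have hzz' := hA _ hpt' hz'v hcm'
          have hza' : z * a' = a' * z := comm_of_mem_zpowers hzv ha''
          have hzb' : z * b' = b' * z := by
            have e : b' = a'⁻¹ * (a' * b') := by group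
            have c1 : Commute z a' := hza'
            have c2 : Commute z (a' * b') := hzz'
            rw [e]
            exact (c1.inv_right.mul_right c2).eq
          have hb'1 : b' ≠ 1 := by
            intro h
            rw [h, mul_one] at hn' hcm'
            exact hvw (comm_of_comm_mem hp hK hv ha'' hn' hcm'.symm).symm
          exact (comm_of_comm_mem hp hK ht hb'' hb'1 hzb').symm
      · intro hsup
        have : w ∈ {u | u ∈ pts K ∧ u * v = v * u} := hsup ⟨hw, hzw.symm⟩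
        exact hvw this.2.symm
    have hlt := Set.ncard_lt_ncard hsub (Set.toFinite _)
    have := hmax z hzpt
    omega
  · push_neg at hA
    obtain ⟨z₂, hz₂, hz₂v, hz₂w, hzz₂⟩ := hA
    have hu1 : v * z ≠ 1 := by
      intro h
      have hz' : z ∈ Subgroup.zpowers v := by
        have : z = v⁻¹ := by
          have : z = v⁻¹ * (v * z) := by group
          rw [this, h, mul_one]
        rw [this]; exact inv_mem (Subgroup.mem_zpowers v)
      exact hnezv (zpowers_eq_of_mem hp hK hv hz' hzpt.1)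
    have hupt : v * z ∈ pts K :=
      pt_of_mem_sup hp hK ha hv hzpt hzv.symm hnezv.symm
        (Subgroup.mul_mem_sup (Subgroup.mem_zpowers v) (Subgroup.mem_zpowers z)) hu1
    have hnez₂w : Subgroup.zpowers z₂ ≠ Subgroup.zpowers w := by
      intro h
      have : w ∈ Subgroup.zpowers z₂ := by rw [h]; exact Subgroup.mem_zpowers w
      exact hvw (comm_of_mem_zpowers hz₂v.symm this)
    obtain ⟨a₂, ha₂, b₂, hb₂, hn₂, -, hrel⟩ := line_pt hp hK ha hb hz₂ hw hz₂w hnez₂w hupt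
    have ca₂v : Commute a₂ v := (comm_of_mem_zpowers hz₂v.symm ha₂).symm
    have cb₂z : Commute b₂ z := (comm_of_mem_zpowers hzw hb₂).symm
    have hb₂1 : b₂ ≠ 1 := by
      intro h
      rw [h, mul_one] at hn₂ hrel
      have c1 : Commute a₂ (v * z) := hrel
      have c2 : Commute a₂ z := by
        have e : z = v⁻¹ * (v * z) := by group
        rw [e]
        exact ca₂v.inv_right.mul_right c1
      exact hzz₂ (comm_of_comm_mem hp hK hz₂ ha₂ hn₂ c2.eq.symm)
    have ha₂1 : a₂ ≠ 1 := by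
      intro h
      rw [h, one_mul] at hn₂ hrel
      have c1 : Commute b₂ (v * z) := hrel
      have c2 : Commute b₂ v := by
        have e : v = (v * z) * z⁻¹ := by group
        rw [e]
        exact c1.mul_right cb₂z.inv_right
      exact hvw (comm_of_comm_mem hp hK hw hb₂ hn₂ c2.eq.symm)
    have hb₂pt : b₂ ∈ pts K := pt_of_mem hp hK hw hb₂ hb₂1
    have hvb₂ : v * b₂ ≠ b₂ * v := by
      intro h
      exact hvw (comm_of_comm_mem hp hK hw hb₂ hb₂1 h)
    have hb₂a₂ : b₂ * a₂ = a₂ * b₂ := (comm_zpowers hz₂w a₂ ha₂ b₂ hb₂).symm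
    exact core hp hK hKc ha hb hv hb₂pt hzv.symm cb₂z.eq ca₂v.eq.symm hb₂a₂ hvb₂ hrel

include hp hK hKc ha hb in
theorem main (hex : ∃ X ∈ K, ∃ Y ∈ K, X ≠ Y ∧ ∀ x ∈ X, ∀ y ∈ Y, x * y = y * x) :
    (∃ V ∈ K, (∀ W ∈ K, ∀ v ∈ V, ∀ w ∈ W, v * w = w * v) ∧ V ≤ Cfsg.pCore p G) ∧
      ¬ IsSimpleGroup G := by
  obtain ⟨r, hr, hrad⟩ := exists_radical hp hK hKc ha hb hex
  -- the normal closure of `r`
  have hNn : (Subgroup.normalClosure ({r} : Set G)).Normal := Subgroup.normalClosure_normal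
  have hrN : r ∈ Subgroup.normalClosure ({r} : Set G) :=
    Subgroup.subset_normalClosure (Set.mem_singleton r)
  have hT : ∀ y ∈ Group.conjugatesOfSet ({r} : Set G),
      y ∈ pts K ∧ ∀ t ∈ pts K, y * t = t * y := by
    intro y hy
    obtain ⟨b, hb', hby⟩ := Group.mem_conjugatesOfSet_iff.mp hy
    rw [Set.mem_singleton_iff] at hb'
    rw [hb'] at hby
    obtain ⟨g, rfl⟩ := isConj_iff.mp hby
    refine ⟨conj_pt hK hKc hr g, ?_⟩
    intro t ht
    have h1 := conj_pt hK hKc ht g⁻¹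
    rw [inv_inv] at h1
    have h2 := hrad _ h1
    calc g * r * g⁻¹ * t = g * (r * (g⁻¹ * t * g)) * g⁻¹ := by group
    _ = g * ((g⁻¹ * t * g) * r) * g⁻¹ := by rw [h2]
    _ = t * (g * r * g⁻¹) := by group
  have hTc : Group.conjugatesOfSet ({r} : Set G) ⊆
      Subgroup.centralizer (Group.conjugatesOfSet ({r} : Set G)) := by
    intro y hy
    rw [SetLike.mem_coe, Subgroup.mem_centralizer_iff]
    intro t ht
    exact ((hT y hy).2 t (hT t ht).1).symm
  have hNle : Subgroup.normalClosure ({r} : Set G) ≤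
      Subgroup.centralizer (Group.conjugatesOfSet ({r} : Set G)) := by
    rw [Subgroup.normalClosure]
    exact (Subgroup.closure_le _).mpr hTc
  have hNc : ∀ x ∈ Subgroup.normalClosure ({r} : Set G),
      ∀ y ∈ Subgroup.normalClosure ({r} : Set G), x * y = y * x := by
    intro x hx
    have h1 : Group.conjugatesOfSet ({r} : Set G) ⊆ Subgroup.centralizer ({x} : Set G) := by
      intro t ht
      rw [SetLike.mem_coe, Subgroup.mem_centralizer_iff]
      intro h hh
      rw [Set.mem_singleton_iff] at hh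
      subst hh
      exact ((Subgroup.mem_centralizer_iff.mp (hNle hx)) t ht).symm
    have h2 : Subgroup.normalClosure ({r} : Set G) ≤ Subgroup.centralizer ({x} : Set G) := by
      rw [Subgroup.normalClosure]
      exact (Subgroup.closure_le _).mpr h1
    intro y hy
    exact (Subgroup.mem_centralizer_iff.mp (h2 hy)) x (Set.mem_singleton x)
  have hNp : ∀ x ∈ Subgroup.normalClosure ({r} : Set G), x ^ p = 1 := by
    intro x hx
    have hx' : x ∈ Subgroup.closure (Group.conjugatesOfSet ({r} : Set G)) := hx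
    induction hx' using Subgroup.closure_induction with
    | mem y hy =>
      have := orderOf_pt hK (hT y hy).1
      rw [← this]; exact pow_orderOf_eq_one y
    | one => exact one_pow p
    | mul a b ha' hb' iha ihb =>
      have hab : Commute a b := hNc a ha' b hb'
      rw [hab.mul_pow, iha ha', ihb hb', one_mul]
    | inv a ha' iha => rw [inv_pow, iha ha', inv_one]
  have hNpg : IsPGroup p ↥(Subgroup.normalClosure ({r} : Set G)) := by
    intro g
    refine ⟨1, ?_⟩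
    rw [pow_one]
    exact Subtype.ext (hNp g.1 g.2)
  refine ⟨⟨Subgroup.zpowers r, hr.2, ?_, ?_⟩, ?_⟩
  · intro W hW v hv w hw
    obtain ⟨u, hu, rfl⟩ := exists_gen hp hK hW
    exact comm_zpowers (hrad u hu) v hv w hw
  · exact (Subgroup.zpowers_le.mpr hrN).trans (le_sSup ⟨hNn, hNpg⟩)
  · intro hs
    have hNtop : Subgroup.normalClosure ({r} : Set G) = ⊤ := by
      rcases hs.eq_bot_or_eq_top_of_normal _ hNn with h | h
      · exfalso
        rw [h, Subgroup.mem_bot] at hrN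
        exact hr.1 hrN
      · exact h
    have hcomm : ∀ x y : G, x * y = y * x := by
      intro x y
      exact hNc x (by rw [hNtop]; exact Subgroup.mem_top x) y
        (by rw [hNtop]; exact Subgroup.mem_top y)
    obtain ⟨X, hX, Y, hY, hXY, -⟩ := hex
    have htop : ∀ Z ∈ K, Z = ⊤ := by
      intro Z hZ
      have hZn : Z.Normal := by
        refine ⟨fun n hn g => ?_⟩
        rw [hcomm g n, mul_assoc, mul_inv_cancel, mul_one]
        exact hn
      rcases hs.eq_bot_or_eq_top_of_normal _ hZn with h | h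
      · exfalso
        have := hK Z hZ
        rw [h, Subgroup.card_bot] at this
        exact hp.one_lt.ne this
      · exact h
    exact hXY ((htop X hX).trans (htop Y hY).symm)

end main

end Cfsg.Agent.Helper2.CommGraph
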