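import Mathlib
import Cfsg.Prelude.Def_Balance
import Cfsg.Agent.Helper1.PRankTwo
import Cfsg.Agent.Lead.RankThreeCent
import Cfsg.Agent.Helper4.ClassSize
import Cfsg.Agent.Helper2.GenHyper
import Cfsg.Agent.Helper2.Signalizer1

set_option autoImplicit false

/-! Commuting graph of elementary abelian subgroups of a `p`-group of rank at least 3. -/

namespace Cfsg.Agent.Helper2.Conn2

open Cfsg.Agent.Helper1 Cfsg.Agent.Helper2

variable {P : Type*} [Group P] [Finite P] {p : ℕ} [hp : Fact p.Prime]

omit [Finite P] hp in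
theorem isMulCommutative_of_comm {E : Subgroup P} (h : ∀ a ∈ E, ∀ b ∈ E, a * b = b * a) :
    IsMulCommutative E := by
  constructor; constructor
  rintro ⟨a, ha⟩ ⟨b, hb⟩
  exact Subtype.ext (h a ha b hb)

omit [Finite P] hp in
theorem comm_of_elementary {E : Subgroup P} (hE : Cfsg.IsElementaryAbelian p E) :
    ∀ a ∈ E, ∀ b ∈ E, a * b = b * a := by
  intro a ha b hb
  have := hE.1.is_comm.comm ⟨a, ha⟩ ⟨b, hb⟩
  exact congrArg Subtype.val this

/-- A `p`-group of rank greater than 2 has a normal elementary abelian subgroup of order `p²`. -/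
theorem exists_normal_sq (hP : IsPGroup p P) (hrk : ¬ Cfsg.PRankLE p 2 P) :
    ∃ U : Subgroup P, U.Normal ∧ Cfsg.IsElementaryAbelian p U ∧ Nat.card U = p ^ 2 := by
  unfold Cfsg.PRankLE at hrk
  push_neg at hrk
  obtain ⟨E, hEc, hEe, hEcard⟩ := hrk
  by_cases hp2 : p = 2
  · subst hp2
    obtain ⟨k, hk⟩ := IsPGroup.iff_card.mp (hP.to_subgroup E)
    have hk3 : 3 ≤ k := by
      by_contra hlt
      have : k ≤ 2 := by omega
      have := Nat.pow_le_pow_right (show 0 < 2 by norm_num) this
      omega
    have hdvd : 2 ^ 3 ∣ Nat.card E := by rw [hk]; exact pow_dvd_pow 2 hk3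
    obtain ⟨K, hK⟩ := Sylow.exists_subgroup_card_pow_prime 2 hdvd
    have hcard8 : Nat.card (K.map E.subtype) = 8 := by
      rw [Subgroup.card_map_of_injective E.subtype_injective, hK]; norm_num
    have hexp : ∀ e ∈ K.map E.subtype, e ^ 2 = 1 := by
      rintro e ⟨x, -, rfl⟩
      exact hEe _ x.2
    obtain ⟨U, hUn, hUcard, hUe⟩ :=
      Cfsg.Agent.Lead.RankThreeCent.exists_normal_four hP (K.map E.subtype) hcard8 hexp
    refine ⟨U, hUn, ⟨isMulCommutative_of_comm (fun a ha b hb =>
      Cfsg.Agent.Lead.RankThreeCent.comm_of_exp_two hUe ha hb), hUe⟩, ?_⟩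
    rw [hUcard]; norm_num
  · have hex : ∃ A : Subgroup P, A.Normal ∧ IsMulCommutative A ∧ (∀ a ∈ A, a ^ p = 1) ∧
        Nat.card A = p ^ 3 := by
      by_contra hcon
      push_neg at hcon
      have := prank_le_two hp2 hP (fun A hAn hAc hAe => hcon A hAn hAc hAe) E hEc hEe
      omega
    obtain ⟨A, hAn, hAc, hAe, hAcard⟩ := hex
    obtain ⟨M, hMn, hMA, hMcard⟩ := exists_normal_le_card hP 1 2 A hAn (by rw [hAcard])
    exact ⟨M, hMn, isElementaryAbelian_of_le ⟨hAc, hAe⟩ hMA, hMcard⟩

/-- The centralizer of an element of a normal subgroup of order `p²` has index at most `p`. -/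
theorem index_centralizer_le (hP : IsPGroup p P) (U : Subgroup P) [hUn : U.Normal]
    (hU : Nat.card U = p ^ 2) (x : P) (hx : x ∈ U) :
    (Subgroup.centralizer ({x} : Set P)).index ≤ p := by
  by_cases hx1 : x = 1
  · have : Subgroup.centralizer ({x} : Set P) = ⊤ := by
      rw [eq_top_iff]; intro g _
      rw [Subgroup.mem_centralizer_singleton_iff, hx1, one_mul, mul_one]
    rw [this, Subgroup.index_top]; exact hp.out.one_lt.le
  · have hidx := Cfsg.Agent.Helper4.index_centralizer_eq_card_conj x
    -- the class lies in `U \ {1}`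
    have hle : Nat.card {y : P // IsConj x y} < p ^ 2 := by
      have hinj : Function.Injective (fun y : {y : P // IsConj x y} =>
          (⟨⟨y.1, by
            obtain ⟨g, hg⟩ := isConj_iff.mp y.2
            rw [← hg]; exact hUn.conj_mem x hx g⟩, by
            intro h
            have h' : y.1 = 1 := congrArg Subtype.val h
            obtain ⟨g, hg⟩ := isConj_iff.mp y.2
            rw [h'] at hg
            apply hx1
            have : x = g⁻¹ * (g * x * g⁻¹) * g := by group
            rw [this, hg]; group⟩ : {u : U // u ≠ 1})) := by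
        intro y₁ y₂ h
        apply Subtype.ext
        have := congrArg (fun z : {u : U // u ≠ 1} => ((z : U) : P)) h
        exact this
      have h1 := Nat.card_le_card_of_injective _ hinj
      have h2 : Nat.card {u : U // u ≠ 1} = Nat.card U - 1 := by
        classical
        haveI : Fintype U := Fintype.ofFinite U
        rw [Nat.card_eq_fintype_card, Nat.card_eq_fintype_card, Fintype.card_subtype_compl,
          Fintype.card_subtype_eq]
      rw [h2, hU] at h1
      have : 0 < p ^ 2 := by have := hp.out.pos; positivity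
      omega
    rw [← hidx] at hle
    -- the index is a power of `p`
    obtain ⟨j, hj⟩ := (hP.index (Subgroup.centralizer ({x} : Set P)))
    rw [hj] at hle ⊢
    have hj1 : j < 2 := (Nat.pow_lt_pow_iff_right hp.out.one_lt).mp hle
    calc p ^ j ≤ p ^ 1 := Nat.pow_le_pow_right hp.out.pos (by omega)
      _ = p := pow_one p

/-- Any subgroup meets the centralizer of a normal elementary abelian subgroup of order `p²` in a
subgroup of index at most `p`. -/
theorem card_le_mul_card_inf_centralizer (hP : IsPGroup p P) (U : Subgroup P) [hUn : U.Normal]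
    (hUe : Cfsg.IsElementaryAbelian p U) (hU : Nat.card U = p ^ 2) (E : Subgroup P) :
    Nat.card E ≤ p * Nat.card ↥(E ⊓ Subgroup.centralizer (U : Set P)) := by
  have hp1 := hp.out.one_lt
  have hUne : U ≠ ⊥ := by
    intro h
    rw [h, Subgroup.card_bot] at hU
    have : 1 < p ^ 2 := Nat.one_lt_pow (by norm_num) hp1
    omega
  obtain ⟨z, hzU, hz1, hzc⟩ := Cfsg.Agent.Helper5.exists_ne_one_mem_center_of_normal hP U hUne
  have hzcard : Nat.card (Subgroup.zpowers z) = p := by
    rw [Nat.card_zpowers]; exact orderOf_eq_prime (hUe.2 z hzU) hz1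
  obtain ⟨x, hxU, hxz⟩ : ∃ x ∈ U, x ∉ Subgroup.zpowers z := by
    by_contra hcon
    push_neg at hcon
    have hle : U ≤ Subgroup.zpowers z := hcon
    have := Subgroup.card_le_of_le hle
    rw [hU, hzcard] at this
    have : p * 1 < p * p := Nat.mul_lt_mul_of_pos_left hp1 hp.out.pos
    nlinarith
  have hYU : Subgroup.zpowers z ⊔ Subgroup.zpowers x ≤ U :=
    sup_le (Subgroup.zpowers_le.mpr hzU) (Subgroup.zpowers_le.mpr hxU)
  have hY : Subgroup.zpowers z ⊔ Subgroup.zpowers x = U := by
    apply Subgroup.eq_of_le_of_card_ge hYU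
    have hlt : Subgroup.zpowers z < Subgroup.zpowers z ⊔ Subgroup.zpowers x := by
      refine lt_of_le_of_ne le_sup_left (fun h => hxz ?_)
      rw [h]
      exact Subgroup.mem_sup_right (Subgroup.mem_zpowers x)
    have h1 := card_lt_card_of_lt hlt
    rw [hzcard] at h1
    have h2 : Nat.card ↥(Subgroup.zpowers z ⊔ Subgroup.zpowers x) ∣ p ^ 2 := by
      rw [← hU]; exact Subgroup.card_dvd_of_le hYU
    obtain ⟨m, hm, hm'⟩ := (Nat.dvd_prime_pow hp.out).mp h2
    rw [hm'] at h1 ⊢
    have : 1 < m := by
      by_contra hcon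
      have : m ≤ 1 := by omega
      have := Nat.pow_le_pow_right hp.out.pos this
      rw [pow_one] at this
      omega
    rw [hU]
    exact Nat.pow_le_pow_right hp.out.pos (by omega)
  have hle : E ⊓ Subgroup.centralizer ({x} : Set P) ≤ E ⊓ Subgroup.centralizer (U : Set P) := by
    apply inf_le_inf_left
    intro g hg
    rw [← hY]
    apply inf_centralizer_le_centralizer_sup
    refine Subgroup.mem_inf.mpr ⟨?_, ?_⟩
    · rw [centralizer_zpowers_eq, Subgroup.mem_centralizer_singleton_iff]
      exact (hzc g)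
    · rw [centralizer_zpowers_eq]; exact hg
  have h1 := relIndex_mul_card_of_le (inf_le_left :
    E ⊓ Subgroup.centralizer ({x} : Set P) ≤ E)
  have h2 : (E ⊓ Subgroup.centralizer ({x} : Set P)).relIndex E ≤ p := by
    rw [inf_comm, Subgroup.inf_relIndex_right]
    have h3 := index_centralizer_le hP U hU x hxU
    have h4 : (Subgroup.centralizer ({x} : Set P)).relIndex E ≤
        (Subgroup.centralizer ({x} : Set P)).relIndex ⊤ :=
      Subgroup.relIndex_le_of_le_right le_top (by
        rw [Subgroup.relIndex_top_right]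
        exact Subgroup.index_ne_zero_of_finite)
    rw [Subgroup.relIndex_top_right] at h4
    exact h4.trans h3
  calc Nat.card E = (E ⊓ Subgroup.centralizer ({x} : Set P)).relIndex E *
        Nat.card ↥(E ⊓ Subgroup.centralizer ({x} : Set P)) := h1.symm
    _ ≤ p * Nat.card ↥(E ⊓ Subgroup.centralizer (U : Set P)) :=
        Nat.mul_le_mul h2 (Subgroup.card_le_of_le hle)

end Cfsg.Agent.Helper2.Conn2
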