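import Mathlib
import Cfsg.Agent.Helper2.Conn2

set_option autoImplicit false

/-! Commuting graph criterion in `p`-groups of rank at least 3. -/

namespace Cfsg.Agent.Helper2.Conn2

open Cfsg.Agent.Helper1 Cfsg.Agent.Helper2

variable {P : Type*} [Group P] [Finite P] {p : ℕ} [hp : Fact p.Prime]

omit [Finite P] hp in
/-- The product of two commuting elementary abelian subgroups is elementary abelian. -/
theorem sup_elementary {A B : Subgroup P} (hA : Cfsg.IsElementaryAbelian p A)
    (hB : Cfsg.IsElementaryAbelian p B) (hAB : ∀ a ∈ A, ∀ b ∈ B, a * b = b * a) :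
    Cfsg.IsElementaryAbelian p (A ⊔ B) := by
  have hBn : B ≤ Subgroup.normalizer (A : Set P) := by
    apply le_normalizer_of_conj_mem
    intro b hb a ha
    have : b * a * b⁻¹ = a := by rw [← hAB a ha b hb]; group
    rwa [this]
  have hcA := comm_of_elementary hA
  have hcB := comm_of_elementary hB
  have key : ∀ x ∈ A ⊔ B, ∃ a ∈ A, ∃ b ∈ B, x = a * b := fun x hx =>
    mem_sup_of_le_normalizer hBn hx
  refine ⟨isMulCommutative_of_comm ?_, ?_⟩
  · intro x hx y hy
    obtain ⟨a, ha, b, hb, rfl⟩ := key x hx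
    obtain ⟨a', ha', b', hb', rfl⟩ := key y hy
    calc a * b * (a' * b') = a * (b * a') * b' := by group
      _ = a * (a' * b) * b' := by rw [hAB a' ha' b hb]
      _ = (a * a') * (b * b') := by group
      _ = (a' * a) * (b' * b) := by rw [hcA a ha a' ha', hcB b hb b' hb']
      _ = a' * (a * b') * b := by group
      _ = a' * (b' * a) * b := by rw [hAB a ha b' hb']
      _ = a' * b' * (a * b) := by group
  · intro x hx
    obtain ⟨a, ha, b, hb, rfl⟩ := key x hx
    rw [(show Commute a b from hAB a ha b hb).mul_pow, hA.2 a ha, hB.2 b hb, one_mul]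

omit [Finite P] hp in
theorem not_pRankLE_of_le {C W : Subgroup P} (hWC : W ≤ C) (hW : Cfsg.IsElementaryAbelian p W)
    (hcard : p ^ 2 < Nat.card W) : ¬ Cfsg.PRankLE p 2 ↥C := by
  intro h
  have h1 := h (W.subgroupOf C) (isMulCommutative_of_comm (by
    intro a ha b hb
    rw [Subgroup.mem_subgroupOf] at ha hb
    apply Subtype.ext
    exact comm_of_elementary hW _ ha _ hb)) (by
    intro a ha
    rw [Subgroup.mem_subgroupOf] at ha
    apply Subtype.ext
    rw [Subgroup.coe_pow, Subgroup.coe_one]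
    exact hW.2 _ ha)
  rw [card_subgroupOf_of_le hWC] at h1
  omega

omit [Finite P] hp in
theorem le_centralizer_of_comm {A B : Subgroup P} (h : ∀ a ∈ A, ∀ b ∈ B, a * b = b * a) :
    B ≤ Subgroup.centralizer (A : Set P) := by
  intro b hb
  rw [Subgroup.mem_centralizer_iff]
  intro a ha
  exact h a ha b hb

/-- The relation of the commuting graph. -/
abbrev Rel (p : ℕ) (A B : Subgroup P) : Prop :=
  Cfsg.IsElementaryAbelian p A ∧ p ^ 2 ≤ Nat.card ↥A ∧ Cfsg.IsElementaryAbelian p B ∧
    p ^ 2 ≤ Nat.card ↥B ∧ ∀ a ∈ A, ∀ b ∈ B, a * b = b * a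

/-- One step along the graph does not lose rank 3 of the centralizer. -/
theorem step {X X₁ : Subgroup P} (h : Rel p X X₁)
    (ih : ¬ Cfsg.PRankLE p 2 ↥(Subgroup.centralizer (X₁ : Set P))) :
    ¬ Cfsg.PRankLE p 2 ↥(Subgroup.centralizer (X : Set P)) := by
  obtain ⟨hX, hXc, hX₁, hX₁c, hcomm⟩ := h
  have hW := sup_elementary hX hX₁ hcomm
  have hWC : X ⊔ X₁ ≤ Subgroup.centralizer (X : Set P) :=
    sup_le (le_centralizer_of_comm (comm_of_elementary hX)) (le_centralizer_of_comm hcomm)
  by_cases hbig : p ^ 2 < Nat.card ↥(X ⊔ X₁)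
  · exact not_pRankLE_of_le hWC hW hbig
  · have h1 : X = X ⊔ X₁ := by
      apply Subgroup.eq_of_le_of_card_ge le_sup_left
      omega
    have h2 : X₁ = X ⊔ X₁ := by
      apply Subgroup.eq_of_le_of_card_ge le_sup_right
      omega
    have : X = X₁ := h1.trans h2.symm
    rw [this]; exact ih

/-- The centralizer of a normal elementary abelian subgroup of order `p²` has rank at least 3. -/
theorem base (hP : IsPGroup p P) (hrk : ¬ Cfsg.PRankLE p 2 P) (U : Subgroup P) [hUn : U.Normal]
    (hUe : Cfsg.IsElementaryAbelian p U) (hU : Nat.card U = p ^ 2) :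
    ¬ Cfsg.PRankLE p 2 ↥(Subgroup.centralizer (U : Set P)) := by
  have hrk' := hrk
  unfold Cfsg.PRankLE at hrk'
  push_neg at hrk'
  obtain ⟨E, hEc, hEe, hEcard⟩ := hrk'
  have hE : Cfsg.IsElementaryAbelian p E := ⟨hEc, hEe⟩
  have h1 := card_le_mul_card_inf_centralizer hP U hUe hU E
  have hE₂ : Cfsg.IsElementaryAbelian p (E ⊓ Subgroup.centralizer (U : Set P)) :=
    isElementaryAbelian_of_le hE inf_le_left
  have hE₂c : p ^ 2 ≤ Nat.card ↥(E ⊓ Subgroup.centralizer (U : Set P)) := by
    obtain ⟨k, hk⟩ := IsPGroup.iff_card.mp (hP.to_subgroup (E ⊓ Subgroup.centralizer (U : Set P)))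
    rw [hk] at h1 ⊢
    apply Nat.pow_le_pow_right hp.out.pos
    by_contra hcon
    have hk1 : k ≤ 1 := by omega
    have h2 : p * p ^ k ≤ p * p ^ 1 := Nat.mul_le_mul_left p (Nat.pow_le_pow_right hp.out.pos hk1)
    have h3 : p * p ^ 1 = p ^ 2 := by ring
    omega
  have hcomm : ∀ a ∈ E ⊓ Subgroup.centralizer (U : Set P), ∀ b ∈ U, a * b = b * a := by
    intro a ha b hb
    exact (Subgroup.mem_centralizer_iff.mp (Subgroup.mem_inf.mp ha).2 b hb).symm
  have hW := sup_elementary hE₂ hUe hcomm
  have hWC : E ⊓ Subgroup.centralizer (U : Set P) ⊔ U ≤ Subgroup.centralizer (U : Set P) :=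
    sup_le inf_le_right (le_centralizer_of_comm (comm_of_elementary hUe))
  by_cases hbig : p ^ 2 < Nat.card ↥(E ⊓ Subgroup.centralizer (U : Set P) ⊔ U)
  · exact not_pRankLE_of_le hWC hW hbig
  · have h2 : U = E ⊓ Subgroup.centralizer (U : Set P) ⊔ U := by
      apply Subgroup.eq_of_le_of_card_ge le_sup_right
      omega
    have h3 : E ⊓ Subgroup.centralizer (U : Set P) ≤ U := le_sup_left.trans h2.ge
    have h4 : E ⊓ Subgroup.centralizer (U : Set P) = U := by
      apply Subgroup.eq_of_le_of_card_ge h3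
      omega
    have hUE : U ≤ E := h4.ge.trans inf_le_left
    have hEC : E ≤ Subgroup.centralizer (U : Set P) := by
      apply le_centralizer_of_comm
      intro a ha b hb
      exact comm_of_elementary hE a (hUE ha) b hb
    exact not_pRankLE_of_le hEC hE hEcard

theorem sq_le_card_inf (hP : IsPGroup p P) (U : Subgroup P) [hUn : U.Normal]
    (hUe : Cfsg.IsElementaryAbelian p U) (hU : Nat.card U = p ^ 2) (E : Subgroup P)
    (hEcard : p ^ 2 < Nat.card E) :
    p ^ 2 ≤ Nat.card ↥(E ⊓ Subgroup.centralizer (U : Set P)) := by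
  have h1 := card_le_mul_card_inf_centralizer hP U hUe hU E
  obtain ⟨k, hk⟩ := IsPGroup.iff_card.mp (hP.to_subgroup (E ⊓ Subgroup.centralizer (U : Set P)))
  rw [hk] at h1 ⊢
  apply Nat.pow_le_pow_right hp.out.pos
  by_contra hcon
  have hk1 : k ≤ 1 := by omega
  have h2 : p * p ^ k ≤ p * p ^ 1 := Nat.mul_le_mul_left p (Nat.pow_le_pow_right hp.out.pos hk1)
  have h3 : p * p ^ 1 = p ^ 2 := by ring
  omega

theorem main (hP : IsPGroup p P) (hrk : ¬ Cfsg.PRankLE p 2 P) :
    ∃ U : Subgroup P, U.Normal ∧ Cfsg.IsElementaryAbelian p U ∧ Nat.card ↥U = p ^ 2 ∧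
      ∀ X : Subgroup P, Cfsg.IsElementaryAbelian p X → p ^ 2 ≤ Nat.card ↥X →
        (Relation.ReflTransGen (Rel p) X U ↔
          ¬ Cfsg.PRankLE p 2 ↥(Subgroup.centralizer (X : Set P))) := by
  obtain ⟨U, hUn, hUe, hU⟩ := exists_normal_sq hP hrk
  refine ⟨U, hUn, hUe, hU, ?_⟩
  intro X hX hXc
  constructor
  · intro h
    clear hX hXc
    induction h using Relation.ReflTransGen.head_induction_on with
    | refl => exact base hP hrk U hUe hU
    | head h' _ ih => exact step h' ih
  · intro h
    unfold Cfsg.PRankLE at h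
    push_neg at h
    obtain ⟨A', hA'c, hA'e, hA'card⟩ := h
    have hE : Cfsg.IsElementaryAbelian p
        (A'.map (Subgroup.centralizer (X : Set P)).subtype) := by
      refine ⟨isMulCommutative_of_comm ?_, ?_⟩
      · rintro _ ⟨a, ha, rfl⟩ _ ⟨b, hb, rfl⟩
        have := hA'c.is_comm.comm ⟨a, ha⟩ ⟨b, hb⟩
        have h2 := congrArg (fun z : ↥A' => ((z : ↥(Subgroup.centralizer (X : Set P))) : P)) this
        exact h2
      · rintro _ ⟨a, ha, rfl⟩
        have := hA'e a ha
        have h2 := congrArg (fun z : ↥(Subgroup.centralizer (X : Set P)) => (z : P)) this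
        simpa using h2
    have hEcard : p ^ 2 < Nat.card ↥(A'.map (Subgroup.centralizer (X : Set P)).subtype) := by
      rw [Subgroup.card_map_of_injective (Subgroup.subtype_injective _)]; exact hA'card
    have hEC : A'.map (Subgroup.centralizer (X : Set P)).subtype ≤
        Subgroup.centralizer (X : Set P) := Subgroup.map_subtype_le _
    have hE₂ := isElementaryAbelian_of_le hE
      (inf_le_left : A'.map (Subgroup.centralizer (X : Set P)).subtype ⊓
        Subgroup.centralizer (U : Set P) ≤ _)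
    have hE₂c := sq_le_card_inf hP U hUe hU _ hEcard
    have hXE : Rel p X (A'.map (Subgroup.centralizer (X : Set P)).subtype) :=
      ⟨hX, hXc, hE, hEcard.le, fun a ha b hb =>
        (Subgroup.mem_centralizer_iff.mp (hEC hb) a ha)⟩
    have hEE₂ : Rel p (A'.map (Subgroup.centralizer (X : Set P)).subtype)
        (A'.map (Subgroup.centralizer (X : Set P)).subtype ⊓
          Subgroup.centralizer (U : Set P)) :=
      ⟨hE, hEcard.le, hE₂, hE₂c, fun a ha b hb =>
        comm_of_elementary hE a ha b (Subgroup.mem_inf.mp hb).1⟩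
    have hE₂U : Rel p (A'.map (Subgroup.centralizer (X : Set P)).subtype ⊓
        Subgroup.centralizer (U : Set P)) U :=
      ⟨hE₂, hE₂c, hUe, hU.ge, fun a ha b hb =>
        (Subgroup.mem_centralizer_iff.mp (Subgroup.mem_inf.mp ha).2 b hb).symm⟩
    exact (Relation.ReflTransGen.single hXE).trans
      ((Relation.ReflTransGen.single hEE₂).trans (Relation.ReflTransGen.single hE₂U))

end Cfsg.Agent.Helper2.Conn2
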