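import Mathlib

set_option autoImplicit false
set_option linter.unusedVariables false

/-! S4432 (helper6's project), piece ABS (helper2): in a semiprimary ring, a two-sided ideal `L`
such that every idempotent `g` with `g L ⊆ J` annihilates `L` contains a central idempotent `f`
with `(1 - f) L = 0`. -/

namespace Cfsg.Agent.Helper6.Cov

/-- (SS, local copy) a two-sided ideal of a semisimple ring is generated by a central idempotent. -/
theorem h2_exists_central_idem_of_twoSided {S : Type*} [Ring S] [IsSemisimpleRing S]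
    (I : Ideal S) [I.IsTwoSided] :
    ∃ f : S, IsIdempotentElem f ∧ (∀ s : S, Commute f s) ∧ f ∈ I ∧ ∀ a ∈ I, a * f = a := by
  obtain ⟨I', hI'⟩ := exists_isCompl I
  have h1 : (1 : S) ∈ I ⊔ I' := by rw [hI'.sup_eq_top]; exact Submodule.mem_top
  obtain ⟨f, hf, f', hf', hff'⟩ := Submodule.mem_sup.mp h1
  -- right identity on `I`
  have hR : ∀ a ∈ I, a * f = a := by
    intro a ha
    have h2 : a * f' ∈ I ⊓ I' := by
      refine ⟨?_, I'.mul_mem_left a hf'⟩
      have e : a * f' = a - a * f := by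
        have h := congrArg (fun t => a * t) hff'
        simp only [mul_add, mul_one] at h
        exact eq_sub_of_add_eq' h
      rw [e]
      exact I.sub_mem ha (I.mul_mem_left a hf)
    rw [hI'.inf_eq_bot, Submodule.mem_bot] at h2
    have e : a = a * f + a * f' := by rw [← mul_add, hff', mul_one]
    rw [h2, add_zero] at e
    exact e.symm
  -- left identity on `I`
  have hL : ∀ a ∈ I, f * a = a := by
    intro a ha
    have hx : a - f * a ∈ Ring.jacobson S := by
      rw [← Ideal.jacobson_bot, Ideal.mem_jacobson_iff]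
      intro y
      refine ⟨1 - y * (a - f * a), ?_⟩
      have hay : ∀ y : S, (a * y) * f = a * y := fun y => hR _ (I.mul_mem_right y ha)
      have hzero : (a - f * a) * y * (a - f * a) = 0 := by
        have e1 : (a - f * a) * y * (a - f * a)
            = (1 - f) * ((a * y) * a - (a * y) * f * a) := by noncomm_ring
        rw [e1, hay y, sub_self, mul_zero]
      have e2 : (1 - y * (a - f * a)) * y * (a - f * a) + (1 - y * (a - f * a)) - 1
          = - (y * ((a - f * a) * y * (a - f * a))) := by noncomm_ring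
      rw [e2, hzero, mul_zero, neg_zero]
      exact Submodule.zero_mem _
    rw [IsSemisimpleRing.jacobson_eq_bot, Submodule.mem_bot] at hx
    exact (sub_eq_zero.mp hx).symm
  refine ⟨f, hR f hf, ?_, hf, hR⟩
  intro s
  show f * s = s * f
  have e1 : f * s = f * s * f := (hR _ (I.mul_mem_right s hf)).symm
  have e2 : s * f = f * (s * f) := (hL _ (I.mul_mem_left s hf)).symm
  rw [e1, e2, mul_assoc]

/-- **ABS**. -/
theorem exists_central_idem_mem {A : Type*} [Ring A] [IsSemiprimaryRing A]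
    (L : Ideal A) [L.IsTwoSided]
    (H : ∀ g : A, IsIdempotentElem g → (∀ l ∈ L, g * l ∈ Ring.jacobson A) →
      (∀ l ∈ L, g * l = 0) ∧ (∀ l ∈ L, l * g = 0)) :
    ∃ f : A, IsIdempotentElem f ∧ (∀ a : A, Commute f a) ∧ f ∈ L ∧ ∀ l ∈ L, (1 - f) * l = 0 := by
  have hπs : Function.Surjective (Ideal.Quotient.mk (Ring.jacobson A)) :=
    Ideal.Quotient.mk_surjective
  have hmem : ∀ y, y ∈ L.map (Ideal.Quotient.mk (Ring.jacobson A)) ↔
      ∃ x ∈ L, Ideal.Quotient.mk (Ring.jacobson A) x = y :=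
    fun y => Ideal.mem_map_iff_of_surjective _ hπs
  have htwo : (L.map (Ideal.Quotient.mk (Ring.jacobson A))).IsTwoSided := ⟨fun {a} b ha => by
    obtain ⟨x, hx, rfl⟩ := (hmem a).mp ha
    obtain ⟨y, rfl⟩ := hπs b
    rw [← map_mul]
    exact (hmem _).mpr ⟨x * y, L.mul_mem_right y hx, rfl⟩⟩
  obtain ⟨fb, hfb_idem, hfb_c, hfb_mem, hfb_R⟩ :=
    h2_exists_central_idem_of_twoSided (L.map (Ideal.Quotient.mk (Ring.jacobson A)))
  obtain ⟨n, hn⟩ := IsSemiprimaryRing.isNilpotent (R := A)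
  have hker : ∀ x, Ideal.Quotient.mk (Ring.jacobson A) x = 0 ↔ x ∈ Ring.jacobson A :=
    fun x => Ideal.Quotient.eq_zero_iff_mem
  have hnil : ∀ x ∈ RingHom.ker (Ideal.Quotient.mk (Ring.jacobson A)), IsNilpotent x := by
    intro x hx
    rw [RingHom.mem_ker, hker] at hx
    refine ⟨n, ?_⟩
    have h1 : x ^ n ∈ Ring.jacobson A ^ n := Submodule.pow_mem_pow _ hx n
    rw [hn] at h1
    exact h1
  obtain ⟨f, hf_idem, hf_π⟩ := exists_isIdempotentElem_eq_of_ker_isNilpotent
    (Ideal.Quotient.mk (Ring.jacobson A)) hnil fb (by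
      obtain ⟨x, hx⟩ := hπs fb
      exact ⟨x, hx⟩) hfb_idem
  -- `f = l₁ + j₁`
  obtain ⟨l₁, hl₁, hl₁π⟩ := (hmem fb).mp hfb_mem
  have hj₁ : f - l₁ ∈ Ring.jacobson A := by
    rw [← hker, map_sub, hf_π, hl₁π, sub_self]
  -- `f ∈ L ⊔ J ^ k`
  obtain ⟨j₁, hj₁def⟩ : ∃ j₁ : A, j₁ = f - l₁ := ⟨_, rfl⟩
  have hj₁' : j₁ ∈ Ring.jacobson A := hj₁def ▸ hj₁
  have hf₁ : l₁ + j₁ = f := by rw [hj₁def]; abel
  have hk : ∀ k : ℕ, f ∈ L ⊔ Ring.jacobson A ^ (k + 1) := by
    intro k
    induction k with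
    | zero =>
      have h0 : Ring.jacobson A ^ (0 + 1) = Ring.jacobson A := by
        rw [Nat.zero_add]; exact Submodule.pow_one _
      rw [h0]
      exact Submodule.mem_sup.mpr ⟨l₁, hl₁, j₁, hj₁', hf₁⟩
    | succ k ih =>
      obtain ⟨l, hl, j, hj, hlj⟩ := Submodule.mem_sup.mp ih
      have e : (l * l₁ + l * j₁ + j * l₁) + j * j₁ = f := by
        have h2 : (l * l₁ + l * j₁ + j * l₁) + j * j₁ = (l + j) * (l₁ + j₁) := by
          noncomm_ring
        rw [h2, hlj, hf₁, hf_idem.eq]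
      refine Submodule.mem_sup.mpr ⟨_, ?_, _, ?_, e⟩
      · exact L.add_mem (L.add_mem (L.mul_mem_left l hl₁) (L.mul_mem_right _ hl))
          (L.mul_mem_left j hl₁)
      · rw [Submodule.pow_succ (Ring.jacobson A)]
        exact Submodule.mul_mem_mul hj hj₁'
  have hfL : f ∈ L := by
    have h1 := hk n
    rw [Submodule.pow_succ (Ring.jacobson A), hn] at h1
    have h2 : (0 : Ideal A) * Ring.jacobson A = ⊥ := by
      rw [Submodule.zero_eq_bot, Submodule.bot_mul]
    rw [h2, sup_bot_eq] at h1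
    exact h1
  -- `g = 1 - f`
  have hg : ∀ l ∈ L, (1 - f) * l ∈ Ring.jacobson A := by
    intro l hl
    rw [← hker, map_mul, map_sub, map_one, hf_π]
    have hlb : Ideal.Quotient.mk (Ring.jacobson A) l ∈
        L.map (Ideal.Quotient.mk (Ring.jacobson A)) := (hmem _).mpr ⟨l, hl, rfl⟩
    have h1 := hfb_R _ hlb
    have h2 := (hfb_c (Ideal.Quotient.mk (Ring.jacobson A) l)).eq
    rw [sub_mul, one_mul, h2, h1, sub_self]
  obtain ⟨hgl, hlg⟩ := H (1 - f) hf_idem.one_sub hg
  refine ⟨f, hf_idem, ?_, hfL, hgl⟩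
  intro a
  show f * a = a * f
  have e1 : (1 - f) * (a * f) = 0 := hgl _ (L.mul_mem_left a hfL)
  have e2 : (f * a) * (1 - f) = 0 := hlg _ (L.mul_mem_right a hfL)
  have e3 : a * f = f * a * f := by
    have : (1 - f) * (a * f) = a * f - f * a * f := by noncomm_ring
    rw [this] at e1
    exact sub_eq_zero.mp e1
  have e4 : f * a = f * a * f := by
    have : (f * a) * (1 - f) = f * a - f * a * f := by noncomm_ring
    rw [this] at e2
    exact sub_eq_zero.mp e2
  rw [e4, ← e3]

end Cfsg.Agent.Helper6.Cov
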