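import Mathlib
import Cfsg.Agent.Helper2.ThompsonTransfer2
import Cfsg.Agent.Lead.SylowLemmas

/-!
# Groups with an involution whose centralizer is dihedral of order 8: the group theory
-/

set_option autoImplicit false
set_option linter.style.haveILetI false

namespace Cfsg.Agent.Helper2.D8cA

open DihedralGroup

theorem center_d8 : ∀ x : DihedralGroup 4,
    (∀ y : DihedralGroup 4, x * y = y * x) → x = 1 ∨ x = r 2 := by decide

theorem conj_d8 : (sr 0 * r 1 * (sr 0)⁻¹ : DihedralGroup 4) = (r 1)⁻¹ := by decide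

theorem r_two_eq : (r 2 : DihedralGroup 4) = (r 1) ^ 2 := by decide

theorem invol_in_rot : ∀ j : ℕ, j < 4 → ((r 1 : DihedralGroup 4) ^ j) ^ 2 = 1 →
    (r 1 : DihedralGroup 4) ^ j ≠ 1 → j = 2 := by decide

variable {G : Type*} [Group G]

/-- the central involution is the square of the rotation -/
theorem rot_sq (t : G) (ht : orderOf t = 2)
    (e : Subgroup.centralizer ({t} : Set G) ≃* DihedralGroup 4) :
    ((e.symm (r 1) : Subgroup.centralizer ({t} : Set G)) : G) ^ 2 = t := by
  have htD : t ∈ Subgroup.centralizer ({t} : Set G) := by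
    rw [Subgroup.mem_centralizer_iff]
    intro h hh
    rw [Set.mem_singleton_iff.mp hh]
  have hcent : ∀ y : DihedralGroup 4, e ⟨t, htD⟩ * y = y * e ⟨t, htD⟩ := by
    intro y
    obtain ⟨y', rfl⟩ := e.surjective y
    rw [← map_mul, ← map_mul]
    congr 1
    apply Subtype.ext
    have := (Subgroup.mem_centralizer_iff.mp y'.2) t (Set.mem_singleton t)
    simp only [Subgroup.coe_mul]
    exact this
  have hne : e ⟨t, htD⟩ ≠ 1 := by
    intro h
    have h1 : (⟨t, htD⟩ : Subgroup.centralizer ({t} : Set G)) = 1 := by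
      apply e.injective; rw [h, map_one]
    have h2 : t = 1 := congrArg Subtype.val h1
    rw [h2, orderOf_one] at ht
    omega
  rcases center_d8 _ hcent with h | h
  · exact absurd h hne
  · rw [r_two_eq] at h
    have h1 := congrArg e.symm h
    rw [e.symm_apply_apply, map_pow] at h1
    have h2 := congrArg Subtype.val h1
    simp only [Subgroup.coe_pow] at h2
    exact h2.symm

theorem card_cent (t : G)
    (e : Subgroup.centralizer ({t} : Set G) ≃* DihedralGroup 4) :
    Nat.card (Subgroup.centralizer ({t} : Set G)) = 8 := by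
  rw [Nat.card_congr e.toEquiv, Nat.card_eq_fintype_card, DihedralGroup.card]

/-- the centralizer is a Sylow 2-subgroup -/
theorem exists_sylow [Finite G] (t : G) (ht : orderOf t = 2)
    (e : Subgroup.centralizer ({t} : Set G) ≃* DihedralGroup 4) :
    ∃ P : Sylow 2 G, (P : Subgroup G) = Subgroup.centralizer ({t} : Set G) := by
  classical
  haveI : Fact (Nat.Prime 2) := ⟨Nat.prime_two⟩
  set D := Subgroup.centralizer ({t} : Set G) with hD
  have hcardD : Nat.card D = 8 := card_cent t e
  have hDp : IsPGroup 2 D := IsPGroup.of_card (n := 3) (by rw [hcardD]; norm_num)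
  obtain ⟨P, hDP⟩ := hDp.exists_le_sylow
  refine ⟨P, le_antisymm ?_ hDP⟩
  have htD : t ∈ D := by
    rw [hD, Subgroup.mem_centralizer_iff]
    intro h hh
    rw [Set.mem_singleton_iff.mp hh]
  have htP : t ∈ (P : Subgroup G) := hDP htD
  haveI : Nontrivial (P : Subgroup G) := by
    refine ⟨⟨⟨t, htP⟩, 1, ?_⟩⟩
    intro h
    have h2 : t = 1 := congrArg Subtype.val h
    rw [h2, orderOf_one] at ht
    omega
  haveI : Nontrivial (Subgroup.center (P : Subgroup G)) := P.2.center_nontrivial
  have hcp : IsPGroup 2 (Subgroup.center (P : Subgroup G)) := P.2.to_subgroup _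
  have h2dvd : 2 ∣ Nat.card (Subgroup.center (P : Subgroup G)) := by
    obtain ⟨k, hk⟩ := IsPGroup.iff_card.mp hcp
    rw [hk]
    rcases Nat.eq_zero_or_pos k with h0 | h0
    · exfalso
      rw [h0, pow_zero] at hk
      have := (Nat.card_eq_one_iff_unique.mp hk).1
      exact not_subsingleton _ this
    · exact dvd_pow_self 2 h0.ne'
  obtain ⟨z, hz⟩ := exists_prime_orderOf_dvd_card' (G := Subgroup.center (P : Subgroup G)) 2 h2dvd
  -- z as an element of G
  set zG : G := ((z : (P : Subgroup G)) : G) with hzG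
  have hzo : orderOf zG = 2 := by
    rw [hzG, Subgroup.orderOf_coe, Subgroup.orderOf_coe]; exact hz
  have hzcomm : ∀ p ∈ (P : Subgroup G), p * zG = zG * p := by
    intro p hp
    have h1 := (Subgroup.mem_center_iff.mp z.2) ⟨p, hp⟩
    have h2 := congrArg Subtype.val h1
    simp only [Subgroup.coe_mul] at h2
    exact h2
  have hzD : zG ∈ D := by
    rw [hD, Subgroup.mem_centralizer_iff]
    intro h hh
    rw [Set.mem_singleton_iff.mp hh]
    exact hzcomm t htP
  have hcent : ∀ y : DihedralGroup 4, e ⟨zG, hzD⟩ * y = y * e ⟨zG, hzD⟩ := by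
    intro y
    obtain ⟨y', rfl⟩ := e.surjective y
    rw [← map_mul, ← map_mul]
    congr 1
    apply Subtype.ext
    simp only [Subgroup.coe_mul]
    exact (hzcomm y' (hDP y'.2)).symm
  have hne : e ⟨zG, hzD⟩ ≠ 1 := by
    intro h
    have h1 : (⟨zG, hzD⟩ : D) = 1 := by
      apply e.injective; rw [h, map_one]
    have h2 : zG = 1 := congrArg Subtype.val h1
    rw [h2, orderOf_one] at hzo
    omega
  have hzt : zG = t := by
    rcases center_d8 _ hcent with h | h
    · exact absurd h hne
    · rw [r_two_eq] at h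
      have h1 := congrArg e.symm h
      rw [e.symm_apply_apply, map_pow] at h1
      have h2 := congrArg Subtype.val h1
      simp only [Subgroup.coe_pow] at h2
      rw [h2]
      exact rot_sq t ht e
  intro p hp
  rw [hD, Subgroup.mem_centralizer_iff]
  intro h hh
  rw [Set.mem_singleton_iff.mp hh, ← hzt]
  exact (hzcomm p hp).symm

theorem card_eq [Finite G] (t : G) (ht : orderOf t = 2)
    (e : Subgroup.centralizer ({t} : Set G) ≃* DihedralGroup 4) :
    ∃ k : ℕ, Odd k ∧ Nat.card G = 8 * k := by
  haveI : Fact (Nat.Prime 2) := ⟨Nat.prime_two⟩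
  obtain ⟨P, hP⟩ := exists_sylow t ht e
  refine ⟨(P : Subgroup G).index, ?_, ?_⟩
  · rw [← Nat.not_even_iff_odd, even_iff_two_dvd]
    exact P.not_dvd_index
  · rw [← card_cent t e, ← hP, (P : Subgroup G).card_mul_index]

/-- in a perfect group all involutions are conjugate to `t` -/
theorem invol_conj [Finite G] (hperf : commutator G = ⊤) (t : G) (ht : orderOf t = 2)
    (e : Subgroup.centralizer ({t} : Set G) ≃* DihedralGroup 4) (u : G) (hu : orderOf u = 2) :
    IsConj t u := by
  classical
  haveI : Fact (Nat.Prime 2) := ⟨Nat.prime_two⟩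
  obtain ⟨P, hP⟩ := exists_sylow t ht e
  set D := Subgroup.centralizer ({t} : Set G) with hD
  set a : G := ((e.symm (r 1) : D) : G) with ha
  have haD : a ∈ D := (e.symm (r 1)).2
  have hoa : orderOf a = 4 := by
    rw [ha, Subgroup.orderOf_coe, MulEquiv.orderOf_eq, orderOf_r_one]
  have ha2 : a ^ 2 = t := rot_sq t ht e
  set Q := Subgroup.zpowers a with hQ
  have hQP : Q ≤ (P : Subgroup G) := by
    rw [hQ, Subgroup.zpowers_le, hP]; exact haD
  have hQi : Q.relIndex (P : Subgroup G) = 2 := by
    have hcardP : Nat.card (P : Subgroup G) = 8 := by rw [hP]; exact card_cent t e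
    have h1 := (Q.subgroupOf (P : Subgroup G)).card_mul_index
    rw [Cfsg.Agent.Lead.card_subgroupOf_of_le hQP, hcardP, Nat.card_zpowers, hoa] at h1
    show (Q.subgroupOf (P : Subgroup G)).index = 2
    omega
  rcases thompson_transfer_classical P Q hQi u hu with ⟨M, hMn, hMi, -⟩ | ⟨g, hg⟩
  · exfalso
    haveI := hMn
    have hcard : Nat.card (G ⧸ M) = 2 := by rw [← Subgroup.index_eq_card]; exact hMi
    haveI : IsCyclic (G ⧸ M) := isCyclic_of_prime_card hcard
    letI : CommGroup (G ⧸ M) := IsCyclic.commGroup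
    have h1 : commutator G ≤ (QuotientGroup.mk' M).ker :=
      Abelianization.commutator_subset_ker (QuotientGroup.mk' M)
    rw [QuotientGroup.ker_mk', hperf] at h1
    have h2 : M = ⊤ := top_le_iff.mp h1
    rw [h2, Subgroup.index_top] at hMi
    omega
  · rw [hQ] at hg
    have hmem : g * u * g⁻¹ ∈ Submonoid.powers a := by
      rw [mem_powers_iff_mem_zpowers]; exact hg
    obtain ⟨j, hj⟩ := (Submonoid.mem_powers_iff _ _).mp hmem
    have hord : orderOf (g * u * g⁻¹) = 2 := by
      have : g * u * g⁻¹ = MulAut.conj g u := by rw [MulAut.conj_apply]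
      rw [this, MulEquiv.orderOf_eq, hu]
    -- reduce j mod 4
    have hj' : a ^ (j % 4) = g * u * g⁻¹ := by
      rw [← hj, ← hoa, pow_mod_orderOf]
    have hjlt : j % 4 < 4 := Nat.mod_lt _ (by norm_num)
    have hsq : (a ^ (j % 4)) ^ 2 = 1 := by
      rw [hj', ← hord]; exact pow_orderOf_eq_one _
    have hne1 : a ^ (j % 4) ≠ 1 := by
      rw [hj']
      intro h
      rw [h, orderOf_one] at hord
      omega
    -- transport to the dihedral group
    have hj2 : j % 4 = 2 := by
      apply invol_in_rot _ hjlt
      · have h1 : ((e.symm (r 1) : D) ^ (j % 4)) ^ 2 = 1 := by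
          apply Subtype.ext
          simp only [Subgroup.coe_pow, Subgroup.coe_one]
          exact hsq
        have h2 := congrArg e h1
        rw [map_pow, map_pow, e.apply_symm_apply, map_one] at h2
        exact h2
      · intro h
        apply hne1
        have h1 := congrArg e.symm h
        rw [map_pow, map_one] at h1
        have h2 := congrArg Subtype.val h1
        simp only [Subgroup.coe_pow, Subgroup.coe_one] at h2
        exact h2
    rw [hj2, ha2] at hj'
    rw [isConj_iff]
    refine ⟨g⁻¹, ?_⟩
    rw [hj']; group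

end Cfsg.Agent.Helper2.D8cA
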