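import Mathlib
import Cfsg.Prelude.Def_Characters
import Cfsg.Agent.Helper2.D8cA
import Cfsg.Agent.Helper2.BSuzH
import Cfsg.Agent.Helper2.BSuzI
import Cfsg.Agent.Helper2.BSuzK
import Cfsg.Agent.Helper2.BSuzN
import Cfsg.Agent.Helper6.IndFun2
import Cfsg.Agent.Helper6.InvolutionInd
import Cfsg.Agent.Helper6.CentralChar

/-!
# Groups with an involution whose centralizer is dihedral of order 8: the exceptional characters
-/

set_option autoImplicit false
set_option linter.style.haveILetI false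
set_option maxHeartbeats 1600000

namespace Cfsg.Agent.Helper2.D8cB

open Cfsg.Agent.Helper2 Cfsg.Agent.Helper6 DihedralGroup
open scoped ComplexConjugate

universe u

section cyclic4

variable {G : Type*} [Group G]

theorem mem_zpowers_four (a y : G) (hoa : orderOf a = 4) (hy : y ∈ Subgroup.zpowers a) :
    ∃ j : ℕ, j < 4 ∧ y = a ^ j := by
  haveI : Fact (0 < orderOf a) := ⟨by rw [hoa]; norm_num⟩
  have hfin : IsOfFinOrder a := by
    rw [← orderOf_pos_iff, hoa]; norm_num
  have hmem : y ∈ Submonoid.powers a := by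
    rw [hfin.mem_powers_iff_mem_zpowers]; exact hy
  obtain ⟨j, hj⟩ := (Submonoid.mem_powers_iff _ _).mp hmem
  refine ⟨j % 4, Nat.mod_lt _ (by norm_num), ?_⟩
  rw [← hj, ← hoa, pow_mod_orderOf]

theorem invol_of_mem_zpowers (a y : G) (hoa : orderOf a = 4) (hy : y ∈ Subgroup.zpowers a)
    (hy2 : orderOf y = 2) : y = a ^ 2 := by
  obtain ⟨j, hj, rfl⟩ := mem_zpowers_four a y hoa hy
  interval_cases j
  · rw [pow_zero, orderOf_one] at hy2; omega
  · rw [pow_one, hoa] at hy2; omega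
  · rfl
  · rw [orderOf_pow' a (by norm_num), hoa] at hy2
    norm_num at hy2

theorem exists_pow_eq_sq (a s : G) (hoa : orderOf a = 4) (hs : s ∈ Subgroup.zpowers a)
    (hs1 : s ≠ 1) : ∃ m : ℕ, s ^ m = a ^ 2 := by
  obtain ⟨j, hj, rfl⟩ := mem_zpowers_four a s hoa hs
  have h4 : a ^ 4 = 1 := by rw [← hoa]; exact pow_orderOf_eq_one a
  interval_cases j
  · exact absurd (pow_zero a) hs1
  · exact ⟨2, by rw [pow_one]⟩
  · exact ⟨1, by rw [pow_one]⟩
  · refine ⟨2, ?_⟩
    rw [← pow_mul]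
    have : a ^ (3 * 2) = a ^ 4 * a ^ 2 := by rw [← pow_add]
    rw [this, h4, one_mul]

end cyclic4

/-- the values of the induced function, as integers on the dihedral group -/
def F4 : DihedralGroup 4 → ℤ
  | r i => if i = 2 then 4 else if i = 0 then 0 else 2
  | sr _ => 0

theorem F4_sum : ∑ q ∈ (Finset.univ : Finset (DihedralGroup 4 × DihedralGroup 4)).filter
    (fun q => (q.1 ≠ 1 ∧ q.1 * q.1 = 1) ∧ (q.2 ≠ 1 ∧ q.2 * q.2 = 1)), F4 (q.1 * q.2) = 32 := by
  decide

theorem sr_not_rot : ∀ (i : ZMod 4) (j : ℕ), j < 4 → (sr i : DihedralGroup 4) ≠ (r 1) ^ j := by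
  decide

theorem rot_cases : ∀ i : ZMod 4, ∃ j : ℕ, j < 4 ∧ (r i : DihedralGroup 4) = (r 1) ^ j ∧
    F4 (r i) = (if j = 2 then 4 else if j = 0 then 0 else 2) := by
  decide

end Cfsg.Agent.Helper2.D8cB
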