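import Mathlib
import Cfsg.Prelude.Def_Characters
import Cfsg.Agent.Helper2.D8cB

/-!
# Groups with an involution whose centralizer is dihedral of order 8: the main character identity
-/

set_option autoImplicit false
set_option linter.style.haveILetI false
set_option maxHeartbeats 3200000

namespace Cfsg.Agent.Helper2.D8cC

open Cfsg.Agent.Helper2 Cfsg.Agent.Helper6 DihedralGroup Cfsg.Agent.Helper2.D8cB
open scoped ComplexConjugate

universe u

theorem d8_main {G : Type u} [Group G] [Fintype G] (hperf : commutator G = ⊤) (t : G)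
    (ht : orderOf t = 2) (e : Subgroup.centralizer ({t} : Set G) ≃* DihedralGroup 4) :
    ∃ χ₁ χ₂ : G → ℂ, Cfsg.IsIrrCharacter G χ₁ ∧ Cfsg.IsIrrCharacter G χ₂ ∧
      χ₁ ≠ (fun _ => (1 : ℂ)) ∧ χ₂ ≠ (fun _ => (1 : ℂ)) ∧ χ₁ 1 = χ₂ 1 + 1 ∧
      χ₁ t = χ₂ t - 3 ∧
      ∑ p ∈ classFinset t ×ˢ classFinset t,
        ((1 : ℂ) - χ₁ (p.1 * p.2) + χ₂ (p.1 * p.2)) =
        ((Subgroup.centralizer ({t} : Set G)).index : ℂ) * 32 := by
  classical
  set D := Subgroup.centralizer ({t} : Set G) with hD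
  set a : G := ((e.symm (r 1) : D) : G) with ha
  set b : G := ((e.symm (sr 0) : D) : G) with hb
  have haD : a ∈ D := (e.symm (r 1)).2
  have hbD : b ∈ D := (e.symm (sr 0)).2
  have hoa : orderOf a = 4 := by
    rw [ha, Subgroup.orderOf_coe, MulEquiv.orderOf_eq, orderOf_r_one]
  have ha2 : a ^ 2 = t := D8cA.rot_sq t ht e
  have hrel : b * a * b⁻¹ = a⁻¹ := by
    have h1 := congrArg e.symm D8cA.conj_d8
    rw [map_mul, map_mul, map_inv, map_inv] at h1
    exact congrArg Subtype.val h1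
  have ht1 : t ≠ 1 := by
    intro h; rw [h, orderOf_one] at ht; omega
  have hmemD : ∀ g : G, g ∈ D ↔ g * t = t * g := by
    intro g
    rw [hD, Subgroup.mem_centralizer_iff]
    constructor
    · intro h; exact (h t (Set.mem_singleton t)).symm
    · intro h x hx
      rw [Set.mem_singleton_iff.mp hx]; exact h.symm
  set A := Subgroup.zpowers a with hA
  have hAD : A ≤ D := by rw [hA, Subgroup.zpowers_le]; exact haD
  have htA : t ∈ A := by rw [← ha2]; exact Subgroup.pow_mem _ (Subgroup.mem_zpowers a) 2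
  have hcardA : Nat.card A = 4 := by rw [hA, Nat.card_zpowers, hoa]
  have hcardD : Nat.card D = 8 := D8cA.card_cent t e
  have hidxAD : (A.subgroupOf D).index = 2 := by
    have h1 := (A.subgroupOf D).card_mul_index
    rw [Cfsg.Agent.Lead.card_subgroupOf_of_le hAD, hcardA, hcardD] at h1
    omega
  haveI hADn : (A.subgroupOf D).Normal := Subgroup.normal_of_index_eq_two hidxAD
  have hconjA : ∀ g ∈ D, ∀ y ∈ A, g * y * g⁻¹ ∈ A := by
    intro g hg y hy
    have h1 := hADn.conj_mem ⟨y, hAD hy⟩ (Subgroup.mem_subgroupOf.mpr hy) ⟨g, hg⟩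
    exact Subgroup.mem_subgroupOf.mp h1
  -- the set X
  obtain ⟨X, hXdef⟩ : ∃ X : Set G, X = {y : G | y ∈ A ∧ y ≠ 1} := ⟨_, rfl⟩
  have hXmem : ∀ y : G, y ∈ X ↔ (y ∈ A ∧ y ≠ 1) := by
    intro y; rw [hXdef]; rfl
  have htX : t ∈ X := (hXmem t).mpr ⟨htA, ht1⟩
  have hconj_ne : ∀ g y : G, y ≠ 1 → g * y * g⁻¹ ≠ 1 := by
    intro g y hy h
    apply hy
    have : y = g⁻¹ * (g * y * g⁻¹) * g := by group
    rw [this, h]; group
  have hconj_ord : ∀ g y : G, orderOf (g * y * g⁻¹) = orderOf y := by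
    intro g y
    have : g * y * g⁻¹ = MulAut.conj g y := by rw [MulAut.conj_apply]
    rw [this, MulEquiv.orderOf_eq]
  have hfix : ∀ g : G, g * t * g⁻¹ ∈ A → g ∈ D := by
    intro g hg
    have h1 : g * t * g⁻¹ = a ^ 2 :=
      invol_of_mem_zpowers a _ hoa hg (by rw [hconj_ord, ht])
    rw [ha2] at h1
    rw [hmemD]
    calc g * t = (g * t * g⁻¹) * g := by group
      _ = t * g := by rw [h1]
  have hHD : Subgroup.normalizer X = D := by
    apply le_antisymm
    · intro g hg
      have h1 := (Subgroup.mem_set_normalizer_iff.mp hg t).mp htX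
      exact hfix g ((hXmem _).mp h1).1
    · intro g hg
      rw [Subgroup.mem_set_normalizer_iff]
      intro y
      constructor
      · intro hy
        rw [hXmem] at hy ⊢
        exact ⟨hconjA g hg y hy.1, hconj_ne g y hy.2⟩
      · intro hy
        rw [hXmem] at hy ⊢
        have h1 := hconjA g⁻¹ (D.inv_mem hg) _ hy.1
        have h2 : g⁻¹ * (g * y * g⁻¹) * g⁻¹⁻¹ = y := by group
        rw [h2] at h1
        refine ⟨h1, ?_⟩
        intro h
        apply hy.2
        rw [h]; group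
  set H := Subgroup.normalizer X with hH
  have hAH : A ≤ H := by rw [hHD]; exact hAD
  have hTI' : ∀ g : G, g ∉ H → ∀ s ∈ X, g * s * g⁻¹ ∉ X := by
    intro g hg s hs hgs
    apply hg
    rw [hHD]
    rw [hXmem] at hs hgs
    obtain ⟨m, hm⟩ := exists_pow_eq_sq a s hoa hs.1 hs.2
    rw [ha2] at hm
    apply hfix
    have h1 : g * t * g⁻¹ = (g * s * g⁻¹) ^ m := by
      rw [← hm, conj_pow]
    rw [h1]
    exact Subgroup.pow_mem _ hgs.1 m
  have hTI : ∀ g : G, g ∉ H → ∀ s ∈ X, g * s * g⁻¹ ∈ X → s = 1 := by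
    intro g hg s hs hgs
    exact absurd hgs (hTI' g hg s hs)
  have hXinv : ∀ s ∈ X, s⁻¹ ∈ X := by
    intro s hs
    rw [hXmem] at hs ⊢
    exact ⟨A.inv_mem hs.1, inv_ne_one.mpr hs.2⟩
  -- the subgroup C' of H
  set C' : Subgroup H := A.subgroupOf H with hC'
  have hidx' : C'.index = 2 := by
    rw [hC']
    have : ∀ M : Subgroup G, M = D → (A.subgroupOf M).index = 2 := by
      intro M hM; rw [hM]; exact hidxAD
    exact this H hHD
  haveI hC'n : C'.Normal := Subgroup.normal_of_index_eq_two hidx'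
  -- the linear character
  have haA : a ∈ A := Subgroup.mem_zpowers a
  have hoaA : orderOf (⟨a, haA⟩ : A) = 2 ^ (0 + 2) := by
    rw [← Subgroup.orderOf_coe]; exact hoa
  have hgenA : (⊥ : Subgroup A) ⊔ Subgroup.zpowers (⟨a, haA⟩ : A) = ⊤ := by
    rw [bot_sup_eq, eq_top_iff]
    intro y _
    obtain ⟨j, hj⟩ := Subgroup.mem_zpowers_iff.mp y.2
    rw [Subgroup.mem_zpowers_iff]
    exact ⟨j, Subtype.ext (by simpa using hj)⟩
  have hbotodd : Odd (Nat.card (⊥ : Subgroup A)) := by
    rw [Subgroup.card_bot]; exact odd_one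
  obtain ⟨lam0, hlam_a, -, -⟩ :=
    BSuzK.exists_lam (C := A) ⊥ hbotodd ⟨a, haA⟩ 0 hoaA hgenA
  set lam : C' →* ℂˣ := lam0.comp (Subgroup.subgroupOfEquivOfLe hAH).toMonoidHom with hlam
  have hlam_apply : ∀ (y : H) (hy : y ∈ C'), lam ⟨y, hy⟩ = lam0 ⟨(y : G), hy⟩ := by
    intro y hy; rfl
  have hbH : b ∈ H := by rw [hHD]; exact hbD
  have haH : a ∈ H := hAH haA
  set aH : H := ⟨a, haH⟩ with haHdef
  set bH : H := ⟨b, hbH⟩ with hbHdef
  have haC' : aH ∈ C' := Subgroup.mem_subgroupOf.mpr haA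
  set aC : C' := ⟨aH, haC'⟩ with haCdef
  have hlam_aC : lam aC = BSuzK.unitI := by
    rw [haCdef, hlam_apply]; exact hlam_a
  have hconj_aC : ∀ j : ℕ, (⟨bH * ((aC ^ j : C') : H) * bH⁻¹,
      hC'n.conj_mem _ (aC ^ j : C').2 bH⟩ : C') = (aC ^ j)⁻¹ := by
    intro j
    apply Subtype.ext
    apply Subtype.ext
    simp only [Subgroup.coe_mul, Subgroup.coe_inv, Subgroup.coe_pow, haCdef, haHdef, hbHdef]
    have : b * a ^ j * b⁻¹ = (b * a * b⁻¹) ^ j := by rw [conj_pow]
    rw [this, hrel, inv_pow]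
  have hbnC : bH ∉ C' := by
    intro h
    have h1 : b ∈ A := Subgroup.mem_subgroupOf.mp h
    obtain ⟨j, hj, hbj⟩ := mem_zpowers_four a b hoa h1
    have h2 : (e.symm (sr 0) : D) = (e.symm (r 1)) ^ j := by
      apply Subtype.ext
      simp only [Subgroup.coe_pow]
      exact hbj
    have h3 := congrArg e h2
    rw [map_pow, e.apply_symm_apply, e.apply_symm_apply] at h3
    exact sr_not_rot 0 j hj h3
  have hb' : lam ⟨bH * (aC : H) * bH⁻¹, hC'n.conj_mem _ aC.2 _⟩ ≠ lam aC := by
    have h1 := hconj_aC 1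
    simp only [pow_one] at h1
    rw [h1, map_inv, hlam_aC]
    exact BSuzK.unitI_inv_ne
  set θ : H → ℂ := Cfsg.indFun C' (BSuzH.phi C' lam) with hθ
  have hθgen : Cfsg.IsGeneralizedCharacter H θ := BSuzH.ind_isGeneralizedCharacter C' lam
  have hθ1 : θ 1 = 0 := BSuzH.ind_apply_one C' lam
  have hθone : Cfsg.classInner θ (fun _ => (1 : ℂ)) = 1 := BSuzH.ind_inner_one C' lam _ _ hb'
  have hθnorm : Cfsg.classInner θ θ = 3 := BSuzH.ind_norm C' hidx' lam _ _ hb'
  have hθoff : ∀ x : H, x ∉ C' → θ x = 0 := fun x hx => BSuzH.ind_apply_off C' lam x hx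
  have hθpow : ∀ j : ℕ, θ ((aC ^ j : C') : H) =
      (2 : ℂ) - Complex.I ^ j - (Complex.I ^ j)⁻¹ := by
    intro j
    rw [hθ, BSuzN.ind_apply_mem C' hidx' lam bH hbnC (aC ^ j), hconj_aC j, map_inv, map_pow,
      hlam_aC]
    simp only [Units.val_inv_eq_inv_val, Units.val_pow_eq_pow_val, BSuzK.unitI_val]
    ring
  have hθX : ∀ x : H, (x : G) ∉ X → θ x = 0 := by
    intro x hx
    by_cases hxC : x ∈ C'
    · have h1 : (x : G) ∈ A := Subgroup.mem_subgroupOf.mp hxC
      have h2 : (x : G) = 1 := by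
        by_contra h
        exact hx ((hXmem _).mpr ⟨h1, h⟩)
      have h3 : x = 1 := Subtype.ext h2
      rw [h3]; exact hθ1
    · exact hθoff x hxC
  -- the isomorphism with the dihedral group
  set E : H ≃* DihedralGroup 4 := (MulEquiv.subgroupCongr hHD).trans e with hE
  have hEa : E aH = r 1 := by
    rw [hE, MulEquiv.trans_apply]
    have : MulEquiv.subgroupCongr hHD aH = e.symm (r 1) := Subtype.ext rfl
    rw [this, e.apply_symm_apply]
  have hθE : ∀ y : H, θ y = ((F4 (E y) : ℤ) : ℂ) := by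
    intro y
    rcases hq : E y with i | i
    · obtain ⟨j, hj, hrj, hF⟩ := rot_cases i
      have hy : y = ((aC ^ j : C') : H) := by
        apply E.injective
        rw [hq, hrj]
        simp only [Subgroup.coe_pow, map_pow]
        rw [haCdef, hEa]
      rw [hy, hθpow j, hF]
      interval_cases j
      · norm_num
      · simp [Complex.inv_I]
      · simp [Complex.I_sq]; norm_num
      · have : Complex.I ^ 3 = -Complex.I := by
          rw [pow_succ, Complex.I_sq]; ring
        rw [this]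
        simp [Complex.inv_I]
    · have hy : y ∉ C' := by
        intro h
        have h1 : (y : G) ∈ A := Subgroup.mem_subgroupOf.mp h
        obtain ⟨j, hj, hyj⟩ := mem_zpowers_four a (y : G) hoa h1
        have h2 : y = aH ^ j := by
          apply Subtype.ext
          simp only [Subgroup.coe_pow]
          exact hyj
        have h3 := congrArg E h2
        rw [map_pow, hEa, hq] at h3
        exact sr_not_rot i j hj h3
      rw [hθoff y hy]
      simp [F4]
  -- induction to G
  have hθcf : Cfsg.IsClassFunction H θ := IsGeneralizedCharacter.isClassFunction hθgen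
  have hΘgen : Cfsg.IsGeneralizedCharacter G (Cfsg.indFun H θ) := by
    obtain ⟨α, β, hα, hβ, hαβ⟩ := hθgen
    refine ⟨Cfsg.indFun H α, Cfsg.indFun H β, isCharacter_indFun H α hα,
      isCharacter_indFun H β hβ, ?_⟩
    rw [hαβ, indFun_sub]
  have hΘnorm : Cfsg.classInner (Cfsg.indFun H θ) (Cfsg.indFun H θ) = 3 := by
    have := indFun_TI_inner X hTI θ θ hθcf hθX hθX hθ1
    rw [← hθnorm]
    convert this
  have hΘone : Cfsg.classInner (Cfsg.indFun H θ) (fun _ => (1 : ℂ)) = 1 := by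
    rw [frobenius_reciprocity H θ _ (IsCharacter.isClassFunction isCharacter_one)]
    exact hθone
  have hΘ1 : Cfsg.indFun H θ 1 = 0 := by
    rw [indFun_apply_one, hθ1, mul_zero]
  obtain ⟨χ₁, χ₂, h1, h2, h3, h4, h5, h6⟩ := BSuzI.norm_three_decomp hΘgen hΘnorm hΘone hΘ1
  refine ⟨χ₁, χ₂, h1, h2, h3, h4, h5, ?_, ?_⟩
  · -- the value at t
    have htH : t ∈ H := hAH htA
    have h7 := indFun_TI_apply X hTI θ hθcf hθX ⟨t, htH⟩ htX
      (fun h => ht1 (congrArg Subtype.val h))
    have h8 : (⟨t, htH⟩ : H) = ((aC ^ 2 : C') : H) := by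
      apply Subtype.ext
      simp only [Subgroup.coe_pow, haCdef, haHdef]
      exact ha2.symm
    rw [h8, hθpow 2] at h7
    simp only [Subgroup.coe_pow, haCdef, haHdef] at h7
    rw [ha2, h6] at h7
    simp only [Pi.add_apply, Pi.sub_apply, Complex.I_sq] at h7
    have h9 : ((2 : ℂ) - (-1) - (-1 : ℂ)⁻¹) = 4 := by norm_num
    rw [h9] at h7
    linear_combination -h7
  · -- the sum over pairs
    have hsumInd := sum_indFun_involution_products H X hTI' hXinv θ hθX t t ht ht
    have hset : {p : G × G | IsConj t p.1 ∧ IsConj t p.2} =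
        ↑(classFinset t ×ˢ classFinset t) := by
      ext p
      simp [mem_classFinset]
    rw [hset, finsum_mem_coe_finset, h6] at hsumInd
    simp only [Pi.add_apply, Pi.sub_apply] at hsumInd
    rw [hsumInd]
    have hidxH : H.index = D.index := by rw [hHD]
    rw [hidxH]
    congr 1
    -- the sum inside H
    have hconjiff : ∀ u : H, IsConj t (u : G) ↔ (E u ≠ 1 ∧ E u * E u = 1) := by
      intro u
      constructor
      · intro h
        obtain ⟨c, hc⟩ := isConj_iff.mp h
        have ho : orderOf (u : G) = 2 := by rw [← hc, hconj_ord, ht]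
        rw [Subgroup.orderOf_coe, orderOf_eq_prime_iff] at ho
        refine ⟨fun h1 => ho.2 (E.injective (by rw [h1, map_one])), ?_⟩
        rw [← map_mul, ← pow_two, ho.1, map_one]
      · rintro ⟨hne, hsq⟩
        apply D8cA.invol_conj hperf t ht e
        rw [Subgroup.orderOf_coe, orderOf_eq_prime_iff]
        refine ⟨?_, fun h1 => hne (by rw [h1, map_one])⟩
        apply E.injective
        rw [map_pow, pow_two, hsq, map_one]
    have hsetH : {p : H × H | IsConj t (p.1 : G) ∧ IsConj t (p.2 : G)} =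
        ↑((Finset.univ : Finset (H × H)).filter (fun p : H × H =>
          (E p.1 ≠ 1 ∧ E p.1 * E p.1 = 1) ∧ (E p.2 ≠ 1 ∧ E p.2 * E p.2 = 1))) := by
      ext p
      simp only [Set.mem_setOf_eq, Finset.coe_filter, Finset.mem_univ, true_and]
      rw [hconjiff, hconjiff]
    rw [hsetH, finsum_mem_coe_finset]
    have hsumeq := Finset.sum_equiv (s := (Finset.univ : Finset (H × H)).filter (fun p : H × H =>
          (E p.1 ≠ 1 ∧ E p.1 * E p.1 = 1) ∧ (E p.2 ≠ 1 ∧ E p.2 * E p.2 = 1)))
      (t := (Finset.univ : Finset (DihedralGroup 4 × DihedralGroup 4)).filter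
        (fun q => (q.1 ≠ 1 ∧ q.1 * q.1 = 1) ∧ (q.2 ≠ 1 ∧ q.2 * q.2 = 1)))
      (f := fun p : H × H => θ (p.1 * p.2))
      (g := fun q : DihedralGroup 4 × DihedralGroup 4 => ((F4 (q.1 * q.2) : ℤ) : ℂ))
      (E.toEquiv.prodCongr E.toEquiv)
      (by
        intro p
        simp only [Finset.mem_filter, Finset.mem_univ, true_and]
        exact Iff.rfl)
      (by
        intro p _
        show θ (p.1 * p.2) = ((F4 (E p.1 * E p.2) : ℤ) : ℂ)
        rw [hθE, map_mul])
    rw [hsumeq, ← Int.cast_sum, F4_sum]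
    norm_num

end Cfsg.Agent.Helper2.D8cC
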