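import Mathlib

/-!
# The arithmetic in the determination of the perfect groups with a dihedral involution
centralizer of order 8
-/

set_option autoImplicit false
set_option maxHeartbeats 1600000

namespace Cfsg.Agent.Helper2.D8cD

theorem arith_one (idx d : ℕ) (hd : 1 ≤ d) (hodd : Odd idx)
    (heq : idx * ((d - 1) * (d - 1)) = 32 * d * (d + 1)) : idx = 45 := by
  obtain ⟨m, rfl⟩ : ∃ m, d = m + 1 := ⟨d - 1, by omega⟩
  simp only [Nat.add_sub_cancel] at heq
  have hm0 : m ≠ 0 := by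
    rintro rfl
    simp at heq
  have hdvd : m * m ∣ (32 * (m + 1 + 1)) * (m + 1) := ⟨idx, by rw [← mul_comm idx, heq]; ring⟩
  have hcop : Nat.Coprime (m * m) (m + 1) := by
    apply Nat.Coprime.mul_left <;> simp
  have hdvd2 : m * m ∣ 32 * (m + 1 + 1) := hcop.dvd_of_dvd_mul_right hdvd
  have hle : m * m ≤ 32 * (m + 1 + 1) := Nat.le_of_dvd (by positivity) hdvd2
  have hm : m ≤ 33 := by nlinarith
  obtain ⟨j, hj⟩ := hodd
  interval_cases m <;> omega

theorem arith_two (idx d : ℕ) (hd : 1 ≤ d) (hodd : Odd idx)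
    (heq : idx * ((d + 2) * (d + 2)) = 32 * d * (d + 1)) : idx = 21 := by
  have hdvd : (d + 2) * (d + 2) ∣ (32 * d) * (d + 1) := ⟨idx, by rw [← mul_comm idx, heq]⟩
  have hcop : Nat.Coprime ((d + 2) * (d + 2)) (d + 1) := by
    have h1 : Nat.Coprime (d + 2) (d + 1) := by
      have : d + 2 = (d + 1) + 1 := by ring
      rw [this]; simp
    exact Nat.Coprime.mul_left h1 h1
  have hdvd2 : (d + 2) * (d + 2) ∣ 32 * d := hcop.dvd_of_dvd_mul_right hdvd
  have hle : (d + 2) * (d + 2) ≤ 32 * d := Nat.le_of_dvd (by omega) hdvd2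
  have hdle : d ≤ 28 := by nlinarith
  obtain ⟨j, hj⟩ := hodd
  interval_cases d <;> omega

theorem arith (idx d : ℕ) (c : ℤ) (hd : 1 ≤ d) (hodd : Odd idx) (hc : c = 1 ∨ c = 2)
    (heq : (idx : ℤ) * ((d : ℤ) * (d + 1) - d * (c - 3) ^ 2 + (d + 1) * c ^ 2) =
      32 * d * (d + 1)) : idx = 21 ∨ idx = 45 := by
  rcases hc with rfl | rfl
  · right
    apply arith_one idx d hd hodd
    obtain ⟨m, rfl⟩ : ∃ m, d = m + 1 := ⟨d - 1, by omega⟩
    simp only [Nat.add_sub_cancel]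
    have : (idx : ℤ) * ((m : ℤ) * m) = 32 * ((m : ℤ) + 1) * ((m : ℤ) + 1 + 1) := by
      push_cast at heq
      rw [← heq]; ring
    exact_mod_cast this
  · left
    apply arith_two idx d hd hodd
    have : (idx : ℤ) * (((d : ℤ) + 2) * ((d : ℤ) + 2)) = 32 * (d : ℤ) * ((d : ℤ) + 1) := by
      rw [← heq]; ring
    exact_mod_cast this

end Cfsg.Agent.Helper2.D8cD
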