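import Mathlib
import Cfsg.Prelude.Def_Characters
import Cfsg.Agent.Helper6.ColumnOrth
import Cfsg.Agent.Helper6.IrrBasis
import Cfsg.Agent.Helper6.OddReal

/-!
# A bound from column orthogonality for three irreducible characters with integer values
-/

set_option autoImplicit false
set_option linter.style.haveILetI false

namespace Cfsg.Agent.Helper2.D8cE

open Cfsg.Agent.Helper6
open scoped ComplexConjugate

universe u

variable {G : Type u} [Group G]

theorem col_bound [Fintype G] (t : G) (χ₁ χ₂ : G → ℂ) (h1 : Cfsg.IsIrrCharacter G χ₁)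
    (h2 : Cfsg.IsIrrCharacter G χ₂) (h3 : χ₁ ≠ (fun _ => (1 : ℂ))) (h4 : χ₂ ≠ (fun _ => (1 : ℂ)))
    (h12 : χ₁ ≠ χ₂) (c₁ c₂ : ℤ) (hc₁ : χ₁ t = c₁) (hc₂ : χ₂ t = c₂) :
    1 + c₁ ^ 2 + c₂ ^ 2 ≤ (Nat.card (Subgroup.centralizer ({t} : Set G)) : ℤ) := by
  classical
  haveI : Finite (Cfsg.IrrCharacter G) := irr_finite
  haveI : Fintype (Cfsg.IrrCharacter G) := Fintype.ofFinite _
  have hcol := column_orthogonality_aux t t
  rw [if_pos (IsConj.refl t)] at hcol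
  set f : Cfsg.IrrCharacter G → ℝ := fun χ => Complex.normSq ((χ : G → ℂ) t) with hf
  have hsum : ∑ χ : Cfsg.IrrCharacter G, f χ =
      (Nat.card (Subgroup.centralizer ({t} : Set G)) : ℝ) := by
    apply Complex.ofReal_injective
    push_cast
    rw [← hcol]
    apply Finset.sum_congr rfl
    intro χ _
    rw [hf, Complex.mul_conj]
  set o : Cfsg.IrrCharacter G := ⟨fun _ => (1 : ℂ), isIrrCharacter_one⟩ with ho
  set X₁ : Cfsg.IrrCharacter G := ⟨χ₁, h1⟩ with hX₁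
  set X₂ : Cfsg.IrrCharacter G := ⟨χ₂, h2⟩ with hX₂
  have hoX₁ : o ≠ X₁ := fun h => h3 (congrArg Subtype.val h).symm
  have hoX₂ : o ≠ X₂ := fun h => h4 (congrArg Subtype.val h).symm
  have hX₁₂ : X₁ ≠ X₂ := fun h => h12 (congrArg Subtype.val h)
  have hle : ∑ χ ∈ ({o, X₁, X₂} : Finset (Cfsg.IrrCharacter G)), f χ ≤
      ∑ χ : Cfsg.IrrCharacter G, f χ :=
    Finset.sum_le_sum_of_subset_of_nonneg (Finset.subset_univ _)
      (fun χ _ _ => Complex.normSq_nonneg _)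
  rw [Finset.sum_insert (by simp [hoX₁, hoX₂]), Finset.sum_insert (by simp [hX₁₂]),
    Finset.sum_singleton, hsum] at hle
  have e0 : f o = 1 := by simp [hf, ho]
  have e1 : f X₁ = (c₁ : ℝ) ^ 2 := by
    simp only [hf, hX₁, hc₁]
    rw [show ((c₁ : ℤ) : ℂ) = (((c₁ : ℤ) : ℝ) : ℂ) by push_cast; rfl, Complex.normSq_ofReal]
    ring
  have e2 : f X₂ = (c₂ : ℝ) ^ 2 := by
    simp only [hf, hX₂, hc₂]
    rw [show ((c₂ : ℤ) : ℂ) = (((c₂ : ℤ) : ℝ) : ℂ) by push_cast; rfl, Complex.normSq_ofReal]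
    ring
  rw [e0, e1, e2] at hle
  have : ((1 + c₁ ^ 2 + c₂ ^ 2 : ℤ) : ℝ) ≤
      ((Nat.card (Subgroup.centralizer ({t} : Set G)) : ℤ) : ℝ) := by
    push_cast
    linarith
  exact_mod_cast this

end Cfsg.Agent.Helper2.D8cE
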