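import Mathlib

/-!
# Permutations with small support
-/

set_option autoImplicit false
set_option linter.style.haveILetI false

namespace Cfsg.Agent.Helper2.Deg7

open Equiv Equiv.Perm

variable {α : Type*} [Fintype α] [DecidableEq α]

/-- A non-identity permutation of 2-power order moving at most three points is a swap. -/
theorem isSwap_of_two_pow_order (σ : Perm α) (hσ1 : σ ≠ 1) (hord : ∃ j : ℕ, orderOf σ = 2 ^ j)
    (hs : σ.support.card ≤ 3) : σ.IsSwap := by
  have h0 : σ.support.card ≠ 0 := fun h => hσ1 (card_support_eq_zero.mp h)
  have h1 := card_support_ne_one σ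
  have h23 : σ.support.card = 2 ∨ σ.support.card = 3 := by omega
  rcases h23 with h | h
  · exact card_support_eq_two.mp h
  · exfalso
    have h3 := (card_support_eq_three_iff.mp h).orderOf
    obtain ⟨j, hj⟩ := hord
    rw [h3] at hj
    have : (2 : ℕ) ∣ 3 := by
      rcases Nat.eq_zero_or_pos j with h0 | h0
      · rw [h0] at hj; norm_num at hj
      · rw [hj]; exact dvd_pow_self 2 h0.ne'
    omega

/-- A permutation of order three moving at most five points is a 3-cycle. -/
theorem isThreeCycle_of_order_three (σ : Perm α) (hord : orderOf σ = 3)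
    (hs : σ.support.card ≤ 5) : σ.IsThreeCycle := by
  have hp : (orderOf σ).Prime := by rw [hord]; norm_num
  obtain ⟨n, hn⟩ := cycleType_prime_order hp
  have hsum := sum_cycleType σ
  rw [hn, Multiset.sum_replicate, hord, smul_eq_mul] at hsum
  have hn0 : n = 0 := by omega
  rw [hn0, hord] at hn
  exact hn

/-- The support of a permutation fixing two given points has at most `n - 2` elements. -/
theorem card_support_le_of_fix_two (σ : Perm α) (a b : α) (hab : a ≠ b) (ha : σ a = a)
    (hb : σ b = b) : σ.support.card + 2 ≤ Fintype.card α := by
  have hsub : σ.support ⊆ (Finset.univ.erase a).erase b := by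
    intro x hx
    rw [Finset.mem_erase, Finset.mem_erase]
    refine ⟨?_, ?_, Finset.mem_univ _⟩
    · rintro rfl
      exact (mem_support.mp hx) hb
    · rintro rfl
      exact (mem_support.mp hx) ha
  have h1 := Finset.card_le_card hsub
  rw [Finset.card_erase_of_mem, Finset.card_erase_of_mem (Finset.mem_univ a),
    Finset.card_univ] at h1
  · have h7 : 2 ≤ Fintype.card α := by
      rw [← Finset.card_univ]
      have : ({a, b} : Finset α) ⊆ Finset.univ := Finset.subset_univ _
      have h2 := Finset.card_le_card this
      rw [Finset.card_pair hab] at h2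
      exact h2
    omega
  · rw [Finset.mem_erase]
    exact ⟨hab.symm, Finset.mem_univ _⟩

/-- The support of a permutation fixing four given distinct points has at most `n - 4` elements. -/
theorem card_support_le_of_fix_four (σ : Perm α) (a b c d : α) (hab : a ≠ b) (hac : a ≠ c)
    (had : a ≠ d) (hbc : b ≠ c) (hbd : b ≠ d) (hcd : c ≠ d)
    (ha : σ a = a) (hb : σ b = b) (hc : σ c = c) (hd : σ d = d) :
    σ.support.card + 4 ≤ Fintype.card α := by
  have hdisj : Disjoint σ.support ({a, b, c, d} : Finset α) := by
    rw [Finset.disjoint_left]
    intro x hx hx'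
    simp only [Finset.mem_insert, Finset.mem_singleton] at hx'
    have := mem_support.mp hx
    rcases hx' with rfl | rfl | rfl | rfl
    · exact this ha
    · exact this hb
    · exact this hc
    · exact this hd
  have h1 : (σ.support ∪ ({a, b, c, d} : Finset α)).card ≤ Fintype.card α :=
    Finset.card_le_univ _
  rw [Finset.card_union_of_disjoint hdisj] at h1
  have h4 : ({a, b, c, d} : Finset α).card = 4 := by
    rw [Finset.card_insert_of_notMem, Finset.card_insert_of_notMem, Finset.card_pair hcd]
    · simp only [Finset.mem_insert, Finset.mem_singleton, not_or]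
      exact ⟨hbc, hbd⟩
    · simp only [Finset.mem_insert, Finset.mem_singleton, not_or]
      exact ⟨hab, hac, had⟩
  omega

end Cfsg.Agent.Helper2.Deg7
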