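import Mathlib
import Cfsg.Agent.Helper2.Deg7A

/-!
# 2-groups of permutations of seven points fixing two points
-/

set_option autoImplicit false
set_option linter.style.haveILetI false

namespace Cfsg.Agent.Helper2.Deg7

open Equiv Equiv.Perm MulAction

variable {α : Type*} [Fintype α] [DecidableEq α]

/-- A group of order 8 of permutations of 7 points fixing two points contains a swap. -/
theorem exists_swap_of_two_group (hα : Fintype.card α = 7) (H : Subgroup (Perm α))
    (hH : Nat.card H = 8) (a b : α) (hab : a ≠ b) (ha : ∀ h ∈ H, h a = a)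
    (hb : ∀ h ∈ H, h b = b) : ∃ t ∈ H, t.IsSwap := by
  haveI : Fact (Nat.Prime 2) := ⟨Nat.prime_two⟩
  have hp : IsPGroup 2 H := IsPGroup.of_card (n := 3) (by rw [hH]; norm_num)
  have hmod := hp.card_modEq_card_fixedPoints (α := α)
  rw [Nat.card_eq_fintype_card, hα] at hmod
  -- a third fixed point
  have hafix : a ∈ fixedPoints H α := fun h => ha h.1 h.2
  have hbfix : b ∈ fixedPoints H α := fun h => hb h.1 h.2
  obtain ⟨c, hcfix, hca, hcb⟩ : ∃ c ∈ fixedPoints H α, c ≠ a ∧ c ≠ b := by
    by_contra hcon
    push Not at hcon
    have heq : fixedPoints H α = {a, b} := by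
      ext x
      constructor
      · intro hx
        by_cases hxa : x = a
        · rw [hxa]; simp
        · have := hcon x hx hxa
          rw [this]; simp
      · intro hx
        rcases hx with rfl | rfl
        · exact hafix
        · exact hbfix
    rw [heq] at hmod
    have h2 : Nat.card (({a, b} : Set α)) = 2 := by
      rw [Nat.card_coe_set_eq, Set.ncard_pair hab]
    rw [h2] at hmod
    have : 7 % 2 = 2 % 2 := hmod
    omega
  have hc : ∀ h ∈ H, h c = c := fun h hh => hcfix ⟨h, hh⟩
  -- a fourth point
  obtain ⟨x, hxa, hxb, hxc⟩ : ∃ x : α, x ≠ a ∧ x ≠ b ∧ x ≠ c := by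
    by_contra hcon
    push Not at hcon
    have hsub : (Finset.univ : Finset α) ⊆ {a, b, c} := by
      intro x _
      simp only [Finset.mem_insert, Finset.mem_singleton]
      by_cases h1 : x = a
      · left; exact h1
      · by_cases h2 : x = b
        · right; left; exact h2
        · right; right; exact hcon x h1 h2
    have := Finset.card_le_card hsub
    rw [Finset.card_univ, hα] at this
    have h3 : ({a, b, c} : Finset α).card ≤ 3 := Finset.card_le_three
    omega
  -- the orbit of `x` has at most four points
  have horb : (orbit H x).ncard ≤ 4 := by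
    have hsub : orbit H x ⊆ ((({a, b, c} : Finset α) : Set α))ᶜ := by
      rintro _ ⟨h, rfl⟩
      intro hmem
      simp only [Finset.coe_insert, Finset.coe_singleton, Set.mem_insert_iff,
        Set.mem_singleton_iff] at hmem
      have hinj := (h : Perm α).injective
      rcases hmem with h1 | h1 | h1
      · exact hxa (hinj (h1.trans (ha h.1 h.2).symm))
      · exact hxb (hinj (h1.trans (hb h.1 h.2).symm))
      · exact hxc (hinj (h1.trans (hc h.1 h.2).symm))
    have h1 := Set.ncard_le_ncard hsub (Set.toFinite _)
    have h2 : ((({a, b, c} : Finset α) : Set α))ᶜ.ncard = 4 := by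
      rw [← Finset.coe_compl, Set.ncard_coe_finset, Finset.card_compl, hα]
      have h3 : ({a, b, c} : Finset α).card = 3 := by
        rw [Finset.card_insert_of_notMem, Finset.card_pair hcb.symm]
        simp only [Finset.mem_insert, Finset.mem_singleton, not_or]
        exact ⟨hab, hca.symm⟩
      rw [h3]
    omega
  have hos : (orbit H x).ncard * Nat.card (stabilizer H x) = Nat.card H := by
    rw [← MulAction.index_stabilizer, mul_comm, Subgroup.card_mul_index]
  rw [hH] at hos
  have hst : 2 ≤ Nat.card (stabilizer H x) := by
    by_contra hlt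
    push Not at hlt
    have : Nat.card (stabilizer H x) ≤ 1 := by omega
    nlinarith
  haveI : Nontrivial (stabilizer H x) := by
    rw [← Finite.one_lt_card_iff_nontrivial]
    omega
  obtain ⟨⟨t, ht⟩, ht1⟩ := exists_ne (1 : stabilizer H x)
  have htx : (t : Perm α) x = x := mem_stabilizer_iff.mp ht
  have ht1' : (t : Perm α) ≠ 1 := by
    intro h
    apply ht1
    apply Subtype.ext
    apply Subtype.ext
    exact h
  refine ⟨(t : Perm α), t.2, ?_⟩
  apply isSwap_of_two_pow_order _ ht1'
  · have h1 : orderOf t ∣ 2 ^ 3 := by
      have := orderOf_dvd_natCard t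
      rw [hH] at this
      exact this
    obtain ⟨j, -, hj⟩ := (Nat.dvd_prime_pow Nat.prime_two).mp h1
    exact ⟨j, by rw [← hj, Subgroup.orderOf_coe]⟩
  · have := card_support_le_of_fix_four (t : Perm α) a b c x hab hca.symm hxa.symm hcb.symm
      hxb.symm hxc.symm (ha t.1 t.2) (hb t.1 t.2) (hc t.1 t.2) htx
    omega

end Cfsg.Agent.Helper2.Deg7
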