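import Mathlib
import Cfsg.Agent.Helper2.Deg7B

/-!
# The two-point stabiliser of a doubly transitive group of degree seven
-/

set_option autoImplicit false
set_option linter.style.haveILetI false

namespace Cfsg.Agent.Helper2.Deg7

open Equiv Equiv.Perm MulAction

variable {α : Type*} [Fintype α] [DecidableEq α]

/-- The order of a doubly transitive group of degree seven in terms of a two-point stabiliser. -/
theorem card_eq_mul_card_fixing (hα : Fintype.card α = 7) (G : Subgroup (Perm α))
    (h2 : IsMultiplyPretransitive G α 2) (a b : α) (hab : a ≠ b) :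
    Nat.card G = 42 * Nat.card (fixingSubgroup G ({a, b} : Set α)) := by
  have h := h2.index_of_fixingSubgroup_mul (s := ({a, b} : Set α)) (Set.ncard_pair hab)
  rw [Nat.card_eq_fintype_card, hα] at h
  have h5 : (7 - 2).factorial = 120 := by decide
  have h7 : (7 : ℕ).factorial = 5040 := by decide
  rw [h5, h7] at h
  have hidx : (fixingSubgroup G ({a, b} : Set α)).index = 42 := by omega
  rw [← Subgroup.card_mul_index (fixingSubgroup G ({a, b} : Set α)), hidx, mul_comm]

/-- The two-point stabiliser has order dividing 120. -/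
theorem card_fixing_dvd (hα : Fintype.card α = 7) (G : Subgroup (Perm α)) (a b : α)
    (hab : a ≠ b) : Nat.card (fixingSubgroup G ({a, b} : Set α)) ∣ 120 := by
  have h2 : IsMultiplyPretransitive (Perm α) α 2 := Equiv.Perm.isMultiplyPretransitive α 2
  have h := h2.index_of_fixingSubgroup_mul (s := ({a, b} : Set α)) (Set.ncard_pair hab)
  rw [Nat.card_eq_fintype_card, hα] at h
  have h5 : (7 - 2).factorial = 120 := by decide
  have h7 : (7 : ℕ).factorial = 5040 := by decide
  rw [h5, h7] at h
  have hidx : (fixingSubgroup (Perm α) ({a, b} : Set α)).index = 42 := by omega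
  have hcard : Nat.card (fixingSubgroup (Perm α) ({a, b} : Set α)) = 120 := by
    have h3 := Subgroup.card_mul_index (fixingSubgroup (Perm α) ({a, b} : Set α))
    have h8 : Nat.card α = 7 := by rw [Nat.card_eq_fintype_card, hα]
    rw [hidx, Nat.card_perm, h8, h7] at h3
    omega
  rw [← hcard]
  -- embed
  let f : fixingSubgroup G ({a, b} : Set α) →* fixingSubgroup (Perm α) ({a, b} : Set α) :=
    { toFun := fun k => ⟨((k : G) : Perm α), by
        rw [mem_fixingSubgroup_iff]
        intro y hy
        exact (mem_fixingSubgroup_iff G).mp k.2 y hy⟩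
      map_one' := rfl
      map_mul' := fun _ _ => rfl }
  apply Subgroup.card_dvd_of_injective f
  intro k k' hkk
  apply Subtype.ext
  apply Subtype.ext
  have := congrArg Subtype.val hkk
  exact this

/-- In a group of degree seven without swaps and 3-cycles, a two-point stabiliser has order
1, 2, 4, 5, 10 or 20. -/
theorem card_fixing_cases (hα : Fintype.card α = 7) (G : Subgroup (Perm α))
    (hno3 : ∀ g ∈ G, ¬ g.IsThreeCycle) (hnosw : ∀ g ∈ G, ¬ g.IsSwap) (a b : α) (hab : a ≠ b) :
    Nat.card (fixingSubgroup G ({a, b} : Set α)) ∣ 20 := by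
  set K := fixingSubgroup G ({a, b} : Set α) with hK
  have hfix : ∀ k ∈ K, ((k : G) : Perm α) a = a ∧ ((k : G) : Perm α) b = b := by
    intro k hk
    have := (mem_fixingSubgroup_iff G).mp hk
    exact ⟨this a (by simp), this b (by simp)⟩
  have h120 := card_fixing_dvd hα G a b hab
  -- no element of order 3
  have h3 : ¬ 3 ∣ Nat.card K := by
    intro hdvd
    haveI : Fact (Nat.Prime 3) := ⟨Nat.prime_three⟩
    obtain ⟨k, hk⟩ := exists_prime_orderOf_dvd_card' 3 hdvd
    have hk' : orderOf (((k : K) : G) : Perm α) = 3 := by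
      rw [Subgroup.orderOf_coe, Subgroup.orderOf_coe, hk]
    obtain ⟨ha, hb⟩ := hfix k.1 k.2
    have hs := card_support_le_of_fix_two _ a b hab ha hb
    rw [hα] at hs
    exact hno3 _ (k : G).2 (isThreeCycle_of_order_three _ hk' (by omega))
  -- no subgroup of order 8
  have h8 : ¬ 8 ∣ Nat.card K := by
    intro hdvd
    haveI : Fact (Nat.Prime 2) := ⟨Nat.prime_two⟩
    obtain ⟨T, hT⟩ := Sylow.exists_subgroup_card_pow_prime 2 (n := 3) (by norm_num; exact hdvd)
    set H : Subgroup (Perm α) := (T.map K.subtype).map G.subtype with hH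
    have hHcard : Nat.card H = 8 := by
      rw [hH, Subgroup.card_map_of_injective G.subtype_injective,
        Subgroup.card_map_of_injective K.subtype_injective, hT]
      norm_num
    have hHfix : ∀ h ∈ H, h a = a ∧ h b = b := by
      intro h hh
      rw [hH] at hh
      obtain ⟨g, ⟨k, -, rfl⟩, rfl⟩ := hh
      exact hfix k.1 k.2
    obtain ⟨t, htH, hsw⟩ := exists_swap_of_two_group hα H hHcard a b hab
      (fun h hh => (hHfix h hh).1) (fun h hh => (hHfix h hh).2)
    have htG : t ∈ G := by
      rw [hH] at htH
      obtain ⟨g, -, rfl⟩ := htH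
      exact g.2
    exact hnosw t htG hsw
  -- arithmetic
  have h40 : Nat.card K ∣ 40 := by
    have hcop : Nat.Coprime (Nat.card K) 3 := by
      rw [Nat.coprime_comm]
      exact (Nat.Prime.coprime_iff_not_dvd Nat.prime_three).mpr h3
    have : Nat.card K ∣ 3 * 40 := by norm_num; exact h120
    exact hcop.dvd_of_dvd_mul_left this
  have hle : Nat.card K ≤ 40 := Nat.le_of_dvd (by norm_num) h40
  have hpos : 0 < Nat.card K := Nat.card_pos
  generalize Nat.card K = k at *
  interval_cases k <;> omega

end Cfsg.Agent.Helper2.Deg7
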