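import Mathlib
import Cfsg.Agent.Helper2.PermPrime
import Cfsg.Agent.Helper2.SmallOrder

/-!
# Sylow 7-subgroups of permutation groups of degree seven
-/

set_option autoImplicit false
set_option linter.style.haveILetI false

namespace Cfsg.Agent.Helper2.Deg7

open Equiv Equiv.Perm MulAction

variable {α : Type*} [Fintype α] [DecidableEq α]

instance fact_prime_seven : Fact (Nat.Prime 7) := ⟨by norm_num⟩

/-- The centraliser of a Sylow 7-subgroup of order 7 in a group of degree 7 has order 7. -/
theorem card_centralizer_sylow (hα : Fintype.card α = 7) (G : Subgroup (Perm α))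
    (P : Sylow 7 G) (hP : Nat.card P = 7) :
    Nat.card (Subgroup.centralizer ((P : Subgroup G) : Set G)) = 7 := by
  haveI hfp : Fact (Nat.card (P : Subgroup G)).Prime := ⟨by rw [hP]; norm_num⟩
  haveI hcyc : IsCyclic (P : Subgroup G) := isCyclic_of_prime_card rfl
  haveI : IsMulCommutative (P : Subgroup G) := ⟨⟨fun a b => by
    letI := IsCyclic.commGroup (α := (P : Subgroup G))
    exact mul_comm a b⟩⟩
  have hPC : (P : Subgroup G) ≤ Subgroup.centralizer ((P : Subgroup G) : Set G) :=
    Subgroup.le_centralizer _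
  haveI : Nontrivial (P : Subgroup G) := by
    rw [← Finite.one_lt_card_iff_nontrivial, hP]
    norm_num
  obtain ⟨⟨σ, hσP⟩, hσ1⟩ := exists_ne (1 : (P : Subgroup G))
  have hσ1' : σ ≠ 1 := fun h => hσ1 (Subtype.ext h)
  have hord : orderOf σ = 7 := by
    have h1 : orderOf (⟨σ, hσP⟩ : (P : Subgroup G)) ∣ 7 := by
      have := orderOf_dvd_natCard (⟨σ, hσP⟩ : (P : Subgroup G))
      rwa [hP] at this
    rw [← Subgroup.orderOf_coe] at h1
    rcases (Nat.dvd_prime (by norm_num : Nat.Prime 7)).mp h1 with h | h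
    · exact absurd (orderOf_eq_one_iff.mp h) hσ1'
    · exact h
  have hord' : orderOf (σ : Perm α) = 7 := by rw [Subgroup.orderOf_coe, hord]
  have hcent := PermPrime.card_centralizer_of_orderOf_prime (by norm_num : Nat.Prime 7) hord'
    (by rw [hα]; norm_num)
  -- embed the centraliser
  let f : Subgroup.centralizer ((P : Subgroup G) : Set G) →*
      Subgroup.centralizer ({(σ : Perm α)} : Set (Perm α)) :=
    { toFun := fun c => ⟨((c : G) : Perm α), by
        rw [Subgroup.mem_centralizer_iff]
        intro y hy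
        rw [Set.mem_singleton_iff] at hy
        rw [hy]
        have := Subgroup.mem_centralizer_iff.mp c.2 σ hσP
        exact congrArg Subtype.val this⟩
      map_one' := rfl
      map_mul' := fun _ _ => rfl }
  have hinj : Function.Injective f := by
    intro c c' hcc
    apply Subtype.ext
    apply Subtype.ext
    have := congrArg Subtype.val hcc
    exact this
  have h1 := Subgroup.card_dvd_of_injective f hinj
  rw [hcent] at h1
  have h2 := Subgroup.card_dvd_of_le hPC
  rw [hP] at h2
  exact Nat.dvd_antisymm h1 h2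

/-- The normaliser of a Sylow 7-subgroup of order 7 has order `7 * d` with `d ∣ 6`. -/
theorem card_normalizer_sylow (hα : Fintype.card α = 7) (G : Subgroup (Perm α))
    (P : Sylow 7 G) (hP : Nat.card P = 7) :
    ∃ d : ℕ, d ∣ 6 ∧ Nat.card (Subgroup.normalizer ((P : Subgroup G) : Set G)) = 7 * d := by
  haveI hfp : Fact (Nat.card (P : Subgroup G)).Prime := ⟨by rw [hP]; norm_num⟩
  haveI hcyc : IsCyclic (P : Subgroup G) := isCyclic_of_prime_card rfl
  have h1 := SmallOrder.relIndex_centralizer_normalizer_dvd (P : Subgroup G) hcyc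
  rw [hP, Nat.totient_prime (by norm_num : Nat.Prime 7)] at h1
  refine ⟨_, h1, ?_⟩
  have hCN : Subgroup.centralizer ((P : Subgroup G) : Set G) ≤
      Subgroup.normalizer ((P : Subgroup G) : Set G) := Subgroup.centralizer_le_normalizer _
  have h2 := Subgroup.card_mul_index ((Subgroup.centralizer ((P : Subgroup G) : Set G)).subgroupOf
    (Subgroup.normalizer ((P : Subgroup G) : Set G)))
  have h3 : Nat.card ((Subgroup.centralizer ((P : Subgroup G) : Set G)).subgroupOf
      (Subgroup.normalizer ((P : Subgroup G) : Set G))) =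
      Nat.card (Subgroup.centralizer ((P : Subgroup G) : Set G)) :=
    Nat.card_congr (Subgroup.subgroupOfEquivOfLe hCN).toEquiv
  rw [h3, card_centralizer_sylow hα G P hP] at h2
  exact h2.symm

/-- The numerical possibilities. -/
theorem sylow_cases (hα : Fintype.card α = 7) (G : Subgroup (Perm α)) (k : ℕ) (hk : k ∣ 20)
    (hG : Nat.card G = 42 * k) (P : Sylow 7 G) :
    Nat.card P = 7 ∧
    ((k = 1 ∧ Nat.card (Sylow 7 G) = 1) ∨
     (k = 4 ∧ Nat.card (Subgroup.normalizer ((P : Subgroup G) : Set G)) = 21) ∨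
     (k = 5 ∧ Nat.card G = 210) ∨
     (k = 20 ∧ Nat.card (Subgroup.normalizer ((P : Subgroup G) : Set G)) = 7)) := by
  have hkle : k ≤ 20 := Nat.le_of_dvd (by norm_num) hk
  have hkpos : 0 < k := Nat.pos_of_dvd_of_pos hk (by norm_num)
  have hP : Nat.card P = 7 := by
    apply SylowExact.card_sylow_of_exact (m := 6 * k) (by rw [hG]; ring)
    intro h7
    have : (7 : ℕ) ∣ 6 * 20 := Dvd.dvd.trans h7 (Nat.mul_dvd_mul_left 6 hk)
    omega
  refine ⟨hP, ?_⟩
  obtain ⟨d, hd, hN⟩ := card_normalizer_sylow hα G P hP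
  have hmul := SmallOrder.card_normalizer_mul_card_sylow P
  rw [hN, hG] at hmul
  have hmod := card_sylow_modEq_one 7 G
  have hdle : d ≤ 6 := Nat.le_of_dvd (by norm_num) hd
  have hdpos : 0 < d := Nat.pos_of_dvd_of_pos hd (by norm_num)
  set n := Nat.card (Sylow 7 G) with hn
  have hmod' : n % 7 = 1 := hmod
  have hdn : d * n = 6 * k := by
    have : 7 * (d * n) = 7 * (6 * k) := by rw [← mul_assoc, hmul]; ring
    omega
  have hnle : n ≤ 120 := by nlinarith
  have hd6 : d = 1 ∨ d = 2 ∨ d = 3 ∨ d = 6 := by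
    interval_cases d <;> omega
  have hk20 : k = 1 ∨ k = 2 ∨ k = 4 ∨ k = 5 ∨ k = 10 ∨ k = 20 := by
    interval_cases k <;> omega
  rcases hd6 with rfl | rfl | rfl | rfl <;> rcases hk20 with rfl | rfl | rfl | rfl | rfl | rfl <;>
    first
    | (exfalso; omega)
    | (left; exact ⟨rfl, by omega⟩)
    | (right; left; exact ⟨rfl, by omega⟩)
    | (right; right; left; exact ⟨rfl, by omega⟩)
    | (right; right; right; exact ⟨rfl, by omega⟩)

end Cfsg.Agent.Helper2.Deg7
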