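import Mathlib
import Cfsg.Agent.Helper2.SylowExact

set_option autoImplicit false

namespace Cfsg.Agent.Helper2.PrimeDegSimple

open Subgroup

variable {G : Type*} [Group G]

/-- An element of a group whose order is prime to the (prime) index of a normal subgroup lies in
that subgroup. -/
theorem mem_of_coprime_orderOf [Finite G] {p : ℕ} (L : Subgroup G) [L.Normal] (hL : L.index = p)
    (y : G) (hy : Nat.Coprime (orderOf y) p) : y ∈ L := by
  rw [← QuotientGroup.eq_one_iff]
  have h1 : (QuotientGroup.mk y : G ⧸ L) ^ orderOf y = 1 := by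
    rw [← QuotientGroup.mk_pow, pow_orderOf_eq_one]
    rfl
  have h2 : (QuotientGroup.mk y : G ⧸ L) ^ p = 1 := by
    have : Nat.card (G ⧸ L) = p := by rw [← Subgroup.index_eq_card, hL]
    rw [← this]
    exact pow_card_eq_one'
  have h3 : orderOf (QuotientGroup.mk y : G ⧸ L) ∣ Nat.gcd (orderOf y) p :=
    Nat.dvd_gcd (orderOf_dvd_of_pow_eq_one h1) (orderOf_dvd_of_pow_eq_one h2)
  rw [hy, Nat.dvd_one, orderOf_eq_one_iff] at h3
  exact h3

/-- Abstract form: a group with a Sylow `p`-subgroup of order `p`, of prime index in its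
normalizer and not normal, in which every nontrivial normal subgroup has order divisible by `p`,
has only trivial normal subgroups. -/
theorem normal_eq_bot_or_top [Finite G] {p : ℕ} [hp : Fact p.Prime] (P : Sylow p G)
    (hPcard : Nat.card P = p)
    (hA : ∀ K : Subgroup G, K.Normal → K ≠ ⊥ → p ∣ Nat.card K)
    (hn : 1 < Nat.card (Sylow p G))
    (ht : (((P : Subgroup G).subgroupOf (normalizer ((P : Subgroup G) : Set G))).index).Prime)
    (K : Subgroup G) (hKn : K.Normal) : K = ⊥ ∨ K = ⊤ := by
  classical
  by_cases hK : K = ⊥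
  · exact Or.inl hK
  right
  have hpp : p.Prime := hp.out
  -- `p²` does not divide `|G|`
  have hGcard : Nat.card G = p * (P : Subgroup G).index := by
    have := (P : Subgroup G).card_mul_index
    rw [hPcard] at this
    exact this.symm
  have hnp : ¬ p ∣ (P : Subgroup G).index := P.not_dvd_index
  have hpK : p ∣ Nat.card K := hA K hKn hK
  -- index of K prime to p
  have hKidx : Nat.Coprime K.index p := by
    rw [Nat.coprime_comm, Nat.Prime.coprime_iff_not_dvd hpp]
    intro hdvd
    obtain ⟨k, hk⟩ := hpK
    obtain ⟨j, hj⟩ := hdvd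
    have h1 := K.card_mul_index
    rw [hk, hj, hGcard] at h1
    have h2 : p * (k * (p * j)) = p * (P : Subgroup G).index := by rw [← h1]; ring
    have h3 := Nat.eq_of_mul_eq_mul_left hpp.pos h2
    apply hnp
    rw [← h3]
    exact ⟨k * j, by ring⟩
  have hPK : (P : Subgroup G) ≤ K := SylowExact.sylow_le_of_normal_of_coprime_index K hKidx P
  have hfrat : normalizer ((P : Subgroup G) : Set G) ⊔ K = ⊤ := Sylow.normalizer_sup_eq_top' P hPK
  set N := normalizer ((P : Subgroup G) : Set G) with hN
  have hPN : (P : Subgroup G) ≤ N := le_normalizer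
  have hPM : (P : Subgroup G) ≤ K ⊓ N := le_inf hPK hPN
  have hMN : K ⊓ N ≤ N := inf_le_right
  have hmul := Subgroup.relIndex_mul_relIndex (P : Subgroup G) (K ⊓ N) N hPM hMN
  have ht' : ((P : Subgroup G).relIndex N).Prime := ht
  rw [← hmul] at ht'
  rcases (Nat.prime_mul_iff.mp ht') with ⟨_, h1⟩ | ⟨_, h1⟩
  · -- `K ⊓ N = N`
    have hNK : N ≤ K ⊓ N := Subgroup.relIndex_eq_one.mp h1
    have hNK' : N ≤ K := hNK.trans inf_le_left
    rw [eq_top_iff, ← hfrat]
    exact sup_le hNK' le_rfl
  · -- `K ⊓ N = P`: Burnside
    exfalso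
    have hMP : K ⊓ N ≤ (P : Subgroup G) := Subgroup.relIndex_eq_one.mp h1
    let P' : Sylow p K := P.subtype hPK
    have hP'coe : (P' : Subgroup K) = (P : Subgroup G).subgroupOf K := Sylow.coe_subtype P hPK
    have hP'card : Nat.card (P' : Subgroup K) = p := by
      rw [hP'coe, Nat.card_congr (Subgroup.subgroupOfEquivOfLe hPK).toEquiv, hPcard]
    have hnorm : normalizer ((P' : Subgroup K) : Set K) ≤ (P' : Subgroup K) := by
      rw [hP'coe, ← Subgroup.subgroupOf_normalizer_eq hPK]
      intro x hx
      rw [Subgroup.mem_subgroupOf] at hx ⊢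
      exact hMP ⟨x.2, hx⟩
    have hfp : Fact (Nat.card (P' : Subgroup K)).Prime := by rw [hP'card]; exact hp
    have hcyc : IsCyclic (P' : Subgroup K) := isCyclic_of_prime_card rfl
    have hcomm : ∀ a ∈ (P' : Subgroup K), ∀ b ∈ (P' : Subgroup K), a * b = b * a := by
      intro a ha b hb
      have := hcyc.isMulCommutative.is_comm.comm ⟨a, ha⟩ ⟨b, hb⟩
      exact congrArg Subtype.val this
    have hle : normalizer ((P' : Subgroup K) : Set K) ≤ centralizer ((P' : Subgroup K) : Set K) := by
      intro x hx
      rw [Subgroup.mem_centralizer_iff]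
      intro y hy
      exact hcomm y hy x (hnorm hx)
    have hcomp := MonoidHom.ker_transferSylow_isComplement' P' hle
    set L := (MonoidHom.transferSylow P' hle).ker with hL
    have hLn : L.Normal := MonoidHom.normal_ker _
    have hLidx : L.index = p := by rw [hcomp.symm.index_eq_card, hP'card]
    -- `L` viewed in `G` is normal
    have hLGn : (L.map K.subtype).Normal := by
      constructor
      rintro x ⟨y, hy, rfl⟩ g
      have hconjK : g * (y : G) * g⁻¹ ∈ K := hKn.conj_mem _ y.2 g
      refine ⟨⟨g * (y : G) * g⁻¹, hconjK⟩, ?_, rfl⟩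
      apply mem_of_coprime_orderOf L hLidx
      -- order of the conjugate
      have ho : orderOf (⟨g * (y : G) * g⁻¹, hconjK⟩ : K) = orderOf y := by
        rw [← Subgroup.orderOf_coe, ← Subgroup.orderOf_coe]
        show orderOf (g * (y : G) * g⁻¹) = orderOf (y : G)
        have : g * (y : G) * g⁻¹ = MulAut.conj g (y : G) := by simp
        rw [this, MulEquiv.orderOf_eq]
      rw [ho]
      -- order of `y` divides `|L|`, prime to `p`
      have hLcard : Nat.card L * p = Nat.card K := by
        rw [← hLidx]; exact L.card_mul_index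
      have hyo : orderOf y ∣ Nat.card L := by
        have := orderOf_dvd_natCard (⟨y, hy⟩ : L)
        rwa [Subgroup.orderOf_mk] at this
      have hLcop : Nat.Coprime (Nat.card L) p := by
        rw [Nat.coprime_comm, Nat.Prime.coprime_iff_not_dvd hpp]
        intro hdvd
        obtain ⟨j, hj⟩ := hdvd
        -- then p² ∣ |K| ∣ |G|
        have hKG : Nat.card K ∣ Nat.card G := Subgroup.card_subgroup_dvd_card K
        rw [← hLcard, hj, hGcard] at hKG
        have h2 : p * (p * j) ∣ p * (P : Subgroup G).index := by
          have : p * j * p = p * (p * j) := by ring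
          rwa [this] at hKG
        have h3 := Nat.dvd_of_mul_dvd_mul_left hpp.pos h2
        exact hnp (Dvd.dvd.trans ⟨j, rfl⟩ h3)
      exact Nat.Coprime.coprime_dvd_left hyo hLcop
    -- so `L = ⊥`
    have hLcard : Nat.card L * p = Nat.card K := by
      rw [← hLidx]; exact L.card_mul_index
    have hLcop : ¬ p ∣ Nat.card L := by
      intro hdvd
      obtain ⟨j, hj⟩ := hdvd
      have hKG : Nat.card K ∣ Nat.card G := Subgroup.card_subgroup_dvd_card K
      rw [← hLcard, hj, hGcard] at hKG
      have h2 : p * (p * j) ∣ p * (P : Subgroup G).index := by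
        have : p * j * p = p * (p * j) := by ring
        rwa [this] at hKG
      have h3 := Nat.dvd_of_mul_dvd_mul_left hpp.pos h2
      exact hnp (Dvd.dvd.trans ⟨j, rfl⟩ h3)
    have hLGcard : Nat.card (L.map K.subtype) = Nat.card L :=
      Subgroup.card_map_of_injective K.subtype_injective
    have hLGbot : L.map K.subtype = ⊥ := by
      by_contra hne
      have := hA _ hLGn hne
      rw [hLGcard] at this
      exact hLcop this
    have hL1 : Nat.card L = 1 := by
      rw [← hLGcard, hLGbot, Subgroup.card_bot]
    have hKp : Nat.card K = p := by rw [← hLcard, hL1, one_mul]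
    have hKP : (P : Subgroup G) = K :=
      Subgroup.eq_of_le_of_card_ge hPK (by rw [hKp, hPcard])
    have hPn : (P : Subgroup G).Normal := hKP ▸ hKn
    have h1' : Nat.card (Sylow p G) = 1 := by
      have hNtop : N = ⊤ := Subgroup.normalizer_eq_top_iff.mpr hPn
      have := Sylow.card_eq_index_normalizer P
      rw [this]
      show N.index = 1
      rw [hNtop, Subgroup.index_top]
    omega

end Cfsg.Agent.Helper2.PrimeDegSimple
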