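import Mathlib
import Cfsg.Agent.Helper2.Deg7C
import Cfsg.Agent.Helper2.Deg7D
import Cfsg.Agent.Helper2.CyclicSylow2
import Cfsg.Agent.S0675
import Cfsg.Agent.S1013

/-!
# Transitive groups of degree seven: the nonsolvable proper ones have order 168 and are simple
-/

set_option autoImplicit false
set_option linter.style.haveILetI false

namespace Cfsg.Agent.Helper2.Deg7

open Equiv Equiv.Perm MulAction

variable {α : Type*} [Fintype α] [DecidableEq α]

/-- A nontrivial normal subgroup of a transitive group of degree seven is transitive, so its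
order is divisible by `7`. -/
theorem seven_dvd_card_of_normal (hα : Fintype.card α = 7) (G : Subgroup (Perm α))
    [IsPretransitive G α] (K : Subgroup G) (hKn : K.Normal) (hK : K ≠ ⊥) :
    IsPretransitive K α ∧ 7 ∣ Nat.card K := by
  have hcardα : Nat.card α = 7 := by rw [Nat.card_eq_fintype_card, hα]
  have hprim : IsPreprimitive G α :=
    IsPreprimitive.of_prime_card (by rw [hcardα]; norm_num)
  obtain ⟨a⟩ : Nonempty α := Fintype.card_pos_iff.mp (by rw [hα]; norm_num)
  have hfix : fixedPoints K α ≠ Set.univ := by
    intro h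
    apply hK
    rw [eq_bot_iff]
    intro k hk
    rw [Subgroup.mem_bot]
    apply Subtype.ext
    apply Equiv.Perm.ext
    intro b
    have hb : b ∈ fixedPoints K α := h ▸ Set.mem_univ b
    exact hb ⟨k, hk⟩
  have htr : IsPretransitive K α := IsQuasiPreprimitive.isPretransitive_of_normal hfix
  refine ⟨htr, ?_⟩
  have h1 := index_stabilizer_of_transitive (G := K) (x := a)
  rw [hcardα] at h1
  rw [← h1]
  exact Subgroup.index_dvd_card _

/-- A transitive group of degree seven and order twice an odd number is solvable. -/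
theorem isSolvable_of_card_twice_odd (hα : Fintype.card α = 7) (G : Subgroup (Perm α))
    [IsPretransitive G α] (m : ℕ) (hm : Odd m) (hG : Nat.card G = 2 * m) :
    Group.IsSolvable G := by
  haveI : Fact (Nat.Prime 2) := ⟨Nat.prime_two⟩
  have hcardα : Nat.card α = 7 := by rw [Nat.card_eq_fintype_card, hα]
  have hm2 : ¬ 2 ∣ m := by
    obtain ⟨j, rfl⟩ := hm
    omega
  obtain ⟨T⟩ : Nonempty (Sylow 2 G) := inferInstance
  have hT : Nat.card T = 2 := SylowExact.card_sylow_of_exact hG hm2 T
  haveI hfp : Fact (Nat.card (T : Subgroup G)).Prime := ⟨by rw [hT]; exact Nat.prime_two⟩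
  have hcyc : IsCyclic (T : Subgroup G) := isCyclic_of_prime_card rfl
  obtain ⟨M, hM⟩ := exists_index_two_of_cyclic_sylow_two (by rw [hG]; exact even_two_mul m) T hcyc
  haveI hMn : M.Normal := Subgroup.normal_of_index_eq_two hM
  have hMcard : Nat.card M = m := by
    have := M.card_mul_index
    rw [hM, hG] at this
    omega
  obtain ⟨a, b, hab⟩ : ∃ a b : α, a ≠ b :=
    Fintype.exists_pair_of_one_lt_card (by rw [hα]; norm_num)
  have h7G : 7 ∣ Nat.card G := by
    have h1 := index_stabilizer_of_transitive (G := G) (x := a)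
    rw [hcardα] at h1
    rw [← h1]
    exact Subgroup.index_dvd_card _
  have hMne : M ≠ ⊥ := by
    rintro rfl
    rw [Subgroup.card_bot] at hMcard
    rw [hG, ← hMcard] at h7G
    omega
  obtain ⟨htrM, h7M⟩ := seven_dvd_card_of_normal hα G M hMn hMne
  haveI : IsPretransitive (M.map G.subtype) α := by
    constructor
    intro x y
    obtain ⟨g, hg⟩ := htrM.exists_smul_eq x y
    exact ⟨⟨((g : G) : Perm α), Subgroup.mem_map_of_mem _ g.2⟩, hg⟩
  have hcardM' : Nat.card (M.map G.subtype) = m := by
    rw [← hMcard]
    exact (Nat.card_congr (M.equivMapOfInjective G.subtype G.subtype_injective).toEquiv).symm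
  haveI hsolM' : Group.IsSolvable (M.map G.subtype) := by
    rcases Cfsg.Agent.S0675.result (by rw [hα]; norm_num) (M.map G.subtype) with h | h
    · exact h
    · exfalso
      have := card_eq_mul_card_fixing hα (M.map G.subtype) h a b hab
      rw [hcardM'] at this
      obtain ⟨j, rfl⟩ := hm
      omega
  haveI hsolM : Group.IsSolvable M :=
    solvable_of_solvable_injective
      (f := (M.equivMapOfInjective G.subtype G.subtype_injective).toMonoidHom)
      (M.equivMapOfInjective G.subtype G.subtype_injective).injective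
  have hQ : Nat.card (G ⧸ M) = 2 := by rw [← Subgroup.index_eq_card, hM]
  haveI : Fact (Nat.card (G ⧸ M)).Prime := ⟨by rw [hQ]; exact Nat.prime_two⟩
  have hQc : IsCyclic (G ⧸ M) := isCyclic_of_prime_card rfl
  haveI : Group.IsSolvable (G ⧸ M) :=
    isSolvable_of_comm (fun x y => hQc.isMulCommutative.is_comm.comm x y)
  exact solvable_of_ker_le_range M.subtype (QuotientGroup.mk' M) (by simp)

/-- A Sylow 7-normalizer of order 7 is impossible in a transitive group of order 840. -/
theorem false_of_normalizer_seven (hα : Fintype.card α = 7) (G : Subgroup (Perm α))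
    [IsPretransitive G α] (P : Sylow 7 G) (hP : Nat.card P = 7)
    (hN : Nat.card (Subgroup.normalizer ((P : Subgroup G) : Set G)) = 7)
    (hG : Nat.card G = 840) : False := by
  obtain ⟨K, hKn, hKi⟩ :=
    SmallOrder.exists_normal_index_of_prime_sylow P hP (by rw [hN]; norm_num)
  have hKcard : Nat.card K = 120 := by
    have := K.card_mul_index
    rw [hKi, hG] at this
    omega
  have hKne : K ≠ ⊥ := by
    rintro rfl
    rw [Subgroup.card_bot] at hKcard
    omega
  obtain ⟨_, h7⟩ := seven_dvd_card_of_normal hα G K hKn hKne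
  rw [hKcard] at h7
  omega

/-- Order 168 with Sylow 7-normalizer of order 21 gives a simple group. -/
theorem simple_of_normalizer_21 (hα : Fintype.card α = 7) (G : Subgroup (Perm α))
    [IsPretransitive G α] (P : Sylow 7 G) (hP : Nat.card P = 7)
    (hN : Nat.card (Subgroup.normalizer ((P : Subgroup G) : Set G)) = 21)
    (hG : Nat.card G = 168) : IsSimpleGroup G := by
  have hmul := SmallOrder.card_normalizer_mul_card_sylow P
  rw [hN, hG] at hmul
  have hn : 1 < Nat.card (Sylow 7 G) := by omega
  have hPN : (P : Subgroup G) ≤ Subgroup.normalizer ((P : Subgroup G) : Set G) :=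
    Subgroup.le_normalizer
  have ht : (((P : Subgroup G).subgroupOf
      (Subgroup.normalizer ((P : Subgroup G) : Set G))).index).Prime := by
    have h1 := Subgroup.card_mul_index
      ((P : Subgroup G).subgroupOf (Subgroup.normalizer ((P : Subgroup G) : Set G)))
    rw [Nat.card_congr (Subgroup.subgroupOfEquivOfLe hPN).toEquiv, hP, hN] at h1
    have h3 : ((P : Subgroup G).subgroupOf
        (Subgroup.normalizer ((P : Subgroup G) : Set G))).index = 3 := by omega
    rw [h3]
    norm_num
  exact Cfsg.Agent.S1013.result hα G P hn ht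

/-- The nonsolvable transitive groups of degree seven not containing the alternating group have
order 168 and are simple. -/
theorem main (hα : Fintype.card α = 7) (G : Subgroup (Perm α)) [IsPretransitive G α]
    (hG : ¬ Group.IsSolvable G) (hA : ¬ alternatingGroup α ≤ G) :
    Nat.card G = 168 ∧ IsSimpleGroup G := by
  have hcardα : Nat.card α = 7 := by rw [Nat.card_eq_fintype_card, hα]
  have hprim : IsPreprimitive G α :=
    IsPreprimitive.of_prime_card (by rw [hcardα]; norm_num)
  have h2t : IsMultiplyPretransitive G α 2 :=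
    (Cfsg.Agent.S0675.result (by rw [hα]; norm_num) G).resolve_left hG
  have hno3 : ∀ g ∈ G, ¬ g.IsThreeCycle := fun g hg h3 =>
    hA (alternatingGroup_le_of_isPreprimitive_of_isThreeCycle_mem hprim h3 hg)
  have hnosw : ∀ g ∈ G, ¬ g.IsSwap := fun g hg hs => by
    have := subgroup_eq_top_of_isPreprimitive_of_isSwap_mem hprim g hs hg
    exact hA (this ▸ le_top)
  obtain ⟨a, b, hab⟩ : ∃ a b : α, a ≠ b :=
    Fintype.exists_pair_of_one_lt_card (by rw [hα]; norm_num)
  have hGk := card_eq_mul_card_fixing hα G h2t a b hab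
  have hk20 := card_fixing_cases hα G hno3 hnosw a b hab
  obtain ⟨P⟩ : Nonempty (Sylow 7 G) := inferInstance
  obtain ⟨hP, hcases⟩ := sylow_cases hα G _ hk20 hGk P
  rcases hcases with ⟨hk1, _⟩ | ⟨hk4, hN⟩ | ⟨hk5, _⟩ | ⟨hk20', hN⟩
  · exact absurd (isSolvable_of_card_twice_odd hα G 21 (by decide) (by rw [hGk, hk1])) hG
  · have hG168 : Nat.card G = 168 := by rw [hGk, hk4]
    exact ⟨hG168, simple_of_normalizer_21 hα G P hP hN hG168⟩
  · exact absurd (isSolvable_of_card_twice_odd hα G 105 (by decide) (by rw [hGk, hk5])) hG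
  · exact (false_of_normalizer_seven hα G P hP hN (by rw [hGk, hk20'])).elim

end Cfsg.Agent.Helper2.Deg7
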