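import Mathlib

set_option autoImplicit false

/-! Four-subgroups of dihedral groups are self-centralizing. -/

namespace Cfsg.Agent.Helper2.DihedralKlein

open DihedralGroup

theorem card_two_torsion_le (m : ℕ) [NeZero m] : Nat.card {j : ZMod m // 2 • j = 0} ≤ 2 := by
  classical
  have h := IsAddCyclic.card_nsmul_eq_zero_le (α := ZMod m) (n := 2) (by norm_num)
  rw [Nat.card_eq_fintype_card, Fintype.card_subtype]
  exact h

theorem card_centralizer_sr_le (m : ℕ) [NeZero m] (i : ZMod m) :
    Nat.card (Subgroup.centralizer ({sr i} : Set (DihedralGroup m))) ≤ 4 := by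
  let g : {j : ZMod m // 2 • j = 0} × Bool → DihedralGroup m := fun p =>
    if p.2 then sr (i + p.1.1) else r p.1.1
  have hsub : ((Subgroup.centralizer ({sr i} : Set (DihedralGroup m)) : Subgroup _) : Set _) ⊆
      Set.range g := by
    intro c hc
    have hc' := Subgroup.mem_centralizer_iff.mp hc (sr i) rfl
    rcases c with j | k
    · rw [sr_mul_r, r_mul_sr] at hc'
      have h1 : i + j = i - j := by injection hc'
      have h2 : 2 • j = 0 := by rw [two_nsmul]; linear_combination h1
      exact ⟨(⟨j, h2⟩, false), by simp [g]⟩
    · rw [sr_mul_sr, sr_mul_sr] at hc'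
      have h1 : k - i = i - k := by injection hc'
      have h2 : 2 • (k - i) = 0 := by rw [two_nsmul]; linear_combination h1
      refine ⟨(⟨k - i, h2⟩, true), ?_⟩
      simp only [g, if_true]
      congr 1; ring
  calc Nat.card (Subgroup.centralizer ({sr i} : Set (DihedralGroup m)))
      = Nat.card ((Subgroup.centralizer ({sr i} : Set (DihedralGroup m)) : Subgroup _) : Set _) := rfl
    _ ≤ Nat.card (Set.range g) := Nat.card_mono (Set.toFinite _) hsub
    _ ≤ Nat.card ({j : ZMod m // 2 • j = 0} × Bool) := Finite.card_range_le g
    _ ≤ 4 := by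
      rw [Nat.card_prod, Nat.card_eq_fintype_card (α := Bool), Fintype.card_bool]
      have := card_two_torsion_le m
      omega

theorem klein_centralizer_le (m : ℕ) [NeZero m] (V : Subgroup (DihedralGroup m))
    (hV : IsKleinFour V) : Subgroup.centralizer (V : Set (DihedralGroup m)) ≤ V := by
  have hsq : ∀ v ∈ V, v * v = 1 := by
    intro v hv
    have h2 := hV.exponent_two
    have h3 : (⟨v, hv⟩ : V) ^ 2 = 1 := by
      rw [← h2]; exact Monoid.pow_exponent_eq_one _
    have h4 := congrArg Subtype.val h3
    simpa [pow_two] using h4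
  have hcomm : ∀ a ∈ V, ∀ b ∈ V, a * b = b * a := by
    intro a ha b hb
    have hc := hV.isMulCommutative
    exact congrArg Subtype.val (hc.is_comm.comm (⟨a, ha⟩ : V) ⟨b, hb⟩)
  by_cases hrot : ∀ v ∈ V, ∃ j, v = r j
  · exfalso
    let g : {j : ZMod m // 2 • j = 0} → DihedralGroup m := fun p => r p.1
    have hsub : (V : Set (DihedralGroup m)) ⊆ Set.range g := by
      intro v hv
      obtain ⟨j, rfl⟩ := hrot v hv
      have h1 := hsq _ hv
      rw [r_mul_r, one_def] at h1
      have h2 : j + j = 0 := by injection h1
      exact ⟨⟨j, by rw [two_nsmul]; exact h2⟩, rfl⟩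
    have h1 : Nat.card V ≤ 2 := by
      calc Nat.card V = Nat.card (V : Set (DihedralGroup m)) := rfl
        _ ≤ Nat.card (Set.range g) := Nat.card_mono (Set.toFinite _) hsub
        _ ≤ Nat.card {j : ZMod m // 2 • j = 0} := Finite.card_range_le g
        _ ≤ 2 := card_two_torsion_le m
    rw [hV.card_four] at h1
    omega
  · push Not at hrot
    obtain ⟨v, hv, hvr⟩ := hrot
    rcases v with j | i
    · exact absurd rfl (hvr j)
    · have hle : V ≤ Subgroup.centralizer ({sr i} : Set (DihedralGroup m)) := by
        intro w hw
        rw [Subgroup.mem_centralizer_iff]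
        intro h hh
        rw [Set.mem_singleton_iff] at hh
        rw [hh]
        exact hcomm _ hv _ hw
      have heq : V = Subgroup.centralizer ({sr i} : Set (DihedralGroup m)) := by
        apply Subgroup.eq_of_le_of_card_ge hle
        rw [hV.card_four]
        exact card_centralizer_sr_le m i
      have : Subgroup.centralizer (V : Set (DihedralGroup m)) ≤
          Subgroup.centralizer ({sr i} : Set (DihedralGroup m)) :=
        Subgroup.centralizer_le (by
          intro x hx
          rw [Set.mem_singleton_iff] at hx
          rw [hx]; exact hv)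
      rw [← heq] at this
      exact this

end Cfsg.Agent.Helper2.DihedralKlein
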