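import Mathlib
import Cfsg.Agent.Helper2.DihedralKlein

set_option autoImplicit false

/-! Four-subgroups of dihedral groups: they are the centralizers of the reflections. -/

namespace Cfsg.Agent.Helper2.Dih4

open DihedralGroup

variable (m : ℕ) [NeZero m]

/-- the centralizer of a reflection -/
def W (i : ZMod m) : Subgroup (DihedralGroup m) :=
  Subgroup.centralizer ({sr i} : Set (DihedralGroup m))

theorem mem_W (i : ZMod m) (d : DihedralGroup m) : d ∈ W m i ↔ sr i * d = d * sr i := by
  unfold W
  rw [Subgroup.mem_centralizer_iff]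
  constructor
  · intro h; exact h _ rfl
  · intro h y hy
    rw [Set.mem_singleton_iff] at hy
    rw [hy]; exact h

theorem r_mem_W (i j : ZMod m) : r j ∈ W m i ↔ 2 * j = 0 := by
  rw [mem_W, sr_mul_r, r_mul_sr]
  constructor
  · intro h
    have h1 : i + j = i - j := by injection h
    linear_combination h1
  · intro h
    congr 1
    linear_combination h

theorem sr_mem_W (i k : ZMod m) : sr k ∈ W m i ↔ 2 * (k - i) = 0 := by
  rw [mem_W, sr_mul_sr, sr_mul_sr]
  constructor
  · intro h
    have h1 : k - i = i - k := by injection h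
    linear_combination h1
  · intro h
    congr 1
    linear_combination h

theorem sr_self_mem_W (i : ZMod m) : sr i ∈ W m i := by
  rw [sr_mem_W, sub_self, mul_zero]

theorem card_W_le (i : ZMod m) : Nat.card (W m i) ≤ 4 :=
  DihedralKlein.card_centralizer_sr_le m i

theorem sq_eq_one_of_mem_W (i : ZMod m) (d : DihedralGroup m) (hd : d ∈ W m i) : d * d = 1 := by
  rcases d with j | k
  · rw [r_mem_W] at hd
    rw [r_mul_r, one_def]
    congr 1
    linear_combination hd
  · rw [sr_mul_sr, sub_self, one_def]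

/-- for even `m` the centralizer of a reflection is a four-group -/
theorem W_klein (k : ℕ) (hk : m = 2 * k) (i : ZMod m) : IsKleinFour (W m i) := by
  have hkpos : 0 < k := by
    have := NeZero.pos m
    omega
  have h2k : 2 * (k : ZMod m) = 0 := by
    have : ((2 * k : ℕ) : ZMod m) = 0 := by rw [← hk]; exact ZMod.natCast_self m
    rw [← this]; push_cast; ring
  have hk0 : (k : ZMod m) ≠ 0 := by
    intro h
    rw [ZMod.natCast_eq_zero_iff] at h
    have := Nat.le_of_dvd hkpos h
    omega
  have hrW : r (k : ZMod m) ∈ W m i := (r_mem_W m i _).mpr h2k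
  have hle : Subgroup.zpowers (sr i) ≤ W m i := by
    rw [Subgroup.zpowers_le]; exact sr_self_mem_W m i
  have hc2 : Nat.card (Subgroup.zpowers (sr i)) = 2 := by
    rw [Nat.card_zpowers, orderOf_sr]
  have hdvd : 2 ∣ Nat.card (W m i) := by
    rw [← hc2]; exact Subgroup.card_dvd_of_le hle
  have hne : Nat.card (W m i) ≠ 2 := by
    intro h
    have heq : Subgroup.zpowers (sr i) = W m i :=
      Subgroup.eq_of_le_of_card_ge hle (by rw [h, hc2])
    rw [← heq] at hrW
    obtain ⟨n, hn⟩ := Subgroup.mem_zpowers_iff.mp hrW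
    have h1 := zpow_mod_orderOf (sr i) n
    rw [orderOf_sr] at h1
    rw [← h1] at hn
    rcases Int.emod_two_eq_zero_or_one n with h | h
    · have : n % ((2 : ℕ) : ℤ) = 0 := by exact_mod_cast h
      rw [this, zpow_zero, one_def] at hn
      injection hn with hn'
      exact hk0 hn'.symm
    · have : n % ((2 : ℕ) : ℤ) = 1 := by exact_mod_cast h
      rw [this, zpow_one] at hn
      cases hn
  have hpos : 0 < Nat.card (W m i) := Nat.card_pos
  have hle4 := card_W_le m i
  have hcard : Nat.card (W m i) = 4 := by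
    obtain ⟨c, hc⟩ := hdvd
    omega
  refine ⟨hcard, ?_⟩
  have h1 : Monoid.exponent (W m i) ∣ 2 := by
    apply Monoid.exponent_dvd_of_forall_pow_eq_one
    rintro ⟨d, hd⟩
    apply Subtype.ext
    rw [pow_two]
    exact sq_eq_one_of_mem_W m i d hd
  rcases (Nat.dvd_prime Nat.prime_two).mp h1 with h | h
  · exfalso
    rw [Monoid.exp_eq_one_iff] at h
    have := Nat.card_eq_one_iff_unique.mpr ⟨h, ⟨1⟩⟩
    omega
  · exact h

/-- a four-subgroup of a dihedral group contains a reflection -/
theorem klein_has_sr (V : Subgroup (DihedralGroup m)) (hV : IsKleinFour V) : ∃ i, sr i ∈ V := by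
  by_contra hno
  push Not at hno
  have hsq : ∀ v ∈ V, v * v = 1 := by
    intro v hv
    have h2 := hV.exponent_two
    have h3 : (⟨v, hv⟩ : V) ^ 2 = 1 := by
      rw [← h2]; exact Monoid.pow_exponent_eq_one _
    have h4 := congrArg Subtype.val h3
    simpa [pow_two] using h4
  let g : {j : ZMod m // 2 • j = 0} → DihedralGroup m := fun p => r p.1
  have hsub : (V : Set (DihedralGroup m)) ⊆ Set.range g := by
    intro v hv
    rcases v with j | i
    · have h1 := hsq _ hv
      rw [r_mul_r, one_def] at h1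
      have h2 : j + j = 0 := by injection h1
      exact ⟨⟨j, by rw [two_nsmul]; exact h2⟩, rfl⟩
    · exact absurd hv (hno i)
  have h1 : Nat.card V ≤ 2 := by
    calc Nat.card V = Nat.card (V : Set (DihedralGroup m)) := rfl
      _ ≤ Nat.card (Set.range g) := Nat.card_mono (Set.toFinite _) hsub
      _ ≤ Nat.card {j : ZMod m // 2 • j = 0} := Finite.card_range_le g
      _ ≤ 2 := DihedralKlein.card_two_torsion_le m
  rw [hV.card_four] at h1
  omega

/-- a four-subgroup is the centralizer of any of its reflections -/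
theorem klein_eq_W (V : Subgroup (DihedralGroup m)) (hV : IsKleinFour V) (i : ZMod m)
    (hi : sr i ∈ V) : V = W m i := by
  have hcomm : ∀ a ∈ V, ∀ b ∈ V, a * b = b * a := by
    intro a ha b hb
    have hc := hV.isMulCommutative
    exact congrArg Subtype.val (hc.is_comm.comm (⟨a, ha⟩ : V) ⟨b, hb⟩)
  have hle : V ≤ W m i := by
    intro v hv
    rw [mem_W]
    exact hcomm _ hi _ hv
  apply Subgroup.eq_of_le_of_card_ge hle
  rw [hV.card_four]
  exact card_W_le m i

theorem conj_r_sr (i j : ZMod m) : r j * sr i * (r j)⁻¹ = sr (i - 2 * j) := by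
  simp only [inv_r, r_mul_sr, sr_mul_r]
  congr 1; ring

theorem conj_sr_sr (i j : ZMod m) : sr j * sr i * (sr j)⁻¹ = sr (2 * j - i) := by
  simp only [inv_sr, sr_mul_sr, r_mul_sr]
  congr 1; ring

/-- conjugates of the centralizers of reflections -/
theorem conj_mem_W (g : DihedralGroup m) (i i' : ZMod m) (h : g * sr i * g⁻¹ = sr i')
    (d : DihedralGroup m) : g * d * g⁻¹ ∈ W m i' ↔ d ∈ W m i := by
  rw [mem_W, mem_W, ← h]
  constructor
  · intro h1
    have : g * (sr i * d) * g⁻¹ = g * (d * sr i) * g⁻¹ := by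
      calc g * (sr i * d) * g⁻¹ = g * sr i * g⁻¹ * (g * d * g⁻¹) := by group
        _ = g * d * g⁻¹ * (g * sr i * g⁻¹) := h1
        _ = g * (d * sr i) * g⁻¹ := by group
    exact mul_left_cancel (mul_right_cancel this)
  · intro h1
    calc g * sr i * g⁻¹ * (g * d * g⁻¹) = g * (sr i * d) * g⁻¹ := by group
      _ = g * (d * sr i) * g⁻¹ := by rw [h1]
      _ = g * d * g⁻¹ * (g * sr i * g⁻¹) := by group

/-- every conjugate of `W (2 j)` is some `W (2 j')` -/
theorem conj_W_even (g : DihedralGroup m) (j : ZMod m) :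
    ∃ j' : ZMod m, ∀ d, g * d * g⁻¹ ∈ W m (2 * j') ↔ d ∈ W m (2 * j) := by
  rcases g with k | k
  · exact ⟨j - k, conj_mem_W m _ _ _ (by rw [conj_r_sr]; congr 1; ring)⟩
  · exact ⟨k - j, conj_mem_W m _ _ _ (by rw [conj_sr_sr]; congr 1; ring)⟩

theorem even_or_odd (i : ZMod m) : ∃ j : ZMod m, i = 2 * j ∨ i = 2 * j + 1 := by
  refine ⟨((i.val / 2 : ℕ) : ZMod m), ?_⟩
  have h1 : i = ((i.val : ℕ) : ZMod m) := (ZMod.natCast_zmod_val i).symm
  have h2 := Nat.div_add_mod i.val 2
  rcases Nat.mod_two_eq_zero_or_one i.val with h | h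
  · left
    rw [h, add_zero] at h2
    conv_lhs => rw [h1, ← h2]
    push_cast; ring
  · right
    rw [h] at h2
    conv_lhs => rw [h1, ← h2]
    push_cast; ring

theorem sr_one_not_mem_W_even (h4 : 4 ∣ m) (j : ZMod m) : sr 1 ∉ W m (2 * j) := by
  intro h
  rw [sr_mem_W] at h
  have h1 := congrArg (ZMod.castHom h4 (ZMod 4)) h
  simp only [map_mul, map_sub, map_one, map_ofNat, map_zero] at h1
  revert h1
  generalize (ZMod.castHom h4 (ZMod 4)) j = j'
  revert j'
  decide

end Cfsg.Agent.Helper2.Dih4
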