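import Mathlib
import Cfsg.Agent.Helper2.ThompsonTransfer2
import Cfsg.Agent.Lead.SylowLemmas

set_option autoImplicit false

/-! General helpers for fusion arguments: Sylow conjugation into a fixed Sylow subgroup,
Thompson transfer with a normal subgroup of index two, index-two bookkeeping. -/

namespace Cfsg.Agent.Helper2.QDF

variable {G : Type*} [Group G]

theorem orderOf_conj' (g u : G) : orderOf (g * u * g⁻¹) = orderOf u := by
  have hsc : SemiconjBy g u (g * u * g⁻¹) := by unfold SemiconjBy; group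
  exact (SemiconjBy.orderOf_eq g hsc).symm

theorem conj_cancel {g a b : G} (h : g * a * g⁻¹ = g * b * g⁻¹) : a = b :=
  mul_left_cancel (mul_right_cancel h)

theorem eq_conj_inv_of {g a b : G} (h : g * a * g⁻¹ = b) : a = g⁻¹ * b * g := by
  rw [← h]; group

/-- If `S^g ≤ M` and `T ≤ M` is a `p`-subgroup, then some `k = g⁻¹ m` with `m ∈ M` conjugates `T`
into `S`. -/
theorem exists_conj_into [Finite G] {p : ℕ} [Fact p.Prime] (S : Sylow p G) (g : G)
    (M T : Subgroup G) (hSM : ∀ s ∈ (S : Subgroup G), g * s * g⁻¹ ∈ M) (hTM : T ≤ M)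
    (hT : IsPGroup p T) :
    ∃ m ∈ M, ∀ t ∈ T, (g⁻¹ * m) * t * (g⁻¹ * m)⁻¹ ∈ (S : Subgroup G) := by
  set A := (S : Subgroup G).map (MulAut.conj g).toMonoidHom with hA
  have hAM : A ≤ M := by
    rintro _ ⟨s, hs, rfl⟩
    exact hSM s hs
  have hAp : IsPGroup p A := S.isPGroup'.map _
  have hAcard : Nat.card A = p ^ (Nat.card G).factorization p := by
    rw [hA, Cfsg.Agent.Lead.card_map_conj]
    exact S.card_eq_multiplicity
  have hAcard' : Nat.card A = p ^ (Nat.card M).factorization p := by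
    apply Cfsg.Agent.Lead.card_eq_ppart_of_le hAM (le_top : M ≤ ⊤) hAp
    rw [Subgroup.card_top]; exact hAcard
  obtain ⟨m, hmM, hm⟩ := Cfsg.Agent.Lead.exists_conj_le_of_card_eq_ppart hAM hAcard' hTM hT
  refine ⟨m, hmM, ?_⟩
  intro t ht
  have h1 : m * t * m⁻¹ ∈ A := hm ⟨t, ht, rfl⟩
  obtain ⟨s, hs, hs2⟩ := h1
  change g * s * g⁻¹ = m * t * m⁻¹ at hs2
  have : (g⁻¹ * m) * t * (g⁻¹ * m)⁻¹ = s := by
    calc (g⁻¹ * m) * t * (g⁻¹ * m)⁻¹ = g⁻¹ * (m * t * m⁻¹) * g := by group
      _ = g⁻¹ * (g * s * g⁻¹) * g := by rw [hs2]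
      _ = s := by group
  rw [this]; exact hs

/-- Every element of `p`-power order is conjugate into a given Sylow `p`-subgroup. -/
theorem exists_conj_mem_sylow [Finite G] {p : ℕ} [Fact p.Prime] (S : Sylow p G) (u : G) (k : ℕ)
    (hu : orderOf u = p ^ k) : ∃ g : G, g * u * g⁻¹ ∈ (S : Subgroup G) := by
  have hp : IsPGroup p (Subgroup.zpowers u) := by
    apply IsPGroup.of_card (n := k)
    rw [Nat.card_zpowers, hu]
  obtain ⟨g, hg⟩ := Cfsg.Agent.Lead.exists_conj_le_sylow S (Subgroup.zpowers u) hp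
  exact ⟨g, hg ⟨u, Subgroup.mem_zpowers u, rfl⟩⟩

/-- Thompson transfer: if no conjugate of `x` lies in the maximal subgroup `M` of the Sylow
`2`-subgroup, there is a normal subgroup of index two avoiding `x`. -/
theorem transfer_normal [Finite G] (S : Sylow 2 G) (M : Subgroup G)
    (hM : M.relIndex (S : Subgroup G) = 2)
    (n : ℕ) (hord : ∀ y ∈ (S : Subgroup G), y ∉ M → 2 ^ (n - 1) < orderOf y)
    (x : G) (hxn : orderOf x = 2 ^ n) (hcon : ∀ g : G, g * x * g⁻¹ ∉ M) :
    ∃ K : Subgroup G, K.Normal ∧ K.index = 2 ∧ x ∉ K := by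
  have htr := transfer_signHom_eq_neg_one S M hM n hord x hxn hcon
  set f := MonoidHom.transfer (signHom (S : Subgroup G) M hM) with hf
  refine ⟨f.ker, inferInstance, ?_, ?_⟩
  · rw [Subgroup.index_ker]
    have hdvd : Nat.card ↥f.range ∣ 2 := by
      have := Subgroup.card_subgroup_dvd_card f.range
      rwa [Nat.card_eq_fintype_card (α := ℤˣ), Fintype.card_units_int] at this
    have hne : Nat.card ↥f.range ≠ 1 := by
      intro h1
      have hbot := Subgroup.card_eq_one.mp h1
      have hmem : (-1 : ℤˣ) ∈ f.range := ⟨x, htr⟩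
      rw [hbot, Subgroup.mem_bot] at hmem
      exact absurd hmem (by decide)
    rcases (Nat.dvd_prime Nat.prime_two).mp hdvd with h | h
    · exact absurd h hne
    · exact h
  · intro hmem
    rw [MonoidHom.mem_ker, htr] at hmem
    exact absurd hmem (by decide)

/-- In a subgroup `N` where `H` has relative index two, the product of two elements of `N`
outside `H` lies in `H`. -/
theorem mul_mem_of_relIndex_two {H N : Subgroup G} (h : H.relIndex N = 2) {a b : G}
    (ha : a ∈ N) (hb : b ∈ N) (haH : a ∉ H) (hbH : b ∉ H) : a * b ∈ H := by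
  have h1 := Subgroup.mul_mem_iff_of_index_two (H := H.subgroupOf N) h
    (a := ⟨a, ha⟩) (b := ⟨b, hb⟩)
  simp only [Subgroup.mem_subgroupOf, Subgroup.coe_mul] at h1
  exact h1.mpr ⟨fun h => absurd h haH, fun h => absurd h hbH⟩

/-- For a subgroup of index two, the product of two elements outside lies inside. -/
theorem mul_mem_of_index_two {K : Subgroup G} (h : K.index = 2) {a b : G}
    (ha : a ∉ K) (hb : b ∉ K) : a * b ∈ K :=
  (Subgroup.mul_mem_iff_of_index_two h).mpr ⟨fun h => absurd h ha, fun h => absurd h hb⟩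

/-- The subgroup of elements conjugating `w` to `w` or `w⁻¹`. -/
def invNorm (w : G) : Subgroup G where
  carrier := {x | x * w * x⁻¹ = w ∨ x * w * x⁻¹ = w⁻¹}
  one_mem' := by left; group
  mul_mem' := by
    intro x y hx hy
    simp only [Set.mem_setOf_eq] at hx hy ⊢
    have e1 : x * y * w * (x * y)⁻¹ = x * (y * w * y⁻¹) * x⁻¹ := by group
    have e2 : x * w⁻¹ * x⁻¹ = (x * w * x⁻¹)⁻¹ := by group
    rw [e1]
    rcases hy with hy | hy <;> rcases hx with hx | hx
    · left; rw [hy, hx]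
    · right; rw [hy, hx]
    · right; rw [hy, e2, hx]
    · left; rw [hy, e2, hx, inv_inv]
  inv_mem' := by
    intro x hx
    simp only [Set.mem_setOf_eq] at hx ⊢
    rw [inv_inv]
    rcases hx with hx | hx
    · left
      calc x⁻¹ * w * x = x⁻¹ * (x * w * x⁻¹) * x := by rw [hx]
        _ = w := by group
    · right
      have : x * w⁻¹ * x⁻¹ = w := by
        calc x * w⁻¹ * x⁻¹ = (x * w * x⁻¹)⁻¹ := by group
          _ = w := by rw [hx, inv_inv]
      calc x⁻¹ * w * x = x⁻¹ * (x * w⁻¹ * x⁻¹) * x := by rw [this]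
        _ = w⁻¹ := by group

theorem mem_invNorm {w x : G} : x ∈ invNorm w ↔ x * w * x⁻¹ = w ∨ x * w * x⁻¹ = w⁻¹ := Iff.rfl

/-- a Klein four-group structure transports along a group isomorphism -/
theorem isKleinFour_of_mulEquiv {H K : Type*} [Group H] [Group K] (e : H ≃* K)
    (h : IsKleinFour H) : IsKleinFour K :=
  ⟨(Nat.card_congr e.toEquiv).symm.trans h.card_four,
    (Monoid.exponent_eq_of_mulEquiv e).symm.trans h.exponent_two⟩

/-- one class when everything is conjugate to a fixed element -/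
theorem card_classes_eq_one (P : G → Prop) (g₁ : G) (h1 : P g₁)
    (hall : ∀ t, P t → IsConj t g₁) :
    Nat.card {C : ConjClasses G // ∃ t, P t ∧ ConjClasses.mk t = C} = 1 := by
  rw [Nat.card_eq_one_iff_unique]
  refine ⟨⟨?_⟩, ⟨⟨ConjClasses.mk g₁, g₁, h1, rfl⟩⟩⟩
  rintro ⟨_, t, ht, rfl⟩ ⟨_, t', ht', rfl⟩
  apply Subtype.ext
  change ConjClasses.mk t = ConjClasses.mk t'
  rw [ConjClasses.mk_eq_mk_iff_isConj]
  exact (hall t ht).trans (hall t' ht').symm

end Cfsg.Agent.Helper2.QDF
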