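import Mathlib
import Cfsg.Agent.Helper2.Dih4a
import Cfsg.Agent.Helper2.DihSub
import Cfsg.Agent.Helper2.QDF1
import Cfsg.Agent.Lead.AlperinTame2

set_option autoImplicit false

/-! Conjugacy classes of four-subgroups in a finite group with dihedral Sylow `2`-subgroups. -/

namespace Cfsg.Agent.Helper2.Dih4

open DihedralGroup Cfsg.Agent.Lead Cfsg.Agent.Lead.Alp

variable {X : Type*} [Group X] (S : Subgroup X) (m : ℕ) [NeZero m]
  (eS : ↥S ≃* DihedralGroup m)

/-- the embedding of the dihedral group -/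
def phi : DihedralGroup m →* X := S.subtype.comp eS.symm.toMonoidHom

theorem phi_injective : Function.Injective (phi S m eS) :=
  S.subtype_injective.comp eS.symm.injective

theorem phi_mem (d : DihedralGroup m) : phi S m eS d ∈ S := (eS.symm d).2

theorem exists_phi (s : X) (hs : s ∈ S) : ∃ d, phi S m eS d = s :=
  ⟨eS ⟨s, hs⟩, by unfold phi; simp⟩

/-- the four-subgroups of `S` -/
def V (i : ZMod m) : Subgroup X := (W m i).map (phi S m eS)

theorem V_le (i : ZMod m) : V S m eS i ≤ S := by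
  rintro _ ⟨d, -, rfl⟩
  exact phi_mem S m eS d

theorem V_klein (k : ℕ) (hk : m = 2 * k) (i : ZMod m) : IsKleinFour (V S m eS i) :=
  Cfsg.Agent.Helper2.QDF.isKleinFour_of_mulEquiv
    (Subgroup.equivMapOfInjective (W m i) (phi S m eS) (phi_injective S m eS))
    (W_klein m k hk i)

theorem klein_eq_V (U : Subgroup X) (hUS : U ≤ S) (hU : IsKleinFour U) :
    ∃ i, U = V S m eS i := by
  set U' : Subgroup (DihedralGroup m) := U.comap (phi S m eS) with hU'
  have hmap : U'.map (phi S m eS) = U := by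
    ext y
    constructor
    · rintro ⟨d, hd, rfl⟩
      exact hd
    · intro hy
      obtain ⟨d, rfl⟩ := exists_phi S m eS y (hUS hy)
      exact ⟨d, hy, rfl⟩
  have e : ↥U' ≃* ↥U :=
    (Subgroup.equivMapOfInjective U' (phi S m eS) (phi_injective S m eS)).trans
      (MulEquiv.subgroupCongr hmap)
  have hU'k : IsKleinFour U' := Cfsg.Agent.Helper2.QDF.isKleinFour_of_mulEquiv e.symm hU
  obtain ⟨i, hi⟩ := klein_has_sr m U' hU'k
  refine ⟨i, ?_⟩
  rw [← hmap, klein_eq_W m U' hU'k i hi]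
  rfl

theorem map_conj_V (g : DihedralGroup m) (i i' : ZMod m) (h : g * sr i * g⁻¹ = sr i') :
    (V S m eS i).map (MulAut.conj (phi S m eS g)).toMonoidHom = V S m eS i' := by
  ext y
  constructor
  · rintro ⟨_, ⟨d, hd, rfl⟩, rfl⟩
    refine ⟨g * d * g⁻¹, (conj_mem_W m g i i' h d).mpr hd, ?_⟩
    simp [map_mul, map_inv]
  · rintro ⟨d', hd', rfl⟩
    refine ⟨phi S m eS (g⁻¹ * d' * g), ⟨g⁻¹ * d' * g, ?_, rfl⟩, ?_⟩
    · rw [SetLike.mem_coe, ← conj_mem_W m g i i' h]
      have : g * (g⁻¹ * d' * g) * g⁻¹ = d' := by group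
      rw [this]; exact hd'
    · simp only [MulEquiv.coe_toMonoidHom, MulAut.conj_apply, map_mul, map_inv]
      group

theorem conjR_V_even (u : X) (hu : u ∈ S) (j : ZMod m) :
    ∃ j', conjR u (V S m eS (2 * j) : Set X) = (V S m eS (2 * j') : Set X) := by
  obtain ⟨g, rfl⟩ := exists_phi S m eS u hu
  obtain ⟨j', hj'⟩ := conj_W_even m g⁻¹ j
  refine ⟨j', ?_⟩
  ext y
  rw [mem_conjR]
  constructor
  · rintro ⟨d, hd, hdy⟩
    refine ⟨g⁻¹ * d * g, ?_, ?_⟩
    · have := (hj' d).mpr hd
      rwa [inv_inv] at this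
    · rw [map_mul, map_mul, map_inv, hdy]; group
  · rintro ⟨d', hd', rfl⟩
    refine ⟨g * d' * g⁻¹, ?_, ?_⟩
    · rw [SetLike.mem_coe, ← hj']
      have : g⁻¹ * (g * d' * g⁻¹) * g⁻¹⁻¹ = d' := by group
      rw [this]; exact hd'
    · rw [map_mul, map_mul, map_inv]

variable [Finite X]

/-- one step of a conjugation chain preserves the even four-subgroups -/
theorem step (k : ℕ) (hk : m = 2 * k) (hS2 : IsPGroup 2 S) (T : Subgroup X) (x : X)
    (hR : StepRel 2 S T x) (A : Set X) (hAT : A ⊆ T)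
    (hA : ∃ j, A = (V S m eS (2 * j) : Set X)) :
    ∃ j', conjR x A = (V S m eS (2 * j') : Set X) := by
  classical
  haveI : Fact (Nat.Prime 2) := ⟨Nat.prime_two⟩
  obtain ⟨j, rfl⟩ := hA
  have hTS : T ≤ S := hR.le
  have hxN : x ∈ Subgroup.normalizer (T : Set X) := hR.mem_normalizer
  obtain ⟨Q, -, -, -, hPN, -, -, -⟩ := hR
  have hVT : V S m eS (2 * j) ≤ T := hAT
  have hVk : IsKleinFour (V S m eS (2 * j)) := V_klein S m eS k hk _
  have hT2 : IsPGroup 2 T := hS2.to_le hTS
  have hf : Function.Injective (eS.toMonoidHom.comp (Subgroup.inclusion hTS)) :=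
    eS.injective.comp (Subgroup.inclusion_injective hTS)
  rcases DihSub.sub_cases hT2 m _ hf with hcyc | hkl | hodd
  · exfalso
    haveI := hcyc
    have h1 : IsCyclic ((V S m eS (2 * j)).subgroupOf T) := inferInstance
    have h2 : IsKleinFour ((V S m eS (2 * j)).subgroupOf T) :=
      Cfsg.Agent.Helper2.QDF.isKleinFour_of_mulEquiv (Subgroup.subgroupOfEquivOfLe hVT).symm hVk
    exact h2.not_isCyclic h1
  · refine ⟨j, ?_⟩
    have heq : V S m eS (2 * j) = T := by
      haveI : Finite T := inferInstance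
      apply Subgroup.eq_of_le_of_card_ge hVT
      rw [hVk.card_four, hkl.card_four]
    rw [heq]
    apply Set.Subset.antisymm (conjR_subset_of_mem_normalizer hxN (le_refl _))
    intro t ht
    rw [mem_conjR]
    exact (Subgroup.mem_normalizer_iff.mp hxN t).mp ht
  · have hk2 : ∃ k' : ℕ, (Subgroup.centralizer (T : Set X)).relIndex
        (Subgroup.normalizer (T : Set X)) = 2 ^ k' := by
      set N := Subgroup.normalizer (T : Set X) with hN
      set C := Subgroup.centralizer (T : Set X) with hC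
      have hker : (T.normalizerMonoidHom).ker = C.subgroupOf N :=
        Subgroup.normalizerMonoidHom_ker T
      have hidx : C.relIndex N = Nat.card (T.normalizerMonoidHom).range := by
        rw [← Subgroup.index_ker, hker]; rfl
      refine ⟨_, Nat.eq_prime_pow_of_unique_prime_dvd ?_ ?_⟩
      · rw [hidx]; exact Nat.card_pos.ne'
      · intro ℓ hℓ hℓd
        rw [hidx] at hℓd
        haveI : Fact ℓ.Prime := ⟨hℓ⟩
        obtain ⟨σ', hσ'⟩ := exists_prime_orderOf_dvd_card' ℓ hℓd
        rcases hℓ.eq_two_or_odd' with h2 | hoddℓ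
        · exact h2
        · exfalso
          have h3 : (σ' : MulAut T) ^ ℓ = 1 := by
            have := pow_orderOf_eq_one σ'
            rw [hσ'] at this
            have h4 := congrArg Subtype.val this
            simpa using h4
          have h5 := hodd (σ' : MulAut T) ℓ hoddℓ h3
          have h6 : σ' = 1 := Subtype.ext h5
          rw [h6, orderOf_one] at hσ'
          exact hℓ.one_lt.ne hσ'
    obtain ⟨u, hu, hact⟩ := exists_conj_eq_of_isPGroup_quotient hPN hk2 hxN
    obtain ⟨j', hj'⟩ := conjR_V_even S m eS u hu j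
    refine ⟨j', ?_⟩
    rw [← hj']
    ext y
    constructor
    · rintro ⟨a, ha, rfl⟩
      exact ⟨a, ha, (hact a (hVT ha)).symm⟩
    · rintro ⟨a, ha, rfl⟩
      exact ⟨a, ha, hact a (hVT ha)⟩

/-- the two kinds of four-subgroups of `S` are not conjugate -/
theorem not_conj (k : ℕ) (hk : m = 2 * k) (h4 : 4 ∣ m) (hS2 : IsPGroup 2 S)
    (hSc : Nat.card S = 2 ^ (Nat.card X).factorization 2) :
    ¬ ∃ x : X, (V S m eS 0).map (MulAut.conj x).toMonoidHom = V S m eS 1 := by
  haveI : Fact (Nat.Prime 2) := ⟨Nat.prime_two⟩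
  rintro ⟨x, hx⟩
  have h1 : conjR x⁻¹ (V S m eS 0 : Set X) = (V S m eS 1 : Set X) := by
    rw [conjR_coe, inv_inv, hx]
  have hchain := alperin_chain hS2 hSc (V S m eS 0 : Set X) x⁻¹
    (fun a ha => V_le S m eS 0 ha) (by rw [h1]; exact fun a ha => V_le S m eS 1 ha)
  have key : ∀ {A : Set X} {g : X}, RChain (StepRel 2 S) A g →
      (∃ j, A = (V S m eS (2 * j) : Set X)) → ∃ j', conjR g A = (V S m eS (2 * j') : Set X) := by
    intro A g h
    induction h with
    | nil A => intro hA; rw [conjR_one]; exact hA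
    | cons A T y g hR hAT _ ih =>
      intro hA
      rw [conjR_mul]
      exact ih (step S m eS k hk hS2 T y hR A hAT hA)
  obtain ⟨j', hj'⟩ := key hchain ⟨0, by rw [mul_zero]⟩
  rw [h1] at hj'
  have h2 : phi S m eS (sr 1) ∈ (V S m eS 1 : Set X) := ⟨sr 1, sr_self_mem_W m 1, rfl⟩
  rw [hj'] at h2
  obtain ⟨d, hd, hd2⟩ := h2
  have := phi_injective S m eS hd2
  rw [this] at hd
  exact sr_one_not_mem_W_even m h4 j' hd

/-- every four-subgroup is conjugate to one of the two standard ones -/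
theorem klein_conj (P : Sylow 2 X) (hP : (P : Subgroup X) = S) (U : Subgroup X)
    (hU : IsKleinFour U) :
    (∃ x : X, U.map (MulAut.conj x).toMonoidHom = V S m eS 0) ∨
      (∃ x : X, U.map (MulAut.conj x).toMonoidHom = V S m eS 1) := by
  haveI : Fact (Nat.Prime 2) := ⟨Nat.prime_two⟩
  have hU2 : IsPGroup 2 U := IsPGroup.of_card (n := 2) (by rw [hU.card_four]; norm_num)
  obtain ⟨g, hg⟩ := exists_conj_le_sylow P U hU2
  rw [hP] at hg
  have hU'k : IsKleinFour (U.map (MulAut.conj g).toMonoidHom) :=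
    Cfsg.Agent.Helper2.QDF.isKleinFour_of_mulEquiv
      (Subgroup.equivMapOfInjective U _ (MulAut.conj g).injective) hU
  obtain ⟨i, hi⟩ := klein_eq_V S m eS _ hg hU'k
  have hcomp : ∀ y : X, U.map (MulAut.conj (y * g)).toMonoidHom =
      (U.map (MulAut.conj g).toMonoidHom).map (MulAut.conj y).toMonoidHom := by
    intro y
    rw [Subgroup.map_map]
    congr 1
    ext t
    simp [mul_assoc]
  obtain ⟨j, hj | hj⟩ := even_or_odd m i
  · left
    refine ⟨phi S m eS (r j) * g, ?_⟩
    rw [hcomp, hi, hj]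
    exact map_conj_V S m eS (r j) _ _ (by rw [conj_r_sr]; congr 1; ring)
  · right
    refine ⟨phi S m eS (r j) * g, ?_⟩
    rw [hcomp, hi, hj]
    exact map_conj_V S m eS (r j) _ _ (by rw [conj_r_sr]; congr 1; ring)

end Cfsg.Agent.Helper2.Dih4
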