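import Mathlib
import Cfsg.Agent.Helper9.GLGlue

set_option autoImplicit false

/-!
The automorphism group of an elementary abelian 2-group of order at most 16 embeds in
`GL (Fin 4) (ZMod 2)`.
-/

namespace Cfsg.Agent.Helper2.ElemAbGL

open Cfsg.Agent.Helper9.GLGlue

theorem exists_inj_GL4 (N : Type*) [CommGroup N] (hN : Nat.card N = 16) (hexp : ∀ x : N, x ^ 2 = 1) :
    ∃ f : MulAut N →* GL (Fin 4) (ZMod 2), Function.Injective f := by
  classical
  have : Fact (Nat.Prime 2) := ⟨by norm_num⟩
  have : Finite N := Nat.finite_of_card_ne_zero (by rw [hN]; norm_num)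
  let _ : Module (ZMod 2) (Additive N) := AddCommGroup.zmodModule (n := 2) (fun x => by
    change Additive.ofMul (x.toMul ^ 2) = 0
    rw [hexp]; rfl)
  have : Finite (Additive N) := ‹Finite N›
  have hfr : Module.finrank (ZMod 2) (Additive N) = 4 := by
    have h1 := Module.natCard_eq_pow_finrank (K := ZMod 2) (V := Additive N)
    have h2 : Nat.card (Additive N) = 16 := hN
    rw [h2, Nat.card_zmod] at h1
    have : (2 : ℕ) ^ 4 = 2 ^ Module.finrank (ZMod 2) (Additive N) := by rw [← h1]; norm_num
    exact (Nat.pow_right_injective (a := 2) (by norm_num) this).symm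
  let e : Additive N ≃ₗ[ZMod 2] (Fin 4 → ZMod 2) :=
    LinearEquiv.ofFinrankEq _ _ (by rw [hfr, Module.finrank_fin_fun])
  refine ⟨(Matrix.GeneralLinearGroup.toLin.symm.toMonoidHom.comp
    (LinearMap.GeneralLinearGroup.congrLinearEquiv e).toMonoidHom).comp
    ((LinearMap.GeneralLinearGroup.generalLinearEquiv (ZMod 2) (Additive N)).symm.toMonoidHom.comp
      (autToLin N 2)), ?_⟩
  intro a b h
  apply autToLin_injective N 2
  apply (LinearMap.GeneralLinearGroup.generalLinearEquiv (ZMod 2) (Additive N)).symm.injective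
  apply (LinearMap.GeneralLinearGroup.congrLinearEquiv e).injective
  apply Matrix.GeneralLinearGroup.toLin.symm.injective
  exact h

/-- extend automorphisms to a product -/
def prodAut (V V' : Type*) [Group V] [Group V'] : MulAut V →* MulAut (V × V') where
  toFun f := MulEquiv.prodCongr f (MulEquiv.refl V')
  map_one' := by ext x <;> rfl
  map_mul' f g := by ext x <;> rfl

theorem prodAut_injective (V V' : Type*) [Group V] [Group V'] :
    Function.Injective (prodAut V V') := by
  intro f g h
  ext v
  have := congrArg (fun t : MulAut (V × V') => (t (v, 1)).1) h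
  exact this

theorem exists_inj_of_card_le' (V : Type*) [CommGroup V] [Finite V]
    (hexp : ∀ v : V, v ^ 2 = 1) (hcard : Nat.card V ≤ 16) :
    ∃ f : MulAut V →* GL (Fin 4) (ZMod 2), Function.Injective f := by
  classical
  have : Fact (Nat.Prime 2) := ⟨by norm_num⟩
  have hV : IsPGroup 2 V := fun g => ⟨1, by simpa using hexp g⟩
  obtain ⟨r, hr⟩ := IsPGroup.iff_card.mp hV
  have hr4 : r ≤ 4 := by
    rw [hr] at hcard
    have : (2 : ℕ) ^ r ≤ 2 ^ 4 := by simpa using hcard
    exact (Nat.pow_le_pow_iff_right (by norm_num)).mp this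
  let V' := Multiplicative (Fin (4 - r) → ZMod 2)
  have hV' : Nat.card V' = 2 ^ (4 - r) := by
    show Nat.card (Multiplicative (Fin (4 - r) → ZMod 2)) = 2 ^ (4 - r)
    rw [Nat.card_congr Multiplicative.toAdd, Nat.card_eq_fintype_card]
    simp [ZMod.card]
  have hW : Nat.card (V × V') = 16 := by
    rw [Nat.card_prod, hr, hV', ← pow_add]
    have : r + (4 - r) = 4 := by omega
    rw [this]; norm_num
  have hexpW : ∀ x : V × V', x ^ 2 = 1 := by
    rintro ⟨v, w⟩
    apply Prod.ext
    · exact hexp v
    · show w ^ 2 = 1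
      apply Multiplicative.toAdd.injective
      funext i
      show ((2 : ℕ) • Multiplicative.toAdd w) i = 0
      rw [Pi.smul_apply, two_nsmul]
      exact CharTwo.add_self_eq_zero _
  obtain ⟨f, hf⟩ := exists_inj_GL4 (V × V') hW hexpW
  exact ⟨f.comp (prodAut V V'), hf.comp (prodAut_injective V V')⟩

theorem exists_inj_of_card_le (V : Type*) [Group V] [Finite V]
    (hcomm : ∀ a b : V, a * b = b * a)
    (hexp : ∀ v : V, v ^ 2 = 1) (hcard : Nat.card V ≤ 16) :
    ∃ f : MulAut V →* GL (Fin 4) (ZMod 2), Function.Injective f := by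
  letI : CommGroup V := { ‹Group V› with mul_comm := hcomm }
  exact exists_inj_of_card_le' V hexp hcard

end Cfsg.Agent.Helper2.ElemAbGL
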