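import Mathlib
import Cfsg.Prelude.Def_Classical

set_option autoImplicit false
set_option linter.unusedSimpArgs false

/-!
Helper library (helper2): two commuting involutory isometries `Ta`, `Tb` of the plus-type
quadratic space `Fin n ⊕ Fin n → ZMod 2`, supported on three hyperbolic planes with indices
`i0 i1 i2`.  They span a four-group of isometries that does not lift to a four-group of
automorphisms of the extraspecial group of plus type (see `ExSplitB`).
-/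

namespace Cfsg.Agent.Helper2.ExSplit

open Cfsg

variable {n : ℕ}

/-- the coordinate space -/
abbrev VV (n : ℕ) : Type := Fin n ⊕ Fin n → ZMod 2

/-- the first isometry: `e3 ↦ e2+e3+e4+e5`, `e4 ↦ e2+e4`, `e5 ↦ e2+e5`. -/
def Ta (i1 i2 : Fin n) (v : VV n) : VV n := fun k =>
  if k = Sum.inl i1 then v (Sum.inl i1) + v (Sum.inr i1) + v (Sum.inl i2) + v (Sum.inr i2)
  else if k = Sum.inl i2 then v (Sum.inl i2) + v (Sum.inr i1)
  else if k = Sum.inr i2 then v (Sum.inr i2) + v (Sum.inr i1)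
  else v k

/-- the second isometry: `e1 ↦ e1+e2`, `e3 ↦ e0+e3`, `e4 ↔ e5`. -/
def Tb (i0 i1 i2 : Fin n) (v : VV n) : VV n := fun k =>
  if k = Sum.inl i0 then v (Sum.inl i0) + v (Sum.inr i1)
  else if k = Sum.inl i1 then v (Sum.inl i1) + v (Sum.inr i0)
  else if k = Sum.inl i2 then v (Sum.inr i2)
  else if k = Sum.inr i2 then v (Sum.inl i2)
  else v k

section
variable {i0 i1 i2 : Fin n} (h01 : i0 ≠ i1) (h02 : i0 ≠ i2) (h12 : i1 ≠ i2)

theorem Ta_inl1 (v : VV n) : Ta i1 i2 v (Sum.inl i1) =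
    v (Sum.inl i1) + v (Sum.inr i1) + v (Sum.inl i2) + v (Sum.inr i2) := by
  simp [Ta]

include h12 in
theorem Ta_inl2 (v : VV n) : Ta i1 i2 v (Sum.inl i2) = v (Sum.inl i2) + v (Sum.inr i1) := by
  simp [Ta, h12.symm]

theorem Ta_inr2 (v : VV n) : Ta i1 i2 v (Sum.inr i2) = v (Sum.inr i2) + v (Sum.inr i1) := by
  simp [Ta]

theorem Ta_inr (v : VV n) (i : Fin n) (hi : i ≠ i2) : Ta i1 i2 v (Sum.inr i) = v (Sum.inr i) := by
  simp [Ta, hi]

theorem Ta_inl (v : VV n) (i : Fin n) (hi1 : i ≠ i1) (hi2 : i ≠ i2) :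
    Ta i1 i2 v (Sum.inl i) = v (Sum.inl i) := by
  simp [Ta, hi1, hi2]

theorem Tb_inl0 (v : VV n) : Tb i0 i1 i2 v (Sum.inl i0) = v (Sum.inl i0) + v (Sum.inr i1) := by
  simp [Tb]

include h01 in
theorem Tb_inl1 (v : VV n) : Tb i0 i1 i2 v (Sum.inl i1) = v (Sum.inl i1) + v (Sum.inr i0) := by
  simp [Tb, h01.symm]

include h02 h12 in
theorem Tb_inl2 (v : VV n) : Tb i0 i1 i2 v (Sum.inl i2) = v (Sum.inr i2) := by
  simp [Tb, h02.symm, h12.symm]

theorem Tb_inr2 (v : VV n) : Tb i0 i1 i2 v (Sum.inr i2) = v (Sum.inl i2) := by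
  simp [Tb]

theorem Tb_inr (v : VV n) (i : Fin n) (hi : i ≠ i2) : Tb i0 i1 i2 v (Sum.inr i) = v (Sum.inr i) := by
  simp [Tb, hi]

theorem Tb_inl (v : VV n) (i : Fin n) (hi0 : i ≠ i0) (hi1 : i ≠ i1) (hi2 : i ≠ i2) :
    Tb i0 i1 i2 v (Sum.inl i) = v (Sum.inl i) := by
  simp [Tb, hi0, hi1, hi2]

theorem Ta_add (u v : VV n) : Ta i1 i2 (u + v) = Ta i1 i2 u + Ta i1 i2 v := by
  funext k
  simp only [Ta, Pi.add_apply]
  split_ifs <;> abel

theorem Tb_add (u v : VV n) : Tb i0 i1 i2 (u + v) = Tb i0 i1 i2 u + Tb i0 i1 i2 v := by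
  funext k
  simp only [Tb, Pi.add_apply]
  split_ifs <;> abel

theorem z2_id1 : ∀ a b c d : ZMod 2, a + b + c + d + b + (c + b) + (d + b) = a := by decide
theorem z2_id2 : ∀ a b : ZMod 2, a + b + b = a := by decide

include h12 in
theorem Ta_Ta (v : VV n) : Ta i1 i2 (Ta i1 i2 v) = v := by
  funext k
  rcases k with i | i
  · by_cases hi1 : i = i1
    · subst hi1
      rw [Ta_inl1, Ta_inl1, Ta_inr _ _ h12, Ta_inl2 h12, Ta_inr2]
      exact z2_id1 _ _ _ _
    · by_cases hi2 : i = i2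
      · subst hi2
        rw [Ta_inl2 h12, Ta_inl2 h12, Ta_inr _ _ h12]
        exact z2_id2 _ _
      · rw [Ta_inl _ _ hi1 hi2, Ta_inl _ _ hi1 hi2]
  · by_cases hi2 : i = i2
    · subst hi2
      rw [Ta_inr2, Ta_inr2, Ta_inr _ _ h12]
      exact z2_id2 _ _
    · rw [Ta_inr _ _ hi2, Ta_inr _ _ hi2]

include h01 h02 h12 in
theorem Tb_Tb (v : VV n) : Tb i0 i1 i2 (Tb i0 i1 i2 v) = v := by
  funext k
  rcases k with i | i
  · by_cases hi0 : i = i0
    · subst hi0
      rw [Tb_inl0, Tb_inl0, Tb_inr _ _ h12]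
      exact z2_id2 _ _
    · by_cases hi1 : i = i1
      · subst hi1
        rw [Tb_inl1 h01, Tb_inl1 h01, Tb_inr _ _ h02]
        exact z2_id2 _ _
      · by_cases hi2 : i = i2
        · subst hi2
          rw [Tb_inl2 h02 h12, Tb_inr2]
        · rw [Tb_inl _ _ hi0 hi1 hi2, Tb_inl _ _ hi0 hi1 hi2]
  · by_cases hi2 : i = i2
    · subst hi2
      rw [Tb_inr2, Tb_inl2 h02 h12]
    · rw [Tb_inr _ _ hi2, Tb_inr _ _ hi2]

theorem z2_id3 : ∀ a b c d e : ZMod 2, a + b + c + d + e = a + e + (c + b + (d + b)) + b := by decide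

include h01 h02 h12 in
theorem Ta_Tb (v : VV n) : Ta i1 i2 (Tb i0 i1 i2 v) = Tb i0 i1 i2 (Ta i1 i2 v) := by
  funext k
  rcases k with i | i
  · by_cases hi0 : i = i0
    · subst hi0
      rw [Ta_inl _ _ h01 h02, Tb_inl0, Tb_inl0, Ta_inl _ _ h01 h02, Ta_inr _ _ h12]
    · by_cases hi1 : i = i1
      · subst hi1
        rw [Ta_inl1, Tb_inl1 h01, Tb_inl1 h01, Tb_inr _ _ h12, Tb_inl2 h02 h12, Tb_inr2,
          Ta_inl1, Ta_inr _ _ h02]
        have := z2_id3
        generalize v (Sum.inl i) = a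
        generalize v (Sum.inr i) = b
        generalize v (Sum.inl i2) = c
        generalize v (Sum.inr i2) = d
        generalize v (Sum.inr i0) = e
        revert a b c d e
        decide
      · by_cases hi2 : i = i2
        · subst hi2
          rw [Ta_inl2 h12, Tb_inl2 h02 h12, Tb_inl2 h02 h12, Tb_inr _ _ h12, Ta_inr2]
        · rw [Ta_inl _ _ hi1 hi2, Tb_inl _ _ hi0 hi1 hi2, Tb_inl _ _ hi0 hi1 hi2,
            Ta_inl _ _ hi1 hi2]
  · by_cases hi2 : i = i2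
    · subst hi2
      rw [Ta_inr2, Tb_inr2, Tb_inr2, Tb_inr _ _ h12, Ta_inl2 h12]
    · rw [Ta_inr _ _ hi2, Tb_inr _ _ hi2, Tb_inr _ _ hi2, Ta_inr _ _ hi2]

theorem z2_id4 : ∀ a b c d : ZMod 2,
    (a + b + c + d) * b + a * b + ((c + b) * (d + b) + c * d) = 0 := by decide

include h12 in
theorem Ta_form (v : VV n) : quadFormPlus n (ZMod 2) (Ta i1 i2 v) = quadFormPlus n (ZMod 2) v := by
  unfold quadFormPlus
  have hD : ∑ i : Fin n, (Ta i1 i2 v (Sum.inl i) * Ta i1 i2 v (Sum.inr i) +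
      v (Sum.inl i) * v (Sum.inr i)) = 0 := by
    rw [Finset.sum_eq_add i1 i2 h12]
    · rw [Ta_inl1, Ta_inr _ _ h12, Ta_inl2 h12, Ta_inr2]
      exact z2_id4 _ _ _ _
    · intro i _ hi
      rw [Ta_inl _ _ hi.1 hi.2, Ta_inr _ _ hi.2]
      exact CharTwo.add_self_eq_zero _
    · intro h; exact absurd (Finset.mem_univ _) h
    · intro h; exact absurd (Finset.mem_univ _) h
  rw [Finset.sum_add_distrib] at hD
  exact (CharTwo.add_eq_zero.mp hD)

theorem z2_id5 : ∀ a b c d : ZMod 2,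
    (a + d) * b + a * b + ((c + b) * d + c * d) = 0 := by decide

include h01 h02 h12 in
theorem Tb_form (v : VV n) :
    quadFormPlus n (ZMod 2) (Tb i0 i1 i2 v) = quadFormPlus n (ZMod 2) v := by
  unfold quadFormPlus
  have hD : ∑ i : Fin n, (Tb i0 i1 i2 v (Sum.inl i) * Tb i0 i1 i2 v (Sum.inr i) +
      v (Sum.inl i) * v (Sum.inr i)) = 0 := by
    rw [Finset.sum_eq_add i0 i1 h01]
    · rw [Tb_inl0, Tb_inr _ _ h02, Tb_inl1 h01, Tb_inr _ _ h12]
      exact z2_id5 _ _ _ _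
    · intro i _ hi
      by_cases hi2 : i = i2
      · subst hi2
        rw [Tb_inl2 h02 h12, Tb_inr2, mul_comm]
        exact CharTwo.add_self_eq_zero _
      · rw [Tb_inl _ _ hi.1 hi.2 hi2, Tb_inr _ _ hi2]
        exact CharTwo.add_self_eq_zero _
    · intro h; exact absurd (Finset.mem_univ _) h
    · intro h; exact absurd (Finset.mem_univ _) h
  rw [Finset.sum_add_distrib] at hD
  exact (CharTwo.add_eq_zero.mp hD)

/-- `Ta` as an additive equivalence. -/
def TaEquiv (i1 i2 : Fin n) (h12 : i1 ≠ i2) : VV n ≃+ VV n where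
  toFun := Ta i1 i2
  invFun := Ta i1 i2
  left_inv := Ta_Ta h12
  right_inv := Ta_Ta h12
  map_add' := Ta_add

/-- `Tb` as an additive equivalence. -/
def TbEquiv (i0 i1 i2 : Fin n) (h01 : i0 ≠ i1) (h02 : i0 ≠ i2) (h12 : i1 ≠ i2) : VV n ≃+ VV n where
  toFun := Tb i0 i1 i2
  invFun := Tb i0 i1 i2
  left_inv := Tb_Tb h01 h02 h12
  right_inv := Tb_Tb h01 h02 h12
  map_add' := Tb_add

end

/-- basis vectors -/
def ee (k : Fin n ⊕ Fin n) : VV n := Pi.single k 1

theorem ee_apply (k j : Fin n ⊕ Fin n) : ee k j = if j = k then 1 else 0 := by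
  unfold ee
  rw [Pi.single_apply]

section
variable {i0 i1 i2 : Fin n} (h01 : i0 ≠ i1) (h02 : i0 ≠ i2) (h12 : i1 ≠ i2)

include h12 in
theorem Ta_ee_inl1 : Ta i1 i2 (ee (Sum.inl i1)) = ee (Sum.inl i1) := by
  funext k
  simp only [Ta, ee_apply]
  rcases k with i | i
  · by_cases hi1 : i = i1 <;> by_cases hi2 : i = i2 <;> simp [hi1, hi2, h12, h12.symm]
  · by_cases hi2 : i = i2 <;> simp [hi2, h12, h12.symm]

include h12 in
theorem Ta_ee_inl2 : Ta i1 i2 (ee (Sum.inl i2)) = ee (Sum.inl i1) + ee (Sum.inl i2) := by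
  funext k
  simp only [Ta, ee_apply, Pi.add_apply]
  rcases k with i | i
  · by_cases hi1 : i = i1 <;> by_cases hi2 : i = i2 <;> simp [hi1, hi2, h12, h12.symm]
  · by_cases hi2 : i = i2 <;> simp [hi2, h12, h12.symm]

include h12 in
theorem Ta_ee_inr2 : Ta i1 i2 (ee (Sum.inr i2)) = ee (Sum.inl i1) + ee (Sum.inr i2) := by
  funext k
  simp only [Ta, ee_apply, Pi.add_apply]
  rcases k with i | i
  · by_cases hi1 : i = i1 <;> by_cases hi2 : i = i2 <;> simp [hi1, hi2, h12, h12.symm]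
  · by_cases hi2 : i = i2 <;> simp [hi2, h12, h12.symm]

include h12 in
theorem Ta_ee_inr1 : Ta i1 i2 (ee (Sum.inr i1)) =
    ee (Sum.inl i1) + ee (Sum.inr i1) + ee (Sum.inl i2) + ee (Sum.inr i2) := by
  funext k
  simp only [Ta, ee_apply, Pi.add_apply]
  rcases k with i | i
  · by_cases hi1 : i = i1 <;> by_cases hi2 : i = i2 <;> simp [hi1, hi2, h12, h12.symm]
  · by_cases hi1 : i = i1 <;> by_cases hi2 : i = i2 <;> simp [hi1, hi2, h12, h12.symm]

include h01 h02 h12 in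
theorem Tb_ee_inl1 : Tb i0 i1 i2 (ee (Sum.inl i1)) = ee (Sum.inl i1) := by
  funext k
  simp only [Tb, ee_apply]
  rcases k with i | i
  · by_cases hi0 : i = i0 <;> by_cases hi1 : i = i1 <;> by_cases hi2 : i = i2 <;>
      simp [hi0, hi1, hi2, h01, h02, h12, h01.symm, h02.symm, h12.symm]
  · by_cases hi2 : i = i2 <;> simp [hi2, h12, h12.symm]

include h01 h02 h12 in
theorem Tb_ee_inr0 : Tb i0 i1 i2 (ee (Sum.inr i0)) = ee (Sum.inr i0) + ee (Sum.inl i1) := by
  funext k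
  simp only [Tb, ee_apply, Pi.add_apply]
  rcases k with i | i
  · by_cases hi0 : i = i0 <;> by_cases hi1 : i = i1 <;> by_cases hi2 : i = i2 <;>
      simp [hi0, hi1, hi2, h01, h02, h12, h01.symm, h02.symm, h12.symm]
  · by_cases hi0 : i = i0 <;> by_cases hi2 : i = i2 <;>
      simp [hi0, hi2, h02, h02.symm, h12, h12.symm]

include h01 h02 h12 in
theorem Tb_ee_inl2 : Tb i0 i1 i2 (ee (Sum.inl i2)) = ee (Sum.inr i2) := by
  funext k
  simp only [Tb, ee_apply]
  rcases k with i | i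
  · by_cases hi0 : i = i0 <;> by_cases hi1 : i = i1 <;> by_cases hi2 : i = i2 <;>
      simp [hi0, hi1, hi2, h01, h02, h12, h01.symm, h02.symm, h12.symm]
  · by_cases hi2 : i = i2 <;> simp [hi2, h12, h12.symm]

/-- the form vanishes on `ee (inl i)`, `ee (inr i)` and `ee (inl i) + ee (inl j)`. -/
theorem form_ee_inl (i : Fin n) : quadFormPlus n (ZMod 2) (ee (Sum.inl i)) = 0 := by
  unfold quadFormPlus
  apply Finset.sum_eq_zero
  intro j _
  simp [ee_apply]

theorem form_ee_inr (i : Fin n) : quadFormPlus n (ZMod 2) (ee (Sum.inr i)) = 0 := by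
  unfold quadFormPlus
  apply Finset.sum_eq_zero
  intro j _
  simp [ee_apply]

theorem form_ee_inl_add (i j : Fin n) :
    quadFormPlus n (ZMod 2) (ee (Sum.inl i) + ee (Sum.inl j)) = 0 := by
  unfold quadFormPlus
  apply Finset.sum_eq_zero
  intro k _
  simp [ee_apply]

theorem form_ee_pair (i : Fin n) :
    quadFormPlus n (ZMod 2) (ee (Sum.inl i) + ee (Sum.inr i)) = 1 := by
  unfold quadFormPlus
  rw [Finset.sum_eq_single i]
  · simp [ee_apply]
  · intro j _ hj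
    simp [ee_apply, hj]
  · intro h; exact absurd (Finset.mem_univ _) h

end

end Cfsg.Agent.Helper2.ExSplit
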