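import Mathlib

set_option autoImplicit false
set_option linter.unusedSimpArgs false
set_option linter.unreachableTactic false
set_option linter.unusedTactic false

/-!
Helper library (helper2): the word computation showing that a certain pair of commuting
involutory "isometries" cannot be lifted to commuting involutory automorphisms.
-/

namespace Cfsg.Agent.Helper2.ExSplit

theorem core {E : Type*} [Group E] (z x1 x2 x3 x4 x5 : E) (la lb : E ≃* E)
    (hz : ∀ y, z * y = y * z) (hzz : z * z = 1) (hz1 : z ≠ 1)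
    (h22 : x2 * x2 = 1) (h24 : x2 * x4 = x4 * x2)
    (h4545 : (x4 * x5) * (x4 * x5) = z)
    (haz : la z = z) (hbz : lb z = z)
    (a2 : la x2 = x2 ∨ la x2 = x2 * z)
    (a4 : la x4 = x2 * x4 ∨ la x4 = x2 * x4 * z)
    (a5 : la x5 = x2 * x5 ∨ la x5 = x2 * x5 * z)
    (a3 : la x3 = x2 * x3 * x4 * x5 ∨ la x3 = x2 * x3 * x4 * x5 * z)
    (b2 : lb x2 = x2 ∨ lb x2 = x2 * z)
    (b1 : lb x1 = x1 * x2 ∨ lb x1 = x1 * x2 * z)
    (b4 : lb x4 = x5 ∨ lb x4 = x5 * z)
    (A4 : la (la x4) = x4) (A3 : la (la x3) = x3) (B1 : lb (lb x1) = x1)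
    (C4 : la (lb x4) = lb (la x4)) : False := by
  -- rewriting rules
  have zl1 : ∀ w, x1 * (z * w) = z * (x1 * w) := fun w => by rw [← mul_assoc, ← hz, mul_assoc]
  have zl2 : ∀ w, x2 * (z * w) = z * (x2 * w) := fun w => by rw [← mul_assoc, ← hz, mul_assoc]
  have zl3 : ∀ w, x3 * (z * w) = z * (x3 * w) := fun w => by rw [← mul_assoc, ← hz, mul_assoc]
  have zl4 : ∀ w, x4 * (z * w) = z * (x4 * w) := fun w => by rw [← mul_assoc, ← hz, mul_assoc]
  have zl5 : ∀ w, x5 * (z * w) = z * (x5 * w) := fun w => by rw [← mul_assoc, ← hz, mul_assoc]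
  have ze1 : x1 * z = z * x1 := (hz x1).symm
  have ze2 : x2 * z = z * x2 := (hz x2).symm
  have ze3 : x3 * z = z * x3 := (hz x3).symm
  have ze4 : x4 * z = z * x4 := (hz x4).symm
  have ze5 : x5 * z = z * x5 := (hz x5).symm
  have zzw : ∀ w, z * (z * w) = w := fun w => by rw [← mul_assoc, hzz, one_mul]
  have x22w : ∀ w, x2 * (x2 * w) = w := fun w => by rw [← mul_assoc, h22, one_mul]
  have x24w : ∀ w, x2 * (x4 * w) = x4 * (x2 * w) := fun w => by
    rw [← mul_assoc, h24, mul_assoc]
  have h45w : x4 * (x5 * (x4 * x5)) = z := by rw [← h4545]; simp only [mul_assoc]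
  have key : ∀ y : E, z * y = y → False := fun y hy => hz1 (mul_eq_right.mp hy)
  -- step A : la x2 = x2
  have ha2 : la x2 = x2 := by
    rcases a2 with h | h
    · exact h
    · exfalso
      rcases a4 with h4 | h4
      · rw [h4, map_mul, h, h4] at A4
        simp only [mul_assoc, zl2, zl4, ze2, ze4, zzw, x22w, hzz, h22, mul_one] at A4
        exact key _ A4
      · rw [h4, map_mul, map_mul, h, h4, haz] at A4
        simp only [mul_assoc, zl2, zl4, ze2, ze4, zzw, x22w, hzz, h22, mul_one] at A4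
        exact key _ A4
  -- step B : lb x2 = x2
  have hb2 : lb x2 = x2 := by
    rcases b2 with h | h
    · exact h
    · exfalso
      rcases b1 with h1 | h1
      · rw [h1, map_mul, h, h1] at B1
        simp only [mul_assoc, zl1, zl2, ze1, ze2, zzw, x22w, hzz, h22, mul_one] at B1
        exact key _ B1
      · rw [h1, map_mul, map_mul, h, h1, hbz] at B1
        simp only [mul_assoc, zl1, zl2, ze1, ze2, zzw, x22w, hzz, h22, mul_one] at B1
        exact key _ B1
  -- step C : the two labels of `la x4`, `la x5` agree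
  have hC : (la x4 = x2 * x4 ∧ la x5 = x2 * x5) ∨ (la x4 = x2 * x4 * z ∧ la x5 = x2 * x5 * z) := by
    rcases a4 with h4 | h4 <;> rcases a5 with h5 | h5
    · exact Or.inl ⟨h4, h5⟩
    · exfalso
      rcases b4 with h4b | h4b
      · simp only [h4b, h4, h5, map_mul, ha2, hb2, haz, hbz, mul_assoc, zl2, zl4, zl5, ze2, ze4,
          ze5, zzw, x22w, hzz, h22, mul_one] at C4
        first | exact key _ C4 | exact key _ C4.symm
      · simp only [h4b, h4, h5, map_mul, ha2, hb2, haz, hbz, mul_assoc, zl2, zl4, zl5, ze2, ze4,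
          ze5, zzw, x22w, hzz, h22, mul_one] at C4
        first | exact key _ C4 | exact key _ C4.symm
    · exfalso
      rcases b4 with h4b | h4b
      · simp only [h4b, h4, h5, map_mul, ha2, hb2, haz, hbz, mul_assoc, zl2, zl4, zl5, ze2, ze4,
          ze5, zzw, x22w, hzz, h22, mul_one] at C4
        first | exact key _ C4 | exact key _ C4.symm
      · simp only [h4b, h4, h5, map_mul, ha2, hb2, haz, hbz, mul_assoc, zl2, zl4, zl5, ze2, ze4,
          ze5, zzw, x22w, hzz, h22, mul_one] at C4
        first | exact key _ C4 | exact key _ C4.symm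
    · exact Or.inr ⟨h4, h5⟩
  -- step D : contradiction from `la (la x3) = x3`
  rcases hC with ⟨h4, h5⟩ | ⟨h4, h5⟩ <;> rcases a3 with h3 | h3
  all_goals
    simp only [h3, h4, h5, map_mul, ha2, haz, mul_assoc, zl2, zl3, zl4, zl5, ze2, ze3, ze4,
      ze5, zzw, x22w, x24w, h45w, hzz, h22, mul_one] at A3
    first | exact key _ A3 | exact key _ A3.symm

end Cfsg.Agent.Helper2.ExSplit
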