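import Mathlib
import Cfsg.Agent.Helper4.ExOutMain
import Cfsg.Agent.Helper2.ExSplitA
import Cfsg.Agent.Helper2.ExSplitCore

set_option autoImplicit false

/-!
Helper library (helper2): the inner automorphism group of an extraspecial 2-group of plus type
of order `2 ^ (2 n + 1)`, `n ≥ 3`, has no complement in the automorphism group.
-/

namespace Cfsg.Agent.Helper2.ExSplit

open Cfsg Cfsg.Agent.Helper4.ExOut Cfsg.Agent.Helper3.AutEx

/-- plus-type coordinates of an extraspecial 2-group having a large elementary abelian subgroup. -/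
theorem exists_coord_plus {E : Type*} [Group E] [Finite E] (hE : IsExtraspecial 2 E) (n : ℕ)
    (hn : 1 ≤ n) (hcard : Nat.card E = 2 ^ (2 * n + 1))
    (hplus : ∃ A : Subgroup E, IsElementaryAbelian 2 A ∧ Nat.card ↥A = 2 ^ (n + 1)) :
    ∃ (z : E) (c : E → VV n), Coord z c (quadFormPlus n (ZMod 2)) := by
  have : Fact (Nat.Prime 2) := ⟨Nat.prime_two⟩
  have hC := Cfsg.Agent.Helper3.Extra.inClass_of_isExtraspecial hE
  obtain ⟨z, he⟩ := exists_e2 hC
  obtain ⟨c, Qs, h, hpol⟩ := exists_symp_coord he hC.card_center n hcard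
  have hcls := (Cfsg.Agent.S2561.result n hn).2.1 Qs hpol
  obtain ⟨-, -, -, hts_minus⟩ := Cfsg.Agent.S2562.result n hn
  rcases hcls with ⟨g, hg⟩ | ⟨g, hg⟩
  · exact ⟨z, _, h.comp g.toAddEquiv (quadFormPlus n (ZMod 2)) hg⟩
  · exfalso
    have h' := h.comp g.toAddEquiv (quadFormMinus (n - 1) (ZMod 2) 1 1) hg
    obtain ⟨A, hA, hAc⟩ := hplus
    obtain ⟨U, hU0, hle⟩ := h'.exists_ts A hA
    have h1 := hts_minus U hU0
    rw [hAc, card_submodule_z2, ← pow_succ'] at hle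
    have h2 := (Nat.pow_le_pow_iff_right (by norm_num : 1 < 2)).mp hle
    omega

section
variable {E : Type*} [Group E] {ι : Type} {z : E} {c : E → (ι → ZMod 2)}
  {Qs : (ι → ZMod 2) → ZMod 2}

theorem map_inn (h : Coord z c Qs) (i : MulAut E) (hi : i ∈ Inn E) (x : E) : c (i x) = c x := by
  obtain ⟨g, rfl⟩ := hi
  rw [MulAut.conj_apply, h.map_mul, h.map_mul, h.map_inv, add_comm (c g), add_assoc,
    Coord.vec_add_self, add_zero]

theorem eq_one_of_trivial [Finite E] (h : Coord z c Qs) (hE : IsExtraspecial 2 E)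
    {L : Subgroup (MulAut E)} (hL : (Inn E).IsComplement' L) (l : MulAut E) (hl : l ∈ L)
    (hc : ∀ x, c (l x) = c x) : l = 1 := by
  have : Fact (Nat.Prime 2) := ⟨Nat.prime_two⟩
  have h2 : ∀ x : E, l x * x⁻¹ ∈ Subgroup.center E := by
    intro x
    have h3 : c (l x * x⁻¹) = 0 := by rw [h.map_mul, h.map_inv, hc, Coord.vec_add_self]
    rw [Subgroup.mem_center_iff]
    rcases (h.ker _).mp h3 with h4 | h4
    · intro y
      rw [h4, mul_one, one_mul]
    · intro y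
      rw [h4]
      exact (h.z_cen y).symm
  obtain ⟨g, hg⟩ := Cfsg.Agent.Lead.inner_of_trivial_mod_center hE l h2
  have hmem : l ∈ Inn E := ⟨g, by ext x; rw [MulAut.conj_apply, hg]⟩
  exact (Subgroup.disjoint_def.mp hL.disjoint) hmem hl

theorem exists_lift_mem (h : Coord z c Qs) {L : Subgroup (MulAut E)}
    (hL : (Inn E).IsComplement' L) (T : (ι → ZMod 2) ≃+ (ι → ZMod 2))
    (hT : ∀ v, Qs (T v) = Qs v) : ∃ l : MulAut E, l ∈ L ∧ ∀ x, c (l x) = T (c x) := by
  obtain ⟨φ, hφ⟩ := h.exists_lift T hT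
  obtain ⟨⟨⟨i, hi⟩, ⟨l, hl⟩⟩, hil, -⟩ :=
    (Subgroup.isComplement'_def.mp hL).existsUnique (φ : MulAut E)
  refine ⟨l, hl, fun x => ?_⟩
  have hil' : i * l = φ := hil
  have h1 : φ x = i (l x) := by rw [← hil']; rfl
  rw [← hφ, h1, map_inn h i hi]

end

theorem no_complement {E : Type*} [Group E] [Finite E] {n : ℕ} (hn : 3 ≤ n) {z : E}
    {c : E → VV n} (h : Coord z c (quadFormPlus n (ZMod 2))) (hE : IsExtraspecial 2 E)
    (L : Subgroup (MulAut E)) (hL : (Inn E).IsComplement' L) : False := by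
  classical
  obtain ⟨i0, i1, i2, h01, h02, h12⟩ : ∃ i0 i1 i2 : Fin n, i0 ≠ i1 ∧ i0 ≠ i2 ∧ i1 ≠ i2 :=
    ⟨⟨0, by omega⟩, ⟨1, by omega⟩, ⟨2, by omega⟩, by simp [Fin.ext_iff], by simp [Fin.ext_iff],
      by simp [Fin.ext_iff]⟩
  obtain ⟨la, hlaL, hla⟩ := exists_lift_mem h hL (TaEquiv i1 i2 h12) (Ta_form h12)
  obtain ⟨lb, hlbL, hlb⟩ := exists_lift_mem h hL (TbEquiv i0 i1 i2 h01 h02 h12)
    (Tb_form h01 h02 h12)
  have hla' : ∀ x, c (la x) = Ta i1 i2 (c x) := hla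
  have hlb' : ∀ x, c (lb x) = Tb i0 i1 i2 (c x) := hlb
  have hla2 : la * la = 1 := eq_one_of_trivial h hE hL _ (L.mul_mem hlaL hlaL) (fun x => by
    show c (la (la x)) = c x
    rw [hla', hla', Ta_Ta h12])
  have hlb2 : lb * lb = 1 := eq_one_of_trivial h hE hL _ (L.mul_mem hlbL hlbL) (fun x => by
    show c (lb (lb x)) = c x
    rw [hlb', hlb', Tb_Tb h01 h02 h12])
  have hcm : la * lb * (la * lb) = 1 := eq_one_of_trivial h hE hL _
    (L.mul_mem (L.mul_mem hlaL hlbL) (L.mul_mem hlaL hlbL)) (fun x => by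
    show c (la (lb (la (lb x)))) = c x
    rw [hla', hlb', hla', hlb', Ta_Tb h01 h02 h12 (c x), Tb_Tb h01 h02 h12, Ta_Ta h12])
  have hlala : ∀ x, la (la x) = x := fun x => by
    have := congrArg (fun f : MulAut E => f x) hla2
    simpa using this
  have hlblb : ∀ x, lb (lb x) = x := fun x => by
    have := congrArg (fun f : MulAut E => f x) hlb2
    simpa using this
  have hcm' : ∀ x, la (lb (la (lb x))) = x := fun x => by
    have := congrArg (fun f : MulAut E => f x) hcm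
    simpa using this
  have hcomm : ∀ x, la (lb x) = lb (la x) := fun x => by
    have h1 := hcm' (lb (la x))
    rw [hlblb, hlala] at h1
    exact h1
  -- the elements
  set x1 : E := h.sec' (ee (Sum.inr i0)) with hx1
  set x2 : E := h.sec' (ee (Sum.inl i1)) with hx2
  set x3 : E := h.sec' (ee (Sum.inr i1)) with hx3
  set x4 : E := h.sec' (ee (Sum.inl i2)) with hx4
  set x5 : E := h.sec' (ee (Sum.inr i2)) with hx5
  have c1 : c x1 = ee (Sum.inr i0) := h.map_sec' _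
  have c2 : c x2 = ee (Sum.inl i1) := h.map_sec' _
  have c3 : c x3 = ee (Sum.inr i1) := h.map_sec' _
  have c4 : c x4 = ee (Sum.inl i2) := h.map_sec' _
  have c5 : c x5 = ee (Sum.inr i2) := h.map_sec' _
  have h22 : x2 * x2 = 1 := h.sq0 x2 (by rw [c2]; exact form_ee_inl _)
  have h44 : x4 * x4 = 1 := h.sq0 x4 (by rw [c4]; exact form_ee_inl _)
  have h2424 : (x2 * x4) * (x2 * x4) = 1 :=
    h.sq0 _ (by rw [h.map_mul, c2, c4]; exact form_ee_inl_add _ _)
  have h24 : x2 * x4 = x4 * x2 := by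
    have e1 : x2 * x4 = (x2 * x4)⁻¹ := eq_inv_of_mul_eq_one_left h2424
    have e2 : x2⁻¹ = x2 := inv_eq_of_mul_eq_one_left h22
    have e4 : x4⁻¹ = x4 := inv_eq_of_mul_eq_one_left h44
    rw [e1, mul_inv_rev, e2, e4]
  have h4545 : (x4 * x5) * (x4 * x5) = z :=
    h.sq1 _ (by rw [h.map_mul, c4, c5, form_ee_pair]; exact one_ne_zero)
  have eqof : ∀ x y : E, c y = c x → (y = x ∨ y = x * z) := fun x y hxy =>
    h.eq_of_map_eq hxy.symm
  refine core z x1 x2 x3 x4 x5 la lb h.z_cen h.z_sq h.z_ne h22 h24 h4545 (h.aut_z la)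
    (h.aut_z lb) ?_ ?_ ?_ ?_ ?_ ?_ ?_ (hlala x4) (hlala x3) (hlblb x1) (hcomm x4)
  · exact eqof _ _ (by rw [hla', c2, Ta_ee_inl1 h12])
  · exact eqof _ _ (by rw [hla', c4, Ta_ee_inl2 h12, h.map_mul, c2, c4])
  · exact eqof _ _ (by rw [hla', c5, Ta_ee_inr2 h12, h.map_mul, c2, c5])
  · exact eqof _ _ (by
      rw [hla', c3, Ta_ee_inr1 h12, h.map_mul, h.map_mul, h.map_mul, c2, c3, c4, c5])
  · exact eqof _ _ (by rw [hlb', c2, Tb_ee_inl1 h01 h02 h12])
  · exact eqof _ _ (by rw [hlb', c1, Tb_ee_inr0 h01 h02 h12, h.map_mul, c1, c2])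
  · exact eqof _ _ (by rw [hlb', c4, Tb_ee_inl2 h01 h02 h12, c5])

end Cfsg.Agent.Helper2.ExSplit
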