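import Mathlib
import Cfsg.Agent.Helper8.ExtOA
import Cfsg.Agent.Helper8.AschOmN2A
import Cfsg.Agent.Lead.OrthPlaneC

set_option autoImplicit false
set_option linter.unusedSectionVars false

/-!
# S5700, matrix side (M1): the quadratic-extension data from the frozen hypotheses (helper2)

From an adjoint-closed, not self-adjoint field `K` of degree two acting by similarities of `Q` we
produce a generator `θ` of `K` such that `Matrix.toLin' θ` is a `UStr` for the bundled form.
-/

namespace Cfsg.Agent.Helper2.ExtO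

open Cfsg Cfsg.Geo Cfsg.Agent.Helper8.ExtO Cfsg.Agent.Lead.OrthPlane
open scoped Matrix

variable {F : Type*} [Field F] {n : ℕ}

/-- **(M1)** the data. -/
theorem exists_ustr (Q₀ : (Fin n → F) → F) (hQ₀ : IsNondegenerateQuadraticForm Q₀)
    (K : Subalgebra F (Matrix (Fin n) (Fin n) F)) (hK : IsFieldSubalgebra 2 K)
    (hac : IsAdjointClosedFor (QuadraticMap.polar Q₀) K)
    (hnsa : ¬ IsSelfAdjointFor (QuadraticMap.polar Q₀) K)
    (hsc : ∀ k ∈ K, ∃ c : F, ∀ v : Fin n → F, Q₀ (k *ᵥ v) = c * Q₀ v) :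
    ∃ (θ : Matrix (Fin n) (Fin n) F) (t N : F), θ ∈ K ∧
      (∀ k ∈ K, ∃ a b : F, k = a • (1 : Matrix (Fin n) (Fin n) F) + b • θ) ∧
      UStr (bundle Q₀ hQ₀) (Matrix.toLin' θ) t N := by
  classical
  obtain ⟨θ, θ', t, ν, hθK, hθ'K, hadj, ht, hν, hspan⟩ :=
    Cfsg.Agent.Helper8.AschOm.exists_generator_two Q₀ hQ₀ K hK hac hnsa
  obtain ⟨Q, hQdef⟩ : ∃ Q : QuadraticForm F (Fin n → F), Q = bundle Q₀ hQ₀ := ⟨_, rfl⟩
  have hQv : ∀ v, Q v = Q₀ v := by intro v; rw [hQdef]; rfl
  have hpol : ∀ u v, QuadraticMap.polar Q u v = QuadraticMap.polar Q₀ u v := by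
    intro u v; rw [hQdef]; rfl
  have hθ' : θ' = t • (1 : Matrix (Fin n) (Fin n) F) - θ := by rw [← ht]; abel
  have hθ'θ : θ' * θ = ν • (1 : Matrix (Fin n) (Fin n) F) := by
    rw [hK.comm θ' hθ'K θ hθK]; exact hν
  have hsqM : θ * θ = t • θ - ν • (1 : Matrix (Fin n) (Fin n) F) := by
    rw [← hν, hθ', Matrix.mul_sub, Matrix.mul_smul, Matrix.mul_one]
    abel
  -- the polar form is not zero
  obtain ⟨u₀, v₀, huv₀⟩ : ∃ u₀ v₀ : Fin n → F, QuadraticMap.polar Q u₀ v₀ ≠ 0 := by
    by_contra hcon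
    push Not at hcon
    apply hnsa
    intro k _ u v
    rw [← hpol, ← hpol, hcon, hcon]
  have hone : (1 : Matrix (Fin n) (Fin n) F) ≠ 0 := by
    intro h1
    apply huv₀
    have : u₀ = 0 := by rw [← Matrix.one_mulVec u₀, h1, Matrix.zero_mulVec]
    rw [this, QuadraticMap.polar_zero_left]
  -- `θ` is not a scalar
  have hns : ∀ c : F, θ ≠ c • (1 : Matrix (Fin n) (Fin n) F) := by
    intro c hc
    apply hnsa
    intro k hk u v
    obtain ⟨a, b, rfl⟩ := hspan k hk
    rw [hc, smul_smul, ← add_smul, Matrix.smul_mulVec, Matrix.smul_mulVec, Matrix.one_mulVec,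
      Matrix.one_mulVec, ← hpol, ← hpol, QuadraticMap.polar_smul_left,
      QuadraticMap.polar_smul_right]
  have hadjQ : ∀ u v, QuadraticMap.polar Q (θ *ᵥ u) v = QuadraticMap.polar Q u (θ' *ᵥ v) := by
    intro u v; rw [hpol, hpol]; exact hadj u v
  have hθ'v : ∀ v, θ' *ᵥ v = t • v - θ *ᵥ v := by
    intro v
    rw [hθ', Matrix.sub_mulVec, Matrix.smul_mulVec, Matrix.one_mulVec]
  have hadj2 : ∀ u v, QuadraticMap.polar Q (θ *ᵥ u) v
      = t * QuadraticMap.polar Q u v - QuadraticMap.polar Q u (θ *ᵥ v) := by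
    intro u v
    rw [hadjQ, hθ'v, QuadraticMap.polar_sub_right, QuadraticMap.polar_smul_right, smul_eq_mul]
  have hee : ∀ u v, QuadraticMap.polar Q (θ *ᵥ u) (θ *ᵥ v) = ν * QuadraticMap.polar Q u v := by
    intro u v
    rw [hadjQ, Matrix.mulVec_mulVec, hθ'θ, Matrix.smul_mulVec, Matrix.one_mulVec,
      QuadraticMap.polar_smul_right, smul_eq_mul]
  -- the multiplier of `θ` is `ν`
  have hquad : ∀ v, Q (θ *ᵥ v) = ν * Q v := by
    obtain ⟨c, hc⟩ := hsc θ hθK
    have hc' : ∀ v, Q (θ *ᵥ v) = c * Q v := by intro v; rw [hQv, hQv]; exact hc v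
    have h1 : ∀ u v, QuadraticMap.polar Q (θ *ᵥ u) (θ *ᵥ v) = c * QuadraticMap.polar Q u v := by
      intro u v
      unfold QuadraticMap.polar
      rw [← Matrix.mulVec_add, hc', hc', hc']
      ring
    have h2 : c = ν := by
      have h3 := h1 u₀ v₀
      rw [hee] at h3
      have h4 : (ν - c) * QuadraticMap.polar Q u₀ v₀ = 0 := by linear_combination h3
      rcases mul_eq_zero.mp h4 with h5 | h5
      · exact (sub_eq_zero.mp h5).symm
      · exact absurd h5 huv₀
    intro v
    rw [hc', h2]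
  -- `B(v, θ v) = t Q(v)`
  have hself : ∀ v, QuadraticMap.polar Q v (θ *ᵥ v) = t * Q v := by
    obtain ⟨c, hc⟩ := hsc (1 + θ) (K.add_mem K.one_mem hθK)
    have hc' : ∀ v, Q (v + θ *ᵥ v) = c * Q v := by
      intro v
      rw [hQv, hQv, ← hc v, Matrix.add_mulVec, Matrix.one_mulVec]
    have h1 : ∀ v, QuadraticMap.polar Q v (θ *ᵥ v) = (c - 1 - ν) * Q v := by
      intro v
      have := hc' v
      rw [QuadraticMap.map_add Q, hquad] at this
      linear_combination this
    have h2 : ∀ u v, QuadraticMap.polar Q u (θ *ᵥ v) + QuadraticMap.polar Q v (θ *ᵥ u)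
        = (c - 1 - ν) * QuadraticMap.polar Q u v := by
      intro u v
      have e1 := h1 (u + v)
      rw [Matrix.mulVec_add, QuadraticMap.polar_add_left, QuadraticMap.polar_add_right,
        QuadraticMap.polar_add_right, h1 u, h1 v, QuadraticMap.map_add Q] at e1
      linear_combination e1
    have h3 : c - 1 - ν = t := by
      have e1 := h2 u₀ v₀
      rw [QuadraticMap.polar_comm Q v₀ (θ *ᵥ u₀), hadj2] at e1
      have e2 : (t - (c - 1 - ν)) * QuadraticMap.polar Q u₀ v₀ = 0 := by linear_combination e1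
      rcases mul_eq_zero.mp e2 with h5 | h5
      · exact (sub_eq_zero.mp h5).symm
      · exact absurd h5 huv₀
    intro v
    rw [h1, h3]
  -- the norm form is anisotropic
  have haniso : ∀ a b : F, a * a + t * a * b + ν * b * b = 0 → a = 0 ∧ b = 0 := by
    intro a b hab
    have hprod : (a • (1 : Matrix (Fin n) (Fin n) F) + b • θ) * (a • (1 : Matrix (Fin n) (Fin n) F) + b • θ')
        = 0 := by
      have e1 : (a • (1 : Matrix (Fin n) (Fin n) F) + b • θ) * (a • (1 : Matrix (Fin n) (Fin n) F) + b • θ')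
          = (a * a) • (1 : Matrix (Fin n) (Fin n) F) + (a * b) • (θ + θ') + (b * b) • (θ * θ') := by
        rw [Matrix.add_mul, Matrix.mul_add, Matrix.mul_add, Matrix.smul_mul, Matrix.smul_mul,
          Matrix.smul_mul, Matrix.smul_mul, Matrix.mul_smul, Matrix.mul_smul, Matrix.mul_smul,
          Matrix.mul_smul, Matrix.one_mul, Matrix.one_mul, Matrix.mul_one, smul_smul, smul_smul,
          smul_smul, smul_smul, smul_add]
        rw [mul_comm b a]
        abel
      rw [e1, ht, hν, smul_smul, smul_smul, ← add_smul, ← add_smul]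
      have : a * a + a * b * t + b * b * ν = 0 := by linear_combination hab
      rw [this, zero_smul]
    have hxK : a • (1 : Matrix (Fin n) (Fin n) F) + b • θ ∈ K :=
      K.add_mem (K.smul_mem K.one_mem a) (K.smul_mem hθK b)
    have hyK : a • (1 : Matrix (Fin n) (Fin n) F) + b • θ' ∈ K :=
      K.add_mem (K.smul_mem K.one_mem a) (K.smul_mem hθ'K b)
    -- a scalar relation forces `b = 0`
    have hb_of : ∀ θ₁ : Matrix (Fin n) (Fin n) F, (∀ c : F, θ₁ ≠ c • (1 : Matrix (Fin n) (Fin n) F)) →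
        a • (1 : Matrix (Fin n) (Fin n) F) + b • θ₁ = 0 → a = 0 ∧ b = 0 := by
      intro θ₁ hθ₁ h0
      have hb : b = 0 := by
        by_contra hb
        apply hθ₁ (-(b⁻¹ * a))
        have h1 : b • θ₁ = -(a • (1 : Matrix (Fin n) (Fin n) F)) := eq_neg_of_add_eq_zero_right h0
        have := congrArg (fun M => b⁻¹ • M) h1
        simp only [smul_smul, inv_mul_cancel₀ hb, one_smul, smul_neg] at this
        rw [this, neg_smul]
      refine ⟨?_, hb⟩
      rw [hb, zero_smul, add_zero] at h0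
      by_contra ha
      apply hone
      have := congrArg (fun M => a⁻¹ • M) h0
      simpa [smul_smul, inv_mul_cancel₀ ha] using this
    have hns' : ∀ c : F, θ' ≠ c • (1 : Matrix (Fin n) (Fin n) F) := by
      intro c hc
      apply hns (t - c)
      have : θ = t • (1 : Matrix (Fin n) (Fin n) F) - θ' := by rw [← ht]; abel
      rw [this, hc, sub_smul]
    by_cases hx0 : a • (1 : Matrix (Fin n) (Fin n) F) + b • θ = 0
    · exact hb_of θ hns hx0
    · obtain ⟨y, hyK', hxy⟩ := hK.inv _ hxK hx0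
      have hyx : y * (a • (1 : Matrix (Fin n) (Fin n) F) + b • θ) = 1 := by
        rw [hK.comm y hyK' _ hxK]; exact hxy
      have h0 : a • (1 : Matrix (Fin n) (Fin n) F) + b • θ' = 0 := by
        have := congrArg (fun M => y * M) hprod
        simp only [Matrix.mul_zero] at this
        rw [← Matrix.mul_assoc, hyx, Matrix.one_mul] at this
        exact this
      exact hb_of θ' hns' h0
  refine ⟨θ, t, ν, hθK, hspan, ?_⟩
  rw [← hQdef]
  refine ⟨?_, ?_, ?_, ?_, haniso⟩
  · intro x
    rw [Matrix.toLin'_apply, Matrix.toLin'_apply, Matrix.mulVec_mulVec, hsqM, Matrix.sub_mulVec,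
      Matrix.smul_mulVec, Matrix.smul_mulVec, Matrix.one_mulVec]
  · intro x y
    rw [Matrix.toLin'_apply, Matrix.toLin'_apply]
    exact hadj2 x y
  · intro x
    rw [Matrix.toLin'_apply]
    exact hquad x
  · intro x
    rw [Matrix.toLin'_apply]
    exact hself x

end Cfsg.Agent.Helper2.ExtO
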