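import Mathlib
import Cfsg.Agent.Helper8.ExtOA
import Cfsg.Agent.Helper7.OrthMaxF

set_option autoImplicit false
set_option linter.unusedSectionVars false

/-!
# S5700, abstract side: (E0) and (P3) (helper2)

* `exists_singular_not_mem` : a subspace of dimension at least three more than another one contains
  a singular vector outside it;
* `UStr.indep4` : independence of `x, εx, y, εy` when `y` is outside the line of `x`;
* `exists_singular_not_line` : a linear map keeping every singular line of the quadratic extension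
  lies in `F + F ε`.
-/

namespace Cfsg.Agent.Helper2.ExtO

open Module Cfsg.Agent.Helper8.QuadForm Cfsg.Agent.Helper8.WittQuad Cfsg.Agent.Helper8.OrthOrder
  Cfsg.Agent.Helper8.Siegel Cfsg.Agent.Helper8.SiegelGeom Cfsg.Agent.Helper8.SiegelGroup
  Cfsg.Agent.Helper8.SiegelSimple Cfsg.Agent.Helper8.ExtO

variable {F : Type*} [Field F] {V : Type*} [AddCommGroup V] [Module F V]

/-- **(E0)** a subspace of dimension at least three more than another one contains a singular
vector outside it. -/
theorem exists_singular_not_mem [Finite F] [FiniteDimensional F V] (Q : QuadraticForm F V)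
    (S U : Submodule F V) (h : finrank F U + 3 ≤ finrank F S) :
    ∃ y ∈ S, y ∉ U ∧ Q y = 0 := by
  obtain ⟨C', hC'⟩ := Submodule.exists_isCompl (U.comap S.subtype)
  have h1 : finrank F ↥(U.comap S.subtype) + finrank F ↥C' = finrank F ↥S :=
    Submodule.finrank_add_eq_of_isCompl hC'
  have h2 : finrank F ↥(U.comap S.subtype) ≤ finrank F ↥U := by
    let φ : ↥(U.comap S.subtype) →ₗ[F] ↥U :=
      { toFun := fun x => ⟨((x : ↥S) : V), x.2⟩
        map_add' := fun _ _ => rfl
        map_smul' := fun _ _ => rfl }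
    apply LinearMap.finrank_le_finrank_of_injective (f := φ)
    intro x y hxy
    have h0 : ((x : ↥S) : V) = ((y : ↥S) : V) := congrArg (fun z : ↥U => (z : V)) hxy
    exact Subtype.ext (Subtype.ext h0)
  have h3 : finrank F ↥(C'.map S.subtype) = finrank F ↥C' :=
    (Submodule.equivMapOfInjective S.subtype S.injective_subtype C').finrank_eq.symm
  obtain ⟨y, hyC, hy0, hy⟩ := Cfsg.Agent.Helper7.OrthMax.exists_singular_in Q (C'.map S.subtype)
    (by omega)
  obtain ⟨y', hy'C, rfl⟩ := hyC
  refine ⟨_, y'.2, ?_, hy⟩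
  intro hyU
  apply hy0
  have : y' ∈ U.comap S.subtype ⊓ C' := ⟨hyU, hy'C⟩
  rw [hC'.inf_eq_bot, Submodule.mem_bot] at this
  rw [this]
  rfl

section udata

variable {Q : QuadraticForm F V} {ε : V →ₗ[F] V} {t N : F}

/-- **independence over the quadratic extension**: if `y` is not in the line of `x` then
`x, εx, y, εy` are linearly independent. -/
theorem indep4 (h : UStr Q ε t N) {x y : V} (hx : x ≠ 0)
    (hy : ∀ a b : F, y ≠ a • x + b • ε x) {a b c d : F}
    (he : a • x + b • ε x + c • y + d • ε y = 0) : a = 0 ∧ b = 0 ∧ c = 0 ∧ d = 0 := by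
  have he2 : a • ε x + b • (t • ε x - N • x) + c • ε y + d • (t • ε y - N • y) = 0 := by
    have := congrArg ε he
    rw [map_add, map_add, map_add, map_smul, map_smul, map_smul, map_smul, h.sq, h.sq,
      map_zero] at this
    exact this
  have hn : (c * c + t * c * d + N * d * d) • y
      = (-((c + d * t) * a) - d * b * N) • x + (-((c + d * t) * b) + d * a + d * b * t) • ε x := by
    have e1 : (c * c + t * c * d + N * d * d) • y
        = (c + d * t) • (a • x + b • ε x + c • y + d • ε y)
          - d • (a • ε x + b • (t • ε x - N • x) + c • ε y + d • (t • ε y - N • y))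
          + ((-((c + d * t) * a) - d * b * N) • x
            + (-((c + d * t) * b) + d * a + d * b * t) • ε x) := by module
    rw [e1, he, he2, smul_zero, smul_zero, sub_zero, zero_add]
  have hcd : c = 0 ∧ d = 0 := by
    by_contra hne
    have hn0 := h.norm_ne_zero hne
    apply hy ((c * c + t * c * d + N * d * d)⁻¹ * (-((c + d * t) * a) - d * b * N))
        ((c * c + t * c * d + N * d * d)⁻¹ * (-((c + d * t) * b) + d * a + d * b * t))
    rw [← smul_smul, ← smul_smul, ← smul_add, ← hn, smul_smul, inv_mul_cancel₀ hn0, one_smul]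
  obtain ⟨hc, hd⟩ := hcd
  rw [hc, hd, zero_smul, zero_smul, add_zero, add_zero] at he
  obtain ⟨ha, hb⟩ := h.indep hx he
  exact ⟨ha, hb, hc, hd⟩

/-- being outside the line is symmetric. -/
theorem not_line_symm (h : UStr Q ε t N) {x y : V} (hx : x ≠ 0)
    (hy : ∀ a b : F, y ≠ a • x + b • ε x) : ∀ c d : F, x ≠ c • y + d • ε y := by
  intro c d hcd
  have he : (-1 : F) • x + (0 : F) • ε x + c • y + d • ε y = 0 := by
    have e0 : (-1 : F) • x + (0 : F) • ε x + c • y + d • ε y = (c • y + d • ε y) - x := by module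
    rw [e0, ← hcd, sub_self]
  have := (indep4 h hx hy he).1
  exact one_ne_zero (neg_eq_zero.mp this)

/-- two orthogonal singular vectors on different lines carry the same coefficients. -/
theorem coeff_eq_of_perp (h : UStr Q ε t N) (ε' : V →ₗ[F] V)
    (hline : ∀ z, z ≠ 0 → Q z = 0 → ∃ a b : F, ε' z = a • z + b • ε z) {x z : V} (hx0 : x ≠ 0)
    (hx : Q x = 0) (hz : Q z = 0) (hxz : QuadraticMap.polar Q x z = 0)
    (hzx : ∀ a b : F, z ≠ a • x + b • ε x) {a b a' b' : F} (hax : ε' x = a • x + b • ε x)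
    (haz : ε' z = a' • z + b' • ε z) : a = a' ∧ b = b' := by
  have hs0 : x + z ≠ 0 := by
    intro h0
    apply hzx (-1) 0
    rw [neg_smul, one_smul, zero_smul, add_zero]
    exact (neg_eq_of_add_eq_zero_right h0).symm
  have hsQ : Q (x + z) = 0 := by rw [QuadraticMap.map_add Q, hx, hz, hxz]; simp
  obtain ⟨a'', b'', hs⟩ := hline (x + z) hs0 hsQ
  rw [map_add, map_add, hax, haz] at hs
  have he : (a - a'') • x + (b - b'') • ε x + (a' - a'') • z + (b' - b'') • ε z = 0 := by
    have : (a - a'') • x + (b - b'') • ε x + (a' - a'') • z + (b' - b'') • ε z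
        = (a • x + b • ε x + (a' • z + b' • ε z)) - (a'' • (x + z) + b'' • (ε x + ε z)) := by
      module
    rw [this, hs, sub_self]
  obtain ⟨h1, h2, h3, h4⟩ := indep4 h hx0 hzx he
  rw [sub_eq_zero] at h1 h2 h3 h4
  exact ⟨h1.trans h3.symm, h2.trans h4.symm⟩

/-- **(P3)** a linear map which keeps every singular line of the extension is in `F + F ε`. -/
theorem exists_singular_not_line [Finite F] [FiniteDimensional F V] {Q : QuadraticForm F V}
    {ε : V →ₗ[F] V} {t N : F} (h : UStr Q ε t N) (hQ : Nondeg Q) (hdim : 13 ≤ finrank F V)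
    (ε' : V →ₗ[F] V) (H3 : ¬ ∃ a b : F, ∀ x, ε' x = a • x + b • ε x) :
    ∃ z, z ≠ 0 ∧ Q z = 0 ∧ ∀ a b : F, ε' z ≠ a • z + b • ε z := by
  by_contra hcon
  push Not at hcon
  have hline : ∀ z, z ≠ 0 → Q z = 0 → ∃ a b : F, ε' z = a • z + b • ε z := hcon
  apply H3
  obtain ⟨u₀, hu₀0, hu₀⟩ := exists_singular Q (by omega)
  obtain ⟨v₀, hv₀, huv₀⟩ := exists_hyperbolic_pair Q hQ hu₀0 hu₀
  obtain ⟨a, b, hab⟩ := hline u₀ hu₀0 hu₀
  refine ⟨a, b, ?_⟩
  -- every singular vector has the coefficients `a, b`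
  have key : ∀ c, Q c = 0 → ε' c = a • c + b • ε c := by
    intro c hc
    by_cases hc0 : c = 0
    · rw [hc0, map_zero, map_zero, smul_zero, smul_zero, add_zero]
    obtain ⟨a', b', hab'⟩ := hline c hc0 hc
    -- a common neighbour
    have hdimS := finrank_perpPair_ge Q u₀ c
    have hdimU : finrank F ↥(Submodule.span F (Set.range ![u₀, ε u₀, c, ε c])) ≤ 4 := by
      have := finrank_range_le_card (R := F) ![u₀, ε u₀, c, ε c]
      rw [Fintype.card_fin] at this
      exact this
    obtain ⟨y, hyS, hyU, hy⟩ := exists_singular_not_mem Q (perpPair Q u₀ c)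
      (Submodule.span F (Set.range ![u₀, ε u₀, c, ε c])) (by omega)
    rw [mem_perpPair] at hyS
    have hy0 : y ≠ 0 := by
      rintro rfl
      exact hyU (Submodule.zero_mem _)
    have hm0 : u₀ ∈ Submodule.span F (Set.range ![u₀, ε u₀, c, ε c]) :=
      Submodule.subset_span ⟨0, rfl⟩
    have hm1 : ε u₀ ∈ Submodule.span F (Set.range ![u₀, ε u₀, c, ε c]) :=
      Submodule.subset_span ⟨1, rfl⟩
    have hm2 : c ∈ Submodule.span F (Set.range ![u₀, ε u₀, c, ε c]) :=
      Submodule.subset_span ⟨2, rfl⟩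
    have hm3 : ε c ∈ Submodule.span F (Set.range ![u₀, ε u₀, c, ε c]) :=
      Submodule.subset_span ⟨3, rfl⟩
    have hy1 : ∀ p q : F, y ≠ p • u₀ + q • ε u₀ := by
      intro p q hpq
      apply hyU
      rw [hpq]
      exact Submodule.add_mem _ (Submodule.smul_mem _ _ hm0) (Submodule.smul_mem _ _ hm1)
    have hy2 : ∀ p q : F, y ≠ p • c + q • ε c := by
      intro p q hpq
      apply hyU
      rw [hpq]
      exact Submodule.add_mem _ (Submodule.smul_mem _ _ hm2) (Submodule.smul_mem _ _ hm3)
    obtain ⟨a'', b'', hab''⟩ := hline y hy0 hy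
    obtain ⟨e1, e2⟩ := coeff_eq_of_perp h ε' hline hu₀0 hu₀ hy hyS.1 hy1 hab hab''
    obtain ⟨e3, e4⟩ := coeff_eq_of_perp h ε' hline hc0 hc hy hyS.2 hy2 hab' hab''
    rw [hab', e3, e4, ← e1, ← e2]
  intro x
  have hx : x ∈ Submodule.span F {c | c ∈ (⊤ : Submodule F V) ∧ Q c = 0} :=
    mem_span_singular Q ⊤ (e := u₀) (f := v₀) trivial trivial hu₀ hv₀ huv₀ trivial
  obtain ⟨D, hD⟩ : ∃ D : V →ₗ[F] V, D = ε' - (a • (LinearMap.id : V →ₗ[F] V) + b • ε) :=
    ⟨_, rfl⟩
  have hDapp : ∀ y, D y = ε' y - (a • y + b • ε y) := by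
    intro y
    rw [hD]
    rfl
  have hle : Submodule.span F {c | c ∈ (⊤ : Submodule F V) ∧ Q c = 0} ≤ LinearMap.ker D := by
    rw [Submodule.span_le]
    rintro c ⟨-, hc⟩
    show D c = 0
    rw [hDapp, key c hc, sub_self]
  have := hle hx
  rw [LinearMap.mem_ker, hDapp, sub_eq_zero] at this
  exact this

end udata

end Cfsg.Agent.Helper2.ExtO
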