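import Mathlib
import Cfsg.Agent.Helper2.ExtOP3
import Cfsg.Agent.Helper7.OrthMaxC

set_option autoImplicit false
set_option linter.unusedSectionVars false

/-!
# S5700, matrix side (M2)-(M4) (helper2)

* `siegG_eps_comm` : the Siegel elements `siegG Q u (c • ε u)` commute with `ε` (FACT 0);
* `exists_coeff_of_mem_normalizer`, `mem_normalizer_of_coeff` : an isometry normalises `K = F[θ]` iff
  it conjugates `ε = toLin' θ` into `F + F ε`;
* `siegG_eps_mem` : FACT 0 on the matrix side;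
* `SG_le_of_not_normalizer` : an overgroup of `N(K) ∩ Ω` containing an element outside `N(K)`
  contains `Ω`, given the abstract core as a hypothesis;
* `exists_not_normalizer` : properness.
-/

namespace Cfsg.Agent.Helper2.ExtO

open Module Cfsg.Agent.Helper8.QuadForm Cfsg.Agent.Helper8.WittQuad Cfsg.Agent.Helper8.OrthOrder
  Cfsg.Agent.Helper8.Siegel Cfsg.Agent.Helper8.SiegelGeom Cfsg.Agent.Helper8.SiegelGroup
  Cfsg.Agent.Helper8.SiegelSimple Cfsg.Agent.Helper8.ExtO Cfsg.Agent.Helper7.OrthMax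
open scoped Matrix

section abstract

variable {F : Type*} [Field F] {V : Type*} [AddCommGroup V] [Module F V]
  {Q : QuadraticForm F V} {ε : V →ₗ[F] V} {t N : F}

/-- **FACT 0**: the Siegel elements of the lines of the extension commute with `ε`. -/
theorem siegG_eps_comm (h : UStr Q ε t N) {u : V} (hu : Q u = 0) (c : F) (x : V) :
    ((siegG Q u (c • ε u) : ↥(Isom Q)) : V ≃ₗ[F] V) (ε x)
      = ε (((siegG Q u (c • ε u) : ↥(Isom Q)) : V ≃ₗ[F] V) x) := by
  have h0 : QuadraticMap.polar Q u (c • ε u) = 0 := by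
    rw [QuadraticMap.polar_smul_right, h.polar_self_eps hu, smul_zero]
  have hQw : Q (c • ε u) = 0 := by rw [QuadraticMap.map_smul, h.Q_eps hu, smul_zero]
  rw [siegG_val, siegE_apply Q hu h0, siegE_apply Q hu h0, sieg_apply, sieg_apply, hQw,
    QuadraticMap.polar_smul_right, QuadraticMap.polar_smul_right, h.polar_eps_eps,
    h.adj x u, map_sub, map_sub, map_add, map_smul, map_smul, map_smul, map_smul, h.sq]
  simp only [smul_eq_mul]
  module

end abstract

section matrix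

variable {F : Type*} [Field F] {n : ℕ} (Q : QuadraticForm F (Fin n → F))
  (K : Subalgebra F (Matrix (Fin n) (Fin n) F)) {θ : Matrix (Fin n) (Fin n) F} {t N : F}

/-- an isometry normalising `K` conjugates `ε` into `F + F ε`. -/
theorem exists_coeff_of_mem_normalizer (hθK : θ ∈ K)
    (hspan : ∀ k ∈ K, ∃ a b : F, k = a • (1 : Matrix (Fin n) (Fin n) F) + b • θ)
    (k : ↥(Isom Q)) (hk : toGL Q k ∈ Cfsg.Geo.subalgebraNormalizer K) :
    ∃ a b : F, ∀ v : Fin n → F, (k : (Fin n → F) ≃ₗ[F] (Fin n → F)) (Matrix.toLin' θ v)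
      = a • (k : (Fin n → F) ≃ₗ[F] (Fin n → F)) v
        + b • Matrix.toLin' θ ((k : (Fin n → F) ≃ₗ[F] (Fin n → F)) v) := by
  obtain ⟨G, hG⟩ : ∃ G : GL (Fin n) F, G = toGL Q k := ⟨_, rfl⟩
  rw [← hG] at hk
  have hGv : ∀ v, (G : Matrix (Fin n) (Fin n) F) *ᵥ v = (k : (Fin n → F) ≃ₗ[F] (Fin n → F)) v := by
    intro v; rw [hG]; exact toGL_mulVec Q k v
  obtain ⟨a, b, hab⟩ := hspan _ ((hk θ).1 hθK)
  refine ⟨a, b, fun v => ?_⟩
  have e1 : (G : Matrix (Fin n) (Fin n) F) * θ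
      = (a • (1 : Matrix (Fin n) (Fin n) F) + b • θ) * (G : Matrix (Fin n) (Fin n) F) := by
    rw [← hab, Matrix.mul_assoc, Matrix.mul_assoc]
    have : ((G⁻¹ : GL (Fin n) F) : Matrix (Fin n) (Fin n) F) * (G : Matrix (Fin n) (Fin n) F) = 1 :=
      Units.inv_mul G
    rw [this, Matrix.mul_one]
  have e2 : ((G : Matrix (Fin n) (Fin n) F) * θ) *ᵥ v
      = ((a • (1 : Matrix (Fin n) (Fin n) F) + b • θ) * (G : Matrix (Fin n) (Fin n) F)) *ᵥ v := by
    rw [e1]
  rw [← Matrix.mulVec_mulVec, ← Matrix.mulVec_mulVec, Matrix.add_mulVec, Matrix.smul_mulVec,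
    Matrix.smul_mulVec, Matrix.one_mulVec, hGv, hGv] at e2
  rw [Matrix.toLin'_apply, Matrix.toLin'_apply]
  exact e2

/-- an isometry conjugating `ε` into `F + F ε` normalises `K`. -/
theorem mem_normalizer_of_coeff (hθK : θ ∈ K)
    (hspan : ∀ k ∈ K, ∃ a b : F, k = a • (1 : Matrix (Fin n) (Fin n) F) + b • θ)
    (h : UStr Q (Matrix.toLin' θ) t N) {x₀ : Fin n → F} (hx₀ : x₀ ≠ 0)
    (k : ↥(Isom Q)) {a b : F}
    (hab : ∀ v : Fin n → F, (k : (Fin n → F) ≃ₗ[F] (Fin n → F)) (Matrix.toLin' θ v)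
      = a • (k : (Fin n → F) ≃ₗ[F] (Fin n → F)) v
        + b • Matrix.toLin' θ ((k : (Fin n → F) ≃ₗ[F] (Fin n → F)) v)) :
    toGL Q k ∈ Cfsg.Geo.subalgebraNormalizer K := by
  obtain ⟨G, hG⟩ : ∃ G : GL (Fin n) F, G = toGL Q k := ⟨_, rfl⟩
  rw [← hG]
  have hGv : ∀ v, (G : Matrix (Fin n) (Fin n) F) *ᵥ v = (k : (Fin n → F) ≃ₗ[F] (Fin n → F)) v := by
    intro v; rw [hG]; exact toGL_mulVec Q k v
  obtain ⟨Gi, hGi⟩ : ∃ Gi : Matrix (Fin n) (Fin n) F,
      Gi = ((G⁻¹ : GL (Fin n) F) : Matrix (Fin n) (Fin n) F) := ⟨_, rfl⟩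
  have hGGi : (G : Matrix (Fin n) (Fin n) F) * Gi = 1 := by rw [hGi]; exact Units.mul_inv G
  have hGiG : Gi * (G : Matrix (Fin n) (Fin n) F) = 1 := by rw [hGi]; exact Units.inv_mul G
  -- the matrix relation
  have e1 : (G : Matrix (Fin n) (Fin n) F) * θ
      = (a • (1 : Matrix (Fin n) (Fin n) F) + b • θ) * (G : Matrix (Fin n) (Fin n) F) := by
    apply Matrix.toLin'.injective
    apply LinearMap.ext
    intro v
    rw [Matrix.toLin'_apply, Matrix.toLin'_apply, ← Matrix.mulVec_mulVec, ← Matrix.mulVec_mulVec,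
      Matrix.add_mulVec, Matrix.smul_mulVec, Matrix.smul_mulVec, Matrix.one_mulVec, hGv, hGv]
    have := hab v
    rw [Matrix.toLin'_apply, Matrix.toLin'_apply] at this
    exact this
  have e2 : (G : Matrix (Fin n) (Fin n) F) * θ * Gi
      = a • (1 : Matrix (Fin n) (Fin n) F) + b • θ := by
    rw [e1, Matrix.mul_assoc, hGGi, Matrix.mul_one]
  -- `b ≠ 0`
  have hb : b ≠ 0 := by
    intro hb
    rw [hb, zero_smul, add_zero] at e2
    have e3 : θ = a • (1 : Matrix (Fin n) (Fin n) F) := by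
      have : Gi * ((G : Matrix (Fin n) (Fin n) F) * θ * Gi) * (G : Matrix (Fin n) (Fin n) F)
          = Gi * (a • (1 : Matrix (Fin n) (Fin n) F)) * (G : Matrix (Fin n) (Fin n) F) := by
        rw [e2]
      rw [Matrix.mul_smul, Matrix.smul_mul, Matrix.mul_one, hGiG] at this
      rw [← this]
      calc θ = (Gi * (G : Matrix (Fin n) (Fin n) F)) * θ * (Gi * (G : Matrix (Fin n) (Fin n) F)) := by
            rw [hGiG, Matrix.one_mul, Matrix.mul_one]
        _ = _ := by simp only [Matrix.mul_assoc]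
    have e4 : (-a) • x₀ + (1 : F) • Matrix.toLin' θ x₀ = 0 := by
      rw [Matrix.toLin'_apply, e3, Matrix.smul_mulVec, Matrix.one_mulVec]
      module
    exact one_ne_zero (h.indep hx₀ e4).2
  -- the inverse conjugate of `θ`
  have e5 : Gi * θ * (G : Matrix (Fin n) (Fin n) F)
      = (-(b⁻¹ * a)) • (1 : Matrix (Fin n) (Fin n) F) + b⁻¹ • θ := by
    have e6 : θ = a • (1 : Matrix (Fin n) (Fin n) F)
        + b • (Gi * θ * (G : Matrix (Fin n) (Fin n) F)) := by
      have : Gi * ((G : Matrix (Fin n) (Fin n) F) * θ * Gi) * (G : Matrix (Fin n) (Fin n) F)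
          = Gi * (a • (1 : Matrix (Fin n) (Fin n) F) + b • θ) * (G : Matrix (Fin n) (Fin n) F) := by
        rw [e2]
      rw [Matrix.mul_add, Matrix.add_mul, Matrix.mul_smul, Matrix.smul_mul, Matrix.mul_one, hGiG,
        Matrix.mul_smul, Matrix.smul_mul] at this
      rw [← this]
      calc θ = (Gi * (G : Matrix (Fin n) (Fin n) F)) * θ * (Gi * (G : Matrix (Fin n) (Fin n) F)) := by
            rw [hGiG, Matrix.one_mul, Matrix.mul_one]
        _ = _ := by simp only [Matrix.mul_assoc]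
    have e7 : Gi * θ * (G : Matrix (Fin n) (Fin n) F)
        = b⁻¹ • (θ - a • (1 : Matrix (Fin n) (Fin n) F)) := by
      have : θ - a • (1 : Matrix (Fin n) (Fin n) F)
          = b • (Gi * θ * (G : Matrix (Fin n) (Fin n) F)) := by
        nth_rewrite 1 [e6]
        abel
      rw [this, smul_smul, inv_mul_cancel₀ hb, one_smul]
    rw [e7, smul_sub, smul_smul, neg_smul]
    abel
  intro κ
  rw [← hGi]
  constructor
  · intro hκ
    obtain ⟨a', b', rfl⟩ := hspan κ hκ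
    have : (G : Matrix (Fin n) (Fin n) F) * (a' • (1 : Matrix (Fin n) (Fin n) F) + b' • θ) * Gi
        = a' • (1 : Matrix (Fin n) (Fin n) F)
          + b' • (a • (1 : Matrix (Fin n) (Fin n) F) + b • θ) := by
      rw [Matrix.mul_add, Matrix.add_mul, Matrix.mul_smul, Matrix.smul_mul, Matrix.mul_one, hGGi,
        Matrix.mul_smul, Matrix.smul_mul, e2]
    rw [this]
    exact K.add_mem (K.smul_mem K.one_mem _)
      (K.smul_mem (K.add_mem (K.smul_mem K.one_mem _) (K.smul_mem hθK _)) _)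
  · intro hκ
    obtain ⟨a', b', hab'⟩ := hspan _ hκ
    have e8 : κ = Gi * ((G : Matrix (Fin n) (Fin n) F) * κ * Gi) * (G : Matrix (Fin n) (Fin n) F) := by
      calc κ = (Gi * (G : Matrix (Fin n) (Fin n) F)) * κ * (Gi * (G : Matrix (Fin n) (Fin n) F)) := by
            rw [hGiG, Matrix.one_mul, Matrix.mul_one]
        _ = _ := by simp only [Matrix.mul_assoc]
    rw [e8, hab', Matrix.mul_add, Matrix.add_mul, Matrix.mul_smul, Matrix.smul_mul, Matrix.mul_one,
      hGiG, Matrix.mul_smul, Matrix.smul_mul, e5]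
    exact K.add_mem (K.smul_mem K.one_mem _)
      (K.smul_mem (K.add_mem (K.smul_mem K.one_mem _) (K.smul_mem hθK _)) _)

variable [Fintype F]

/-- **(M2)** FACT 0 on the matrix side. -/
theorem siegG_eps_mem (hQ : (QuadraticMap.polarBilin Q).Nondegenerate) (h5 : 5 ≤ n) (hθK : θ ∈ K)
    (hspan : ∀ k ∈ K, ∃ a b : F, k = a • (1 : Matrix (Fin n) (Fin n) F) + b • θ)
    (h : UStr Q (Matrix.toLin' θ) t N) {x₀ : Fin n → F} (hx₀ : x₀ ≠ 0) {u : Fin n → F}
    (hu : Q u = 0) (c : F) :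
    toGL Q (siegG Q u (c • Matrix.toLin' θ u))
      ∈ Cfsg.Geo.subalgebraNormalizer K ⊓ Cfsg.Geo.omegaGL ⇑Q := by
  refine ⟨?_, ?_⟩
  · apply mem_normalizer_of_coeff Q K hθK hspan h hx₀ _ (a := 0) (b := 1)
    intro v
    rw [siegG_eps_comm h hu c v, zero_smul, zero_add, one_smul]
  · apply toGL_mem_omegaGL Q hQ (by rw [Fintype.card_fin]; exact h5)
    apply siegG_mem_SG Q hu
    rw [QuadraticMap.polar_smul_right, h.polar_self_eps hu, smul_zero]

/-- **(M3)** an overgroup of `N(K) ∩ Ω` inside `Ω` containing an element outside `N(K)` contains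
the whole Siegel group, given the abstract core `hcore` (helper8's `SG_le_of_seed`). -/
theorem SG_le_of_not_normalizer (hQ : (QuadraticMap.polarBilin Q).Nondegenerate) (h13 : 13 ≤ n)
    (hθK : θ ∈ K)
    (hspan : ∀ k ∈ K, ∃ a b : F, k = a • (1 : Matrix (Fin n) (Fin n) F) + b • θ)
    (h : UStr Q (Matrix.toLin' θ) t N)
    (hcore : ∀ M : Subgroup ↥(Isom Q),
      (∀ u, Q u = 0 → ∀ c : F, siegG Q u (c • Matrix.toLin' θ u) ∈ M) →
      ∀ z₁ w₀ : Fin n → F, z₁ ≠ 0 → Q z₁ = 0 → Q w₀ = 0 → w₀ ∈ AS Q M z₁ →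
        (∀ a b : F, w₀ ≠ a • z₁ + b • Matrix.toLin' θ z₁) → SG Q ≤ M)
    (X : Subgroup (GL (Fin n) F))
    (hNX : Cfsg.Geo.subalgebraNormalizer K ⊓ Cfsg.Geo.omegaGL ⇑Q ≤ X)
    {g : GL (Fin n) F} (hgX : g ∈ X) (hgΩ : g ∈ Cfsg.Geo.omegaGL ⇑Q)
    (hgN : g ∉ Cfsg.Geo.subalgebraNormalizer K) : SG Q ≤ X.comap (toGL Q) := by
  have hQ' : Nondeg Q := (nondeg_iff Q).mp hQ
  have hfr : finrank F (Fin n → F) = n := by
    rw [Module.finrank_fintype_fun_eq_card, Fintype.card_fin]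
  have hcard : 5 ≤ Fintype.card (Fin n) := by rw [Fintype.card_fin]; omega
  obtain ⟨x₀, hx₀0, -⟩ := exists_singular Q (by rw [hfr]; omega)
  obtain ⟨k, hkSG, rfl⟩ := exists_toGL_eq Q hQ hcard hgΩ
  obtain ⟨M, hM⟩ : ∃ M : Subgroup ↥(Isom Q), M = X.comap (toGL Q) := ⟨_, rfl⟩
  rw [← hM]
  have hkM : k ∈ M := by rw [hM]; exact hgX
  have H1 : ∀ u, Q u = 0 → ∀ c : F, siegG Q u (c • Matrix.toLin' θ u) ∈ M := by
    intro u hu c
    rw [hM]
    exact hNX (siegG_eps_mem Q K hQ (by omega) hθK hspan h hx₀0 hu c)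
  -- the conjugate of `ε`
  obtain ⟨ε', hε'⟩ : ∃ ε' : (Fin n → F) →ₗ[F] (Fin n → F),
      ε' = ((k : (Fin n → F) ≃ₗ[F] (Fin n → F)) : (Fin n → F) →ₗ[F] (Fin n → F)) ∘ₗ Matrix.toLin' θ ∘ₗ
        (((k : (Fin n → F) ≃ₗ[F] (Fin n → F)).symm : (Fin n → F) ≃ₗ[F] (Fin n → F)) :
          (Fin n → F) →ₗ[F] (Fin n → F)) := ⟨_, rfl⟩
  have hε'app : ∀ x, ε' x = (k : (Fin n → F) ≃ₗ[F] (Fin n → F))
      (Matrix.toLin' θ ((k : (Fin n → F) ≃ₗ[F] (Fin n → F)).symm x)) := by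
    intro x; rw [hε']; rfl
  have H3 : ¬ ∃ a b : F, ∀ x, ε' x = a • x + b • Matrix.toLin' θ x := by
    rintro ⟨a, b, hab⟩
    apply hgN
    apply mem_normalizer_of_coeff Q K hθK hspan h hx₀0 k (a := a) (b := b)
    intro v
    have := hab ((k : (Fin n → F) ≃ₗ[F] (Fin n → F)) v)
    rw [hε'app, LinearEquiv.symm_apply_apply] at this
    exact this
  obtain ⟨z₁, hz₁0, hz₁, hz₁K⟩ := exists_singular_not_line h hQ' (by rw [hfr]; exact h13) ε' H3
  -- the seed
  obtain ⟨u₀, hu₀⟩ : ∃ u₀ : Fin n → F, u₀ = (k : (Fin n → F) ≃ₗ[F] (Fin n → F)).symm z₁ := ⟨_, rfl⟩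
  have hku₀ : (k : (Fin n → F) ≃ₗ[F] (Fin n → F)) u₀ = z₁ := by
    rw [hu₀]; exact LinearEquiv.apply_symm_apply _ _
  have hQu₀ : Q u₀ = 0 := by rw [← k.2 u₀, hku₀]; exact hz₁
  have hε'z : ε' z₁ = (k : (Fin n → F) ≃ₗ[F] (Fin n → F)) (Matrix.toLin' θ u₀) := by
    rw [hε'app, hu₀]
  have hw₀ : Q (ε' z₁) = 0 := by rw [hε'z, k.2, h.Q_eps hQu₀]
  have hAS : ε' z₁ ∈ AS Q M z₁ := by
    refine ⟨?_, fun c => ?_⟩
    · rw [hε'z, ← hku₀, polar_isometry Q _ k.2, h.polar_self_eps hQu₀]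
    · have := siegG_conj Q k u₀ (c • Matrix.toLin' θ u₀)
      rw [hku₀, map_smul, ← hε'z] at this
      rw [← this]
      exact M.mul_mem (M.mul_mem hkM (H1 u₀ hQu₀ c)) (M.inv_mem hkM)
  exact hcore M H1 z₁ (ε' z₁) hz₁0 hz₁ hw₀ hAS hz₁K

/-- **(M4)** properness: some element of the Siegel group does not normalise `K`. -/
theorem exists_not_normalizer (hQ : (QuadraticMap.polarBilin Q).Nondegenerate) (h13 : 13 ≤ n)
    (hθK : θ ∈ K)
    (hspan : ∀ k ∈ K, ∃ a b : F, k = a • (1 : Matrix (Fin n) (Fin n) F) + b • θ)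
    (h : UStr Q (Matrix.toLin' θ) t N) :
    ∃ k ∈ SG Q, toGL Q k ∉ Cfsg.Geo.subalgebraNormalizer K := by
  have hQ' : Nondeg Q := (nondeg_iff Q).mp hQ
  have hfr : finrank F (Fin n → F) = n := by
    rw [Module.finrank_fintype_fun_eq_card, Fintype.card_fin]
  obtain ⟨ε, hε⟩ : ∃ ε : (Fin n → F) →ₗ[F] (Fin n → F), ε = Matrix.toLin' θ := ⟨_, rfl⟩
  rw [← hε] at h
  obtain ⟨u, hu0, hu⟩ := exists_singular Q (by rw [hfr]; omega)
  have hdimS := finrank_perpPair_ge Q u (ε u)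
  have hdimU : finrank F ↥(Submodule.span F (Set.range ![u, ε u])) ≤ 2 := by
    have := finrank_range_le_card (R := F) ![u, ε u]
    rw [Fintype.card_fin] at this
    exact this
  obtain ⟨w, hwS, hwU, hw⟩ := exists_singular_not_mem Q (perpPair Q u (ε u))
    (Submodule.span F (Set.range ![u, ε u])) (by rw [hfr] at hdimS; omega)
  rw [mem_perpPair] at hwS
  obtain ⟨huw, heuw⟩ := hwS
  have hwK : ∀ p q : F, w ≠ p • u + q • ε u := by
    intro p q hpq
    apply hwU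
    rw [hpq]
    exact Submodule.add_mem _ (Submodule.smul_mem _ _ (Submodule.subset_span ⟨0, rfl⟩))
      (Submodule.smul_mem _ _ (Submodule.subset_span ⟨1, rfl⟩))
  refine ⟨siegG Q u w, siegG_mem_SG Q hu huw, ?_⟩
  intro hN
  obtain ⟨a, b, hab⟩ := exists_coeff_of_mem_normalizer Q K hθK hspan _ hN
  rw [← hε] at hab
  -- `a = 0`, `b = 1`
  have hEu : ((siegG Q u w : ↥(Isom Q)) : (Fin n → F) ≃ₗ[F] (Fin n → F)) u = u := by
    rw [siegG_val]; exact siegE_self Q u w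
  have hEeu : ((siegG Q u w : ↥(Isom Q)) : (Fin n → F) ≃ₗ[F] (Fin n → F)) (ε u) = ε u := by
    rw [siegG_val]
    exact siegE_fix Q (h.polar_eps_self hu) heuw
  have h1 := hab u
  rw [hEeu, hEu] at h1
  have h2 : a • u + (b - 1) • ε u = 0 := by
    rw [sub_smul, one_smul]
    nth_rewrite 2 [h1]
    abel
  obtain ⟨ha, hb⟩ := h.indep hu0 h2
  rw [sub_eq_zero] at hb
  rw [ha, hb] at hab
  -- evaluate at a vector not orthogonal to `u`
  obtain ⟨x, hx⟩ : ∃ x, QuadraticMap.polar Q u x ≠ 0 := by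
    by_contra hcon
    push Not at hcon
    exact hu0 (hQ' u hcon)
  have hxu : QuadraticMap.polar Q x u ≠ 0 := by rw [QuadraticMap.polar_comm]; exact hx
  have h3 := hab x
  rw [zero_smul, zero_add, one_smul, siegG_val, siegE_apply Q hu huw, siegE_apply Q hu huw,
    sieg_apply, sieg_apply, hw, zero_mul, zero_smul, zero_mul, zero_smul, sub_zero, sub_zero,
    map_sub, map_add, map_smul, map_smul] at h3
  have h4 : QuadraticMap.polar Q (ε x) w • u + (-QuadraticMap.polar Q x w) • ε u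
      + (-QuadraticMap.polar Q (ε x) u) • w + QuadraticMap.polar Q x u • ε w = 0 := by
    have : QuadraticMap.polar Q (ε x) w • u + (-QuadraticMap.polar Q x w) • ε u
        + (-QuadraticMap.polar Q (ε x) u) • w + QuadraticMap.polar Q x u • ε w
        = (ε x + QuadraticMap.polar Q (ε x) w • u - QuadraticMap.polar Q (ε x) u • w)
          - (ε x + QuadraticMap.polar Q x w • ε u - QuadraticMap.polar Q x u • ε w) := by
      module
    rw [this, h3, sub_self]
  exact hxu (indep4 h hu0 hwK h4).2.2.2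

end matrix

end Cfsg.Agent.Helper2.ExtO
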