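import Mathlib
import Cfsg.Agent.Helper2.ExtOM1
import Cfsg.Agent.Helper2.ExtOM2

set_option autoImplicit false
set_option linter.unusedSectionVars false

/-!
# S5700, matrix side (M5): maximality of `N(K) ∩ Ω` given the abstract core (helper2)
-/

namespace Cfsg.Agent.Helper2.ExtO

open Module Cfsg Cfsg.Geo Cfsg.Agent.Helper8.QuadForm Cfsg.Agent.Helper8.OrthOrder
  Cfsg.Agent.Helper8.SiegelGroup Cfsg.Agent.Helper8.ExtO Cfsg.Agent.Helper7.OrthMax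
  Cfsg.Agent.Lead.OrthPlane
open scoped Matrix

variable {F : Type*} [Field F] [Fintype F] {n : ℕ}

/-- **(M5)** the normaliser of an adjoint-closed, not self-adjoint field of degree two acting by
similarities is maximal in `Ω(Q)`, given the abstract core (helper8's `SG_le_of_seed`) as the
hypothesis `hcore`. -/
theorem maximal_of_core (hn : 13 ≤ n) (Q₀ : (Fin n → F) → F)
    (hQ₀ : IsNondegenerateQuadraticForm Q₀) (K : Subalgebra F (Matrix (Fin n) (Fin n) F))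
    (hK : IsFieldSubalgebra 2 K) (hac : IsAdjointClosedFor (QuadraticMap.polar Q₀) K)
    (hnsa : ¬ IsSelfAdjointFor (QuadraticMap.polar Q₀) K)
    (hsc : ∀ k ∈ K, ∃ c : F, ∀ v : Fin n → F, Q₀ (k *ᵥ v) = c * Q₀ v)
    (hcore : ∀ (ε : (Fin n → F) →ₗ[F] (Fin n → F)) (t N : F), UStr (bundle Q₀ hQ₀) ε t N →
      ∀ M : Subgroup ↥(Isom (bundle Q₀ hQ₀)),
      (∀ u, bundle Q₀ hQ₀ u = 0 → ∀ c : F, siegG (bundle Q₀ hQ₀) u (c • ε u) ∈ M) →
      ∀ z₁ w₀ : Fin n → F, z₁ ≠ 0 → bundle Q₀ hQ₀ z₁ = 0 → bundle Q₀ hQ₀ w₀ = 0 →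
        w₀ ∈ AS (bundle Q₀ hQ₀) M z₁ → (∀ a b : F, w₀ ≠ a • z₁ + b • ε z₁) →
        SG (bundle Q₀ hQ₀) ≤ M) :
    IsMaximalIn (omegaGL Q₀) (subalgebraNormalizer K ⊓ omegaGL Q₀) := by
  obtain ⟨θ, t, N, hθK, hspan, h⟩ := exists_ustr Q₀ hQ₀ K hK hac hnsa hsc
  have hnd := bundle_nondeg Q₀ hQ₀
  have hcard : 5 ≤ Fintype.card (Fin n) := by rw [Fintype.card_fin]; omega
  show IsMaximalIn (omegaGL ⇑(bundle Q₀ hQ₀)) (subalgebraNormalizer K ⊓ omegaGL ⇑(bundle Q₀ hQ₀))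
  refine ⟨lt_of_le_not_ge inf_le_right ?_, ?_⟩
  · intro hle
    obtain ⟨k, hk, hkN⟩ := exists_not_normalizer (bundle Q₀ hQ₀) K hnd hn hθK hspan h
    exact hkN (hle (toGL_mem_omegaGL (bundle Q₀ hQ₀) hnd hcard hk)).1
  · intro X hNX hXΩ
    by_cases hX : X ≤ subalgebraNormalizer K
    · left
      exact le_antisymm (le_inf hX hXΩ) hNX
    · right
      obtain ⟨g, hgX, hgN⟩ := SetLike.not_le_iff_exists.mp hX
      have key := SG_le_of_not_normalizer (bundle Q₀ hQ₀) K hnd hn hθK hspan h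
        (hcore _ t N h) X hNX hgX (hXΩ hgX) hgN
      apply le_antisymm hXΩ
      intro g' hg'
      obtain ⟨k', hk', rfl⟩ := exists_toGL_eq (bundle Q₀ hQ₀) hnd hcard hg'
      exact Subgroup.mem_comap.mp (key hk')

end Cfsg.Agent.Helper2.ExtO
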