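import Mathlib
import Cfsg.Prelude.Def_Characters
import Cfsg.Agent.Helper6.ZasChH
import Cfsg.Agent.Helper6.ClassMult
import Cfsg.Agent.Helper2.FeitAbB

set_option autoImplicit false
set_option linter.style.haveILetI false
set_option linter.unusedSectionVars false

/-!
# Zassenhaus groups of odd degree with abelian kernel: the class-multiplication contradiction,
assuming the forced character table on the kernel (`ZasTable`).
-/

namespace Cfsg.Agent.Helper2.FeitAb2

open MulAction Cfsg.Agent.Helper6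
open scoped ComplexConjugate

universe u v

/-- The forced character table of a simple Zassenhaus group with abelian kernel `H`, restricted
to `H`. -/
def ZasTable : Prop :=
  ∀ (G : Type u) (Ω : Type v) [Group G] [Finite G] [MulAction G Ω] [Fintype Ω],
    Cfsg.IsZassenhausGroup G Ω → ∀ (a b : Ω), a ≠ b → IsSimpleGroup G → ∀ (h e : ℕ),
    Fintype.card Ω = h + 1 →
    Nat.card ↥(stabilizer G a ⊓ stabilizer G b : Subgroup G) = e → Odd e → 2 * e < h - 1 →
    ∀ H : Subgroup G, H ≤ stabilizer G a → Nat.card H + 1 = Fintype.card Ω →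
    (∀ u ∈ H, u ≠ 1 → ∀ c : Ω, u • c = c → c = a) → (∀ u ∈ H, ∀ v ∈ H, u * v = v * u) →
    Even h →
    ∃ f : (stabilizer G a → ℂ) → (G → ℂ),
      (∀ χ ∈ zasRel a H, Cfsg.IsIrrCharacter G (f χ) ∧
        ∀ x : stabilizer G a, (x : G) ∈ H → f χ x = χ x) ∧
      ∀ Ξ : G → ℂ, Cfsg.IsIrrCharacter G Ξ →
        Ξ = (fun _ => 1) ∨ (∀ x ∈ H, x ≠ 1 → Ξ x = 0) ∨
        (Ξ 1 = (h : ℂ) + 1 ∧ ∀ x ∈ H, x ≠ 1 → Ξ x = 1) ∨
        (∀ x ∈ H, x ≠ 1 → Ξ x = -1) ∨ ∃ χ ∈ zasRel a H, Ξ = f χ

/-- vanishing of the class-multiplication sum -/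
theorem sum_irr_eq_zero_of_no_product {X : Type*} [Group X] [Fintype X]
    [Fintype (Cfsg.IrrCharacter X)] (t w : X)
    (hno : ∀ x y : X, IsConj t x → IsConj t y → x * y ≠ w) :
    ∑ χ : Cfsg.IrrCharacter X,
      (χ : X → ℂ) t * (χ : X → ℂ) t * conj ((χ : X → ℂ) w) / (χ : X → ℂ) 1 = 0 := by
  classical
  have h := class_mult_count t t w
  have h0 : ∑ x ∈ classFinset t, ∑ y ∈ classFinset t, (if x * y = w then (1 : ℂ) else 0) = 0 := by
    apply Finset.sum_eq_zero
    intro x hx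
    apply Finset.sum_eq_zero
    intro y hy
    rw [if_neg]
    exact hno x y ((mem_classFinset t x).1 hx) ((mem_classFinset t y).1 hy)
  rw [h0] at h
  have hc : ((classFinset t).card : ℂ) ≠ 0 := by
    have : 0 < (classFinset t).card :=
      Finset.card_pos.2 ⟨t, (mem_classFinset t t).2 (IsConj.refl t)⟩
    exact_mod_cast this.ne'
  have hG : (Nat.card X : ℂ) ≠ 0 := by
    have : 0 < Nat.card X := Nat.card_pos
    exact_mod_cast this.ne'
  have hcoef : ((classFinset t).card : ℂ) * ((classFinset t).card : ℂ) / (Nat.card X : ℂ) ≠ 0 :=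
    div_ne_zero (mul_ne_zero hc hc) hG
  rcases mul_eq_zero.1 h.symm with h1 | h1
  · exact absurd h1 hcoef
  · exact h1

section

variable {G : Type u} {Ω : Type v} [Group G] [MulAction G Ω] [Fintype G] [Fintype Ω]
  (hZ : Cfsg.IsZassenhausGroup G Ω) {a b : Ω} (hab : a ≠ b)
  (H : Subgroup G) (hHa : H ≤ stabilizer G a) (hHcard : Nat.card H + 1 = Fintype.card Ω)
  (hHfix : ∀ u ∈ H, u ≠ 1 → ∀ c : Ω, u • c = c → c = a)

include hZ hab hHa hHcard hHfix

open Classical in
/-- the class-multiplication sum over the relevant characters of the point stabiliser -/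
theorem sum_rel_eq [Fintype (stabilizer G a)] [Fintype (Cfsg.IrrCharacter (stabilizer G a))]
    (t w : stabilizer G a) (ht : (t : G) ∈ H) (hw : (w : G) ∈ H)
    (hno : ∀ x y : stabilizer G a, IsConj t x → IsConj t y → x * y ≠ w) :
    ∑ χ : {χ : Cfsg.IrrCharacter (stabilizer G a) // (χ : stabilizer G a → ℂ) ∈ zasRel a H},
      (χ.1 : stabilizer G a → ℂ) t * (χ.1 : stabilizer G a → ℂ) t *
        conj ((χ.1 : stabilizer G a → ℂ) w) / (χ.1 : stabilizer G a → ℂ) 1 =
      -(Nat.card ↥(stabilizer G a ⊓ stabilizer G b : Subgroup G) : ℂ) := by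
  classical
  haveI := zas_kernel_subgroupOf_normal hZ hab H hHa hHcard hHfix
  set K := H.subgroupOf (stabilizer G a) with hK
  have h0 := sum_irr_eq_zero_of_no_product t w hno
  rw [← Finset.sum_filter_add_sum_filter_not Finset.univ
    (fun χ : Cfsg.IrrCharacter (stabilizer G a) =>
      ∀ n ∈ K, (χ : stabilizer G a → ℂ) n = (χ : stabilizer G a → ℂ) 1)] at h0
  have hker := sum_sq_degrees_of_le_ker K
  rw [zas_kernel_subgroupOf_index hZ hab H hHa hHcard hHfix] at hker
  have h1 : ∑ χ ∈ Finset.univ.filter (fun χ : Cfsg.IrrCharacter (stabilizer G a) =>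
      ∀ n ∈ K, (χ : stabilizer G a → ℂ) n = (χ : stabilizer G a → ℂ) 1),
      (χ : stabilizer G a → ℂ) t * (χ : stabilizer G a → ℂ) t *
        conj ((χ : stabilizer G a → ℂ) w) / (χ : stabilizer G a → ℂ) 1 =
      (Nat.card ↥(stabilizer G a ⊓ stabilizer G b : Subgroup G) : ℂ) := by
    rw [← hker]
    push_cast
    apply Finset.sum_congr rfl
    intro χ hχ
    rw [Finset.mem_filter] at hχ
    rw [hχ.2 t (Subgroup.mem_subgroupOf.2 ht), hχ.2 w (Subgroup.mem_subgroupOf.2 hw),
      ← charDegree_cast_of_isCharacter (IsIrrCharacter.isCharacter χ.2), Complex.conj_natCast]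
    by_cases hn : (Cfsg.charDegree (χ : stabilizer G a → ℂ) : ℂ) = 0
    · rw [hn]; simp
    · field_simp
  have hrel : ∀ χ : Cfsg.IrrCharacter (stabilizer G a),
      (¬ ∀ n ∈ K, (χ : stabilizer G a → ℂ) n = (χ : stabilizer G a → ℂ) 1) ↔
        (χ : stabilizer G a → ℂ) ∈ zasRel a H := by
    intro χ
    constructor
    · intro h
      push Not at h
      obtain ⟨n, hn, hne⟩ := h
      exact ⟨χ.2, n, Subgroup.mem_subgroupOf.mp hn, hne⟩
    · rintro ⟨-, n, hn, hne⟩ h
      exact hne (h n (Subgroup.mem_subgroupOf.mpr hn))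
  have h2 : ∑ χ ∈ Finset.univ.filter (fun χ : Cfsg.IrrCharacter (stabilizer G a) =>
      ¬ ∀ n ∈ K, (χ : stabilizer G a → ℂ) n = (χ : stabilizer G a → ℂ) 1),
      (χ : stabilizer G a → ℂ) t * (χ : stabilizer G a → ℂ) t *
        conj ((χ : stabilizer G a → ℂ) w) / (χ : stabilizer G a → ℂ) 1 =
      ∑ χ : {χ : Cfsg.IrrCharacter (stabilizer G a) // (χ : stabilizer G a → ℂ) ∈ zasRel a H},
      (χ.1 : stabilizer G a → ℂ) t * (χ.1 : stabilizer G a → ℂ) t *
        conj ((χ.1 : stabilizer G a → ℂ) w) / (χ.1 : stabilizer G a → ℂ) 1 := by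
    apply Finset.sum_subtype
    intro χ
    simp only [Finset.mem_filter, Finset.mem_univ, true_and]
    exact hrel χ
  rw [h1, h2] at h0
  exact eq_neg_of_add_eq_zero_right h0

end

end Cfsg.Agent.Helper2.FeitAb2
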