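import Mathlib
import Cfsg.Agent.Helper2.FeitAb2A
import Cfsg.Agent.S0882
import Cfsg.Agent.S0883
import Cfsg.Agent.Helper2.ZasPSLD

set_option autoImplicit false
set_option linter.style.haveILetI false
set_option linter.unusedSectionVars false

/-!
# `EvenContra` from the forced character table
-/

namespace Cfsg.Agent.Helper2.FeitAb2

open MulAction Cfsg.Agent.Helper6 Cfsg.Agent.Helper2.FeitAb
open scoped ComplexConjugate

universe u v

theorem invol_of_isConj {X : Type*} [Group X] {t x : X} (ht : orderOf t = 2) (hx : IsConj t x) :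
    orderOf x = 2 := by
  obtain ⟨c, hc⟩ := isConj_iff.1 hx
  have ht2 : t * t = 1 := by
    rw [← pow_two, ← ht]; exact pow_orderOf_eq_one t
  have ht1 : t ≠ 1 := by
    intro e
    rw [e, orderOf_one] at ht
    norm_num at ht
  apply orderOf_eq_prime
  · rw [pow_two, ← hc]
    have : c * t * c⁻¹ * (c * t * c⁻¹) = c * (t * t) * c⁻¹ := by group
    rw [this, ht2, mul_one, mul_inv_cancel]
  · intro e
    apply ht1
    rw [← hc] at e
    have : t = c⁻¹ * (c * t * c⁻¹) * c := by group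
    rw [this, e, mul_one, inv_mul_cancel]

set_option maxHeartbeats 3200000 in
theorem evenContra_of_table (hT : ZasTable.{u, v}) : EvenContra.{u, v} := by
  intro G Ω _ _ _ _ hZ a b hab hS h e hh he hodd hlt H hHa hHcard hHfix hHab hev
  classical
  haveI := hS
  haveI : Fintype G := Fintype.ofFinite G
  haveI : Fintype (stabilizer G a) := Fintype.ofFinite _
  haveI : Finite (Cfsg.IrrCharacter (stabilizer G a)) := irr_finite
  haveI : Fintype (Cfsg.IrrCharacter (stabilizer G a)) := Fintype.ofFinite _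
  haveI : Finite (Cfsg.IrrCharacter G) := irr_finite
  haveI : Fintype (Cfsg.IrrCharacter G) := Fintype.ofFinite _
  haveI : Fact (Nat.Prime 2) := ⟨Nat.prime_two⟩
  obtain ⟨f, hf, htab⟩ := hT G Ω hZ a b hab hS h e hh he hodd hlt H hHa hHcard hHfix hHab hev
  -- `e ≥ 2`
  have he2 : 2 ≤ e := by
    have hZH := Cfsg.Agent.Helper2.ZasPSL.zhyp_of hZ
    obtain ⟨g, hg1, hga, hgb⟩ := hZH.exists_fix hab
    have hg : g ∈ (stabilizer G a ⊓ stabilizer G b : Subgroup G) :=
      Subgroup.mem_inf.2 ⟨mem_stabilizer_iff.2 hga, mem_stabilizer_iff.2 hgb⟩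
    rw [← he]
    have hnt : Nontrivial ↥(stabilizer G a ⊓ stabilizer G b : Subgroup G) :=
      ⟨⟨⟨g, hg⟩, 1, fun e' => hg1 (congrArg Subtype.val e')⟩⟩
    exact Finite.one_lt_card_iff_nontrivial.2 hnt
  have hHh : Nat.card H = h := by omega
  -- an involution in `H`
  obtain ⟨t', ht'⟩ := exists_prime_orderOf_dvd_card' (G := H) 2 (by rw [hHh]; exact hev.two_dvd)
  obtain ⟨t, ht, ht2⟩ : ∃ t : G, t ∈ H ∧ orderOf t = 2 :=
    ⟨t', t'.2, by rw [Subgroup.orderOf_coe]; exact ht'⟩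
  have ht1 : t ≠ 1 := by
    intro e'
    rw [e', orderOf_one] at ht2
    norm_num at ht2
  have hconj := (Cfsg.Agent.S0882.result hZ hab h e hh he hodd hlt).1
  -- an element of `H` which is not an involution
  obtain ⟨w, hw, hww⟩ : ∃ w ∈ H, w * w ≠ 1 := by
    by_contra hcon
    push Not at hcon
    have hle := zas_card_class_inter_kernel_le hZ hab H hHa hHcard hHfix hHab ht ht1
    have hsub : (Finset.univ.filter (fun g : G => g ∈ H)).erase 1 ⊆
        (Finset.univ.filter (fun g : G => g ∈ H)).filter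
          (fun g => ConjClasses.mk g = ConjClasses.mk t) := by
      intro g hg
      rw [Finset.mem_erase, Finset.mem_filter] at hg
      rw [Finset.mem_filter, Finset.mem_filter]
      refine ⟨⟨Finset.mem_univ _, hg.2.2⟩, ?_⟩
      rw [ConjClasses.mk_eq_mk_iff_isConj]
      apply hconj g t _ ht2
      exact orderOf_eq_prime (by rw [pow_two]; exact hcon g hg.2.2) hg.1
    have hc1 : (Finset.univ.filter (fun g : G => g ∈ H)).card = h := by
      rw [← hHh, Nat.card_eq_fintype_card, Fintype.card_subtype]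
    have hc2 : ((Finset.univ.filter (fun g : G => g ∈ H)).erase 1).card = h - 1 := by
      rw [Finset.card_erase_of_mem, hc1]
      rw [Finset.mem_filter]
      exact ⟨Finset.mem_univ _, H.one_mem⟩
    have hc3 := Finset.card_le_card hsub
    rw [he] at hle
    omega
  have hw1 : w ≠ 1 := by
    intro e'
    apply hww
    rw [e', one_mul]
  -- no two conjugates of `t` multiply to `w`
  have hnoG : ∀ x y : G, IsConj t x → IsConj t y → x * y ≠ w := by
    intro x y hx hy hxy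
    have h1 := Cfsg.Agent.S0883.result hZ hab h e hh he hodd hlt H hHa hHcard hHfix w hw hw1 x y
      (invol_of_isConj ht2 hx) (invol_of_isConj ht2 hy) hxy
    apply hww
    rw [← pow_two, ← h1]
    exact pow_orderOf_eq_one w
  set t₀ : stabilizer G a := ⟨t, hHa ht⟩ with ht₀
  set w₀ : stabilizer G a := ⟨w, hHa hw⟩ with hw₀
  have hnoA : ∀ x y : stabilizer G a, IsConj t₀ x → IsConj t₀ y → x * y ≠ w₀ := by
    intro x y hx hy hxy
    have hx' : IsConj t (x : G) := by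
      obtain ⟨c, hc⟩ := isConj_iff.1 hx
      exact isConj_iff.2 ⟨(c : G), congrArg Subtype.val hc⟩
    have hy' : IsConj t (y : G) := by
      obtain ⟨c, hc⟩ := isConj_iff.1 hy
      exact isConj_iff.2 ⟨(c : G), congrArg Subtype.val hc⟩
    exact hnoG x y hx' hy' (congrArg Subtype.val hxy)
  have SG := sum_irr_eq_zero_of_no_product t w hnoG
  have SA := sum_rel_eq hZ hab H hHa hHcard hHfix t₀ w₀ ht hw hnoA
  rw [he] at SA
  -- the exceptional characters
  set P : Cfsg.IrrCharacter G → Prop := fun Ξ => ∃ χ ∈ zasRel a H, (Ξ : G → ℂ) = f χ with hP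
  have hbij : ∑ χ : {χ : Cfsg.IrrCharacter (stabilizer G a) //
        (χ : stabilizer G a → ℂ) ∈ zasRel a H},
      (χ.1 : stabilizer G a → ℂ) t₀ * (χ.1 : stabilizer G a → ℂ) t₀ *
        conj ((χ.1 : stabilizer G a → ℂ) w₀) / (χ.1 : stabilizer G a → ℂ) 1 =
      ∑ Ξ ∈ Finset.univ.filter P,
        (Ξ : G → ℂ) t * (Ξ : G → ℂ) t * conj ((Ξ : G → ℂ) w) / (Ξ : G → ℂ) 1 := by
    apply Finset.sum_bij (fun χ _ => (⟨f χ.1.1, (hf χ.1.1 χ.2).1⟩ : Cfsg.IrrCharacter G))
    · intro χ _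
      simp only [Finset.mem_filter, Finset.mem_univ, true_and]
      exact ⟨χ.1.1, χ.2, rfl⟩
    · intro χ _ χ' _ hEq
      have h1 : f χ.1.1 = f χ'.1.1 := congrArg Subtype.val hEq
      apply Subtype.ext
      apply Subtype.ext
      funext x
      by_cases hx : (x : G) ∈ H
      · rw [← (hf χ.1.1 χ.2).2 x hx, ← (hf χ'.1.1 χ'.2).2 x hx, h1]
      · rw [zasRel_apply_off hZ hab H hHa hHcard hHfix χ.2 x hx,
          zasRel_apply_off hZ hab H hHa hHcard hHfix χ'.2 x hx]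
    · intro Ξ hΞ
      simp only [Finset.mem_filter, Finset.mem_univ, true_and] at hΞ
      obtain ⟨χ, hχ, hΞχ⟩ := hΞ
      exact ⟨⟨⟨χ, hχ.1⟩, hχ⟩, Finset.mem_univ _, Subtype.ext hΞχ.symm⟩
    · intro χ _
      have h1 := (hf χ.1.1 χ.2).2 t₀ ht
      have h2 := (hf χ.1.1 χ.2).2 w₀ hw
      have h3 := (hf χ.1.1 χ.2).2 1 (by rw [Subgroup.coe_one]; exact H.one_mem)
      rw [Subgroup.coe_one] at h3
      show _ = f χ.1.1 t * f χ.1.1 t * conj (f χ.1.1 w) / f χ.1.1 1
      rw [← h3]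
      rw [show f χ.1.1 t = (χ.1 : stabilizer G a → ℂ) t₀ from h1,
        show f χ.1.1 w = (χ.1 : stabilizer G a → ℂ) w₀ from h2]
  rw [← Finset.sum_filter_add_sum_filter_not Finset.univ P, ← hbij, SA] at SG
  have hrest : ∑ Ξ ∈ Finset.univ.filter (fun Ξ => ¬ P Ξ),
      (Ξ : G → ℂ) t * (Ξ : G → ℂ) t * conj ((Ξ : G → ℂ) w) / (Ξ : G → ℂ) 1 = (e : ℂ) := by
    have := eq_neg_of_add_eq_zero_right SG
    rw [this, neg_neg]
  -- bounding the remaining terms
  set B : Cfsg.IrrCharacter G → ℝ := fun Ξ =>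
    (if (Ξ : G → ℂ) = (fun _ => 1) then (1 : ℝ) else 0) +
      (if (Ξ : G → ℂ) 1 = (h : ℂ) + 1 then (1 : ℝ) else 0) * (1 / ((h : ℝ) + 1)) with hB
  have hh0 : (0 : ℝ) < (h : ℝ) + 1 := by positivity
  have hBnn : ∀ Ξ : Cfsg.IrrCharacter G, 0 ≤ B Ξ := by
    intro Ξ
    rw [hB]
    dsimp only
    split_ifs <;> positivity
  have hBle : ∀ Ξ ∈ Finset.univ.filter (fun Ξ => ¬ P Ξ),
      ((Ξ : G → ℂ) t * (Ξ : G → ℂ) t * conj ((Ξ : G → ℂ) w) / (Ξ : G → ℂ) 1).re ≤ B Ξ := by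
    intro Ξ hΞ
    rw [Finset.mem_filter] at hΞ
    rcases htab Ξ.1 Ξ.2 with h1 | h1 | h1 | h1 | h1
    · rw [h1]
      simp only [map_one, mul_one, div_one, Complex.one_re]
      rw [hB]
      dsimp only
      rw [if_pos h1]
      have : (0 : ℝ) ≤ (if (Ξ : G → ℂ) 1 = (h : ℂ) + 1 then (1 : ℝ) else 0) * (1 / ((h : ℝ) + 1)) := by
        split_ifs <;> positivity
      linarith
    · rw [h1 t ht ht1]
      simp only [zero_mul, zero_div, Complex.zero_re]
      exact hBnn Ξ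
    · rw [h1.2 t ht ht1, h1.2 w hw hw1, h1.1]
      have : (1 : ℂ) * 1 * conj (1 : ℂ) / ((h : ℂ) + 1) = ((1 / ((h : ℝ) + 1) : ℝ) : ℂ) := by
        push_cast
        simp
      rw [this, Complex.ofReal_re, hB]
      dsimp only
      rw [if_pos h1.1, one_mul]
      have : (0 : ℝ) ≤ (if (Ξ : G → ℂ) = (fun _ => 1) then (1 : ℝ) else 0) := by
        split_ifs <;> norm_num
      linarith
    · rw [h1 t ht ht1, h1 w hw hw1,
        ← charDegree_cast_of_isCharacter (IsIrrCharacter.isCharacter Ξ.2)]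
      have : (-1 : ℂ) * -1 * conj (-1 : ℂ) / ((Cfsg.charDegree (Ξ : G → ℂ) : ℕ) : ℂ) =
          ((-1 / ((Cfsg.charDegree (Ξ : G → ℂ) : ℕ) : ℝ) : ℝ) : ℂ) := by
        push_cast
        simp
      rw [this, Complex.ofReal_re]
      have : (-1 : ℝ) / ((Cfsg.charDegree (Ξ : G → ℂ) : ℕ) : ℝ) ≤ 0 :=
        div_nonpos_of_nonpos_of_nonneg (by norm_num) (Nat.cast_nonneg _)
      linarith [hBnn Ξ]
    · exact absurd h1 hΞ.2
  have hre : (e : ℝ) ≤ ∑ Ξ : Cfsg.IrrCharacter G, B Ξ := by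
    have h1 := congrArg Complex.re hrest
    rw [Complex.re_sum, Complex.natCast_re] at h1
    rw [← h1]
    calc _ ≤ ∑ Ξ ∈ Finset.univ.filter (fun Ξ => ¬ P Ξ), B Ξ := Finset.sum_le_sum hBle
      _ ≤ ∑ Ξ : Cfsg.IrrCharacter G, B Ξ :=
        Finset.sum_le_sum_of_subset_of_nonneg (Finset.filter_subset _ _) (fun Ξ _ _ => hBnn Ξ)
  -- evaluate the bound
  set N1 := (Finset.univ.filter (fun Ξ : Cfsg.IrrCharacter G => (Ξ : G → ℂ) = (fun _ => 1))).card
    with hN1
  set N2 := (Finset.univ.filter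
    (fun Ξ : Cfsg.IrrCharacter G => (Ξ : G → ℂ) 1 = (h : ℂ) + 1)).card with hN2
  have hsumB : ∑ Ξ : Cfsg.IrrCharacter G, B Ξ = (N1 : ℝ) + (N2 : ℝ) * (1 / ((h : ℝ) + 1)) := by
    rw [hB]
    dsimp only
    rw [Finset.sum_add_distrib, ← Finset.sum_mul, Finset.sum_boole, Finset.sum_boole]
  have hN1le : N1 ≤ 1 := by
    rw [hN1, Finset.card_le_one]
    intro x hx y hy
    rw [Finset.mem_filter] at hx hy
    exact Subtype.ext (hx.2.trans hy.2.symm)
  -- degrees
  have hsq : ∑ Ξ : Cfsg.IrrCharacter G, Cfsg.charDegree (Ξ : G → ℂ) ^ 2 = Nat.card G := by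
    have h1 : (∑ Ξ : Cfsg.IrrCharacter G, ((Cfsg.charDegree (Ξ : G → ℂ) ^ 2 : ℕ) : ℂ)) =
        (Nat.card G : ℂ) := by
      rw [← sum_sq_degrees]
      apply Finset.sum_congr rfl
      intro Ξ _
      push_cast
      rw [charDegree_cast_of_isCharacter (IsIrrCharacter.isCharacter Ξ.2)]
    exact_mod_cast h1
  have hN2le : N2 * (h + 1) ^ 2 ≤ Nat.card G := by
    rw [← hsq]
    calc N2 * (h + 1) ^ 2 = ∑ Ξ ∈ Finset.univ.filter
          (fun Ξ : Cfsg.IrrCharacter G => (Ξ : G → ℂ) 1 = (h : ℂ) + 1),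
          Cfsg.charDegree (Ξ : G → ℂ) ^ 2 := by
          rw [hN2, ← smul_eq_mul, ← Finset.sum_const]
          apply Finset.sum_congr rfl
          intro Ξ hΞ
          rw [Finset.mem_filter] at hΞ
          have h1 := charDegree_cast_of_isCharacter (IsIrrCharacter.isCharacter Ξ.2)
          rw [hΞ.2] at h1
          have h2 : Cfsg.charDegree (Ξ : G → ℂ) = h + 1 := by exact_mod_cast h1
          rw [h2]
      _ ≤ _ := Finset.sum_le_sum_of_subset_of_nonneg (Finset.subset_univ _)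
          (fun _ _ _ => Nat.zero_le _)
  have hGcard : Nat.card G = (h + 1) * (h * e) := by
    have h1 := Subgroup.card_mul_index (stabilizer G a)
    rw [zas_index_stabilizer hZ hab H hHa hHcard hHfix,
      zas_card_stabilizer hZ hab H hHa hHcard hHfix, he, hh] at h1
    rw [← h1]
    have : h + 1 - 1 = h := by omega
    rw [this]
    ring
  rw [hGcard] at hN2le
  have hN2' : N2 * (h + 1) ≤ h * e := by
    have : (N2 * (h + 1)) * (h + 1) ≤ (h * e) * (h + 1) := by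
      calc (N2 * (h + 1)) * (h + 1) = N2 * (h + 1) ^ 2 := by ring
        _ ≤ (h + 1) * (h * e) := hN2le
        _ = (h * e) * (h + 1) := by ring
    exact Nat.le_of_mul_le_mul_right this (by omega)
  -- final arithmetic
  rw [hsumB] at hre
  have hN1r : (N1 : ℝ) ≤ 1 := by exact_mod_cast hN1le
  have hN2r : (N2 : ℝ) * ((h : ℝ) + 1) ≤ (h : ℝ) * (e : ℝ) := by exact_mod_cast hN2'
  have he2r : (2 : ℝ) ≤ (e : ℝ) := by exact_mod_cast he2
  have hhr : (0 : ℝ) ≤ (h : ℝ) := Nat.cast_nonneg _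
  have h5 : (N2 : ℝ) * (1 / ((h : ℝ) + 1)) = (N2 : ℝ) / ((h : ℝ) + 1) := by ring
  rw [h5] at hre
  have h6 : ((e : ℝ) - 1) * ((h : ℝ) + 1) ≤ (N2 : ℝ) := by
    have : (e : ℝ) - 1 ≤ (N2 : ℝ) / ((h : ℝ) + 1) := by linarith
    rwa [le_div_iff₀ hh0] at this
  nlinarith [mul_nonneg hhr hhr, mul_nonneg (by linarith : (0 : ℝ) ≤ (e : ℝ) - 2) hhr,
    mul_nonneg (mul_nonneg (by linarith : (0 : ℝ) ≤ (e : ℝ) - 2) hhr) hhr]

end Cfsg.Agent.Helper2.FeitAb2
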