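import Mathlib
import Cfsg.Prelude.Def_Characters
import Cfsg.Prelude.Def_OddOrderChar
import Cfsg.Agent.Helper6.ZasChN
import Cfsg.Agent.Helper6.Induced
import Cfsg.Agent.Helper6.NormOne
import Cfsg.Agent.Helper6.CoherL

/-!
# Feit's theorem on Zassenhaus groups, general kernel: induction from a point stabiliser is a
linear isometry on the relevant characters vanishing at `1`, and the data carried by a coherent
extension
-/

set_option autoImplicit false
set_option linter.style.haveILetI false
set_option linter.unusedSectionVars false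

namespace Cfsg.Agent.Helper2.FeitP

open MulAction Cfsg.Agent.Helper6
open scoped ComplexConjugate

theorem genchar_of_char {X : Type*} [Group X] {f : X → ℂ} (hf : Cfsg.IsCharacter X f) :
    Cfsg.IsGeneralizedCharacter X f :=
  ⟨f, 0, hf, IsCharacter.zero, (sub_zero f).symm⟩

theorem genchar_indFun {X : Type*} [Group X] [Fintype X] (A : Subgroup X) {f : A → ℂ}
    (hf : Cfsg.IsGeneralizedCharacter A f) :
    Cfsg.IsGeneralizedCharacter X (Cfsg.indFun A f) := by
  obtain ⟨p, q, hp, hq, rfl⟩ := hf
  exact ⟨Cfsg.indFun A p, Cfsg.indFun A q, isCharacter_indFun A p hp, isCharacter_indFun A q hq,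
    indFun_sub A p q⟩

variable {G Ω : Type*} [Group G] [MulAction G Ω]

section

variable [Fintype G] [Fintype Ω]
  (hZ : Cfsg.IsZassenhausGroup G Ω) {a b : Ω} (hab : a ≠ b)
  (H : Subgroup G) (hHa : H ≤ stabilizer G a) (hHcard : Nat.card H + 1 = Fintype.card Ω)
  (hHfix : ∀ u ∈ H, u ≠ 1 → ∀ c : Ω, u • c = c → c = a)

include hZ hab hHa hHcard hHfix

/-- members of the integer span of the relevant characters are generalized characters vanishing
off `H` -/
theorem zspan_rel_props {α : stabilizer G a → ℂ} (hα : α ∈ Cfsg.zspan (zasRel a H)) :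
    Cfsg.IsGeneralizedCharacter (stabilizer G a) α ∧
      ∀ x : stabilizer G a, (x : G) ∉ H → α x = 0 := by
  unfold Cfsg.zspan at hα
  rw [SetLike.mem_coe] at hα
  induction hα using Submodule.span_induction with
  | mem χ hχ =>
    exact ⟨genchar_of_char (IsIrrCharacter.isCharacter hχ.1),
      fun x hx => zasRel_apply_off hZ hab H hHa hHcard hHfix hχ x hx⟩
  | zero => exact ⟨genchar_zero, fun _ _ => rfl⟩
  | add x y _ _ hx hy =>
    exact ⟨genchar_add hx.1 hy.1, fun z hz => by
      rw [Pi.add_apply, hx.2 z hz, hy.2 z hz, add_zero]⟩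
  | smul n x _ hx =>
    refine ⟨?_, fun z hz => by rw [Pi.smul_apply, hx.2 z hz, smul_zero]⟩
    have h1 : n • x = (n : ℂ) • x := by
      ext z
      rw [Pi.smul_apply, Pi.smul_apply, zsmul_eq_mul, smul_eq_mul]
    rw [h1]
    exact genchar_intCast_smul hx.1 n

/-- induction from the point stabiliser is a linear isometry on the integer combinations of the
relevant characters vanishing at `1` -/
theorem ind_isometry [Fintype (stabilizer G a)] :
    Cfsg.IsLinearIsometryOn (Cfsg.zspanOn (zasRel a H) {1}ᶜ) (Cfsg.indFun (stabilizer G a)) := by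
  refine ⟨fun α _ β _ => indFun_add _ α β, fun α _ n => ?_, fun α hα β hβ => ?_, fun α hα => ?_⟩
  · have h1 : n • α = (n : ℂ) • α := by
      ext z
      rw [Pi.smul_apply, Pi.smul_apply, zsmul_eq_mul, smul_eq_mul]
    have h2 : n • Cfsg.indFun (stabilizer G a) α = (n : ℂ) • Cfsg.indFun (stabilizer G a) α := by
      ext z
      rw [Pi.smul_apply, Pi.smul_apply, zsmul_eq_mul, smul_eq_mul]
    rw [h1, h2, indFun_smul]
  · have hα' := zspan_rel_props hZ hab H hHa hHcard hHfix hα.1
    have hβ' := zspan_rel_props hZ hab H hHa hHcard hHfix hβ.1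
    rw [zas_classInner_indFun hZ hab H hHa hHcard hHfix α β
      (IsGeneralizedCharacter.isClassFunction hβ'.1) hα'.2]
    have h1 : α 1 = 0 := hα.2 1 (by simp)
    rw [h1, zero_mul, zero_div, add_zero]
  · exact genchar_indFun _ (zspan_rel_props hZ hab H hHa hHcard hHfix hα.1).1

theorem ind_apply_one_eq_zero {α : stabilizer G a → ℂ}
    (hα : α ∈ Cfsg.zspanOn (zasRel a H) {1}ᶜ) : Cfsg.indFun (stabilizer G a) α 1 = 0 := by
  rw [indFun_apply_one, hα.2 1 (by simp), mul_zero]

end

end Cfsg.Agent.Helper2.FeitP
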