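import Mathlib
import Cfsg.Agent.Helper2.FeitPA

/-!
# Feit's theorem on Zassenhaus groups, general kernel: the exceptional characters attached to a
coherent extension of induction
-/

set_option autoImplicit false
set_option linter.style.haveILetI false
set_option linter.unusedSectionVars false

namespace Cfsg.Agent.Helper2.FeitP

open MulAction Cfsg.Agent.Helper6
open scoped ComplexConjugate

variable {G Ω : Type*} [Group G] [MulAction G Ω]

/-- the degree of a relevant character, as a natural number -/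
noncomputable abbrev dg {a : Ω} {H : Subgroup G} (χ : ZasS a H) : ℕ :=
  Cfsg.charDegree (χ.1 : stabilizer G a → ℂ)

theorem dg_cast {a : Ω} {H : Subgroup G} (χ : ZasS a H) :
    ((dg χ : ℕ) : ℂ) = (χ.1 : stabilizer G a → ℂ) 1 :=
  charDegree_cast_of_isCharacter (IsIrrCharacter.isCharacter χ.1.2)

section

variable [Fintype G] [Fintype Ω]
  (hZ : Cfsg.IsZassenhausGroup G Ω) {a b : Ω} (hab : a ≠ b)
  (H : Subgroup G) (hHa : H ≤ stabilizer G a) (hHcard : Nat.card H + 1 = Fintype.card Ω)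
  (hHfix : ∀ u ∈ H, u ≠ 1 → ∀ c : Ω, u • c = c → c = a)

include hZ hab hHa hHcard hHfix

set_option maxHeartbeats 1600000 in
/-- the exceptional characters of a coherent extension -/
theorem coherent_data [Fintype (stabilizer G a)]
    (hcoh : Cfsg.IsCoherent (zasRel a H) {1}ᶜ (Cfsg.indFun (stabilizer G a))) :
    ∃ (X : ZasS a H → Cfsg.IrrCharacter G) (ε : ZasS a H → ℤ),
      Function.Injective X ∧ (∀ χ, ε χ = 1 ∨ ε χ = -1) ∧
      ∀ χ χ' : ZasS a H,
        ((dg χ' : ℕ) : ℂ) • Cfsg.indFun (stabilizer G a) (χ.1 : stabilizer G a → ℂ) -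
          ((dg χ : ℕ) : ℂ) • Cfsg.indFun (stabilizer G a) (χ'.1 : stabilizer G a → ℂ) =
        (((dg χ' : ℕ) : ℂ) * (ε χ : ℂ)) • (X χ : G → ℂ) -
          (((dg χ : ℕ) : ℂ) * (ε χ' : ℂ)) • (X χ' : G → ℂ) := by
  classical
  obtain ⟨-, τ₁, hiso, hext⟩ := hcoh
  obtain ⟨hadd, hsmul, hinner, hgen⟩ := id hiso
  have hmem : ∀ χ : ZasS a H, (χ.1 : stabilizer G a → ℂ) ∈ Cfsg.zspan (zasRel a H) :=
    fun χ => Submodule.subset_span χ.2
  have hnorm : ∀ χ : ZasS a H, Cfsg.classInner (τ₁ (χ.1 : stabilizer G a → ℂ))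
      (τ₁ (χ.1 : stabilizer G a → ℂ)) = 1 := by
    intro χ
    rw [hinner _ (hmem χ) _ (hmem χ), classInner_irr_self χ.1.2]
  have hex : ∀ χ : ZasS a H, ∃ ξ : G → ℂ, Cfsg.IsIrrCharacter G ξ ∧
      (τ₁ (χ.1 : stabilizer G a → ℂ) = ξ ∨ τ₁ (χ.1 : stabilizer G a → ℂ) = -ξ) :=
    fun χ => exists_signed_irr_of_norm_one (hgen _ (hmem χ)) (hnorm χ)
  choose X₀ hX₀irr hX₀ using hex
  set ε : ZasS a H → ℤ := fun χ => if τ₁ (χ.1 : stabilizer G a → ℂ) = X₀ χ then 1 else -1 with hε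
  have hτε : ∀ χ : ZasS a H, τ₁ (χ.1 : stabilizer G a → ℂ) = (ε χ : ℂ) • X₀ χ := by
    intro χ
    simp only [hε]
    split_ifs with h
    · rw [h, Int.cast_one, one_smul]
    · rcases hX₀ χ with h' | h'
      · exact absurd h' h
      · rw [h']
        push_cast
        rw [neg_one_smul]
  have hεpm : ∀ χ, ε χ = 1 ∨ ε χ = -1 := by
    intro χ
    simp only [hε]
    split_ifs
    · left; rfl
    · right; rfl
  have hεsq : ∀ χ, ((ε χ : ℤ) : ℂ) ≠ 0 := by
    intro χ
    rcases hεpm χ with h | h <;> rw [h] <;> norm_num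
  refine ⟨fun χ => ⟨X₀ χ, hX₀irr χ⟩, ε, ?_, hεpm, ?_⟩
  · intro χ χ' hXX
    by_contra hne
    have hXX' : X₀ χ = X₀ χ' := congrArg Subtype.val hXX
    have hne' : (χ.1 : stabilizer G a → ℂ) ≠ (χ'.1 : stabilizer G a → ℂ) := by
      intro h
      apply hne
      apply Subtype.ext
      apply Subtype.ext
      exact h
    have h1 := hinner _ (hmem χ) _ (hmem χ')
    rw [classInner_irr_ne χ.1.2 χ'.1.2 hne', hτε χ, hτε χ', classInner_smul_left,
      classInner_smul_right, hXX', classInner_irr_self (hX₀irr χ'), mul_one] at h1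
    rcases mul_eq_zero.1 h1 with h2 | h2
    · exact hεsq χ h2
    · apply hεsq χ'
      have := congrArg conj h2
      rwa [Complex.conj_conj, map_zero] at this
  · intro χ χ'
    have hα := deg_comb_mem_zspanOn (zasRel a H) (χ.1 : stabilizer G a → ℂ)
      (χ'.1 : stabilizer G a → ℂ) χ.2 χ'.2 (dg χ') (dg χ) (dg_cast χ').symm (dg_cast χ).symm
    have h1 := hext _ hα
    have hm1 : ((dg χ' : ℕ) : ℤ) • (χ.1 : stabilizer G a → ℂ) ∈ Cfsg.zspan (zasRel a H) :=
      Submodule.smul_mem _ _ (hmem χ)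
    have hm2 : ((dg χ : ℕ) : ℤ) • (χ'.1 : stabilizer G a → ℂ) ∈ Cfsg.zspan (zasRel a H) :=
      Submodule.smul_mem _ _ (hmem χ')
    rw [isometryOnSpan_map_sub _ τ₁ hiso hm1 hm2, hsmul _ (hmem χ), hsmul _ (hmem χ'),
      hτε χ, hτε χ'] at h1
    have hz : ∀ (n : ℕ) (f : stabilizer G a → ℂ), ((n : ℕ) : ℤ) • f = ((n : ℕ) : ℂ) • f := by
      intro n f
      ext z
      rw [Pi.smul_apply, Pi.smul_apply, zsmul_eq_mul, smul_eq_mul]
      push_cast
      rfl
    have hz' : ∀ (n : ℕ) (f : G → ℂ), ((n : ℕ) : ℤ) • f = ((n : ℕ) : ℂ) • f := by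
      intro n f
      ext z
      rw [Pi.smul_apply, Pi.smul_apply, zsmul_eq_mul, smul_eq_mul]
      push_cast
      rfl
    rw [hz, hz, indFun_sub, indFun_smul, indFun_smul, hz', hz', smul_smul, smul_smul] at h1
    exact h1.symm

end

end Cfsg.Agent.Helper2.FeitP
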