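import Mathlib

set_option autoImplicit false

/-!
# Abstract counting lemmas on a 0-1 matrix with Gram matrix `e J + I`
-/

namespace Cfsg.Agent.Helper2.ZasTab

open Finset

section abstract

variable {S I : Type*} [Fintype S] [Fintype I] [DecidableEq S] [DecidableEq I]

theorem mult_free (n : S → I → ℕ) (e : ℕ) (i₀ : I)
    (hdiag : ∀ χ, ∑ Ξ, n χ Ξ * n χ Ξ = e + 1)
    (hcard : Fintype.card I = 1 + e + Fintype.card S)
    (h0 : ∀ χ, n χ i₀ = 0)
    (hpos : ∀ Ξ, Ξ ≠ i₀ → ∃ χ, n χ Ξ ≠ 0)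
    (hU : ∀ χ χ₁ Ξ Ξ', n χ₁ Ξ = 0 → n χ Ξ ≠ 0 → n χ₁ Ξ' = 0 → n χ Ξ' ≠ 0 → Ξ = Ξ') :
    ∀ χ Ξ, n χ Ξ ≤ 1 := by
  classical
  intro χ₁
  set B := Finset.univ.filter (fun Ξ => n χ₁ Ξ ≠ 0) with hB
  set A' := Finset.univ.filter (fun Ξ => Ξ ≠ i₀ ∧ n χ₁ Ξ = 0) with hA'
  have hchoose : ∀ Ξ, Ξ ∈ A' → ∃ χ, n χ Ξ ≠ 0 := fun Ξ hΞ => hpos Ξ (Finset.mem_filter.1 hΞ).2.1
  let f : I → S := fun Ξ => if h : Ξ ∈ A' then Classical.choose (hchoose Ξ h) else χ₁
  have hf : ∀ Ξ (h : Ξ ∈ A'), n (f Ξ) Ξ ≠ 0 := by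
    intro Ξ h
    have := Classical.choose_spec (hchoose Ξ h)
    simp only [f, dif_pos h]
    exact this
  have hAcard : A'.card ≤ (Finset.univ.erase χ₁ : Finset S).card := by
    apply Finset.card_le_card_of_injOn f
    · intro Ξ hΞ
      rw [Finset.mem_coe] at hΞ
      rw [Finset.mem_coe, Finset.mem_erase]
      refine ⟨?_, Finset.mem_univ _⟩
      intro e'
      have h1 := hf Ξ hΞ
      rw [e'] at h1
      exact h1 (Finset.mem_filter.1 hΞ).2.2
    · intro Ξ hΞ Ξ' hΞ' heq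
      rw [Finset.mem_coe] at hΞ hΞ'
      have h1 := hf Ξ hΞ
      have h1' := hf Ξ' hΞ'
      rw [← heq] at h1'
      exact hU (f Ξ) χ₁ Ξ Ξ' (Finset.mem_filter.1 hΞ).2.2 h1 (Finset.mem_filter.1 hΞ').2.2 h1'
  rw [Finset.card_erase_of_mem (Finset.mem_univ _), Finset.card_univ] at hAcard
  have hcover : (Finset.univ : Finset I) ⊆ ({i₀} ∪ B) ∪ A' := by
    intro Ξ _
    by_cases h1 : Ξ = i₀
    · apply Finset.mem_union_left
      apply Finset.mem_union_left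
      rw [Finset.mem_singleton]
      exact h1
    · by_cases h2 : n χ₁ Ξ = 0
      · apply Finset.mem_union_right
        rw [hA', Finset.mem_filter]
        exact ⟨Finset.mem_univ _, h1, h2⟩
      · apply Finset.mem_union_left
        apply Finset.mem_union_right
        rw [hB, Finset.mem_filter]
        exact ⟨Finset.mem_univ _, h2⟩
  have hc1 := Finset.card_le_card hcover
  have hc2 := Finset.card_union_le (({i₀} : Finset I) ∪ B) A'
  have hc3 := Finset.card_union_le ({i₀} : Finset I) B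
  rw [Finset.card_singleton] at hc3
  rw [Finset.card_univ, hcard] at hc1
  have hSpos : 0 < Fintype.card S := Fintype.card_pos_iff.2 ⟨χ₁⟩
  have hBcard : e + 1 ≤ B.card := by omega
  have hsumB : ∑ Ξ ∈ B, n χ₁ Ξ * n χ₁ Ξ = e + 1 := by
    rw [← hdiag χ₁, hB, Finset.sum_filter]
    apply Finset.sum_congr rfl
    intro Ξ _
    split_ifs with h
    · rfl
    · push Not at h
      rw [h, mul_zero]
  intro Ξ
  by_contra hcon
  push Not at hcon
  have hΞB : Ξ ∈ B := by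
    rw [hB, Finset.mem_filter]
    exact ⟨Finset.mem_univ _, by omega⟩
  have hlt : ∑ _Ξ ∈ B, 1 < ∑ Ξ ∈ B, n χ₁ Ξ * n χ₁ Ξ := by
    apply Finset.sum_lt_sum
    · intro Ξ' hΞ'
      rw [hB, Finset.mem_filter] at hΞ'
      have : 1 ≤ n χ₁ Ξ' := Nat.one_le_iff_ne_zero.2 hΞ'.2
      nlinarith
    · exact ⟨Ξ, hΞB, by nlinarith⟩
  rw [Finset.sum_const, smul_eq_mul, mul_one, hsumB] at hlt
  omega

theorem struct_of_gram (n : S → I → ℕ) (e : ℕ) (i₀ : I)
    (h01 : ∀ χ Ξ, n χ Ξ ≤ 1)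
    (hgram : ∀ χ χ', ∑ Ξ, n χ Ξ * n χ' Ξ = e + if χ = χ' then 1 else 0)
    (hcard : Fintype.card I = 1 + e + Fintype.card S)
    (h0 : ∀ χ, n χ i₀ = 0)
    (hpos : ∀ Ξ, Ξ ≠ i₀ → ∃ χ, n χ Ξ ≠ 0) :
    ∀ Ξ, Ξ ≠ i₀ → (∀ χ, n χ Ξ = 1) ∨ (∃ χ, n χ Ξ = 1 ∧ ∀ χ', χ' ≠ χ → n χ' Ξ = 0) := by
  classical
  set s := Fintype.card S with hs
  set y : I → ℕ := fun Ξ => ∑ χ, n χ Ξ with hy
  have hy1 : ∑ Ξ, y Ξ = s * (e + 1) := by
    calc ∑ Ξ, ∑ χ, n χ Ξ = ∑ χ, ∑ Ξ, n χ Ξ := Finset.sum_comm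
      _ = ∑ χ : S, ∑ Ξ, n χ Ξ * n χ Ξ := by
          apply Finset.sum_congr rfl
          intro χ _
          apply Finset.sum_congr rfl
          intro Ξ _
          have := h01 χ Ξ
          interval_cases (n χ Ξ) <;> rfl
      _ = ∑ _χ : S, (e + 1) := by
          apply Finset.sum_congr rfl
          intro χ _
          rw [hgram χ χ, if_pos rfl]
      _ = s * (e + 1) := by
          rw [Finset.sum_const, Finset.card_univ, smul_eq_mul]
  have hy2 : ∑ Ξ, y Ξ * y Ξ = s * s * e + s := by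
    calc ∑ Ξ, (∑ χ, n χ Ξ) * (∑ χ', n χ' Ξ)
        = ∑ Ξ, ∑ χ, ∑ χ', n χ Ξ * n χ' Ξ := by
          apply Finset.sum_congr rfl
          intro Ξ _
          rw [Finset.sum_mul_sum]
      _ = ∑ χ, ∑ Ξ, ∑ χ', n χ Ξ * n χ' Ξ := Finset.sum_comm
      _ = ∑ χ, ∑ χ', ∑ Ξ, n χ Ξ * n χ' Ξ := by
          apply Finset.sum_congr rfl
          intro χ _
          exact Finset.sum_comm
      _ = ∑ χ : S, ∑ χ' : S, (e + if χ = χ' then 1 else 0) := by
          apply Finset.sum_congr rfl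
          intro χ _
          apply Finset.sum_congr rfl
          intro χ' _
          exact hgram χ χ'
      _ = ∑ _χ : S, (s * e + 1) := by
          apply Finset.sum_congr rfl
          intro χ _
          rw [Finset.sum_add_distrib, Finset.sum_const, Finset.card_univ, smul_eq_mul,
            Finset.sum_ite_eq, if_pos (Finset.mem_univ _)]
      _ = s * s * e + s := by
          rw [Finset.sum_const, Finset.card_univ, smul_eq_mul]
          ring
  have hyle : ∀ Ξ, y Ξ ≤ s := by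
    intro Ξ
    calc y Ξ ≤ ∑ _χ : S, 1 := Finset.sum_le_sum (fun χ _ => h01 χ Ξ)
      _ = s := by rw [Finset.sum_const, Finset.card_univ, smul_eq_mul, mul_one]
  have hyge : ∀ Ξ, Ξ ≠ i₀ → 1 ≤ y Ξ := by
    intro Ξ hΞ
    obtain ⟨χ, hχ⟩ := hpos Ξ hΞ
    calc 1 ≤ n χ Ξ := Nat.one_le_iff_ne_zero.2 hχ
      _ ≤ y Ξ := Finset.single_le_sum (f := fun χ => n χ Ξ) (fun _ _ => Nat.zero_le _)
          (Finset.mem_univ χ)
  have hy0 : y i₀ = 0 := by
    rw [hy]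
    apply Finset.sum_eq_zero
    intro χ _
    exact h0 χ
  set F : I → ℤ := fun Ξ => ((s : ℤ) - (y Ξ : ℤ)) * ((y Ξ : ℤ) - 1) with hF
  have hFsum : ∑ Ξ, F Ξ = -(s : ℤ) := by
    have h1 : ∀ Ξ, F Ξ = ((s : ℤ) + 1) * (y Ξ : ℤ) - ((y Ξ * y Ξ : ℕ) : ℤ) - (s : ℤ) := by
      intro Ξ
      rw [hF]
      push_cast
      ring
    rw [Finset.sum_congr rfl (fun Ξ _ => h1 Ξ), Finset.sum_sub_distrib, Finset.sum_sub_distrib,
      ← Finset.mul_sum, ← Nat.cast_sum, ← Nat.cast_sum, hy1, hy2, Finset.sum_const,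
      Finset.card_univ, hcard]
    push_cast
    ring
  have hFnn : ∀ Ξ ∈ Finset.univ.erase i₀, 0 ≤ F Ξ := by
    intro Ξ hΞ
    rw [Finset.mem_erase] at hΞ
    have h1 := hyge Ξ hΞ.1
    have h2 := hyle Ξ
    rw [hF]
    apply mul_nonneg
    · have : (y Ξ : ℤ) ≤ (s : ℤ) := by exact_mod_cast h2
      linarith
    · have : (1 : ℤ) ≤ (y Ξ : ℤ) := by exact_mod_cast h1
      linarith
  have hFerase : ∑ Ξ ∈ Finset.univ.erase i₀, F Ξ = 0 := by
    have h1 := Finset.add_sum_erase Finset.univ F (Finset.mem_univ i₀)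
    rw [hFsum] at h1
    have h2 : F i₀ = -(s : ℤ) := by
      rw [hF]
      simp only
      rw [hy0]
      push_cast
      ring
    rw [h2] at h1
    linarith
  have hFz := (Finset.sum_eq_zero_iff_of_nonneg hFnn).1 hFerase
  intro Ξ hΞ
  have h1 := hFz Ξ (Finset.mem_erase.2 ⟨hΞ, Finset.mem_univ _⟩)
  rw [hF] at h1
  simp only at h1
  rcases mul_eq_zero.1 h1 with h2 | h2
  · left
    have hys : y Ξ = s := by
      have : (y Ξ : ℤ) = (s : ℤ) := by linarith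
      exact_mod_cast this
    by_contra hcon
    push Not at hcon
    obtain ⟨χ₀, hχ₀⟩ := hcon
    have h3 : n χ₀ Ξ = 0 := by
      have := h01 χ₀ Ξ
      omega
    have hlt : y Ξ < ∑ _χ : S, 1 := by
      apply Finset.sum_lt_sum (fun χ _ => h01 χ Ξ)
      exact ⟨χ₀, Finset.mem_univ _, by rw [h3]; norm_num⟩
    rw [Finset.sum_const, Finset.card_univ, smul_eq_mul, mul_one] at hlt
    omega
  · right
    have hy1' : y Ξ = 1 := by
      have : (y Ξ : ℤ) = 1 := by linarith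
      exact_mod_cast this
    obtain ⟨χ, hχ⟩ := hpos Ξ hΞ
    have hχ1 : n χ Ξ = 1 := by
      have := h01 χ Ξ
      omega
    refine ⟨χ, hχ1, ?_⟩
    intro χ' hne
    by_contra hcon
    have h3 : n χ' Ξ = 1 := by
      have := h01 χ' Ξ
      omega
    have h4 : n χ Ξ + n χ' Ξ ≤ y Ξ := by
      have h5 : ∑ x ∈ ({χ, χ'} : Finset S), n x Ξ ≤ y Ξ :=
        Finset.sum_le_sum_of_subset_of_nonneg (Finset.subset_univ _) (fun _ _ _ => Nat.zero_le _)
      rw [Finset.sum_pair (Ne.symm hne)] at h5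
      exact h5
    omega

end abstract

end Cfsg.Agent.Helper2.ZasTab
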