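import Mathlib
import Cfsg.Prelude.Def_Characters
import Cfsg.Agent.Helper6.ZasChH
import Cfsg.Agent.S0884
import Cfsg.Agent.Helper2.ZasTabA

set_option autoImplicit false
set_option linter.style.haveILetI false
set_option linter.unusedSectionVars false

/-!
# Simple Zassenhaus groups with abelian kernel: the constituents of the induced relevant characters
-/

namespace Cfsg.Agent.Helper2.ZasTab

open MulAction Cfsg.Agent.Helper6
open scoped ComplexConjugate

/-- bilinear Parseval -/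
theorem classInner_eq_sum_irr {X : Type*} [Group X] [Fintype X] [Fintype (Cfsg.IrrCharacter X)]
    (φ ψ : X → ℂ) (hφ : Cfsg.IsClassFunction X φ) :
    Cfsg.classInner φ ψ = ∑ Ξ : Cfsg.IrrCharacter X,
      Cfsg.classInner φ (Ξ : X → ℂ) * conj (Cfsg.classInner ψ (Ξ : X → ℂ)) := by
  have h1 : Cfsg.classInner φ ψ = Cfsg.classInner
      (∑ Ξ : Cfsg.IrrCharacter X, Cfsg.classInner φ (Ξ : X → ℂ) • (Ξ : X → ℂ)) ψ := by
    rw [← classFunction_expansion φ hφ]
  rw [h1, classInner_sum_left]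
  apply Finset.sum_congr rfl
  intro Ξ _
  rw [classInner_smul_left, classInner_conj_symm ψ (Ξ : X → ℂ)]

variable {G Ω : Type*} [Group G] [MulAction G Ω]

section

variable [Fintype G] [Fintype Ω]
  (hZ : Cfsg.IsZassenhausGroup G Ω) {a b : Ω} (hab : a ≠ b)
  (H : Subgroup G) (hHa : H ≤ stabilizer G a) (hHcard : Nat.card H + 1 = Fintype.card Ω)
  (hHfix : ∀ u ∈ H, u ≠ 1 → ∀ c : Ω, u • c = c → c = a)
  (hHab : ∀ u ∈ H, ∀ v ∈ H, u * v = v * u)

include hZ hab hHa hHcard hHfix hHab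

open Classical in
/-- the exact number of irreducible characters -/
theorem zas_card_irr_eq [IsSimpleGroup G] (h e : ℕ) (hh : Fintype.card Ω = h + 1)
    (he : Nat.card ↥(stabilizer G a ⊓ stabilizer G b : Subgroup G) = e) (hodd : Odd e)
    (hlt : 2 * e < h - 1) :
    Nat.card (Cfsg.IrrCharacter G) = 1 + e +
      Nat.card {χ : Cfsg.IrrCharacter (stabilizer G a) //
        (χ : stabilizer G a → ℂ) ∈ zasRel a H} := by
  classical
  haveI : Fintype (stabilizer G a) := Fintype.ofFinite _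
  haveI : Finite (Cfsg.IrrCharacter (stabilizer G a)) := irr_finite
  set S := {χ : Cfsg.IrrCharacter (stabilizer G a) //
      (χ : stabilizer G a → ℂ) ∈ zasRel a H} with hS
  have hse := zas_card_rel_mul hZ hab H hHa hHcard hHfix hHab
  rw [he, ← hS] at hse
  have hSpos : 0 < Nat.card S := by
    by_contra h'
    have : Nat.card S = 0 := by omega
    rw [this, zero_mul] at hse
    omega
  obtain ⟨χ₁⟩ : Nonempty S := (Nat.card_pos_iff.mp hSpos).1
  have hH1 : H ≠ ⊥ := by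
    intro h'
    rw [h', Subgroup.card_bot] at hHcard
    omega
  have hle := zas_card_irr_le hZ hab H hHa hHcard hHfix hHab hH1 χ₁
  rw [he, ← hS] at hle
  apply le_antisymm hle
  rw [card_irr_eq_card_conjClasses, Nat.card_eq_fintype_card (α := ConjClasses G),
    ← Finset.card_univ (α := ConjClasses G),
    ← Finset.card_filter_add_card_filter_not
      (fun C : ConjClasses G => ∃ g ∈ H, ConjClasses.mk g = C)]
  have hmeet := zas_card_classes_meeting_ge hZ hab H hHa hHcard hHfix hHab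
  rw [he] at hmeet
  have hmiss := Cfsg.Agent.S0884.result hZ hab h e hh he hodd hlt H hHa hHcard hHfix
  have hmiss' : e ≤ (Finset.univ.filter
      (fun C : ConjClasses G => ∀ g : G, ConjClasses.mk g = C → g ∉ H)).card := by
    rw [Nat.card_eq_fintype_card, Fintype.card_subtype] at hmiss
    convert hmiss
  have hfilt : (Finset.univ.filter
      (fun C : ConjClasses G => ¬ ∃ g ∈ H, ConjClasses.mk g = C)) =
      Finset.univ.filter
        (fun C : ConjClasses G => ∀ g : G, ConjClasses.mk g = C → g ∉ H) := by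
    ext C
    simp only [Finset.mem_filter, Finset.mem_univ, true_and]
    constructor
    · intro h' g hg hgH
      exact h' ⟨g, hgH, hg⟩
    · rintro h' ⟨g, hgH, hg⟩
      exact h' g hg hgH
  rw [hfilt]
  set m := (Finset.univ.filter
    (fun C : ConjClasses G => ∃ g ∈ H, ConjClasses.mk g = C)).card with hm
  have hepos : 0 < e := by
    rw [← he]
    exact Nat.card_pos
  have hm1 : 1 ≤ m := by
    rw [hm]
    apply Finset.card_pos.2
    refine ⟨ConjClasses.mk 1, ?_⟩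
    rw [Finset.mem_filter]
    exact ⟨Finset.mem_univ _, 1, H.one_mem, rfl⟩
  have hs : Nat.card S ≤ m - 1 := by
    have h1 : Nat.card S * e ≤ (m - 1) * e := by
      rw [hse]
      omega
    exact Nat.le_of_mul_le_mul_right h1 hepos
  omega

open Classical in
/-- the structure of the constituents of the induced relevant characters -/
theorem zas_structure [IsSimpleGroup G] (h e : ℕ) (hh : Fintype.card Ω = h + 1)
    (he : Nat.card ↥(stabilizer G a ⊓ stabilizer G b : Subgroup G) = e) (hodd : Odd e)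
    (hlt : 2 * e < h - 1) [Fintype (stabilizer G a)]
    [Fintype (Cfsg.IrrCharacter (stabilizer G a))] [Fintype (Cfsg.IrrCharacter G)] :
    ∃ n : {χ : Cfsg.IrrCharacter (stabilizer G a) //
        (χ : stabilizer G a → ℂ) ∈ zasRel a H} → Cfsg.IrrCharacter G → ℕ,
      (∀ (χ : {χ : Cfsg.IrrCharacter (stabilizer G a) //
        (χ : stabilizer G a → ℂ) ∈ zasRel a H}) (Ξ : Cfsg.IrrCharacter G),
        Cfsg.classInner (Cfsg.indFun (stabilizer G a) (χ.1 : stabilizer G a → ℂ))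
        (Ξ : G → ℂ) = (n χ Ξ : ℂ)) ∧
      (∀ χ Ξ, n χ Ξ ≤ 1) ∧
      (∀ χ, n χ ⟨fun _ => 1, isIrrCharacter_one⟩ = 0) ∧
      (∀ Ξ : Cfsg.IrrCharacter G, (Ξ : G → ℂ) ≠ (fun _ => 1) →
        (∀ χ, n χ Ξ = 1) ∨ ∃ χ, n χ Ξ = 1 ∧ ∀ χ', χ' ≠ χ → n χ' Ξ = 0) ∧
      (∀ χ χ₁ Ξ Ξ', n χ₁ Ξ = 0 → n χ Ξ ≠ 0 → n χ₁ Ξ' = 0 → n χ Ξ' ≠ 0 → Ξ = Ξ') := by
  classical
  set S := {χ : Cfsg.IrrCharacter (stabilizer G a) //
      (χ : stabilizer G a → ℂ) ∈ zasRel a H} with hS
  have hn : ∀ (χ : S) (Ξ : Cfsg.IrrCharacter G), ∃ k : ℕ,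
      Cfsg.classInner (Cfsg.indFun (stabilizer G a) (χ.1 : stabilizer G a → ℂ))
        (Ξ : G → ℂ) = k := fun χ Ξ =>
    classInner_char_char_nat (isCharacter_indFun _ _ (IsIrrCharacter.isCharacter χ.1.2))
      (IsIrrCharacter.isCharacter Ξ.2)
  choose n hn using hn
  refine ⟨n, hn, ?_⟩
  haveI : Fintype S := Fintype.ofFinite S
  set i₀ : Cfsg.IrrCharacter G := ⟨fun _ => 1, isIrrCharacter_one⟩ with hi₀
  have hH1 : H ≠ ⊥ := by
    intro h'
    rw [h', Subgroup.card_bot] at hHcard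
    omega
  have hgram : ∀ χ χ' : S, ∑ Ξ, n χ Ξ * n χ' Ξ = e + if χ = χ' then 1 else 0 := by
    intro χ χ'
    have h1 := classInner_eq_sum_irr (Cfsg.indFun (stabilizer G a) (χ.1 : stabilizer G a → ℂ))
      (Cfsg.indFun (stabilizer G a) (χ'.1 : stabilizer G a → ℂ)) (indFun_isClassFunction _ _)
    rw [zas_classInner_ind_rel hZ hab H hHa hHcard hHfix hHab χ.2 χ'.2,
      classInner_irr_ite χ.1.2 χ'.1.2, he] at h1
    have h2 : (∑ Ξ : Cfsg.IrrCharacter G,
        Cfsg.classInner (Cfsg.indFun (stabilizer G a) (χ.1 : stabilizer G a → ℂ)) (Ξ : G → ℂ) *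
          conj (Cfsg.classInner (Cfsg.indFun (stabilizer G a) (χ'.1 : stabilizer G a → ℂ))
            (Ξ : G → ℂ))) = ((∑ Ξ, n χ Ξ * n χ' Ξ : ℕ) : ℂ) := by
      push_cast
      apply Finset.sum_congr rfl
      intro Ξ _
      rw [hn, hn, Complex.conj_natCast]
    rw [h2] at h1
    have h3 : ((if (χ.1 : stabilizer G a → ℂ) = (χ'.1 : stabilizer G a → ℂ) then (1 : ℂ) else 0) +
        (e : ℂ)) = ((e + if χ = χ' then 1 else 0 : ℕ) : ℂ) := by
      by_cases hχ : χ = χ'
      · rw [if_pos hχ, if_pos (by rw [hχ])]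
        push_cast
        ring
      · rw [if_neg hχ, if_neg (fun h' => hχ (Subtype.ext (Subtype.ext h')))]
        push_cast
        ring
    rw [h3] at h1
    exact_mod_cast h1.symm
  have hcard : Fintype.card (Cfsg.IrrCharacter G) = 1 + e + Fintype.card S := by
    have := zas_card_irr_eq hZ hab H hHa hHcard hHfix hHab h e hh he hodd hlt
    rw [Nat.card_eq_fintype_card, Nat.card_eq_fintype_card] at this
    exact this
  have h0 : ∀ χ : S, n χ i₀ = 0 := by
    intro χ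
    have h1 := hn χ i₀
    have hcf : Cfsg.IsClassFunction G (fun _ : G => (1 : ℂ)) :=
      IsCharacter.isClassFunction (IsIrrCharacter.isCharacter isIrrCharacter_one)
    have hne : (χ.1 : stabilizer G a → ℂ) ≠ fun _ => 1 := by
      intro h'
      obtain ⟨k, -, hk⟩ := χ.2.2
      apply hk
      rw [h']
    rw [hi₀, frobenius_reciprocity _ _ _ hcf] at h1
    have h2 : Cfsg.classInner (χ.1 : stabilizer G a → ℂ) (fun _ : stabilizer G a => (1 : ℂ)) = 0 :=
      classInner_irr_ne χ.1.2 isIrrCharacter_one hne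
    rw [h2] at h1
    exact_mod_cast h1.symm
  have hpos : ∀ Ξ : Cfsg.IrrCharacter G, Ξ ≠ i₀ → ∃ χ : S, n χ Ξ ≠ 0 := by
    intro Ξ hΞ
    have hΞ1 : (Ξ : G → ℂ) ≠ fun _ => 1 := fun h' => hΞ (Subtype.ext h')
    obtain ⟨χ, hχ, hne⟩ := zas_exists_rel_constituent hZ hab H hHa hHcard hHfix hH1
      (Ξ : G → ℂ) Ξ.2 hΞ1
    refine ⟨⟨⟨χ, hχ.1⟩, hχ⟩, ?_⟩
    intro h0'
    apply hne
    have := hn ⟨⟨χ, hχ.1⟩, hχ⟩ Ξ
    rw [this, h0', Nat.cast_zero]
  have hU : ∀ (χ χ₁ : S) (Ξ Ξ' : Cfsg.IrrCharacter G), n χ₁ Ξ = 0 → n χ Ξ ≠ 0 → n χ₁ Ξ' = 0 →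
      n χ Ξ' ≠ 0 → Ξ = Ξ' := by
    intro χ χ₁ Ξ Ξ' h1 h2 h3 h4
    have hne : (χ.1 : stabilizer G a → ℂ) ≠ (χ₁.1 : stabilizer G a → ℂ) := by
      intro h'
      have : χ = χ₁ := Subtype.ext (Subtype.ext h')
      rw [this] at h2
      exact h2 h1
    apply Subtype.ext
    exact zas_unique_pos_constituent hZ hab H hHa hHcard hHfix hHab χ.2 χ₁.2 hne Ξ.2 Ξ'.2
      (by rw [hn, h1, Nat.cast_zero]) (by rw [hn]; exact_mod_cast h2)
      (by rw [hn, h3, Nat.cast_zero]) (by rw [hn]; exact_mod_cast h4)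
  have h01 := mult_free n e i₀ (fun χ => by rw [hgram χ χ, if_pos rfl]) hcard h0 hpos hU
  have hstr := struct_of_gram n e i₀ h01 hgram hcard h0 hpos
  exact ⟨h01, h0, fun Ξ hΞ => hstr Ξ (fun h' => hΞ (by rw [h'])), hU⟩

end

end Cfsg.Agent.Helper2.ZasTab
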