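import Mathlib
import Cfsg.Prelude.Def_Characters
import Cfsg.Agent.Helper2.ZasTabB

set_option autoImplicit false
set_option linter.style.haveILetI false
set_option linter.unusedSectionVars false

/-!
# Simple Zassenhaus groups with abelian kernel: restriction of irreducible characters to the kernel
-/

namespace Cfsg.Agent.Helper2.ZasTab

open MulAction Cfsg.Agent.Helper6
open scoped ComplexConjugate

variable {G Ω : Type*} [Group G] [MulAction G Ω]

section

variable [Fintype G] [Fintype Ω]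
  (hZ : Cfsg.IsZassenhausGroup G Ω) {a b : Ω} (hab : a ≠ b)
  (H : Subgroup G) (hHa : H ≤ stabilizer G a) (hHcard : Nat.card H + 1 = Fintype.card Ω)
  (hHfix : ∀ u ∈ H, u ≠ 1 → ∀ c : Ω, u • c = c → c = a)

include hZ hab hHa hHcard hHfix

theorem rel_iff [Fintype (stabilizer G a)] (χ : Cfsg.IrrCharacter (stabilizer G a)) :
    (¬ ∀ n ∈ H.subgroupOf (stabilizer G a),
      (χ : stabilizer G a → ℂ) n = (χ : stabilizer G a → ℂ) 1) ↔
        (χ : stabilizer G a → ℂ) ∈ zasRel a H := by
  constructor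
  · intro h
    push Not at h
    obtain ⟨n, hn, hne⟩ := h
    exact ⟨χ.2, n, Subgroup.mem_subgroupOf.mp hn, hne⟩
  · rintro ⟨-, n, hn, hne⟩ h
    exact hne (h n (Subgroup.mem_subgroupOf.mpr hn))

open Classical in
/-- restriction of an irreducible character of `G` to the kernel -/
theorem zas_restrict_kernel [Fintype (stabilizer G a)]
    [Fintype (Cfsg.IrrCharacter (stabilizer G a))] (Ξ : G → ℂ) (hΞ : Cfsg.IsIrrCharacter G Ξ) :
    ∃ g : ℕ, ∀ x : stabilizer G a, (x : G) ∈ H →
      Ξ x = (g : ℂ) + ∑ χ : {χ : Cfsg.IrrCharacter (stabilizer G a) //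
        (χ : stabilizer G a → ℂ) ∈ zasRel a H},
        Cfsg.classInner (Cfsg.indFun (stabilizer G a) (χ.1 : stabilizer G a → ℂ)) Ξ *
          (χ.1 : stabilizer G a → ℂ) x := by
  classical
  haveI := zas_kernel_subgroupOf_normal hZ hab H hHa hHcard hHfix
  set K := H.subgroupOf (stabilizer G a) with hK
  set res : stabilizer G a → ℂ := fun x => Ξ x with hres_def
  have hΞcf := IsCharacter.isClassFunction (IsIrrCharacter.isCharacter hΞ)
  have hres : Cfsg.IsCharacter (stabilizer G a) res :=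
    IsCharacter.restrict _ (IsIrrCharacter.isCharacter hΞ)
  have hexp := classFunction_expansion res (IsCharacter.isClassFunction hres)
  have hm : ∀ ψ : Cfsg.IrrCharacter (stabilizer G a), ∃ k : ℕ,
      Cfsg.classInner res (ψ : stabilizer G a → ℂ) = k := fun ψ =>
    classInner_char_char_nat hres (IsIrrCharacter.isCharacter ψ.2)
  choose m hm using hm
  have hd : ∀ ψ : Cfsg.IrrCharacter (stabilizer G a), ∃ k : ℕ,
      (ψ : stabilizer G a → ℂ) 1 = k := fun ψ =>
    IsCharacter.apply_one (IsIrrCharacter.isCharacter ψ.2)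
  choose d hd using hd
  refine ⟨∑ ψ ∈ Finset.univ.filter (fun ψ : Cfsg.IrrCharacter (stabilizer G a) =>
      ∀ n ∈ K, (ψ : stabilizer G a → ℂ) n = (ψ : stabilizer G a → ℂ) 1), m ψ * d ψ, ?_⟩
  intro x hx
  have h1 := congrFun hexp x
  simp only [Finset.sum_apply, Pi.smul_apply, smul_eq_mul] at h1
  have h2 : Ξ x = res x := rfl
  rw [h2, h1, ← Finset.sum_filter_add_sum_filter_not Finset.univ
    (fun ψ : Cfsg.IrrCharacter (stabilizer G a) =>
      ∀ n ∈ K, (ψ : stabilizer G a → ℂ) n = (ψ : stabilizer G a → ℂ) 1)]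
  congr 1
  · push_cast
    apply Finset.sum_congr rfl
    intro ψ hψ
    rw [Finset.mem_filter] at hψ
    rw [hψ.2 x (Subgroup.mem_subgroupOf.2 hx), hm, hd]
  · have h3 : ∀ ψ : Cfsg.IrrCharacter (stabilizer G a),
        Cfsg.classInner res (ψ : stabilizer G a → ℂ) =
          Cfsg.classInner (Cfsg.indFun (stabilizer G a) (ψ : stabilizer G a → ℂ)) Ξ := by
      intro ψ
      rw [frobenius_reciprocity _ _ _ hΞcf, classInner_conj_symm res (ψ : stabilizer G a → ℂ),
        hm, Complex.conj_natCast]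
    rw [Finset.sum_congr rfl (fun ψ _ => by rw [h3 ψ])]
    apply Finset.sum_subtype
    intro χ
    simp only [Finset.mem_filter, Finset.mem_univ, true_and]
    exact rel_iff hZ hab H hHa hHcard hHfix χ

/-- a relevant character sums to zero -/
theorem zas_rel_sum_eq_zero [Fintype (stabilizer G a)] {χ : stabilizer G a → ℂ}
    (hχ : χ ∈ zasRel a H) : ∑ x : stabilizer G a, χ x = 0 := by
  have hne : χ ≠ fun _ => 1 := by
    intro h'
    obtain ⟨k, -, hk⟩ := hχ.2
    apply hk
    rw [h']
  have h2 : Cfsg.classInner χ (fun _ : stabilizer G a => (1 : ℂ)) = 0 :=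
    classInner_irr_ne hχ.1 isIrrCharacter_one hne
  rw [classInner_def] at h2
  simp only [map_one, mul_one] at h2
  rcases mul_eq_zero.1 h2 with h3 | h3
  · exfalso
    have : (Nat.card (stabilizer G a) : ℂ) ≠ 0 := by
      have : 0 < Nat.card (stabilizer G a) := Nat.card_pos
      exact_mod_cast this.ne'
    exact this (inv_eq_zero.1 h3)
  · exact h3

open Classical in
/-- the relevant characters sum to `-1` on the non-identity elements of the kernel -/
theorem zas_sum_rel_apply [Fintype (stabilizer G a)]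
    [Fintype (Cfsg.IrrCharacter (stabilizer G a))] (hHab : ∀ u ∈ H, ∀ v ∈ H, u * v = v * u)
    (x : stabilizer G a) (hx : (x : G) ∈ H) (hx1 : x ≠ 1) :
    ∑ χ : {χ : Cfsg.IrrCharacter (stabilizer G a) //
        (χ : stabilizer G a → ℂ) ∈ zasRel a H}, (χ.1 : stabilizer G a → ℂ) x = -1 := by
  classical
  haveI := zas_kernel_subgroupOf_normal hZ hab H hHa hHcard hHfix
  set K := H.subgroupOf (stabilizer G a) with hK
  have h0 := sum_degree_mul_irr (G := stabilizer G a) x
  rw [if_neg hx1, ← Finset.sum_filter_add_sum_filter_not Finset.univ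
    (fun χ : Cfsg.IrrCharacter (stabilizer G a) =>
      ∀ n ∈ K, (χ : stabilizer G a → ℂ) n = (χ : stabilizer G a → ℂ) 1)] at h0
  have hker := sum_sq_degrees_of_le_ker K
  rw [zas_kernel_subgroupOf_index hZ hab H hHa hHcard hHfix] at hker
  set e := Nat.card ↥(stabilizer G a ⊓ stabilizer G b : Subgroup G) with he
  have h1 : ∑ χ ∈ Finset.univ.filter (fun χ : Cfsg.IrrCharacter (stabilizer G a) =>
      ∀ n ∈ K, (χ : stabilizer G a → ℂ) n = (χ : stabilizer G a → ℂ) 1),
      (χ : stabilizer G a → ℂ) 1 * (χ : stabilizer G a → ℂ) x = (e : ℂ) := by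
    rw [← hker]
    push_cast
    apply Finset.sum_congr rfl
    intro χ hχ
    rw [Finset.mem_filter] at hχ
    rw [hχ.2 x (Subgroup.mem_subgroupOf.2 hx),
      ← charDegree_cast_of_isCharacter (IsIrrCharacter.isCharacter χ.2)]
    ring
  have h2 : ∑ χ ∈ Finset.univ.filter (fun χ : Cfsg.IrrCharacter (stabilizer G a) =>
      ¬ ∀ n ∈ K, (χ : stabilizer G a → ℂ) n = (χ : stabilizer G a → ℂ) 1),
      (χ : stabilizer G a → ℂ) 1 * (χ : stabilizer G a → ℂ) x =
      (e : ℂ) * ∑ χ : {χ : Cfsg.IrrCharacter (stabilizer G a) //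
        (χ : stabilizer G a → ℂ) ∈ zasRel a H}, (χ.1 : stabilizer G a → ℂ) x := by
    have h3 : ∀ χ ∈ Finset.univ.filter (fun χ : Cfsg.IrrCharacter (stabilizer G a) =>
        ¬ ∀ n ∈ K, (χ : stabilizer G a → ℂ) n = (χ : stabilizer G a → ℂ) 1),
        (χ : stabilizer G a → ℂ) 1 * (χ : stabilizer G a → ℂ) x =
          (e : ℂ) * (χ : stabilizer G a → ℂ) x := by
      intro χ hχ
      rw [Finset.mem_filter] at hχ
      rw [zasRel_apply_one hZ hab H hHa hHcard hHfix hHab
        ((rel_iff hZ hab H hHa hHcard hHfix χ).1 hχ.2)]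
    rw [Finset.sum_congr rfl h3, ← Finset.mul_sum]
    congr 1
    apply Finset.sum_subtype
    intro χ
    simp only [Finset.mem_filter, Finset.mem_univ, true_and]
    exact rel_iff hZ hab H hHa hHcard hHfix χ
  rw [h1, h2] at h0
  have he0 : (e : ℂ) ≠ 0 := by
    have : 0 < e := Nat.card_pos
    exact_mod_cast this.ne'
  have h4 : (e : ℂ) * (1 + ∑ χ : {χ : Cfsg.IrrCharacter (stabilizer G a) //
        (χ : stabilizer G a → ℂ) ∈ zasRel a H}, (χ.1 : stabilizer G a → ℂ) x) = 0 := by
    rw [mul_add, mul_one]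
    exact h0
  rcases mul_eq_zero.1 h4 with h5 | h5
  · exact absurd h5 he0
  · exact eq_neg_of_add_eq_zero_right h5

end

end Cfsg.Agent.Helper2.ZasTab
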