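import Mathlib
import Cfsg.Prelude.Def_Characters
import Cfsg.Agent.Helper2.ZasTabC

set_option autoImplicit false
set_option linter.style.haveILetI false
set_option linter.unusedSectionVars false

/-!
# Simple Zassenhaus groups with abelian kernel: the character induced from the trivial character
of the kernel
-/

namespace Cfsg.Agent.Helper2.ZasTab

open MulAction Cfsg.Agent.Helper6
open scoped ComplexConjugate

variable {G Ω : Type*} [Group G] [MulAction G Ω]

open Classical in
/-- the function `e · 1_H` on the point stabiliser -/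
noncomputable def thetaZero (a b : Ω) (H : Subgroup G) : stabilizer G a → ℂ :=
  fun x => if (x : G) ∈ H then
    (Nat.card ↥(stabilizer G a ⊓ stabilizer G b : Subgroup G) : ℂ) else 0

theorem thetaZero_mem (a b : Ω) (H : Subgroup G) {x : stabilizer G a} (hx : (x : G) ∈ H) :
    thetaZero a b H x = (Nat.card ↥(stabilizer G a ⊓ stabilizer G b : Subgroup G) : ℂ) := by
  unfold thetaZero
  rw [if_pos hx]

theorem thetaZero_not_mem (a b : Ω) (H : Subgroup G) {x : stabilizer G a} (hx : (x : G) ∉ H) :
    thetaZero a b H x = 0 := by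
  unfold thetaZero
  rw [if_neg hx]

theorem thetaZero_conj (a b : Ω) (H : Subgroup G) (x : stabilizer G a) :
    conj (thetaZero a b H x) = thetaZero a b H x := by
  unfold thetaZero
  split_ifs
  · rw [Complex.conj_natCast]
  · rw [map_zero]

section

variable [Fintype G] [Fintype Ω]
  (hZ : Cfsg.IsZassenhausGroup G Ω) {a b : Ω} (hab : a ≠ b)
  (H : Subgroup G) (hHa : H ≤ stabilizer G a) (hHcard : Nat.card H + 1 = Fintype.card Ω)
  (hHfix : ∀ u ∈ H, u ≠ 1 → ∀ c : Ω, u • c = c → c = a)

include hZ hab hHa hHcard hHfix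

theorem thetaZero_isClassFunction :
    Cfsg.IsClassFunction (stabilizer G a) (thetaZero a b H) := by
  intro g h
  have hiff : ((h * g * h⁻¹ : stabilizer G a) : G) ∈ H ↔ (g : G) ∈ H := by
    constructor
    · intro h1
      have h2 := zas_kernel_conj_mem hZ hab H hHa hHcard hHfix
        (mem_stabilizer_iff.mp (h⁻¹ : stabilizer G a).2) h1
      have h3 : ((h⁻¹ : stabilizer G a) : G) * ((h * g * h⁻¹ : stabilizer G a) : G) *
          ((h⁻¹ : stabilizer G a) : G)⁻¹ = (g : G) := by
        push_cast
        group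
      rw [h3] at h2
      exact h2
    · intro h1
      have h2 := zas_kernel_conj_mem hZ hab H hHa hHcard hHfix
        (mem_stabilizer_iff.mp h.2) h1
      have h3 : ((h * g * h⁻¹ : stabilizer G a) : G) = (h : G) * (g : G) * (h : G)⁻¹ := by
        push_cast
        rfl
      rw [h3]
      exact h2
  by_cases hg : (g : G) ∈ H
  · rw [thetaZero_mem a b H hg, thetaZero_mem a b H (hiff.2 hg)]
  · rw [thetaZero_not_mem a b H hg, thetaZero_not_mem a b H (fun h' => hg (hiff.1 h'))]

/-- `∑ θ₀ = e h` -/
theorem sum_thetaZero [Fintype (stabilizer G a)] :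
    ∑ x : stabilizer G a, thetaZero a b H x =
      (Nat.card ↥(stabilizer G a ⊓ stabilizer G b : Subgroup G) : ℂ) * (Nat.card H : ℂ) := by
  classical
  have h1 : ∀ x : stabilizer G a, thetaZero a b H x =
      if x ∈ H.subgroupOf (stabilizer G a) then
        (Nat.card ↥(stabilizer G a ⊓ stabilizer G b : Subgroup G) : ℂ) else 0 := by
    intro x
    by_cases hx : (x : G) ∈ H
    · rw [thetaZero_mem a b H hx, if_pos (Subgroup.mem_subgroupOf.2 hx)]
    · rw [thetaZero_not_mem a b H hx, if_neg (fun h' => hx (Subgroup.mem_subgroupOf.1 h'))]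
  rw [Finset.sum_congr rfl (fun x _ => h1 x), ← Finset.sum_filter, Finset.sum_const, nsmul_eq_mul,
    mul_comm]
  congr 1
  have h2 : (Finset.univ.filter (fun x : stabilizer G a =>
      x ∈ H.subgroupOf (stabilizer G a))).card = Nat.card (H.subgroupOf (stabilizer G a)) := by
    rw [Nat.card_eq_fintype_card, Fintype.card_subtype]
  rw [h2, Nat.card_congr (Subgroup.subgroupOfEquivOfLe hHa).toEquiv]

/-- the norm of the character induced from `1_H` -/
theorem zas_norm_pi [Fintype (stabilizer G a)] :
    Cfsg.classInner (Cfsg.indFun (stabilizer G a) (thetaZero a b H))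
      (Cfsg.indFun (stabilizer G a) (thetaZero a b H)) =
      2 * (Nat.card ↥(stabilizer G a ⊓ stabilizer G b : Subgroup G) : ℂ) := by
  classical
  set e := Nat.card ↥(stabilizer G a ⊓ stabilizer G b : Subgroup G) with he
  have he0 : (e : ℂ) ≠ 0 := by
    have : 0 < e := Nat.card_pos
    exact_mod_cast this.ne'
  have hH0 : (Nat.card H : ℂ) ≠ 0 := by
    have : 0 < Nat.card H := Nat.card_pos
    exact_mod_cast this.ne'
  rw [zas_classInner_indFun hZ hab H hHa hHcard hHfix (thetaZero a b H) (thetaZero a b H)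
    (thetaZero_isClassFunction hZ hab H hHa hHcard hHfix)
    (fun x hx => thetaZero_not_mem a b H hx)]
  have h1 : thetaZero a b H (1 : stabilizer G a) = (e : ℂ) :=
    thetaZero_mem a b H (by rw [Subgroup.coe_one]; exact H.one_mem)
  rw [h1, Complex.conj_natCast, classInner_def]
  have h2 : ∀ x : stabilizer G a, thetaZero a b H x * conj (thetaZero a b H x) =
      (e : ℂ) * thetaZero a b H x := by
    intro x
    rw [thetaZero_conj]
    by_cases hx : (x : G) ∈ H
    · rw [thetaZero_mem a b H hx]
    · rw [thetaZero_not_mem a b H hx]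
      ring
  rw [Finset.sum_congr rfl (fun x _ => h2 x), ← Finset.mul_sum,
    sum_thetaZero hZ hab H hHa hHcard hHfix, zas_card_stabilizer hZ hab H hHa hHcard hHfix]
  have h3 : Fintype.card Ω - 1 = Nat.card H := by omega
  rw [h3, ← he]
  push_cast
  field_simp
  ring

open Classical in
/-- the inner product of the character induced from `1_H` with an irreducible character -/
theorem zas_inner_pi [Fintype (stabilizer G a)] [Fintype (Cfsg.IrrCharacter (stabilizer G a))]
    (Ξ : G → ℂ) (hΞ : Cfsg.IsIrrCharacter G Ξ) (g : ℕ)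
    (hg : ∀ x : stabilizer G a, (x : G) ∈ H →
      Ξ x = (g : ℂ) + ∑ χ : {χ : Cfsg.IrrCharacter (stabilizer G a) //
        (χ : stabilizer G a → ℂ) ∈ zasRel a H},
        Cfsg.classInner (Cfsg.indFun (stabilizer G a) (χ.1 : stabilizer G a → ℂ)) Ξ *
          (χ.1 : stabilizer G a → ℂ) x) :
    Cfsg.classInner (Cfsg.indFun (stabilizer G a) (thetaZero a b H)) Ξ = (g : ℂ) := by
  classical
  set e := Nat.card ↥(stabilizer G a ⊓ stabilizer G b : Subgroup G) with he
  have he0 : (e : ℂ) ≠ 0 := by
    have : 0 < e := Nat.card_pos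
    exact_mod_cast this.ne'
  have hH0 : (Nat.card H : ℂ) ≠ 0 := by
    have : 0 < Nat.card H := Nat.card_pos
    exact_mod_cast this.ne'
  have hΞcf := IsCharacter.isClassFunction (IsIrrCharacter.isCharacter hΞ)
  rw [frobenius_reciprocity _ _ _ hΞcf, classInner_def]
  have h1 : ∑ x : stabilizer G a, thetaZero a b H x * conj (Ξ x) =
      conj (∑ x : stabilizer G a, thetaZero a b H x * Ξ x) := by
    rw [map_sum]
    apply Finset.sum_congr rfl
    intro x _
    rw [map_mul, thetaZero_conj]
  have h2 : ∀ x : stabilizer G a, thetaZero a b H x * Ξ x =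
      (g : ℂ) * thetaZero a b H x + ∑ χ : {χ : Cfsg.IrrCharacter (stabilizer G a) //
        (χ : stabilizer G a → ℂ) ∈ zasRel a H},
        Cfsg.classInner (Cfsg.indFun (stabilizer G a) (χ.1 : stabilizer G a → ℂ)) Ξ *
          ((e : ℂ) * (χ.1 : stabilizer G a → ℂ) x) := by
    intro x
    by_cases hx : (x : G) ∈ H
    · rw [hg x hx, thetaZero_mem a b H hx, mul_add, Finset.mul_sum]
      congr 1
      · ring
      · apply Finset.sum_congr rfl
        intro χ _
        ring
    · rw [thetaZero_not_mem a b H hx, zero_mul, mul_zero, zero_add]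
      symm
      apply Finset.sum_eq_zero
      intro χ _
      rw [zasRel_apply_off hZ hab H hHa hHcard hHfix χ.2 x hx, mul_zero, mul_zero]
  rw [h1, Finset.sum_congr rfl (fun x _ => h2 x), Finset.sum_add_distrib, ← Finset.mul_sum,
    sum_thetaZero hZ hab H hHa hHcard hHfix, Finset.sum_comm]
  have h3 : ∑ χ : {χ : Cfsg.IrrCharacter (stabilizer G a) //
        (χ : stabilizer G a → ℂ) ∈ zasRel a H}, ∑ x : stabilizer G a,
        Cfsg.classInner (Cfsg.indFun (stabilizer G a) (χ.1 : stabilizer G a → ℂ)) Ξ *
          ((e : ℂ) * (χ.1 : stabilizer G a → ℂ) x) = 0 := by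
    apply Finset.sum_eq_zero
    intro χ _
    rw [← Finset.mul_sum, ← Finset.mul_sum,
      zas_rel_sum_eq_zero hZ hab H hHa hHcard hHfix χ.2, mul_zero, mul_zero]
  rw [h3, add_zero, zas_card_stabilizer hZ hab H hHa hHcard hHfix]
  have h4 : Fintype.card Ω - 1 = Nat.card H := by omega
  rw [h4, ← he]
  simp only [map_mul, Complex.conj_natCast]
  push_cast
  field_simp

/-- the degree of the character induced from `1_H` -/
theorem zas_pi_apply_one :
    Cfsg.indFun (stabilizer G a) (thetaZero a b H) 1 =
      (Fintype.card Ω : ℂ) * (Nat.card ↥(stabilizer G a ⊓ stabilizer G b : Subgroup G) : ℂ) := by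
  rw [indFun_apply_one, zas_index_stabilizer hZ hab H hHa hHcard hHfix,
    thetaZero_mem a b H (by rw [Subgroup.coe_one]; exact H.one_mem)]

end

end Cfsg.Agent.Helper2.ZasTab
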