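import Mathlib
import Cfsg.Agent.Helper2.FeitPB
import Cfsg.Agent.Helper2.ZasTabD
import Cfsg.Agent.Helper6.ZasChN
import Cfsg.Agent.Helper6.Regular

/-!
# Feit's theorem on Zassenhaus groups, general kernel: sums over the relevant characters and the
multiplicities of the irreducible characters of `G` in the induced characters
-/

set_option autoImplicit false
set_option linter.style.haveILetI false
set_option linter.unusedSectionVars false

namespace Cfsg.Agent.Helper2.FeitP

open MulAction Cfsg.Agent.Helper6 Cfsg.Agent.Helper2.ZasTab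
open scoped ComplexConjugate

variable {G Ω : Type*} [Group G] [MulAction G Ω]

section

variable [Fintype G] [Fintype Ω]
  (hZ : Cfsg.IsZassenhausGroup G Ω) {a b : Ω} (hab : a ≠ b)
  (H : Subgroup G) (hHa : H ≤ stabilizer G a) (hHcard : Nat.card H + 1 = Fintype.card Ω)
  (hHfix : ∀ u ∈ H, u ≠ 1 → ∀ c : Ω, u • c = c → c = a)

include hZ hab hHa hHcard hHfix

/-- `∑ χ(1) χ(k) = -e` for `1 ≠ k ∈ H` -/
theorem sum_dg_mul_apply [Fintype (stabilizer G a)]
    [Fintype (Cfsg.IrrCharacter (stabilizer G a))] [Fintype (ZasS a H)]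
    {k : stabilizer G a} (hk : (k : G) ∈ H) (hk1 : k ≠ 1) :
    ∑ χ : ZasS a H, ((dg χ : ℕ) : ℂ) * (χ.1 : stabilizer G a → ℂ) k =
      -(Nat.card ↥(stabilizer G a ⊓ stabilizer G b : Subgroup G) : ℂ) := by
  classical
  have h1 := sum_degree_mul_irr k
  rw [if_neg hk1, zas_sum_irr_split a H] at h1
  have h2 : ∀ ζ ∈ Finset.univ.filter (fun ζ : Cfsg.IrrCharacter (stabilizer G a) =>
      ∀ n ∈ H.subgroupOf (stabilizer G a),
        (ζ : stabilizer G a → ℂ) n = (ζ : stabilizer G a → ℂ) 1),
      (ζ : stabilizer G a → ℂ) 1 * (ζ : stabilizer G a → ℂ) k =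
        (ζ : stabilizer G a → ℂ) 1 * (ζ : stabilizer G a → ℂ) 1 := by
    intro ζ hζ
    rw [Finset.mem_filter] at hζ
    rw [hζ.2 k (Subgroup.mem_subgroupOf.mpr hk)]
  rw [Finset.sum_congr rfl h2, zas_sum_triv_deg_sq hZ hab H hHa hHcard hHfix] at h1
  have h3 : ∑ χ : ZasS a H, ((dg χ : ℕ) : ℂ) * (χ.1 : stabilizer G a → ℂ) k =
      ∑ χ : ZasS a H, (χ.1 : stabilizer G a → ℂ) 1 * (χ.1 : stabilizer G a → ℂ) k := by
    apply Finset.sum_congr rfl
    intro χ _
    rw [dg_cast]
  rw [h3]
  exact eq_neg_of_add_eq_zero_left h1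

/-- `∑ χ(1)^2 + e = |G_a|` -/
theorem sum_dg_sq [Fintype (stabilizer G a)]
    [Fintype (Cfsg.IrrCharacter (stabilizer G a))] [Fintype (ZasS a H)] :
    ∑ χ : ZasS a H, (dg χ) ^ 2 + Nat.card ↥(stabilizer G a ⊓ stabilizer G b : Subgroup G) =
      (Fintype.card Ω - 1) * Nat.card ↥(stabilizer G a ⊓ stabilizer G b : Subgroup G) := by
  classical
  have h1 := sum_degree_mul_irr (1 : stabilizer G a)
  rw [if_pos rfl, zas_sum_irr_split a H, zas_sum_triv_deg_sq hZ hab H hHa hHcard hHfix,
    zas_card_stabilizer hZ hab H hHa hHcard hHfix] at h1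
  have h3 : ∑ χ : ZasS a H, (χ.1 : stabilizer G a → ℂ) 1 * (χ.1 : stabilizer G a → ℂ) 1 =
      ((∑ χ : ZasS a H, (dg χ) ^ 2 : ℕ) : ℂ) := by
    push_cast
    apply Finset.sum_congr rfl
    intro χ _
    rw [dg_cast, sq]
  rw [h3] at h1
  exact_mod_cast h1

/-- the inner product of `e · 1_H` with a relevant character vanishes -/
theorem classInner_thetaZero_rel [Fintype (stabilizer G a)] (χ : ZasS a H) :
    Cfsg.classInner (thetaZero a b H) (χ.1 : stabilizer G a → ℂ) = 0 := by
  classical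
  rw [classInner_def]
  have h1 : ∀ x : stabilizer G a, thetaZero a b H x * conj ((χ.1 : stabilizer G a → ℂ) x) =
      (Nat.card ↥(stabilizer G a ⊓ stabilizer G b : Subgroup G) : ℂ) *
        conj ((χ.1 : stabilizer G a → ℂ) x) := by
    intro x
    by_cases hx : (x : G) ∈ H
    · rw [thetaZero_mem a b H hx]
    · rw [thetaZero_not_mem a b H hx, zasRel_apply_off hZ hab H hHa hHcard hHfix χ.2 x hx,
        map_zero, mul_zero, mul_zero]
  rw [Finset.sum_congr rfl (fun x _ => h1 x), ← Finset.mul_sum, ← map_sum,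
    zas_rel_sum_eq_zero hZ hab H hHa hHcard hHfix χ.2, map_zero, mul_zero, mul_zero]

/-- the inner product of the character induced from `e · 1_H` with an induced relevant
character -/
theorem classInner_pi_ind [Fintype (stabilizer G a)] (χ : ZasS a H) :
    Cfsg.classInner (Cfsg.indFun (stabilizer G a) (thetaZero a b H))
      (Cfsg.indFun (stabilizer G a) (χ.1 : stabilizer G a → ℂ)) = ((dg χ : ℕ) : ℂ) := by
  classical
  have he0 : (Nat.card ↥(stabilizer G a ⊓ stabilizer G b : Subgroup G) : ℂ) ≠ 0 := by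
    have : 0 < Nat.card ↥(stabilizer G a ⊓ stabilizer G b : Subgroup G) := Nat.card_pos
    exact_mod_cast this.ne'
  rw [zas_classInner_indFun hZ hab H hHa hHcard hHfix (thetaZero a b H)
    (χ.1 : stabilizer G a → ℂ) (IsCharacter.isClassFunction (IsIrrCharacter.isCharacter χ.1.2))
    (fun x hx => thetaZero_not_mem a b H hx),
    classInner_thetaZero_rel hZ hab H hHa hHcard hHfix χ, zero_add,
    thetaZero_mem a b H (by rw [Subgroup.coe_one]; exact H.one_mem), ← dg_cast,
    Complex.conj_natCast]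
  field_simp

/-- the inner product of two induced relevant characters -/
theorem classInner_ind_ind [Fintype (stabilizer G a)] (χ χ' : ZasS a H) :
    Cfsg.classInner (Cfsg.indFun (stabilizer G a) (χ.1 : stabilizer G a → ℂ))
      (Cfsg.indFun (stabilizer G a) (χ'.1 : stabilizer G a → ℂ)) =
      (if χ = χ' then 1 else 0) + ((dg χ : ℕ) : ℂ) * ((dg χ' : ℕ) : ℂ) /
        (Nat.card ↥(stabilizer G a ⊓ stabilizer G b : Subgroup G) : ℂ) := by
  classical
  rw [zas_classInner_indFun hZ hab H hHa hHcard hHfix (χ.1 : stabilizer G a → ℂ)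
    (χ'.1 : stabilizer G a → ℂ) (IsCharacter.isClassFunction (IsIrrCharacter.isCharacter χ'.1.2))
    (fun x hx => zasRel_apply_off hZ hab H hHa hHcard hHfix χ.2 x hx),
    classInner_irr_ite χ.1.2 χ'.1.2, ← dg_cast, ← dg_cast, Complex.conj_natCast]
  congr 2
  apply propext
  constructor
  · intro h
    apply Subtype.ext
    apply Subtype.ext
    exact h
  · intro h
    rw [h]

end

end Cfsg.Agent.Helper2.FeitP
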