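import Mathlib
import Cfsg.Agent.Helper2.FeitPC

/-!
# Feit's theorem on Zassenhaus groups, general kernel: multiplicities in the induced characters,
their Gram relations, and the consequences of the coherence relation
-/

set_option autoImplicit false
set_option linter.style.haveILetI false
set_option linter.unusedSectionVars false

namespace Cfsg.Agent.Helper2.FeitP

open MulAction Cfsg.Agent.Helper6 Cfsg.Agent.Helper2.ZasTab
open scoped ComplexConjugate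

variable {G Ω : Type*} [Group G] [MulAction G Ω]

section

variable [Fintype G] [Fintype Ω]
  (hZ : Cfsg.IsZassenhausGroup G Ω) {a b : Ω} (hab : a ≠ b)
  (H : Subgroup G) (hHa : H ≤ stabilizer G a) (hHcard : Nat.card H + 1 = Fintype.card Ω)
  (hHfix : ∀ u ∈ H, u ≠ 1 → ∀ c : Ω, u • c = c → c = a)

include hZ hab hHa hHcard hHfix

/-- multiplicities of the irreducible characters of `G` in the induced relevant characters and
in the character induced from `e · 1_H` -/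
theorem exists_mult [Fintype (stabilizer G a)] [Fintype (Cfsg.IrrCharacter (stabilizer G a))]
    [Fintype (ZasS a H)] :
    ∃ (m : ZasS a H → Cfsg.IrrCharacter G → ℕ) (g : Cfsg.IrrCharacter G → ℕ),
      (∀ (χ : ZasS a H) (Ξ : Cfsg.IrrCharacter G),
        Cfsg.classInner (Cfsg.indFun (stabilizer G a) (χ.1 : stabilizer G a → ℂ))
          (Ξ : G → ℂ) = (m χ Ξ : ℂ)) ∧
      (∀ (Ξ : Cfsg.IrrCharacter G) (x : stabilizer G a), (x : G) ∈ H →
        (Ξ : G → ℂ) x = (g Ξ : ℂ) +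
          ∑ χ : ZasS a H, (m χ Ξ : ℂ) * (χ.1 : stabilizer G a → ℂ) x) ∧
      (∀ Ξ : Cfsg.IrrCharacter G,
        Cfsg.classInner (Cfsg.indFun (stabilizer G a) (thetaZero a b H)) (Ξ : G → ℂ) =
          (g Ξ : ℂ)) := by
  classical
  have hm : ∀ (χ : ZasS a H) (Ξ : Cfsg.IrrCharacter G), ∃ k : ℕ,
      Cfsg.classInner (Cfsg.indFun (stabilizer G a) (χ.1 : stabilizer G a → ℂ))
        (Ξ : G → ℂ) = (k : ℂ) := fun χ Ξ =>
    classInner_char_char_nat
      (isCharacter_indFun _ _ (IsIrrCharacter.isCharacter χ.1.2)) (IsIrrCharacter.isCharacter Ξ.2)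
  choose m hm using hm
  have hg : ∀ Ξ : Cfsg.IrrCharacter G, ∃ g : ℕ, ∀ x : stabilizer G a, (x : G) ∈ H →
      (Ξ : G → ℂ) x = (g : ℂ) + ∑ χ : ZasS a H,
        Cfsg.classInner (Cfsg.indFun (stabilizer G a) (χ.1 : stabilizer G a → ℂ)) (Ξ : G → ℂ) *
          (χ.1 : stabilizer G a → ℂ) x := by
    intro Ξ
    obtain ⟨g, hg⟩ := zas_restrict_kernel hZ hab H hHa hHcard hHfix (Ξ : G → ℂ) Ξ.2
    refine ⟨g, fun x hx => ?_⟩
    rw [hg x hx]
    congr 1
    apply Finset.sum_congr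
    · ext χ
      simp
    · intro χ _
      rfl
  choose g hg using hg
  refine ⟨m, g, hm, ?_, ?_⟩
  · intro Ξ x hx
    rw [hg Ξ x hx]
    congr 1
    apply Finset.sum_congr rfl
    intro χ _
    rw [hm]
  · intro Ξ
    apply zas_inner_pi hZ hab H hHa hHcard hHfix (Ξ : G → ℂ) Ξ.2 (g Ξ)
    intro x hx
    rw [hg Ξ x hx]
    congr 1
    apply Finset.sum_congr
    · ext χ
      simp
    · intro χ _
      rfl

end

section

variable [Fintype G] [Fintype Ω]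
  (hZ : Cfsg.IsZassenhausGroup G Ω) {a b : Ω} (hab : a ≠ b)
  (H : Subgroup G) (hHa : H ≤ stabilizer G a) (hHcard : Nat.card H + 1 = Fintype.card Ω)
  (hHfix : ∀ u ∈ H, u ≠ 1 → ∀ c : Ω, u • c = c → c = a)
  [Fintype (stabilizer G a)] [Fintype (Cfsg.IrrCharacter (stabilizer G a))]
  [Fintype (ZasS a H)] [Fintype (Cfsg.IrrCharacter G)]
  (m : ZasS a H → Cfsg.IrrCharacter G → ℕ) (g : Cfsg.IrrCharacter G → ℕ)
  (hm : ∀ (χ : ZasS a H) (Ξ : Cfsg.IrrCharacter G),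
    Cfsg.classInner (Cfsg.indFun (stabilizer G a) (χ.1 : stabilizer G a → ℂ))
      (Ξ : G → ℂ) = (m χ Ξ : ℂ))
  (hgπ : ∀ Ξ : Cfsg.IrrCharacter G,
    Cfsg.classInner (Cfsg.indFun (stabilizer G a) (thetaZero a b H)) (Ξ : G → ℂ) = (g Ξ : ℂ))

include hZ hab hHa hHcard hHfix hm hgπ

/-- `∑ g² = 2e` -/
theorem sum_g_sq :
    ∑ Ξ : Cfsg.IrrCharacter G, (g Ξ : ℤ) ^ 2 =
      2 * (Nat.card ↥(stabilizer G a ⊓ stabilizer G b : Subgroup G) : ℤ) := by
  have h1 := classInner_eq_sum_irr (Cfsg.indFun (stabilizer G a) (thetaZero a b H))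
    (Cfsg.indFun (stabilizer G a) (thetaZero a b H)) (indFun_isClassFunction _ _)
  rw [zas_norm_pi hZ hab H hHa hHcard hHfix] at h1
  have h2 : ∑ Ξ : Cfsg.IrrCharacter G,
      Cfsg.classInner (Cfsg.indFun (stabilizer G a) (thetaZero a b H)) (Ξ : G → ℂ) *
        conj (Cfsg.classInner (Cfsg.indFun (stabilizer G a) (thetaZero a b H)) (Ξ : G → ℂ)) =
      ((∑ Ξ : Cfsg.IrrCharacter G, (g Ξ : ℤ) ^ 2 : ℤ) : ℂ) := by
    push_cast
    apply Finset.sum_congr rfl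
    intro Ξ _
    rw [hgπ, Complex.conj_natCast, sq]
  rw [h2] at h1
  exact_mod_cast h1.symm

/-- `∑ g · m_χ = χ(1)` -/
theorem sum_g_mul_m (χ : ZasS a H) :
    ∑ Ξ : Cfsg.IrrCharacter G, (g Ξ : ℤ) * (m χ Ξ : ℤ) = (dg χ : ℤ) := by
  have h1 := classInner_eq_sum_irr (Cfsg.indFun (stabilizer G a) (thetaZero a b H))
    (Cfsg.indFun (stabilizer G a) (χ.1 : stabilizer G a → ℂ)) (indFun_isClassFunction _ _)
  rw [classInner_pi_ind hZ hab H hHa hHcard hHfix χ] at h1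
  have h2 : ∑ Ξ : Cfsg.IrrCharacter G,
      Cfsg.classInner (Cfsg.indFun (stabilizer G a) (thetaZero a b H)) (Ξ : G → ℂ) *
        conj (Cfsg.classInner (Cfsg.indFun (stabilizer G a) (χ.1 : stabilizer G a → ℂ))
          (Ξ : G → ℂ)) =
      ((∑ Ξ : Cfsg.IrrCharacter G, (g Ξ : ℤ) * (m χ Ξ : ℤ) : ℤ) : ℂ) := by
    push_cast
    apply Finset.sum_congr rfl
    intro Ξ _
    rw [hgπ, hm, Complex.conj_natCast]
  rw [h2] at h1
  exact_mod_cast h1.symm

/-- `e ∑ m_χ m_χ' = e δ + χ(1) χ'(1)` -/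
theorem sum_m_mul_m [DecidableEq (ZasS a H)] (χ χ' : ZasS a H) :
    (Nat.card ↥(stabilizer G a ⊓ stabilizer G b : Subgroup G) : ℤ) *
      ∑ Ξ : Cfsg.IrrCharacter G, (m χ Ξ : ℤ) * (m χ' Ξ : ℤ) =
      (Nat.card ↥(stabilizer G a ⊓ stabilizer G b : Subgroup G) : ℤ) * (if χ = χ' then 1 else 0) +
        (dg χ : ℤ) * (dg χ' : ℤ) := by
  have he0 : (Nat.card ↥(stabilizer G a ⊓ stabilizer G b : Subgroup G) : ℂ) ≠ 0 := by
    have : 0 < Nat.card ↥(stabilizer G a ⊓ stabilizer G b : Subgroup G) := Nat.card_pos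
    exact_mod_cast this.ne'
  have h1 := classInner_eq_sum_irr (Cfsg.indFun (stabilizer G a) (χ.1 : stabilizer G a → ℂ))
    (Cfsg.indFun (stabilizer G a) (χ'.1 : stabilizer G a → ℂ)) (indFun_isClassFunction _ _)
  rw [classInner_ind_ind hZ hab H hHa hHcard hHfix χ χ'] at h1
  have h2 : ∑ Ξ : Cfsg.IrrCharacter G,
      Cfsg.classInner (Cfsg.indFun (stabilizer G a) (χ.1 : stabilizer G a → ℂ)) (Ξ : G → ℂ) *
        conj (Cfsg.classInner (Cfsg.indFun (stabilizer G a) (χ'.1 : stabilizer G a → ℂ))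
          (Ξ : G → ℂ)) =
      ((∑ Ξ : Cfsg.IrrCharacter G, (m χ Ξ : ℤ) * (m χ' Ξ : ℤ) : ℤ) : ℂ) := by
    push_cast
    apply Finset.sum_congr rfl
    intro Ξ _
    rw [hm, hm, Complex.conj_natCast]
  rw [h2] at h1
  have h3 : ((Nat.card ↥(stabilizer G a ⊓ stabilizer G b : Subgroup G) : ℤ) : ℂ) *
      ((∑ Ξ : Cfsg.IrrCharacter G, (m χ Ξ : ℤ) * (m χ' Ξ : ℤ) : ℤ) : ℂ) =
      (((Nat.card ↥(stabilizer G a ⊓ stabilizer G b : Subgroup G) : ℤ) *
        (if χ = χ' then 1 else 0) + (dg χ : ℤ) * (dg χ' : ℤ) : ℤ) : ℂ) := by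
    rw [← h1]
    push_cast
    by_cases hχ : χ = χ'
    · simp only [if_pos hχ]
      field_simp
    · simp only [if_neg hχ]
      field_simp
  exact_mod_cast h3

end

end Cfsg.Agent.Helper2.FeitP
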