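import Mathlib
import Cfsg.Agent.Helper2.FeitPD

/-!
# Feit's theorem on Zassenhaus groups, general kernel: values and degrees of the irreducible
characters of `G` in terms of the exceptional characters, and the main identity
-/

set_option autoImplicit false
set_option linter.style.haveILetI false
set_option linter.unusedSectionVars false
set_option linter.unusedDecidableInType false

namespace Cfsg.Agent.Helper2.FeitP

open MulAction Cfsg.Agent.Helper6 Cfsg.Agent.Helper2.ZasTab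
open scoped ComplexConjugate

variable {G Ω : Type*} [Group G] [MulAction G Ω]

open Classical in
/-- the indicator of `X χ = Ξ` -/
noncomputable def ex {a : Ω} {H : Subgroup G} (X : ZasS a H → Cfsg.IrrCharacter G)
    (χ : ZasS a H) (Ξ : Cfsg.IrrCharacter G) : ℤ := if X χ = Ξ then 1 else 0

theorem ex_self {a : Ω} {H : Subgroup G} (X : ZasS a H → Cfsg.IrrCharacter G) (χ : ZasS a H) :
    ex X χ (X χ) = 1 := by
  unfold ex
  rw [if_pos rfl]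

theorem ex_of_ne {a : Ω} {H : Subgroup G} (X : ZasS a H → Cfsg.IrrCharacter G) {χ : ZasS a H}
    {Ξ : Cfsg.IrrCharacter G} (h : X χ ≠ Ξ) : ex X χ Ξ = 0 := by
  unfold ex
  rw [if_neg h]

theorem sum_ex_mul {a : Ω} {H : Subgroup G} [Fintype (ZasS a H)]
    (X : ZasS a H → Cfsg.IrrCharacter G) (hX : Function.Injective X) (ε : ZasS a H → ℤ)
    (χ₀ : ZasS a H) (f : ZasS a H → ℂ) :
    ∑ χ : ZasS a H, ((ε χ * ex X χ (X χ₀) : ℤ) : ℂ) * f χ = ((ε χ₀ : ℤ) : ℂ) * f χ₀ := by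
  rw [Finset.sum_eq_single χ₀]
  · rw [ex_self, mul_one]
  · intro χ _ hne
    rw [ex_of_ne X (fun h => hne (hX h)), mul_zero, Int.cast_zero, zero_mul]
  · intro h
    exact absurd (Finset.mem_univ _) h

theorem sum_ex_mul_int {a : Ω} {H : Subgroup G} [Fintype (ZasS a H)]
    (X : ZasS a H → Cfsg.IrrCharacter G) (hX : Function.Injective X) (ε : ZasS a H → ℤ)
    (χ₀ : ZasS a H) (f : ZasS a H → ℤ) :
    ∑ χ : ZasS a H, (ε χ * ex X χ (X χ₀)) * f χ = ε χ₀ * f χ₀ := by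
  rw [Finset.sum_eq_single χ₀]
  · rw [ex_self, mul_one]
  · intro χ _ hne
    rw [ex_of_ne X (fun h => hne (hX h)), mul_zero, zero_mul]
  · intro h
    exact absurd (Finset.mem_univ _) h

theorem sum_ex_mul_of_not_mem {a : Ω} {H : Subgroup G} [Fintype (ZasS a H)]
    (X : ZasS a H → Cfsg.IrrCharacter G) (ε : ZasS a H → ℤ)
    {Ξ : Cfsg.IrrCharacter G} (hΞ : ∀ χ, X χ ≠ Ξ) (f : ZasS a H → ℂ) :
    ∑ χ : ZasS a H, ((ε χ * ex X χ Ξ : ℤ) : ℂ) * f χ = 0 := by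
  apply Finset.sum_eq_zero
  intro χ _
  rw [ex_of_ne X (hΞ χ), mul_zero, Int.cast_zero, zero_mul]

/-- the integer `b_Ξ` -/
noncomputable def bb {a : Ω} {H : Subgroup G} (m : ZasS a H → Cfsg.IrrCharacter G → ℕ)
    (X : ZasS a H → Cfsg.IrrCharacter G) (ε : ZasS a H → ℤ) (χ₁ : ZasS a H)
    (Ξ : Cfsg.IrrCharacter G) : ℤ := (m χ₁ Ξ : ℤ) - ε χ₁ * ex X χ₁ Ξ

/-- the integer `α_Ξ = g_Ξ - b_Ξ` -/
noncomputable def al {a : Ω} {H : Subgroup G} (m : ZasS a H → Cfsg.IrrCharacter G → ℕ)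
    (g : Cfsg.IrrCharacter G → ℕ)
    (X : ZasS a H → Cfsg.IrrCharacter G) (ε : ZasS a H → ℤ) (χ₁ : ZasS a H)
    (Ξ : Cfsg.IrrCharacter G) : ℤ := (g Ξ : ℤ) - bb m X ε χ₁ Ξ

section

variable [Fintype G] [Fintype Ω]
  (hZ : Cfsg.IsZassenhausGroup G Ω) {a b : Ω} (hab : a ≠ b)
  (H : Subgroup G) (hHa : H ≤ stabilizer G a) (hHcard : Nat.card H + 1 = Fintype.card Ω)
  (hHfix : ∀ u ∈ H, u ≠ 1 → ∀ c : Ω, u • c = c → c = a)
  [Fintype (stabilizer G a)] [Fintype (Cfsg.IrrCharacter (stabilizer G a))]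
  [Fintype (ZasS a H)] [Fintype (Cfsg.IrrCharacter G)]
  (m : ZasS a H → Cfsg.IrrCharacter G → ℕ) (g : Cfsg.IrrCharacter G → ℕ)
  (hm : ∀ (χ : ZasS a H) (Ξ : Cfsg.IrrCharacter G),
    Cfsg.classInner (Cfsg.indFun (stabilizer G a) (χ.1 : stabilizer G a → ℂ))
      (Ξ : G → ℂ) = (m χ Ξ : ℂ))
  (hg : ∀ (Ξ : Cfsg.IrrCharacter G) (x : stabilizer G a), (x : G) ∈ H →
    (Ξ : G → ℂ) x = (g Ξ : ℂ) + ∑ χ : ZasS a H, (m χ Ξ : ℂ) * (χ.1 : stabilizer G a → ℂ) x)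
  (X : ZasS a H → Cfsg.IrrCharacter G) (ε : ZasS a H → ℤ)
  (hXinj : Function.Injective X) (hε : ∀ χ, ε χ = 1 ∨ ε χ = -1)
  (hR : ∀ χ χ' : ZasS a H,
    ((dg χ' : ℕ) : ℂ) • Cfsg.indFun (stabilizer G a) (χ.1 : stabilizer G a → ℂ) -
      ((dg χ : ℕ) : ℂ) • Cfsg.indFun (stabilizer G a) (χ'.1 : stabilizer G a → ℂ) =
    (((dg χ' : ℕ) : ℂ) * (ε χ : ℂ)) • (X χ : G → ℂ) -
      (((dg χ : ℕ) : ℂ) * (ε χ' : ℂ)) • (X χ' : G → ℂ))
  (χ₁ : ZasS a H)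
  (hχ₁ : dg χ₁ = Nat.card ↥(stabilizer G a ⊓ stabilizer G b : Subgroup G))

include hm hR in
/-- the coherence relation on the level of multiplicities -/
theorem rel_inner (χ χ' : ZasS a H) (Ξ : Cfsg.IrrCharacter G) :
    (dg χ' : ℤ) * (m χ Ξ : ℤ) - (dg χ : ℤ) * (m χ' Ξ : ℤ) =
      (dg χ' : ℤ) * (ε χ * ex X χ Ξ) - (dg χ : ℤ) * (ε χ' * ex X χ' Ξ) := by
  classical
  have h1 := congrArg (fun f => Cfsg.classInner f (Ξ : G → ℂ)) (hR χ χ')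
  simp only [classInner_sub_left, classInner_smul_left, hm] at h1
  have hex : ∀ χ'' : ZasS a H, Cfsg.classInner (X χ'' : G → ℂ) (Ξ : G → ℂ) =
      ((ex X χ'' Ξ : ℤ) : ℂ) := by
    intro χ''
    rw [classInner_irr_ite (X χ'').2 Ξ.2]
    unfold ex
    by_cases h : X χ'' = Ξ
    · rw [if_pos h, if_pos (congrArg Subtype.val h)]
      norm_num
    · rw [if_neg h, if_neg (fun h' => h (Subtype.ext h'))]
      norm_num
  rw [hex, hex] at h1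
  have h2 : (((dg χ' : ℤ) * (m χ Ξ : ℤ) - (dg χ : ℤ) * (m χ' Ξ : ℤ) : ℤ) : ℂ) =
      (((dg χ' : ℤ) * (ε χ * ex X χ Ξ) - (dg χ : ℤ) * (ε χ' * ex X χ' Ξ) : ℤ) : ℂ) := by
    push_cast
    rw [h1]
    ring
  exact_mod_cast h2

include hm hR hχ₁ in
/-- the multiplicities in terms of `b` -/
theorem e_mul_m (χ : ZasS a H) (Ξ : Cfsg.IrrCharacter G) :
    (Nat.card ↥(stabilizer G a ⊓ stabilizer G b : Subgroup G) : ℤ) * (m χ Ξ : ℤ) =
      (Nat.card ↥(stabilizer G a ⊓ stabilizer G b : Subgroup G) : ℤ) * (ε χ * ex X χ Ξ) +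
        (dg χ : ℤ) * bb m X ε χ₁ Ξ := by
  have h1 := rel_inner H m hm X ε hR χ χ₁ Ξ
  rw [hχ₁] at h1
  unfold bb
  linarith

include hZ hab hHa hHcard hHfix hm hg hR hχ₁ in
/-- the values on the non-identity elements of the kernel -/
theorem value_kernel (Ξ : Cfsg.IrrCharacter G) {x : stabilizer G a} (hx : (x : G) ∈ H)
    (hx1 : x ≠ 1) :
    (Ξ : G → ℂ) x = ((al m g X ε χ₁ Ξ : ℤ) : ℂ) +
      ∑ χ : ZasS a H, ((ε χ * ex X χ Ξ : ℤ) : ℂ) * (χ.1 : stabilizer G a → ℂ) x := by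
  set e := Nat.card ↥(stabilizer G a ⊓ stabilizer G b : Subgroup G) with he
  have he0 : (e : ℂ) ≠ 0 := by
    have : 0 < e := Nat.card_pos
    exact_mod_cast this.ne'
  have h1 : ∀ χ : ZasS a H, (e : ℂ) * ((m χ Ξ : ℂ) * (χ.1 : stabilizer G a → ℂ) x) =
      (e : ℂ) * (((ε χ * ex X χ Ξ : ℤ) : ℂ) * (χ.1 : stabilizer G a → ℂ) x) +
        ((bb m X ε χ₁ Ξ : ℤ) : ℂ) * (((dg χ : ℕ) : ℂ) * (χ.1 : stabilizer G a → ℂ) x) := by
    intro χ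
    have h2 := e_mul_m H m hm X ε hR χ₁ hχ₁ χ Ξ
    have h3 : (e : ℂ) * (m χ Ξ : ℂ) = (e : ℂ) * ((ε χ * ex X χ Ξ : ℤ) : ℂ) +
        ((dg χ : ℕ) : ℂ) * ((bb m X ε χ₁ Ξ : ℤ) : ℂ) := by
      exact_mod_cast h2
    linear_combination (χ.1 : stabilizer G a → ℂ) x * h3
  have h4 : (e : ℂ) * (Ξ : G → ℂ) x = (e : ℂ) * (((al m g X ε χ₁ Ξ : ℤ) : ℂ) +
      ∑ χ : ZasS a H, ((ε χ * ex X χ Ξ : ℤ) : ℂ) * (χ.1 : stabilizer G a → ℂ) x) := by
    rw [hg Ξ x hx, mul_add, Finset.mul_sum, Finset.sum_congr rfl (fun χ _ => h1 χ),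
      Finset.sum_add_distrib, ← Finset.mul_sum, ← Finset.mul_sum,
      sum_dg_mul_apply hZ hab H hHa hHcard hHfix hx hx1, ← he]
    unfold al
    push_cast
    ring
  exact mul_left_cancel₀ he0 h4

include hZ hab hHa hHcard hHfix hm hg hR hχ₁ in
/-- the degrees -/
theorem value_one (Ξ : Cfsg.IrrCharacter G) :
    (Cfsg.charDegree (Ξ : G → ℂ) : ℤ) = (g Ξ : ℤ) +
      bb m X ε χ₁ Ξ * ((Fintype.card Ω : ℤ) - 2) +
        ∑ χ : ZasS a H, (ε χ * ex X χ Ξ) * (dg χ : ℤ) := by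
  set e := Nat.card ↥(stabilizer G a ⊓ stabilizer G b : Subgroup G) with he
  have he0 : (e : ℤ) ≠ 0 := by
    have : 0 < e := Nat.card_pos
    exact_mod_cast this.ne'
  have h0 := hg Ξ 1 (by rw [Subgroup.coe_one]; exact H.one_mem)
  rw [Subgroup.coe_one, ← charDegree_cast_of_isCharacter (IsIrrCharacter.isCharacter Ξ.2)] at h0
  have h0' : (Cfsg.charDegree (Ξ : G → ℂ) : ℤ) = (g Ξ : ℤ) +
      ∑ χ : ZasS a H, (m χ Ξ : ℤ) * (dg χ : ℤ) := by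
    have : ((Cfsg.charDegree (Ξ : G → ℂ) : ℤ) : ℂ) = (((g Ξ : ℤ) +
        ∑ χ : ZasS a H, (m χ Ξ : ℤ) * (dg χ : ℤ) : ℤ) : ℂ) := by
      push_cast
      rw [h0]
      congr 1
      apply Finset.sum_congr rfl
      intro χ _
      rw [dg_cast]
    exact_mod_cast this
  have hsq := sum_dg_sq hZ hab H hHa hHcard hHfix
  rw [← he] at hsq
  have hΩ : 2 ≤ Fintype.card Ω := by
    have : 0 < Nat.card H := Nat.card_pos
    omega
  have hsq' : ∑ χ : ZasS a H, (dg χ : ℤ) * (dg χ : ℤ) = (e : ℤ) * ((Fintype.card Ω : ℤ) - 2) := by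
    have h5 : ((∑ χ : ZasS a H, (dg χ) ^ 2 + e : ℕ) : ℤ) =
        (((Fintype.card Ω - 1) * e : ℕ) : ℤ) := by rw [hsq]
    push_cast at h5
    rw [Nat.cast_sub (by omega)] at h5
    push_cast at h5
    have h6 : ∑ χ : ZasS a H, (dg χ : ℤ) * (dg χ : ℤ) = ∑ χ : ZasS a H, (dg χ : ℤ) ^ 2 := by
      apply Finset.sum_congr rfl
      intro χ _
      ring
    rw [h6]
    linarith
  have h1 : ∀ χ : ZasS a H, (e : ℤ) * ((m χ Ξ : ℤ) * (dg χ : ℤ)) =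
      (e : ℤ) * ((ε χ * ex X χ Ξ) * (dg χ : ℤ)) +
        bb m X ε χ₁ Ξ * ((dg χ : ℤ) * (dg χ : ℤ)) := by
    intro χ
    have h2 := e_mul_m H m hm X ε hR χ₁ hχ₁ χ Ξ
    linear_combination (dg χ : ℤ) * h2
  have h4 : (e : ℤ) * (Cfsg.charDegree (Ξ : G → ℂ) : ℤ) = (e : ℤ) * ((g Ξ : ℤ) +
      bb m X ε χ₁ Ξ * ((Fintype.card Ω : ℤ) - 2) +
        ∑ χ : ZasS a H, (ε χ * ex X χ Ξ) * (dg χ : ℤ)) := by
    rw [h0', mul_add, Finset.mul_sum, Finset.sum_congr rfl (fun χ _ => h1 χ),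
      Finset.sum_add_distrib, ← Finset.mul_sum, ← Finset.mul_sum, hsq']
    ring
  exact mul_left_cancel₀ he0 h4

end

end Cfsg.Agent.Helper2.FeitP
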