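import Mathlib
import Cfsg.Agent.Helper2.FeitPE

/-!
# Feit's theorem on Zassenhaus groups, general kernel: proportionality of the constants of the
exceptional characters, and the main identity
-/

set_option autoImplicit false
set_option linter.style.haveILetI false
set_option linter.unusedSectionVars false
set_option linter.unusedDecidableInType false

namespace Cfsg.Agent.Helper2.FeitP

open MulAction Cfsg.Agent.Helper6 Cfsg.Agent.Helper2.ZasTab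
open scoped ComplexConjugate

variable {G Ω : Type*} [Group G] [MulAction G Ω]

theorem sum_ex_right {a : Ω} {H : Subgroup G} [Fintype (ZasS a H)]
    (X : ZasS a H → Cfsg.IrrCharacter G) (hX : Function.Injective X)
    (χ₁ : ZasS a H) (f : ZasS a H → ℤ) :
    ∑ χ : ZasS a H, ex X χ₁ (X χ) * f χ = f χ₁ := by
  rw [Finset.sum_eq_single χ₁]
  · rw [ex_self, one_mul]
  · intro χ _ hne
    rw [ex_of_ne X (fun h => hne (hX h).symm), zero_mul]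
  · intro h
    exact absurd (Finset.mem_univ _) h

theorem ex_sq {a : Ω} {H : Subgroup G} (X : ZasS a H → Cfsg.IrrCharacter G)
    (χ : ZasS a H) (Ξ : Cfsg.IrrCharacter G) : ex X χ Ξ * ex X χ Ξ = ex X χ Ξ := by
  classical
  unfold ex
  split_ifs <;> norm_num

theorem eps_sq {a : Ω} {H : Subgroup G} (ε : ZasS a H → ℤ) (hε : ∀ χ, ε χ = 1 ∨ ε χ = -1)
    (χ : ZasS a H) : ε χ * ε χ = 1 := by
  rcases hε χ with h | h <;> rw [h] <;> norm_num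

section

variable [Fintype G] [Fintype Ω]
  (hZ : Cfsg.IsZassenhausGroup G Ω) {a b : Ω} (hab : a ≠ b)
  (H : Subgroup G) (hHa : H ≤ stabilizer G a) (hHcard : Nat.card H + 1 = Fintype.card Ω)
  (hHfix : ∀ u ∈ H, u ≠ 1 → ∀ c : Ω, u • c = c → c = a)
  [Fintype (stabilizer G a)] [Fintype (Cfsg.IrrCharacter (stabilizer G a))]
  [Fintype (ZasS a H)] [Fintype (Cfsg.IrrCharacter G)]
  (m : ZasS a H → Cfsg.IrrCharacter G → ℕ) (g : Cfsg.IrrCharacter G → ℕ)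
  (hm : ∀ (χ : ZasS a H) (Ξ : Cfsg.IrrCharacter G),
    Cfsg.classInner (Cfsg.indFun (stabilizer G a) (χ.1 : stabilizer G a → ℂ))
      (Ξ : G → ℂ) = (m χ Ξ : ℂ))
  (hg : ∀ (Ξ : Cfsg.IrrCharacter G) (x : stabilizer G a), (x : G) ∈ H →
    (Ξ : G → ℂ) x = (g Ξ : ℂ) + ∑ χ : ZasS a H, (m χ Ξ : ℂ) * (χ.1 : stabilizer G a → ℂ) x)
  (hgπ : ∀ Ξ : Cfsg.IrrCharacter G,
    Cfsg.classInner (Cfsg.indFun (stabilizer G a) (thetaZero a b H)) (Ξ : G → ℂ) = (g Ξ : ℂ))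
  (X : ZasS a H → Cfsg.IrrCharacter G) (ε : ZasS a H → ℤ)
  (hXinj : Function.Injective X) (hε : ∀ χ, ε χ = 1 ∨ ε χ = -1)
  (hR : ∀ χ χ' : ZasS a H,
    ((dg χ' : ℕ) : ℂ) • Cfsg.indFun (stabilizer G a) (χ.1 : stabilizer G a → ℂ) -
      ((dg χ : ℕ) : ℂ) • Cfsg.indFun (stabilizer G a) (χ'.1 : stabilizer G a → ℂ) =
    (((dg χ' : ℕ) : ℂ) * (ε χ : ℂ)) • (X χ : G → ℂ) -
      (((dg χ : ℕ) : ℂ) * (ε χ' : ℂ)) • (X χ' : G → ℂ))
  (χ₁ : ZasS a H)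
  (hχ₁ : dg χ₁ = Nat.card ↥(stabilizer G a ⊓ stabilizer G b : Subgroup G))

include hZ hab hHa hHcard hHfix hm hg hXinj hR hχ₁ in
/-- the values of an exceptional character on the kernel -/
theorem exc_value (χ₀ : ZasS a H) {x : stabilizer G a} (hx : (x : G) ∈ H) (hx1 : x ≠ 1) :
    (X χ₀ : G → ℂ) x = ((al m g X ε χ₁ (X χ₀) : ℤ) : ℂ) +
      ((ε χ₀ : ℤ) : ℂ) * (χ₀.1 : stabilizer G a → ℂ) x := by
  rw [value_kernel hZ hab H hHa hHcard hHfix m g hm hg X ε hR χ₁ hχ₁ (X χ₀) hx hx1,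
    sum_ex_mul X hXinj ε χ₀]

include hZ hab hHa hHcard hHfix hm hg hR hχ₁ in
/-- the values of a non-exceptional character on the kernel -/
theorem nonexc_value {Ξ : Cfsg.IrrCharacter G} (hΞ : ∀ χ, X χ ≠ Ξ) {x : stabilizer G a}
    (hx : (x : G) ∈ H) (hx1 : x ≠ 1) :
    (Ξ : G → ℂ) x = ((al m g X ε χ₁ Ξ : ℤ) : ℂ) := by
  rw [value_kernel hZ hab H hHa hHcard hHfix m g hm hg X ε hR χ₁ hχ₁ Ξ hx hx1,
    sum_ex_mul_of_not_mem X ε hΞ, add_zero]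

include hZ hab hHa hHcard hHfix hm hg hXinj hε hR hχ₁ in
/-- the constants of the exceptional characters are proportional to the degrees -/
theorem al_prop (χ χ' : ZasS a H) {x : stabilizer G a} (hx : (x : G) ∈ H) (hx1 : x ≠ 1) :
    (dg χ' : ℤ) * (ε χ * al m g X ε χ₁ (X χ)) = (dg χ : ℤ) * (ε χ' * al m g X ε χ₁ (X χ')) := by
  have hx1' : (x : G) ≠ 1 := fun h => hx1 (Subtype.ext h)
  have h1 := congrFun (hR χ χ') (x : G)
  simp only [Pi.sub_apply, Pi.smul_apply, smul_eq_mul] at h1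
  rw [zas_indFun_apply_kernel hZ hab H hHa hHcard hHfix _
      (IsCharacter.isClassFunction (IsIrrCharacter.isCharacter χ.1.2)) hx hx1',
    zas_indFun_apply_kernel hZ hab H hHa hHcard hHfix _
      (IsCharacter.isClassFunction (IsIrrCharacter.isCharacter χ'.1.2)) hx hx1',
    exc_value hZ hab H hHa hHcard hHfix m g hm hg X ε hXinj hR χ₁ hχ₁ χ hx hx1,
    exc_value hZ hab H hHa hHcard hHfix m g hm hg X ε hXinj hR χ₁ hχ₁ χ' hx hx1] at h1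
  have hs1 : ((ε χ : ℤ) : ℂ) * ((ε χ : ℤ) : ℂ) = 1 := by exact_mod_cast eps_sq ε hε χ
  have hs2 : ((ε χ' : ℤ) : ℂ) * ((ε χ' : ℤ) : ℂ) = 1 := by exact_mod_cast eps_sq ε hε χ'
  have h2 : (((dg χ' : ℤ) * (ε χ * al m g X ε χ₁ (X χ)) : ℤ) : ℂ) =
      (((dg χ : ℤ) * (ε χ' * al m g X ε χ₁ (X χ')) : ℤ) : ℂ) := by
    push_cast
    have hsub : (⟨(x : G), hHa hx⟩ : stabilizer G a) = x := Subtype.ext rfl
    rw [hsub] at h1
    linear_combination -h1 - ((dg χ' : ℕ) : ℂ) * (χ.1 : stabilizer G a → ℂ) x * hs1 +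
      ((dg χ : ℕ) : ℂ) * (χ'.1 : stabilizer G a → ℂ) x * hs2
  exact_mod_cast h2

include hZ hab hHa hHcard hHfix hm hgπ hχ₁ in
/-- `∑ (g - m_{χ₁})² = e + 1` -/
theorem sum_g_sub_m_sq :
    ∑ Ξ : Cfsg.IrrCharacter G, ((g Ξ : ℤ) - (m χ₁ Ξ : ℤ)) ^ 2 =
      (Nat.card ↥(stabilizer G a ⊓ stabilizer G b : Subgroup G) : ℤ) + 1 := by
  classical
  set e := Nat.card ↥(stabilizer G a ⊓ stabilizer G b : Subgroup G) with he
  have he0 : (e : ℤ) ≠ 0 := by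
    have : 0 < e := Nat.card_pos
    exact_mod_cast this.ne'
  have h1 := sum_g_sq hZ hab H hHa hHcard hHfix m g hm hgπ
  have h2 := sum_g_mul_m hZ hab H hHa hHcard hHfix m g hm hgπ χ₁
  have h3 := sum_m_mul_m hZ hab H hHa hHcard hHfix m g hm hgπ χ₁ χ₁
  rw [if_pos rfl, hχ₁] at h3
  rw [hχ₁] at h2
  have h4 : ∑ Ξ : Cfsg.IrrCharacter G, ((g Ξ : ℤ) - (m χ₁ Ξ : ℤ)) ^ 2 =
      ∑ Ξ : Cfsg.IrrCharacter G, (g Ξ : ℤ) ^ 2 - 2 * ∑ Ξ : Cfsg.IrrCharacter G,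
        (g Ξ : ℤ) * (m χ₁ Ξ : ℤ) + ∑ Ξ : Cfsg.IrrCharacter G, (m χ₁ Ξ : ℤ) * (m χ₁ Ξ : ℤ) := by
    rw [Finset.mul_sum, ← Finset.sum_sub_distrib, ← Finset.sum_add_distrib]
    apply Finset.sum_congr rfl
    intro Ξ _
    ring
  rw [h4, h1, h2]
  have h5 : (e : ℤ) * ∑ Ξ : Cfsg.IrrCharacter G, (m χ₁ Ξ : ℤ) * (m χ₁ Ξ : ℤ) =
      (e : ℤ) * (1 + (e : ℤ)) := by rw [h3]; ring
  have h6 := mul_left_cancel₀ he0 h5
  rw [h6]
  ring

include hZ hab hHa hHcard hHfix hm hg hgπ hXinj hε hR hχ₁ in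
open Classical in
/-- the main identity -/
theorem main_identity {x : stabilizer G a} (hx : (x : G) ∈ H) (hx1 : x ≠ 1) :
    (Nat.card ↥(stabilizer G a ⊓ stabilizer G b : Subgroup G) : ℤ) *
      ∑ Ξ ∈ Finset.univ.filter (fun Ξ : Cfsg.IrrCharacter G => ∀ χ, X χ ≠ Ξ),
        (al m g X ε χ₁ Ξ) ^ 2 =
      (Nat.card ↥(stabilizer G a ⊓ stabilizer G b : Subgroup G) : ℤ) ^ 2 +
        2 * (Nat.card ↥(stabilizer G a ⊓ stabilizer G b : Subgroup G) : ℤ) *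
          (ε χ₁ * al m g X ε χ₁ (X χ₁)) -
        (ε χ₁ * al m g X ε χ₁ (X χ₁)) ^ 2 * ((Fintype.card Ω : ℤ) - 2) := by
  set e := Nat.card ↥(stabilizer G a ⊓ stabilizer G b : Subgroup G) with he
  set γ := ε χ₁ * al m g X ε χ₁ (X χ₁) with hγ
  have he0 : (e : ℤ) ≠ 0 := by
    have : 0 < e := Nat.card_pos
    exact_mod_cast this.ne'
  have hS := sum_g_sub_m_sq hZ hab H hHa hHcard hHfix m g hm hgπ χ₁ hχ₁
  rw [← he] at hS
  -- split the sum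
  rw [← Finset.sum_filter_add_sum_filter_not Finset.univ
    (fun Ξ : Cfsg.IrrCharacter G => ∀ χ, X χ ≠ Ξ)] at hS
  have hnon : ∑ Ξ ∈ Finset.univ.filter (fun Ξ : Cfsg.IrrCharacter G => ∀ χ, X χ ≠ Ξ),
      ((g Ξ : ℤ) - (m χ₁ Ξ : ℤ)) ^ 2 =
      ∑ Ξ ∈ Finset.univ.filter (fun Ξ : Cfsg.IrrCharacter G => ∀ χ, X χ ≠ Ξ),
        (al m g X ε χ₁ Ξ) ^ 2 := by
    apply Finset.sum_congr rfl
    intro Ξ hΞ
    rw [Finset.mem_filter] at hΞ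
    unfold al bb
    rw [ex_of_ne X (hΞ.2 χ₁), mul_zero, sub_zero]
  have hexc : ∑ Ξ ∈ Finset.univ.filter (fun Ξ : Cfsg.IrrCharacter G => ¬ ∀ χ, X χ ≠ Ξ),
      ((g Ξ : ℤ) - (m χ₁ Ξ : ℤ)) ^ 2 =
      ∑ χ : ZasS a H, ((g (X χ) : ℤ) - (m χ₁ (X χ) : ℤ)) ^ 2 := by
    symm
    apply Finset.sum_bij (fun χ _ => X χ)
    · intro χ _
      rw [Finset.mem_filter]
      refine ⟨Finset.mem_univ _, ?_⟩
      push Not
      exact ⟨χ, rfl⟩
    · intro χ _ χ' _ h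
      exact hXinj h
    · intro Ξ hΞ
      rw [Finset.mem_filter] at hΞ
      have h2 := hΞ.2
      push Not at h2
      obtain ⟨χ, hχ⟩ := h2
      exact ⟨χ, Finset.mem_univ _, hχ⟩
    · intro χ _
      rfl
  rw [hnon, hexc] at hS
  -- the exceptional part
  have hterm : ∀ χ : ZasS a H, (e : ℤ) ^ 2 * ((g (X χ) : ℤ) - (m χ₁ (X χ) : ℤ)) ^ 2 =
      ((dg χ : ℤ) * (dg χ : ℤ)) * γ ^ 2 -
        2 * (e : ℤ) * γ * (ex X χ₁ (X χ) * (ε χ * (dg χ : ℤ) * ε χ₁)) +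
        (e : ℤ) ^ 2 * (ex X χ₁ (X χ) * 1) := by
    intro χ
    have hA := al_prop hZ hab H hHa hHcard hHfix m g hm hg X ε hXinj hε hR χ₁ hχ₁ χ χ₁ hx hx1
    rw [hχ₁, ← hγ] at hA
    have hs := eps_sq ε hε χ
    have hs1 := eps_sq ε hε χ₁
    have hxx := ex_sq X χ₁ (X χ)
    have hgm : (g (X χ) : ℤ) - (m χ₁ (X χ) : ℤ) =
        al m g X ε χ₁ (X χ) - ε χ₁ * ex X χ₁ (X χ) := by
      unfold al bb
      ring
    rw [hgm]
    have hA' : (e : ℤ) * al m g X ε χ₁ (X χ) = ε χ * (dg χ : ℤ) * γ := by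
      linear_combination ε χ * hA - (e : ℤ) * al m g X ε χ₁ (X χ) * hs
    linear_combination ((e : ℤ) * al m g X ε χ₁ (X χ) + ε χ * (dg χ : ℤ) * γ -
      2 * (e : ℤ) * ε χ₁ * ex X χ₁ (X χ)) * hA' +
      ((dg χ : ℤ) * (dg χ : ℤ) * γ ^ 2) * hs +
      ((e : ℤ) ^ 2 * (ex X χ₁ (X χ) * ex X χ₁ (X χ))) * hs1 + (e : ℤ) ^ 2 * hxx
  have hsum : (e : ℤ) ^ 2 * ∑ χ : ZasS a H, ((g (X χ) : ℤ) - (m χ₁ (X χ) : ℤ)) ^ 2 =
      (e : ℤ) * ((Fintype.card Ω : ℤ) - 2) * γ ^ 2 - 2 * (e : ℤ) ^ 2 * γ + (e : ℤ) ^ 2 := by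
    rw [Finset.mul_sum, Finset.sum_congr rfl (fun χ _ => hterm χ), Finset.sum_add_distrib,
      Finset.sum_sub_distrib, ← Finset.sum_mul, ← Finset.mul_sum, ← Finset.mul_sum,
      sum_ex_right X hXinj χ₁, sum_ex_right X hXinj χ₁ (fun _ => (1 : ℤ))]
    have hsq := sum_dg_sq hZ hab H hHa hHcard hHfix
    rw [← he] at hsq
    have hΩ : 2 ≤ Fintype.card Ω := by
      have : 0 < Nat.card H := Nat.card_pos
      omega
    have hsq' : ∑ χ : ZasS a H, (dg χ : ℤ) * (dg χ : ℤ) =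
        (e : ℤ) * ((Fintype.card Ω : ℤ) - 2) := by
      have h5 : ((∑ χ : ZasS a H, (dg χ) ^ 2 + e : ℕ) : ℤ) =
          (((Fintype.card Ω - 1) * e : ℕ) : ℤ) := by rw [hsq]
      push_cast at h5
      rw [Nat.cast_sub (by omega)] at h5
      push_cast at h5
      have h6 : ∑ χ : ZasS a H, (dg χ : ℤ) * (dg χ : ℤ) = ∑ χ : ZasS a H, (dg χ : ℤ) ^ 2 := by
        apply Finset.sum_congr rfl
        intro χ _
        ring
      rw [h6]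
      linarith
    rw [hsq', hχ₁]
    have hs1 := eps_sq ε hε χ₁
    linear_combination (-2 * (e : ℤ) ^ 2 * γ) * hs1
  have hfin : (e : ℤ) * ((e : ℤ) * ∑ Ξ ∈ Finset.univ.filter
      (fun Ξ : Cfsg.IrrCharacter G => ∀ χ, X χ ≠ Ξ), (al m g X ε χ₁ Ξ) ^ 2) =
      (e : ℤ) * ((e : ℤ) ^ 2 + 2 * (e : ℤ) * γ - γ ^ 2 * ((Fintype.card Ω : ℤ) - 2)) := by
    linear_combination (e : ℤ) ^ 2 * hS - hsum
  exact mul_left_cancel₀ he0 hfin

end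

end Cfsg.Agent.Helper2.FeitP
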