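import Mathlib
import Cfsg.Agent.Helper2.FeitPC

/-!
# Feit's theorem on Zassenhaus groups, general kernel: at least `k + 1` conjugacy classes of `G`
meet the kernel, where `k` is the number of relevant characters
-/

set_option autoImplicit false
set_option linter.style.haveILetI false
set_option linter.unusedSectionVars false

namespace Cfsg.Agent.Helper2.FeitP

open MulAction Cfsg.Agent.Helper6 Cfsg.Agent.Helper2.ZasTab
open scoped ComplexConjugate

variable {G Ω : Type*} [Group G] [MulAction G Ω]

section

variable [Fintype G] [Fintype Ω]
  (hZ : Cfsg.IsZassenhausGroup G Ω) {a b : Ω} (hab : a ≠ b)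
  (H : Subgroup G) (hHa : H ≤ stabilizer G a) (hHcard : Nat.card H + 1 = Fintype.card Ω)
  (hHfix : ∀ u ∈ H, u ≠ 1 → ∀ c : Ω, u • c = c → c = a)

include hZ hab hHa hHcard hHfix

set_option maxHeartbeats 1600000 in
/-- the relevant characters and `1_H` are linearly independent on the classes meeting `H` -/
theorem card_rel_add_one_le [Fintype (stabilizer G a)] [Fintype (ZasS a H)] :
    Fintype.card (ZasS a H) + 1 ≤
      Nat.card {C : ConjClasses G // ∃ g ∈ H, ConjClasses.mk g = C} := by
  classical
  haveI : Fintype {C : ConjClasses G // ∃ g ∈ H, ConjClasses.mk g = C} := Fintype.ofFinite _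
  have hrep : ∀ C : {C : ConjClasses G // ∃ g ∈ H, ConjClasses.mk g = C},
      ∃ r : stabilizer G a, (r : G) ∈ H ∧ ConjClasses.mk (r : G) = C.1 := by
    rintro ⟨C, g, hg, hgC⟩
    exact ⟨⟨g, hHa hg⟩, hg, hgC⟩
  choose r hrH hrC using hrep
  set e := Nat.card ↥(stabilizer G a ⊓ stabilizer G b : Subgroup G) with he
  have he0 : (e : ℂ) ≠ 0 := by
    have : 0 < e := Nat.card_pos
    exact_mod_cast this.ne'
  -- the function attached to a coefficient vector
  set F : (Option (ZasS a H) → ℂ) → (stabilizer G a → ℂ) := fun c =>
    ∑ χ : ZasS a H, c (some χ) • (χ.1 : stabilizer G a → ℂ) + c none • thetaZero a b H with hF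
  have hFcf : ∀ c, Cfsg.IsClassFunction (stabilizer G a) (F c) := by
    intro c
    apply IsClassFunction.add
    · apply IsClassFunction.sum
      intro χ _
      exact IsClassFunction.smul _ (IsCharacter.isClassFunction (IsIrrCharacter.isCharacter χ.1.2))
    · exact IsClassFunction.smul _ (thetaZero_isClassFunction hZ hab H hHa hHcard hHfix)
  have hFoff : ∀ c (x : stabilizer G a), (x : G) ∉ H → F c x = 0 := by
    intro c x hx
    simp only [hF, Pi.add_apply, Finset.sum_apply, Pi.smul_apply, smul_eq_mul]
    rw [thetaZero_not_mem a b H hx, mul_zero, add_zero]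
    apply Finset.sum_eq_zero
    intro χ _
    rw [zasRel_apply_off hZ hab H hHa hHcard hHfix χ.2 x hx, mul_zero]
  have hFadd : ∀ c c', F (c + c') = F c + F c' := by
    intro c c'
    simp only [hF, Pi.add_apply, add_smul, Finset.sum_add_distrib]
    abel
  have hFsmul : ∀ (t : ℂ) c, F (t • c) = t • F c := by
    intro t c
    simp only [hF, Pi.smul_apply, smul_eq_mul, mul_smul, smul_add, Finset.smul_sum]
  let Φ : (Option (ZasS a H) → ℂ) →ₗ[ℂ]
      ({C : ConjClasses G // ∃ g ∈ H, ConjClasses.mk g = C} → ℂ) :=
    { toFun := fun c C => F c (r C)
      map_add' := by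
        intro c c'
        funext C
        simp only [hFadd, Pi.add_apply]
      map_smul' := by
        intro t c
        funext C
        simp only [hFsmul, Pi.smul_apply, RingHom.id_apply] }
  have hinj : Function.Injective Φ := by
    rw [← LinearMap.ker_eq_bot, LinearMap.ker_eq_bot']
    intro c hc
    have hc' : ∀ C, F c (r C) = 0 := fun C => congrFun hc C
    -- `F c` vanishes identically
    have hzero : F c = 0 := by
      funext x
      rw [Pi.zero_apply]
      by_cases hx : (x : G) ∈ H
      · set C : {C : ConjClasses G // ∃ g ∈ H, ConjClasses.mk g = C} :=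
          ⟨ConjClasses.mk (x : G), (x : G), hx, rfl⟩ with hC
        have h1 : ConjClasses.mk ((r C : stabilizer G a) : G) = ConjClasses.mk (x : G) := hrC C
        obtain ⟨y, hy⟩ := isConj_iff.mp (ConjClasses.mk_eq_mk_iff_isConj.mp h1)
        by_cases hr1 : ((r C : stabilizer G a) : G) = 1
        · have hx1 : (x : G) = 1 := by
            rw [← hy, hr1, mul_one, mul_inv_cancel]
          have hxr : x = r C := by
            apply Subtype.ext
            rw [hx1, hr1]
          rw [hxr]
          exact hc' C
        · have hya : y⁻¹ • a = a := by
            apply zas_kernel_TI hZ hab H hHa hHcard hHfix (hrH C) hr1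
            rw [inv_inv, hy]
            exact mem_stabilizer_iff.mp x.2
          have hy' : y ∈ stabilizer G a := by
            rw [mem_stabilizer_iff]
            have := congrArg (fun z => y • z) hya
            simp only [smul_inv_smul] at this
            exact this.symm
          have hxr : x = (⟨y, hy'⟩ : stabilizer G a) * r C * (⟨y, hy'⟩ : stabilizer G a)⁻¹ := by
            apply Subtype.ext
            simp only [Subgroup.coe_mul, Subgroup.coe_inv]
            exact hy.symm
          rw [hxr, hFcf c (r C) ⟨y, hy'⟩]
          exact hc' C
      · exact hFoff c x hx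
    -- the coefficients vanish
    have hcoef : ∀ χ' : ZasS a H, c (some χ') = 0 := by
      intro χ'
      have h1 : Cfsg.classInner (F c) (χ'.1 : stabilizer G a → ℂ) = c (some χ') := by
        simp only [hF]
        rw [classInner_add_left, classInner_sum_left, classInner_smul_left,
          classInner_thetaZero_rel hZ hab H hHa hHcard hHfix χ', mul_zero, add_zero,
          Finset.sum_eq_single χ']
        · rw [classInner_smul_left, classInner_irr_self χ'.1.2, mul_one]
        · intro χ _ hne
          rw [classInner_smul_left, classInner_irr_ne χ.1.2 χ'.1.2, mul_zero]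
          intro h
          apply hne
          apply Subtype.ext
          apply Subtype.ext
          exact h
        · intro h
          exact absurd (Finset.mem_univ _) h
      rw [← h1, hzero, classInner_zero_left]
    have hnone : c none = 0 := by
      have h1 := congrFun hzero 1
      simp only [hF, Pi.add_apply, Finset.sum_apply, Pi.smul_apply, smul_eq_mul, Pi.zero_apply] at h1
      rw [Finset.sum_eq_zero (fun χ _ => by rw [hcoef χ, zero_mul]), zero_add,
        thetaZero_mem a b H (by rw [Subgroup.coe_one]; exact H.one_mem)] at h1
      rcases mul_eq_zero.mp h1 with h2 | h2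
      · exact h2
      · exact absurd h2 he0
    funext o
    rcases o with _ | χ
    · exact hnone
    · exact hcoef χ
  have hle := LinearMap.finrank_le_finrank_of_injective hinj
  rw [Module.finrank_fintype_fun_eq_card, Module.finrank_fintype_fun_eq_card,
    Fintype.card_option] at hle
  rw [Nat.card_eq_fintype_card]
  exact hle

end

end Cfsg.Agent.Helper2.FeitP
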