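import Mathlib
import Cfsg.Agent.Helper2.FeitPC
import Cfsg.Agent.S0881
import Cfsg.Agent.Helper6.ZasInvD
import Cfsg.Agent.Helper6.QuotientRep
import Cfsg.Agent.Helper6.RepEigen
import Cfsg.Agent.Helper6.Linear
import Cfsg.Agent.Helper6.Gallagher

/-!
# Feit's theorem on Zassenhaus groups, general kernel: the characters of a point stabiliser
trivial on the kernel are linear, and at most one irreducible character of `G` occurring in the
character induced from `1_H` vanishes on the non-identity elements of the kernel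
-/

set_option autoImplicit false
set_option linter.style.haveILetI false
set_option linter.unusedSectionVars false

namespace Cfsg.Agent.Helper2.FeitP

open MulAction Cfsg.Agent.Helper6 Cfsg.Agent.Helper2.ZasTab
open Module Representation
open scoped ComplexConjugate

/-- an irreducible character with `N` in its kernel comes from the quotient -/
theorem exists_deflate' {X : Type*} [Group X] [Finite X] (N : Subgroup X) [hN : N.Normal]
    (ψ : Cfsg.IrrCharacter X) (hker : ∀ n ∈ N, (ψ : X → ℂ) n = (ψ : X → ℂ) 1) :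
    ∃ ψ' : Cfsg.IrrCharacter (X ⧸ N), (ψ : X → ℂ) = (ψ' : X ⧸ N → ℂ) ∘ QuotientGroup.mk := by
  obtain ⟨n, ρ, hirr, hρ⟩ := ψ.2
  haveI := hirr
  have hρN : ∀ x ∈ N, ρ x = 1 := by
    intro x hx
    have h1 : ρ.character x = (finrank ℂ (Fin n → ℂ) : ℂ) := by
      rw [hρ, hker x hx, ← hρ, Representation.char_one]
    exact (char_eq_finrank_iff ρ x).mp h1
  haveI := quotientRep_isIrreducible ρ N hρN
  refine ⟨⟨(quotientRep ρ N hρN).character, n, quotientRep ρ N hρN, inferInstance, rfl⟩, ?_⟩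
  funext g
  rw [← hρ]
  rfl

/-- an irreducible character trivial on a normal subgroup with abelian quotient is linear -/
theorem linear_of_comm_quotient {X : Type*} [Group X] [Finite X] (N : Subgroup X) [hN : N.Normal]
    (ψ : Cfsg.IrrCharacter X) (hker : ∀ n ∈ N, (ψ : X → ℂ) n = (ψ : X → ℂ) 1)
    (hab : ∀ x y : X, x * y * x⁻¹ * y⁻¹ ∈ N) : (ψ : X → ℂ) 1 = 1 := by
  obtain ⟨ψ', hψ'⟩ := exists_deflate' N ψ hker
  have hcomm : ∀ x y : X ⧸ N, x * y = y * x := by
    intro x y
    obtain ⟨x, rfl⟩ := QuotientGroup.mk_surjective x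
    obtain ⟨y, rfl⟩ := QuotientGroup.mk_surjective y
    have h1 : ((x * y * x⁻¹ * y⁻¹ : X) : X ⧸ N) = 1 := (QuotientGroup.eq_one_iff _).mpr (hab x y)
    rw [QuotientGroup.mk_mul, QuotientGroup.mk_mul, QuotientGroup.mk_mul, QuotientGroup.mk_inv,
      QuotientGroup.mk_inv] at h1
    have h2 : (x : X ⧸ N) * (y : X ⧸ N) = ((x : X ⧸ N) * (y : X ⧸ N) * (x : X ⧸ N)⁻¹ *
        (y : X ⧸ N)⁻¹) * ((y : X ⧸ N) * (x : X ⧸ N)) := by group
    rw [h2, h1, one_mul]
  have h1 := (comm_iff_forall_irr_degree_one (G := X ⧸ N)).mp hcomm ψ'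
  have h2 := congrFun hψ' 1
  simp only [Function.comp_apply, QuotientGroup.mk_one] at h2
  rw [h2]
  exact h1

variable {G Ω : Type*} [Group G] [MulAction G Ω]

section

variable [Fintype G] [Fintype Ω]
  (hZ : Cfsg.IsZassenhausGroup G Ω) {a b : Ω} (hab : a ≠ b)
  [IsSimpleGroup G]
  (hodd : Odd (Nat.card ↥(stabilizer G a ⊓ stabilizer G b : Subgroup G)))
  (H : Subgroup G) (hHa : H ≤ stabilizer G a) (hHcard : Nat.card H + 1 = Fintype.card Ω)
  (hHfix : ∀ u ∈ H, u ≠ 1 → ∀ c : Ω, u • c = c → c = a)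

include hZ hab hodd in
/-- the two-point stabiliser is abelian -/
theorem two_stab_comm {x y : G} (hx : x ∈ stabilizer G a ⊓ stabilizer G b)
    (hy : y ∈ stabilizer G a ⊓ stabilizer G b) : x * y = y * x := by
  obtain ⟨s, hsa, hsb⟩ := ZasOdd.exists_swap hZ hab
  have h1 := zas_swap_inverts hZ hab hodd hab hsa hsb
    ((stabilizer G a ⊓ stabilizer G b).mul_mem hx hy)
  have h2 := zas_swap_inverts hZ hab hodd hab hsa hsb hx
  have h3 := zas_swap_inverts hZ hab hodd hab hsa hsb hy
  have h4 : s * (x * y) * s⁻¹ = (s * x * s⁻¹) * (s * y * s⁻¹) := by group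
  rw [h4, h2, h3, mul_inv_rev] at h1
  have h5 : (x⁻¹ * y⁻¹)⁻¹ = (y⁻¹ * x⁻¹)⁻¹ := by rw [h1]
  rw [mul_inv_rev, mul_inv_rev, inv_inv, inv_inv] at h5
  exact h5.symm

include hZ hab hodd hHa hHcard hHfix in
/-- the quotient of the point stabiliser by the kernel is abelian -/
theorem quot_comm (x y : stabilizer G a) :
    x * y * x⁻¹ * y⁻¹ ∈ H.subgroupOf (stabilizer G a) := by
  haveI := zas_kernel_subgroupOf_normal hZ hab H hHa hHcard hHfix
  set K := H.subgroupOf (stabilizer G a) with hK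
  have key : ∀ n : stabilizer G a, ∃ t : stabilizer G a,
      (t : G) ∈ stabilizer G a ⊓ stabilizer G b ∧
        (QuotientGroup.mk n : stabilizer G a ⧸ K) = QuotientGroup.mk t := by
    intro n
    have hna : (n : G) • a = a := mem_stabilizer_iff.mp n.2
    have hnb : (n : G) • b ≠ a := by
      intro h
      apply hab
      have : (n : G) • b = (n : G) • a := by rw [h, hna]
      exact (smul_left_cancel _ this).symm
    obtain ⟨u, hu, hub⟩ := zas_kernel_transitive H hHa hHcard hHfix (Ne.symm hab) hnb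
    have hua : u • a = a := mem_stabilizer_iff.mp (hHa hu)
    have hta : (u⁻¹ * (n : G)) • a = a := by
      rw [mul_smul, hna, inv_smul_eq_iff, hua]
    have htb : (u⁻¹ * (n : G)) • b = b := by
      rw [mul_smul, inv_smul_eq_iff, hub]
    refine ⟨⟨u⁻¹ * (n : G), mem_stabilizer_iff.mpr hta⟩, ?_, ?_⟩
    · exact Subgroup.mem_inf.mpr ⟨mem_stabilizer_iff.mpr hta, mem_stabilizer_iff.mpr htb⟩
    · rw [QuotientGroup.eq]
      rw [hK, Subgroup.mem_subgroupOf]
      simp only [Subgroup.coe_mul, Subgroup.coe_inv]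
      have : (n : G)⁻¹ * (u⁻¹ * (n : G)) = (n : G)⁻¹ * u⁻¹ * ((n : G)⁻¹)⁻¹ := by group
      rw [this]
      exact zas_kernel_conj_mem hZ hab H hHa hHcard hHfix
        (mem_stabilizer_iff.mp ((stabilizer G a).inv_mem n.2)) (H.inv_mem hu)
  obtain ⟨tx, htx, hx⟩ := key x
  obtain ⟨ty, hty, hy⟩ := key y
  rw [← QuotientGroup.eq_one_iff, QuotientGroup.mk_mul, QuotientGroup.mk_mul, QuotientGroup.mk_mul,
    QuotientGroup.mk_inv, QuotientGroup.mk_inv, hx, hy, ← QuotientGroup.mk_inv,
    ← QuotientGroup.mk_inv, ← QuotientGroup.mk_mul, ← QuotientGroup.mk_mul,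
    ← QuotientGroup.mk_mul, QuotientGroup.eq_one_iff]
  have hc : tx * ty = ty * tx := by
    apply Subtype.ext
    simp only [Subgroup.coe_mul]
    exact two_stab_comm hZ hab hodd htx hty
  have : tx * ty * tx⁻¹ * ty⁻¹ = 1 := by
    rw [hc]
    group
  rw [this]
  exact K.one_mem

end

end Cfsg.Agent.Helper2.FeitP
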