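import Mathlib
import Cfsg.Agent.Helper2.FeitPH
import Cfsg.Agent.Helper2.FeitPD

/-!
# Feit's theorem on Zassenhaus groups, general kernel: at most one irreducible constituent of the
character induced from `1_H` vanishes on the non-identity elements of the kernel
-/

set_option autoImplicit false
set_option linter.style.haveILetI false
set_option linter.unusedSectionVars false

namespace Cfsg.Agent.Helper2.FeitP

open MulAction Cfsg.Agent.Helper6 Cfsg.Agent.Helper2.ZasTab
open scoped ComplexConjugate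

variable {G Ω : Type*} [Group G] [MulAction G Ω]

section

variable [Fintype G] [Fintype Ω]
  (hZ : Cfsg.IsZassenhausGroup G Ω) {a b : Ω} (hab : a ≠ b)
  [IsSimpleGroup G]
  (hodd : Odd (Nat.card ↥(stabilizer G a ⊓ stabilizer G b : Subgroup G)))
  (H : Subgroup G) (hHa : H ≤ stabilizer G a) (hHcard : Nat.card H + 1 = Fintype.card Ω)
  (hHfix : ∀ u ∈ H, u ≠ 1 → ∀ c : Ω, u • c = c → c = a)

include hZ hab hHa hHcard hHfix in
/-- `e · 1_H` is the sum of the characters trivial on `H`, weighted by their degrees -/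
theorem thetaZero_eq_sum [Fintype (stabilizer G a)]
    [Fintype (Cfsg.IrrCharacter (stabilizer G a))]
    [DecidablePred fun ψ : Cfsg.IrrCharacter (stabilizer G a) =>
      ∀ n ∈ H.subgroupOf (stabilizer G a),
        (ψ : stabilizer G a → ℂ) n = (ψ : stabilizer G a → ℂ) 1] :
    thetaZero a b H = ∑ ψ ∈ Finset.univ.filter
      (fun ψ : Cfsg.IrrCharacter (stabilizer G a) => ∀ n ∈ H.subgroupOf (stabilizer G a),
        (ψ : stabilizer G a → ℂ) n = (ψ : stabilizer G a → ℂ) 1),
      (ψ : stabilizer G a → ℂ) 1 • (ψ : stabilizer G a → ℂ) := by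
  classical
  haveI := zas_kernel_subgroupOf_normal hZ hab H hHa hHcard hHfix
  funext x
  rw [Finset.sum_apply]
  simp only [Pi.smul_apply, smul_eq_mul]
  rw [sum_degree_mul_irr_of_le_ker (H.subgroupOf (stabilizer G a)) x,
    zas_kernel_subgroupOf_index hZ hab H hHa hHcard hHfix]
  by_cases hx : (x : G) ∈ H
  · rw [thetaZero_mem a b H hx, if_pos (Subgroup.mem_subgroupOf.mpr hx)]
  · rw [thetaZero_not_mem a b H hx, if_neg (fun h => hx (Subgroup.mem_subgroupOf.mp h))]

include hZ hab hHa hHcard hHfix in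
/-- a constituent of the character induced from `e · 1_H` lies over a character trivial on `H` -/
theorem exists_triv_constituent [Fintype (stabilizer G a)]
    [Fintype (Cfsg.IrrCharacter (stabilizer G a))] (Ξ : G → ℂ) (hΞ : Cfsg.IsIrrCharacter G Ξ)
    (hne : Cfsg.classInner (Cfsg.indFun (stabilizer G a) (thetaZero a b H)) Ξ ≠ 0) :
    ∃ ψ : Cfsg.IrrCharacter (stabilizer G a),
      (∀ n ∈ H.subgroupOf (stabilizer G a),
        (ψ : stabilizer G a → ℂ) n = (ψ : stabilizer G a → ℂ) 1) ∧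
      Cfsg.classInner (Cfsg.indFun (stabilizer G a) (ψ : stabilizer G a → ℂ)) Ξ ≠ 0 := by
  classical
  have hΞcf := IsCharacter.isClassFunction (IsIrrCharacter.isCharacter hΞ)
  rw [frobenius_reciprocity _ _ _ hΞcf, thetaZero_eq_sum hZ hab H hHa hHcard hHfix,
    classInner_sum_left] at hne
  obtain ⟨ψ, hψmem, hψne⟩ := Finset.exists_ne_zero_of_sum_ne_zero hne
  rw [classInner_smul_left] at hψne
  refine ⟨ψ, (Finset.mem_filter.mp hψmem).2, ?_⟩
  rw [frobenius_reciprocity _ _ _ hΞcf]
  exact right_ne_zero_of_mul hψne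

include hZ hab hodd hHa hHcard hHfix in
/-- a constituent of the character induced from `e · 1_H` vanishing on the non-identity elements
of `H` is a constituent of the permutation character -/
theorem perm_constituent_of_vanishing [Fintype (stabilizer G a)]
    [Fintype (Cfsg.IrrCharacter (stabilizer G a))]
    (hlt : Nat.card ↥(stabilizer G a ⊓ stabilizer G b : Subgroup G) < Fintype.card Ω - 2)
    (Ξ : G → ℂ) (hΞ : Cfsg.IsIrrCharacter G Ξ)
    (hvan : ∀ x : stabilizer G a, (x : G) ∈ H → x ≠ 1 → Ξ x = 0)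
    (hne : Cfsg.classInner (Cfsg.indFun (stabilizer G a) (thetaZero a b H)) Ξ ≠ 0) :
    Cfsg.classInner (Cfsg.indFun (stabilizer G a) (fun _ : stabilizer G a => (1 : ℂ))) Ξ ≠ 0 := by
  classical
  haveI := zas_kernel_subgroupOf_normal hZ hab H hHa hHcard hHfix
  obtain ⟨ψ, hker, hψne⟩ := exists_triv_constituent hZ hab H hHa hHcard hHfix Ξ hΞ hne
  have hψ1 : (ψ : stabilizer G a → ℂ) 1 = 1 :=
    linear_of_comm_quotient (H.subgroupOf (stabilizer G a)) ψ hker
      (quot_comm hZ hab hodd H hHa hHcard hHfix)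
  by_cases hψt : (ψ : stabilizer G a → ℂ) = fun _ => 1
  · rw [← hψt]
    exact hψne
  · exfalso
    obtain ⟨hirr, hval⟩ := Cfsg.Agent.S0881.result hZ hab hodd hlt H hHa hHcard hHfix
      (ψ : stabilizer G a → ℂ) ⟨IsIrrCharacter.isCharacter ψ.2, hψ1⟩
      (fun u hu => (hker u (Subgroup.mem_subgroupOf.mpr hu)).trans hψ1) hψt
    rw [classInner_irr_ite hirr hΞ] at hψne
    have hEq : Cfsg.indFun (stabilizer G a) (ψ : stabilizer G a → ℂ) = Ξ := by
      by_contra h
      rw [if_neg h] at hψne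
      exact hψne rfl
    -- a non-identity element of `H`
    have hHc : 1 < Nat.card H := by omega
    haveI : Nontrivial H := Finite.one_lt_card_iff_nontrivial.mp hHc
    obtain ⟨u, hu⟩ := exists_ne (1 : H)
    have hu1 : (u : G) ≠ 1 := fun h => hu (Subtype.ext h)
    have h1 := hval (u : G) u.2 hu1
    rw [hEq] at h1
    have h2 := hvan ⟨(u : G), hHa u.2⟩ u.2 (fun h => hu1 (congrArg Subtype.val h))
    rw [h1] at h2
    exact one_ne_zero h2

include hZ hab hodd hHa hHcard hHfix in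
open Classical in
/-- at most one irreducible constituent of the character induced from `e · 1_H` vanishes on the
non-identity elements of `H` -/
theorem card_vanishing_le_one [Fintype (stabilizer G a)]
    [Fintype (Cfsg.IrrCharacter (stabilizer G a))] [Fintype (Cfsg.IrrCharacter G)]
    (hlt : Nat.card ↥(stabilizer G a ⊓ stabilizer G b : Subgroup G) < Fintype.card Ω - 2) :
    (Finset.univ.filter (fun Ξ : Cfsg.IrrCharacter G =>
      (∀ x : stabilizer G a, (x : G) ∈ H → x ≠ 1 → (Ξ : G → ℂ) x = 0) ∧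
        Cfsg.classInner (Cfsg.indFun (stabilizer G a) (thetaZero a b H))
          (Ξ : G → ℂ) ≠ 0)).card ≤ 1 := by
  set e := Nat.card ↥(stabilizer G a ⊓ stabilizer G b : Subgroup G) with he
  have he0 : (e : ℂ) ≠ 0 := by
    have : 0 < e := Nat.card_pos
    exact_mod_cast this.ne'
  have hH0 : (Nat.card H : ℂ) ≠ 0 := by
    have : 0 < Nat.card H := Nat.card_pos
    exact_mod_cast this.ne'
  set π := Cfsg.indFun (stabilizer G a) (thetaZero a b H) with hπ
  set ρ := Cfsg.indFun (stabilizer G a) (fun _ : stabilizer G a => (1 : ℂ)) with hρ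
  haveI : Fintype (ZasS a H) := Fintype.ofFinite _
  obtain ⟨-, g, -, -, hg₀⟩ := exists_mult hZ hab H hHa hHcard hHfix
  have hg : ∀ Ξ : Cfsg.IrrCharacter G, Cfsg.classInner π (Ξ : G → ℂ) = (g Ξ : ℂ) := hg₀
  have htex : ∀ Ξ : Cfsg.IrrCharacter G, ∃ k : ℕ, Cfsg.classInner ρ (Ξ : G → ℂ) = (k : ℂ) :=
    fun Ξ => classInner_char_char_nat
      (isCharacter_indFun _ _ (IsIrrCharacter.isCharacter isIrrCharacter_one))
      (IsIrrCharacter.isCharacter Ξ.2)
  choose t ht using htex
  -- `⟨θ₀, 1⟩ = 1`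
  have hθ1 : Cfsg.classInner (thetaZero a b H) (fun _ : stabilizer G a => (1 : ℂ)) = 1 := by
    rw [classInner_def]
    simp only [map_one, mul_one]
    rw [sum_thetaZero hZ hab H hHa hHcard hHfix, zas_card_stabilizer hZ hab H hHa hHcard hHfix]
    have h3 : Fintype.card Ω - 1 = Nat.card H := by omega
    rw [h3, ← he]
    push_cast
    field_simp
  -- `⟨π, ρ⟩ = 2`
  have hπρ : Cfsg.classInner π ρ = 2 := by
    rw [hπ, hρ, zas_classInner_indFun hZ hab H hHa hHcard hHfix (thetaZero a b H)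
      (fun _ : stabilizer G a => (1 : ℂ))
      (IsCharacter.isClassFunction (IsIrrCharacter.isCharacter isIrrCharacter_one))
      (fun x hx => thetaZero_not_mem a b H hx), hθ1,
      thetaZero_mem a b H (by rw [Subgroup.coe_one]; exact H.one_mem), ← he, map_one]
    field_simp
    norm_num
  have hsum : ∑ Ξ : Cfsg.IrrCharacter G, g Ξ * t Ξ = 2 := by
    have h1 := classInner_eq_sum_irr π ρ (indFun_isClassFunction _ _)
    rw [hπρ] at h1
    have h2 : ∑ Ξ : Cfsg.IrrCharacter G, Cfsg.classInner π (Ξ : G → ℂ) *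
        conj (Cfsg.classInner ρ (Ξ : G → ℂ)) =
        ((∑ Ξ : Cfsg.IrrCharacter G, g Ξ * t Ξ : ℕ) : ℂ) := by
      push_cast
      apply Finset.sum_congr rfl
      intro Ξ _
      rw [hg, ht, Complex.conj_natCast]
    rw [h2] at h1
    exact_mod_cast h1.symm
  -- the trivial character
  set triv : Cfsg.IrrCharacter G := ⟨fun _ => 1, isIrrCharacter_one⟩ with htriv
  have hcf1 : Cfsg.IsClassFunction G (fun _ : G => (1 : ℂ)) :=
    IsCharacter.isClassFunction (IsIrrCharacter.isCharacter isIrrCharacter_one)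
  have hg1 : g triv = 1 := by
    have h1 := hg triv
    rw [hπ, frobenius_reciprocity _ _ _ hcf1] at h1
    have h2 : (fun h : stabilizer G a => (fun _ : G => (1 : ℂ)) (h : G)) =
        fun _ : stabilizer G a => (1 : ℂ) := rfl
    rw [h2, hθ1] at h1
    exact_mod_cast h1.symm
  have ht1 : t triv = 1 := by
    have h1 := ht triv
    rw [hρ, frobenius_reciprocity _ _ _ hcf1] at h1
    have h2 : (fun h : stabilizer G a => (fun _ : G => (1 : ℂ)) (h : G)) =
        fun _ : stabilizer G a => (1 : ℂ) := rfl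
    rw [h2, classInner_irr_self isIrrCharacter_one] at h1
    exact_mod_cast h1.symm
  have hrest : ∑ Ξ ∈ Finset.univ.erase triv, g Ξ * t Ξ = 1 := by
    have h1 := Finset.add_sum_erase Finset.univ (fun Ξ => g Ξ * t Ξ) (Finset.mem_univ triv)
    rw [hsum, hg1, ht1] at h1
    omega
  -- a non-identity element of `H`
  have hHc : 1 < Nat.card H := by omega
  haveI : Nontrivial H := Finite.one_lt_card_iff_nontrivial.mp hHc
  obtain ⟨u, hu⟩ := exists_ne (1 : H)
  have hu1 : (u : G) ≠ 1 := fun h => hu (Subtype.ext h)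
  set Zs := Finset.univ.filter (fun Ξ : Cfsg.IrrCharacter G =>
      (∀ x : stabilizer G a, (x : G) ∈ H → x ≠ 1 → (Ξ : G → ℂ) x = 0) ∧
        Cfsg.classInner π (Ξ : G → ℂ) ≠ 0) with hZs
  have hsub : Zs ⊆ Finset.univ.erase triv := by
    intro Ξ hΞ
    rw [hZs, Finset.mem_filter] at hΞ
    rw [Finset.mem_erase]
    refine ⟨?_, Finset.mem_univ _⟩
    intro h
    have h2 := hΞ.2.1 ⟨(u : G), hHa u.2⟩ u.2 (fun h => hu1 (congrArg Subtype.val h))
    rw [h] at h2
    exact one_ne_zero h2
  have hge : ∀ Ξ ∈ Zs, 1 ≤ g Ξ * t Ξ := by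
    intro Ξ hΞ
    rw [hZs, Finset.mem_filter] at hΞ
    have h1 : g Ξ ≠ 0 := by
      intro h
      apply hΞ.2.2
      rw [hg, h, Nat.cast_zero]
    have h2 : t Ξ ≠ 0 := by
      intro h
      have h3 := perm_constituent_of_vanishing hZ hab hodd H hHa hHcard hHfix hlt (Ξ : G → ℂ) Ξ.2
        hΞ.2.1 hΞ.2.2
      apply h3
      rw [← hρ, ht, h, Nat.cast_zero]
    exact Nat.one_le_iff_ne_zero.mpr (Nat.mul_ne_zero h1 h2)
  calc Zs.card = ∑ _Ξ ∈ Zs, 1 := by rw [Finset.sum_const, smul_eq_mul, mul_one]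
    _ ≤ ∑ Ξ ∈ Zs, g Ξ * t Ξ := Finset.sum_le_sum hge
    _ ≤ ∑ Ξ ∈ Finset.univ.erase triv, g Ξ * t Ξ :=
        Finset.sum_le_sum_of_subset_of_nonneg hsub (fun _ _ _ => Nat.zero_le _)
    _ = 1 := hrest

end

end Cfsg.Agent.Helper2.FeitP
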