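import Mathlib
import Cfsg.Agent.Helper2.FeitPF
import Cfsg.Agent.Helper2.FeitPG
import Cfsg.Agent.Helper2.FeitPI
import Cfsg.Agent.S0884
import Cfsg.Agent.Helper6.IrrCount

/-!
# Feit's theorem on Zassenhaus groups, general kernel: in the coherent case the constant `γ`
vanishes, at most `e` classes miss the kernel, and the non-exceptional characters take the values
`0, 1, -1` on the non-identity elements of the kernel
-/

set_option autoImplicit false
set_option linter.style.haveILetI false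
set_option linter.unusedSectionVars false
set_option linter.unusedDecidableInType false

namespace Cfsg.Agent.Helper2.FeitP

open MulAction Cfsg.Agent.Helper6 Cfsg.Agent.Helper2.ZasTab
open scoped ComplexConjugate

theorem arith_gamma (e h γ S : ℤ) (he : 0 < e) (hlt : 2 * e < h - 1)
    (hid : e * S = e ^ 2 + 2 * e * γ - γ ^ 2 * (h - 1)) (hS : e ≤ S) : γ = 0 ∧ S = e := by
  have h1 : 0 ≤ 2 * e * γ - γ ^ 2 * (h - 1) := by nlinarith
  have hγ : γ = 0 := by
    by_contra hne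
    rcases lt_or_gt_of_ne hne with hneg | hpos
    · have : 0 < γ ^ 2 := by positivity
      nlinarith
    · have h2 : 1 ≤ γ := hpos
      have h3 : 0 < γ * (h - 1 - 2 * e) := mul_pos hpos (by linarith)
      have h4 : 0 ≤ γ * (γ - 1) * (h - 1) :=
        mul_nonneg (mul_nonneg hpos.le (by linarith)) (by linarith)
      nlinarith
  refine ⟨hγ, ?_⟩
  rw [hγ] at hid
  have : e * S = e * e := by linarith
  exact mul_left_cancel₀ he.ne' this

variable {G Ω : Type*} [Group G] [MulAction G Ω]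

section

variable [Fintype G] [Fintype Ω]
  (hZ : Cfsg.IsZassenhausGroup G Ω) {a b : Ω} (hab : a ≠ b)
  [IsSimpleGroup G]
  (h e : ℕ) (hh : Fintype.card Ω = h + 1)
  (he : Nat.card ↥(stabilizer G a ⊓ stabilizer G b : Subgroup G) = e) (hodd : Odd e)
  (hlt : 2 * e < h - 1)
  (H : Subgroup G) (hHa : H ≤ stabilizer G a) (hHcard : Nat.card H + 1 = Fintype.card Ω)
  (hHfix : ∀ u ∈ H, u ≠ 1 → ∀ c : Ω, u • c = c → c = a)
  [Fintype (stabilizer G a)] [Fintype (Cfsg.IrrCharacter (stabilizer G a))]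
  [Fintype (ZasS a H)] [Fintype (Cfsg.IrrCharacter G)]
  (m : ZasS a H → Cfsg.IrrCharacter G → ℕ) (g : Cfsg.IrrCharacter G → ℕ)
  (hm : ∀ (χ : ZasS a H) (Ξ : Cfsg.IrrCharacter G),
    Cfsg.classInner (Cfsg.indFun (stabilizer G a) (χ.1 : stabilizer G a → ℂ))
      (Ξ : G → ℂ) = (m χ Ξ : ℂ))
  (hg : ∀ (Ξ : Cfsg.IrrCharacter G) (x : stabilizer G a), (x : G) ∈ H →
    (Ξ : G → ℂ) x = (g Ξ : ℂ) + ∑ χ : ZasS a H, (m χ Ξ : ℂ) * (χ.1 : stabilizer G a → ℂ) x)
  (hgπ : ∀ Ξ : Cfsg.IrrCharacter G,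
    Cfsg.classInner (Cfsg.indFun (stabilizer G a) (thetaZero a b H)) (Ξ : G → ℂ) = (g Ξ : ℂ))
  (X : ZasS a H → Cfsg.IrrCharacter G) (ε : ZasS a H → ℤ)
  (hXinj : Function.Injective X) (hε : ∀ χ, ε χ = 1 ∨ ε χ = -1)
  (hR : ∀ χ χ' : ZasS a H,
    ((dg χ' : ℕ) : ℂ) • Cfsg.indFun (stabilizer G a) (χ.1 : stabilizer G a → ℂ) -
      ((dg χ : ℕ) : ℂ) • Cfsg.indFun (stabilizer G a) (χ'.1 : stabilizer G a → ℂ) =
    (((dg χ' : ℕ) : ℂ) * (ε χ : ℂ)) • (X χ : G → ℂ) -
      (((dg χ : ℕ) : ℂ) * (ε χ' : ℂ)) • (X χ' : G → ℂ))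
  (χ₁ : ZasS a H)
  (hχ₁ : dg χ₁ = Nat.card ↥(stabilizer G a ⊓ stabilizer G b : Subgroup G))

include hZ hab hh he hodd hlt hHa hHcard hHfix hm hg hgπ hXinj hε hR hχ₁ in
open Classical in
set_option maxHeartbeats 1600000 in
/-- the coherent case: `γ = 0`, the class bound, and the values of the non-exceptional
characters -/
theorem coherent_consequences :
    ε χ₁ * al m g X ε χ₁ (X χ₁) = 0 ∧
    Nat.card {C : ConjClasses G // ∀ g : G, ConjClasses.mk g = C → g ∉ H} ≤ e ∧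
    (∀ Ξ : Cfsg.IrrCharacter G, (∀ χ, X χ ≠ Ξ) →
      al m g X ε χ₁ Ξ = 0 ∨ al m g X ε χ₁ Ξ = 1 ∨ al m g X ε χ₁ Ξ = -1) ∧
    e + 1 ≤ (Finset.univ.filter (fun Ξ : Cfsg.IrrCharacter G => ∀ χ, X χ ≠ Ξ)).card := by
  have hodd' : Odd (Nat.card ↥(stabilizer G a ⊓ stabilizer G b : Subgroup G)) := by
    rw [he]; exact hodd
  have hlt' : Nat.card ↥(stabilizer G a ⊓ stabilizer G b : Subgroup G) < Fintype.card Ω - 2 := by
    rw [he, hh]; omega
  have hepos : 0 < e := by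
    rw [← he]; exact Nat.card_pos
  -- a non-identity element of `H`
  have hHc : 1 < Nat.card H := by omega
  haveI : Nontrivial H := Finite.one_lt_card_iff_nontrivial.mp hHc
  obtain ⟨u, hu⟩ := exists_ne (1 : H)
  have hu1 : (u : G) ≠ 1 := fun h => hu (Subtype.ext h)
  set x₀ : stabilizer G a := ⟨(u : G), hHa u.2⟩ with hx₀
  have hx₀H : (x₀ : G) ∈ H := u.2
  have hx₀1 : x₀ ≠ 1 := fun h => hu1 (congrArg Subtype.val h)
  set 𝒩 := Finset.univ.filter (fun Ξ : Cfsg.IrrCharacter G => ∀ χ, X χ ≠ Ξ) with h𝒩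
  set γ := ε χ₁ * al m g X ε χ₁ (X χ₁) with hγ
  -- counting the non-exceptional characters
  have hcount : 𝒩.card + Fintype.card (ZasS a H) = Fintype.card (Cfsg.IrrCharacter G) := by
    have h1 := Finset.card_filter_add_card_filter_not (s := (Finset.univ :
      Finset (Cfsg.IrrCharacter G))) (fun Ξ : Cfsg.IrrCharacter G => ∀ χ, X χ ≠ Ξ)
    rw [Finset.card_univ] at h1
    have h2 : (Finset.univ.filter (fun Ξ : Cfsg.IrrCharacter G => ¬ ∀ χ, X χ ≠ Ξ)) =
        Finset.univ.image X := by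
      ext Ξ
      simp only [Finset.mem_filter, Finset.mem_univ, true_and, Finset.mem_image]
      push Not
      rfl
    rw [h2, Finset.card_image_of_injective _ hXinj, Finset.card_univ] at h1
    exact h1
  have hirr : Fintype.card (Cfsg.IrrCharacter G) = Nat.card (ConjClasses G) := by
    rw [← Nat.card_eq_fintype_card]
    exact card_irr_eq_card_conjClasses
  have hsplit : Nat.card (ConjClasses G) =
      Nat.card {C : ConjClasses G // ∃ g ∈ H, ConjClasses.mk g = C} +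
      Nat.card {C : ConjClasses G // ∀ g : G, ConjClasses.mk g = C → g ∉ H} := by
    haveI : Fintype (ConjClasses G) := Fintype.ofFinite _
    rw [Nat.card_eq_fintype_card, Nat.card_eq_fintype_card, Nat.card_eq_fintype_card]
    have h3 : Fintype.card {C : ConjClasses G // ∀ g : G, ConjClasses.mk g = C → g ∉ H} =
        Fintype.card {C : ConjClasses G // ¬ ∃ g ∈ H, ConjClasses.mk g = C} := by
      apply Fintype.card_congr
      apply Equiv.subtypeEquivRight
      intro C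
      constructor
      · rintro h ⟨g, hg, hgC⟩
        exact h g hgC hg
      · intro h g hgC hg
        exact h ⟨g, hg, hgC⟩
    rw [h3]
    have h4 := Fintype.card_subtype_compl (fun C : ConjClasses G => ∃ g ∈ H, ConjClasses.mk g = C)
    have h5 : Fintype.card {C : ConjClasses G // ∃ g ∈ H, ConjClasses.mk g = C} ≤
        Fintype.card (ConjClasses G) := Fintype.card_subtype_le _
    omega
  have hk := card_rel_add_one_le hZ hab H hHa hHcard hHfix
  have h𝒞 := Cfsg.Agent.S0884.result hZ hab h e hh he hodd hlt H hHa hHcard hHfix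
  set c𝒞 := Nat.card {C : ConjClasses G // ∀ g : G, ConjClasses.mk g = C → g ∉ H} with hc𝒞
  have h𝒩ge : c𝒞 + 1 ≤ 𝒩.card := by omega
  -- the vanishing ones
  set Z := 𝒩.filter (fun Ξ => al m g X ε χ₁ Ξ = 0) with hZdef
  have hZle : Z.card ≤ 1 := by
    refine le_trans (Finset.card_le_card ?_)
      (card_vanishing_le_one hZ hab hodd' H hHa hHcard hHfix hlt')
    intro Ξ hΞ
    rw [hZdef, Finset.mem_filter, h𝒩, Finset.mem_filter] at hΞ
    obtain ⟨⟨-, hΞX⟩, hal⟩ := hΞ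
    rw [Finset.mem_filter]
    refine ⟨Finset.mem_univ _, ?_, ?_⟩
    · intro x hx hx1
      rw [nonexc_value hZ hab H hHa hHcard hHfix m g hm hg X ε hR χ₁ hχ₁ hΞX hx hx1, hal,
        Int.cast_zero]
    · rw [hgπ]
      intro hg0
      have hg0' : g Ξ = 0 := by exact_mod_cast hg0
      have hdeg := value_one hZ hab H hHa hHcard hHfix m g hm hg X ε hR χ₁ hχ₁ Ξ
      have hsum0 : ∑ χ : ZasS a H, (ε χ * ex X χ Ξ) * (dg χ : ℤ) = 0 := by
        apply Finset.sum_eq_zero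
        intro χ _
        rw [ex_of_ne X (hΞX χ), mul_zero, zero_mul]
      rw [hsum0, add_zero, hg0'] at hdeg
      have hbb : bb m X ε χ₁ Ξ = 0 := by
        unfold al at hal
        rw [hg0'] at hal
        simpa using hal
      rw [hbb] at hdeg
      obtain ⟨d, hdpos, hd⟩ := IsIrrCharacter.apply_one_pos Ξ.2
      have h1 := charDegree_cast_of_isCharacter (IsIrrCharacter.isCharacter Ξ.2)
      rw [hd] at h1
      have h2 : Cfsg.charDegree (Ξ : G → ℂ) = d := by exact_mod_cast h1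
      rw [h2] at hdeg
      simp at hdeg
      omega
  -- the main identity
  have hmain := main_identity hZ hab H hHa hHcard hHfix m g hm hg hgπ X ε hXinj hε hR χ₁ hχ₁
    hx₀H hx₀1
  rw [he, ← hγ, ← h𝒩] at hmain
  set S := ∑ Ξ ∈ 𝒩, (al m g X ε χ₁ Ξ) ^ 2 with hS
  -- lower bound for `S`
  have hSge : ((𝒩.card : ℤ) - (Z.card : ℤ)) ≤ S := by
    have h1 : ∑ Ξ ∈ 𝒩.filter (fun Ξ => ¬ al m g X ε χ₁ Ξ = 0), (1 : ℤ) ≤
        ∑ Ξ ∈ 𝒩.filter (fun Ξ => ¬ al m g X ε χ₁ Ξ = 0), (al m g X ε χ₁ Ξ) ^ 2 := by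
      apply Finset.sum_le_sum
      intro Ξ hΞ
      rw [Finset.mem_filter] at hΞ
      have : 0 < (al m g X ε χ₁ Ξ) ^ 2 := by
        have h0 : al m g X ε χ₁ Ξ ≠ 0 := hΞ.2
        positivity
      omega
    have h2 : ∑ Ξ ∈ 𝒩.filter (fun Ξ => ¬ al m g X ε χ₁ Ξ = 0), (al m g X ε χ₁ Ξ) ^ 2 ≤ S := by
      rw [hS]
      apply Finset.sum_le_sum_of_subset_of_nonneg (Finset.filter_subset _ _)
      intro Ξ _ _
      positivity
    have h3 := Finset.card_filter_add_card_filter_not (s := 𝒩)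
      (fun Ξ => al m g X ε χ₁ Ξ = 0)
    rw [← hZdef] at h3
    rw [Finset.sum_const, nsmul_eq_mul, mul_one] at h1
    have h4 : ((𝒩.filter (fun Ξ => ¬ al m g X ε χ₁ Ξ = 0)).card : ℤ) =
        (𝒩.card : ℤ) - (Z.card : ℤ) := by
      have : (Z.card : ℤ) + ((𝒩.filter (fun Ξ => ¬ al m g X ε χ₁ Ξ = 0)).card : ℤ) =
          (𝒩.card : ℤ) := by exact_mod_cast h3
      linarith
    rw [h4] at h1
    exact h1.trans h2
  have hSe : (e : ℤ) ≤ S := by
    have h1 : (c𝒞 : ℤ) + 1 ≤ (𝒩.card : ℤ) := by exact_mod_cast h𝒩ge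
    have h2 : (Z.card : ℤ) ≤ 1 := by exact_mod_cast hZle
    have h3 : (e : ℤ) ≤ (c𝒞 : ℤ) := by exact_mod_cast h𝒞
    linarith
  have hΩ : ((Fintype.card Ω : ℤ) - 2) = (h : ℤ) - 1 := by
    rw [hh]; push_cast; ring
  rw [hΩ] at hmain
  have hlt2 : 2 * (e : ℤ) < (h : ℤ) - 1 := by
    have : 2 * e + 1 < h := by omega
    have h2 : (2 * e + 1 : ℤ) < (h : ℤ) := by exact_mod_cast this
    linarith
  obtain ⟨hγ0, hSeq⟩ := arith_gamma (e : ℤ) (h : ℤ) γ S (by exact_mod_cast hepos) hlt2 hmain hSe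
  refine ⟨hγ0, ?_, ?_, ?_⟩
  · have h1 : (c𝒞 : ℤ) + 1 ≤ (𝒩.card : ℤ) := by exact_mod_cast h𝒩ge
    have h2 : (Z.card : ℤ) ≤ 1 := by exact_mod_cast hZle
    have h3 : (c𝒞 : ℤ) ≤ (e : ℤ) := by linarith
    exact_mod_cast h3
  · intro Ξ hΞX
    by_cases hal : al m g X ε χ₁ Ξ = 0
    · left; exact hal
    · right
      -- all nonzero `al` have square one
      have hΞmem : Ξ ∈ 𝒩.filter (fun Ξ => ¬ al m g X ε χ₁ Ξ = 0) := by
        rw [Finset.mem_filter, h𝒩, Finset.mem_filter]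
        exact ⟨⟨Finset.mem_univ _, hΞX⟩, hal⟩
      have hsq : (al m g X ε χ₁ Ξ) ^ 2 = 1 := by
        by_contra hne
        have hge2 : 2 ≤ (al m g X ε χ₁ Ξ) ^ 2 := by
          have : 0 < (al m g X ε χ₁ Ξ) ^ 2 := by
            have h0 : al m g X ε χ₁ Ξ ≠ 0 := hal
            positivity
          omega
        -- then the sum is too big
        have h1 : ∑ Ξ' ∈ 𝒩.filter (fun Ξ => ¬ al m g X ε χ₁ Ξ = 0),
            ((1 : ℤ) + if Ξ' = Ξ then 1 else 0) ≤
            ∑ Ξ' ∈ 𝒩.filter (fun Ξ => ¬ al m g X ε χ₁ Ξ = 0), (al m g X ε χ₁ Ξ') ^ 2 := by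
          apply Finset.sum_le_sum
          intro Ξ' hΞ'
          rw [Finset.mem_filter] at hΞ'
          have : 0 < (al m g X ε χ₁ Ξ') ^ 2 := by
            have h0 : al m g X ε χ₁ Ξ' ≠ 0 := hΞ'.2
            positivity
          split_ifs with hEq
          · rw [hEq]; linarith
          · linarith
        have h2 : ∑ Ξ ∈ 𝒩.filter (fun Ξ => ¬ al m g X ε χ₁ Ξ = 0),
            (al m g X ε χ₁ Ξ) ^ 2 ≤ S := by
          rw [hS]
          apply Finset.sum_le_sum_of_subset_of_nonneg (Finset.filter_subset _ _)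
          intro Ξ _ _
          positivity
        rw [Finset.sum_add_distrib, Finset.sum_const, nsmul_eq_mul, mul_one,
          Finset.sum_ite_eq' _ Ξ, if_pos hΞmem] at h1
        have h3 := Finset.card_filter_add_card_filter_not (s := 𝒩)
          (fun Ξ => al m g X ε χ₁ Ξ = 0)
        rw [← hZdef] at h3
        have h4 : (Z.card : ℤ) + ((𝒩.filter (fun Ξ => ¬ al m g X ε χ₁ Ξ = 0)).card : ℤ) =
            (𝒩.card : ℤ) := by exact_mod_cast h3
        have h5 : (c𝒞 : ℤ) + 1 ≤ (𝒩.card : ℤ) := by exact_mod_cast h𝒩ge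
        have h6 : (Z.card : ℤ) ≤ 1 := by exact_mod_cast hZle
        have h7 : (e : ℤ) ≤ (c𝒞 : ℤ) := by exact_mod_cast h𝒞
        linarith
      have : (al m g X ε χ₁ Ξ - 1) * (al m g X ε χ₁ Ξ + 1) = 0 := by
        ring_nf
        linarith
      rcases mul_eq_zero.mp this with h1 | h1
      · left; linarith
      · right; linarith
  · omega

end

end Cfsg.Agent.Helper2.FeitP
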