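import Mathlib
import Cfsg.Agent.Helper2.FeitPJ

/-!
# Feit's theorem on Zassenhaus groups, general kernel: in the coherent case the exceptional
characters restrict to the kernel like the characters they come from, with the same degrees
-/

set_option autoImplicit false
set_option linter.style.haveILetI false
set_option linter.unusedSectionVars false
set_option linter.unusedDecidableInType false

namespace Cfsg.Agent.Helper2.FeitP

open MulAction Cfsg.Agent.Helper6 Cfsg.Agent.Helper2.ZasTab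
open scoped ComplexConjugate

/-- a linear character of a simple group which is trivial on a non-identity element is trivial -/
theorem linear_trivial {G : Type*} [Group G] [IsSimpleGroup G] (Ξ : Cfsg.IrrCharacter G)
    (h1 : (Ξ : G → ℂ) 1 = 1) {u : G} (hu : u ≠ 1) (hΞu : (Ξ : G → ℂ) u = 1) :
    (Ξ : G → ℂ) = fun _ => 1 := by
  obtain ⟨lam, hlam⟩ := exists_hom_of_irr_degree_one Ξ.2 h1
  have hker : lam.ker = ⊤ := by
    rcases (MonoidHom.normal_ker lam).eq_bot_or_eq_top with hb | ht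
    · exfalso
      have hmem : u ∈ lam.ker := by
        rw [MonoidHom.mem_ker]
        have h2 : ((lam u : ℂˣ) : ℂ) = 1 := by
          rw [← hΞu, hlam]
        exact Units.ext h2
      rw [hb, Subgroup.mem_bot] at hmem
      exact hu hmem
    · exact ht
  funext x
  rw [hlam]
  have hx : x ∈ lam.ker := by rw [hker]; exact Subgroup.mem_top x
  rw [MonoidHom.mem_ker] at hx
  show ((lam x : ℂˣ) : ℂ) = 1
  rw [hx]
  rfl

theorem arith_b (e h c S : ℤ) (he : 0 < e) (hlt : 2 * e < h - 1)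
    (hid : e * S = c ^ 2 * (h - 1)) (hS : S + 2 * c + 1 ≤ 1) : c = 0 := by
  by_contra hne
  rcases lt_or_gt_of_ne hne with hneg | hpos
  · have h1 : 1 ≤ -c := by linarith
    have h2 : 0 < (-c) * (h - 1 - 2 * e) := mul_pos (by linarith) (by linarith)
    have h3 : 0 ≤ (-c) * (-c - 1) * (h - 1) :=
      mul_nonneg (mul_nonneg (by linarith) (by linarith)) (by linarith)
    have h4 : e * S ≤ e * (-2 * c) := mul_le_mul_of_nonneg_left (by linarith) he.le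
    nlinarith
  · have h1 : 0 < c ^ 2 * (h - 1) := mul_pos (by positivity) (by linarith)
    have h4 : e * S ≤ e * (-2 * c) := mul_le_mul_of_nonneg_left (by linarith) he.le
    have h5 : e * (-2 * c) < 0 := by nlinarith
    linarith

variable {G Ω : Type*} [Group G] [MulAction G Ω]

section

variable [Fintype G] [Fintype Ω]
  (hZ : Cfsg.IsZassenhausGroup G Ω) {a b : Ω} (hab : a ≠ b)
  [IsSimpleGroup G]
  (h e : ℕ) (hh : Fintype.card Ω = h + 1)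
  (he : Nat.card ↥(stabilizer G a ⊓ stabilizer G b : Subgroup G) = e) (hodd : Odd e)
  (hlt : 2 * e < h - 1)
  (H : Subgroup G) (hHa : H ≤ stabilizer G a) (hHcard : Nat.card H + 1 = Fintype.card Ω)
  (hHfix : ∀ u ∈ H, u ≠ 1 → ∀ c : Ω, u • c = c → c = a)
  [Fintype (stabilizer G a)] [Fintype (Cfsg.IrrCharacter (stabilizer G a))]
  [Fintype (ZasS a H)] [Fintype (Cfsg.IrrCharacter G)]
  (m : ZasS a H → Cfsg.IrrCharacter G → ℕ) (g : Cfsg.IrrCharacter G → ℕ)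
  (hm : ∀ (χ : ZasS a H) (Ξ : Cfsg.IrrCharacter G),
    Cfsg.classInner (Cfsg.indFun (stabilizer G a) (χ.1 : stabilizer G a → ℂ))
      (Ξ : G → ℂ) = (m χ Ξ : ℂ))
  (hg : ∀ (Ξ : Cfsg.IrrCharacter G) (x : stabilizer G a), (x : G) ∈ H →
    (Ξ : G → ℂ) x = (g Ξ : ℂ) + ∑ χ : ZasS a H, (m χ Ξ : ℂ) * (χ.1 : stabilizer G a → ℂ) x)
  (hgπ : ∀ Ξ : Cfsg.IrrCharacter G,
    Cfsg.classInner (Cfsg.indFun (stabilizer G a) (thetaZero a b H)) (Ξ : G → ℂ) = (g Ξ : ℂ))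
  (X : ZasS a H → Cfsg.IrrCharacter G) (ε : ZasS a H → ℤ)
  (hXinj : Function.Injective X) (hε : ∀ χ, ε χ = 1 ∨ ε χ = -1)
  (hR : ∀ χ χ' : ZasS a H,
    ((dg χ' : ℕ) : ℂ) • Cfsg.indFun (stabilizer G a) (χ.1 : stabilizer G a → ℂ) -
      ((dg χ : ℕ) : ℂ) • Cfsg.indFun (stabilizer G a) (χ'.1 : stabilizer G a → ℂ) =
    (((dg χ' : ℕ) : ℂ) * (ε χ : ℂ)) • (X χ : G → ℂ) -
      (((dg χ : ℕ) : ℂ) * (ε χ' : ℂ)) • (X χ' : G → ℂ))
  (χ₁ : ZasS a H)
  (hχ₁ : dg χ₁ = Nat.card ↥(stabilizer G a ⊓ stabilizer G b : Subgroup G))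

include hZ hab hHa hHcard hHfix hm hg hXinj hε hR hχ₁ in
/-- if `γ = 0`, the exceptional characters have `α = 0` -/
theorem al_exc_zero (hγ : ε χ₁ * al m g X ε χ₁ (X χ₁) = 0) {x : stabilizer G a}
    (hx : (x : G) ∈ H) (hx1 : x ≠ 1) (χ : ZasS a H) : al m g X ε χ₁ (X χ) = 0 := by
  have h1 := al_prop hZ hab H hHa hHcard hHfix m g hm hg X ε hXinj hε hR χ₁ hχ₁ χ₁ χ hx hx1
  rw [hγ, mul_zero] at h1
  have hd1 : (dg χ₁ : ℤ) ≠ 0 := by
    rw [hχ₁]
    have : 0 < Nat.card ↥(stabilizer G a ⊓ stabilizer G b : Subgroup G) := Nat.card_pos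
    exact_mod_cast this.ne'
  have hεχ : ε χ ≠ 0 := by
    rcases hε χ with h | h <;> rw [h] <;> norm_num
  rcases mul_eq_zero.mp h1.symm with h5 | h5
  · exact absurd h5 hd1
  · rcases mul_eq_zero.mp h5 with h6 | h6
    · exact absurd h6 hεχ
    · exact h6

include hZ hab hHa hHcard hHfix hm hg hR hχ₁ in
/-- the degree of a non-exceptional character -/
theorem deg_nonexc {Ξ : Cfsg.IrrCharacter G} (hΞ : ∀ χ, X χ ≠ Ξ) :
    (Cfsg.charDegree (Ξ : G → ℂ) : ℤ) =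
      al m g X ε χ₁ Ξ + (m χ₁ Ξ : ℤ) * ((Fintype.card Ω : ℤ) - 1) := by
  have hdeg := value_one hZ hab H hHa hHcard hHfix m g hm hg X ε hR χ₁ hχ₁ Ξ
  have hsum0 : ∑ χ : ZasS a H, (ε χ * ex X χ Ξ) * (dg χ : ℤ) = 0 := by
    apply Finset.sum_eq_zero
    intro χ _
    rw [ex_of_ne X (hΞ χ), mul_zero, zero_mul]
  rw [hsum0, add_zero] at hdeg
  rw [hdeg]
  unfold al bb
  rw [ex_of_ne X (hΞ χ₁)]
  ring

include hZ hab hHa hHcard hHfix hm hg hXinj hR hχ₁ in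
/-- the degree of an exceptional character -/
theorem deg_exc (χ : ZasS a H) :
    (Cfsg.charDegree (X χ : G → ℂ) : ℤ) =
      al m g X ε χ₁ (X χ) + bb m X ε χ₁ (X χ) * ((Fintype.card Ω : ℤ) - 1) +
        ε χ * (dg χ : ℤ) := by
  have hdeg := value_one hZ hab H hHa hHcard hHfix m g hm hg X ε hR χ₁ hχ₁ (X χ)
  rw [sum_ex_mul_int X hXinj ε χ] at hdeg
  rw [hdeg]
  unfold al
  ring

include hZ hab hHa hHcard hHfix hm hg hR hχ₁ in
/-- a non-exceptional character not occurring in the character induced from `χ₁` is trivial -/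
theorem nonexc_trivial {Ξ : Cfsg.IrrCharacter G} (hΞ : ∀ χ, X χ ≠ Ξ) (hm0 : m χ₁ Ξ = 0)
    (hal : al m g X ε χ₁ Ξ = 0 ∨ al m g X ε χ₁ Ξ = 1 ∨ al m g X ε χ₁ Ξ = -1)
    {x : stabilizer G a} (hx : (x : G) ∈ H) (hx1 : x ≠ 1) :
    (Ξ : G → ℂ) = fun _ => 1 := by
  have hdeg := deg_nonexc hZ hab H hHa hHcard hHfix m g hm hg X ε hR χ₁ hχ₁ hΞ
  rw [hm0, Nat.cast_zero, zero_mul, add_zero] at hdeg
  obtain ⟨d, hdpos, hd⟩ := IsIrrCharacter.apply_one_pos Ξ.2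
  have h1 := charDegree_cast_of_isCharacter (IsIrrCharacter.isCharacter Ξ.2)
  rw [hd] at h1
  have h2 : Cfsg.charDegree (Ξ : G → ℂ) = d := by exact_mod_cast h1
  rw [h2] at hdeg
  have hal1 : al m g X ε χ₁ Ξ = 1 := by
    rcases hal with h | h | h
    · rw [h] at hdeg; omega
    · exact h
    · rw [h] at hdeg; omega
  rw [hal1] at hdeg
  have hd1 : d = 1 := by exact_mod_cast hdeg
  have hx1' : (x : G) ≠ 1 := fun h => hx1 (Subtype.ext h)
  apply linear_trivial Ξ (by rw [hd, hd1, Nat.cast_one]) hx1'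
  rw [nonexc_value hZ hab H hHa hHcard hHfix m g hm hg X ε hR χ₁ hχ₁ hΞ hx hx1, hal1,
    Int.cast_one]

include hZ hab hHa hHcard hHfix hm hg hgπ hXinj hR hχ₁ in
open Classical in
/-- the exceptional characters carry at most one unit of the norm of the character induced from
`χ₁` -/
theorem sum_m_exc_le_one
    (hval : ∀ Ξ : Cfsg.IrrCharacter G, (∀ χ, X χ ≠ Ξ) →
      al m g X ε χ₁ Ξ = 0 ∨ al m g X ε χ₁ Ξ = 1 ∨ al m g X ε χ₁ Ξ = -1)
    (hcount : Nat.card ↥(stabilizer G a ⊓ stabilizer G b : Subgroup G) + 1 ≤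
      (Finset.univ.filter (fun Ξ : Cfsg.IrrCharacter G => ∀ χ, X χ ≠ Ξ)).card)
    {x : stabilizer G a} (hx : (x : G) ∈ H) (hx1 : x ≠ 1) :
    ∑ χ : ZasS a H, (m χ₁ (X χ) : ℤ) * (m χ₁ (X χ) : ℤ) ≤ 1 := by
  set e := Nat.card ↥(stabilizer G a ⊓ stabilizer G b : Subgroup G) with he
  have he0 : (e : ℤ) ≠ 0 := by
    have : 0 < e := Nat.card_pos
    exact_mod_cast this.ne'
  have h3 := sum_m_mul_m hZ hab H hHa hHcard hHfix m g hm hgπ χ₁ χ₁
  rw [if_pos rfl, hχ₁, ← he] at h3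
  have htot : ∑ Ξ : Cfsg.IrrCharacter G, (m χ₁ Ξ : ℤ) * (m χ₁ Ξ : ℤ) = 1 + (e : ℤ) := by
    apply mul_left_cancel₀ he0
    rw [h3]
    ring
  set 𝒩 := Finset.univ.filter (fun Ξ : Cfsg.IrrCharacter G => ∀ χ, X χ ≠ Ξ) with h𝒩
  rw [← Finset.sum_filter_add_sum_filter_not Finset.univ
    (fun Ξ : Cfsg.IrrCharacter G => ∀ χ, X χ ≠ Ξ), ← h𝒩] at htot
  have h2 : (Finset.univ.filter (fun Ξ : Cfsg.IrrCharacter G => ¬ ∀ χ, X χ ≠ Ξ)) =
      Finset.univ.image X := by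
    ext Ξ
    simp only [Finset.mem_filter, Finset.mem_univ, true_and, Finset.mem_image]
    push Not
    rfl
  rw [h2, Finset.sum_image (fun χ _ χ' _ hEq => hXinj hEq)] at htot
  -- the non-exceptional part
  set 𝒩₀ := 𝒩.filter (fun Ξ => m χ₁ Ξ = 0) with h𝒩₀
  have h𝒩₀le : 𝒩₀.card ≤ 1 := by
    rw [Finset.card_le_one]
    intro Ξ hΞ Ξ' hΞ'
    rw [h𝒩₀, Finset.mem_filter, h𝒩, Finset.mem_filter] at hΞ hΞ'
    have e1 := nonexc_trivial hZ hab H hHa hHcard hHfix m g hm hg X ε hR χ₁ hχ₁ hΞ.1.2 hΞ.2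
      (hval Ξ hΞ.1.2) hx hx1
    have e2 := nonexc_trivial hZ hab H hHa hHcard hHfix m g hm hg X ε hR χ₁ hχ₁ hΞ'.1.2 hΞ'.2
      (hval Ξ' hΞ'.1.2) hx hx1
    exact Subtype.ext (e1.trans e2.symm)
  have hnon : (e : ℤ) ≤ ∑ Ξ ∈ 𝒩, (m χ₁ Ξ : ℤ) * (m χ₁ Ξ : ℤ) := by
    have h4 : ∑ Ξ ∈ 𝒩.filter (fun Ξ => ¬ m χ₁ Ξ = 0), (1 : ℤ) ≤
        ∑ Ξ ∈ 𝒩.filter (fun Ξ => ¬ m χ₁ Ξ = 0), (m χ₁ Ξ : ℤ) * (m χ₁ Ξ : ℤ) := by
      apply Finset.sum_le_sum
      intro Ξ hΞ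
      rw [Finset.mem_filter] at hΞ
      have h5 : 1 ≤ m χ₁ Ξ := Nat.one_le_iff_ne_zero.mpr hΞ.2
      have h6 : (1 : ℤ) ≤ (m χ₁ Ξ : ℤ) := by exact_mod_cast h5
      nlinarith
    have h5 : ∑ Ξ ∈ 𝒩.filter (fun Ξ => ¬ m χ₁ Ξ = 0), (m χ₁ Ξ : ℤ) * (m χ₁ Ξ : ℤ) ≤
        ∑ Ξ ∈ 𝒩, (m χ₁ Ξ : ℤ) * (m χ₁ Ξ : ℤ) := by
      apply Finset.sum_le_sum_of_subset_of_nonneg (Finset.filter_subset _ _)
      intro Ξ _ _
      positivity
    have h6 := Finset.card_filter_add_card_filter_not (s := 𝒩) (fun Ξ => m χ₁ Ξ = 0)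
    rw [← h𝒩₀] at h6
    rw [Finset.sum_const, nsmul_eq_mul, mul_one] at h4
    have h7 : (𝒩₀.card : ℤ) + ((𝒩.filter (fun Ξ => ¬ m χ₁ Ξ = 0)).card : ℤ) = (𝒩.card : ℤ) := by
      exact_mod_cast h6
    have h8 : (𝒩₀.card : ℤ) ≤ 1 := by exact_mod_cast h𝒩₀le
    have h9 : (e : ℤ) + 1 ≤ (𝒩.card : ℤ) := by exact_mod_cast hcount
    linarith
  linarith

include hR in
/-- the degrees of the exceptional characters are proportional to the degrees of the characters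
they come from -/
theorem deg_prop (χ χ' : ZasS a H) :
    (dg χ' : ℤ) * ε χ * (Cfsg.charDegree (X χ : G → ℂ) : ℤ) =
      (dg χ : ℤ) * ε χ' * (Cfsg.charDegree (X χ' : G → ℂ) : ℤ) := by
  have h1 := congrFun (hR χ χ') (1 : G)
  simp only [Pi.sub_apply, Pi.smul_apply, smul_eq_mul] at h1
  rw [indFun_apply_one, indFun_apply_one, ← dg_cast χ, ← dg_cast χ',
    ← charDegree_cast_of_isCharacter (IsIrrCharacter.isCharacter (X χ).2),
    ← charDegree_cast_of_isCharacter (IsIrrCharacter.isCharacter (X χ').2)] at h1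
  have h2 : (((dg χ' : ℤ) * ε χ * (Cfsg.charDegree (X χ : G → ℂ) : ℤ) : ℤ) : ℂ) =
      (((dg χ : ℤ) * ε χ' * (Cfsg.charDegree (X χ' : G → ℂ) : ℤ) : ℤ) : ℂ) := by
    push_cast
    linear_combination -h1
  exact_mod_cast h2

include hZ hab hHa hHcard hHfix hm hg hXinj hε hR hχ₁ in
/-- the constants `b` of the exceptional characters are proportional to the degrees -/
theorem bb_prop (hal0 : ∀ χ, al m g X ε χ₁ (X χ) = 0) (χ : ZasS a H) :
    (Nat.card ↥(stabilizer G a ⊓ stabilizer G b : Subgroup G) : ℤ) *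
      (ε χ * bb m X ε χ₁ (X χ)) = (dg χ : ℤ) * (ε χ₁ * bb m X ε χ₁ (X χ₁)) := by
  have h1 := deg_prop H X ε hR χ χ₁
  rw [deg_exc hZ hab H hHa hHcard hHfix m g hm hg X ε hXinj hR χ₁ hχ₁ χ,
    deg_exc hZ hab H hHa hHcard hHfix m g hm hg X ε hXinj hR χ₁ hχ₁ χ₁, hal0, hal0, hχ₁] at h1
  have hs1 := eps_sq ε hε χ
  have hs2 := eps_sq ε hε χ₁
  have hΩ : ((Fintype.card Ω : ℤ) - 1) ≠ 0 := by
    have : 0 < Nat.card H := Nat.card_pos
    have h2 : 1 < Fintype.card Ω := by omega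
    have h3 : (1 : ℤ) < (Fintype.card Ω : ℤ) := by exact_mod_cast h2
    linarith
  apply mul_left_cancel₀ hΩ
  linear_combination h1 - (Nat.card ↥(stabilizer G a ⊓ stabilizer G b : Subgroup G) : ℤ) *
    (dg χ : ℤ) * hs1 + (Nat.card ↥(stabilizer G a ⊓ stabilizer G b : Subgroup G) : ℤ) *
    (dg χ : ℤ) * hs2

include hZ hab hHa hHcard hHfix hm hg hXinj hε hR hχ₁ in
/-- the constant `b` of `X χ₁` vanishes -/
theorem bb_one_zero (hal0 : ∀ χ, al m g X ε χ₁ (X χ) = 0)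
    (hsum : ∑ χ : ZasS a H, (m χ₁ (X χ) : ℤ) * (m χ₁ (X χ) : ℤ) ≤ 1)
    (hlt' : 2 * (Nat.card ↥(stabilizer G a ⊓ stabilizer G b : Subgroup G) : ℤ) <
      (Fintype.card Ω : ℤ) - 2) :
    bb m X ε χ₁ (X χ₁) = 0 := by
  set e := Nat.card ↥(stabilizer G a ⊓ stabilizer G b : Subgroup G) with he
  have hepos : (0 : ℤ) < (e : ℤ) := by
    have : 0 < e := Nat.card_pos
    exact_mod_cast this
  set c := ε χ₁ * bb m X ε χ₁ (X χ₁) with hc
  set S := ∑ χ : ZasS a H, bb m X ε χ₁ (X χ) * bb m X ε χ₁ (X χ) with hS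
  have hsq := sum_dg_sq hZ hab H hHa hHcard hHfix
  rw [← he] at hsq
  have hΩ : 2 ≤ Fintype.card Ω := by
    have : 0 < Nat.card H := Nat.card_pos
    omega
  have hsq' : ∑ χ : ZasS a H, (dg χ : ℤ) * (dg χ : ℤ) = (e : ℤ) * ((Fintype.card Ω : ℤ) - 2) := by
    have h5 : ((∑ χ : ZasS a H, (dg χ) ^ 2 + e : ℕ) : ℤ) =
        (((Fintype.card Ω - 1) * e : ℕ) : ℤ) := by rw [hsq]
    push_cast at h5
    rw [Nat.cast_sub (by omega)] at h5
    push_cast at h5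
    have h6 : ∑ χ : ZasS a H, (dg χ : ℤ) * (dg χ : ℤ) = ∑ χ : ZasS a H, (dg χ : ℤ) ^ 2 := by
      apply Finset.sum_congr rfl
      intro χ _
      ring
    rw [h6]
    linarith
  -- (i)
  have h1 : ∀ χ : ZasS a H, (e : ℤ) * (e : ℤ) * (bb m X ε χ₁ (X χ) * bb m X ε χ₁ (X χ)) =
      c * c * ((dg χ : ℤ) * (dg χ : ℤ)) := by
    intro χ
    have h2 := bb_prop hZ hab H hHa hHcard hHfix m g hm hg X ε hXinj hε hR χ₁ hχ₁ hal0 χ
    rw [← he, ← hc] at h2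
    have hs1 := eps_sq ε hε χ
    have h3 : ((e : ℤ) * (ε χ * bb m X ε χ₁ (X χ))) * ((e : ℤ) * (ε χ * bb m X ε χ₁ (X χ))) =
        ((dg χ : ℤ) * c) * ((dg χ : ℤ) * c) := by rw [h2]
    linear_combination h3 - (e : ℤ) * (e : ℤ) * (bb m X ε χ₁ (X χ) * bb m X ε χ₁ (X χ)) * hs1
  have hid : (e : ℤ) * S = c ^ 2 * (((Fintype.card Ω : ℤ) - 1) - 1) := by
    apply mul_left_cancel₀ hepos.ne'
    rw [hS, ← mul_assoc, Finset.mul_sum, Finset.sum_congr rfl (fun χ _ => h1 χ), ← Finset.mul_sum,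
      hsq']
    ring
  -- (ii)
  have hm' : ∀ χ : ZasS a H, (m χ₁ (X χ) : ℤ) * (m χ₁ (X χ) : ℤ) =
      bb m X ε χ₁ (X χ) * bb m X ε χ₁ (X χ) +
        2 * ε χ₁ * (ex X χ₁ (X χ) * bb m X ε χ₁ (X χ)) + ex X χ₁ (X χ) * 1 := by
    intro χ
    have hs2 := eps_sq ε hε χ₁
    have hex := ex_sq X χ₁ (X χ)
    unfold bb
    linear_combination (ex X χ₁ (X χ)) * (ex X χ₁ (X χ)) * hs2 + hex
  have hS2 : S + 2 * c + 1 ≤ 1 := by
    rw [Finset.sum_congr rfl (fun χ _ => hm' χ), Finset.sum_add_distrib, Finset.sum_add_distrib,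
      ← Finset.mul_sum, sum_ex_right X hXinj χ₁ (fun χ => bb m X ε χ₁ (X χ)),
      sum_ex_right X hXinj χ₁ (fun _ => (1 : ℤ)), ← hS] at hsum
    rw [hc]
    linarith
  have hc0 := arith_b (e : ℤ) ((Fintype.card Ω : ℤ) - 1) c S hepos (by linarith) hid hS2
  have hε0 : ε χ₁ ≠ 0 := by
    rcases hε χ₁ with h | h <;> rw [h] <;> norm_num
  rcases mul_eq_zero.mp hc0 with h2 | h2
  · exact absurd h2 hε0
  · exact h2

include hZ hab hh he hodd hlt hHa hHcard hHfix hm hg hgπ hXinj hε hR hχ₁ in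
set_option maxHeartbeats 1600000 in
/-- the part of the character table of `G` forced by coherence -/
theorem coherent_table :
    (∀ χ : ZasS a H, (X χ : G → ℂ) 1 = (χ.1 : stabilizer G a → ℂ) 1) ∧
    (∀ (χ : ZasS a H) (x : stabilizer G a), (x : G) ∈ H → x ≠ 1 →
      (X χ : G → ℂ) x = (χ.1 : stabilizer G a → ℂ) x) ∧
    (∀ Ξ : Cfsg.IrrCharacter G, (∀ χ, X χ ≠ Ξ) →
      ((Ξ : G → ℂ) = fun _ => 1) ∨
      (∀ x : stabilizer G a, (x : G) ∈ H → x ≠ 1 → (Ξ : G → ℂ) x = 0) ∨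
      ((∀ x : stabilizer G a, (x : G) ∈ H → x ≠ 1 → (Ξ : G → ℂ) x = 1) ∧
        h + 1 ≤ Cfsg.charDegree (Ξ : G → ℂ)) ∨
      (∀ x : stabilizer G a, (x : G) ∈ H → x ≠ 1 → (Ξ : G → ℂ) x = -1)) := by
  obtain ⟨hγ0, -, hval, hcount⟩ := coherent_consequences hZ hab h e hh he hodd hlt H hHa hHcard
    hHfix m g hm hg hgπ X ε hXinj hε hR χ₁ hχ₁
  have hepos : 0 < e := by
    rw [← he]; exact Nat.card_pos
  -- a non-identity element of `H`
  have hHc : 1 < Nat.card H := by omega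
  haveI : Nontrivial H := Finite.one_lt_card_iff_nontrivial.mp hHc
  obtain ⟨u, hu⟩ := exists_ne (1 : H)
  have hu1 : (u : G) ≠ 1 := fun h => hu (Subtype.ext h)
  set x₀ : stabilizer G a := ⟨(u : G), hHa u.2⟩ with hx₀
  have hx₀H : (x₀ : G) ∈ H := u.2
  have hx₀1 : x₀ ≠ 1 := fun h => hu1 (congrArg Subtype.val h)
  have hal0 : ∀ χ, al m g X ε χ₁ (X χ) = 0 := fun χ =>
    al_exc_zero hZ hab H hHa hHcard hHfix m g hm hg X ε hXinj hε hR χ₁ hχ₁ hγ0 hx₀H hx₀1 χ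
  have hsum := sum_m_exc_le_one hZ hab H hHa hHcard hHfix m g hm hg hgπ X ε hXinj hR χ₁ hχ₁ hval
    (by rw [he]; exact hcount) hx₀H hx₀1
  have hlt' : 2 * (Nat.card ↥(stabilizer G a ⊓ stabilizer G b : Subgroup G) : ℤ) <
      (Fintype.card Ω : ℤ) - 2 := by
    rw [he, hh]
    have : 2 * e + 1 < h := by omega
    have h2 : (2 * e + 1 : ℤ) < (h : ℤ) := by exact_mod_cast this
    push_cast
    linarith
  have hb1 := bb_one_zero hZ hab H hHa hHcard hHfix m g hm hg X ε hXinj hε hR χ₁ hχ₁ hal0 hsum hlt'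
  have he0 : (Nat.card ↥(stabilizer G a ⊓ stabilizer G b : Subgroup G) : ℤ) ≠ 0 := by
    rw [he]
    exact_mod_cast hepos.ne'
  have hε0 : ∀ χ, ε χ ≠ 0 := by
    intro χ
    rcases hε χ with h | h <;> rw [h] <;> norm_num
  have hbb : ∀ χ, bb m X ε χ₁ (X χ) = 0 := by
    intro χ
    have h1 := bb_prop hZ hab H hHa hHcard hHfix m g hm hg X ε hXinj hε hR χ₁ hχ₁ hal0 χ
    rw [hb1, mul_zero, mul_zero] at h1
    rcases mul_eq_zero.mp h1 with h2 | h2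
    · exact absurd h2 he0
    · rcases mul_eq_zero.mp h2 with h3 | h3
      · exact absurd h3 (hε0 χ)
      · exact h3
  have hdeg : ∀ χ, (Cfsg.charDegree (X χ : G → ℂ) : ℤ) = ε χ * (dg χ : ℤ) := by
    intro χ
    rw [deg_exc hZ hab H hHa hHcard hHfix m g hm hg X ε hXinj hR χ₁ hχ₁ χ, hal0, hbb]
    ring
  have hε1 : ∀ χ, ε χ = 1 := by
    intro χ
    rcases hε χ with h1 | h1
    · exact h1
    · exfalso
      have h2 := hdeg χ
      rw [h1] at h2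
      obtain ⟨d, hdpos, hd⟩ := IsIrrCharacter.apply_one_pos (X χ).2
      have h3 := charDegree_cast_of_isCharacter (IsIrrCharacter.isCharacter (X χ).2)
      rw [hd] at h3
      have h4 : Cfsg.charDegree (X χ : G → ℂ) = d := by exact_mod_cast h3
      rw [h4] at h2
      have h5 : (0 : ℤ) ≤ (dg χ : ℤ) := Nat.cast_nonneg _
      have h6 : (0 : ℤ) < (d : ℤ) := by exact_mod_cast hdpos
      linarith
  refine ⟨?_, ?_, ?_⟩
  · intro χ
    rw [← charDegree_cast_of_isCharacter (IsIrrCharacter.isCharacter (X χ).2), ← dg_cast χ]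
    have h1 := hdeg χ
    rw [hε1, one_mul] at h1
    exact_mod_cast h1
  · intro χ x hx hx1
    rw [exc_value hZ hab H hHa hHcard hHfix m g hm hg X ε hXinj hR χ₁ hχ₁ χ hx hx1, hal0, hε1,
      Int.cast_zero, Int.cast_one, zero_add, one_mul]
  · intro Ξ hΞ
    rcases hval Ξ hΞ with hal | hal | hal
    · right; left
      intro x hx hx1
      rw [nonexc_value hZ hab H hHa hHcard hHfix m g hm hg X ε hR χ₁ hχ₁ hΞ hx hx1, hal,
        Int.cast_zero]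
    · by_cases hm0 : m χ₁ Ξ = 0
      · left
        exact nonexc_trivial hZ hab H hHa hHcard hHfix m g hm hg X ε hR χ₁ hχ₁ hΞ hm0
          (hval Ξ hΞ) hx₀H hx₀1
      · right; right; left
        refine ⟨?_, ?_⟩
        · intro x hx hx1
          rw [nonexc_value hZ hab H hHa hHcard hHfix m g hm hg X ε hR χ₁ hχ₁ hΞ hx hx1, hal,
            Int.cast_one]
        · have h1 := deg_nonexc hZ hab H hHa hHcard hHfix m g hm hg X ε hR χ₁ hχ₁ hΞ
          rw [hal, hh] at h1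
          have h2 : 1 ≤ m χ₁ Ξ := Nat.one_le_iff_ne_zero.mpr hm0
          have h3 : (1 : ℤ) ≤ (m χ₁ Ξ : ℤ) := by exact_mod_cast h2
          have h4 : (0 : ℤ) ≤ (h : ℤ) := Nat.cast_nonneg _
          have h5 : ((h + 1 : ℕ) : ℤ) ≤ (Cfsg.charDegree (Ξ : G → ℂ) : ℤ) := by
            rw [h1]
            push_cast
            nlinarith
          exact_mod_cast h5
    · right; right; right
      intro x hx hx1
      rw [nonexc_value hZ hab H hHa hHcard hHfix m g hm hg X ε hR χ₁ hχ₁ hΞ hx hx1, hal]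
      push_cast
      rfl

end

end Cfsg.Agent.Helper2.FeitP
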