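import Mathlib
import Cfsg.Agent.Helper2.FeitPK
import Cfsg.Agent.Helper2.ZasPSLD
import Cfsg.Agent.S0883

/-!
# Feit's theorem on Zassenhaus groups, general kernel: the coherent case with a kernel of even
order is impossible unless the kernel has exponent two
-/

set_option autoImplicit false
set_option linter.style.haveILetI false
set_option linter.unusedSectionVars false
set_option linter.unusedDecidableInType false

namespace Cfsg.Agent.Helper2.FeitP

open MulAction Cfsg.Agent.Helper6 Cfsg.Agent.Helper2.ZasTab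
open scoped ComplexConjugate

theorem invol_of_isConj' {X : Type*} [Group X] {t x : X} (ht : orderOf t = 2) (hx : IsConj t x) :
    orderOf x = 2 := by
  obtain ⟨c, hc⟩ := isConj_iff.1 hx
  have ht2 : t * t = 1 := by
    rw [← pow_two, ← ht]; exact pow_orderOf_eq_one t
  have ht1 : t ≠ 1 := by
    intro e
    rw [e, orderOf_one] at ht
    norm_num at ht
  apply orderOf_eq_prime
  · rw [pow_two, ← hc]
    have : c * t * c⁻¹ * (c * t * c⁻¹) = c * (t * t) * c⁻¹ := by group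
    rw [this, ht2, mul_one, mul_inv_cancel]
  · intro e
    apply ht1
    rw [← hc] at e
    have : t = c⁻¹ * (c * t * c⁻¹) * c := by group
    rw [this, e, mul_one, inv_mul_cancel]

variable {G Ω : Type*} [Group G] [MulAction G Ω]

section

variable [Fintype G] [Fintype Ω]
  (hZ : Cfsg.IsZassenhausGroup G Ω) {a b : Ω} (hab : a ≠ b)
  (H : Subgroup G) (hHa : H ≤ stabilizer G a) (hHcard : Nat.card H + 1 = Fintype.card Ω)
  (hHfix : ∀ u ∈ H, u ≠ 1 → ∀ c : Ω, u • c = c → c = a)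

include hZ hab hHa hHcard hHfix in
/-- the class-multiplication sum over the relevant characters of the point stabiliser -/
theorem sum_rel_general [Fintype (Cfsg.IrrCharacter (stabilizer G a))]
    [Fintype (ZasS a H)] {t u : stabilizer G a} (ht : (t : G) ∈ H) (hu : (u : G) ∈ H)
    (h : ∀ x y : stabilizer G a, IsConj t x → IsConj t y → ¬ IsConj u (x * y)) :
    ∑ χ : ZasS a H, ((χ.1 : Cfsg.IrrCharacter (stabilizer G a)) : stabilizer G a → ℂ) t *
        ((χ.1 : Cfsg.IrrCharacter (stabilizer G a)) : stabilizer G a → ℂ) t *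
        conj (((χ.1 : Cfsg.IrrCharacter (stabilizer G a)) : stabilizer G a → ℂ) u) /
        ((χ.1 : Cfsg.IrrCharacter (stabilizer G a)) : stabilizer G a → ℂ) 1 =
      -(Nat.card ↥(stabilizer G a ⊓ stabilizer G b : Subgroup G) : ℂ) := by
  classical
  haveI : Fintype (stabilizer G a) := Fintype.ofFinite _
  have h1 := sum_irr_sq_mul_conj_eq_zero t u h
  rw [zas_sum_irr_split a H] at h1
  have h2 : ∀ ζ ∈ Finset.univ.filter (fun ζ : Cfsg.IrrCharacter (stabilizer G a) =>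
        ∀ n ∈ H.subgroupOf (stabilizer G a),
          (ζ : stabilizer G a → ℂ) n = (ζ : stabilizer G a → ℂ) 1),
      (ζ : stabilizer G a → ℂ) t * (ζ : stabilizer G a → ℂ) t *
        conj ((ζ : stabilizer G a → ℂ) u) / (ζ : stabilizer G a → ℂ) 1 =
        (ζ : stabilizer G a → ℂ) 1 * (ζ : stabilizer G a → ℂ) 1 := by
    intro ζ hζ
    rw [Finset.mem_filter] at hζ
    rw [hζ.2 t (Subgroup.mem_subgroupOf.mpr ht), hζ.2 u (Subgroup.mem_subgroupOf.mpr hu)]
    have hζ1 : (ζ : stabilizer G a → ℂ) 1 ≠ 0 := IsIrrCharacter.apply_one_ne_zero ζ.2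
    obtain ⟨n, hn⟩ := IsCharacter.apply_one (IsIrrCharacter.isCharacter ζ.2)
    rw [hn, Complex.conj_natCast]
    rw [hn] at hζ1
    field_simp
  rw [Finset.sum_congr rfl h2, zas_sum_triv_deg_sq hZ hab H hHa hHcard hHfix] at h1
  linear_combination h1

end

section

variable [Fintype G] [Fintype Ω]
  (hZ : Cfsg.IsZassenhausGroup G Ω) {a b : Ω} (hab : a ≠ b)
  [IsSimpleGroup G]
  (h e : ℕ) (hh : Fintype.card Ω = h + 1)
  (he : Nat.card ↥(stabilizer G a ⊓ stabilizer G b : Subgroup G) = e) (hodd : Odd e)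
  (hlt : 2 * e < h - 1)
  (H : Subgroup G) (hHa : H ≤ stabilizer G a) (hHcard : Nat.card H + 1 = Fintype.card Ω)
  (hHfix : ∀ u ∈ H, u ≠ 1 → ∀ c : Ω, u • c = c → c = a)
  [Fintype (stabilizer G a)] [Fintype (Cfsg.IrrCharacter (stabilizer G a))]
  [Fintype (ZasS a H)] [Fintype (Cfsg.IrrCharacter G)]
  (X : ZasS a H → Cfsg.IrrCharacter G) (hXinj : Function.Injective X)
  (hX1 : ∀ χ : ZasS a H, (X χ : G → ℂ) 1 = (χ.1 : stabilizer G a → ℂ) 1)
  (hXv : ∀ (χ : ZasS a H) (x : stabilizer G a), (x : G) ∈ H → x ≠ 1 →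
      (X χ : G → ℂ) x = (χ.1 : stabilizer G a → ℂ) x)
  (hnon : ∀ Ξ : Cfsg.IrrCharacter G, (∀ χ, X χ ≠ Ξ) →
      ((Ξ : G → ℂ) = fun _ => 1) ∨
      (∀ x : stabilizer G a, (x : G) ∈ H → x ≠ 1 → (Ξ : G → ℂ) x = 0) ∨
      ((∀ x : stabilizer G a, (x : G) ∈ H → x ≠ 1 → (Ξ : G → ℂ) x = 1) ∧
        h + 1 ≤ Cfsg.charDegree (Ξ : G → ℂ)) ∨
      (∀ x : stabilizer G a, (x : G) ∈ H → x ≠ 1 → (Ξ : G → ℂ) x = -1))

include hZ hab hh he hodd hlt hHa hHcard hHfix hXinj hX1 hXv hnon in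
set_option maxHeartbeats 3200000 in
/-- the forced character table is contradictory if the kernel has even order and is not of
exponent two -/
theorem even_contra (hev : Even h) {w : G} (hw : w ∈ H) (hww : w * w ≠ 1) : False := by
  classical
  haveI : Fact (Nat.Prime 2) := ⟨Nat.prime_two⟩
  -- `e ≥ 2`
  have he2 : 2 ≤ e := by
    have hZH := Cfsg.Agent.Helper2.ZasPSL.zhyp_of hZ
    obtain ⟨g, hg1, hga, hgb⟩ := hZH.exists_fix hab
    have hg : g ∈ (stabilizer G a ⊓ stabilizer G b : Subgroup G) :=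
      Subgroup.mem_inf.2 ⟨mem_stabilizer_iff.2 hga, mem_stabilizer_iff.2 hgb⟩
    rw [← he]
    have hnt : Nontrivial ↥(stabilizer G a ⊓ stabilizer G b : Subgroup G) :=
      ⟨⟨⟨g, hg⟩, 1, fun e' => hg1 (congrArg Subtype.val e')⟩⟩
    exact Finite.one_lt_card_iff_nontrivial.2 hnt
  have hHh : Nat.card H = h := by omega
  -- an involution in `H`
  obtain ⟨t', ht'⟩ := exists_prime_orderOf_dvd_card' (G := H) 2 (by rw [hHh]; exact hev.two_dvd)
  obtain ⟨t, ht, ht2⟩ : ∃ t : G, t ∈ H ∧ orderOf t = 2 :=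
    ⟨t', t'.2, by rw [Subgroup.orderOf_coe]; exact ht'⟩
  have ht1 : t ≠ 1 := by
    intro e'
    rw [e', orderOf_one] at ht2
    norm_num at ht2
  have hw1 : w ≠ 1 := by
    intro e'
    apply hww
    rw [e', one_mul]
  -- no two conjugates of `t` multiply to a conjugate of `w`
  have hnoG : ∀ x y : G, IsConj t x → IsConj t y → ¬ IsConj w (x * y) := by
    intro x y hx hy hxy
    obtain ⟨c, hc⟩ := isConj_iff.1 hxy
    have hx' : orderOf (c⁻¹ * x * c) = 2 :=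
      invol_of_isConj' (invol_of_isConj' ht2 hx) (isConj_iff.2 ⟨c⁻¹, by rw [inv_inv]⟩)
    have hy' : orderOf (c⁻¹ * y * c) = 2 :=
      invol_of_isConj' (invol_of_isConj' ht2 hy) (isConj_iff.2 ⟨c⁻¹, by rw [inv_inv]⟩)
    have hprod : (c⁻¹ * x * c) * (c⁻¹ * y * c) = w := by
      have h1 : (c⁻¹ * x * c) * (c⁻¹ * y * c) = c⁻¹ * (x * y) * c := by group
      rw [h1, ← hc]
      group
    have h1 := Cfsg.Agent.S0883.result hZ hab h e hh he hodd hlt H hHa hHcard hHfix w hw hw1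
      _ _ hx' hy' hprod
    apply hww
    rw [← pow_two, ← h1]
    exact pow_orderOf_eq_one w
  set t₀ : stabilizer G a := ⟨t, hHa ht⟩ with ht₀
  set w₀ : stabilizer G a := ⟨w, hHa hw⟩ with hw₀
  have ht₀1 : t₀ ≠ 1 := fun h' => ht1 (congrArg Subtype.val h')
  have hw₀1 : w₀ ≠ 1 := fun h' => hw1 (congrArg Subtype.val h')
  have hnoA : ∀ x y : stabilizer G a, IsConj t₀ x → IsConj t₀ y → ¬ IsConj w₀ (x * y) := by
    intro x y hx hy hxy
    have hx' : IsConj t (x : G) := by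
      obtain ⟨c, hc⟩ := isConj_iff.1 hx
      exact isConj_iff.2 ⟨(c : G), congrArg Subtype.val hc⟩
    have hy' : IsConj t (y : G) := by
      obtain ⟨c, hc⟩ := isConj_iff.1 hy
      exact isConj_iff.2 ⟨(c : G), congrArg Subtype.val hc⟩
    have hxy' : IsConj w ((x : G) * (y : G)) := by
      obtain ⟨c, hc⟩ := isConj_iff.1 hxy
      exact isConj_iff.2 ⟨(c : G), congrArg Subtype.val hc⟩
    exact hnoG x y hx' hy' hxy'
  have SG := sum_irr_sq_mul_conj_eq_zero t w hnoG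
  have SA := sum_rel_general hZ hab H hHa hHcard hHfix (t := t₀) (u := w₀) ht hw hnoA
  rw [he] at SA
  -- the exceptional characters
  set P : Cfsg.IrrCharacter G → Prop := fun Ξ => ¬ ∀ χ, X χ ≠ Ξ with hP
  have himg : Finset.univ.filter P = Finset.univ.image X := by
    ext Ξ
    simp only [hP, Finset.mem_filter, Finset.mem_univ, true_and, Finset.mem_image]
    push Not
    rfl
  have hbij : ∑ χ : ZasS a H,
      (χ.1 : stabilizer G a → ℂ) t₀ * (χ.1 : stabilizer G a → ℂ) t₀ *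
        conj ((χ.1 : stabilizer G a → ℂ) w₀) / (χ.1 : stabilizer G a → ℂ) 1 =
      ∑ Ξ ∈ Finset.univ.filter P,
        (Ξ : G → ℂ) t * (Ξ : G → ℂ) t * conj ((Ξ : G → ℂ) w) / (Ξ : G → ℂ) 1 := by
    rw [himg, Finset.sum_image (fun χ _ χ' _ hEq => hXinj hEq)]
    apply Finset.sum_congr rfl
    intro χ _
    rw [hX1 χ, ← hXv χ t₀ ht ht₀1, ← hXv χ w₀ hw hw₀1]
  rw [← Finset.sum_filter_add_sum_filter_not Finset.univ P, ← hbij, SA] at SG
  have hrest : ∑ Ξ ∈ Finset.univ.filter (fun Ξ => ¬ P Ξ),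
      (Ξ : G → ℂ) t * (Ξ : G → ℂ) t * conj ((Ξ : G → ℂ) w) / (Ξ : G → ℂ) 1 = (e : ℂ) := by
    have := eq_neg_of_add_eq_zero_right SG
    rw [this, neg_neg]
  -- bounding the remaining terms
  set B : Cfsg.IrrCharacter G → ℝ := fun Ξ =>
    (if (Ξ : G → ℂ) = (fun _ => 1) then (1 : ℝ) else 0) +
      (if h + 1 ≤ Cfsg.charDegree (Ξ : G → ℂ) then (1 : ℝ) else 0) * (1 / ((h : ℝ) + 1)) with hB
  have hh0 : (0 : ℝ) < (h : ℝ) + 1 := by positivity
  have hBnn : ∀ Ξ : Cfsg.IrrCharacter G, 0 ≤ B Ξ := by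
    intro Ξ
    rw [hB]
    dsimp only
    split_ifs <;> positivity
  have hBle : ∀ Ξ ∈ Finset.univ.filter (fun Ξ => ¬ P Ξ),
      ((Ξ : G → ℂ) t * (Ξ : G → ℂ) t * conj ((Ξ : G → ℂ) w) / (Ξ : G → ℂ) 1).re ≤ B Ξ := by
    intro Ξ hΞ
    rw [Finset.mem_filter] at hΞ
    have hΞ' : ∀ χ, X χ ≠ Ξ := by
      have := hΞ.2
      rw [hP] at this
      exact not_not.mp this
    rcases hnon Ξ hΞ' with h1 | h1 | h1 | h1
    · rw [h1]
      simp only [map_one, mul_one, div_one, Complex.one_re]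
      rw [hB]
      dsimp only
      rw [if_pos h1]
      have : (0 : ℝ) ≤ (if h + 1 ≤ Cfsg.charDegree (Ξ : G → ℂ) then (1 : ℝ) else 0) *
          (1 / ((h : ℝ) + 1)) := by
        split_ifs <;> positivity
      linarith
    · rw [show (Ξ : G → ℂ) t = 0 from h1 t₀ ht ht₀1]
      simp only [zero_mul, zero_div, Complex.zero_re]
      exact hBnn Ξ
    · rw [show (Ξ : G → ℂ) t = 1 from h1.1 t₀ ht ht₀1,
        show (Ξ : G → ℂ) w = 1 from h1.1 w₀ hw hw₀1,
        ← charDegree_cast_of_isCharacter (IsIrrCharacter.isCharacter Ξ.2)]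
      have : (1 : ℂ) * 1 * conj (1 : ℂ) / ((Cfsg.charDegree (Ξ : G → ℂ) : ℕ) : ℂ) =
          ((1 / ((Cfsg.charDegree (Ξ : G → ℂ) : ℕ) : ℝ) : ℝ) : ℂ) := by
        push_cast
        simp
      rw [this, Complex.ofReal_re, hB]
      dsimp only
      rw [if_pos h1.2, one_mul]
      have h2 : (0 : ℝ) ≤ (if (Ξ : G → ℂ) = (fun _ => 1) then (1 : ℝ) else 0) := by
        split_ifs <;> norm_num
      have h3 : ((h : ℝ) + 1) ≤ ((Cfsg.charDegree (Ξ : G → ℂ) : ℕ) : ℝ) := by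
        exact_mod_cast h1.2
      have h4 : 1 / ((Cfsg.charDegree (Ξ : G → ℂ) : ℕ) : ℝ) ≤ 1 / ((h : ℝ) + 1) :=
        one_div_le_one_div_of_le hh0 h3
      linarith
    · rw [show (Ξ : G → ℂ) t = -1 from h1 t₀ ht ht₀1,
        show (Ξ : G → ℂ) w = -1 from h1 w₀ hw hw₀1,
        ← charDegree_cast_of_isCharacter (IsIrrCharacter.isCharacter Ξ.2)]
      have : (-1 : ℂ) * -1 * conj (-1 : ℂ) / ((Cfsg.charDegree (Ξ : G → ℂ) : ℕ) : ℂ) =
          ((-1 / ((Cfsg.charDegree (Ξ : G → ℂ) : ℕ) : ℝ) : ℝ) : ℂ) := by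
        push_cast
        simp
      rw [this, Complex.ofReal_re]
      have : (-1 : ℝ) / ((Cfsg.charDegree (Ξ : G → ℂ) : ℕ) : ℝ) ≤ 0 :=
        div_nonpos_of_nonpos_of_nonneg (by norm_num) (Nat.cast_nonneg _)
      linarith [hBnn Ξ]
  have hre : (e : ℝ) ≤ ∑ Ξ : Cfsg.IrrCharacter G, B Ξ := by
    have h1 := congrArg Complex.re hrest
    rw [Complex.re_sum, Complex.natCast_re] at h1
    rw [← h1]
    calc _ ≤ ∑ Ξ ∈ Finset.univ.filter (fun Ξ => ¬ P Ξ), B Ξ := Finset.sum_le_sum hBle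
      _ ≤ ∑ Ξ : Cfsg.IrrCharacter G, B Ξ :=
        Finset.sum_le_sum_of_subset_of_nonneg (Finset.filter_subset _ _) (fun Ξ _ _ => hBnn Ξ)
  -- evaluate the bound
  set N1 := (Finset.univ.filter (fun Ξ : Cfsg.IrrCharacter G => (Ξ : G → ℂ) = (fun _ => 1))).card
    with hN1
  set N2 := (Finset.univ.filter
    (fun Ξ : Cfsg.IrrCharacter G => h + 1 ≤ Cfsg.charDegree (Ξ : G → ℂ))).card with hN2
  have hsumB : ∑ Ξ : Cfsg.IrrCharacter G, B Ξ = (N1 : ℝ) + (N2 : ℝ) * (1 / ((h : ℝ) + 1)) := by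
    rw [hB]
    dsimp only
    rw [Finset.sum_add_distrib, ← Finset.sum_mul, Finset.sum_boole, Finset.sum_boole]
  have hN1le : N1 ≤ 1 := by
    rw [hN1, Finset.card_le_one]
    intro x hx y hy
    rw [Finset.mem_filter] at hx hy
    exact Subtype.ext (hx.2.trans hy.2.symm)
  -- degrees
  have hsq : ∑ Ξ : Cfsg.IrrCharacter G, Cfsg.charDegree (Ξ : G → ℂ) ^ 2 = Nat.card G := by
    have h1 : (∑ Ξ : Cfsg.IrrCharacter G, ((Cfsg.charDegree (Ξ : G → ℂ) ^ 2 : ℕ) : ℂ)) =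
        (Nat.card G : ℂ) := by
      rw [← sum_sq_degrees]
      apply Finset.sum_congr rfl
      intro Ξ _
      push_cast
      rw [charDegree_cast_of_isCharacter (IsIrrCharacter.isCharacter Ξ.2)]
    exact_mod_cast h1
  have hN2le : N2 * (h + 1) ^ 2 ≤ Nat.card G := by
    rw [← hsq]
    calc N2 * (h + 1) ^ 2 = ∑ Ξ ∈ Finset.univ.filter
          (fun Ξ : Cfsg.IrrCharacter G => h + 1 ≤ Cfsg.charDegree (Ξ : G → ℂ)),
          (h + 1) ^ 2 := by
          rw [hN2, Finset.sum_const, smul_eq_mul]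
      _ ≤ ∑ Ξ ∈ Finset.univ.filter
          (fun Ξ : Cfsg.IrrCharacter G => h + 1 ≤ Cfsg.charDegree (Ξ : G → ℂ)),
          Cfsg.charDegree (Ξ : G → ℂ) ^ 2 := by
          apply Finset.sum_le_sum
          intro Ξ hΞ
          rw [Finset.mem_filter] at hΞ
          exact Nat.pow_le_pow_left hΞ.2 2
      _ ≤ _ := Finset.sum_le_sum_of_subset_of_nonneg (Finset.subset_univ _)
          (fun _ _ _ => Nat.zero_le _)
  have hGcard : Nat.card G = (h + 1) * (h * e) := by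
    have h1 := Subgroup.card_mul_index (stabilizer G a)
    rw [zas_index_stabilizer hZ hab H hHa hHcard hHfix,
      zas_card_stabilizer hZ hab H hHa hHcard hHfix, he, hh] at h1
    rw [← h1]
    have : h + 1 - 1 = h := by omega
    rw [this]
    ring
  rw [hGcard] at hN2le
  have hN2' : N2 * (h + 1) ≤ h * e := by
    have : (N2 * (h + 1)) * (h + 1) ≤ (h * e) * (h + 1) := by
      calc (N2 * (h + 1)) * (h + 1) = N2 * (h + 1) ^ 2 := by ring
        _ ≤ (h + 1) * (h * e) := hN2le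
        _ = (h * e) * (h + 1) := by ring
    exact Nat.le_of_mul_le_mul_right this (by omega)
  -- final arithmetic
  rw [hsumB] at hre
  have hN1r : (N1 : ℝ) ≤ 1 := by exact_mod_cast hN1le
  have hN2r : (N2 : ℝ) * ((h : ℝ) + 1) ≤ (h : ℝ) * (e : ℝ) := by exact_mod_cast hN2'
  have he2r : (2 : ℝ) ≤ (e : ℝ) := by exact_mod_cast he2
  have hhr : (0 : ℝ) ≤ (h : ℝ) := Nat.cast_nonneg _
  have h5 : (N2 : ℝ) * (1 / ((h : ℝ) + 1)) = (N2 : ℝ) / ((h : ℝ) + 1) := by ring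
  rw [h5] at hre
  have h6 : ((e : ℝ) - 1) * ((h : ℝ) + 1) ≤ (N2 : ℝ) := by
    have : (e : ℝ) - 1 ≤ (N2 : ℝ) / ((h : ℝ) + 1) := by linarith
    rwa [le_div_iff₀ hh0] at this
  nlinarith [mul_nonneg hhr hhr, mul_nonneg (by linarith : (0 : ℝ) ≤ (e : ℝ) - 2) hhr,
    mul_nonneg (mul_nonneg (by linarith : (0 : ℝ) ≤ (e : ℝ) - 2) hhr) hhr]

end

end Cfsg.Agent.Helper2.FeitP
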