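import Mathlib
import Cfsg.Agent.Helper2.FeitPL
import Cfsg.Agent.Helper2.FeitOddC
import Cfsg.Agent.S1535

/-!
# Feit's theorem on Zassenhaus groups, general kernel: the kernel of a point stabiliser of a simple
Zassenhaus group with `2e < h - 1`, `e` odd, has prime power order
-/

set_option autoImplicit false
set_option linter.style.haveILetI false
set_option linter.unusedSectionVars false
set_option linter.unusedDecidableInType false

namespace Cfsg.Agent.Helper2.FeitP

open MulAction Cfsg.Agent.Helper6 Cfsg.Agent.Helper2.ZasTab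
open scoped ComplexConjugate

variable {G Ω : Type*} [Group G] [MulAction G Ω]

section

variable [Fintype G] [Fintype Ω]
  (hZ : Cfsg.IsZassenhausGroup G Ω) {a b : Ω} (hab : a ≠ b)
  (H : Subgroup G) (hHa : H ≤ stabilizer G a) (hHcard : Nat.card H + 1 = Fintype.card Ω)
  (hHfix : ∀ u ∈ H, u ≠ 1 → ∀ c : Ω, u • c = c → c = a)

include hZ hab hHa hHcard hHfix

/-- the kernel is a non-trivial proper subgroup of the point stabiliser -/
theorem kernel_ne_bot_top (hH2 : 2 ≤ Nat.card H)
    (he2 : 2 ≤ Nat.card ↥(stabilizer G a ⊓ stabilizer G b : Subgroup G)) :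
    H.subgroupOf (stabilizer G a) ≠ ⊥ ∧ H.subgroupOf (stabilizer G a) ≠ ⊤ := by
  constructor
  · intro hbot
    have h2 : Nat.card (H.subgroupOf (stabilizer G a)) = Nat.card H :=
      Nat.card_congr (Subgroup.subgroupOfEquivOfLe hHa).toEquiv
    rw [hbot, Subgroup.card_bot] at h2
    omega
  · intro htop
    have h1 := zas_kernel_subgroupOf_index hZ hab H hHa hHcard hHfix
    rw [htop, Subgroup.index_top] at h1
    omega

/-- the centraliser form of the Frobenius property -/
theorem kernel_centralizer_le :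
    ∀ k ∈ H.subgroupOf (stabilizer G a), k ≠ 1 →
      Subgroup.centralizer ({k} : Set (stabilizer G a)) ≤ H.subgroupOf (stabilizer G a) := by
  intro k hk hk1 g hg
  by_contra hgK
  apply hk1
  apply zas_kernel_subgroupOf_free hZ hab H hHa hHcard hHfix g hgK k hk
  rw [Subgroup.mem_centralizer_iff] at hg
  exact (hg k (Set.mem_singleton k)).symm

/-- the relevant characters are the characters not trivial on the kernel -/
theorem zasRel_eq : zasRel a H = {χ : stabilizer G a → ℂ | Cfsg.IsIrrCharacter (stabilizer G a) χ ∧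
    ∃ k ∈ H.subgroupOf (stabilizer G a), χ k ≠ χ 1} := by
  ext χ
  constructor
  · rintro ⟨h1, k, hk, hne⟩
    exact ⟨h1, k, Subgroup.mem_subgroupOf.mpr hk, hne⟩
  · rintro ⟨h1, k, hk, hne⟩
    exact ⟨h1, k, Subgroup.mem_subgroupOf.mp hk, hne⟩

/-- there is a relevant character of degree `e` -/
theorem exists_chi_one [Fintype (stabilizer G a)] (hH2 : 2 ≤ Nat.card H)
    (he2 : 2 ≤ Nat.card ↥(stabilizer G a ⊓ stabilizer G b : Subgroup G)) :
    ∃ χ₁ : ZasS a H, dg χ₁ = Nat.card ↥(stabilizer G a ⊓ stabilizer G b : Subgroup G) := by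
  classical
  haveI hKn := zas_kernel_subgroupOf_normal hZ hab H hHa hHcard hHfix
  obtain ⟨hK1, hK2⟩ := kernel_ne_bot_top hZ hab H hHa hHcard hHfix hH2 he2
  have hfree := zas_kernel_subgroupOf_free hZ hab H hHa hHcard hHfix
  have hidx := zas_kernel_subgroupOf_index hZ hab H hHa hHcard hHfix
  have hC := kernel_centralizer_le hZ hab H hHa hHcard hHfix
  set K := H.subgroupOf (stabilizer G a) with hK
  haveI hnil : Group.IsNilpotent K := frob_kernel_nilpotent K hK1 hK2 hC
  set K' : Subgroup (stabilizer G a) := ⁅K, K⁆ with hK'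
  haveI hK'n : K'.Normal := Subgroup.commutator_normal K K
  have hK'K : K' ≤ K := Subgroup.commutator_le_right K K
  have habK' : ∀ x ∈ K, ∀ y ∈ K, x * y * x⁻¹ * y⁻¹ ∈ K' := by
    intro x hx y hy
    rw [← commutatorElement_def]
    exact Subgroup.commutator_mem_commutator hx hy
  have hlt : K' < K := by
    have h := sup_commutator_lt ⊥ K K (bot_lt_iff_ne_bot.mpr hK1) le_rfl
      (inferInstance : Group.IsNilpotent (↥K ⧸ (⊥ : Subgroup (stabilizer G a)).subgroupOf K))
    rwa [bot_sup_eq] at h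
  obtain ⟨hdeg, hcard⟩ := frob_card_linear K K' hfree hK'K habK'
  have hrel : 2 ≤ K'.relIndex K := by
    by_contra hlt2
    have h0 : K'.relIndex K ≠ 0 := by
      haveI : K'.IsFiniteRelIndex K := Subgroup.isFiniteRelIndex_of_finiteIndex
      exact Subgroup.relIndex_ne_zero
    have h1 : K'.relIndex K = 1 := by omega
    rw [Subgroup.relIndex_eq_one] at h1
    exact absurd h1 (not_le_of_gt hlt)
  have hne : (indAbove K K').Nonempty := by
    rw [Finset.nonempty_iff_ne_empty]
    intro hemp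
    rw [hemp, Finset.card_empty, zero_mul] at hcard
    omega
  obtain ⟨φ, hφ⟩ := hne
  have hφS : φ ∈ Cfsg.inducedIrrAbove K ⊥ := by
    have h1 : φ ∈ (↑(indAbove K K') : Set (stabilizer G a → ℂ)) := Finset.mem_coe.mpr hφ
    rw [coe_indAbove] at h1
    exact inducedIrrAbove_anti K bot_le h1
  have hφirr := frob_irr K hfree φ hφS
  have hφrel : φ ∈ zasRel a H := by
    rw [zasRel_eq hZ hab H hHa hHcard hHfix, frob_S_eq K hfree]
    exact hφS
  refine ⟨⟨⟨φ, hφirr⟩, hφrel⟩, ?_⟩
  show Cfsg.charDegree φ = _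
  rw [hdeg φ hφ, hidx]

end

section

variable [Fintype G] [Fintype Ω]
  (hZ : Cfsg.IsZassenhausGroup G Ω) {a b : Ω} (hab : a ≠ b)
  [IsSimpleGroup G]
  (h e : ℕ) (hh : Fintype.card Ω = h + 1)
  (he : Nat.card ↥(stabilizer G a ⊓ stabilizer G b : Subgroup G) = e) (hodd : Odd e)
  (hlt : 2 * e < h - 1)
  (H : Subgroup G) (hHa : H ≤ stabilizer G a) (hHcard : Nat.card H + 1 = Fintype.card Ω)
  (hHfix : ∀ u ∈ H, u ≠ 1 → ∀ c : Ω, u • c = c → c = a)

include hZ hab hh he hodd hlt hHa hHcard hHfix in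
set_option maxHeartbeats 1600000 in
/-- **Feit**: in a simple Zassenhaus group with two-point stabilisers of odd order `e`,
`2 e < h - 1`, the kernel of a point stabiliser has prime power order -/
theorem kernel_prime_pow : ∃ p m : ℕ, p.Prime ∧ Nat.card H = p ^ m := by
  classical
  haveI : Fintype (stabilizer G a) := Fintype.ofFinite _
  haveI : Finite (Cfsg.IrrCharacter (stabilizer G a)) := irr_finite
  haveI : Fintype (Cfsg.IrrCharacter (stabilizer G a)) := Fintype.ofFinite _
  haveI : Finite (Cfsg.IrrCharacter G) := irr_finite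
  haveI : Fintype (Cfsg.IrrCharacter G) := Fintype.ofFinite _
  haveI : Fintype (ZasS a H) := Fintype.ofFinite _
  have hHh : Nat.card H = h := by omega
  have hH2 : 2 ≤ Nat.card H := by omega
  have he2 : 2 ≤ Nat.card ↥(stabilizer G a ⊓ stabilizer G b : Subgroup G) := by
    have hZH := Cfsg.Agent.Helper2.ZasPSL.zhyp_of hZ
    obtain ⟨g, hg1, hga, hgb⟩ := hZH.exists_fix hab
    have hg : g ∈ (stabilizer G a ⊓ stabilizer G b : Subgroup G) :=
      Subgroup.mem_inf.2 ⟨mem_stabilizer_iff.2 hga, mem_stabilizer_iff.2 hgb⟩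
    have hnt : Nontrivial ↥(stabilizer G a ⊓ stabilizer G b : Subgroup G) :=
      ⟨⟨⟨g, hg⟩, 1, fun e' => hg1 (congrArg Subtype.val e')⟩⟩
    exact Finite.one_lt_card_iff_nontrivial.2 hnt
  obtain ⟨χ₁, hχ₁⟩ := exists_chi_one hZ hab H hHa hHcard hHfix hH2 he2
  haveI hKn := zas_kernel_subgroupOf_normal hZ hab H hHa hHcard hHfix
  obtain ⟨hK1, hK2⟩ := kernel_ne_bot_top hZ hab H hHa hHcard hHfix hH2 he2
  have hC := kernel_centralizer_le hZ hab H hHa hHcard hHfix
  have hidx := zas_kernel_subgroupOf_index hZ hab H hHa hHcard hHfix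
  have hcardK : Nat.card (H.subgroupOf (stabilizer G a)) = Nat.card H :=
    Nat.card_congr (Subgroup.subgroupOfEquivOfLe hHa).toEquiv
  have hne : Nat.card (H.subgroupOf (stabilizer G a)) ≠
      (H.subgroupOf (stabilizer G a)).index + 1 := by
    rw [hcardK, hidx, he, hHh]
    omega
  have hτ := ind_isometry hZ hab H hHa hHcard hHfix
  have hτ1 : ∀ α ∈ Cfsg.zspanOn (zasRel a H) {1}ᶜ, Cfsg.indFun (stabilizer G a) α 1 = 0 :=
    fun α hα => ind_apply_one_eq_zero hZ hab H hHa hHcard hHfix hα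
  have hrel := zasRel_eq hZ hab H hHa hHcard hHfix
  rw [hrel] at hτ hτ1
  rcases Cfsg.Agent.S1535.result (H.subgroupOf (stabilizer G a)) hK1 hK2 hC hne
    (Cfsg.indFun (stabilizer G a)) hτ hτ1 with hcoh | ⟨p, hp, ⟨m, hm⟩, -, -⟩
  · rw [← hrel] at hcoh
    obtain ⟨X, ε, hXinj, hε, hR⟩ := coherent_data hZ hab H hHa hHcard hHfix hcoh
    obtain ⟨m, g, hm, hg, hgπ⟩ := exists_mult hZ hab H hHa hHcard hHfix
    by_cases hev : Even h
    · by_cases hw : ∃ w ∈ H, w * w ≠ 1
      · obtain ⟨w, hw, hww⟩ := hw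
        obtain ⟨hX1, hXv, hnon⟩ := coherent_table hZ hab h e hh he hodd hlt H hHa hHcard hHfix
          m g hm hg hgπ X ε hXinj hε hR χ₁ hχ₁
        exact (even_contra hZ hab h e hh he hodd hlt H hHa hHcard hHfix X hXinj hX1 hXv hnon
          hev hw hww).elim
      · push Not at hw
        have hp2 : IsPGroup 2 H := by
          intro x
          refine ⟨1, ?_⟩
          rw [pow_one, pow_two]
          exact Subtype.ext (hw x x.2)
        obtain ⟨n, hn⟩ := IsPGroup.iff_card.mp hp2
        exact ⟨2, n, Nat.prime_two, hn⟩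
    · have hhodd : Odd h := Nat.not_even_iff_odd.mp hev
      obtain ⟨-, hcls, -, -⟩ := coherent_consequences hZ hab h e hh he hodd hlt H hHa hHcard hHfix
        m g hm hg hgπ X ε hXinj hε hR χ₁ hχ₁
      exfalso
      haveI : Fintype (ConjClasses G) := Fintype.ofFinite _
      rw [Nat.card_eq_fintype_card, Fintype.card_subtype] at hcls
      have hodd' : Odd (Nat.card ↥(stabilizer G a ⊓ stabilizer G b : Subgroup G)) := by
        rw [he]; exact hodd
      refine Cfsg.Agent.Helper2.FeitOdd.odd_contra hZ hab hodd' h e hh he hlt hhodd H hHa hHcard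
        hHfix ?_
      convert hcls using 2
  · exact ⟨p, m, hp, by rw [← hcardK, hm]⟩

end

end Cfsg.Agent.Helper2.FeitP
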