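import Mathlib
import Cfsg.Agent.Helper2.FeitPM
import Cfsg.Agent.S1534
import Cfsg.Agent.Helper2.FeitAbA
import Cfsg.Agent.Helper6.ZasChH
import Cfsg.Agent.Helper6.ZasChS

/-!
# Feit's theorem on Zassenhaus groups: the full statement for simple groups.  If `e` is odd and
`2 e < h - 1`, the kernel of a point stabiliser is a non-abelian `2`-group whose commutator
quotient has order less than `4 e ^ 2`
-/

set_option autoImplicit false
set_option linter.style.haveILetI false
set_option linter.unusedSectionVars false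
set_option linter.unusedDecidableInType false

namespace Cfsg.Agent.Helper2.FeitP

open MulAction Cfsg.Agent.Helper6 Cfsg.Agent.Helper2.ZasTab
open scoped ComplexConjugate

/-- coherence does not depend on the name of the subgroup -/
theorem coherent_transport {G : Type*} [Group G] [Fintype G] (K : Subgroup G)
    {N N' : Subgroup G} (hN : N = N') [i : Fintype N] [i' : Fintype N']
    (h : Cfsg.IsCoherent {χ : N → ℂ | Cfsg.IsIrrCharacter N χ ∧
      ∃ k : N, (k : G) ∈ K ∧ χ k ≠ χ 1} {1}ᶜ (fun α => Cfsg.indFun N α)) :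
    Cfsg.IsCoherent {χ : N' → ℂ | Cfsg.IsIrrCharacter N' χ ∧
      ∃ k : N', (k : G) ∈ K ∧ χ k ≠ χ 1} {1}ᶜ (fun α => Cfsg.indFun N' α) := by
  subst hN
  have : i = i' := Subsingleton.elim _ _
  subst this
  exact h

variable {G Ω : Type*} [Group G] [MulAction G Ω]

section

variable [Fintype G] [Fintype Ω]
  (hZ : Cfsg.IsZassenhausGroup G Ω) {a b : Ω} (hab : a ≠ b)
  (H : Subgroup G) (hHa : H ≤ stabilizer G a) (hHcard : Nat.card H + 1 = Fintype.card Ω)
  (hHfix : ∀ u ∈ H, u ≠ 1 → ∀ c : Ω, u • c = c → c = a)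

include hZ hab hHa hHcard hHfix

/-- the normaliser of the kernel is the point stabiliser -/
theorem normalizer_kernel_eq (hH2 : 2 ≤ Nat.card H) :
    Subgroup.normalizer (H : Set G) = stabilizer G a := by
  apply le_antisymm
  · intro g hg
    rw [mem_stabilizer_iff]
    -- a non-identity element of `H`
    haveI : Nontrivial H := Finite.one_lt_card_iff_nontrivial.mp (by omega)
    obtain ⟨u, hu⟩ := exists_ne (1 : H)
    have hu1 : (u : G) ≠ 1 := fun h => hu (Subtype.ext h)
    have hmem : g * (u : G) * g⁻¹ ∈ H := by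
      have := (Subgroup.mem_normalizer_iff.mp hg (u : G)).mp u.2
      exact this
    have hne : g * (u : G) * g⁻¹ ≠ 1 := by
      intro h1
      apply hu1
      have : (u : G) = g⁻¹ * (g * (u : G) * g⁻¹) * g := by group
      rw [this, h1, mul_one, inv_mul_cancel]
    apply hHfix _ hmem hne
    have hua : (u : G) • a = a := mem_stabilizer_iff.mp (hHa u.2)
    rw [mul_smul, mul_smul, inv_smul_smul, hua]
  · intro g hg
    rw [Subgroup.mem_normalizer_iff]
    intro u
    have hga : g • a = a := mem_stabilizer_iff.mp hg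
    constructor
    · intro hu
      exact zas_kernel_conj_mem hZ hab H hHa hHcard hHfix hga hu
    · intro hu
      have hga' : g⁻¹ • a = a := by
        have := congrArg (fun z => g⁻¹ • z) hga
        simp only [inv_smul_smul] at this
        exact this.symm
      have := zas_kernel_conj_mem hZ hab H hHa hHcard hHfix hga' hu
      have h2 : g⁻¹ * (g * u * g⁻¹) * g⁻¹⁻¹ = u := by group
      rwa [h2] at this

/-- the kernel is a TI-subset -/
theorem kernel_TI (hH2 : 2 ≤ Nat.card H) : Cfsg.IsTISubset (H : Set G) := by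
  intro g hg x hx hgx
  by_contra hx1
  apply hg
  rw [normalizer_kernel_eq hZ hab H hHa hHcard hHfix hH2, mem_stabilizer_iff]
  have hne : g * x * g⁻¹ ≠ 1 := by
    intro h1
    apply hx1
    have : x = g⁻¹ * (g * x * g⁻¹) * g := by group
    rw [this, h1, mul_one, inv_mul_cancel]
  apply hHfix _ hgx hne
  have hxa : x • a = a := mem_stabilizer_iff.mp (hHa hx)
  rw [mul_smul, mul_smul, inv_smul_smul, hxa]

/-- centralisers of non-identity elements of the kernel lie in the kernel -/
theorem kernel_centralizer_le' : ∀ k ∈ H, k ≠ 1 → Subgroup.centralizer ({k} : Set G) ≤ H := by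
  intro k hk hk1 g hg
  rw [Subgroup.mem_centralizer_iff] at hg
  have hcomm : k * g = g * k := hg k (Set.mem_singleton k)
  have hka : k • a = a := mem_stabilizer_iff.mp (hHa hk)
  have hga : g • a = a := by
    apply hHfix k hk hk1
    rw [← mul_smul, hcomm, mul_smul, hka]
  by_contra hgH
  exact hk1 (zas_kernel_free hZ hab H hHa hHcard hHfix hga hgH hk hcomm.symm)

/-- the kernel is nilpotent -/
theorem kernel_nilpotent (hH2 : 2 ≤ Nat.card H)
    (he2 : 2 ≤ Nat.card ↥(stabilizer G a ⊓ stabilizer G b : Subgroup G)) :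
    Group.IsNilpotent H := by
  haveI : Fintype (stabilizer G a) := Fintype.ofFinite _
  haveI hKn := zas_kernel_subgroupOf_normal hZ hab H hHa hHcard hHfix
  obtain ⟨hK1, hK2⟩ := kernel_ne_bot_top hZ hab H hHa hHcard hHfix hH2 he2
  have hC := kernel_centralizer_le hZ hab H hHa hHcard hHfix
  haveI hnil : Group.IsNilpotent (H.subgroupOf (stabilizer G a)) :=
    frob_kernel_nilpotent (H.subgroupOf (stabilizer G a)) hK1 hK2 hC
  exact Group.nilpotent_of_surjective
    (Subgroup.subgroupOfEquivOfLe hHa).toMonoidHom (Subgroup.subgroupOfEquivOfLe hHa).surjective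

end

section

variable [Fintype G] [Fintype Ω]
  (hZ : Cfsg.IsZassenhausGroup G Ω) {a b : Ω} (hab : a ≠ b)
  [IsSimpleGroup G]
  (h e : ℕ) (hh : Fintype.card Ω = h + 1)
  (he : Nat.card ↥(stabilizer G a ⊓ stabilizer G b : Subgroup G) = e) (hodd : Odd e)
  (hlt : 2 * e < h - 1)
  (H : Subgroup G) (hHa : H ≤ stabilizer G a) (hHcard : Nat.card H + 1 = Fintype.card Ω)
  (hHfix : ∀ u ∈ H, u ≠ 1 → ∀ c : Ω, u • c = c → c = a)

include hZ hab hh he hodd hlt hHa hHcard hHfix

/-- the two-point stabiliser of a Zassenhaus group is not trivial -/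
theorem two_le_card_two_stab :
    2 ≤ Nat.card ↥(stabilizer G a ⊓ stabilizer G b : Subgroup G) := by
  have hZH := Cfsg.Agent.Helper2.ZasPSL.zhyp_of hZ
  obtain ⟨g, hg1, hga, hgb⟩ := hZH.exists_fix hab
  have hg : g ∈ (stabilizer G a ⊓ stabilizer G b : Subgroup G) :=
    Subgroup.mem_inf.2 ⟨mem_stabilizer_iff.2 hga, mem_stabilizer_iff.2 hgb⟩
  have hnt : Nontrivial ↥(stabilizer G a ⊓ stabilizer G b : Subgroup G) :=
    ⟨⟨⟨g, hg⟩, 1, fun e' => hg1 (congrArg Subtype.val e')⟩⟩
  exact Finite.one_lt_card_iff_nontrivial.2 hnt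

set_option maxHeartbeats 1600000 in
/-- the coherent case is contradictory unless the kernel has exponent two -/
theorem coherent_contra [Fintype (stabilizer G a)]
    (hcoh : Cfsg.IsCoherent (zasRel a H) {1}ᶜ (Cfsg.indFun (stabilizer G a)))
    (hw : Odd h ∨ ∃ w ∈ H, w * w ≠ 1) : False := by
  classical
  haveI : Finite (Cfsg.IrrCharacter (stabilizer G a)) := irr_finite
  haveI : Fintype (Cfsg.IrrCharacter (stabilizer G a)) := Fintype.ofFinite _
  haveI : Finite (Cfsg.IrrCharacter G) := irr_finite
  haveI : Fintype (Cfsg.IrrCharacter G) := Fintype.ofFinite _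
  haveI : Fintype (ZasS a H) := Fintype.ofFinite _
  have hHh : Nat.card H = h := by omega
  have hH2 : 2 ≤ Nat.card H := by omega
  have he2 := two_le_card_two_stab hZ hab h e hh he hodd hlt H hHa hHcard hHfix
  obtain ⟨χ₁, hχ₁⟩ := exists_chi_one hZ hab H hHa hHcard hHfix hH2 he2
  obtain ⟨X, ε, hXinj, hε, hR⟩ := coherent_data hZ hab H hHa hHcard hHfix hcoh
  obtain ⟨m, g, hm, hg, hgπ⟩ := exists_mult hZ hab H hHa hHcard hHfix
  by_cases hev : Even h
  · rcases hw with hw | ⟨w, hw, hww⟩
    · exact (Nat.not_even_iff_odd.mpr hw) hev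
    · obtain ⟨hX1, hXv, hnon⟩ := coherent_table hZ hab h e hh he hodd hlt H hHa hHcard hHfix
        m g hm hg hgπ X ε hXinj hε hR χ₁ hχ₁
      exact even_contra hZ hab h e hh he hodd hlt H hHa hHcard hHfix X hXinj hX1 hXv hnon
        hev hw hww
  · have hhodd : Odd h := Nat.not_even_iff_odd.mp hev
    obtain ⟨-, hcls, -, -⟩ := coherent_consequences hZ hab h e hh he hodd hlt H hHa hHcard hHfix
      m g hm hg hgπ X ε hXinj hε hR χ₁ hχ₁
    haveI : Fintype (ConjClasses G) := Fintype.ofFinite _
    rw [Nat.card_eq_fintype_card, Fintype.card_subtype] at hcls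
    have hodd' : Odd (Nat.card ↥(stabilizer G a ⊓ stabilizer G b : Subgroup G)) := by
      rw [he]; exact hodd
    refine Cfsg.Agent.Helper2.FeitOdd.odd_contra hZ hab hodd' h e hh he hlt hhodd H hHa hHcard
      hHfix ?_
    convert hcls using 2

set_option maxHeartbeats 1600000 in
/-- **Feit's theorem for simple Zassenhaus groups**: if `e` is odd and `2 e < h - 1`, the kernel
is a non-abelian `2`-group with small commutator quotient -/
theorem feit_simple_full :
    IsPGroup 2 H ∧ (∃ u v : H, u * v ≠ v * u) ∧ (commutator H).index ≤ 4 * e ^ 2 + 1 := by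
  classical
  haveI : Fintype (stabilizer G a) := Fintype.ofFinite _
  have hHh : Nat.card H = h := by omega
  have hH2 : 2 ≤ Nat.card H := by omega
  have he2 := two_le_card_two_stab hZ hab h e hh he hodd hlt H hHa hHcard hHfix
  -- the kernel is not abelian
  have hnonab : ∃ u v : H, u * v ≠ v * u := by
    by_contra hcon
    push Not at hcon
    have hHab : ∀ u ∈ H, ∀ v ∈ H, u * v = v * u := by
      intro u hu v hv
      exact congrArg Subtype.val (hcon ⟨u, hu⟩ ⟨v, hv⟩)
    have := Cfsg.Agent.Helper2.FeitAb.feit_simple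
      (fun G Ω _ _ _ _ hZ a b hab hS h e hh he hodd hlt H hHa hHcard hHfix hHab => by
        haveI := hS
        exact Cfsg.Agent.Helper6.zas_class_bound hZ hab h e hh he hlt H hHa hHcard hHfix hHab)
      (fun G Ω _ _ _ _ hZ a b hab hS h e hh he hodd hlt H hHa hHcard hHfix hHab hev => by
        haveI := hS
        exact Cfsg.Agent.Helper6.zas_even_contra hZ hab h e hh he hodd hlt H hHa hHcard hHfix
          hHab hev)
      hZ hab h e hh he hodd H hHa hHcard hHfix hHab
    omega
  -- so it does not have exponent two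
  have hw : ∃ w ∈ H, w * w ≠ 1 := by
    by_contra hcon
    push Not at hcon
    obtain ⟨u, v, huv⟩ := hnonab
    apply huv
    apply Subtype.ext
    rw [Subgroup.coe_mul, Subgroup.coe_mul]
    have h1 := hcon (u : G) u.2
    have h2 := hcon (v : G) v.2
    have h3 := hcon ((u : G) * (v : G)) (H.mul_mem u.2 v.2)
    have h4 : (u : G) * (v : G) = (u : G) * ((u : G) * (v : G) * ((u : G) * (v : G))) * (v : G) := by
      rw [h3, mul_one]
    have h5 : (u : G) * ((u : G) * (v : G) * ((u : G) * (v : G))) * (v : G) =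
        ((u : G) * (u : G)) * ((v : G) * (u : G)) * ((v : G) * (v : G)) := by group
    rw [h4, h5, h1, h2, one_mul, mul_one]
  -- apply the Feit-Sibley theorem
  have hH1 : H ≠ ⊥ := by
    intro hbot
    rw [hbot, Subgroup.card_bot] at hH2
    omega
  haveI hnil := kernel_nilpotent hZ hab H hHa hHcard hHfix hH2 he2
  have hTI := kernel_TI hZ hab H hHa hHcard hHfix hH2
  have hC := kernel_centralizer_le' hZ hab H hHa hHcard hHfix
  have hN := normalizer_kernel_eq hZ hab H hHa hHcard hHfix hH2
  have hidxe : (H.subgroupOf (Subgroup.normalizer (H : Set G))).index = e := by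
    rw [hN, zas_kernel_subgroupOf_index hZ hab H hHa hHcard hHfix, he]
  have hlt' : H < Subgroup.normalizer (H : Set G) := by
    refine lt_of_le_of_ne Subgroup.le_normalizer ?_
    intro hEq
    have h1 : (H.subgroupOf (Subgroup.normalizer (H : Set G))).index = 1 := by
      rw [Subgroup.index_eq_one, Subgroup.subgroupOf_eq_top]
      exact hEq.ge
    rw [hidxe] at h1
    omega
  haveI : Fintype ↥(Subgroup.normalizer (H : Set G)) := Fintype.ofFinite _
  have hcomm : (⁅H, H⁆.subgroupOf H) = commutator H := by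
    rw [← Subgroup.map_subtype_commutator H]
    exact Subgroup.comap_map_eq_self_of_injective (Subgroup.subtype_injective H) _
  rcases Cfsg.Agent.S1534.result H hH1 hnil hTI hlt' hC with
    ⟨-, hcard, -⟩ | ⟨hcard2, hidx⟩ | hcoh
  · exfalso
    rw [hidxe] at hcard
    omega
  · refine ⟨IsPGroup.of_card hcard2, hnonab, ?_⟩
    rw [hidxe, hcomm] at hidx
    omega
  · exfalso
    have hcoh' := coherent_transport H hN (i' := inferInstance) hcoh
    exact coherent_contra hZ hab h e hh he hodd hlt H hHa hHcard hHfix hcoh' (Or.inr hw)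

end

end Cfsg.Agent.Helper2.FeitP
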