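import Mathlib
import Cfsg.Agent.Helper2.FeitPN
import Cfsg.Agent.Helper2.FeitAbB

/-!
# Feit's theorem on Zassenhaus groups: reduction to simple groups
-/

set_option autoImplicit false
set_option linter.style.haveILetI false
set_option linter.unusedSectionVars false

namespace Cfsg.Agent.Helper2.FeitP

open MulAction Cfsg.Agent.Helper2 Cfsg.Agent.Helper6 Cfsg.Agent.Helper7.Zass
  Cfsg.Agent.Helper2.ZasPSL Cfsg.Agent.Helper2.FeitAb

universe u v

/-- the index of the commutator subgroup is invariant under isomorphism -/
theorem commutator_index_congr {A B : Type*} [Group A] [Group B] (φ : A ≃* B) :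
    (commutator B).index = (commutator A).index := by
  have h1 : (commutator A).map φ.toMonoidHom = commutator B := by
    rw [commutator_def, commutator_def, Subgroup.map_commutator,
      Subgroup.map_top_of_surjective _ φ.surjective]
  rw [← h1]
  exact Subgroup.index_map_equiv (commutator A) φ

set_option maxHeartbeats 1600000 in
/-- **Feit's theorem** for Zassenhaus groups with two-point stabilisers of odd order -/
theorem feit_full {G : Type u} {Ω : Type v} [Group G] [Finite G] [MulAction G Ω] [Fintype Ω]
    (hZ : Cfsg.IsZassenhausGroup G Ω) {a b : Ω} (hab : a ≠ b) (h e : ℕ)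
    (hh : Fintype.card Ω = h + 1)
    (he : Nat.card ↥(stabilizer G a ⊓ stabilizer G b : Subgroup G) = e) (hodd : Odd e)
    (H : Subgroup G) (hHa : H ≤ stabilizer G a) (hHcard : Nat.card H + 1 = Fintype.card Ω)
    (hHfix : ∀ u ∈ H, u ≠ 1 → ∀ c : Ω, u • c = c → c = a) :
    h - 1 ≤ 2 * e ∨ (IsPGroup 2 H ∧ (∃ u v : H, u * v ≠ v * u) ∧
      (commutator H).index ≤ 4 * e ^ 2 + 1) := by
  have key : ∀ n : ℕ, ∀ (G : Type u) (Ω : Type v) [Group G] [Finite G] [MulAction G Ω]
      [Fintype Ω], Nat.card G = n → Cfsg.IsZassenhausGroup G Ω → ∀ (a b : Ω), a ≠ b →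
      ∀ (h e : ℕ), Fintype.card Ω = h + 1 →
      Nat.card ↥(stabilizer G a ⊓ stabilizer G b : Subgroup G) = e → Odd e →
      ∀ H : Subgroup G, H ≤ stabilizer G a → Nat.card H + 1 = Fintype.card Ω →
      (∀ u ∈ H, u ≠ 1 → ∀ c : Ω, u • c = c → c = a) →
      h - 1 ≤ 2 * e ∨ (IsPGroup 2 H ∧ (∃ u v : H, u * v ≠ v * u) ∧
        (commutator H).index ≤ 4 * e ^ 2 + 1) := by
    intro n
    induction n using Nat.strong_induction_on with
    | _ n ih =>
      intro G Ω _ _ _ _ hn hZ a b hab h e hh he hodd H hHa hHcard hHfix
      classical
      by_cases hS : IsSimpleGroup G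
      · by_cases hlt : 2 * e < h - 1
        · right
          haveI : Fintype G := Fintype.ofFinite G
          exact feit_simple_full hZ hab h e hh he hodd hlt H hHa hHcard hHfix
        · left
          omega
      · have hZH := zhyp_of hZ
        obtain ⟨g₀, hg₀, -⟩ := hZH.t2 a b b a hab (Ne.symm hab)
        have hnt : Nontrivial G := by
          refine ⟨⟨g₀, 1, ?_⟩⟩
          intro h1
          rw [h1, one_smul] at hg₀
          exact hab hg₀
        obtain ⟨N, hNn, hN1, hNtop⟩ : ∃ N : Subgroup G, N.Normal ∧ N ≠ ⊥ ∧ N ≠ ⊤ := by
          by_contra hcon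
          push Not at hcon
          apply hS
          exact
            { toNontrivial := hnt
              eq_bot_or_eq_top_of_normal := fun N hN => by
                by_cases h1 : N = ⊥
                · exact Or.inl h1
                · exact Or.inr (hcon N hN h1) }
        haveI := hNn
        haveI : Fintype G := Fintype.ofFinite G
        haveI : Fintype ↥N := Fintype.ofFinite _
        have hZN := Cfsg.Agent.S0339.result hZ N hN1
        have hGcard := card_eq hZH.t2 hab
        have hNcard := card_eq (zhyp_of hZN).t2 hab
        obtain ⟨e', he'⟩ : ∃ e', e' = Nat.card ↥(stabilizer ↥N a ⊓ stabilizer ↥N b) := ⟨_, rfl⟩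
        rw [he, hh] at hGcard
        rw [← he', hh] at hNcard
        have hM : (h + 1) * (h + 1) - (h + 1) = (h + 1) * h := by
          apply Nat.sub_eq_of_eq_add
          ring
        rw [hM] at hGcard hNcard
        have hh1 : 1 ≤ h := by
          have : 2 ≤ Fintype.card Ω := by
            rw [← Finset.card_univ]
            exact Finset.one_lt_card.mpr ⟨a, Finset.mem_univ _, b, Finset.mem_univ _, hab⟩
          omega
        have hMpos : 0 < (h + 1) * h := by positivity
        have hidx := N.index_mul_card
        rw [Nat.card_eq_fintype_card, Nat.card_eq_fintype_card, hGcard, hNcard] at hidx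
        have hidx' : N.index * e' = e := by
          apply Nat.eq_of_mul_eq_mul_right hMpos
          rw [mul_assoc]
          exact hidx
        have hepos : 0 < e := by
          obtain ⟨k, hk⟩ := hodd
          omega
        have he'pos : 0 < e' := by
          rcases Nat.eq_zero_or_pos e' with h0 | h0
          · rw [h0, mul_zero] at hidx'
            omega
          · exact h0
        have hodd' : Odd e' := by
          rw [← hidx'] at hodd
          exact Nat.Odd.of_mul_right hodd
        have hdvd := card_two_stab_dvd' hZ hab h hh H hHa hHcard hHfix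
        rw [he] at hdvd
        -- `H ≤ N`
        have hHc : Nat.card H = h := by omega
        have hcop : Nat.Coprime (Nat.card H) N.index := by
          rw [hHc]
          have h1 : N.index ∣ h - 1 := (Dvd.intro _ hidx').trans hdvd
          have h2 : Nat.Coprime (h - 1) h := by
            have := (Nat.coprime_add_self_right (m := h - 1) (n := 1)).2 (Nat.coprime_one_right _)
            have e1 : 1 + (h - 1) = h := by omega
            rwa [e1] at this
          exact (Nat.Coprime.coprime_dvd_left h1 h2).symm
        have hHN : H ≤ N := by
          intro x hx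
          have h1 : x ^ (Nat.card H) = 1 := by
            have := pow_card_eq_one' (G := ↥H) (x := ⟨x, hx⟩)
            exact congrArg Subtype.val this
          have h2 : (QuotientGroup.mk x : G ⧸ N) ^ (Nat.card H) = 1 := by
            rw [← QuotientGroup.mk_pow, h1]
            rfl
          have h3 : (QuotientGroup.mk x : G ⧸ N) ^ N.index = 1 := by
            rw [Subgroup.index_eq_card]
            exact pow_card_eq_one'
          have h4 : orderOf (QuotientGroup.mk x : G ⧸ N) ∣ 1 := by
            rw [← Nat.Coprime.gcd_eq_one hcop]
            exact Nat.dvd_gcd (orderOf_dvd_of_pow_eq_one h2) (orderOf_dvd_of_pow_eq_one h3)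
          have h5 : (QuotientGroup.mk x : G ⧸ N) = 1 := orderOf_eq_one_iff.1 (Nat.dvd_one.1 h4)
          exact (QuotientGroup.eq_one_iff x).1 h5
        have hH'a : H.subgroupOf N ≤ stabilizer ↥N a := by
          intro x hx
          rw [mem_stabilizer_iff]
          have := hHa (Subgroup.mem_subgroupOf.1 hx)
          rw [mem_stabilizer_iff] at this
          exact this
        have hH'card : Nat.card ↥(H.subgroupOf N) + 1 = Fintype.card Ω := by
          rw [Nat.card_congr (Subgroup.subgroupOfEquivOfLe hHN).toEquiv]
          exact hHcard
        have hH'fix : ∀ x ∈ H.subgroupOf N, x ≠ 1 → ∀ c : Ω, x • c = c → c = a := by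
          intro x hx hx1 c hc
          exact hHfix (x : G) (Subgroup.mem_subgroupOf.1 hx) (fun e1 => hx1 (Subtype.ext e1)) c hc
        have hlt : Nat.card ↥N < n := by
          rw [← hn]
          have h1 := N.card_mul_index
          have h2 : N.index ≠ 1 := fun h => hNtop (Subgroup.index_eq_one.1 h)
          have h3 : N.index ≠ 0 := Subgroup.index_ne_zero_of_finite
          have h4 : 2 ≤ N.index := by omega
          have h5 : Nat.card ↥N * 2 ≤ Nat.card ↥N * N.index := Nat.mul_le_mul_left _ h4
          have h6 : 0 < Nat.card ↥N := Nat.card_pos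
          omega
        have hres := ih (Nat.card ↥N) hlt ↥N Ω rfl hZN a b hab h e' hh he'.symm hodd'
          (H.subgroupOf N) hH'a hH'card hH'fix
        have hle : e' ≤ e := by
          rw [← hidx']
          exact Nat.le_mul_of_pos_left e' (Nat.pos_of_ne_zero Subgroup.index_ne_zero_of_finite)
        rcases hres with hres | ⟨hP, ⟨u, v, huv⟩, hci⟩
        · left
          omega
        · right
          set φ := Subgroup.subgroupOfEquivOfLe hHN with hφ
          refine ⟨hP.of_equiv φ, ⟨φ u, φ v, ?_⟩, ?_⟩
          · intro hEq
            apply huv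
            apply φ.injective
            rw [map_mul, map_mul]
            exact hEq
          · rw [commutator_index_congr φ]
            have h1 : 4 * e' ^ 2 + 1 ≤ 4 * e ^ 2 + 1 := by
              have := Nat.pow_le_pow_left hle 2
              omega
            exact hci.trans h1
  exact key (Nat.card G) G Ω rfl hZ a b hab h e hh he hodd H hHa hHcard hHfix

end Cfsg.Agent.Helper2.FeitP
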