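import Mathlib

set_option autoImplicit false

namespace Cfsg.Agent.Helper2.FixCoset

open Subgroup

variable {G : Type*} [Group G]

theorem smul_mk_eq_iff (H : Subgroup G) (y a : G) :
    y • (QuotientGroup.mk a : G ⧸ H) = QuotientGroup.mk a ↔ a⁻¹ * y * a ∈ H := by
  rw [MulAction.Quotient.smul_mk, QuotientGroup.eq]
  constructor
  · intro h
    have := H.inv_mem h
    have e : ((y • a)⁻¹ * a)⁻¹ = a⁻¹ * y * a := by
      rw [smul_eq_mul]; group
    rwa [e] at this
  · intro h
    have := H.inv_mem h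
    have e : (a⁻¹ * y * a)⁻¹ = (y • a)⁻¹ * a := by
      rw [smul_eq_mul]; group
    rwa [e] at this

/-- An element of order `p` in the normalizer of a Sylow `p`-subgroup lies in it. -/
theorem mem_sylow_of_mem_normalizer [Finite G] {p : ℕ} [Fact p.Prime] (P : Sylow p G) (w : G)
    (hw : IsPGroup p (zpowers w)) (hwN : w ∈ normalizer ((P : Subgroup G) : Set G)) :
    w ∈ (P : Subgroup G) := by
  have h1 := hw.inf_normalizer_sylow P
  have h2 : w ∈ zpowers w ⊓ normalizer ((P : Subgroup G) : Set G) :=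
    ⟨mem_zpowers w, hwN⟩
  have h3 : w ∈ zpowers w ⊓ (P : Subgroup G) := h1 ▸ h2
  exact h3.2

theorem isPGroup_zpowers_of_orderOf {p : ℕ} [hp : Fact p.Prime] (w : G) (hw : orderOf w = p) :
    IsPGroup p (zpowers w) := by
  apply IsPGroup.of_card (n := 1)
  rw [Nat.card_zpowers, hw, pow_one]

end Cfsg.Agent.Helper2.FixCoset
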