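import Mathlib
import Cfsg.Prelude.Def_Local
import Cfsg.Prelude.Def_CaseTheorems
import Cfsg.Agent.Helper5.Cores
import Cfsg.Agent.Helper5.CharP
import Cfsg.Agent.Helper1.FrattiniAct
import Cfsg.Agent.Helper1.AutPlumbing
import Cfsg.Agent.Helper1.PGroup

set_option autoImplicit false

/-!
The action of a group of characteristic `p` on the Frattini quotient of `O_p` is faithful modulo
`O_p`.
-/

namespace Cfsg.Agent.Helper2.FratAct

open scoped commutatorElement

variable {G : Type*} [Group G]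

/-- In a group with `C_G(O_p(G)) ≤ O_p(G)`, an element acting trivially on the Frattini
quotient of `O_p` lies in `O_p`. -/
theorem mem_pCore_of_commutator_mem_frattini [Finite G] {p : ℕ} [hp : Fact p.Prime]
    (hchar : Cfsg.Agent.Helper5.HasCharP p G) (g : G)
    (hg : ∀ k ∈ Cfsg.pCore p G, g * k * g⁻¹ * k⁻¹ ∈
      (frattini ↥(Cfsg.pCore p G)).map (Cfsg.pCore p G).subtype) :
    g ∈ Cfsg.pCore p G := by
  classical
  set P := Cfsg.pCore p G with hP
  set Φ := (frattini ↥P).map P.subtype with hΦ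
  have hPp : IsPGroup p P := Cfsg.Agent.Helper5.isPGroup_pCore p
  have hPn : P.Normal := inferInstance
  have hΦP : Φ ≤ P := Subgroup.map_subtype_le _
  have hΦn : Φ.Normal := by
    have h1 := Cfsg.Agent.Helper1.le_normalizer_map_of_characteristic P (frattini ↥P)
    rw [Subgroup.normalizer_eq_top_iff.mpr hPn] at h1
    exact Subgroup.normalizer_eq_top_iff.mp (top_le_iff.mp h1)
  -- the subgroup of elements acting trivially on P/Φ
  let Cf : Subgroup G :=
    { carrier := {a | ∀ k ∈ P, a * k * a⁻¹ * k⁻¹ ∈ Φ}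
      one_mem' := by
        intro k _
        have : (1 : G) * k * 1⁻¹ * k⁻¹ = 1 := by group
        rw [this]; exact Φ.one_mem
      mul_mem' := by
        intro a b ha hb k hk
        have h1 : a * b * k * (a * b)⁻¹ * k⁻¹ =
            a * (b * k * b⁻¹ * k⁻¹) * a⁻¹ * (a * k * a⁻¹ * k⁻¹) := by group
        rw [h1]
        exact Φ.mul_mem (hΦn.conj_mem _ (hb k hk) a) (ha k hk)
      inv_mem' := by
        intro a ha k hk
        have hk' : a⁻¹ * k * a ∈ P := by
          have := hPn.conj_mem k hk a⁻¹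
          rwa [inv_inv] at this
        have h1 := ha _ hk'
        have h2 : a⁻¹ * k * a⁻¹⁻¹ * k⁻¹ = (a * (a⁻¹ * k * a) * a⁻¹ * (a⁻¹ * k * a)⁻¹)⁻¹ := by group
        rw [h2]
        exact Φ.inv_mem h1 }
  have hCfn : Cf.Normal := by
    constructor
    intro a ha t k hk
    have hk' : t⁻¹ * k * t ∈ P := by
      have := hPn.conj_mem k hk t⁻¹
      rwa [inv_inv] at this
    have h1 := ha _ hk'
    have h2 : t * a * t⁻¹ * k * (t * a * t⁻¹)⁻¹ * k⁻¹ =
        t * (a * (t⁻¹ * k * t) * a⁻¹ * (t⁻¹ * k * t)⁻¹) * t⁻¹ := by group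
    rw [h2]
    exact hΦn.conj_mem _ h1 t
  -- elements of Cf of order prime to p are trivial
  have hpprime : ∀ c ∈ Cf, (orderOf c).Coprime p → c = 1 := by
    intro c hc hcop
    have hA : Subgroup.zpowers c ≤ Cf := by
      rw [Subgroup.zpowers_le]; exact hc
    have hAN : Subgroup.zpowers c ≤ Subgroup.normalizer (P : Set G) := by
      rw [Subgroup.normalizer_eq_top_iff.mpr hPn]; exact le_top
    have hcopA : (Nat.card (Subgroup.zpowers c)).Coprime (Nat.card (frattini ↥P)) := by
      rw [Nat.card_zpowers]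
      have hfp : IsPGroup p (frattini ↥P) := IsPGroup.to_subgroup hPp _
      obtain ⟨j, hj⟩ := IsPGroup.iff_card.mp hfp
      rw [hj]
      exact Nat.Coprime.pow_right j hcop
    have hcent := Cfsg.Agent.Helper1.frattini_coprime_trivial (Subgroup.zpowers c) P hAN hcopA
      (fun a ha k hk => hA ha k hk)
    have hcP : c ∈ P := hchar (hcent (Subgroup.mem_zpowers c))
    obtain ⟨j, hj⟩ := IsPGroup.iff_orderOf.mp hPp ⟨c, hcP⟩
    rw [Subgroup.orderOf_mk] at hj
    rw [hj] at hcop
    have : orderOf c = 1 := by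
      rw [hj]
      by_cases hj0 : j = 0
      · rw [hj0, pow_zero]
      · exfalso
        have h1 : p ∣ p ^ j := dvd_pow_self p hj0
        have h2 := Nat.Coprime.coprime_dvd_left h1 hcop
        rw [Nat.coprime_self] at h2
        exact hp.out.one_lt.ne' h2
    exact orderOf_eq_one_iff.mp this
  have hCfp : IsPGroup p Cf := Cfsg.Agent.Helper5.isPGroup_of_pprime_elements Cf hpprime
  have hCfP : Cf ≤ P := Cfsg.Agent.Helper5.le_pCore hCfn hCfp
  exact hCfP hg

/-- the action of `G` on the Frattini quotient of `O_p(G)` -/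
noncomputable def rho (p : ℕ) (G : Type*) [Group G] :
    G →* MulAut (↥(Cfsg.pCore p G) ⧸ frattini ↥(Cfsg.pCore p G)) :=
  (Cfsg.Agent.Helper1.AutPlumbing.quotAut (frattini ↥(Cfsg.pCore p G)) inferInstance).comp
    (MulAut.conjNormal (H := Cfsg.pCore p G))

theorem rho_mk (p : ℕ) (g : G) (k : ↥(Cfsg.pCore p G)) :
    rho p G g (QuotientGroup.mk k) =
      QuotientGroup.mk (⟨g * k * g⁻¹, (inferInstance : (Cfsg.pCore p G).Normal).conj_mem _ k.2 g⟩ :
        ↥(Cfsg.pCore p G)) := rfl

theorem ker_rho [Finite G] {p : ℕ} [hp : Fact p.Prime]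
    (hchar : Cfsg.Agent.Helper5.HasCharP p G) : (rho p G).ker = Cfsg.pCore p G := by
  have hPp : IsPGroup p (Cfsg.pCore p G) := Cfsg.Agent.Helper5.isPGroup_pCore p
  apply le_antisymm
  · intro g hg
    apply mem_pCore_of_commutator_mem_frattini hchar
    intro k hk
    have h1 : rho p G g (QuotientGroup.mk ⟨k, hk⟩) = QuotientGroup.mk ⟨k, hk⟩ := by
      rw [MonoidHom.mem_ker.mp hg]; rfl
    rw [rho_mk, QuotientGroup.eq] at h1
    -- h1 : (gkg⁻¹)⁻¹ * k ∈ frattini
    have h2 := (inferInstance : (frattini ↥(Cfsg.pCore p G)).Normal).conj_mem _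
      ((frattini ↥(Cfsg.pCore p G)).inv_mem h1) ⟨k, hk⟩
    refine ⟨_, h2, ?_⟩
    simp only [Subgroup.coe_subtype, Subgroup.coe_mul, Subgroup.coe_inv]
    group
  · intro g hg
    rw [MonoidHom.mem_ker]
    ext x
    induction x using QuotientGroup.induction_on with
    | H k =>
      rw [rho_mk, MulAut.one_apply, QuotientGroup.eq]
      apply Cfsg.Agent.Helper1.IsPGroup.commutator_le_frattini hPp
      have h1 : (⟨g * k * g⁻¹, (inferInstance : (Cfsg.pCore p G).Normal).conj_mem _ k.2 g⟩ :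
          ↥(Cfsg.pCore p G))⁻¹ * k = ⁅(⟨g, hg⟩ : ↥(Cfsg.pCore p G)), k⁻¹⁆ := by
        apply Subtype.ext
        simp only [Subgroup.coe_mul, Subgroup.coe_inv, commutatorElement_def]
        group
      rw [h1, commutator_def]
      exact Subgroup.commutator_mem_commutator (Subgroup.mem_top _) (Subgroup.mem_top _)

end Cfsg.Agent.Helper2.FratAct
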