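import Mathlib
import Cfsg.Agent.Helper2.FratActA
import Cfsg.Agent.Helper2.PConstrained3

set_option autoImplicit false

/-!
Sectional rank bounds the Frattini quotient; `p`-constrained groups with trivial `p'`-core have
characteristic `p`; the quotient by `O_p` embeds in the automorphism group of the Frattini quotient.
-/

namespace Cfsg.Agent.Helper2.FratAct

open scoped commutatorElement

theorem index_frattini_le {Q : Type*} [Group Q] [Finite Q] {p k : ℕ} [hp : Fact p.Prime]
    (hQ : IsPGroup p Q) (h : Cfsg.SectionalPRankLE p k Q) : (frattini Q).index ≤ p ^ k := by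
  have h1 := h ⊤ ((frattini Q).subgroupOf ⊤)
  have hcomm : IsMulCommutative ↥(⊤ : Subgroup (↥(⊤ : Subgroup Q) ⧸ (frattini Q).subgroupOf ⊤)) := by
    refine ⟨⟨?_⟩⟩
    rintro ⟨a, -⟩ ⟨b, -⟩
    apply Subtype.ext
    show a * b = b * a
    induction a using QuotientGroup.induction_on with
    | H x =>
    induction b using QuotientGroup.induction_on with
    | H y =>
    rw [← QuotientGroup.mk_mul, ← QuotientGroup.mk_mul, QuotientGroup.eq, Subgroup.mem_subgroupOf]
    apply Cfsg.Agent.Helper1.IsPGroup.commutator_le_frattini hQ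
    have : (((x * y)⁻¹ * (y * x) : ↥(⊤ : Subgroup Q)) : Q) = ⁅(y : Q)⁻¹, (x : Q)⁻¹⁆ := by
      simp only [Subgroup.coe_mul, Subgroup.coe_inv, commutatorElement_def]
      group
    rw [this, commutator_def]
    exact Subgroup.commutator_mem_commutator (Subgroup.mem_top _) (Subgroup.mem_top _)
  have hexp : ∀ a ∈ (⊤ : Subgroup (↥(⊤ : Subgroup Q) ⧸ (frattini Q).subgroupOf ⊤)), a ^ p = 1 := by
    intro a _
    induction a using QuotientGroup.induction_on with
    | H x =>
    rw [← QuotientGroup.mk_pow, QuotientGroup.eq_one_iff, Subgroup.mem_subgroupOf]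
    rw [Subgroup.coe_pow]
    exact Cfsg.Agent.Helper1.IsPGroup.pow_mem_frattini hQ _
  have h2 := h1 ⊤ hcomm hexp
  rw [Subgroup.card_top] at h2
  have h3 : Nat.card (↥(⊤ : Subgroup Q) ⧸ (frattini Q).subgroupOf ⊤) = (frattini Q).index := by
    rw [← Subgroup.index_eq_card]
    exact Subgroup.relIndex_top_right _
  rw [h3] at h2
  exact h2

theorem hasCharP_of_isPConstrained {X : Type*} [Group X] [Finite X] {p : ℕ} [hp : Fact p.Prime]
    (hc : Cfsg.IsPConstrained p X) (hO : Cfsg.pPrimeCore p X = ⊥) :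
    Cfsg.Agent.Helper5.HasCharP p X := by
  have h1 : Cfsg.Agent.Helper5.HasCharP p (X ⧸ Cfsg.pPrimeCore p X) :=
    (Cfsg.Agent.Helper2.pLayer_eq_bot_iff_hasCharP p).mp
      ((Cfsg.Agent.Helper2.isPConstrained_iff p).mp hc)
  exact h1.of_equiv ((QuotientGroup.quotientMulEquivOfEq hO).trans QuotientGroup.quotientBot)

/-- the quotient by `O_p` embeds in the automorphism group of the Frattini quotient of `O_p` -/
theorem exists_injective {X : Type*} [Group X] [Finite X] {p : ℕ} [hp : Fact p.Prime]
    (hchar : Cfsg.Agent.Helper5.HasCharP p X) :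
    ∃ f : X ⧸ Cfsg.pCore p X →* MulAut (↥(Cfsg.pCore p X) ⧸ frattini ↥(Cfsg.pCore p X)),
      Function.Injective f := by
  have hk := ker_rho hchar
  refine ⟨(QuotientGroup.kerLift (rho p X)).comp
    (QuotientGroup.quotientMulEquivOfEq hk.symm).toMonoidHom, ?_⟩
  rw [MonoidHom.coe_comp]
  exact (QuotientGroup.kerLift_injective _).comp (MulEquiv.injective _)

end Cfsg.Agent.Helper2.FratAct
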