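import Mathlib
import Cfsg.Agent.Helper6.FrobThm

/-!
Helper lemmas (helper2): a Frobenius group `N ⋊ H` acting on an abelian group `W` of order prime to
`|N|`, with `C_W(N) = 1`, has `C_W(H) ≠ 1`.
-/

set_option autoImplicit false

namespace Cfsg.Agent.Helper2

section abstract
variable {Γ W : Type*} [Group Γ] [Fintype Γ] [DecidableEq Γ] [CommGroup W] [Finite W]
  [MulDistribMulAction Γ W]

omit [DecidableEq Γ] [Finite W] in
/-- The product over a subgroup `T` of the translates of `u` is fixed by `T`. -/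
theorem smul_prod_subgroup (T : Subgroup Γ) [Fintype ↥T] (u : W) (y : Γ) (hy : y ∈ T) :
    y • ∏ h : ↥T, (h : Γ) • u = ∏ h : ↥T, (h : Γ) • u := by
  have h1 := Finset.smul_prod_perm (G := ↥T) u ⟨y, hy⟩
  simpa [Subgroup.smul_def] using h1

omit [Finite W] in
theorem frobenius_pow_eq_one (N H : Subgroup Γ) [hNn : N.Normal]
    [DecidablePred (· ∈ N)] [DecidablePred (· ∈ H)]
    (hc : Subgroup.IsComplement' N H)
    (hTI : ∀ g x : Γ, x ≠ 1 → x ∈ H → g * x * g⁻¹ ∈ H → g ∈ H)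
    (hker : ∀ x : Γ, x ∉ N → ∃ g : Γ, ∃ h ∈ H, x = g * h * g⁻¹)
    (hN : ∀ w : W, (∀ k ∈ N, k • w = w) → w = 1)
    (hH : ∀ w : W, (∀ h ∈ H, h • w = w) → w = 1) (w : W) :
    w ^ Fintype.card ↥N = 1 := by
  classical
  have hdisj : ∀ x : Γ, x ∈ N → x ∈ H → x = 1 := by
    intro x hxN hxH
    have := hc.disjoint
    rw [Subgroup.disjoint_def] at this
    exact this hxN hxH
  -- products over subgroups of translates vanish
  have hπN : ∀ u : W, ∏ k : ↥N, (k : Γ) • u = 1 := fun u =>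
    hN _ (fun k hk => smul_prod_subgroup N u k hk)
  have hπH : ∀ u : W, ∏ h : ↥H, (h : Γ) • u = 1 := fun u =>
    hH _ (fun h hh => smul_prod_subgroup H u h hh)
  have hπΓ : ∏ x : Γ, x • w = 1 := by
    apply hN
    intro k _
    exact Finset.smul_prod_perm w k
  -- the product over `H ∖ 1`
  have hπH' : ∀ u : W, ∏ h : {h : ↥H // h ≠ 1}, ((h : ↥H) : Γ) • u = u⁻¹ := by
    intro u
    have h1 : ∏ h : {h : ↥H // h ≠ 1}, ((h : ↥H) : Γ) • u =
        ∏ h ∈ (Finset.univ : Finset ↥H).erase 1, (h : Γ) • u := by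
      rw [Finset.prod_subtype ((Finset.univ : Finset ↥H).erase 1) (p := fun h => h ≠ 1)
        (by intro x; simp) (fun h => (h : Γ) • u)]
    have h2 := Finset.mul_prod_erase (Finset.univ : Finset ↥H) (fun h : ↥H => (h : Γ) • u)
      (Finset.mem_univ 1)
    rw [hπH u] at h2
    simp only [Subgroup.coe_one, one_smul] at h2
    rw [h1]
    exact eq_inv_of_mul_eq_one_right h2
  -- the bijection `N × (H ∖ 1) → Γ ∖ N`
  have hwd : ∀ (k : ↥N) (h : {h : ↥H // h ≠ 1}), (k : Γ) * ((h : ↥H) : Γ) * (k : Γ)⁻¹ ∉ N := by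
    intro k h hmem
    have h1 : (k : Γ)⁻¹ * ((k : Γ) * ((h : ↥H) : Γ) * (k : Γ)⁻¹) * (k : Γ) ∈ N :=
      N.mul_mem (N.mul_mem (N.inv_mem k.2) hmem) k.2
    have h2 : (k : Γ)⁻¹ * ((k : Γ) * ((h : ↥H) : Γ) * (k : Γ)⁻¹) * (k : Γ) = ((h : ↥H) : Γ) := by
      group
    rw [h2] at h1
    have h3 := hdisj _ h1 (h : ↥H).2
    exact h.2 (Subtype.ext h3)
  let φ : ↥N × {h : ↥H // h ≠ 1} → {x : Γ // x ∉ N} :=
    fun p => ⟨(p.1 : Γ) * ((p.2 : ↥H) : Γ) * (p.1 : Γ)⁻¹, hwd p.1 p.2⟩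
  have hφ : Function.Bijective φ := by
    constructor
    · rintro ⟨k, h⟩ ⟨k', h'⟩ heq
      have heq' : (k : Γ) * ((h : ↥H) : Γ) * (k : Γ)⁻¹ = (k' : Γ) * ((h' : ↥H) : Γ) * (k' : Γ)⁻¹ :=
        congrArg Subtype.val heq
      have h1 : ((k' : Γ)⁻¹ * (k : Γ)) * ((h : ↥H) : Γ) * ((k' : Γ)⁻¹ * (k : Γ))⁻¹ =
          ((h' : ↥H) : Γ) := by
        have : ((k' : Γ)⁻¹ * (k : Γ)) * ((h : ↥H) : Γ) * ((k' : Γ)⁻¹ * (k : Γ))⁻¹ =
            (k' : Γ)⁻¹ * ((k : Γ) * ((h : ↥H) : Γ) * (k : Γ)⁻¹) * (k' : Γ) := by group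
        rw [this, heq']; group
      have hne : ((h : ↥H) : Γ) ≠ 1 := fun h0 => h.2 (Subtype.ext h0)
      have h2 : (k' : Γ)⁻¹ * (k : Γ) ∈ H :=
        hTI _ _ hne (h : ↥H).2 (by rw [h1]; exact (h' : ↥H).2)
      have h3 : (k' : Γ)⁻¹ * (k : Γ) ∈ N := N.mul_mem (N.inv_mem k'.2) k.2
      have h4 := hdisj _ h3 h2
      have hk : k = k' := by
        apply Subtype.ext
        have := congrArg (fun z => (k' : Γ) * z) h4
        simpa using this
      subst hk
      have hh : ((h : ↥H) : Γ) = ((h' : ↥H) : Γ) := by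
        have := congrArg (fun z => (k : Γ)⁻¹ * z * (k : Γ)) heq'
        simpa [mul_assoc] using this
      have : h = h' := Subtype.ext (Subtype.ext hh)
      rw [this]
    · rintro ⟨x, hx⟩
      obtain ⟨g, h, hh, rfl⟩ := hker x hx
      obtain ⟨⟨k, h₀⟩, hkh, -⟩ := hc.existsUnique g
      have hkh' : (k : Γ) * (h₀ : Γ) = g := hkh
      have hne : (⟨(h₀ : Γ) * h * (h₀ : Γ)⁻¹, H.mul_mem (H.mul_mem h₀.2 hh) (H.inv_mem h₀.2)⟩ : ↥H) ≠ 1 := by
        intro h1
        have h2 : (h₀ : Γ) * h * (h₀ : Γ)⁻¹ = 1 := congrArg Subtype.val h1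
        apply hx
        have : g * h * g⁻¹ = 1 := by
          rw [← hkh']
          have : (k : Γ) * (h₀ : Γ) * h * ((k : Γ) * (h₀ : Γ))⁻¹ =
              (k : Γ) * ((h₀ : Γ) * h * (h₀ : Γ)⁻¹) * (k : Γ)⁻¹ := by group
          rw [this, h2]; group
        rw [this]; exact N.one_mem
      refine ⟨(k, ⟨⟨(h₀ : Γ) * h * (h₀ : Γ)⁻¹, _⟩, hne⟩), ?_⟩
      apply Subtype.ext
      change (k : Γ) * ((h₀ : Γ) * h * (h₀ : Γ)⁻¹) * (k : Γ)⁻¹ = g * h * g⁻¹
      rw [← hkh']; group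
  -- the product over `Γ ∖ N`
  have hout : ∏ x : {x : Γ // x ∉ N}, (x : Γ) • w = (w⁻¹) ^ Fintype.card ↥N := by
    rw [← Fintype.prod_bijective φ hφ (fun p => ((p.1 : Γ) * ((p.2 : ↥H) : Γ) * (p.1 : Γ)⁻¹) • w)
      (fun x => (x : Γ) • w) (fun p => rfl), Fintype.prod_prod_type]
    have hk : ∀ k : ↥N, ∏ h : {h : ↥H // h ≠ 1}, ((k : Γ) * ((h : ↥H) : Γ) * (k : Γ)⁻¹) • w = w⁻¹ := by
      intro k
      have h1 : ∀ h : {h : ↥H // h ≠ 1}, ((k : Γ) * ((h : ↥H) : Γ) * (k : Γ)⁻¹) • w =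
          (k : Γ) • (((h : ↥H) : Γ) • ((k : Γ)⁻¹ • w)) := by
        intro h
        rw [smul_smul, smul_smul]
      simp only [h1]
      rw [← Finset.smul_prod', hπH', smul_inv', smul_smul, mul_inv_cancel, one_smul]
    simp only [hk]
    rw [Finset.prod_const, Finset.card_univ]
  have hsplit := Fintype.prod_subtype_mul_prod_subtype (fun x : Γ => x ∈ N) (fun x : Γ => x • w)
  rw [hπΓ, hout] at hsplit
  have hπN' : ∏ i : {x : Γ // x ∈ N}, (i : Γ) • w = 1 := hπN w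
  rw [hπN', one_mul, inv_pow, inv_eq_one] at hsplit
  exact hsplit

end abstract

section concrete
open scoped Pointwise
variable {G : Type*} [Group G]

/-- The conjugation action of `F ≤ N_G(V)` on `V`. -/
def conjMulDistribMulAction (V F : Subgroup G) (hFV : F ≤ Subgroup.normalizer (V : Set G)) :
    MulDistribMulAction ↥F ↥V where
  smul f v := ⟨(f : G) * v * (f : G)⁻¹, (Subgroup.mem_normalizer_iff.mp (hFV f.2) v).mp v.2⟩
  one_smul v := by
    apply Subtype.ext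
    change ((1 : ↥F) : G) * v * ((1 : ↥F) : G)⁻¹ = v
    simp
  mul_smul f g v := by
    apply Subtype.ext
    change ((f * g : ↥F) : G) * v * ((f * g : ↥F) : G)⁻¹ = (f : G) * ((g : G) * v * (g : G)⁻¹) * (f : G)⁻¹
    simp [mul_assoc]
  smul_mul f v w := by
    apply Subtype.ext
    change (f : G) * ((v * w : ↥V) : G) * (f : G)⁻¹ =
      ((f : G) * v * (f : G)⁻¹) * ((f : G) * w * (f : G)⁻¹)
    simp [mul_assoc]
  smul_one f := by
    apply Subtype.ext
    change (f : G) * ((1 : ↥V) : G) * (f : G)⁻¹ = 1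
    simp

theorem frobenius_fixed_point [Finite G] (V F : Subgroup G) (hVab : IsMulCommutative V)
    (hV1 : V ≠ ⊥) (hFV : F ≤ Subgroup.normalizer (V : Set G)) (H : Subgroup ↥F)
    (hH : Cfsg.IsFrobeniusComplement H)
    (hcop : (Nat.card V).Coprime (Nat.card (Cfsg.frobeniusKernel H)))
    (hCK : V ⊓ Subgroup.centralizer (Subtype.val '' Cfsg.frobeniusKernel H : Set G) = ⊥) :
    V ⊓ Subgroup.centralizer ((H.map F.subtype : Subgroup G) : Set G) ≠ ⊥ := by
  classical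
  intro hbot
  obtain ⟨N, hNker, hNn, hc⟩ := Cfsg.Agent.Helper6.frobenius_kernel_theorem H hH
  haveI := Fintype.ofFinite ↥F
  letI : CommGroup ↥V :=
    { (inferInstance : Group ↥V) with mul_comm := fun a b => hVab.is_comm.comm a b }
  letI := conjMulDistribMulAction V F hFV
  have hsmul : ∀ (f : ↥F) (v : ↥V), ((f • v : ↥V) : G) = (f : G) * v * (f : G)⁻¹ := fun _ _ => rfl
  have hTI : ∀ g x : ↥F, x ≠ 1 → x ∈ H → g * x * g⁻¹ ∈ H → g ∈ H := by
    intro g x hx1 hxH hgx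
    by_contra hg
    have h1 := hH.2.2 g⁻¹ (fun h => hg (by simpa using H.inv_mem h))
    have h2 : x ∈ H ⊓ MulAut.conj g⁻¹ • H := by
      refine ⟨hxH, ?_⟩
      change x ∈ MulAut.conj g⁻¹ • H
      rw [Subgroup.mem_pointwise_smul_iff_inv_smul_mem]
      simpa [MulAut.smul_def] using hgx
    rw [h1, Subgroup.mem_bot] at h2
    exact hx1 h2
  have hker : ∀ x : ↥F, x ∉ N → ∃ g : ↥F, ∃ h ∈ H, x = g * h * g⁻¹ := by
    intro x hx
    have hx' : x ∉ Cfsg.frobeniusKernel H := by rw [← hNker]; exact hx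
    unfold Cfsg.frobeniusKernel at hx'
    simp only [Set.mem_setOf_eq, not_or, not_forall, not_not] at hx'
    obtain ⟨-, g, hg⟩ := hx'
    rw [Subgroup.mem_pointwise_smul_iff_inv_smul_mem] at hg
    refine ⟨g, _, hg, ?_⟩
    simp [MulAut.smul_def, mul_assoc]
  have hNfix : ∀ w : ↥V, (∀ k ∈ N, k • w = w) → w = 1 := by
    intro w hw
    have h1 : (w : G) ∈ V ⊓ Subgroup.centralizer (Subtype.val '' Cfsg.frobeniusKernel H : Set G) := by
      refine ⟨w.2, ?_⟩
      change (w : G) ∈ Subgroup.centralizer (Subtype.val '' Cfsg.frobeniusKernel H : Set G)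
      rw [Subgroup.mem_centralizer_iff]
      rintro _ ⟨k, hk, rfl⟩
      have hkN : k ∈ N := by
        have : k ∈ (N : Set ↥F) := by rw [hNker]; exact hk
        exact this
      have h2 := congrArg Subtype.val (hw k hkN)
      rw [hsmul] at h2
      have := congrArg (· * (k : G)) h2
      simpa [mul_assoc] using this
    rw [hCK, Subgroup.mem_bot] at h1
    exact Subtype.ext h1
  have hHfix : ∀ w : ↥V, (∀ h ∈ H, h • w = w) → w = 1 := by
    intro w hw
    have h1 : (w : G) ∈ V ⊓ Subgroup.centralizer ((H.map F.subtype : Subgroup G) : Set G) := by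
      refine ⟨w.2, ?_⟩
      change (w : G) ∈ Subgroup.centralizer ((H.map F.subtype : Subgroup G) : Set G)
      rw [Subgroup.mem_centralizer_iff]
      rintro _ ⟨h, hh, rfl⟩
      have h2 := congrArg Subtype.val (hw h hh)
      rw [hsmul] at h2
      have := congrArg (· * (h : G)) h2
      simpa [mul_assoc] using this
    rw [hbot, Subgroup.mem_bot] at h1
    exact Subtype.ext h1
  have hcardN : Fintype.card ↥N = Nat.card (Cfsg.frobeniusKernel H) := by
    rw [← Nat.card_eq_fintype_card, ← hNker]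
    rfl
  apply hV1
  rw [Subgroup.eq_bot_iff_forall]
  intro v hv
  have h1 := frobenius_pow_eq_one N H hc hTI hker hNfix hHfix (⟨v, hv⟩ : ↥V)
  rw [hcardN] at h1
  have h2 : orderOf (⟨v, hv⟩ : ↥V) ∣ Nat.card (Cfsg.frobeniusKernel H) :=
    orderOf_dvd_of_pow_eq_one h1
  have h3 : orderOf (⟨v, hv⟩ : ↥V) ∣ Nat.card ↥V := orderOf_dvd_natCard _
  have h4 : orderOf (⟨v, hv⟩ : ↥V) = 1 := Nat.eq_one_of_dvd_coprimes hcop h3 h2
  have h5 : (⟨v, hv⟩ : ↥V) = 1 := orderOf_eq_one_iff.mp h4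
  exact congrArg Subtype.val h5

end concrete

end Cfsg.Agent.Helper2
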