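import Mathlib

/-!
S3795 (Gross, `p = 2`): the final group-theoretic step, part A.  A group `A` of order `q ^ 2`
with a non-degenerate alternating bimultiplicative form: basic facts.
-/

set_option autoImplicit false
set_option linter.style.haveILetI false

namespace Cfsg.Agent.Helper2.G2

variable {A : Type*} [Group A] {μ : Type*} [CommGroup μ]

/-- a bimultiplicative alternating form. -/
structure IsAltForm (f : A → A → μ) : Prop where
  left : ∀ a b c, f (a * b) c = f a c * f b c
  right : ∀ a b c, f a (b * c) = f a b * f a c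
  alt : ∀ a, f a a = 1

namespace IsAltForm

variable {f : A → A → μ} (hf : IsAltForm f)
include hf

theorem one_left (c : A) : f 1 c = 1 := by
  have h := hf.left 1 1 c
  rw [mul_one] at h
  exact mul_eq_left.1 h.symm

theorem one_right (a : A) : f a 1 = 1 := by
  have h := hf.right a 1 1
  rw [mul_one] at h
  exact mul_eq_left.1 h.symm

/-- `f a ·` as a homomorphism. -/
def rightHom (a : A) : A →* μ where
  toFun := f a
  map_one' := hf.one_right a
  map_mul' := hf.right a

/-- `f · c` as a homomorphism. -/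
def leftHom (c : A) : A →* μ where
  toFun := fun a => f a c
  map_one' := hf.one_left c
  map_mul' := fun a b => hf.left a b c

theorem rightHom_apply (a b : A) : hf.rightHom a b = f a b := rfl

theorem leftHom_apply (c a : A) : hf.leftHom c a = f a c := rfl

theorem inv_right (a b : A) : f a b⁻¹ = (f a b)⁻¹ := by
  rw [← hf.rightHom_apply, map_inv, hf.rightHom_apply]

theorem inv_left (a b : A) : f a⁻¹ b = (f a b)⁻¹ := by
  rw [← hf.leftHom_apply, map_inv, hf.leftHom_apply]

theorem pow_right (a b : A) (n : ℕ) : f a (b ^ n) = (f a b) ^ n := by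
  rw [← hf.rightHom_apply, map_pow, hf.rightHom_apply]

theorem pow_left (a b : A) (n : ℕ) : f (a ^ n) b = (f a b) ^ n := by
  rw [← hf.leftHom_apply, map_pow, hf.leftHom_apply]

theorem zpow_right (a b : A) (n : ℤ) : f a (b ^ n) = (f a b) ^ n := by
  rw [← hf.rightHom_apply, map_zpow, hf.rightHom_apply]

/-- antisymmetry. -/
theorem antisymm (a b : A) : f a b * f b a = 1 := by
  have h := hf.alt (a * b)
  rw [hf.left, hf.right, hf.right, hf.alt, hf.alt, one_mul, mul_one] at h
  exact h

theorem swap (a b : A) : f b a = (f a b)⁻¹ := by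
  rw [eq_inv_iff_mul_eq_one, mul_comm]; exact hf.antisymm a b

/-- the form vanishes on a cyclic subgroup. -/
theorem eq_one_of_mem_zpowers (a b : A) (hb : b ∈ Subgroup.zpowers a) : f a b = 1 := by
  obtain ⟨i, rfl⟩ := Subgroup.mem_zpowers_iff.1 hb
  rw [hf.zpow_right, hf.alt, one_zpow]

theorem eq_one_of_mem_zpowers' (a b c : A) (hb : b ∈ Subgroup.zpowers a)
    (hc : c ∈ Subgroup.zpowers a) : f b c = 1 := by
  obtain ⟨i, rfl⟩ := Subgroup.mem_zpowers_iff.1 hb
  obtain ⟨j, rfl⟩ := Subgroup.mem_zpowers_iff.1 hc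
  rw [hf.zpow_right, ← hf.leftHom_apply, map_zpow, hf.leftHom_apply, hf.alt, one_zpow, one_zpow]

end IsAltForm

/-- the hypotheses on the plane `A`. -/
structure IsPlane (q : ℕ) (f : A → A → μ) : Prop where
  form : IsAltForm f
  prime : q.Prime
  card : Nat.card A = q ^ 2
  nondeg : ∀ a, a ≠ 1 → ∃ b, f a b ≠ 1

namespace IsPlane

variable {q : ℕ} {f : A → A → μ} (hP : IsPlane q f)
include hP

theorem finite : Finite A := by
  apply Nat.finite_of_card_ne_zero
  rw [hP.card]
  exact pow_ne_zero 2 hP.prime.ne_zero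

theorem comm (a b : A) : a * b = b * a := by
  haveI : Fact q.Prime := ⟨hP.prime⟩
  haveI := hP.finite
  exact (IsPGroup.isMulCommutative_of_card_eq_prime_sq hP.card).is_comm.comm a b

/-- every element has order dividing `q`. -/
theorem pow_eq_one (a : A) : a ^ q = 1 := by
  haveI := hP.finite
  by_cases ha : a = 1
  · rw [ha, one_pow]
  have h1 : orderOf a ∣ q ^ 2 := by rw [← hP.card]; exact orderOf_dvd_natCard a
  obtain ⟨j, hj, hoj⟩ := (Nat.dvd_prime_pow hP.prime).1 h1
  have hj2 : j ≠ 2 := by
    intro h2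
    rw [h2] at hoj
    -- then `A` is cyclic generated by `a` and the form is trivial
    have htop : Subgroup.zpowers a = ⊤ := by
      apply Subgroup.eq_top_of_card_eq
      rw [Nat.card_zpowers, hoj, hP.card]
    obtain ⟨b, hb⟩ := hP.nondeg a ha
    apply hb
    apply hP.form.eq_one_of_mem_zpowers
    rw [htop]; exact Subgroup.mem_top b
  have hj1 : j ≤ 1 := by omega
  have h2 : orderOf a ∣ q := by
    rw [hoj]
    calc q ^ j ∣ q ^ 1 := pow_dvd_pow q hj1
      _ = q := pow_one q
  exact orderOf_dvd_iff_pow_eq_one.1 h2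

theorem orderOf_eq (a : A) (ha : a ≠ 1) : orderOf a = q := by
  have h1 : orderOf a ∣ q := orderOf_dvd_of_pow_eq_one (hP.pow_eq_one a)
  rcases (Nat.dvd_prime hP.prime).1 h1 with h | h
  · exact absurd (orderOf_eq_one_iff.1 h) ha
  · exact h

/-- the kernel of `f a ·` is the cyclic group generated by `a`. -/
theorem ker_rightHom (a : A) (ha : a ≠ 1) : (hP.form.rightHom a).ker = Subgroup.zpowers a := by
  haveI := hP.finite
  symm
  apply Subgroup.eq_of_le_of_card_ge
  · intro b hb
    rw [MonoidHom.mem_ker, hP.form.rightHom_apply]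
    exact hP.form.eq_one_of_mem_zpowers a b hb
  · rw [Nat.card_zpowers, hP.orderOf_eq a ha]
    have h1 : Nat.card (hP.form.rightHom a).ker ∣ q ^ 2 := by
      rw [← hP.card]; exact Subgroup.card_subgroup_dvd_card _
    obtain ⟨j, hj, hoj⟩ := (Nat.dvd_prime_pow hP.prime).1 h1
    have hj2 : j ≠ 2 := by
      intro h2
      rw [h2, ← hP.card] at hoj
      have htop := Subgroup.eq_top_of_card_eq _ hoj
      obtain ⟨b, hb⟩ := hP.nondeg a ha
      apply hb
      have : b ∈ (hP.form.rightHom a).ker := by rw [htop]; exact Subgroup.mem_top b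
      exact this
    rw [hoj]
    calc q ^ j ≤ q ^ 1 := Nat.pow_le_pow_right hP.prime.pos (by omega)
      _ = q := pow_one q

theorem mem_zpowers_of_form_eq_one (a b : A) (ha : a ≠ 1) (h : f a b = 1) :
    b ∈ Subgroup.zpowers a := by
  rw [← hP.ker_rightHom a ha, MonoidHom.mem_ker]; exact h

/-- a subgroup of order `q` is generated by each of its non-trivial elements. -/
theorem zpowers_eq_of_mem (L : Subgroup A) (hL : Nat.card L = q) (a : A) (ha : a ∈ L)
    (ha1 : a ≠ 1) : Subgroup.zpowers a = L := by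
  haveI := hP.finite
  apply Subgroup.eq_of_le_of_card_ge
  · rw [Subgroup.zpowers_le]; exact ha
  · rw [Nat.card_zpowers, hP.orderOf_eq a ha1, hL]

end IsPlane

end Cfsg.Agent.Helper2.G2
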