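import Mathlib
import Cfsg.Agent.Helper2.G2FinA

/-!
S3795 (Gross, `p = 2`): the final group-theoretic step, part B.  Automorphisms of the plane `A`
preserving the form: an automorphism of order prime to `q` with a non-trivial fixed point is
trivial, and one fixing three lines is trivial.
-/

set_option autoImplicit false
set_option linter.style.haveILetI false

namespace Cfsg.Agent.Helper2.G2

variable {A : Type*} [Group A] {μ : Type*} [CommGroup μ]

namespace IsPlane

variable {q : ℕ} {f : A → A → μ} (hP : IsPlane q f)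
include hP

/-- an automorphism of order prime to `q` preserving the form and fixing a non-trivial element
is trivial. -/
theorem aut_eq_one_of_fixed (z : MulAut A) (hzf : ∀ a b, f (z a) (z b) = f a b) (m : ℕ)
    (hm : z ^ m = 1) (hmq : m.Coprime q) (a : A) (ha : a ≠ 1) (hza : z a = a) : z = 1 := by
  -- `z b * b⁻¹` lies in the group generated by `a`
  have h1 : ∀ b, z b * b⁻¹ ∈ Subgroup.zpowers a := by
    intro b
    apply hP.mem_zpowers_of_form_eq_one a _ ha
    rw [hP.form.right, hP.form.inv_right]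
    have := hzf a b
    rw [hza] at this
    rw [this, mul_inv_cancel]
  have h2 : ∀ l ∈ Subgroup.zpowers a, z l = l := by
    intro l hl
    obtain ⟨i, rfl⟩ := Subgroup.mem_zpowers_iff.1 hl
    rw [map_zpow, hza]
  have h3 : ∀ (n : ℕ) (b : A), (z ^ n) b = (z b * b⁻¹) ^ n * b := by
    intro n
    induction n with
    | zero => intro b; simp
    | succ n ih =>
      intro b
      rw [pow_succ', MulAut.mul_apply, ih, map_mul, map_pow, h2 _ (h1 b), pow_succ]
      have : z b = (z b * b⁻¹) * b := by group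
      conv_lhs => rw [this]
      group
  have h4 : z ^ q = 1 := by
    ext b
    rw [h3, MulAut.one_apply]
    have := hP.pow_eq_one (z b * b⁻¹)
    rw [this, one_mul]
  have h5 : z ^ m.gcd q = 1 := pow_gcd_eq_one.2 ⟨hm, h4⟩
  rw [Nat.Coprime.gcd_eq_one hmq, pow_one] at h5
  exact h5

/-- two distinct lines meet trivially. -/
theorem inf_eq_bot (L₀ L₁ : Subgroup A) (h0 : Nat.card L₀ = q) (h1 : Nat.card L₁ = q)
    (h01 : L₀ ≠ L₁) (a : A) (ha0 : a ∈ L₀) (ha1 : a ∈ L₁) : a = 1 := by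
  by_contra hne
  apply h01
  rw [← hP.zpowers_eq_of_mem L₀ h0 a ha0 hne, ← hP.zpowers_eq_of_mem L₁ h1 a ha1 hne]

/-- two distinct lines generate the plane. -/
theorem exists_mul_of_lines (L₀ L₁ : Subgroup A) (h0 : Nat.card L₀ = q) (h1 : Nat.card L₁ = q)
    (h01 : L₀ ≠ L₁) (c : A) : ∃ a ∈ L₀, ∃ b ∈ L₁, c = a * b := by
  haveI := hP.finite
  obtain ⟨φ, hφ⟩ : ∃ φ : L₀ × L₁ → A, ∀ x, φ x = (x.1 : A) * (x.2 : A) := ⟨_, fun _ => rfl⟩
  have hinj : Function.Injective φ := by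
    rintro ⟨a, b⟩ ⟨a', b'⟩ h
    rw [hφ, hφ] at h
    simp only at h
    have h2 : (a' : A)⁻¹ * (a : A) = (b' : A) * (b : A)⁻¹ := by
      calc (a' : A)⁻¹ * (a : A) = (a' : A)⁻¹ * ((a : A) * (b : A)) * (b : A)⁻¹ := by group
        _ = (a' : A)⁻¹ * ((a' : A) * (b' : A)) * (b : A)⁻¹ := by rw [h]
        _ = (b' : A) * (b : A)⁻¹ := by group
    have h3 : (a' : A)⁻¹ * (a : A) = 1 := by
      apply hP.inf_eq_bot L₀ L₁ h0 h1 h01
      · exact L₀.mul_mem (L₀.inv_mem a'.2) a.2
      · rw [h2]; exact L₁.mul_mem b'.2 (L₁.inv_mem b.2)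
    have h4 : (b' : A) * (b : A)⁻¹ = 1 := by rw [← h2, h3]
    have h5 : (a : A) = a' := by
      have := inv_mul_eq_one.1 h3
      exact this.symm
    have h6 : (b : A) = b' := by
      have := mul_inv_eq_one.1 h4
      exact this.symm
    exact Prod.ext (Subtype.ext h5) (Subtype.ext h6)
  have hcard : Nat.card A ≤ Nat.card (L₀ × L₁) := by
    rw [Nat.card_prod, h0, h1, hP.card, sq]
  have hbij := Function.Injective.bijective_of_nat_card_le hinj hcard
  obtain ⟨⟨a, b⟩, hab⟩ := hbij.2 c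
  exact ⟨a, a.2, b, b.2, by rw [← hab, hφ]⟩

/-- an automorphism of odd order prime to `q` preserving the form and three distinct lines
is trivial. -/
theorem aut_eq_one_of_three_lines (z : MulAut A) (hzf : ∀ a b, f (z a) (z b) = f a b) (m : ℕ)
    (hm : z ^ m = 1) (hmq : m.Coprime q) (hm2 : Odd m)
    (L₀ L₁ L₂ : Subgroup A) (h0 : Nat.card L₀ = q) (h1 : Nat.card L₁ = q)
    (h2 : Nat.card L₂ = q) (h01 : L₀ ≠ L₁) (h02 : L₀ ≠ L₂) (h12 : L₁ ≠ L₂)
    (hz0 : ∀ a ∈ L₀, z a ∈ L₀) (hz1 : ∀ a ∈ L₁, z a ∈ L₁) (hz2 : ∀ a ∈ L₂, z a ∈ L₂) :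
    z = 1 := by
  haveI := hP.finite
  -- the key relation
  have key : ∀ a ∈ L₀, ∀ b ∈ L₁, a ≠ 1 → a * b ∈ L₂ → f a (z b) = f (z a) b := by
    intro a ha b hb ha1 hab
    have hc1 : a * b ≠ 1 := by
      intro h
      apply ha1
      apply hP.inf_eq_bot L₀ L₁ h0 h1 h01 a ha
      have : a = b⁻¹ := eq_inv_of_mul_eq_one_left h
      rw [this]; exact L₁.inv_mem hb
    have hL2 := hP.zpowers_eq_of_mem L₂ h2 (a * b) hab hc1
    have h3 : f (a * b) (z (a * b)) = 1 := by
      apply hP.form.eq_one_of_mem_zpowers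
      rw [hL2]; exact hz2 _ hab
    have h4 : f a (z a) = 1 := by
      apply hP.form.eq_one_of_mem_zpowers
      rw [hP.zpowers_eq_of_mem L₀ h0 a ha ha1]; exact hz0 a ha
    have h5 : f b (z b) = 1 := by
      by_cases hb1 : b = 1
      · rw [hb1, hP.form.one_left]
      · apply hP.form.eq_one_of_mem_zpowers
        rw [hP.zpowers_eq_of_mem L₁ h1 b hb hb1]; exact hz1 b hb
    rw [map_mul, hP.form.left, hP.form.right, hP.form.right, h4, h5, one_mul, mul_one] at h3
    rw [hP.form.swap (z a) b] at h3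
    exact mul_inv_eq_one.1 h3
  -- a non-trivial element of `L₂`
  obtain ⟨c, hc, hc1⟩ : ∃ c ∈ L₂, c ≠ 1 := by
    by_contra hno
    push Not at hno
    have : L₂ = ⊥ := by
      rw [eq_bot_iff]
      intro x hx
      rw [Subgroup.mem_bot]; exact hno x hx
    rw [this, Subgroup.card_bot] at h2
    exact hP.prime.one_lt.ne h2
  obtain ⟨a, ha, b, hb, hcab⟩ := hP.exists_mul_of_lines L₀ L₁ h0 h1 h01 c
  have ha1 : a ≠ 1 := by
    intro h
    rw [h, one_mul] at hcab
    apply hc1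
    apply hP.inf_eq_bot L₁ L₂ h1 h2 h12 c _ hc
    rw [hcab]; exact hb
  have hb1 : b ≠ 1 := by
    intro h
    rw [h, mul_one] at hcab
    apply hc1
    apply hP.inf_eq_bot L₀ L₂ h0 h2 h02 c _ hc
    rw [hcab]; exact ha
  have hza1 : z a ≠ 1 := by
    intro h
    apply ha1
    have : z a = z 1 := by rw [h, map_one]
    exact z.injective this
  have hab : a * b ∈ L₂ := by rw [← hcab]; exact hc
  have k2 := key (z a) (hz0 a ha) (z b) (hz1 b hb) hza1 (by
    rw [← map_mul]; exact hz2 _ hab)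
  rw [hzf (z a) b] at k2
  -- `z (z b) * b⁻¹` lies in both lines
  have h3 : f (z a) (z (z b) * b⁻¹) = 1 := by
    rw [hP.form.right, hP.form.inv_right, k2, mul_inv_cancel]
  have h4 : z (z b) * b⁻¹ ∈ L₀ := by
    have := hP.mem_zpowers_of_form_eq_one (z a) _ hza1 h3
    rw [hP.zpowers_eq_of_mem L₀ h0 (z a) (hz0 a ha) hza1] at this
    exact this
  have h5 : z (z b) * b⁻¹ ∈ L₁ := L₁.mul_mem (hz1 _ (hz1 b hb)) (L₁.inv_mem hb)
  have h6 : z (z b) * b⁻¹ = 1 := hP.inf_eq_bot L₀ L₁ h0 h1 h01 _ h4 h5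
  have h7 : (z ^ 2) b = b := by
    rw [pow_two, MulAut.mul_apply]
    exact mul_inv_eq_one.1 h6
  have h8 : z ^ 2 = 1 := by
    apply hP.aut_eq_one_of_fixed (z ^ 2) _ m _ hmq b hb1 h7
    · intro x y
      rw [pow_two, MulAut.mul_apply, MulAut.mul_apply, hzf, hzf]
    · rw [← pow_mul, mul_comm, pow_mul, hm, one_pow]
  have h9 : z ^ m.gcd 2 = 1 := pow_gcd_eq_one.2 ⟨hm, h8⟩
  have h10 : m.gcd 2 = 1 := by
    rw [Nat.odd_iff] at hm2
    have : Nat.Coprime m 2 := by
      rw [Nat.coprime_comm, Nat.Prime.coprime_iff_not_dvd Nat.prime_two]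
      omega
    exact this
  rw [h10, pow_one] at h9
  exact h9

end IsPlane

end Cfsg.Agent.Helper2.G2
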