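import Mathlib
import Cfsg.Agent.Helper2.G2FinB

/-!
S3795 (Gross, `p = 2`): the final group-theoretic step, part C.  The lines of the plane `A`,
their number, and the action of the automorphism group on them.
-/

set_option autoImplicit false
set_option linter.style.haveILetI false

namespace Cfsg.Agent.Helper2.G2

variable {A : Type*} [Group A] {μ : Type*} [CommGroup μ]

/-- the lines of the plane: subgroups of order `q`. -/
def Line (A : Type*) [Group A] (q : ℕ) : Type _ := {L : Subgroup A // Nat.card L = q}

instance lineMulAction (q : ℕ) : MulAction (MulAut A) (Line A q) where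
  smul z L := ⟨L.1.map z.toMonoidHom, by
    rw [Subgroup.card_map_of_injective (f := z.toMonoidHom) z.injective]; exact L.2⟩
  one_smul L := by
    apply Subtype.ext
    change L.1.map (1 : MulAut A).toMonoidHom = L.1
    have : (1 : MulAut A).toMonoidHom = MonoidHom.id A := rfl
    rw [this, Subgroup.map_id]
  mul_smul z w L := by
    apply Subtype.ext
    change L.1.map (z * w).toMonoidHom = (L.1.map w.toMonoidHom).map z.toMonoidHom
    rw [Subgroup.map_map]
    rfl

theorem line_smul_val (q : ℕ) (z : MulAut A) (L : Line A q) :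
    (z • L).1 = L.1.map z.toMonoidHom := rfl

theorem line_smul_eq_iff [Finite A] (q : ℕ) (z : MulAut A) (L : Line A q) :
    z • L = L ↔ ∀ a ∈ L.1, z a ∈ L.1 := by
  constructor
  · intro h a ha
    have h1 : z a ∈ (z • L).1 := by
      rw [line_smul_val]; exact ⟨a, ha, rfl⟩
    rw [h] at h1
    exact h1
  · intro h
    apply Subtype.ext
    rw [line_smul_val]
    apply Subgroup.eq_of_le_of_card_ge
    · rintro _ ⟨a, ha, rfl⟩
      exact h a ha
    · rw [Subgroup.card_map_of_injective (f := z.toMonoidHom) z.injective]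

namespace IsPlane

variable {q : ℕ} {f : A → A → μ} (hP : IsPlane q f)
include hP

/-- the plane has `q + 1` lines. -/
theorem card_line : Nat.card (Line A q) = q + 1 := by
  classical
  haveI := hP.finite
  haveI : Fintype A := Fintype.ofFinite A
  haveI : Fintype (Subgroup A) := Fintype.ofFinite _
  obtain ⟨S, hS⟩ : ∃ S : Finset (Subgroup A), S = Finset.univ.filter (fun L : Subgroup A => Nat.card L = q) :=
    ⟨_, rfl⟩
  obtain ⟨T, hT⟩ : ∃ T : Finset A, T = Finset.univ.erase 1 := ⟨_, rfl⟩
  have hTcard : T.card = q ^ 2 - 1 := by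
    rw [hT, Finset.card_erase_of_mem (Finset.mem_univ _), Finset.card_univ,
      ← Nat.card_eq_fintype_card, hP.card]
  have hmaps : ∀ a ∈ T, Subgroup.zpowers a ∈ S := by
    intro a ha
    rw [hT, Finset.mem_erase] at ha
    rw [hS, Finset.mem_filter]
    exact ⟨Finset.mem_univ _, by rw [Nat.card_zpowers, hP.orderOf_eq a ha.1]⟩
  have h1 := Finset.card_eq_sum_card_fiberwise hmaps
  have hfib : ∀ L ∈ S, (T.filter (fun a => Subgroup.zpowers a = L)).card = q - 1 := by
    intro L hL
    rw [hS, Finset.mem_filter] at hL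
    have hLq := hL.2
    haveI : Fintype L := Fintype.ofFinite L
    have h2 : T.filter (fun a => Subgroup.zpowers a = L) =
        (Finset.univ.filter (fun a => a ∈ L)).erase 1 := by
      ext a
      rw [Finset.mem_filter, hT, Finset.mem_erase, Finset.mem_erase, Finset.mem_filter]
      constructor
      · rintro ⟨⟨h3, -⟩, h4⟩
        refine ⟨h3, Finset.mem_univ _, ?_⟩
        rw [← h4]; exact Subgroup.mem_zpowers a
      · rintro ⟨h3, -, h4⟩
        exact ⟨⟨h3, Finset.mem_univ _⟩, hP.zpowers_eq_of_mem L hLq a h4 h3⟩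
    rw [h2, Finset.card_erase_of_mem]
    · congr 1
      rw [← hLq, Nat.card_eq_fintype_card, Fintype.card_subtype]
    · rw [Finset.mem_filter]; exact ⟨Finset.mem_univ _, L.one_mem⟩
  rw [Finset.sum_congr rfl hfib, Finset.sum_const, smul_eq_mul, hTcard] at h1
  have hq1 : 1 ≤ q := hP.prime.one_lt.le
  have hq2 : 2 ≤ q := hP.prime.two_le
  have h3 : q ^ 2 - 1 = (q + 1) * (q - 1) := by
    obtain ⟨r, rfl⟩ : ∃ r, q = r + 1 := ⟨q - 1, by omega⟩
    have : (r + 1) ^ 2 - 1 = (r + 1 + 1) * r := by
      have : (r + 1) ^ 2 = (r + 1 + 1) * r + 1 := by ring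
      omega
    rw [this]; simp
  rw [h3] at h1
  have h4 : S.card = q + 1 := by
    have hpos : 0 < q - 1 := by omega
    exact (Nat.eq_of_mul_eq_mul_right hpos h1).symm
  have h5 : Nat.card (Line A q) = S.card := by
    rw [hS]
    unfold Line
    rw [Nat.card_eq_fintype_card, Fintype.card_subtype]
  rw [h5, h4]

end IsPlane

end Cfsg.Agent.Helper2.G2
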