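import Mathlib
import Cfsg.Agent.Helper2.G2FinC

/-!
S3795 (Gross, `p = 2`): the final group-theoretic step, part D.  On a symplectic plane of order
`q ^ 2` with `q + 1 = 2 ^ e'`, a cyclic `2`-group of order `2 ^ e ≥ q + 1` whose involution is the
inversion normalizes no non-trivial `q'`-group of isometries (`q'` odd, `q' ≠ q`).
-/

set_option autoImplicit false
set_option linter.style.haveILetI false

namespace Cfsg.Agent.Helper2.G2

variable {A : Type*} [Group A] {μ : Type*} [CommGroup μ]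

/-- the restriction of an automorphism to an invariant subgroup. -/
noncomputable def resAut (L : Subgroup A) (g : MulAut A) (hg : L.map g.toMonoidHom = L) :
    MulAut L :=
  (g.subgroupMap L).trans (MulEquiv.subgroupCongr hg)

theorem resAut_apply (L : Subgroup A) (g : MulAut A) (hg : L.map g.toMonoidHom = L) (a : L) :
    ((resAut L g hg a : L) : A) = g (a : A) := rfl

theorem resAut_pow_apply (L : Subgroup A) (g : MulAut A) (hg : L.map g.toMonoidHom = L) (n : ℕ)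
    (a : L) : (((resAut L g hg) ^ n) a : A) = (g ^ n) (a : A) := by
  induction n generalizing a with
  | zero => simp
  | succ n ih =>
    rw [pow_succ', pow_succ', MulAut.mul_apply, MulAut.mul_apply, resAut_apply, ih]

theorem pow_apply_eq_self (g : MulAut A) (a : A) (h : g a = a) (n : ℕ) : (g ^ n) a = a := by
  induction n with
  | zero => simp
  | succ n ih => rw [pow_succ', MulAut.mul_apply, ih, h]

set_option maxHeartbeats 1000000 in
/-- **The final step.** -/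
theorem fin_contra {q q' e e' : ℕ} {f : A → A → μ} (hP : IsPlane q f) (hq' : q'.Prime)
    (hq'2 : q' ≠ 2) (hqq : q' ≠ q) (he' : q + 1 = 2 ^ e') (hee : e' ≤ e) (he : 1 ≤ e)
    (x : MulAut A) (ht : ∀ a, (x ^ (2 ^ (e - 1))) a = a⁻¹)
    (Z : Subgroup (MulAut A)) (hZ : IsPGroup q' Z)
    (hZf : ∀ z ∈ Z, ∀ a b, f (z a) (z b) = f a b)
    (hxZ : ∀ z ∈ Z, x * z * x⁻¹ ∈ Z) : Z = ⊥ := by
  classical
  by_contra hne
  obtain ⟨⟨z₁, hz₁Z⟩, hz₁1⟩ := (Subgroup.ne_bot_iff_exists_ne_one).1 hne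
  have hz₁ne : z₁ ≠ 1 := by
    intro h; apply hz₁1; exact Subtype.ext h
  haveI : Fact q'.Prime := ⟨hq'⟩
  haveI : Fact q.Prime := ⟨hP.prime⟩
  haveI := hP.finite
  haveI : Finite (Line A q) := by unfold Line; infer_instance
  have hq := hP.prime
  -- arithmetic
  have hq2 : q ≠ 2 := by
    intro h
    rw [h] at he'
    rcases Nat.lt_or_ge e' 2 with h1 | h1
    · interval_cases e' <;> omega
    · obtain ⟨r, rfl⟩ : ∃ r, e' = r + 2 := ⟨e' - 2, by omega⟩
      rw [pow_add] at he'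
      omega
  have hq3 : 3 ≤ q := by
    have := hq.two_le
    omega
  have he'2 : 2 ≤ e' := by
    by_contra h
    have : e' = 0 ∨ e' = 1 := by omega
    rcases this with h | h <;> rw [h] at he' <;> omega
  obtain ⟨o, ho, hoodd⟩ : ∃ o, q - 1 = 2 * o ∧ Odd o := by
    obtain ⟨r, rfl⟩ : ∃ r, e' = r + 2 := ⟨e' - 2, by omega⟩
    refine ⟨2 ^ (r + 1) - 1, ?_, ?_⟩
    · have h1 : 2 ^ (r + 2) = 2 * 2 ^ (r + 1) := by rw [pow_succ]; ring
      have h2 : 1 ≤ 2 ^ (r + 1) := Nat.one_le_two_pow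
      omega
    · have h2 : 2 ^ (r + 1) = 2 * 2 ^ r := by rw [pow_succ]; ring
      have h3 : 1 ≤ 2 ^ r := Nat.one_le_two_pow
      rw [Nat.odd_iff]
      omega
  -- `x` has order dividing `2 ^ e`
  have hxe : x ^ (2 ^ e) = 1 := by
    ext a
    have h1 : 2 ^ e = 2 ^ (e - 1) * 2 := by
      rw [← pow_succ]; congr 1; omega
    rw [h1, pow_mul, pow_two, MulAut.mul_apply, ht, ht, inv_inv, MulAut.one_apply]
  have hxZpow : ∀ n : ℕ, ∀ z ∈ Z, x ^ n * z * (x ^ n)⁻¹ ∈ Z := by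
    intro n
    induction n with
    | zero => intro z hz; simpa using hz
    | succ n ih =>
      intro z hz
      have : x ^ (n + 1) * z * (x ^ (n + 1))⁻¹ = x * (x ^ n * z * (x ^ n)⁻¹) * x⁻¹ := by
        rw [pow_succ', mul_inv_rev]; group
      rw [this]
      exact hxZ _ (ih z hz)
  have hxZinv : ∀ z ∈ Z, x⁻¹ * z * x ∈ Z := by
    intro z hz
    have h1 : x ^ (2 ^ e - 1) = x⁻¹ := by
      apply eq_inv_of_mul_eq_one_left
      rw [← pow_succ]
      have : 2 ^ e - 1 + 1 = 2 ^ e := Nat.sub_add_cancel Nat.one_le_two_pow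
      rw [this, hxe]
    have := hxZpow (2 ^ e - 1) z hz
    rwa [h1, inv_inv] at this
  -- orders of the elements of `Z`
  have hZord : ∀ z ∈ Z, ∃ m : ℕ, z ^ m = 1 ∧ m.Coprime q ∧ Odd m := by
    intro z hz
    obtain ⟨k, hk⟩ := hZ ⟨z, hz⟩
    refine ⟨q' ^ k, ?_, ?_, ?_⟩
    · have := congrArg Subtype.val hk
      simpa using this
    · exact Nat.Coprime.pow_left k ((Nat.coprime_primes hq' hq).2 hqq)
    · exact (hq'.odd_of_ne_two hq'2).pow
  -- a line fixed by `Z`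
  have hnd : ¬ q' ∣ Nat.card (Line A q) := by
    rw [hP.card_line, he']
    intro h
    have h1 := hq'.dvd_of_dvd_pow h
    exact hq'2 ((Nat.prime_dvd_prime_iff_eq hq' Nat.prime_two).1 h1)
  obtain ⟨L₀, hL₀⟩ := hZ.nonempty_fixed_point_of_prime_not_dvd_card (Line A q) hnd
  have hfix₀ : ∀ z ∈ Z, z • L₀ = L₀ := by
    intro z hz
    have := hL₀ ⟨z, hz⟩
    exact this
  have hfixx : ∀ L : Line A q, (∀ z ∈ Z, z • L = L) → ∀ z ∈ Z, z • (x • L) = x • L := by
    intro L hL z hz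
    have h1 : z * x = x * (x⁻¹ * z * x) := by group
    rw [smul_smul, h1, mul_smul, hL _ (hxZinv z hz)]
  have hfix₁ := hfixx L₀ hfix₀
  have hfix₂ := hfixx (x • L₀) hfix₁
  -- `x ^ 2` fixes the line
  have hy : (x ^ 2) • L₀ = L₀ := by
    rw [pow_two, mul_smul]
    by_cases h01 : x • L₀ = L₀
    · rw [h01, h01]
    by_cases h02 : x • x • L₀ = L₀
    · exact h02
    by_cases h12 : x • x • L₀ = x • L₀
    · exact absurd (smul_left_cancel x h12) h01
    exfalso
    obtain ⟨m, hm, hmq, hm2⟩ := hZord z₁ hz₁Z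
    apply hz₁ne
    apply hP.aut_eq_one_of_three_lines z₁ (hZf z₁ hz₁Z) m hm hmq hm2 L₀.1 (x • L₀).1
      (x • x • L₀).1 L₀.2 (x • L₀).2 (x • x • L₀).2
    · intro h; apply h01; exact (Subtype.ext h).symm
    · intro h; apply h02; exact (Subtype.ext h).symm
    · intro h; apply h12; exact (Subtype.ext h).symm
    · exact (line_smul_eq_iff q z₁ L₀).1 (hfix₀ z₁ hz₁Z)
    · exact (line_smul_eq_iff q z₁ _).1 (hfix₁ z₁ hz₁Z)
    · exact (line_smul_eq_iff q z₁ _).1 (hfix₂ z₁ hz₁Z)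
  have hy' : L₀.1.map (x ^ 2).toMonoidHom = L₀.1 := congrArg Subtype.val hy
  -- the automorphism group of the line
  haveI : IsCyclic L₀.1 := isCyclic_of_prime_card L₀.2
  have hcardAut : Nat.card (MulAut L₀.1) = q - 1 := by
    rw [IsCyclic.card_mulAut, L₀.2, Nat.totient_prime hq]
  obtain ⟨ybar, hybar⟩ : ∃ ybar : MulAut L₀.1, ybar = resAut L₀.1 (x ^ 2) hy' := ⟨_, rfl⟩
  have hyb1 : ybar ^ (q - 1) = 1 := by
    rw [← hcardAut]; exact pow_card_eq_one'
  have hyb2 : ybar ^ (2 ^ e) = 1 := by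
    ext a
    rw [hybar, resAut_pow_apply, ← pow_mul, mul_comm, pow_mul, hxe, one_pow]
    rfl
  have hyb3 : ybar ^ 2 = 1 := by
    have h1 : (ybar ^ 2) ^ o = 1 := by rw [← pow_mul, ← ho, hyb1]
    have h2 : (ybar ^ 2) ^ (2 ^ e) = 1 := by rw [← pow_mul, mul_comm, pow_mul, hyb2, one_pow]
    have h3 : (ybar ^ 2) ^ (o.gcd (2 ^ e)) = 1 := pow_gcd_eq_one.2 ⟨h1, h2⟩
    have h4 : o.gcd (2 ^ e) = 1 := by
      apply Nat.Coprime.pow_right
      rw [Nat.coprime_comm, Nat.Prime.coprime_iff_not_dvd Nat.prime_two]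
      rw [Nat.odd_iff] at hoodd
      omega
    rwa [h4, pow_one] at h3
  have hx4 : ∀ a ∈ L₀.1, (x ^ 4) a = a := by
    intro a ha
    have h1 : (((ybar ^ 2) ⟨a, ha⟩ : L₀.1) : A) = a := by rw [hyb3]; rfl
    rw [hybar, resAut_pow_apply, ← pow_mul] at h1
    exact h1
  -- a non-trivial element of the line
  obtain ⟨a₀, ha₀, ha₀1⟩ : ∃ a ∈ L₀.1, a ≠ 1 := by
    by_contra hno
    push Not at hno
    have : L₀.1 = ⊥ := by
      rw [eq_bot_iff]
      intro y hy
      rw [Subgroup.mem_bot]; exact hno y hy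
    have h2 := L₀.2
    rw [this, Subgroup.card_bot] at h2
    omega
  rcases Nat.lt_or_ge e 3 with he3 | he3
  · -- `q = 3`
    have hq3' : q = 3 := by
      have : e' = 2 := by omega
      rw [this] at he'
      omega
    obtain ⟨m, hm, hmq, hm2⟩ := hZord z₁ hz₁Z
    have hz' : L₀.1.map z₁.toMonoidHom = L₀.1 := congrArg Subtype.val (hfix₀ z₁ hz₁Z)
    obtain ⟨zbar, hzbar⟩ : ∃ zbar : MulAut L₀.1, zbar = resAut L₀.1 z₁ hz' := ⟨_, rfl⟩
    have hzb1 : zbar ^ 2 = 1 := by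
      have : q - 1 = 2 := by omega
      rw [← this, ← hcardAut]; exact pow_card_eq_one'
    have hzb2 : zbar ^ m = 1 := by
      ext a
      rw [hzbar, resAut_pow_apply, hm]
      rfl
    have hzb3 : zbar ^ (m.gcd 2) = 1 := pow_gcd_eq_one.2 ⟨hzb2, hzb1⟩
    have h4 : m.gcd 2 = 1 := by
      have : Nat.Coprime m 2 := by
        rw [Nat.coprime_comm, Nat.Prime.coprime_iff_not_dvd Nat.prime_two]
        rw [Nat.odd_iff] at hm2
        omega
      exact this
    rw [h4, pow_one] at hzb3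
    have h5 : z₁ a₀ = a₀ := by
      have h1 : ((zbar ⟨a₀, ha₀⟩ : L₀.1) : A) = a₀ := by rw [hzb3]; rfl
      rw [hzbar, resAut_apply] at h1
      exact h1
    exact hz₁ne (hP.aut_eq_one_of_fixed z₁ (hZf z₁ hz₁Z) m hm hmq a₀ ha₀1 h5)
  · -- `t` is a power of `x ^ 4`
    have h1 : (x ^ 4) ^ (2 ^ (e - 3)) = x ^ (2 ^ (e - 1)) := by
      rw [← pow_mul]
      congr 1
      have : (4 : ℕ) = 2 ^ 2 := by norm_num
      rw [this, ← pow_add]
      congr 1
      omega
    have h2 := pow_apply_eq_self (x ^ 4) a₀ (hx4 a₀ ha₀) (2 ^ (e - 3))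
    rw [h1, ht] at h2
    have h3 : a₀ ^ 2 = 1 := by
      rw [pow_two]
      calc a₀ * a₀ = a₀⁻¹ * a₀ := by rw [h2]
        _ = 1 := inv_mul_cancel a₀
    have h4 : a₀ ^ (2 : ℕ).gcd q = 1 := pow_gcd_eq_one.2 ⟨h3, hP.pow_eq_one a₀⟩
    have h5 : (2 : ℕ).gcd q = 1 := by
      have : Nat.Coprime 2 q := (Nat.coprime_primes Nat.prime_two hq).2 (Ne.symm hq2)
      exact this
    rw [h5, pow_one] at h4
    exact ha₀1 h4

end Cfsg.Agent.Helper2.G2
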