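import Mathlib

/-!
S3795 (Gross, `p = 2`): plumbing for the action of a normalizer on a subgroup and on a section.
-/

set_option autoImplicit false

namespace Cfsg.Agent.Helper2.G2

variable {Γ : Type*} [Group Γ]

theorem conj_mem_of_normalizer {P : Subgroup Γ} {g : Γ}
    (hg : g ∈ Subgroup.normalizer (P : Set Γ)) {v : Γ} (hv : v ∈ P) : g * v * g⁻¹ ∈ P :=
  (Subgroup.mem_normalizer_iff.1 hg v).1 hv

theorem conj_inv_mem_of_normalizer {P : Subgroup Γ} {g : Γ}
    (hg : g ∈ Subgroup.normalizer (P : Set Γ)) {v : Γ} (hv : v ∈ P) : g⁻¹ * v * g ∈ P := by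
  have := conj_mem_of_normalizer (Subgroup.inv_mem _ hg) hv
  rwa [inv_inv] at this

/-- conjugation by an element of the normalizer, as an automorphism of the subgroup. -/
def conjAct (P : Subgroup Γ) : ↥(Subgroup.normalizer (P : Set Γ)) →* MulAut ↥P where
  toFun g :=
    { toFun := fun v => ⟨(g : Γ) * v * (g : Γ)⁻¹, conj_mem_of_normalizer g.2 v.2⟩
      invFun := fun v => ⟨(g : Γ)⁻¹ * v * (g : Γ), conj_inv_mem_of_normalizer g.2 v.2⟩
      left_inv := fun v => by
        apply Subtype.ext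
        change (g : Γ)⁻¹ * ((g : Γ) * v * (g : Γ)⁻¹) * (g : Γ) = v
        group
      right_inv := fun v => by
        apply Subtype.ext
        change (g : Γ) * ((g : Γ)⁻¹ * v * (g : Γ)) * (g : Γ)⁻¹ = v
        group
      map_mul' := fun v w => by
        apply Subtype.ext
        change (g : Γ) * ((v : Γ) * (w : Γ)) * (g : Γ)⁻¹ =
          ((g : Γ) * v * (g : Γ)⁻¹) * ((g : Γ) * w * (g : Γ)⁻¹)
        group }
  map_one' := by
    apply MulEquiv.ext
    intro v
    apply Subtype.ext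
    change ((1 : Γ)) * v * (1 : Γ)⁻¹ = v
    group
  map_mul' g h := by
    apply MulEquiv.ext
    intro v
    apply Subtype.ext
    change ((g : Γ) * (h : Γ)) * v * ((g : Γ) * (h : Γ))⁻¹ =
      (g : Γ) * ((h : Γ) * v * (h : Γ)⁻¹) * (g : Γ)⁻¹
    group

@[simp] theorem conjAct_coe (P : Subgroup Γ) (g : ↥(Subgroup.normalizer (P : Set Γ))) (v : ↥P) :
    ((conjAct P g v : ↥P) : Γ) = (g : Γ) * v * (g : Γ)⁻¹ := rfl

/-- the elements normalizing both `P` and `R`. -/
def secNorm (P R : Subgroup Γ) : Subgroup Γ :=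
  Subgroup.normalizer (P : Set Γ) ⊓ Subgroup.normalizer (R : Set Γ)

theorem mem_secNorm {P R : Subgroup Γ} {g : Γ} :
    g ∈ secNorm P R ↔
      g ∈ Subgroup.normalizer (P : Set Γ) ∧ g ∈ Subgroup.normalizer (R : Set Γ) :=
  Subgroup.mem_inf

theorem mem_secNorm_of_conj [Finite Γ] {P R : Subgroup Γ} {g : Γ}
    (hP : ∀ v ∈ P, g * v * g⁻¹ ∈ P) (hR : ∀ v ∈ R, g * v * g⁻¹ ∈ R) : g ∈ secNorm P R := by
  have key : ∀ S : Subgroup Γ, (∀ v ∈ S, g * v * g⁻¹ ∈ S) →
      g ∈ Subgroup.normalizer (S : Set Γ) := by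
    intro S hS
    rw [Subgroup.mem_normalizer_iff]
    intro v
    refine ⟨hS v, fun hv => ?_⟩
    -- conjugation by g is an injective self-map of the finite set S
    let f : ↥S → ↥S := fun u => ⟨g * u * g⁻¹, hS u u.2⟩
    have hinj : Function.Injective f := by
      intro a b hab
      have h1 : g * (a : Γ) * g⁻¹ = g * (b : Γ) * g⁻¹ := congrArg Subtype.val hab
      apply Subtype.ext
      have h2 : (a : Γ) = g⁻¹ * (g * (a : Γ) * g⁻¹) * g := by group
      rw [h2, h1]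
      group
    have hsurj : Function.Surjective f := Finite.injective_iff_surjective.1 hinj
    obtain ⟨u, hu⟩ := hsurj ⟨g * v * g⁻¹, hv⟩
    have h1 : g * (u : Γ) * g⁻¹ = g * v * g⁻¹ := congrArg Subtype.val hu
    have h2 : v = g⁻¹ * (g * v * g⁻¹) * g := by group
    rw [h2, ← h1]
    have h3 : g⁻¹ * (g * (u : Γ) * g⁻¹) * g = u := by group
    rw [h3]
    exact u.2
  exact mem_secNorm.2 ⟨key P hP, key R hR⟩

/-- the action of `N(P) ∩ N(R)` on the section `P / (P ∩ R)`. -/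
noncomputable def quotAct (P R : Subgroup Γ) [hn : (R.subgroupOf P).Normal] :
    ↥(secNorm P R) →* MulAut (↥P ⧸ R.subgroupOf P) where
  toFun g := QuotientGroup.congr (R.subgroupOf P) (R.subgroupOf P)
    (conjAct P ⟨g, (mem_secNorm.1 g.2).1⟩) (by
      ext v
      rw [Subgroup.mem_map]
      constructor
      · rintro ⟨u, hu, rfl⟩
        rw [Subgroup.mem_subgroupOf] at hu ⊢
        exact conj_mem_of_normalizer (mem_secNorm.1 g.2).2 hu
      · intro h
        rw [Subgroup.mem_subgroupOf] at h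
        refine ⟨⟨(g : Γ)⁻¹ * v * (g : Γ),
          conj_inv_mem_of_normalizer (mem_secNorm.1 g.2).1 v.2⟩, ?_, ?_⟩
        · rw [Subgroup.mem_subgroupOf]
          exact conj_inv_mem_of_normalizer (mem_secNorm.1 g.2).2 h
        · apply Subtype.ext
          change (g : Γ) * ((g : Γ)⁻¹ * v * (g : Γ)) * (g : Γ)⁻¹ = v
          group)
  map_one' := by
    apply MulEquiv.ext
    intro v
    induction v using QuotientGroup.induction_on with
    | H v =>
      rw [QuotientGroup.congr_mk]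
      congr 1
      apply Subtype.ext
      change ((1 : Γ)) * v * (1 : Γ)⁻¹ = v
      group
  map_mul' g h := by
    apply MulEquiv.ext
    intro v
    induction v using QuotientGroup.induction_on with
    | H v =>
      rw [MulAut.mul_apply, QuotientGroup.congr_mk, QuotientGroup.congr_mk,
        QuotientGroup.congr_mk]
      congr 1
      apply Subtype.ext
      change ((g : Γ) * (h : Γ)) * v * ((g : Γ) * (h : Γ))⁻¹ =
        (g : Γ) * ((h : Γ) * v * (h : Γ)⁻¹) * (g : Γ)⁻¹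
      group

theorem quotAct_mk (P R : Subgroup Γ) [hn : (R.subgroupOf P).Normal] (g : ↥(secNorm P R))
    (v : ↥P) :
    quotAct P R g (QuotientGroup.mk v) =
      QuotientGroup.mk (conjAct P ⟨g, (mem_secNorm.1 g.2).1⟩ v) :=
  rfl

theorem quotAct_mk' (P R : Subgroup Γ) [hn : (R.subgroupOf P).Normal] (g : ↥(secNorm P R))
    (v : Γ) (hv : v ∈ P) :
    quotAct P R g (QuotientGroup.mk ⟨v, hv⟩) =
      QuotientGroup.mk ⟨(g : Γ) * v * (g : Γ)⁻¹,
        conj_mem_of_normalizer (mem_secNorm.1 g.2).1 hv⟩ :=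
  quotAct_mk P R g ⟨v, hv⟩

/-- two elements of `P` have the same image in the section iff they differ by an element of
`R`. -/
theorem mk_eq_mk_iff (P R : Subgroup Γ) [(R.subgroupOf P).Normal] (u v : ↥P) :
    (QuotientGroup.mk u : ↥P ⧸ R.subgroupOf P) = QuotientGroup.mk v ↔
      (u : Γ)⁻¹ * (v : Γ) ∈ R := by
  rw [QuotientGroup.eq, Subgroup.mem_subgroupOf]
  rfl

theorem mk_eq_one_iff (P R : Subgroup Γ) [(R.subgroupOf P).Normal] (u : ↥P) :
    (QuotientGroup.mk u : ↥P ⧸ R.subgroupOf P) = 1 ↔ (u : Γ) ∈ R := by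
  rw [QuotientGroup.eq_one_iff, Subgroup.mem_subgroupOf]

/-- `quotAct g` is trivial iff `g` centralizes `P` modulo `R`. -/
theorem quotAct_eq_one_iff (P R : Subgroup Γ) [hn : (R.subgroupOf P).Normal]
    (g : ↥(secNorm P R)) :
    quotAct P R g = 1 ↔ ∀ v ∈ P, (g : Γ) * v * (g : Γ)⁻¹ * v⁻¹ ∈ R := by
  constructor
  · intro h v hv
    have h1 := quotAct_mk' P R g v hv
    rw [h, MulAut.one_apply, eq_comm, mk_eq_mk_iff] at h1
    have hn' := hn.conj_mem ⟨((g : Γ) * v * (g : Γ)⁻¹)⁻¹ * v, ?_⟩ ?_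
      ⟨(g : Γ) * v * (g : Γ)⁻¹, conj_mem_of_normalizer (mem_secNorm.1 g.2).1 hv⟩
    · rw [Subgroup.mem_subgroupOf] at hn'
      have e : (g : Γ) * v * (g : Γ)⁻¹ * v⁻¹ =
          (((g : Γ) * v * (g : Γ)⁻¹) * (((g : Γ) * v * (g : Γ)⁻¹)⁻¹ * v) *
            ((g : Γ) * v * (g : Γ)⁻¹)⁻¹)⁻¹ := by group
      rw [e]
      exact R.inv_mem hn'
    · exact P.mul_mem (P.inv_mem (conj_mem_of_normalizer (mem_secNorm.1 g.2).1 hv)) hv
    · rw [Subgroup.mem_subgroupOf]
      exact h1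
  · intro h
    apply MulEquiv.ext
    intro v
    induction v using QuotientGroup.induction_on with
    | H v =>
      rw [quotAct_mk, MulAut.one_apply, eq_comm, mk_eq_mk_iff]
      have h1 := h v v.2
      have hn' := hn.conj_mem ⟨(g : Γ) * v * (g : Γ)⁻¹ * (v : Γ)⁻¹, ?_⟩ ?_ v⁻¹
      · rw [Subgroup.mem_subgroupOf] at hn'
        have e : (v : Γ)⁻¹ * ((g : Γ) * v * (g : Γ)⁻¹) =
            ((v⁻¹ : ↥P) : Γ) * ((g : Γ) * v * (g : Γ)⁻¹ * (v : Γ)⁻¹) * (((v⁻¹ : ↥P)⁻¹ : ↥P) : Γ) := by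
          simp only [Subgroup.coe_inv, inv_inv]
          group
        rw [conjAct_coe]
        change (v : Γ)⁻¹ * ((g : Γ) * v * (g : Γ)⁻¹) ∈ R
        rw [e]
        exact hn'
      · exact P.mul_mem (conj_mem_of_normalizer (mem_secNorm.1 g.2).1 v.2) (P.inv_mem v.2)
      · rw [Subgroup.mem_subgroupOf]
        exact h1

/-- normality of `R ⊓ P` in `P` from element-wise invariance. -/
theorem subgroupOf_normal_of_conj (P R : Subgroup Γ)
    (h : ∀ g ∈ P, ∀ v ∈ R, v ∈ P → g * v * g⁻¹ ∈ R) : (R.subgroupOf P).Normal := by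
  constructor
  intro v hv g
  rw [Subgroup.mem_subgroupOf] at hv ⊢
  exact h g g.2 v hv v.2

end Cfsg.Agent.Helper2.G2
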