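import Mathlib
import Cfsg.Agent.Helper3.CosetCert

set_option autoImplicit false

/-!
A presentation of `GL₂(3)` on generators `i, j, d, t` (quaternion generators, an element of order
three permuting them cyclically, and an involution inverting it), with a verified coset
enumeration.
-/

namespace Cfsg.Agent.Helper2.GL23Pres

open Cfsg.Agent.Helper3.CosetCert

/-- the multiplication table: right multiplication by the four generators -/
def actTab : List (List ℕ) :=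
  [[1, 2, 3, 4],
   [5, 6, 7, 8],
   [9, 5, 10, 11],
   [10, 12, 13, 14],
   [15, 16, 17, 0],
   [18, 19, 20, 21],
   [2, 18, 12, 22],
   [12, 23, 24, 25],
   [26, 4, 27, 1],
   [19, 1, 28, 26],
   [20, 7, 29, 30],
   [4, 22, 31, 2],
   [32, 20, 33, 34],
   [33, 24, 0, 17],
   [35, 36, 4, 3],
   [21, 26, 37, 19],
   [22, 21, 38, 18],
   [38, 39, 14, 13],
   [0, 9, 32, 16],
   [6, 0, 23, 15],
   [23, 28, 40, 41],
   [11, 8, 42, 5],
   [8, 15, 43, 6],
   [3, 32, 44, 36],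
   [44, 40, 1, 27],
   [30, 35, 8, 7],
   [16, 11, 39, 9],
   [17, 31, 25, 24],
   [7, 3, 45, 35],
   [24, 45, 2, 31],
   [46, 14, 11, 10],
   [43, 38, 30, 29],
   [28, 10, 47, 46],
   [40, 29, 6, 43],
   [14, 25, 22, 12],
   [41, 46, 26, 28],
   [25, 41, 15, 23],
   [39, 27, 36, 44],
   [42, 37, 46, 47],
   [31, 42, 35, 45],
   [45, 47, 5, 42],
   [34, 30, 21, 20],
   [27, 43, 41, 40],
   [37, 17, 34, 33],
   [47, 33, 19, 37],
   [13, 44, 9, 39],
   [36, 34, 16, 32],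
   [29, 13, 18, 38]]

/-- spanning tree words -/
def wordTab : List (List (Fin 4)) :=
  [[],
   [0],
   [1],
   [2],
   [3],
   [0, 0],
   [0, 1],
   [0, 2],
   [0, 3],
   [1, 0],
   [1, 2],
   [1, 3],
   [2, 1],
   [2, 2],
   [2, 3],
   [3, 0],
   [3, 1],
   [3, 2],
   [0, 0, 0],
   [0, 0, 1],
   [0, 0, 2],
   [0, 0, 3],
   [0, 1, 3],
   [0, 2, 1],
   [0, 2, 2],
   [0, 2, 3],
   [0, 3, 0],
   [0, 3, 2],
   [1, 0, 2],
   [1, 2, 2],
   [1, 2, 3],
   [1, 3, 2],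
   [2, 1, 0],
   [2, 1, 2],
   [2, 1, 3],
   [2, 3, 0],
   [2, 3, 1],
   [3, 0, 2],
   [3, 1, 2],
   [3, 2, 1],
   [0, 0, 2, 2],
   [0, 0, 2, 3],
   [0, 0, 3, 2],
   [0, 1, 3, 2],
   [0, 2, 1, 2],
   [1, 0, 2, 2],
   [1, 2, 3, 0],
   [2, 1, 0, 2]]

/-- the deductions -/
def cert : List (Fin 48 × List (Fin 4) × Fin 4 × List (Fin 4)) :=
  [(0, [0, 0, 0], 0, []),
   (0, [0, 0, 1], 1, []),
   (0, [2, 2], 2, []),
   (0, [3], 3, []),
   (0, [3, 2], 3, [2]),
   (0, [3, 0], 3, [1]),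
   (0, [3, 1], 3, [0]),
   (1, [2, 2], 2, []),
   (1, [3], 3, []),
   (1, [3, 2], 3, [2]),
   (1, [3], 1, [3, 0]),
   (2, [], 1, [1, 1, 1]),
   (2, [0], 0, [1, 1]),
   (2, [2, 2], 2, []),
   (2, [3], 3, []),
   (2, [3, 2], 3, [2]),
   (2, [3], 0, [3, 1]),
   (3, [3], 3, []),
   (3, [3], 2, [3, 2]),
   (4, [2], 2, [2]),
   (5, [2, 2], 2, []),
   (5, [3], 3, []),
   (5, [3, 2], 3, [2]),
   (5, [3], 0, [3, 1]),
   (5, [3], 1, [3, 0]),
   (6, [3], 3, []),
   (6, [3], 0, [3, 1]),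
   (7, [3], 3, []),
   (7, [3], 2, [3, 2]),
   (8, [1, 1], 1, [1]),
   (8, [0], 0, [1, 1]),
   (8, [2], 2, [2]),
   (8, [2], 0, [2, 2, 1, 1, 1]),
   (9, [], 1, [0, 1, 1, 1, 0]),
   (9, [2, 2], 2, []),
   (10, [3], 3, []),
   (10, [3], 2, [3, 2]),
   (11, [0, 0], 0, [0]),
   (11, [], 1, [0, 1, 1, 1, 0]),
   (11, [2], 2, [2]),
   (12, [3], 3, []),
   (12, [3], 0, [3, 1]),
   (13, [], 3, [3]),
   (15, [0, 0, 1], 1, []),
   (15, [], 1, [0, 1, 1, 1, 0]),
   (15, [2], 1, [2, 2, 1, 1, 1, 0, 0, 0]),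
   (15, [3], 3, []),
   (15, [3], 0, [3, 1]),
   (16, [], 0, [0, 0, 0]),
   (16, [3], 3, []),
   (18, [0, 0, 1], 1, []),
   (18, [], 1, [0, 1, 1, 1, 0]),
   (19, [0], 0, [0, 0]),
   (19, [3, 1], 3, [0]),
   (20, [3], 3, []),
   (20, [3], 2, [3, 2]),
   (21, [1, 0], 1, [1, 1, 0]),
   (21, [2], 2, [2]),
   (21, [2], 0, [2, 2, 1, 1, 1]),
   (22, [2], 1, [2, 2, 1, 1, 1, 0, 0, 0]),
   (24, [], 3, [3]),
   (24, [3, 0, 3], 1, []),
   (26, [3], 3, []),
   (29, [], 3, [3]),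
   (40, [], 3, [3]),
   (40, [3, 0, 3], 1, []),
   (42, [0, 0, 1], 1, []),
   (43, [1, 1, 1], 1, []),
   (43, [], 2, [0, 2, 2, 1, 1, 1]),
   (0, [2], 0, [2, 2, 1, 1, 1]),
   (0, [2, 1, 2], 2, [1, 1, 1, 0, 0, 0]),
   (1, [2], 0, [2, 2, 1, 1, 1]),
   (1, [2, 1, 2], 2, [1, 1, 1, 0, 0, 0]),
   (2, [2], 0, [2, 2, 1, 1, 1]),
   (2, [2], 1, [2, 2, 1, 1, 1, 0, 0, 0]),
   (5, [2], 0, [2, 2, 1, 1, 1]),
   (5, [2], 1, [2, 2, 1, 1, 1, 0, 0, 0]),
   (6, [], 2, [2, 2]),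
   (6, [2, 0, 2], 2, [1, 1, 1]),
   (6, [2], 1, [2, 2, 1, 1, 1, 0, 0, 0]),
   (6, [3, 2], 3, [2]),
   (7, [0, 0], 1, [1]),
   (7, [3], 0, [3, 1]),
   (8, [2], 1, [2, 2, 1, 1, 1, 0, 0, 0]),
   (9, [2], 0, [2, 2, 1, 1, 1]),
   (9, [2], 1, [2, 2, 1, 1, 1, 0, 0, 0]),
   (10, [0, 0], 0, [0]),
   (10, [1, 1], 1, [1]),
   (10, [2], 0, [2, 2, 1, 1, 1]),
   (10, [2], 1, [2, 2, 1, 1, 1, 0, 0, 0]),
   (10, [3, 0], 3, [1]),
   (10, [3], 1, [3, 0]),
   (12, [0], 0, [0, 0]),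
   (12, [2], 0, [2, 2, 1, 1, 1]),
   (12, [2], 1, [2, 2, 1, 1, 1, 0, 0, 0]),
   (12, [3], 2, [3, 2]),
   (12, [3], 1, [3, 0]),
   (16, [2], 0, [2, 2, 1, 1, 1]),
   (17, [], 0, [0, 0, 0]),
   (18, [], 2, [2, 2]),
   (18, [3, 2], 3, [2]),
   (19, [], 2, [2, 2]),
   (19, [3, 2], 3, [2]),
   (20, [2], 0, [2, 2, 1, 1, 1]),
   (20, [2], 1, [2, 2, 1, 1, 1, 0, 0, 0]),
   (20, [3], 0, [3, 1]),
   (20, [3], 1, [3, 0]),
   (23, [2], 0, [2, 2, 1, 1, 1]),
   (23, [2], 1, [2, 2, 1, 1, 1, 0, 0, 0]),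
   (24, [1, 1], 1, [1]),
   (24, [], 0, [0, 1, 1]),
   (24, [1, 0], 1, [1, 1, 0]),
   (24, [2, 1, 2, 2, 1, 1, 1, 0], 0, [0]),
   (25, [0, 0], 1, [1]),
   (26, [], 2, [1, 2, 2, 1, 1, 1, 0, 0, 0]),
   (27, [0, 0], 1, [1]),
   (27, [1], 0, [1, 1, 1, 0]),
   (27, [2, 0, 2, 2], 1, [1, 1]),
   (27, [3, 0], 3, [1]),
   (28, [2], 0, [2, 2, 1, 1, 1]),
   (30, [1, 1], 1, [1]),
   (30, [0], 0, [1, 1]),
   (30, [1, 0], 1, [1, 1, 0]),
   (31, [0], 0, [1, 1]),
   (31, [1, 0, 1, 1, 1], 0, []),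
   (31, [2, 0], 2, [2, 1, 1, 1]),
   (31, [2, 1, 2, 2, 1, 1, 1, 0], 0, [0]),
   (31, [3, 1], 3, [0]),
   (32, [], 3, [3]),
   (32, [3, 0], 3, [1]),
   (33, [0, 0, 0], 0, []),
   (33, [], 3, [3]),
   (34, [0, 0], 0, [0]),
   (34, [1], 1, [1, 1]),
   (34, [2, 1, 2], 2, [1, 1, 1, 0, 0, 0]),
   (35, [], 2, [1, 2, 2, 1, 1, 1, 0, 0, 0]),
   (35, [], 3, [0, 3, 1]),
   (36, [], 0, [0, 0, 0]),
   (36, [], 2, [2, 2]),
   (36, [2, 1, 2], 2, [1, 1, 1, 0, 0, 0]),
   (36, [3], 3, []),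
   (37, [3, 0], 3, [1]),
   (38, [], 2, [2, 2]),
   (39, [], 3, [3]),
   (41, [3, 1], 3, [0])]

/-- The table as a function. -/
def act : Fin 48 → Fin 4 → Fin 48 := fun ω s =>
  ⟨((actTab.getD ω.val []).getD s.val 0) % 48, Nat.mod_lt _ (by norm_num)⟩

/-- The spanning tree words. -/
def word : Fin 48 → List (Fin 4) := fun ω => wordTab.getD ω.val []

/-- The relators as words. -/
def R : List (List (Fin 4)) :=
  [[0, 0, 0, 0],
   [1, 1, 1, 1],
   [0, 0, 1, 1],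
   [1, 0, 1, 1, 1, 0],
   [2, 2, 2],
   [2, 0, 2, 2, 1, 1, 1],
   [2, 1, 2, 2, 1, 1, 1, 0, 0, 0],
   [3, 3],
   [3, 2, 3, 2],
   [3, 0, 3, 1],
   [3, 1, 3, 0]]

set_option maxRecDepth 100000 in
theorem cert_ok : ∀ e : Fin 48 × Fin 4, e ∈ run act R (treeEdges act word) cert := by
  decide +kernel

/-- the relator of a word -/
def relOf (l : List (Fin 4)) : FreeGroup (Fin 4) := (l.map FreeGroup.of).prod

/-- The relators of the presentation. -/
def rels : Set (FreeGroup (Fin 4)) := {x | ∃ l ∈ R, x = relOf l}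

/-- the presented group -/
abbrev P := PresentedGroup rels

/-- The generators of the presented group. -/
def gens : Fin 4 → P := fun i => PresentedGroup.of i

theorem lift_relOf {G : Type*} [Group G] (f : Fin 4 → G) (l : List (Fin 4)) :
    FreeGroup.lift f (relOf l) = prodL f l := by
  unfold relOf prodL
  rw [map_list_prod, List.map_map]
  congr 1
  apply List.map_congr_left
  intro s _
  simp

theorem hR : ∀ r ∈ R, prodL gens r = 1 := by
  intro r hr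
  have h1 : PresentedGroup.mk rels (relOf r) = 1 :=
    PresentedGroup.one_of_mem ⟨r, hr, rfl⟩
  have h2 : PresentedGroup.mk rels (relOf r) = prodL gens r := by
    unfold relOf prodL
    rw [map_list_prod, List.map_map]
    rfl
  rw [← h2, h1]

theorem hgen : Subgroup.closure (Set.range gens) = ⊤ := PresentedGroup.closure_range_of rels

theorem surj : Function.Surjective (fun ω : Fin 48 => prodL gens (word ω)) :=
  surjective_of_cert gens hgen act word 0 (by decide) R hR cert cert_ok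

/-- the group `GL₂(3)` -/
abbrev K := GL (Fin 2) (ZMod 3)

/-- images of the generators -/
def gM : Fin 4 → K :=
  ![⟨!![0, 1; 2, 0], !![0, 2; 1, 0], by decide, by decide⟩,
    ⟨!![1, 1; 1, 2], !![2, 2; 2, 1], by decide, by decide⟩,
    ⟨!![0, 1; 2, 2], !![2, 2; 1, 0], by decide, by decide⟩,
    ⟨!![1, 0; 2, 2], !![1, 0; 2, 2], by decide, by decide⟩]

set_option maxRecDepth 100000 in
theorem gM_R : ∀ r ∈ R, prodL gM r = 1 := by decide +kernel

theorem gM_rels : ∀ r ∈ rels, FreeGroup.lift gM r = 1 := by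
  rintro _ ⟨l, hl, rfl⟩
  rw [lift_relOf]
  exact gM_R l hl

/-- the homomorphism onto `GL₂(3)` -/
def phi : P →* K := PresentedGroup.toGroup gM_rels

theorem phi_of (i : Fin 4) : phi (PresentedGroup.of i) = gM i := PresentedGroup.toGroup.of gM_rels

theorem phi_prodL (l : List (Fin 4)) : phi (prodL gens l) = prodL gM l := by
  induction l with
  | nil => simp [prodL]
  | cons s l ih =>
    rw [prodL_cons, prodL_cons, map_mul, ih]
    congr 1
    exact phi_of s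

set_option maxRecDepth 100000 in
theorem gM_surj : ∀ g : K, ∃ ω : Fin 48, prodL gM (word ω) = g := by
  decide +kernel

theorem card_K : Nat.card K = 48 := by
  have : Fact (Nat.Prime 3) := ⟨by norm_num⟩
  rw [Matrix.card_GL_field (𝔽 := ZMod 3) 2]
  simp [Fin.prod_univ_two, ZMod.card]

theorem phi_bijective : Function.Bijective phi := by
  have hfin : Finite P := Finite.of_surjective _ surj
  have hcard : Nat.card P ≤ 48 := by
    have := Nat.card_le_card_of_surjective _ surj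
    simpa using this
  have hsurj : Function.Surjective phi := by
    intro g
    obtain ⟨ω, hω⟩ := gM_surj g
    exact ⟨prodL gens (word ω), by rw [phi_prodL, hω]⟩
  exact Function.Surjective.bijective_of_nat_card_le hsurj (by rw [card_K]; exact hcard)

/-- the isomorphism -/
noncomputable def equiv : P ≃* K := MulEquiv.ofBijective phi phi_bijective

theorem equiv_of (i : Fin 4) : equiv (PresentedGroup.of i) = gM i := phi_of i

/-- Elements of any group satisfying the relators are the images of the standard generators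
under a homomorphism from `GL₂(3)`. -/
theorem exists_hom {G : Type*} [Group G] (f : Fin 4 → G) (hf : ∀ r ∈ R, prodL f r = 1) :
    ∃ φ : K →* G, ∀ s : Fin 4, φ (gM s) = f s := by
  have hrel : ∀ r ∈ rels, FreeGroup.lift f r = 1 := by
    rintro _ ⟨l, hl, rfl⟩
    rw [lift_relOf]
    exact hf l hl
  let ψ : P →* G := PresentedGroup.toGroup hrel
  have hψ : ∀ i : Fin 4, ψ (PresentedGroup.of i) = f i := fun i =>
    PresentedGroup.toGroup.of hrel
  refine ⟨ψ.comp equiv.symm.toMonoidHom, fun s => ?_⟩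
  have : equiv.symm (gM s) = PresentedGroup.of s := by
    rw [MulEquiv.symm_apply_eq, equiv_of]
  simp only [MonoidHom.comp_apply, MulEquiv.coe_toMonoidHom, this, hψ]

/-- the commutator of two elements -/
def cm (a b : K) : K := a * b * a⁻¹ * b⁻¹

set_option maxRecDepth 100000 in
theorem exists_comm : ∀ g : K, g ≠ 1 →
    g = gM 0 * gM 0 ∨ (∃ x ∈ [gM 0, gM 1], cm g x = gM 0 * gM 0) ∨
    (∃ x ∈ [gM 0, gM 1], ∃ y ∈ [gM 0, gM 1], cm (cm g x) y = gM 0 * gM 0) := by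
  decide +kernel

/-- every non-trivial normal subgroup of `GL₂(3)` contains `-1` -/
theorem mem_of_normal_ne_bot (N : Subgroup K) [hN : N.Normal] (h : N ≠ ⊥) :
    gM 0 * gM 0 ∈ N := by
  obtain ⟨g, hg1⟩ := (Subgroup.ne_bot_iff_exists_ne_one).1 h
  have hc : ∀ n ∈ N, ∀ x : K, cm n x ∈ N := by
    intro n hn x
    have h1 : x * n⁻¹ * x⁻¹ ∈ N := hN.conj_mem _ (N.inv_mem hn) x
    have h2 := N.mul_mem hn h1
    have h3 : n * (x * n⁻¹ * x⁻¹) = cm n x := by unfold cm; group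
    rwa [h3] at h2
  rcases exists_comm g.1 (fun h => hg1 (Subtype.ext h)) with h1 | ⟨x, -, h1⟩ | ⟨x, -, y, -, h1⟩
  · rw [← h1]; exact g.2
  · rw [← h1]; exact hc _ g.2 _
  · rw [← h1]; exact hc _ (hc _ g.2 _) _

/-- a homomorphism from `GL₂(3)` not killing `-1` is injective -/
theorem injective_of_ne_one {G : Type*} [Group G] (φ : K →* G)
    (h : φ (gM 0 * gM 0) ≠ 1) : Function.Injective φ := by
  rw [← MonoidHom.ker_eq_bot_iff]
  by_contra hne
  exact h (MonoidHom.mem_ker.1 (mem_of_normal_ne_bot φ.ker hne))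

/-- A group of order `48` with elements satisfying the relators, the square of the first one
being non-trivial, is isomorphic to `GL₂(3)`. -/
theorem equiv_of_rels {G : Type*} [Group G] (hG : Nat.card G = 48) (f : Fin 4 → G)
    (hf : ∀ r ∈ R, prodL f r = 1) (hne : f 0 * f 0 ≠ 1) : Nonempty (G ≃* K) := by
  obtain ⟨φ, hφ⟩ := exists_hom f hf
  have hinj : Function.Injective φ := by
    apply injective_of_ne_one
    rw [map_mul, hφ]
    exact hne
  have hfin : Finite G := Nat.finite_of_card_ne_zero (by rw [hG]; norm_num)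
  have hbij : Function.Bijective φ :=
    (Nat.bijective_iff_injective_and_card φ).mpr ⟨hinj, by rw [card_K, hG]⟩
  exact ⟨(MulEquiv.ofBijective φ hbij).symm⟩

end Cfsg.Agent.Helper2.GL23Pres
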