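import Mathlib
import Cfsg.Prelude.Def_CaseTheorems
import Cfsg.Agent.Helper2.SylowConj

/-!
# Recognising wreathed and quasi-dihedral Sylow 2-subgroups from elements of the ambient group
-/

set_option autoImplicit false
set_option linter.style.haveILetI false

namespace Cfsg.Agent.Helper2.GL2Syl

variable {G : Type*} [Group G]

theorem orderOf_conj' (h x : G) : orderOf (h * x * h⁻¹) = orderOf x := by
  have : h * x * h⁻¹ = MulAut.conj h x := by simp [MulAut.conj_apply]
  rw [this, MulEquiv.orderOf_eq]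

theorem conj_pow' (h x : G) (k : ℕ) : (h * x * h⁻¹) ^ k = h * x ^ k * h⁻¹ := by
  have : ∀ y, h * y * h⁻¹ = MulAut.conj h y := fun y => by simp [MulAut.conj_apply]
  rw [this, this, map_pow]

theorem conj_zpow' (h x : G) (k : ℤ) : (h * x * h⁻¹) ^ k = h * x ^ k * h⁻¹ := by
  have : ∀ y, h * y * h⁻¹ = MulAut.conj h y := fun y => by simp [MulAut.conj_apply]
  rw [this, this, map_zpow]

/-- The cyclic subgroup generated by an element of 2-power order is a 2-group. -/
theorem isPGroup_zpowers {x : G} {n : ℕ} (hx : orderOf x = 2 ^ n) :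
    IsPGroup 2 (Subgroup.zpowers x) := by
  apply IsPGroup.of_card (n := n)
  rw [Nat.card_zpowers, hx]

/-- If `y` is an involution conjugating `x` to a power of `x`, then `y` normalises `⟨x⟩`. -/
theorem zpowers_le_normalizer {x y : G} (hy : y * y = 1) {m : ℕ} (hyx : y * x * y⁻¹ = x ^ m) :
    Subgroup.zpowers y ≤ Subgroup.normalizer (Subgroup.zpowers x : Set G) := by
  rw [Subgroup.zpowers_le]
  have hfwd : ∀ h, h ∈ Subgroup.zpowers x → y * h * y⁻¹ ∈ Subgroup.zpowers x := by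
    intro h hh
    obtain ⟨k, rfl⟩ := Subgroup.mem_zpowers_iff.mp hh
    rw [← conj_zpow', hyx]
    exact Subgroup.zpow_mem _ (Subgroup.pow_mem _ (Subgroup.mem_zpowers x) m) k
  rw [Subgroup.mem_normalizer_iff]
  intro h
  refine ⟨hfwd h, fun hh => ?_⟩
  have := hfwd _ hh
  have hyinv : y⁻¹ = y := inv_eq_of_mul_eq_one_left hy
  have e : y * (y * h * y⁻¹) * y⁻¹ = h := by
    rw [hyinv]
    calc y * (y * h * y) * y = (y * y) * h * (y * y) := by group
      _ = h := by rw [hy]; simp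
  rwa [e] at this

/-- The group generated by `x` of 2-power order and an involution `y` normalising `⟨x⟩` is a
2-group. -/
theorem isPGroup_sup_zpowers {x y : G} {n : ℕ} (hx : orderOf x = 2 ^ n) (hy : orderOf y = 2)
    {m : ℕ} (hyx : y * x * y⁻¹ = x ^ m) :
    IsPGroup 2 ↥(Subgroup.zpowers y ⊔ Subgroup.zpowers x : Subgroup G) := by
  have hy2 : y * y = 1 := by
    have := pow_orderOf_eq_one y
    rwa [hy, pow_two] at this
  exact IsPGroup.to_sup_of_normal_right' (isPGroup_zpowers (n := 1) (by rw [hy, pow_one]))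
    (isPGroup_zpowers hx) (zpowers_le_normalizer hy2 hyx)

/-- Quasi-dihedral Sylow 2-subgroups from elements of the ambient group. -/
theorem isQuasiDihedral_sylow [Finite G] (P : Sylow 2 G) (n : ℕ) (hn : 3 ≤ n)
    (hcard : Nat.card P = 2 ^ (n + 1)) (x y : G) (hx : orderOf x = 2 ^ n) (hy : orderOf y = 2)
    (hyx : y * x * y⁻¹ = x ^ (2 ^ (n - 1) - 1)) :
    Cfsg.IsQuasiDihedral (P : Subgroup G) := by
  haveI : Fact (Nat.Prime 2) := ⟨Nat.prime_two⟩
  obtain ⟨h, hh⟩ := exists_conj_le_sylow P _ (isPGroup_sup_zpowers hx hy hyx)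
  have hxP : h * x * h⁻¹ ∈ (P : Subgroup G) :=
    hh x (Subgroup.mem_sup_right (Subgroup.mem_zpowers x))
  have hyP : h * y * h⁻¹ ∈ (P : Subgroup G) :=
    hh y (Subgroup.mem_sup_left (Subgroup.mem_zpowers y))
  refine ⟨n, hn, hcard, ⟨h * x * h⁻¹, hxP⟩, ⟨h * y * h⁻¹, hyP⟩, ?_, ?_, ?_⟩
  · rw [Subgroup.orderOf_mk, orderOf_conj', hx]
  · rw [Subgroup.orderOf_mk, orderOf_conj', hy]
  · apply Subtype.ext
    simp only [Subgroup.coe_mul, Subgroup.coe_inv, Subgroup.coe_pow]
    rw [conj_pow', ← hyx]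
    group

/-- Wreathed Sylow 2-subgroups from elements of the ambient group. -/
theorem isWreathed_sylow [Finite G] (P : Sylow 2 G) (n : ℕ) (hn : 2 ≤ n)
    (hcard : Nat.card P = 2 ^ (2 * n + 1)) (x y z : G) (hx : orderOf x = 2 ^ n)
    (hxy : x * y = y * x) (hdisj : Subgroup.zpowers x ⊓ Subgroup.zpowers y = ⊥)
    (hz : orderOf z = 2) (hzx : z * x * z⁻¹ = y) (W : Subgroup G) (hW : IsPGroup 2 W)
    (hxW : x ∈ W) (hyW : y ∈ W) (hzW : z ∈ W) :
    Cfsg.IsWreathed (P : Subgroup G) := by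
  haveI : Fact (Nat.Prime 2) := ⟨Nat.prime_two⟩
  obtain ⟨h, hh⟩ := exists_conj_le_sylow P W hW
  refine ⟨n, hn, hcard, ⟨h * x * h⁻¹, hh x hxW⟩, ⟨h * y * h⁻¹, hh y hyW⟩,
    ⟨h * z * h⁻¹, hh z hzW⟩, ?_, ?_, ?_, ?_, ?_⟩
  · rw [Subgroup.orderOf_mk, orderOf_conj', hx]
  · apply Subtype.ext
    simp only [Subgroup.coe_mul]
    calc h * x * h⁻¹ * (h * y * h⁻¹) = h * (x * y) * h⁻¹ := by group
      _ = h * (y * x) * h⁻¹ := by rw [hxy]
      _ = h * y * h⁻¹ * (h * x * h⁻¹) := by group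
  · rw [eq_bot_iff]
    rintro ⟨g, hgP⟩ ⟨hg1, hg2⟩
    rw [Subgroup.mem_bot]
    apply Subtype.ext
    obtain ⟨k, hk⟩ := Subgroup.mem_zpowers_iff.mp hg1
    obtain ⟨l, hl⟩ := Subgroup.mem_zpowers_iff.mp hg2
    have hk' : h * x ^ k * h⁻¹ = g := by
      have := congrArg Subtype.val hk
      simpa [conj_zpow'] using this
    have hl' : h * y ^ l * h⁻¹ = g := by
      have := congrArg Subtype.val hl
      simpa [conj_zpow'] using this
    have hkl : x ^ k = y ^ l := by
      have := hk'.trans hl'.symm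
      exact mul_left_cancel (mul_right_cancel this)
    have hmem : x ^ k ∈ Subgroup.zpowers x ⊓ Subgroup.zpowers y :=
      ⟨Subgroup.zpow_mem _ (Subgroup.mem_zpowers x) k,
        hkl ▸ Subgroup.zpow_mem _ (Subgroup.mem_zpowers y) l⟩
    rw [hdisj, Subgroup.mem_bot] at hmem
    show g = 1
    rw [← hk', hmem]
    group
  · rw [Subgroup.orderOf_mk, orderOf_conj', hz]
  · apply Subtype.ext
    simp only [Subgroup.coe_mul, Subgroup.coe_inv]
    rw [← hzx]
    group

end Cfsg.Agent.Helper2.GL2Syl
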