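import Mathlib
import Cfsg.Agent.Helper2.GL2SylA

/-!
# Order of a Sylow 2-subgroup of `GL(2, q)`, `q` odd, and the wreathed case `q ≡ 1 (mod 4)`
-/

set_option autoImplicit false
set_option linter.style.haveILetI false

namespace Cfsg.Agent.Helper2.GL2Syl

open Matrix

variable {F : Type*} [Field F] [Fintype F]

theorem card_GL2 : Nat.card (GL (Fin 2) F) =
    (Fintype.card F - 1) * (Fintype.card F - 1) * (Fintype.card F + 1) * Fintype.card F := by
  rw [Matrix.card_GL_field, Fin.prod_univ_two]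
  have h1 : 1 ≤ Fintype.card F := Fintype.card_pos
  obtain ⟨r, hr⟩ : ∃ r, Fintype.card F = r + 1 := ⟨Fintype.card F - 1, by omega⟩
  rw [hr]
  simp only [Fin.val_zero, Fin.val_one, pow_zero, pow_one, Nat.add_sub_cancel]
  have e1 : (r + 1) ^ 2 - 1 = r * (r + 2) := by
    have : (r + 1) ^ 2 = r * (r + 2) + 1 := by ring
    omega
  have e2 : (r + 1) ^ 2 - (r + 1) = r * (r + 1) := by
    have : (r + 1) ^ 2 = r * (r + 1) + (r + 1) := by ring
    omega
  rw [e1, e2]
  ring

theorem factorization_two_eq_one {m : ℕ} (h2 : 2 ∣ m) (h4 : ¬ 4 ∣ m) : m.factorization 2 = 1 := by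
  have hm : m ≠ 0 := by
    rintro rfl
    exact h4 (dvd_zero 4)
  have h1 : 1 ≤ m.factorization 2 :=
    (Nat.prime_two.pow_dvd_iff_le_factorization hm).mp (by simpa using h2)
  have h3 : ¬ 2 ≤ m.factorization 2 := by
    intro h
    exact h4 (by simpa using (Nat.prime_two.pow_dvd_iff_le_factorization hm).mpr h)
  omega

theorem two_le_factorization_two {m : ℕ} (hm : m ≠ 0) (h4 : 4 ∣ m) : 2 ≤ m.factorization 2 :=
  (Nat.prime_two.pow_dvd_iff_le_factorization hm).mp (by simpa using h4)

/-- The order of a Sylow 2-subgroup of `GL(2, q)` for odd `q`. -/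
theorem card_sylow_GL2 (hF : Odd (Fintype.card F)) (P : Sylow 2 (GL (Fin 2) F)) :
    Nat.card P = 2 ^ (2 * (Fintype.card F - 1).factorization 2 +
      (Fintype.card F + 1).factorization 2) := by
  haveI : Fact (Nat.Prime 2) := ⟨Nat.prime_two⟩
  rw [Sylow.card_eq_multiplicity, card_GL2]
  have hq3 : 3 ≤ Fintype.card F := by
    have h2 : 2 ≤ Fintype.card F := by
      have := Fintype.one_lt_card (α := F)
      omega
    obtain ⟨j, hj⟩ := hF
    omega
  have h1 : Fintype.card F - 1 ≠ 0 := by omega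
  have h2 : Fintype.card F + 1 ≠ 0 := by omega
  have h3 : Fintype.card F ≠ 0 := by omega
  have hq : (Fintype.card F).factorization 2 = 0 := by
    apply Nat.factorization_eq_zero_of_not_dvd
    obtain ⟨j, hj⟩ := hF
    omega
  rw [Nat.factorization_mul (by positivity) h3, Nat.factorization_mul (mul_ne_zero h1 h1) h2,
    Nat.factorization_mul h1 h1]
  simp only [Finsupp.add_apply, hq]
  congr 1
  ring

/-- Elements of every order dividing `q - 1` in the multiplicative group. -/
theorem exists_unit_orderOf {d : ℕ} (hd : d ∣ Fintype.card F - 1) :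
    ∃ a : Fˣ, orderOf a = d := by
  obtain ⟨g, hg⟩ := IsCyclic.exists_ofOrder_eq_natCard (α := Fˣ)
  have hcard : Nat.card Fˣ = Fintype.card F - 1 := by
    rw [Nat.card_units, Nat.card_eq_fintype_card]
  rw [hcard] at hg
  have hq2 : 0 < Fintype.card F - 1 := by
    have := Fintype.one_lt_card (α := F)
    omega
  obtain ⟨e, he⟩ := hd
  have hd0 : d ≠ 0 := by
    rintro rfl
    rw [zero_mul] at he
    omega
  have he0 : e ≠ 0 := by
    rintro rfl
    rw [mul_zero] at he
    omega
  refine ⟨g ^ e, ?_⟩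
  rw [orderOf_pow_of_dvd he0 (by rw [hg, he]; exact dvd_mul_left e d), hg, he,
    Nat.mul_div_cancel _ (Nat.pos_of_ne_zero he0)]

end Cfsg.Agent.Helper2.GL2Syl
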