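import Mathlib
import Cfsg.Agent.Helper2.GL2SylB

/-!
# The wreathed case: Sylow 2-subgroups of `GL(2, q)` for `q ≡ 1 (mod 4)`
-/

set_option autoImplicit false
set_option linter.style.haveILetI false

namespace Cfsg.Agent.Helper2.GL2Syl

open Matrix

section general

variable {G : Type*} [Group G]

theorem mem_normalizer_of_involution {z : G} (hz : z * z = 1) (H : Subgroup G)
    (h : ∀ a ∈ H, z * a * z⁻¹ ∈ H) : z ∈ Subgroup.normalizer (H : Set G) := by
  rw [Subgroup.mem_normalizer_iff]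
  intro a
  refine ⟨h a, fun ha => ?_⟩
  have := h _ ha
  have hzinv : z⁻¹ = z := inv_eq_of_mul_eq_one_left hz
  have e : z * (z * a * z⁻¹) * z⁻¹ = a := by
    rw [hzinv]
    calc z * (z * a * z) * z = (z * z) * a * (z * z) := by group
      _ = a := by rw [hz]; simp
  rwa [e] at this

/-- The group generated by `x`, `z x z⁻¹` and `z` is a 2-group when `x` has 2-power order,
`z` is an involution, and `x` commutes with `z x z⁻¹`. -/
theorem isPGroup_wreath {x y z : G} {n : ℕ} (hx : orderOf x = 2 ^ n) (hxy : Commute x y)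
    (hz : orderOf z = 2) (hzx : z * x * z⁻¹ = y) :
    IsPGroup 2 ↥(Subgroup.zpowers z ⊔ (Subgroup.zpowers x ⊔ Subgroup.zpowers y) : Subgroup G) := by
  have hz2 : z * z = 1 := by
    have := pow_orderOf_eq_one z
    rwa [hz, pow_two] at this
  have hzinv : z⁻¹ = z := inv_eq_of_mul_eq_one_left hz2
  have hy : orderOf y = 2 ^ n := by rw [← hzx, orderOf_conj', hx]
  have hzy : z * y * z⁻¹ = x := by
    rw [← hzx, hzinv]
    calc z * (z * x * z) * z = (z * z) * x * (z * z) := by group
      _ = x := by rw [hz2]; simp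
  have hA : IsPGroup 2 ↥(Subgroup.zpowers x ⊔ Subgroup.zpowers y : Subgroup G) := by
    apply IsPGroup.to_sup_of_normal_right' (isPGroup_zpowers hx) (isPGroup_zpowers hy)
    refine le_trans ?_ (Subgroup.centralizer_le_normalizer _)
    rw [Subgroup.zpowers_le, Subgroup.mem_centralizer_iff]
    intro h hh
    obtain ⟨k, rfl⟩ := Subgroup.mem_zpowers_iff.mp hh
    exact ((hxy.zpow_right k).eq).symm
  apply IsPGroup.to_sup_of_normal_right' (isPGroup_zpowers (n := 1) (by rw [hz, pow_one])) hA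
  rw [Subgroup.zpowers_le]
  apply mem_normalizer_of_involution hz2
  intro a ha
  have hmap : (Subgroup.zpowers x ⊔ Subgroup.zpowers y).map (MulAut.conj z).toMonoidHom =
      Subgroup.zpowers x ⊔ Subgroup.zpowers y := by
    rw [Subgroup.map_sup, MonoidHom.map_zpowers, MonoidHom.map_zpowers]
    have e1 : (MulAut.conj z).toMonoidHom x = y := by simpa [MulAut.conj_apply] using hzx
    have e2 : (MulAut.conj z).toMonoidHom y = x := by simpa [MulAut.conj_apply] using hzy
    rw [e1, e2, sup_comm]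
  have := Subgroup.mem_map_of_mem (MulAut.conj z).toMonoidHom ha
  rw [hmap] at this
  simpa [MulAut.conj_apply] using this

end general

variable {F : Type*} [Field F]

/-- `diag(a, 1)`. -/
def dX : Fˣ →* GL (Fin 2) F where
  toFun a := ⟨!![(a : F), 0; 0, 1], !![((a⁻¹ : Fˣ) : F), 0; 0, 1],
    by rw [Matrix.mul_fin_two, Matrix.one_fin_two]; simp,
    by rw [Matrix.mul_fin_two, Matrix.one_fin_two]; simp⟩
  map_one' := by
    apply Units.ext
    simp [Matrix.one_fin_two]
  map_mul' a b := by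
    apply Units.ext
    simp [Matrix.mul_fin_two]

/-- `diag(1, a)`. -/
def dY : Fˣ →* GL (Fin 2) F where
  toFun a := ⟨!![1, 0; 0, (a : F)], !![1, 0; 0, ((a⁻¹ : Fˣ) : F)],
    by rw [Matrix.mul_fin_two, Matrix.one_fin_two]; simp,
    by rw [Matrix.mul_fin_two, Matrix.one_fin_two]; simp⟩
  map_one' := by
    apply Units.ext
    simp [Matrix.one_fin_two]
  map_mul' a b := by
    apply Units.ext
    simp [Matrix.mul_fin_two]

/-- The permutation matrix of the transposition. -/
def sw : GL (Fin 2) F :=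
  ⟨!![0, 1; 1, 0], !![0, 1; 1, 0],
    by rw [Matrix.mul_fin_two, Matrix.one_fin_two]; simp,
    by rw [Matrix.mul_fin_two, Matrix.one_fin_two]; simp⟩

theorem dX_val (a : Fˣ) : ((dX a : GL (Fin 2) F) : Matrix (Fin 2) (Fin 2) F) = !![(a : F), 0; 0, 1] :=
  rfl

theorem dY_val (a : Fˣ) : ((dY a : GL (Fin 2) F) : Matrix (Fin 2) (Fin 2) F) = !![1, 0; 0, (a : F)] :=
  rfl

theorem sw_val : ((sw : GL (Fin 2) F) : Matrix (Fin 2) (Fin 2) F) = !![0, 1; 1, 0] := rfl

theorem sw_inv_val : (((sw : GL (Fin 2) F)⁻¹ : GL (Fin 2) F) : Matrix (Fin 2) (Fin 2) F) =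
    !![0, 1; 1, 0] := rfl

theorem dX_injective : Function.Injective (dX : Fˣ →* GL (Fin 2) F) := by
  intro a b hab
  have := congrArg (fun g : GL (Fin 2) F => (g : Matrix (Fin 2) (Fin 2) F) 0 0) hab
  simp only [dX_val] at this
  apply Units.ext
  simpa using this

theorem sw_conj_dX (a : Fˣ) : (sw : GL (Fin 2) F) * dX a * sw⁻¹ = dY a := by
  apply Units.ext
  rw [Units.val_mul, Units.val_mul, sw_val, sw_inv_val, dX_val, dY_val]
  simp [Matrix.mul_fin_two]

theorem dX_comm_dY (a b : Fˣ) : (dX a : GL (Fin 2) F) * dY b = dY b * dX a := by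
  apply Units.ext
  rw [Units.val_mul, Units.val_mul, dX_val, dY_val]
  simp [Matrix.mul_fin_two]

theorem orderOf_sw : orderOf (sw : GL (Fin 2) F) = 2 := by
  apply orderOf_eq_prime
  · apply Units.ext
    rw [pow_two, Units.val_mul, sw_val]
    simp [Matrix.mul_fin_two, Matrix.one_fin_two]
  · intro h
    have := congrArg (fun g : GL (Fin 2) F => (g : Matrix (Fin 2) (Fin 2) F) 0 0) h
    simp [sw_val] at this

theorem zpowers_dX_inf_dY (a : Fˣ) :
    Subgroup.zpowers (dX a : GL (Fin 2) F) ⊓ Subgroup.zpowers (dY a) = ⊥ := by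
  rw [eq_bot_iff]
  rintro g ⟨hg1, hg2⟩
  rw [Subgroup.mem_bot]
  obtain ⟨k, rfl⟩ := Subgroup.mem_zpowers_iff.mp hg1
  obtain ⟨l, hl⟩ := Subgroup.mem_zpowers_iff.mp hg2
  rw [← map_zpow] at hl ⊢
  rw [← map_zpow] at hl
  have := congrArg (fun g : GL (Fin 2) F => (g : Matrix (Fin 2) (Fin 2) F) 0 0) hl
  simp only [dX_val, dY_val] at this
  have h1 : a ^ k = 1 := by
    apply Units.ext
    simpa using this.symm
  rw [h1, map_one]

/-- Sylow 2-subgroups of `GL(2, q)` are wreathed for `q ≡ 1 (mod 4)`. -/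
theorem isWreathed_GL2 [Fintype F] (hq : Fintype.card F % 4 = 1) (P : Sylow 2 (GL (Fin 2) F)) :
    Cfsg.IsWreathed (P : Subgroup (GL (Fin 2) F)) := by
  have hodd : Odd (Fintype.card F) := by
    rw [Nat.odd_iff]; omega
  have hq5 : 5 ≤ Fintype.card F := by
    have := Fintype.one_lt_card (α := F)
    omega
  set n := (Fintype.card F - 1).factorization 2 with hn
  have hn2 : 2 ≤ n := two_le_factorization_two (by omega) (by omega)
  have h1 : (Fintype.card F + 1).factorization 2 = 1 :=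
    factorization_two_eq_one (by omega) (by omega)
  have hcard : Nat.card P = 2 ^ (2 * n + 1) := by
    rw [card_sylow_GL2 hodd P, h1]
  obtain ⟨a, ha⟩ := exists_unit_orderOf (F := F) (d := 2 ^ n) (Nat.ordProj_dvd _ 2)
  have hx : orderOf (dX a : GL (Fin 2) F) = 2 ^ n := by
    rw [orderOf_injective dX dX_injective, ha]
  exact isWreathed_sylow P n hn2 hcard (dX a) (dY a) sw hx (dX_comm_dY a a) (zpowers_dX_inf_dY a)
    orderOf_sw (sw_conj_dX a) _
    (isPGroup_wreath hx (dX_comm_dY a a) orderOf_sw (sw_conj_dX a))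
    (Subgroup.mem_sup_right (Subgroup.mem_sup_left (Subgroup.mem_zpowers _)))
    (Subgroup.mem_sup_right (Subgroup.mem_sup_right (Subgroup.mem_zpowers _)))
    (Subgroup.mem_sup_left (Subgroup.mem_zpowers _))

end Cfsg.Agent.Helper2.GL2Syl
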