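import Mathlib
import Cfsg.Agent.Helper2.GL2SylB

/-!
# The quasi-dihedral case: Sylow 2-subgroups of `GL(2, q)` for `q ≡ 3 (mod 4)`
-/

set_option autoImplicit false
set_option linter.style.haveILetI false

namespace Cfsg.Agent.Helper2.GL2Syl

open Matrix

/-- Elements of every order dividing the order of a finite cyclic group. -/
theorem exists_orderOf_of_dvd_card {C : Type*} [Group C] [Finite C] [IsCyclic C] {d : ℕ}
    (hd : d ∣ Nat.card C) : ∃ g : C, orderOf g = d := by
  obtain ⟨g, hg⟩ := IsCyclic.exists_ofOrder_eq_natCard (α := C)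
  have hpos : 0 < Nat.card C := Nat.card_pos
  obtain ⟨e, he⟩ := hd
  have he0 : e ≠ 0 := by
    rintro rfl
    rw [mul_zero] at he
    omega
  refine ⟨g ^ e, ?_⟩
  rw [orderOf_pow_of_dvd he0 (by rw [hg, he]; exact dvd_mul_left e d), hg, he,
    Nat.mul_div_cancel _ (Nat.pos_of_ne_zero he0)]

section aut

variable {F K : Type*} [Field F] [Field K] [Algebra F K]

/-- Field automorphisms as invertible linear maps. -/
def autToGL : (K ≃ₐ[F] K) →* (Module.End F K)ˣ where
  toFun σ := ⟨σ.toLinearMap, σ.symm.toLinearMap,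
    LinearMap.ext fun v => by simp, LinearMap.ext fun v => by simp⟩
  map_one' := Units.ext (LinearMap.ext fun _ => rfl)
  map_mul' _ _ := Units.ext (LinearMap.ext fun _ => rfl)

theorem autToGL_apply (σ : K ≃ₐ[F] K) (v : K) :
    ((autToGL σ : (Module.End F K)ˣ) : Module.End F K) v = σ v := rfl

theorem autToGL_injective : Function.Injective (autToGL : (K ≃ₐ[F] K) →* (Module.End F K)ˣ) := by
  intro σ τ h
  apply AlgEquiv.ext
  intro v
  have := congrArg (fun g : (Module.End F K)ˣ => (g : Module.End F K) v) h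
  simpa [autToGL_apply] using this

end aut

/-- Sylow 2-subgroups of `GL(2, q)` are quasi-dihedral for `q ≡ 3 (mod 4)`, given a quadratic
extension field. -/
theorem isQuasiDihedral_GL2_aux {F K : Type*} [Field F] [Fintype F] [Field K] [Finite K]
    [Algebra F K] (hfr : Module.finrank F K = 2) (hq : Fintype.card F % 4 = 3)
    (P : Sylow 2 (GL (Fin 2) F)) : Cfsg.IsQuasiDihedral (P : Subgroup (GL (Fin 2) F)) := by
  classical
  have hodd : Odd (Fintype.card F) := by rw [Nat.odd_iff]; omega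
  obtain ⟨q, hqq⟩ : ∃ q, q = Fintype.card F := ⟨_, rfl⟩
  rw [← hqq] at hq hodd
  obtain ⟨b, hb⟩ : ∃ b, b = (q + 1).factorization 2 := ⟨_, rfl⟩
  have hb2 : 2 ≤ b := hb ▸ two_le_factorization_two (by omega) (by omega)
  have h1 : (q - 1).factorization 2 = 1 := factorization_two_eq_one (by omega) (by omega)
  have hcard : Nat.card P = 2 ^ (b + 1 + 1) := by
    rw [card_sylow_GL2 (hqq ▸ hodd) P, ← hqq, h1, ← hb]
    congr 1
    omega
  haveI : Module.Finite F K := Module.Finite.of_finite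
  have hK : Nat.card K = q ^ 2 := by
    rw [Module.natCard_eq_pow_finrank (K := F) (V := K), hfr, Nat.card_eq_fintype_card, hqq]
  have hKu : Nat.card Kˣ = q ^ 2 - 1 := by rw [Nat.card_units, hK]
  have hdvd : 2 ^ (b + 1) ∣ q ^ 2 - 1 := by
    have e : q ^ 2 - 1 = (q + 1) * (q - 1) := by
      obtain ⟨r, hr⟩ : ∃ r, q = r + 1 := ⟨q - 1, by omega⟩
      rw [hr]
      simp only [Nat.add_sub_cancel]
      have : (r + 1) ^ 2 = (r + 1 + 1) * r + 1 := by ring
      omega
    rw [e, pow_succ, hb]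
    exact Nat.mul_dvd_mul (Nat.ordProj_dvd (q + 1) 2) (by omega)
  obtain ⟨ζ, hζ⟩ : ∃ ζ : Kˣ, orderOf ζ = 2 ^ (b + 1) :=
    exists_orderOf_of_dvd_card (by rw [hKu]; exact hdvd)
  -- `q ≡ 2^b - 1 (mod 2^(b+1))`
  obtain ⟨j, hj⟩ : ∃ j, q = 2 ^ (b + 1) * j + (2 ^ b - 1) := by
    have hdiv : 2 ^ b ∣ q + 1 := hb ▸ Nat.ordProj_dvd (q + 1) 2
    obtain ⟨m, hm⟩ := hdiv
    have hmodd : ¬ 2 ∣ m := by
      intro h2
      obtain ⟨m', rfl⟩ := h2
      have : 2 ^ (b + 1) ∣ q + 1 := ⟨m', by rw [hm, pow_succ]; ring⟩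
      have h3 := (Nat.prime_two.pow_dvd_iff_le_factorization (by omega)).mp this
      omega
    obtain ⟨j, rfl⟩ : ∃ j, m = 2 * j + 1 := ⟨m / 2, by omega⟩
    refine ⟨j, ?_⟩
    have hpos : 0 < 2 ^ b := by positivity
    have : q + 1 = 2 ^ (b + 1) * j + 2 ^ b := by rw [hm, pow_succ]; ring
    omega
  let bas : Module.Basis (Fin 2) F K := Module.finBasisOfFinrankEq F K hfr
  let T : (Module.End F K)ˣ ≃* GL (Fin 2) F :=
    Units.mapEquiv (LinearMap.toMatrixAlgEquiv bas).toMulEquiv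
  let U : Kˣ →* (Module.End F K)ˣ :=
    Units.map ((Algebra.lmul F K : K →ₐ[F] Module.End F K) : K →* Module.End F K)
  have hUinj : Function.Injective U := Units.map_injective Algebra.lmul_injective
  let σ : K ≃ₐ[F] K := FiniteField.frobeniusAlgEquivOfAlgebraic F K
  have hσ : orderOf σ = 2 := by
    rw [FiniteField.orderOf_frobeniusAlgEquivOfAlgebraic, hfr]
  have hu : orderOf (autToGL σ : (Module.End F K)ˣ) = 2 := by
    rw [orderOf_injective autToGL autToGL_injective, hσ]
  have hrel : (autToGL σ : (Module.End F K)ˣ) * U ζ = U (ζ ^ q) * autToGL σ := by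
    apply Units.ext
    apply LinearMap.ext
    intro v
    show σ ((ζ : K) * v) = ((ζ ^ q : Kˣ) : K) * σ v
    rw [map_mul]
    congr 1
    show (ζ : K) ^ Fintype.card F = _
    rw [← hqq]
    simp
  have hxord : orderOf (U ζ) = 2 ^ (b + 1) := by rw [orderOf_injective U hUinj, hζ]
  apply isQuasiDihedral_sylow P (b + 1) (by omega) hcard (T (U ζ)) (T (autToGL σ))
  · rw [MulEquiv.orderOf_eq, hxord]
  · rw [MulEquiv.orderOf_eq, hu]
  · rw [← map_inv, ← map_mul, ← map_mul, ← map_pow]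
    congr 1
    rw [mul_inv_eq_iff_eq_mul, hrel, map_pow]
    congr 1
    have e1 : b + 1 - 1 = b := by omega
    rw [e1, hj, pow_add, pow_mul, ← hxord, pow_orderOf_eq_one, one_pow, one_mul]

end Cfsg.Agent.Helper2.GL2Syl
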