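import Mathlib
import Cfsg.Agent.Helper2.GL2SylC
import Cfsg.Agent.Helper2.GL2SylD

/-!
# Sylow 2-subgroups of `GL(2, q)`, `q` odd
-/

set_option autoImplicit false
set_option linter.style.haveILetI false

namespace Cfsg.Agent.Helper2.GL2Syl

open Matrix

/-- Sylow 2-subgroups of `GL(2, q)` are quasi-dihedral for `q ≡ 3 (mod 4)`. -/
theorem isQuasiDihedral_GL2 {F : Type*} [Field F] [Fintype F] (hq : Fintype.card F % 4 = 3)
    (P : Sylow 2 (GL (Fin 2) F)) : Cfsg.IsQuasiDihedral (P : Subgroup (GL (Fin 2) F)) := by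
  haveI hp : Fact (ringChar F).Prime := ⟨CharP.char_is_prime F (ringChar F)⟩
  exact isQuasiDihedral_GL2_aux (K := FiniteField.Extension F (ringChar F) 2)
    (FiniteField.finrank_extension F (ringChar F) 2) hq P

end Cfsg.Agent.Helper2.GL2Syl
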