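import Mathlib
import Cfsg.Agent.S0256

set_option autoImplicit false

/-!
`GL (Fin 4) (ZMod 2)` embeds in (indeed is isomorphic to) the alternating group of degree 8.
-/

namespace Cfsg.Agent.Helper2.GL42A8

theorem det_eq_one {n : Type*} [Fintype n] [DecidableEq n] (g : GL n (ZMod 2)) :
    (g : Matrix n n (ZMod 2)).det = 1 := by
  have h : IsUnit (g : Matrix n n (ZMod 2)).det :=
    (Matrix.isUnit_iff_isUnit_det _).mp g.isUnit
  have h0 := h.ne_zero
  generalize (g : Matrix n n (ZMod 2)).det = d at h0
  revert d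
  decide

/-- the inclusion of `GL` in `SL` over the field with two elements -/
def toSL (n : Type*) [Fintype n] [DecidableEq n] :
    GL n (ZMod 2) →* Matrix.SpecialLinearGroup n (ZMod 2) where
  toFun g := ⟨(g : Matrix n n (ZMod 2)), det_eq_one g⟩
  map_one' := Subtype.ext rfl
  map_mul' _ _ := Subtype.ext rfl

theorem toSL_injective (n : Type*) [Fintype n] [DecidableEq n] : Function.Injective (toSL n) := by
  intro g h e
  apply Units.ext
  exact congrArg Subtype.val e

theorem center_eq_bot : Subgroup.center (Matrix.SpecialLinearGroup (Fin 4) (ZMod 2)) = ⊥ := by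
  rw [eq_bot_iff]
  intro A hA
  rw [Matrix.SpecialLinearGroup.mem_center_iff] at hA
  obtain ⟨r, hr, hA⟩ := hA
  have hr1 : r = 1 := by
    have key : ∀ r : ZMod 2, r ^ Fintype.card (Fin 4) = 1 → r = 1 := by decide
    exact key r hr
  rw [Subgroup.mem_bot]
  apply Subtype.ext
  rw [← hA, hr1]
  simp

theorem exists_inj : ∃ f : GL (Fin 4) (ZMod 2) →* ↥(alternatingGroup (Fin 8)),
    Function.Injective f := by
  obtain ⟨e⟩ := Cfsg.Agent.S0256.result (F := ZMod 2) (ZMod.card 2)
  have hinj : Function.Injective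
      (QuotientGroup.mk' (Subgroup.center (Matrix.SpecialLinearGroup (Fin 4) (ZMod 2)))) := by
    rw [← MonoidHom.ker_eq_bot_iff, QuotientGroup.ker_mk', center_eq_bot]
  refine ⟨e.toMonoidHom.comp ((QuotientGroup.mk' _).comp (toSL (Fin 4))), ?_⟩
  intro a b h
  apply toSL_injective
  apply hinj
  apply e.injective
  exact h

end Cfsg.Agent.Helper2.GL42A8
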