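import Mathlib

set_option autoImplicit false

/-!
The group `GL(5, 2)`: its order, and the fact that it has no element of order 9.
-/

namespace Cfsg.Agent.Helper2.GL52

/-- the group -/
abbrev G5 := GL (Fin 5) (ZMod 2)

theorem card_G5 : Nat.card G5 = 9999360 := by
  rw [Matrix.card_GL_field, ZMod.card, Fin.prod_univ_five]
  norm_num

/-- an element of order 3 -/
def matA : Matrix (Fin 5) (Fin 5) (ZMod 2) :=
  !![0, 1, 0, 0, 0; 1, 1, 0, 0, 0; 0, 0, 1, 0, 0; 0, 0, 0, 1, 0; 0, 0, 0, 0, 1]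

/-- another element of order 3 -/
def matB : Matrix (Fin 5) (Fin 5) (ZMod 2) :=
  !![1, 0, 0, 0, 0; 0, 1, 0, 0, 0; 0, 0, 0, 1, 0; 0, 0, 1, 1, 0; 0, 0, 0, 0, 1]

theorem matA_cube : matA * matA * matA = 1 := by decide
theorem matB_cube : matB * matB * matB = 1 := by decide
theorem matAB : matA * matB = matB * matA := by decide

/-- as a unit -/
def a : G5 := ⟨matA, matA * matA, by rw [← mul_assoc]; exact matA_cube, matA_cube⟩
/-- as a unit -/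
def b : G5 := ⟨matB, matB * matB, by rw [← mul_assoc]; exact matB_cube, matB_cube⟩

theorem a_cube : a ^ 3 = 1 := by
  apply Units.ext
  rw [Units.val_pow_eq_pow_val, Units.val_one]
  show matA ^ 3 = 1
  rw [pow_succ, pow_two]; exact matA_cube

theorem b_cube : b ^ 3 = 1 := by
  apply Units.ext
  rw [Units.val_pow_eq_pow_val, Units.val_one]
  show matB ^ 3 = 1
  rw [pow_succ, pow_two]; exact matB_cube

theorem ab_comm : Commute a b := by
  apply Units.ext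
  exact matAB

/-- powers up to two -/
def p3 (X : Matrix (Fin 5) (Fin 5) (ZMod 2)) : Fin 3 → Matrix (Fin 5) (Fin 5) (ZMod 2)
  | 0 => 1
  | 1 => X
  | 2 => X * X

theorem p3_inj : ∀ i j k l : Fin 3, p3 matA i * p3 matB j = p3 matA k * p3 matB l → i = k ∧ j = l := by
  decide +kernel

theorem p3_eq (X : G5) (i : Fin 3) : ((X ^ (i : ℕ) : G5) : Matrix (Fin 5) (Fin 5) (ZMod 2)) =
    p3 (X : Matrix (Fin 5) (Fin 5) (ZMod 2)) i := by
  fin_cases i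
  · simp [p3]
  · simp [p3]
  · simp [p3, pow_two]

/-- the elementary abelian subgroup of order 9 -/
def E9 : Subgroup G5 where
  carrier := {g | ∃ i j : Fin 3, g = a ^ (i : ℕ) * b ^ (j : ℕ)}
  one_mem' := ⟨0, 0, by simp⟩
  mul_mem' := by
    rintro g g' ⟨i, j, rfl⟩ ⟨k, l, rfl⟩
    refine ⟨⟨((i : ℕ) + k) % 3, Nat.mod_lt _ (by norm_num)⟩,
      ⟨((j : ℕ) + l) % 3, Nat.mod_lt _ (by norm_num)⟩, ?_⟩
    show _ = a ^ (((i : ℕ) + k) % 3) * b ^ (((j : ℕ) + l) % 3)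
    rw [← pow_eq_pow_mod _ a_cube, ← pow_eq_pow_mod _ b_cube, pow_add, pow_add]
    have h1 : Commute (b ^ (j : ℕ)) (a ^ (k : ℕ)) := (ab_comm.pow_pow _ _).symm
    calc a ^ (i : ℕ) * b ^ (j : ℕ) * (a ^ (k : ℕ) * b ^ (l : ℕ))
        = a ^ (i : ℕ) * (b ^ (j : ℕ) * a ^ (k : ℕ)) * b ^ (l : ℕ) := by group
      _ = a ^ (i : ℕ) * (a ^ (k : ℕ) * b ^ (j : ℕ)) * b ^ (l : ℕ) := by rw [h1.eq]
      _ = a ^ (i : ℕ) * a ^ (k : ℕ) * (b ^ (j : ℕ) * b ^ (l : ℕ)) := by group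
  inv_mem' := by
    rintro g ⟨i, j, rfl⟩
    have h3 : (a ^ (i : ℕ) * b ^ (j : ℕ)) ^ 3 = 1 := by
      rw [(ab_comm.pow_pow _ _).mul_pow, ← pow_mul, ← pow_mul, mul_comm (i : ℕ), mul_comm (j : ℕ),
        pow_mul, pow_mul, a_cube, b_cube, one_pow, one_pow, one_mul]
    have hinv : (a ^ (i : ℕ) * b ^ (j : ℕ))⁻¹ = (a ^ (i : ℕ) * b ^ (j : ℕ)) ^ 2 := by
      rw [inv_eq_iff_mul_eq_one, ← pow_succ']; exact h3
    rw [hinv, pow_two]
    refine ⟨⟨((i : ℕ) + i) % 3, Nat.mod_lt _ (by norm_num)⟩,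
      ⟨((j : ℕ) + j) % 3, Nat.mod_lt _ (by norm_num)⟩, ?_⟩
    show _ = a ^ (((i : ℕ) + i) % 3) * b ^ (((j : ℕ) + j) % 3)
    rw [← pow_eq_pow_mod _ a_cube, ← pow_eq_pow_mod _ b_cube, pow_add, pow_add]
    have h1 : Commute (b ^ (j : ℕ)) (a ^ (i : ℕ)) := (ab_comm.pow_pow _ _).symm
    calc a ^ (i : ℕ) * b ^ (j : ℕ) * (a ^ (i : ℕ) * b ^ (j : ℕ))
        = a ^ (i : ℕ) * (b ^ (j : ℕ) * a ^ (i : ℕ)) * b ^ (j : ℕ) := by group
      _ = a ^ (i : ℕ) * (a ^ (i : ℕ) * b ^ (j : ℕ)) * b ^ (j : ℕ) := by rw [h1.eq]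
      _ = a ^ (i : ℕ) * a ^ (i : ℕ) * (b ^ (j : ℕ) * b ^ (j : ℕ)) := by group

theorem E9_cube {g : G5} (hg : g ∈ E9) : g ^ 3 = 1 := by
  obtain ⟨i, j, rfl⟩ := hg
  rw [(ab_comm.pow_pow _ _).mul_pow, ← pow_mul, ← pow_mul, mul_comm (i : ℕ), mul_comm (j : ℕ),
    pow_mul, pow_mul, a_cube, b_cube, one_pow, one_pow, one_mul]

theorem card_E9 : 9 ≤ Nat.card E9 := by
  let f : Fin 3 × Fin 3 → E9 := fun p => ⟨a ^ (p.1 : ℕ) * b ^ (p.2 : ℕ), p.1, p.2, rfl⟩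
  have hf : Function.Injective f := by
    rintro ⟨i, j⟩ ⟨k, l⟩ e
    have e1 : a ^ (i : ℕ) * b ^ (j : ℕ) = a ^ (k : ℕ) * b ^ (l : ℕ) := congrArg Subtype.val e
    have e2 := congrArg (fun g : G5 => (g : Matrix (Fin 5) (Fin 5) (ZMod 2))) e1
    simp only [Units.val_mul, p3_eq] at e2
    obtain ⟨h1, h2⟩ := p3_inj i j k l e2
    rw [h1, h2]
  have := Nat.card_le_card_of_injective f hf
  simpa using this

theorem no_order9 (g : G5) (hg : g ^ 9 = 1) : g ^ 3 = 1 := by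
  classical
  have : Fact (Nat.Prime 3) := ⟨by norm_num⟩
  have hE : IsPGroup 3 E9 := by
    intro g
    refine ⟨1, ?_⟩
    apply Subtype.ext
    simpa using E9_cube g.2
  obtain ⟨P, hEP⟩ := hE.exists_le_sylow
  obtain ⟨k, hk⟩ := IsPGroup.iff_card.mp P.isPGroup'
  have hd : 3 ^ k ∣ 9999360 := by
    have h0 := Subgroup.card_subgroup_dvd_card (P : Subgroup G5)
    rw [hk, card_G5] at h0
    exact h0
  have hk2 : k ≤ 2 := by
    by_contra hc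
    push Not at hc
    have : 3 ^ 3 ∣ 9999360 := (pow_dvd_pow 3 hc).trans hd
    norm_num at this
  have hP9 : Nat.card (P : Subgroup G5) ≤ 9 := by
    rw [hk]
    calc 3 ^ k ≤ 3 ^ 2 := Nat.pow_le_pow_right (by norm_num) hk2
      _ = 9 := by norm_num
  have heq : E9 = (P : Subgroup G5) :=
    Subgroup.eq_of_le_of_card_ge hEP (hP9.trans card_E9)
  -- the subgroup generated by g is a 3-group
  have hg3 : IsPGroup 3 (Subgroup.zpowers g) := by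
    rintro ⟨y, hy⟩
    refine ⟨2, ?_⟩
    apply Subtype.ext
    obtain ⟨n, rfl⟩ := Subgroup.mem_zpowers_iff.mp hy
    show (g ^ n) ^ 3 ^ 2 = 1
    rw [← zpow_natCast, ← zpow_mul, mul_comm, zpow_mul, zpow_natCast]
    norm_num [hg]
  obtain ⟨Q, hgQ⟩ := hg3.exists_le_sylow
  obtain ⟨c, hc⟩ := MulAction.exists_smul_eq G5 P Q
  have hgQ' : g ∈ (Q : Subgroup G5) := hgQ (Subgroup.mem_zpowers g)
  rw [← hc, Sylow.coe_subgroup_smul, Subgroup.mem_smul_pointwise_iff_exists] at hgQ'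
  obtain ⟨s, hs, rfl⟩ := hgQ'
  have hs3 : s ^ 3 = 1 := E9_cube (heq ▸ hs)
  rw [MulAut.smul_def, MulAut.conj_apply, conj_pow, hs3]
  group

end Cfsg.Agent.Helper2.GL52
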