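import Mathlib
import Cfsg.Agent.Helper2.PComp3
import Cfsg.Agent.Helper2.SylowConj

/-!
Helper lemmas (helper2) for the Glauberman input of `L_{2'}`-balance (`S1301`), part (a):
the class `TwoPerf` (perfect and generated by `2`-elements) and a relative Sylow toolbox.
-/

set_option autoImplicit false

namespace Cfsg.Agent.Helper2.GLP

open scoped commutatorElement
open Cfsg.Agent.Helper2

section basic
variable {Γ : Type*} [Group Γ]

/-- The class `𝒞`: perfect and generated by its `2`-elements. -/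
def TwoPerf (Y : Subgroup Γ) : Prop := ⁅Y, Y⁆ = Y ∧ opp 2 Y = Y

theorem TwoPerf.map {Δ : Type*} [Group Δ] {Y : Subgroup Γ} (hY : TwoPerf Y) (f : Γ →* Δ) :
    TwoPerf (Y.map f) := by
  refine ⟨?_, ?_⟩
  · rw [← Subgroup.map_commutator, hY.1]
  · apply le_antisymm (opp_le 2 _)
    conv_lhs => rw [← hY.2]
    exact map_opp_le 2 Y f

theorem TwoPerf.subgroupOf {Y Λ : Subgroup Γ} (hY : TwoPerf Y) (hYΛ : Y ≤ Λ) :
    TwoPerf (Y.subgroupOf Λ) := by
  refine ⟨?_, ?_⟩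
  · apply Subgroup.map_injective Λ.subtype_injective
    rw [Subgroup.map_commutator, Subgroup.map_subgroupOf_eq_of_le hYΛ, hY.1]
  · apply le_antisymm (opp_le 2 _)
    intro x hx
    have hx' : (x : Γ) ∈ Y := Subgroup.mem_subgroupOf.mp hx
    rw [← hY.2] at hx'
    unfold opp at hx'
    have key : ∀ z (_ : z ∈ Subgroup.closure {x | x ∈ Y ∧ IsPElt 2 x}),
        ∃ h : z ∈ Λ, (⟨z, h⟩ : ↥Λ) ∈ opp 2 (Y.subgroupOf Λ) := by
      intro z hz
      induction hz using Subgroup.closure_induction with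
      | mem a ha =>
        refine ⟨hYΛ ha.1, ?_⟩
        apply mem_opp
        · exact Subgroup.mem_subgroupOf.mpr ha.1
        · obtain ⟨k, hk⟩ := ha.2
          exact ⟨k, Subtype.ext (by simpa using hk)⟩
      | one => exact ⟨Λ.one_mem, Subgroup.one_mem _⟩
      | mul a b _ _ iha ihb =>
        obtain ⟨ha, ha'⟩ := iha
        obtain ⟨hb, hb'⟩ := ihb
        exact ⟨Λ.mul_mem ha hb, Subgroup.mul_mem _ ha' hb'⟩
      | inv a _ iha =>
        obtain ⟨ha, ha'⟩ := iha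
        exact ⟨Λ.inv_mem ha, Subgroup.inv_mem _ ha'⟩
    obtain ⟨h, h'⟩ := key _ hx'
    exact h'

/-- a `2`-element of odd order dividing `n` is trivial. -/
theorem eq_one_of_isPElt_of_mem {O : Subgroup Γ} [Finite O] (hO : (Nat.card O).Coprime 2) {x : Γ}
    (hx : x ∈ O) (h2 : IsPElt 2 x) : x = 1 := by
  apply h2.eq_one_of_coprime (n := Nat.card O) _ hO
  have := pow_card_eq_one' (G := ↥O) (x := ⟨x, hx⟩)
  exact congrArg Subtype.val this

end basic

section sylow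
variable {Γ : Type*} [Group Γ] [Finite Γ]

/-- relative Sylow conjugation. -/
theorem exists_conj_le_of_relIndex {A M Q : Subgroup Γ} (hA : IsPGroup 2 ↥A)
    (hodd : ¬ 2 ∣ A.relIndex M) (hQM : Q ≤ M) (hQ : IsPGroup 2 ↥Q) :
    ∃ m ∈ M, ∀ q ∈ Q, m * q * m⁻¹ ∈ A := by
  haveI : Fact (Nat.Prime 2) := ⟨Nat.prime_two⟩
  have hA' : IsPGroup 2 ↥(A.subgroupOf M) := hA.comap_subtype
  have hQ' : IsPGroup 2 ↥(Q.subgroupOf M) := hQ.comap_subtype
  obtain ⟨h, hh⟩ := exists_conj_le_sylow (hA'.toSylow hodd) (Q.subgroupOf M) hQ'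
  refine ⟨h.1, h.2, fun q hq => ?_⟩
  have := hh ⟨q, hQM hq⟩ (Subgroup.mem_subgroupOf.mpr hq)
  exact Subgroup.mem_subgroupOf.mp this

/-- a `2`-subgroup of odd index is a maximal `2`-subgroup. -/
theorem le_of_isPGroup_of_relIndex {S Q K : Subgroup Γ} (hSQ : S ≤ Q) (hQK : Q ≤ K)
    (hQ : IsPGroup 2 ↥Q) (hodd : ¬ 2 ∣ S.relIndex K) : Q ≤ S := by
  haveI : Fact (Nat.Prime 2) := ⟨Nat.prime_two⟩
  rw [← Subgroup.relIndex_eq_one]
  have h1 : S.relIndex Q ∣ S.relIndex K := Dvd.intro _ (Subgroup.relIndex_mul_relIndex S Q K hSQ hQK)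
  obtain ⟨k, hk⟩ := hQ.exists_card_eq
  have h2 : S.relIndex Q ∣ 2 ^ k := hk ▸ Subgroup.relIndex_dvd_card S Q
  obtain ⟨j, -, hj⟩ := (Nat.dvd_prime_pow Nat.prime_two).mp h2
  rcases Nat.eq_zero_or_pos j with h0 | h0
  · rw [hj, h0, pow_zero]
  · exfalso
    apply hodd
    refine dvd_trans ?_ h1
    rw [hj]
    exact dvd_pow_self 2 h0.ne'

/-- odd relative index passes to intermediate subgroups. -/
theorem not_dvd_relIndex_of_le {S M K : Subgroup Γ} (hSM : S ≤ M) (hMK : M ≤ K)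
    (hodd : ¬ 2 ∣ S.relIndex K) : ¬ 2 ∣ S.relIndex M := by
  intro h
  apply hodd
  rw [← Subgroup.relIndex_mul_relIndex S M K hSM hMK]
  exact Dvd.dvd.mul_right h _

end sylow

section cover
variable {Γ : Type*} [Group Γ] [Finite Γ]

/-- coprime fixed points: if the `2`-group `R` normalizes the odd order subgroup `O'` and centralizes `n`
modulo `O'`, then some `n * o` with `o ∈ O'` is centralized by `R`. -/
theorem exists_mul_mem_centralizer (O' R : Subgroup Γ) (hO' : (Nat.card ↥O').Coprime 2)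
    (hR : IsPGroup 2 ↥R) (hRO : R ≤ Subgroup.normalizer (O' : Set Γ)) (n : Γ)
    (hn : n ∈ Subgroup.normalizer (O' : Set Γ))
    (hcomm : ∀ r ∈ R, r * n * r⁻¹ * n⁻¹ ∈ O') :
    ∃ o ∈ O', ∀ r ∈ R, r * (n * o) * r⁻¹ = n * o := by
  haveI : Fact (Nat.Prime 2) := ⟨Nat.prime_two⟩
  -- the coset as a type
  let X := {x : Γ // n⁻¹ * x ∈ O'}
  have hclosed : ∀ r ∈ R, ∀ x : Γ, n⁻¹ * x ∈ O' → n⁻¹ * (r * x * r⁻¹) ∈ O' := by
    intro r hr x hx
    have h1 : r * (n⁻¹ * x) * r⁻¹ ∈ O' :=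
      (Subgroup.mem_normalizer_iff.mp (hRO hr) _).mp hx
    have h2 : n⁻¹ * (r * n * r⁻¹ * n⁻¹) * n⁻¹⁻¹ ∈ O' :=
      (Subgroup.mem_normalizer_iff.mp (Subgroup.inv_mem _ hn) _).mp (hcomm r hr)
    have h3 : n⁻¹ * (r * x * r⁻¹) = (n⁻¹ * (r * n * r⁻¹ * n⁻¹) * n⁻¹⁻¹) * (r * (n⁻¹ * x) * r⁻¹) := by
      group
    rw [h3]
    exact O'.mul_mem h2 h1
  letI : MulAction ↥R X :=
    { smul := fun r x => ⟨(r : Γ) * x.1 * (r : Γ)⁻¹, hclosed r.1 r.2 x.1 x.2⟩
      one_smul := fun x => Subtype.ext (by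
        show ((1 : ↥R) : Γ) * x.1 * ((1 : ↥R) : Γ)⁻¹ = x.1
        simp)
      mul_smul := fun r s x => Subtype.ext (by
        show ((r * s : ↥R) : Γ) * x.1 * ((r * s : ↥R) : Γ)⁻¹ =
          (r : Γ) * ((s : Γ) * x.1 * (s : Γ)⁻¹) * (r : Γ)⁻¹
        simp only [Subgroup.coe_mul]
        group) }
  have hcard : Nat.card X = Nat.card ↥O' := by
    apply Nat.card_congr
    refine ⟨fun x => ⟨n⁻¹ * x.1, x.2⟩, fun o => ⟨n * o.1, by simpa using o.2⟩, ?_, ?_⟩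
    · intro x; apply Subtype.ext; simp
    · intro o; apply Subtype.ext; simp
  have hnd : ¬ 2 ∣ Nat.card X := by
    rw [hcard]
    intro h
    have := Nat.Coprime.eq_one_of_dvd hO'.symm h
    omega
  obtain ⟨x, hx⟩ := hR.nonempty_fixed_point_of_prime_not_dvd_card X hnd
  refine ⟨n⁻¹ * x.1, x.2, fun r hr => ?_⟩
  have h1 : (⟨r, hr⟩ : ↥R) • x = x := hx ⟨r, hr⟩
  have h2 : r * x.1 * r⁻¹ = x.1 := congrArg Subtype.val h1
  have h3 : n * (n⁻¹ * x.1) = x.1 := by group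
  rw [h3, h2]

end cover

end Cfsg.Agent.Helper2.GLP
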