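import Mathlib
import Cfsg.Agent.Helper2.GLPa

/-!
Helper lemmas (helper2) for the Glauberman input of `L_{2'}`-balance (`S1301`), part (b):
the inductive statement and its transport to subgroups and quotients.
-/

set_option autoImplicit false

namespace Cfsg.Agent.Helper2.GLP

open scoped commutatorElement
open Cfsg.Agent.Helper2 Cfsg.Agent.Helper1

universe u

/-- The statement of `glp` for all groups with `|K| ≤ n`. -/
def GLPStmt (n : ℕ) : Prop :=
  ∀ (Γ : Type u) [Group Γ] [Finite Γ] (K : Subgroup Γ) [K.Normal] (S Y : Subgroup Γ),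
    Nat.card ↥K ≤ n → S ≤ K → IsPGroup 2 ↥S → ¬ 2 ∣ S.relIndex K → TwoPerf Y →
    Y ≤ Subgroup.centralizer (S : Set Γ) → ⁅K, Y⁆ ≤ Cfsg.pPrimeCore 2 Γ

section transport
variable {Γ : Type u} [Group Γ] [Finite Γ]

theorem card_subgroupOf_eq (K Λ : Subgroup Γ) :
    Nat.card ↥(K.subgroupOf Λ) = Nat.card ↥(K ⊓ Λ) := by
  rw [← Subgroup.inf_subgroupOf_right]
  exact Nat.card_congr (Subgroup.subgroupOfEquivOfLe inf_le_right).toEquiv

/-- the inductive hypothesis inside a subgroup `Λ`. -/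
theorem GLPStmt.sub {n : ℕ} (ih : GLPStmt.{u} n) (K : Subgroup Γ) [K.Normal]
    (Λ S' Y : Subgroup Γ) (hcard : Nat.card ↥(K ⊓ Λ) ≤ n) (hS'K : S' ≤ K ⊓ Λ)
    (hS' : IsPGroup 2 ↥S') (hodd : ¬ 2 ∣ S'.relIndex (K ⊓ Λ)) (hY : TwoPerf Y) (hYΛ : Y ≤ Λ)
    (hYS : Y ≤ Subgroup.centralizer (S' : Set Γ)) :
    ⁅K ⊓ Λ, Y⁆ ≤ (Cfsg.pPrimeCore 2 ↥Λ).map Λ.subtype := by
  have h1 := ih ↥Λ (K.subgroupOf Λ) (S'.subgroupOf Λ) (Y.subgroupOf Λ)
    (by rw [card_subgroupOf_eq]; exact hcard)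
    (by
      intro x hx
      exact Subgroup.mem_subgroupOf.mpr (hS'K (Subgroup.mem_subgroupOf.mp hx)).1)
    hS'.comap_subtype
    (by
      have e : K.subgroupOf Λ = (K ⊓ Λ).subgroupOf Λ := (Subgroup.inf_subgroupOf_right K Λ).symm
      rw [e, Subgroup.relIndex_subgroupOf inf_le_right]
      exact hodd)
    (hY.subgroupOf hYΛ)
    (by
      intro y hy
      rw [Subgroup.mem_centralizer_iff]
      intro s hs
      have := Subgroup.mem_centralizer_iff.mp (hYS (Subgroup.mem_subgroupOf.mp hy)) (s : Γ)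
        (Subgroup.mem_subgroupOf.mp hs)
      exact Subtype.ext this)
  have h2 := Subgroup.map_mono (f := Λ.subtype) h1
  rw [Subgroup.map_commutator, Subgroup.subgroupOf_map_subtype,
    Subgroup.map_subgroupOf_eq_of_le hYΛ] at h2
  exact h2

theorem card_map_mk'_eq (N K : Subgroup Γ) [N.Normal] :
    Nat.card ↥(K.map (QuotientGroup.mk' N)) = N.relIndex K := by
  have h1 := Subgroup.index_ker ((QuotientGroup.mk' N).comp K.subtype)
  have h2 : ((QuotientGroup.mk' N).comp K.subtype).range = K.map (QuotientGroup.mk' N) := by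
    rw [MonoidHom.range_comp, Subgroup.range_subtype]
  have h3 : ((QuotientGroup.mk' N).comp K.subtype).ker = N.subgroupOf K := by
    rw [← MonoidHom.comap_ker, QuotientGroup.ker_mk']
    rfl
  rw [h2, h3] at h1
  exact h1.symm

theorem card_map_mk'_le (N K : Subgroup Γ) [N.Normal] :
    Nat.card ↥(K.map (QuotientGroup.mk' N)) ≤ Nat.card ↥K := by
  rw [card_map_mk'_eq]
  exact Nat.le_of_dvd Nat.card_pos (Subgroup.relIndex_dvd_card N K)

theorem card_map_mk'_lt (N K : Subgroup Γ) [N.Normal] (hNK : N ≤ K) (hN : N ≠ ⊥) :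
    Nat.card ↥(K.map (QuotientGroup.mk' N)) < Nat.card ↥K := by
  rw [card_map_mk'_eq]
  have h1 : Nat.card ↥(N.subgroupOf K) * (N.subgroupOf K).index = Nat.card ↥K :=
    Subgroup.card_mul_index _
  have h2 : Nat.card ↥(N.subgroupOf K) = Nat.card ↥N :=
    Nat.card_congr (Subgroup.subgroupOfEquivOfLe hNK).toEquiv
  have h3 : 1 < Nat.card ↥N := by
    rw [Subgroup.one_lt_card_iff_ne_bot]
    exact hN
  have h4 : 0 < N.relIndex K := by
    have : N.relIndex K ∣ Nat.card ↥K := Subgroup.relIndex_dvd_card N K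
    exact Nat.pos_of_dvd_of_pos this Nat.card_pos
  change N.relIndex K < Nat.card ↥K
  rw [← h1, h2]
  change N.relIndex K < Nat.card ↥N * N.relIndex K
  nlinarith

theorem relIndex_map_mk'_dvd (N S K : Subgroup Γ) [N.Normal] (hSK : S ≤ K) :
    (S.map (QuotientGroup.mk' N)).relIndex (K.map (QuotientGroup.mk' N)) ∣ S.relIndex K := by
  have hf := MonoidHom.subgroupMap_surjective (QuotientGroup.mk' N) K
  have h1 := Subgroup.index_map_dvd (S.subgroupOf K) hf
  have h2 : (S.subgroupOf K).map ((QuotientGroup.mk' N).subgroupMap K) =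
      (S.map (QuotientGroup.mk' N)).subgroupOf (K.map (QuotientGroup.mk' N)) := by
    ext y
    constructor
    · rintro ⟨k, hk, rfl⟩
      exact Subgroup.mem_subgroupOf.mpr ⟨(k : Γ), Subgroup.mem_subgroupOf.mp hk, rfl⟩
    · intro hy
      obtain ⟨s, hs, hsy⟩ := Subgroup.mem_subgroupOf.mp hy
      exact ⟨⟨s, hSK hs⟩, Subgroup.mem_subgroupOf.mpr hs, Subtype.ext hsy⟩
  rw [h2] at h1
  exact h1

/-- the inductive hypothesis in a quotient `Γ ⧸ N`. -/
theorem GLPStmt.quot {n : ℕ} (ih : GLPStmt.{u} n) (N : Subgroup Γ) [N.Normal] (K : Subgroup Γ)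
    [K.Normal] (S Y : Subgroup Γ)
    (hcard : Nat.card ↥(K.map (QuotientGroup.mk' N)) ≤ n) (hSK : S ≤ K)
    (hS : IsPGroup 2 ↥S) (hodd : ¬ 2 ∣ S.relIndex K) (hY : TwoPerf Y)
    (hYS : Y ≤ Subgroup.centralizer (S : Set Γ)) :
    ⁅K, Y⁆ ≤ (Cfsg.pPrimeCore 2 (Γ ⧸ N)).comap (QuotientGroup.mk' N) := by
  haveI : (K.map (QuotientGroup.mk' N)).Normal :=
    Subgroup.Normal.map inferInstance _ (QuotientGroup.mk'_surjective N)
  have h1 := ih (Γ ⧸ N) (K.map (QuotientGroup.mk' N)) (S.map (QuotientGroup.mk' N))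
    (Y.map (QuotientGroup.mk' N)) hcard (Subgroup.map_mono hSK) (hS.map _)
    (fun h => hodd (dvd_trans h (relIndex_map_mk'_dvd N S K hSK)))
    (hY.map _)
    (by
      rintro _ ⟨y, hy, rfl⟩
      rw [Subgroup.mem_centralizer_iff]
      rintro _ ⟨s, hs, rfl⟩
      have := Subgroup.mem_centralizer_iff.mp (hYS hy) s hs
      rw [← map_mul, ← map_mul, this])
  rw [← Subgroup.map_commutator] at h1
  exact Subgroup.map_le_iff_le_comap.mp h1

end transport

end Cfsg.Agent.Helper2.GLP
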