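import Mathlib
import Cfsg.Agent.Helper2.GLPb
import Cfsg.Agent.Helper2.PComp4
import Cfsg.Agent.Helper3.CoprimeHall
import Cfsg.Agent.Helper1.Coprime

/-!
Helper lemmas (helper2) for the Glauberman input of `L_{2'}`-balance (`S1301`), part (c):
central Sylow `2`-subgroups split off, normal `2`-subgroups of a normal subgroup, and the case
`O_2(K) ≠ 1` of the induction.
-/

set_option autoImplicit false

namespace Cfsg.Agent.Helper2.GLP

open scoped commutatorElement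
open Cfsg.Agent.Helper2 Cfsg.Agent.Helper1

universe u

section split
variable {Γ : Type*} [Group Γ] [Finite Γ]

omit [Finite Γ] in
theorem exists_mul_of_mem {G₂ Z H : Subgroup Γ} (hsup : G₂ ≤ Z ⊔ H)
    (hHc : H ≤ Subgroup.centralizer (Z : Set Γ)) {g : Γ} (hg : g ∈ G₂) :
    ∃ z ∈ Z, ∃ h ∈ H, g = z * h :=
  mem_sup_of_le_normalizer (hHc.trans (Subgroup.centralizer_le_normalizer _)) (hsup hg)

/-- A central `2`-subgroup of odd index splits off: the odd order elements form a complement. -/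
theorem exists_odd_complement_of_central (G₂ Z : Subgroup Γ) (hZG : Z ≤ G₂)
    (hZc : G₂ ≤ Subgroup.centralizer (Z : Set Γ)) (hZ : IsPGroup 2 ↥Z)
    (hodd : ¬ 2 ∣ Z.relIndex G₂) :
    ∃ H : Subgroup Γ, H ≤ G₂ ∧ (Nat.card ↥H).Coprime 2 ∧ G₂ ≤ Z ⊔ H ∧
      G₂ ≤ Subgroup.normalizer (H : Set Γ) ∧ ∀ x ∈ G₂, (orderOf x).Coprime 2 → x ∈ H := by
  haveI : Fact (Nat.Prime 2) := ⟨Nat.prime_two⟩
  have hcomm : ∀ z ∈ Z, ∀ g ∈ G₂, g * z = z * g := by
    intro z hz g hg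
    exact (Subgroup.mem_centralizer_iff.mp (hZc hg) z hz).symm
  haveI hZn : (Z.subgroupOf G₂).Normal := by
    refine ⟨fun z hz g => ?_⟩
    have h1 : (g : Γ) * (z : Γ) * (g : Γ)⁻¹ = (z : Γ) := by
      rw [hcomm z (Subgroup.mem_subgroupOf.mp hz) g g.2, mul_inv_cancel_right]
    have h2 : g * z * g⁻¹ = z := Subtype.ext h1
    rw [h2]; exact hz
  obtain ⟨k, hk⟩ := hZ.exists_card_eq
  have hcardZ' : Nat.card ↥(Z.subgroupOf G₂) = 2 ^ k := by
    rw [← hk]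
    exact Nat.card_congr (Subgroup.subgroupOfEquivOfLe hZG).toEquiv
  have hcop : Nat.Coprime (Nat.card ↥(Z.subgroupOf G₂)) (Z.subgroupOf G₂).index := by
    rw [hcardZ']
    apply Nat.Coprime.pow_left
    exact (Nat.Prime.coprime_iff_not_dvd Nat.prime_two).mpr hodd
  obtain ⟨H', hH'⟩ := Subgroup.exists_right_complement'_of_coprime hcop
  have hcardH' : Nat.card ↥H' = Z.relIndex G₂ := (hH'.symm.index_eq_card).symm
  have hH'cop : (Nat.card ↥H').Coprime 2 := by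
    rw [hcardH']
    exact ((Nat.Prime.coprime_iff_not_dvd Nat.prime_two).mpr hodd).symm
  have hsup : G₂ ≤ Z ⊔ H'.map G₂.subtype := by
    have h1 := hH'.sup_eq_top
    have h2 : (Z.subgroupOf G₂ ⊔ H').map G₂.subtype = G₂ := by
      rw [h1, ← MonoidHom.range_eq_map, Subgroup.range_subtype]
    rw [Subgroup.map_sup, Subgroup.map_subgroupOf_eq_of_le hZG] at h2
    exact h2.ge
  refine ⟨H'.map G₂.subtype, ?_, ?_, hsup, ?_, ?_⟩
  · rintro _ ⟨x, -, rfl⟩; exact x.2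
  · rw [Subgroup.card_map_of_injective G₂.subtype_injective]; exact hH'cop
  · -- `G₂` normalizes `H`
    have hHG : H'.map G₂.subtype ≤ G₂ := by rintro _ ⟨x, -, rfl⟩; exact x.2
    have key : ∀ g ∈ G₂, ∀ h ∈ H'.map G₂.subtype, g * h * g⁻¹ ∈ H'.map G₂.subtype := by
      intro g hg h hh
      obtain ⟨z, hz, h₀, hh₀, rfl⟩ := exists_mul_of_mem hsup (hHG.trans hZc) hg
      have h1 : z * h₀ * h * (z * h₀)⁻¹ = h₀ * h * h₀⁻¹ := by
        have h2 : (h₀ * h * h₀⁻¹) * z = z * (h₀ * h * h₀⁻¹) :=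
          hcomm z hz _ (G₂.mul_mem (G₂.mul_mem (hHG hh₀) (hHG hh)) (G₂.inv_mem (hHG hh₀)))
        calc z * h₀ * h * (z * h₀)⁻¹ = z * (h₀ * h * h₀⁻¹) * z⁻¹ := by group
          _ = (h₀ * h * h₀⁻¹) * z * z⁻¹ := by rw [h2]
          _ = h₀ * h * h₀⁻¹ := by group
      rw [h1]
      exact Subgroup.mul_mem _ (Subgroup.mul_mem _ hh₀ hh) (Subgroup.inv_mem _ hh₀)
    intro g hg
    rw [Subgroup.mem_normalizer_iff]
    intro h
    constructor
    · exact key g hg h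
    · intro hh
      have := key g⁻¹ (G₂.inv_mem hg) _ hh
      have e : g⁻¹ * (g * h * g⁻¹) * g⁻¹⁻¹ = h := by group
      rwa [e] at this
  · -- odd order elements lie in `H`
    intro x hx hxodd
    have hHG : H'.map G₂.subtype ≤ G₂ := by rintro _ ⟨x, -, rfl⟩; exact x.2
    obtain ⟨z, hz, h₀, hh₀, rfl⟩ := exists_mul_of_mem hsup (hHG.trans hZc) hx
    have hzh : Commute z h₀ := (hcomm z hz h₀ (hHG hh₀)).symm
    have hpow : (z * h₀) ^ (2 ^ k) = h₀ ^ (2 ^ k) := by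
      rw [hzh.mul_pow]
      have : z ^ (2 ^ k) = 1 := by
        have := pow_card_eq_one' (G := ↥Z) (x := ⟨z, hz⟩)
        rw [hk] at this
        exact congrArg Subtype.val this
      rw [this, one_mul]
    have hpowmem : (z * h₀) ^ (2 ^ k) ∈ H'.map G₂.subtype := by
      rw [hpow]; exact Subgroup.pow_mem _ hh₀ _
    set r := orderOf (z * h₀) with hr
    by_cases hr1 : r = 1
    · have : z * h₀ = 1 := orderOf_eq_one_iff.mp hr1
      rw [this]; exact Subgroup.one_mem _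
    have hrpos : 0 < r := orderOf_pos _
    have hr1' : 1 < r := by omega
    have hcop2 : Nat.Coprime (2 ^ k) r := Nat.Coprime.pow_left k hxodd.symm
    obtain ⟨c, -, hc⟩ := Nat.exists_mul_mod_eq_one_of_coprime hcop2 hr1'
    have h3 : (z * h₀) = ((z * h₀) ^ (2 ^ k)) ^ c := by
      rw [← pow_mul]
      conv_lhs => rw [← pow_one (z * h₀)]
      rw [← hc]
      exact pow_mod_orderOf (z * h₀) (2 ^ k * c)
    rw [h3]
    exact Subgroup.pow_mem _ hpowmem _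

/-- A `2`-subgroup of the normal subgroup `K` normalized by `K` lies in a normal `2`-subgroup of `Γ`
inside `K`. -/
theorem exists_normal_two_subgroup (K : Subgroup Γ) [K.Normal] (D : Subgroup Γ) (hDK : D ≤ K)
    (hD : IsPGroup 2 ↥D) (hKD : K ≤ Subgroup.normalizer (D : Set Γ)) :
    ∃ D₀ : Subgroup Γ, D₀.Normal ∧ D ≤ D₀ ∧ D₀ ≤ K ∧ IsPGroup 2 ↥D₀ := by
  haveI : Fact (Nat.Prime 2) := ⟨Nat.prime_two⟩
  haveI := Cfsg.Agent.Helper3.pCore_characteristic 2 ↥K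
  refine ⟨(Cfsg.pCore 2 ↥K).map K.subtype, inferInstance, ?_, ?_, ?_⟩
  · have h1 : (D.subgroupOf K).Normal := (Subgroup.normal_subgroupOf_iff_le_normalizer hDK).mpr hKD
    have h2 : D.subgroupOf K ≤ Cfsg.pCore 2 ↥K := le_pCore h1 hD.comap_subtype
    have h3 := Subgroup.map_mono (f := K.subtype) h2
    rwa [Subgroup.map_subgroupOf_eq_of_le hDK] at h3
  · rintro _ ⟨x, -, rfl⟩; exact x.2
  · exact (pCore_isPGroup 2).map _

end split

section caseD
variable {Γ : Type u} [Group Γ] [Finite Γ]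

/-- The induction step when `K` contains a nontrivial normal `2`-subgroup of `Γ` and `O(Γ) = 1`. -/
theorem core_of_normal_two {n : ℕ} (ih : GLPStmt.{u} n) (K : Subgroup Γ) [K.Normal]
    (S Y : Subgroup Γ) (hcard : Nat.card ↥K ≤ n + 1) (hO : Cfsg.pPrimeCore 2 Γ = ⊥)
    (hSK : S ≤ K) (hS : IsPGroup 2 ↥S) (hodd : ¬ 2 ∣ S.relIndex K) (hY : TwoPerf Y)
    (hYS : Y ≤ Subgroup.centralizer (S : Set Γ))
    (D₀ : Subgroup Γ) [hD₀n : D₀.Normal] (hD₀K : D₀ ≤ K) (hD₀ : IsPGroup 2 ↥D₀) (hD₀ne : D₀ ≠ ⊥) :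
    ⁅K, Y⁆ = ⊥ := by
  haveI : Fact (Nat.Prime 2) := ⟨Nat.prime_two⟩
  -- `D₀ ≤ S`
  have hD₀S : D₀ ≤ S := by
    have := le_of_isPGroup_of_relIndex (S := S) (Q := S ⊔ D₀) (K := K) le_sup_left
      (sup_le hSK hD₀K) (hS.to_sup_of_normal_right hD₀) hodd
    exact le_sup_right.trans this
  -- induction in `Γ ⧸ D₀`
  have h1 : ⁅K, Y⁆ ≤ (Cfsg.pPrimeCore 2 (Γ ⧸ D₀)).comap (QuotientGroup.mk' D₀) :=
    ih.quot D₀ K S Y (by have := card_map_mk'_lt D₀ K hD₀K hD₀ne; omega) hSK hS hodd hY hYS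
  -- `[K,Y]` centralizes `D₀`
  have hYD : Y ≤ Subgroup.centralizer (D₀ : Set Γ) :=
    hYS.trans (Subgroup.centralizer_le (SetLike.coe_subset_coe.mpr hD₀S))
  have hc : ⁅K, Y⁆ ≤ Subgroup.centralizer (D₀ : Set Γ) := by
    rw [Subgroup.commutator_le]
    intro k _ y hy
    have h2 : k * y * k⁻¹ ∈ Subgroup.centralizer (D₀ : Set Γ) :=
      (inferInstance : (Subgroup.centralizer (D₀ : Set Γ)).Normal).conj_mem y (hYD hy) k
    rw [commutatorElement_def]
    exact Subgroup.mul_mem _ h2 (Subgroup.inv_mem _ (hYD hy))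
  set G₁ := (Cfsg.pPrimeCore 2 (Γ ⧸ D₀)).comap (QuotientGroup.mk' D₀) with hG₁
  set G₂ := G₁ ⊓ Subgroup.centralizer (D₀ : Set Γ) with hG₂
  haveI hG₁n : G₁.Normal := Subgroup.Normal.comap inferInstance _
  haveI hG₂n : G₂.Normal := Subgroup.normal_inf_normal _ _
  set Z := D₀ ⊓ G₂ with hZ
  have hoddZ : ¬ 2 ∣ Z.relIndex G₂ := by
    rw [hZ, Subgroup.inf_relIndex_right, ← card_map_mk'_eq]
    have h3 : G₂.map (QuotientGroup.mk' D₀) ≤ Cfsg.pPrimeCore 2 (Γ ⧸ D₀) := by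
      rw [Subgroup.map_le_iff_le_comap]
      exact inf_le_left
    have h4 := Subgroup.card_dvd_of_le h3
    have h5 : (Nat.card ↥(Cfsg.pPrimeCore 2 (Γ ⧸ D₀))).Coprime 2 := card_pPrimeCore_coprime 2
    intro h6
    have := Nat.Coprime.eq_one_of_dvd h5.symm (dvd_trans h6 h4)
    omega
  obtain ⟨H, hHG, hHcop, hsup, hnorm, -⟩ := exists_odd_complement_of_central G₂ Z inf_le_right
    ((inf_le_right : G₂ ≤ _).trans
      (Subgroup.centralizer_le (SetLike.coe_subset_coe.mpr (inf_le_left : Z ≤ D₀))))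
    (hD₀.to_le inf_le_left) hoddZ
  have hHsub : H.IsSubnormal :=
    Subgroup.IsSubnormal.step _ _ hHG (Subgroup.Normal.isSubnormal hG₂n)
      ((Subgroup.normal_subgroupOf_iff_le_normalizer hHG).mpr hnorm)
  have hHbot : H = ⊥ := by
    rw [eq_bot_iff, ← hO]
    exact le_pPrimeCore_of_subnormal H hHsub hHcop
  have hG₂D : G₂ ≤ D₀ := by
    rw [hHbot, sup_bot_eq] at hsup
    exact hsup.trans inf_le_left
  have hKYD : ⁅K, Y⁆ ≤ D₀ := (le_inf h1 hc).trans hG₂D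
  -- three subgroups
  have hSY : ⁅S, Y⁆ = ⊥ := by
    rw [Subgroup.commutator_comm, Subgroup.commutator_eq_bot_iff_le_centralizer]
    exact hYS
  have h7 : ⁅⁅K, Y⁆, Y⁆ = ⊥ := by
    rw [eq_bot_iff, ← hSY]
    exact Subgroup.commutator_mono (hKYD.trans hD₀S) le_rfl
  have h8 : ⁅⁅Y, K⁆, Y⁆ = ⊥ := by rw [Subgroup.commutator_comm Y K]; exact h7
  have h9 := Subgroup.commutator_commutator_eq_bot_of_rotate h8 h7
  rw [hY.1, Subgroup.commutator_comm] at h9
  exact h9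

end caseD

end Cfsg.Agent.Helper2.GLP
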