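import Mathlib
import Cfsg.Agent.Helper2.GoldB2

set_option autoImplicit false
set_option linter.unusedSimpArgs false

/-!
# S2858 project, piece B4: `Z_x = W_x × Y_x`

For `d ∈ G_x` cycling the three neighbours of `x`, `π(u) = u u^d u^{d²}` is a projection of `Z_x` onto
`Y_x = C_{Z_x}(G_x) = C_{Z_x}(d)` with kernel `W_x`.
-/

namespace Cfsg.Agent.Helper2.Gold

open MulAction Cfsg.Agent.Gold

variable {G : Type*} [Group G] {V : Type*} [MulAction G V] {Γ : SimpleGraph V}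

/-- conjugation `u ↦ g u g⁻¹` -/
def cj (g u : G) : G := g * u * g⁻¹

theorem cj_mul (g k u : G) : cj (g * k) u = cj g (cj k u) := by unfold cj; group

theorem cj_mul_right (g u v : G) : cj g (u * v) = cj g u * cj g v := by unfold cj; group

theorem cj_one (u : G) : cj 1 u = u := by unfold cj; group

theorem cj_one_right (g : G) : cj g (1 : G) = 1 := by unfold cj; group

theorem cj_inv_cj (g u : G) : cj g⁻¹ (cj g u) = u := by unfold cj; group

theorem cj_cj_inv (g u : G) : cj g (cj g⁻¹ u) = u := by unfold cj; group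

theorem cj_eq_iff (g u : G) : cj g u = u ↔ g * u = u * g := by
  unfold cj
  constructor
  · intro h
    calc g * u = g * u * g⁻¹ * g := by group
      _ = u * g := by rw [h]
  · intro h
    rw [h]
    group

theorem cj_injective (g : G) : Function.Injective (cj g) := by
  intro u v huv
  have := congrArg (cj g⁻¹) huv
  rwa [cj_inv_cj, cj_inv_cj] at this

theorem cj_mem_Zv (h : Loc3 G Γ) {x : V} {g u : G} (hg : g ∈ stabilizer G x)
    (hu : u ∈ Zv G Γ x) : cj g u ∈ Zv G Γ x :=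
  (conj_mem_Zv_of_mem_St h hg).2 hu

theorem cj_of_mem_Qk (h : Loc3 G Γ) {x : V} {q u : G} (hq : q ∈ Qk G Γ x)
    (hu : u ∈ Zv G Γ x) : cj q u = u :=
  (cj_eq_iff q u).2 (Zv_comm_Qk h hu hq).symm

/-- A local frame at the edge `x ~ y`: the other neighbours `z, z'` of `x`, an element `d` of `G_x`
cycling `y → z → z' → y` and an element `t` of `G_{xy}` swapping `z` and `z'`. -/
structure Frame (G : Type*) [Group G] {V : Type*} [MulAction G V] (Γ : SimpleGraph V)
    (x y z z' : V) (d t : G) : Prop where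
  hxy : Γ.Adj x y
  hxz : Γ.Adj x z
  hxz' : Γ.Adj x z'
  hzz' : z ≠ z'
  hyz : y ≠ z
  hyz' : y ≠ z'
  hall : ∀ w, Γ.Adj x w → w = y ∨ w = z ∨ w = z'
  hd : d ∈ stabilizer G x
  hdy : d • y = z
  hdz : d • z = z'
  hdz' : d • z' = y
  ht : t ∈ Ed G x y
  htz : t • z = z'
  htz' : t • z' = z

theorem exists_frame (h : Loc3 G Γ) {x y : V} (hxy : Γ.Adj x y) :
    ∃ (z z' : V) (d t : G), Frame G Γ x y z z' d t := by
  obtain ⟨z, z', hzz', hyz, hyz', hxz, hxz', hall⟩ := nbr_triple h hxy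
  obtain ⟨t, ht, htz, htz'⟩ := exists_swap h hxy hzz' hyz hyz' hxz hxz' hall
  obtain ⟨d, hd, hdy, hdz, hdz'⟩ := exists_cycle h hxy hzz' hyz hyz' hxz hxz' hall
  exact ⟨z, z', d, t, ⟨hxy, hxz, hxz', hzz', hyz, hyz', hall, hd, hdy, hdz, hdz', ht, htz, htz'⟩⟩

namespace Frame

variable {x y z z' : V} {d t : G}

theorem hdx (F : Frame G Γ x y z z' d t) : d • x = x := mem_stabilizer_iff.1 F.hd

theorem htx (F : Frame G Γ x y z z' d t) : t • x = x := (mem_Ed.1 F.ht).1

theorem hty (F : Frame G Γ x y z z' d t) : t • y = y := (mem_Ed.1 F.ht).2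

theorem htS (F : Frame G Γ x y z z' d t) : t ∈ stabilizer G x := Ed_le_St x y F.ht

theorem t_not_mem (F : Frame G Γ x y z z' d t) : t ∉ Qk G Γ x := by
  intro hq
  have := (mem_Qk.1 hq).2 z F.hxz
  rw [F.htz] at this
  exact F.hzz' this.symm

theorem d_not_mem (F : Frame G Γ x y z z' d t) : d ∉ Ed G x y := by
  intro hq
  have := (mem_Ed.1 hq).2
  rw [F.hdy] at this
  exact F.hyz this.symm

theorem mem_Qk_of_fix (F : Frame G Γ x y z z' d t) {g : G} (hx : g • x = x) (hy : g • y = y)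
    (hz : g • z = z) (hz' : g • z' = z') : g ∈ Qk G Γ x := by
  refine mem_Qk.2 ⟨hx, fun w hw => ?_⟩
  rcases F.hall w hw with rfl | rfl | rfl
  · exact hy
  · exact hz
  · exact hz'

/-- elements of `G_x` acting in the same way on the neighbours of `x` act in the same way on `Z_x` -/
theorem cj_congr (h : Loc3 G Γ) (F : Frame G Γ x y z z' d t) {g g' u : G}
    (hg : g ∈ stabilizer G x) (hg' : g' ∈ stabilizer G x) (hy : g • y = g' • y)
    (hz : g • z = g' • z) (hz' : g • z' = g' • z') (hu : u ∈ Zv G Γ x) : cj g u = cj g' u := by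
  have hq : g⁻¹ * g' ∈ Qk G Γ x := by
    apply F.mem_Qk_of_fix
    · rw [mul_smul, mem_stabilizer_iff.1 hg', inv_smul_eq_iff, mem_stabilizer_iff.1 hg]
    · rw [mul_smul, ← hy, inv_smul_smul]
    · rw [mul_smul, ← hz, inv_smul_smul]
    · rw [mul_smul, ← hz', inv_smul_smul]
  have e : g' = g * (g⁻¹ * g') := by group
  rw [e, cj_mul, cj_of_mem_Qk h hq hu]

theorem cj_d3 (h : Loc3 G Γ) (F : Frame G Γ x y z z' d t) {u : G} (hu : u ∈ Zv G Γ x) :
    cj d (cj d (cj d u)) = u := by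
  rw [← cj_mul, ← cj_mul]
  have := F.cj_congr h (g := d * d * d) (g' := 1)
    (Subgroup.mul_mem _ (Subgroup.mul_mem _ F.hd F.hd) F.hd) (Subgroup.one_mem _)
    (by simp only [mul_smul, one_smul, F.hdy, F.hdz, F.hdz'])
    (by simp only [mul_smul, one_smul, F.hdy, F.hdz, F.hdz'])
    (by simp only [mul_smul, one_smul, F.hdy, F.hdz, F.hdz']) hu
  rw [this, cj_one]

theorem cj_td (h : Loc3 G Γ) (F : Frame G Γ x y z z' d t) {u : G} (hu : u ∈ Zv G Γ x) :
    cj t (cj d u) = cj d (cj d (cj t u)) := by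
  rw [← cj_mul, ← cj_mul, ← cj_mul]
  exact F.cj_congr h (Subgroup.mul_mem _ F.htS F.hd)
    (Subgroup.mul_mem _ (Subgroup.mul_mem _ F.hd F.hd) F.htS)
    (by simp only [mul_smul, F.hty, F.htz, F.htz', F.hdy, F.hdz, F.hdz'])
    (by simp only [mul_smul, F.hty, F.htz, F.htz', F.hdy, F.hdz, F.hdz'])
    (by simp only [mul_smul, F.hty, F.htz, F.htz', F.hdy, F.hdz, F.hdz']) hu

theorem cj_tdd (h : Loc3 G Γ) (F : Frame G Γ x y z z' d t) {u : G} (hu : u ∈ Zv G Γ x) :
    cj t (cj d (cj d u)) = cj d (cj t u) := by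
  rw [← cj_mul, ← cj_mul, ← cj_mul]
  exact F.cj_congr h (Subgroup.mul_mem _ (Subgroup.mul_mem _ F.htS F.hd) F.hd)
    (Subgroup.mul_mem _ F.hd F.htS)
    (by simp only [mul_smul, F.hty, F.htz, F.htz', F.hdy, F.hdz, F.hdz'])
    (by simp only [mul_smul, F.hty, F.htz, F.htz', F.hdy, F.hdz, F.hdz'])
    (by simp only [mul_smul, F.hty, F.htz, F.htz', F.hdy, F.hdz, F.hdz']) hu

end Frame

/-- `π_d(u) = u u^d u^{d²}` -/
def pr (d u : G) : G := u * cj d u * cj d (cj d u)

theorem pr_mem_Zv (h : Loc3 G Γ) {x : V} {d u : G} (hd : d ∈ stabilizer G x)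
    (hu : u ∈ Zv G Γ x) : pr d u ∈ Zv G Γ x :=
  Subgroup.mul_mem _ (Subgroup.mul_mem _ hu (cj_mem_Zv h hd hu))
    (cj_mem_Zv h hd (cj_mem_Zv h hd hu))

/-- rearrangement in the abelian group `Z_x` -/
theorem Zv_rot (h : Loc3 G Γ) {x : V} {a b c : G} (ha : a ∈ Zv G Γ x) (hb : b ∈ Zv G Γ x)
    (hc : c ∈ Zv G Γ x) : a * b * c = c * a * b := by
  rw [mul_assoc c a b]
  exact Zv_comm h (Subgroup.mul_mem _ ha hb) hc

theorem Zv_swap (h : Loc3 G Γ) {x : V} {a b c : G} (_ha : a ∈ Zv G Γ x) (hb : b ∈ Zv G Γ x)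
    (hc : c ∈ Zv G Γ x) : a * b * c = a * c * b := by
  rw [mul_assoc, mul_assoc, Zv_comm h hb hc]

theorem pr_mul (h : Loc3 G Γ) {x : V} {d u v : G} (hd : d ∈ stabilizer G x)
    (hu : u ∈ Zv G Γ x) (hv : v ∈ Zv G Γ x) : pr d (u * v) = pr d u * pr d v := by
  unfold pr
  rw [cj_mul_right, cj_mul_right]
  have ha := cj_mem_Zv h hd hu
  have hb := cj_mem_Zv h hd hv
  have hc := cj_mem_Zv h hd ha
  have he := cj_mem_Zv h hd hb
  have c1 : Commute v (cj d u) := Zv_comm h hv ha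
  have c2 : Commute (v * cj d v) (cj d (cj d u)) := Zv_comm h (Subgroup.mul_mem _ hv hb) hc
  rw [c1.mul_mul_mul_comm, c2.mul_mul_mul_comm]

theorem pr_one (d : G) : pr d (1 : G) = 1 := by
  unfold pr
  rw [cj_one_right, cj_one_right, one_mul, one_mul]

namespace Frame

variable {x y z z' : V} {d t : G}

/-- `π(u)` is fixed by `d` -/
theorem cj_d_pr (h : Loc3 G Γ) (F : Frame G Γ x y z z' d t) {u : G} (hu : u ∈ Zv G Γ x) :
    cj d (pr d u) = pr d u := by
  unfold pr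
  rw [cj_mul_right, cj_mul_right, F.cj_d3 h hu]
  exact Zv_rot h (cj_mem_Zv h F.hd hu) (cj_mem_Zv h F.hd (cj_mem_Zv h F.hd hu)) hu

theorem pr_cj_d (h : Loc3 G Γ) (F : Frame G Γ x y z z' d t) {u : G} (hu : u ∈ Zv G Γ x) :
    pr d (cj d u) = pr d u := by
  unfold pr
  rw [F.cj_d3 h hu]
  exact Zv_rot h (cj_mem_Zv h F.hd hu) (cj_mem_Zv h F.hd (cj_mem_Zv h F.hd hu)) hu

theorem pr_of_fixed (h : Loc3 G Γ) (_F : Frame G Γ x y z z' d t) {u : G} (hu : u ∈ Zv G Γ x)
    (hf : cj d u = u) : pr d u = u := by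
  unfold pr
  rw [hf, hf, Zv_sq h hu, one_mul]

/-- `π` commutes with the action of `t` -/
theorem cj_t_pr (h : Loc3 G Γ) (F : Frame G Γ x y z z' d t) {u : G} (hu : u ∈ Zv G Γ x) :
    cj t (pr d u) = pr d (cj t u) := by
  unfold pr
  rw [cj_mul_right, cj_mul_right, F.cj_td h hu, F.cj_tdd h hu]
  have hw := cj_mem_Zv h F.htS hu
  exact Zv_swap h hw (cj_mem_Zv h F.hd (cj_mem_Zv h F.hd hw)) (cj_mem_Zv h F.hd hw)

end Frame

/-- induction over `Z_x = ⟨Z_{xy'} : y' ~ x⟩` -/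
theorem Zv_induction (h : Loc3 G Γ) {x : V} {C : G → Prop} {u : G} (hu : u ∈ Zv G Γ x)
    (mem : ∀ y', Γ.Adj x y' → ∀ v ∈ Zed G x y', C v) (one : C 1)
    (mul : ∀ a b, a ∈ Zv G Γ x → b ∈ Zv G Γ x → C a → C b → C (a * b)) : C u := by
  have hle : Zv G Γ x ≤ Subgroup.closure {v | ∃ y', Γ.Adj x y' ∧ v ∈ Zed G x y'} := by
    refine iSup₂_le fun y' hy' => ?_
    intro v hv
    exact Subgroup.subset_closure ⟨y', hy', hv⟩
  have key : ∀ v ∈ Subgroup.closure {v | ∃ y', Γ.Adj x y' ∧ v ∈ Zed G x y'},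
      v ∈ Zv G Γ x ∧ C v := by
    intro v hv
    induction hv using Subgroup.closure_induction with
    | mem v hv =>
      obtain ⟨y', hy', hv'⟩ := hv
      exact ⟨Zed_le_Zv hy' hv', mem y' hy' v hv'⟩
    | one => exact ⟨Subgroup.one_mem _, one⟩
    | mul a b _ _ iha ihb =>
      exact ⟨Subgroup.mul_mem _ iha.1 ihb.1, mul a b iha.1 ihb.1 iha.2 ihb.2⟩
    | inv a _ iha =>
      rw [Zv_inv h iha.1]
      exact iha
  exact (key u (hle hu)).2

namespace Frame

variable {x y z z' : V} {d t : G}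

/-- `π(u)` is fixed by `t` -/
theorem cj_t_pr_eq (h : Loc3 G Γ) (F : Frame G Γ x y z z' d t) {u : G} (hu : u ∈ Zv G Γ x) :
    cj t (pr d u) = pr d u := by
  have hy : ∀ v ∈ Zed G x y, cj t (pr d v) = pr d v := by
    intro v hv
    have hvZ : v ∈ Zv G Γ x := Zed_le_Zv F.hxy hv
    rw [F.cj_t_pr h hvZ, (cj_eq_iff t v).2 (Zed_comm_Ed hv F.ht)]
  refine Zv_induction h (C := fun v => cj t (pr d v) = pr d v) hu ?_ ?_ ?_
  · intro y' hy' v hv
    rcases F.hall y' hy' with rfl | rfl | rfl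
    · exact hy v hv
    · -- `v = cj d a` with `a ∈ Z_{xy}`
      have ha : cj d⁻¹ v ∈ Zed G x y := by
        have := (conj_mem_Zed (g := d) (u := cj d⁻¹ v) (x := x) (y := y)).1
        rw [F.hdx, F.hdy] at this
        apply this
        have e : d * cj d⁻¹ v * d⁻¹ = v := cj_cj_inv d v
        rw [e]
        exact hv
      have haZ := Zed_le_Zv F.hxy ha
      have e : v = cj d (cj d⁻¹ v) := (cj_cj_inv d v).symm
      rw [e, F.pr_cj_d h haZ]
      exact hy _ ha
    · have ha : cj d⁻¹ (cj d⁻¹ v) ∈ Zed G x y := by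
        have := (conj_mem_Zed (g := d * d) (u := cj d⁻¹ (cj d⁻¹ v)) (x := x) (y := y)).1
        rw [mul_smul, mul_smul, F.hdx, F.hdx, F.hdy, F.hdz] at this
        apply this
        have e : d * d * cj d⁻¹ (cj d⁻¹ v) * (d * d)⁻¹ = v := by
          unfold cj
          group
        rw [e]
        exact hv
      have haZ := Zed_le_Zv F.hxy ha
      have e : v = cj d (cj d (cj d⁻¹ (cj d⁻¹ v))) := by
        rw [cj_cj_inv, cj_cj_inv]
      rw [e, F.pr_cj_d h (cj_mem_Zv h F.hd haZ), F.pr_cj_d h haZ]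
      exact hy _ ha
  · show cj t (pr d 1) = pr d 1
    rw [pr_one, cj_one_right]
  · intro a b ha hb iha ihb
    show cj t (pr d (a * b)) = pr d (a * b)
    rw [pr_mul h F.hd ha hb, cj_mul_right, iha, ihb]

/-- `π(u) ∈ Y_x` -/
theorem pr_mem_Yv (h : Loc3 G Γ) (F : Frame G Γ x y z z' d t) {u : G} (hu : u ∈ Zv G Γ x) :
    pr d u ∈ Yv G Γ x := by
  have hP := pr_mem_Zv h F.hd hu
  rw [mem_Yv]
  refine ⟨hP, ?_⟩
  have hdC : d ∈ Subgroup.centralizer ({pr d u} : Set G) := by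
    rw [Subgroup.mem_centralizer_iff]
    intro w hw
    rw [Set.mem_singleton_iff] at hw
    subst hw
    exact ((cj_eq_iff d _).1 (F.cj_d_pr h hu)).symm
  have htC : t ∈ Subgroup.centralizer ({pr d u} : Set G) := by
    rw [Subgroup.mem_centralizer_iff]
    intro w hw
    rw [Set.mem_singleton_iff] at hw
    subst hw
    exact ((cj_eq_iff t _).1 (F.cj_t_pr_eq h hu)).symm
  have hQC : Qk G Γ x ≤ Subgroup.centralizer ({pr d u} : Set G) := by
    intro q hq
    rw [Subgroup.mem_centralizer_iff]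
    intro w hw
    rw [Set.mem_singleton_iff] at hw
    subst hw
    exact Zv_comm_Qk h hP hq
  have hEC : Ed G x y ≤ Subgroup.centralizer ({pr d u} : Set G) := by
    intro e he
    rcases Ed_coset h F.hxy F.ht F.t_not_mem he with h1 | h1
    · exact hQC h1
    · have e' : e = t * (t⁻¹ * e) := by group
      rw [e']
      exact Subgroup.mul_mem _ htC (hQC h1)
  intro g hg
  have hgC : g ∈ Subgroup.centralizer ({pr d u} : Set G) := by
    rcases St_cases h F.hxy F.hall F.hd F.hdy F.hdz hg with h1 | h1 | h1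
    · exact hEC h1
    · have e' : g = d * (d⁻¹ * g) := by group
      rw [e']
      exact Subgroup.mul_mem _ hdC (hEC h1)
    · have e' : g = d * d * (d⁻¹ * d⁻¹ * g) := by group
      rw [e']
      exact Subgroup.mul_mem _ (Subgroup.mul_mem _ hdC hdC) (hEC h1)
  rw [Subgroup.mem_centralizer_iff] at hgC
  exact (hgC _ rfl).symm

/-- **B4**: `Y_x = C_{Z_x}(d)`. -/
theorem mem_Yv_iff (h : Loc3 G Γ) (F : Frame G Γ x y z z' d t) {u : G} :
    u ∈ Yv G Γ x ↔ u ∈ Zv G Γ x ∧ d * u = u * d := by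
  constructor
  · intro hu
    exact ⟨(mem_Yv.1 hu).1, (mem_Yv.1 hu).2 d F.hd⟩
  · rintro ⟨hu, hc⟩
    have := F.pr_mem_Yv h hu
    rwa [F.pr_of_fixed h hu ((cj_eq_iff d u).2 hc)] at this

theorem pr_pr (h : Loc3 G Γ) (F : Frame G Γ x y z z' d t) {u : G} (hu : u ∈ Zv G Γ x) :
    pr d (pr d u) = pr d u :=
  F.pr_of_fixed h (pr_mem_Zv h F.hd hu) (F.cj_d_pr h hu)

/-- `π` does not depend on the choice of the cycling element -/
theorem pr_indep (h : Loc3 G Γ) (F : Frame G Γ x y z z' d t) {d' : G}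
    (hd' : d' ∈ stabilizer G x) (hfpf : ∀ w, Γ.Adj x w → d' • w ≠ w) {u : G}
    (hu : u ∈ Zv G Γ x) : pr d' u = pr d u := by
  have hA := fun w (hw : Γ.Adj x w) => F.hall _ (adj_smul_of_mem_St h hd' hw)
  have inj : ∀ {a b : V}, d' • a = d' • b → a = b := fun hab => smul_left_cancel d' hab
  rcases hA y F.hxy with h1 | h1 | h1
  · exact absurd h1 (hfpf y F.hxy)
  · -- `d'` acts as `d`
    have h3 : d' • z' = y := by
      rcases hA z' F.hxz' with h3 | h3 | h3
      · exact h3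
      · exact absurd (inj (h3.trans h1.symm)) F.hyz'.symm
      · exact absurd h3 (hfpf z' F.hxz')
    have h2 : d' • z = z' := by
      rcases hA z F.hxz with h2 | h2 | h2
      · exact absurd (inj (h2.trans h3.symm)) F.hzz'
      · exact absurd h2 (hfpf z F.hxz)
      · exact h2
    have key : ∀ w ∈ Zv G Γ x, cj d' w = cj d w := fun w hw =>
      F.cj_congr h hd' F.hd (h1.trans F.hdy.symm) (h2.trans F.hdz.symm) (h3.trans F.hdz'.symm) hw
    unfold pr
    rw [key u hu, key _ (cj_mem_Zv h F.hd hu)]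
  · -- `d'` acts as `d * d`
    have h2 : d' • z = y := by
      rcases hA z F.hxz with h2 | h2 | h2
      · exact h2
      · exact absurd h2 (hfpf z F.hxz)
      · exact absurd (inj (h2.trans h1.symm)) F.hyz.symm
    have h3 : d' • z' = z := by
      rcases hA z' F.hxz' with h3 | h3 | h3
      · exact absurd (inj (h3.trans h2.symm)) F.hzz'.symm
      · exact h3
      · exact absurd h3 (hfpf z' F.hxz')
    have key : ∀ w ∈ Zv G Γ x, cj d' w = cj d (cj d w) := by
      intro w hw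
      rw [← cj_mul]
      exact F.cj_congr h hd' (Subgroup.mul_mem _ F.hd F.hd)
        (by rw [h1, mul_smul, F.hdy, F.hdz]) (by rw [h2, mul_smul, F.hdz, F.hdz'])
        (by rw [h3, mul_smul, F.hdz', F.hdy]) hw
    unfold pr
    have ha := cj_mem_Zv h F.hd hu
    have hc := cj_mem_Zv h F.hd ha
    rw [key u hu, key _ hc, F.cj_d3 h ha]
    exact Zv_swap h hu hc ha

/-- `π(u^g) = π(u)` for `g ∈ G_x` -/
theorem pr_cj (h : Loc3 G Γ) (F : Frame G Γ x y z z' d t) {g u : G}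
    (hg : g ∈ stabilizer G x) (hu : u ∈ Zv G Γ x) : pr d (cj g u) = pr d u := by
  have hd' : g⁻¹ * d * g ∈ stabilizer G x :=
    Subgroup.mul_mem _ (Subgroup.mul_mem _ (inv_mem hg) F.hd) hg
  have hfpf : ∀ w, Γ.Adj x w → (g⁻¹ * d * g) • w ≠ w := by
    intro w hw hfix
    rw [mul_smul, mul_smul, inv_smul_eq_iff] at hfix
    have hgw := adj_smul_of_mem_St h hg hw
    rcases F.hall _ hgw with h1 | h1 | h1
    · rw [h1, F.hdy] at hfix
      exact F.hyz hfix.symm
    · rw [h1, F.hdz] at hfix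
      exact F.hzz' hfix.symm
    · rw [h1, F.hdz'] at hfix
      exact F.hyz' hfix
  have e1 : pr d (cj g u) = cj g (pr (g⁻¹ * d * g) u) := by
    unfold pr cj
    group
  rw [e1, F.pr_indep h hd' hfpf hu]
  have hY := (mem_Yv.1 (F.pr_mem_Yv h hu)).2 g hg
  exact (cj_eq_iff g _).2 hY

end Frame

end Cfsg.Agent.Helper2.Gold
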