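import Mathlib
import Cfsg.Agent.Helper2.GoldB3

set_option autoImplicit false

/-!
# S2858 project, piece B4 (second part): `W_x = [Z_x, G_x]` and `Z_x = W_x × Y_x`
-/

namespace Cfsg.Agent.Helper2.Gold

open MulAction Cfsg.Agent.Gold
open scoped commutatorElement

variable {G : Type*} [Group G] {V : Type*} [MulAction G V] {Γ : SimpleGraph V}

/-- `W_x = [Z_x, G_x]`. -/
def Wv (G : Type*) [Group G] {V : Type*} [MulAction G V] (Γ : SimpleGraph V) (x : V) :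
    Subgroup G := ⁅Zv G Γ x, stabilizer G x⁆

/-- `[u, g] = u u^g` for `u ∈ Z_x` -/
theorem comm_eq_mul_cj (h : Loc3 G Γ) {x : V} {u : G} (hu : u ∈ Zv G Γ x) (g : G) :
    ⁅u, g⁆ = u * cj g u := by
  rw [commutatorElement_def, Zv_inv h hu]
  unfold cj
  group

theorem comm_mem_Wv {x : V} {u g : G} (hu : u ∈ Zv G Γ x) (hg : g ∈ stabilizer G x) :
    ⁅u, g⁆ ∈ Wv G Γ x :=
  Subgroup.commutator_mem_commutator hu hg

theorem mul_cj_mem_Wv (h : Loc3 G Γ) {x : V} {u g : G} (hu : u ∈ Zv G Γ x)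
    (hg : g ∈ stabilizer G x) : u * cj g u ∈ Wv G Γ x := by
  rw [← comm_eq_mul_cj h hu g]
  exact comm_mem_Wv hu hg

theorem Wv_le_Zv (h : Loc3 G Γ) (x : V) : Wv G Γ x ≤ Zv G Γ x := by
  unfold Wv
  rw [Subgroup.commutator_le]
  intro u hu g hg
  rw [comm_eq_mul_cj h hu g]
  exact Subgroup.mul_mem _ hu (cj_mem_Zv h hg hu)

theorem Yv_le_Zv (x : V) : Yv G Γ x ≤ Zv G Γ x := inf_le_left

/-- the kernel of `π` -/
def prKer (h : Loc3 G Γ) {x y z z' : V} {d t : G} (F : Frame G Γ x y z z' d t) : Subgroup G where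
  carrier := {w | w ∈ Zv G Γ x ∧ pr d w = 1}
  one_mem' := ⟨Subgroup.one_mem _, pr_one d⟩
  mul_mem' := by
    rintro a b ⟨ha, ha1⟩ ⟨hb, hb1⟩
    exact ⟨Subgroup.mul_mem _ ha hb, by rw [pr_mul h F.hd ha hb, ha1, hb1, one_mul]⟩
  inv_mem' := by
    rintro a ⟨ha, ha1⟩
    show a⁻¹ ∈ Zv G Γ x ∧ pr d a⁻¹ = 1
    rw [Zv_inv h ha]
    exact ⟨ha, ha1⟩

namespace Frame

variable {x y z z' : V} {d t : G}

/-- **B4**: `W_x` is the kernel of `π` on `Z_x`. -/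
theorem mem_Wv_iff (h : Loc3 G Γ) (F : Frame G Γ x y z z' d t) {u : G} :
    u ∈ Wv G Γ x ↔ u ∈ Zv G Γ x ∧ pr d u = 1 := by
  constructor
  · intro hu
    have hle : Wv G Γ x ≤ prKer h F := by
      unfold Wv
      rw [Subgroup.commutator_le]
      intro v hv g hg
      rw [comm_eq_mul_cj h hv g]
      have hc := cj_mem_Zv h hg hv
      refine ⟨Subgroup.mul_mem _ hv hc, ?_⟩
      rw [pr_mul h F.hd hv hc, F.pr_cj h hg hv]
      exact Zv_sq h (pr_mem_Zv h F.hd hv)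
    exact hle hu
  · rintro ⟨hu, h1⟩
    have ha := cj_mem_Zv h F.hd hu
    have hc := cj_mem_Zv h F.hd ha
    have hac : cj d u * cj d (cj d u) ∈ Zv G Γ x := Subgroup.mul_mem _ ha hc
    have e : u = cj d u * cj d (cj d u) := by
      have h2 : u * (cj d u * cj d (cj d u)) = 1 := by
        rw [← mul_assoc]
        exact h1
      exact (eq_inv_of_mul_eq_one_left h2).trans (Zv_inv h hac)
    rw [e]
    exact mul_cj_mem_Wv h ha F.hd

end Frame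

/-- **B4**: `W_x ∩ Y_x = 1`. -/
theorem Wv_inf_Yv (h : Loc3 G Γ) (x : V) : Wv G Γ x ⊓ Yv G Γ x = ⊥ := by
  obtain ⟨y, hxy⟩ := exists_adj h x
  obtain ⟨z, z', d, t, F⟩ := exists_frame h hxy
  rw [eq_bot_iff]
  intro u hu
  obtain ⟨hW, hY⟩ := Subgroup.mem_inf.1 hu
  have h1 := ((F.mem_Wv_iff h).1 hW).2
  have h2 := (F.mem_Yv_iff h).1 hY
  rw [F.pr_of_fixed h h2.1 ((cj_eq_iff d u).2 h2.2)] at h1
  rw [Subgroup.mem_bot]
  exact h1

/-- every element of `Z_x` is a product of an element of `W_x` and one of `Y_x` -/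
theorem exists_mul_of_mem_Zv (h : Loc3 G Γ) {x : V} {u : G} (hu : u ∈ Zv G Γ x) :
    ∃ w ∈ Wv G Γ x, ∃ v ∈ Yv G Γ x, u = w * v := by
  obtain ⟨y, hxy⟩ := exists_adj h x
  obtain ⟨z, z', d, t, F⟩ := exists_frame h hxy
  have hP := pr_mem_Zv h F.hd hu
  refine ⟨u * pr d u, ?_, pr d u, F.pr_mem_Yv h hu, ?_⟩
  · rw [F.mem_Wv_iff h]
    refine ⟨Subgroup.mul_mem _ hu hP, ?_⟩
    rw [pr_mul h F.hd hu hP, F.pr_pr h hu]
    exact Zv_sq h hP
  · rw [mul_assoc, Zv_sq h hP, mul_one]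

/-- **B4**: `Z_x = W_x Y_x`. -/
theorem Wv_sup_Yv (h : Loc3 G Γ) (x : V) : Wv G Γ x ⊔ Yv G Γ x = Zv G Γ x := by
  apply le_antisymm
  · exact sup_le (Wv_le_Zv h x) (Yv_le_Zv x)
  · intro u hu
    obtain ⟨w, hw, v, hv, rfl⟩ := exists_mul_of_mem_Zv h hu
    exact Subgroup.mul_mem _ (Subgroup.mem_sup_left hw) (Subgroup.mem_sup_right hv)

theorem Wv_smul (h : Loc3 G Γ) (g : G) (x : V) :
    Wv G Γ (g • x) = (Wv G Γ x).map (MulAut.conj g).toMonoidHom := by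
  unfold Wv
  rw [Zv_smul h, MulAction.stabilizer_smul_eq_stabilizer_map_conj, ← Subgroup.map_commutator]

theorem conj_mem_Wv (h : Loc3 G Γ) {g u : G} {x : V} :
    g * u * g⁻¹ ∈ Wv G Γ (g • x) ↔ u ∈ Wv G Γ x := by
  rw [Wv_smul h]
  exact conj_mem_map_conj

theorem conj_mem_Wv_of_mem_St (h : Loc3 G Γ) {g u : G} {x : V} (hg : g ∈ stabilizer G x) :
    g * u * g⁻¹ ∈ Wv G Γ x ↔ u ∈ Wv G Γ x := by
  have := conj_mem_Wv h (g := g) (u := u) (x := x)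
  rwa [mem_stabilizer_iff.1 hg] at this

theorem cj_mem_Wv (h : Loc3 G Γ) {g u : G} {x : V} (hg : g ∈ stabilizer G x)
    (hu : u ∈ Wv G Γ x) : cj g u ∈ Wv G Γ x :=
  (conj_mem_Wv_of_mem_St h hg).2 hu

/-- cardinality of an internal direct product -/
theorem card_eq_mul_of_inf_eq_bot {H K L : Subgroup G} (hH : H ≤ L) (hK : K ≤ L)
    (hinf : H ⊓ K = ⊥) (hsup : ∀ u ∈ L, ∃ a ∈ H, ∃ b ∈ K, u = a * b) :
    Nat.card L = Nat.card H * Nat.card K := by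
  rw [← Nat.card_prod]
  symm
  apply Nat.card_congr
  refine Equiv.ofBijective (fun p : H × K => (⟨p.1 * p.2, Subgroup.mul_mem _ (hH p.1.2) (hK p.2.2)⟩ : L))
    ⟨?_, ?_⟩
  · rintro ⟨a, b⟩ ⟨a', b'⟩ hab
    have h1 : (a : G) * b = a' * b' := congrArg Subtype.val hab
    have h2 : (a' : G)⁻¹ * a = b' * (b : G)⁻¹ := by
      calc (a' : G)⁻¹ * a = (a' : G)⁻¹ * (a * b) * (b : G)⁻¹ := by group
        _ = (a' : G)⁻¹ * (a' * b') * (b : G)⁻¹ := by rw [h1]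
        _ = b' * (b : G)⁻¹ := by group
    have h3 : (a' : G)⁻¹ * a ∈ H ⊓ K := by
      refine Subgroup.mem_inf.2 ⟨Subgroup.mul_mem _ (inv_mem a'.2) a.2, ?_⟩
      rw [h2]
      exact Subgroup.mul_mem _ b'.2 (inv_mem b.2)
    rw [hinf, Subgroup.mem_bot] at h3
    have ha : (a : G) = a' := by
      have := congrArg (fun w => (a' : G) * w) h3
      simpa using this
    have hb : (b : G) = b' := by
      rw [ha] at h1
      exact mul_left_cancel h1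
    exact Prod.ext (Subtype.ext ha) (Subtype.ext hb)
  · rintro ⟨u, hu⟩
    obtain ⟨a, ha, b, hb, rfl⟩ := hsup u hu
    exact ⟨(⟨a, ha⟩, ⟨b, hb⟩), rfl⟩

/-- **B4**: `|Z_x| = |W_x| |Y_x|`. -/
theorem card_Zv_eq (h : Loc3 G Γ) (x : V) :
    Nat.card (Zv G Γ x) = Nat.card (Wv G Γ x) * Nat.card (Yv G Γ x) :=
  card_eq_mul_of_inf_eq_bot (Wv_le_Zv h x) (Yv_le_Zv x) (Wv_inf_Yv h x)
    (fun _ hu => exists_mul_of_mem_Zv h hu)

end Cfsg.Agent.Helper2.Gold
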