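import Mathlib
import Cfsg.Agent.Helper2.GoldB4
import Cfsg.Agent.Lead.GoldCritB

set_option autoImplicit false

/-!
# S2858 project, piece B6: the case `|Z_x : Z_{xy}| = 2`

If `Z_{xy}` has index two in `Z_x` then `W_x` is a four-group whose three subgroups of order two are the
groups `R_{xy'} = [Z_x, G_{xy'}]`, `y' ~ x`, `Z_{xy} = R_{xy} × Y_x` and `|Z_x : Y_x| = 4`.
-/

namespace Cfsg.Agent.Helper2.Gold

open MulAction Cfsg.Agent.Gold
open scoped commutatorElement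

variable {G : Type*} [Group G] {V : Type*} [MulAction G V] {Γ : SimpleGraph V}

local notation "Rk" => Cfsg.Agent.Lead.Gold.Rk

theorem fin_Zv (h : Loc3 G Γ) (x : V) : Finite (Zv G Γ x) :=
  have := h.fin x
  Finite.of_injective (Subgroup.inclusion (Zv_le_St (G := G) Γ x)) (Subgroup.inclusion_injective _)

theorem Rk_le_Wv (x y : V) : Rk G Γ x y ≤ Wv G Γ x :=
  Subgroup.commutator_mono le_rfl inf_le_left

/-- `R_{xy} ∩ Y_x = 1`. -/
theorem Rk_inf_Yv (h : Loc3 G Γ) (x y : V) : Rk G Γ x y ⊓ Yv G Γ x = ⊥ := by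
  rw [eq_bot_iff, ← Wv_inf_Yv h x]
  exact inf_le_inf_right _ (Rk_le_Wv x y)

/-- `R_{xy} ∩ R_{xy'} = 1` for distinct neighbours `y, y'` of `x`. -/
theorem Rk_inf_Rk (h : Loc3 G Γ) {x y y' : V} (hxy : Γ.Adj x y) (hxy' : Γ.Adj x y') (hne : y ≠ y') :
    Rk G Γ x y ⊓ Rk G Γ x y' = ⊥ := by
  rw [eq_bot_iff, ← Wv_inf_Yv h x, ← Zed_inf_Zed h hxy hxy' hne]
  refine le_inf (inf_le_left.trans (Rk_le_Wv x y)) ?_
  exact inf_le_inf (Cfsg.Agent.Lead.Gold.Rk_le_Zed h hxy) (Cfsg.Agent.Lead.Gold.Rk_le_Zed h hxy')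

/-- index two: the product of two elements of `Z_x` outside `Z_{xy}` lies in `Z_{xy}` -/
theorem mul_mem_Zed_of_not_mem (h : Loc3 G Γ) {x y : V} (hxy : Γ.Adj x y)
    (hcard : Nat.card (Zv G Γ x) = 2 * Nat.card (Zed G x y)) {u v : G} (hu : u ∈ Zv G Γ x)
    (huZ : u ∉ Zed G x y) (hv : v ∈ Zv G Γ x) (hvZ : v ∉ Zed G x y) : u * v ∈ Zed G x y := by
  have := fin_Zv h x
  rcases Cfsg.Agent.Lead.Gold.coset_of_card (Zed_le_Zv hxy) hcard hu huZ hv with h1 | h1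
  · exact absurd h1 hvZ
  · rwa [Zv_inv h hu] at h1

namespace Frame

variable {x y z z' : V} {d t : G}

theorem cj_d_mem_Zed_z (F : Frame G Γ x y z z' d t) {u : G} :
    cj d u ∈ Zed G x z ↔ u ∈ Zed G x y := by
  have := conj_mem_Zed (g := d) (u := u) (x := x) (y := y)
  rwa [F.hdx, F.hdy] at this

theorem cj_d_mem_Zed_z' (F : Frame G Γ x y z z' d t) {u : G} :
    cj d u ∈ Zed G x z' ↔ u ∈ Zed G x z := by
  have := conj_mem_Zed (g := d) (u := u) (x := x) (y := z)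
  rwa [F.hdx, F.hdz] at this

theorem cj_d_mem_Zed_y (F : Frame G Γ x y z z' d t) {u : G} :
    cj d u ∈ Zed G x y ↔ u ∈ Zed G x z' := by
  have := conj_mem_Zed (g := d) (u := u) (x := x) (y := z')
  rwa [F.hdx, F.hdz'] at this

/-- an element of `W_x` lying in `Z_{xy}` together with its `d`-conjugate is trivial -/
theorem eq_one_of_mem_mem (h : Loc3 G Γ) (F : Frame G Γ x y z z' d t) {w : G}
    (hw : w ∈ Wv G Γ x) (h1 : w ∈ Zed G x y) (h2 : cj d w ∈ Zed G x y) : w = 1 := by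
  have h3 : w ∈ Zed G x y ⊓ Zed G x z' := Subgroup.mem_inf.2 ⟨h1, F.cj_d_mem_Zed_y.1 h2⟩
  rw [Zed_inf_Zed h F.hxy F.hxz' F.hyz'] at h3
  have h4 : w ∈ Wv G Γ x ⊓ Yv G Γ x := Subgroup.mem_inf.2 ⟨hw, h3⟩
  rw [Wv_inf_Yv h x, Subgroup.mem_bot] at h4
  exact h4

theorem cj_d_cj_d_eq (h : Loc3 G Γ) (F : Frame G Γ x y z z' d t) {w : G} (hw : w ∈ Wv G Γ x) :
    cj d (cj d w) = w * cj d w := by
  have hwZ := Wv_le_Zv h x hw
  have h1 := ((F.mem_Wv_iff h).1 hw).2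
  unfold pr at h1
  have h2 : cj d (cj d w) = (w * cj d w)⁻¹ := eq_inv_of_mul_eq_one_right h1
  rw [h2]
  exact Zv_inv h (Subgroup.mul_mem _ hwZ (cj_mem_Zv h F.hd hwZ))

/-- one of `w, w^d, w^{d²}` lies in `Z_{xy}` -/
theorem exists_mem_Zed (h : Loc3 G Γ) (F : Frame G Γ x y z z' d t)
    (hcard : Nat.card (Zv G Γ x) = 2 * Nat.card (Zed G x y)) {w : G} (hw : w ∈ Wv G Γ x) :
    w ∈ Zed G x y ∨ cj d w ∈ Zed G x y ∨ cj d (cj d w) ∈ Zed G x y := by
  by_cases h1 : w ∈ Zed G x y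
  · exact Or.inl h1
  by_cases h2 : cj d w ∈ Zed G x y
  · exact Or.inr (Or.inl h2)
  right; right
  have hwZ := Wv_le_Zv h x hw
  rw [F.cj_d_cj_d_eq h hw]
  exact mul_mem_Zed_of_not_mem h F.hxy hcard hwZ h1 (cj_mem_Zv h F.hd hwZ) h2

/-- `Z_{xy} ∩ W_x` has at most one nontrivial element -/
theorem eq_of_mem_inf (h : Loc3 G Γ) (F : Frame G Γ x y z z' d t)
    (hcard : Nat.card (Zv G Γ x) = 2 * Nat.card (Zed G x y)) {r r' : G} (hr : r ∈ Wv G Γ x)
    (hrZ : r ∈ Zed G x y) (hr1 : r ≠ 1) (hr' : r' ∈ Wv G Γ x) (hrZ' : r' ∈ Zed G x y)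
    (hr1' : r' ≠ 1) : r = r' := by
  have hn : cj d r ∉ Zed G x y := fun hc => hr1 (F.eq_one_of_mem_mem h hr hrZ hc)
  have hn' : cj d r' ∉ Zed G x y := fun hc => hr1' (F.eq_one_of_mem_mem h hr' hrZ' hc)
  have hrr : r * r' ∈ Wv G Γ x := Subgroup.mul_mem _ hr hr'
  have h1 : cj d (r * r') ∈ Zed G x y := by
    rw [cj_mul_right]
    exact mul_mem_Zed_of_not_mem h F.hxy hcard (cj_mem_Zv h F.hd (Wv_le_Zv h x hr)) hn
      (cj_mem_Zv h F.hd (Wv_le_Zv h x hr')) hn'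
  have h2 := F.eq_one_of_mem_mem h hrr (Subgroup.mul_mem _ hrZ hrZ') h1
  have h3 : r = r'⁻¹ := eq_inv_of_mul_eq_one_left h2
  rw [h3]
  exact Zv_inv h (Wv_le_Zv h x hr')

end Frame

theorem Wv_ne_bot (h : Loc3 G Γ) {x y : V} (hxy : Γ.Adj x y)
    (hcard : Nat.card (Zv G Γ x) = 2 * Nat.card (Zed G x y)) : Wv G Γ x ≠ ⊥ := by
  intro hbot
  have h1 := Wv_sup_Yv h x
  rw [hbot, bot_sup_eq] at h1
  have hle : Zv G Γ x ≤ Zed G x y := by
    rw [← h1]
    exact Yv_le_Zed h hxy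
  have := fin_Zv h x
  have hfinZ : Finite (Zed G x y) :=
    Finite.of_injective (Subgroup.inclusion (Zed_le_Zv hxy)) (Subgroup.inclusion_injective _)
  have h2 : Nat.card (Zv G Γ x) ≤ Nat.card (Zed G x y) := Subgroup.card_le_of_le hle
  have : 0 < Nat.card (Zed G x y) := Nat.card_pos
  omega

namespace Frame

variable {x y z z' : V} {d t : G}

/-- **B6**: the generator `r` of `R_{xy}` and the description of `W_x`. -/
theorem exists_gen (h : Loc3 G Γ) (F : Frame G Γ x y z z' d t)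
    (hcard : Nat.card (Zv G Γ x) = 2 * Nat.card (Zed G x y)) :
    ∃ r : G, r ≠ 1 ∧ r ∈ Wv G Γ x ∧ r ∈ Zed G x y ∧
      (∀ u ∈ Wv G Γ x, u ∈ Zed G x y → u = 1 ∨ u = r) ∧
      (∀ w ∈ Wv G Γ x, w = 1 ∨ w = r ∨ w = cj d r ∨ w = cj d (cj d r)) ∧
      r * cj d r * cj d (cj d r) = 1 := by
  obtain ⟨w, hw, hw1⟩ : ∃ w ∈ Wv G Γ x, w ≠ 1 := by
    by_contra hcon
    push Not at hcon
    apply Wv_ne_bot h F.hxy hcard
    rw [eq_bot_iff]
    intro u hu
    rw [Subgroup.mem_bot]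
    exact hcon u hu
  -- a nontrivial element of `W_x ∩ Z_{xy}`
  obtain ⟨r, hr, hrZ, hr1⟩ : ∃ r ∈ Wv G Γ x, r ∈ Zed G x y ∧ r ≠ 1 := by
    rcases F.exists_mem_Zed h hcard hw with h1 | h1 | h1
    · exact ⟨w, hw, h1, hw1⟩
    · refine ⟨cj d w, cj_mem_Wv h F.hd hw, h1, ?_⟩
      intro h0
      apply hw1
      apply cj_injective d
      rw [h0, cj_one_right]
    · refine ⟨cj d (cj d w), cj_mem_Wv h F.hd (cj_mem_Wv h F.hd hw), h1, ?_⟩
      intro h0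
      apply hw1
      apply cj_injective d
      apply cj_injective d
      rw [h0, cj_one_right, cj_one_right]
  have hrW := ((F.mem_Wv_iff h).1 hr).2
  refine ⟨r, hr1, hr, hrZ, ?_, ?_, hrW⟩
  · intro u hu huZ
    by_cases hu1 : u = 1
    · exact Or.inl hu1
    · exact Or.inr (F.eq_of_mem_inf h hcard hu huZ hu1 hr hrZ hr1)
  · intro v hv
    by_cases hv1 : v = 1
    · exact Or.inl hv1
    right
    have hvZ := Wv_le_Zv h x hv
    rcases F.exists_mem_Zed h hcard hv with h1 | h1 | h1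
    · exact Or.inl (F.eq_of_mem_inf h hcard hv h1 hv1 hr hrZ hr1)
    · -- `cj d v = r`, so `v = cj d (cj d r)`
      right; right
      have hne : cj d v ≠ 1 := by
        intro h0
        apply hv1
        apply cj_injective d
        rw [h0, cj_one_right]
      have e := F.eq_of_mem_inf h hcard (cj_mem_Wv h F.hd hv) h1 hne hr hrZ hr1
      rw [← e, F.cj_d3 h hvZ]
    · right; left
      have hne : cj d (cj d v) ≠ 1 := by
        intro h0
        apply hv1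
        apply cj_injective d
        apply cj_injective d
        rw [h0, cj_one_right, cj_one_right]
      have e := F.eq_of_mem_inf h hcard (cj_mem_Wv h F.hd (cj_mem_Wv h F.hd hv)) h1 hne hr hrZ hr1
      rw [← e, F.cj_d3 h hvZ]

end Frame

/-! ### transport to the other neighbours, cardinalities -/

theorem card_Zed_smul (g : G) (x y : V) :
    Nat.card (Zed G (g • x) (g • y)) = Nat.card (Zed G x y) := by
  symm
  apply Nat.card_congr
  refine ⟨fun u => ⟨g * u * g⁻¹, conj_mem_Zed.2 u.2⟩, fun v => ⟨g⁻¹ * v * g, ?_⟩, ?_, ?_⟩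
  · have e : (v : G) = g * (g⁻¹ * v * g) * g⁻¹ := by group
    have hv := v.2
    rw [e] at hv
    exact conj_mem_Zed.1 hv
  · intro u
    apply Subtype.ext
    show g⁻¹ * (g * (u : G) * g⁻¹) * g = u
    group
  · intro v
    apply Subtype.ext
    show g * (g⁻¹ * (v : G) * g) * g⁻¹ = v
    group

/-- the index two hypothesis holds at every neighbour of `x` as soon as it holds at one -/
theorem card_Zv_of_adj (h : Loc3 G Γ) {x y y' : V} (hxy : Γ.Adj x y) (hxy' : Γ.Adj x y')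
    (hcard : Nat.card (Zv G Γ x) = 2 * Nat.card (Zed G x y)) :
    Nat.card (Zv G Γ x) = 2 * Nat.card (Zed G x y') := by
  obtain ⟨g, hg, hgy⟩ := h.trans hxy hxy'
  have := card_Zed_smul g x y
  rw [mem_stabilizer_iff.1 hg, hgy] at this
  rw [this]
  exact hcard

theorem Rk_smul (h : Loc3 G Γ) (g : G) (x y : V) :
    Rk G Γ (g • x) (g • y) = (Rk G Γ x y).map (MulAut.conj g).toMonoidHom := by
  unfold Cfsg.Agent.Lead.Gold.Rk
  rw [Zv_smul h, Ed_smul, ← Subgroup.map_commutator]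

theorem conj_mem_Rk (h : Loc3 G Γ) {g u : G} {x y : V} :
    g * u * g⁻¹ ∈ Rk G Γ (g • x) (g • y) ↔ u ∈ Rk G Γ x y := by
  rw [Rk_smul h]
  exact conj_mem_map_conj

/-- `R_{xy} ≠ 1` under the index two hypothesis -/
theorem exists_mem_Rk_ne_one (h : Loc3 G Γ) {x y : V} (hxy : Γ.Adj x y)
    (hcard : Nat.card (Zv G Γ x) = 2 * Nat.card (Zed G x y)) : ∃ u ∈ Rk G Γ x y, u ≠ 1 := by
  by_contra hcon
  push Not at hcon
  have hbot : Rk G Γ x y = ⊥ := by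
    rw [eq_bot_iff]
    intro u hu
    rw [Subgroup.mem_bot]
    exact hcon u hu
  have h2 := Cfsg.Agent.Lead.Gold.card_Rk h hxy hcard
  rw [hbot, Subgroup.card_bot] at h2
  omega

namespace Frame

variable {x y z z' : V} {d t : G}

/-- **B6**: `R_{xy} = Z_{xy} ∩ W_x`. -/
theorem Rk_eq_inf (h : Loc3 G Γ) (F : Frame G Γ x y z z' d t)
    (hcard : Nat.card (Zv G Γ x) = 2 * Nat.card (Zed G x y)) :
    Rk G Γ x y = Zed G x y ⊓ Wv G Γ x := by
  apply le_antisymm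
  · exact le_inf (Cfsg.Agent.Lead.Gold.Rk_le_Zed h F.hxy) (Rk_le_Wv x y)
  · obtain ⟨r, hr1, hrW, hrZ, huniq, -, -⟩ := F.exists_gen h hcard
    obtain ⟨u, hu, hu1⟩ := exists_mem_Rk_ne_one h F.hxy hcard
    have hur : u = r := by
      rcases huniq u (Rk_le_Wv x y hu) (Cfsg.Agent.Lead.Gold.Rk_le_Zed h F.hxy hu) with h0 | h0
      · exact absurd h0 hu1
      · exact h0
    intro v hv
    obtain ⟨hvZ, hvW⟩ := Subgroup.mem_inf.1 hv
    rcases huniq v hvW hvZ with h0 | h0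
    · rw [h0]
      exact Subgroup.one_mem _
    · rw [h0, ← hur]
      exact hu

theorem cj_d_mem_Rk_z (h : Loc3 G Γ) (F : Frame G Γ x y z z' d t) {u : G} :
    cj d u ∈ Rk G Γ x z ↔ u ∈ Rk G Γ x y := by
  have := conj_mem_Rk h (g := d) (u := u) (x := x) (y := y)
  rwa [F.hdx, F.hdy] at this

/-- **B6**: `W_x = R_{xy} R_{xz}`, as a product decomposition. -/
theorem exists_mul_of_mem_Wv (h : Loc3 G Γ) (F : Frame G Γ x y z z' d t)
    (hcard : Nat.card (Zv G Γ x) = 2 * Nat.card (Zed G x y)) {w : G} (hw : w ∈ Wv G Γ x) :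
    ∃ a ∈ Rk G Γ x y, ∃ b ∈ Rk G Γ x z, w = a * b := by
  obtain ⟨r, hr1, hrW, hrZ, -, hall, -⟩ := F.exists_gen h hcard
  have hrR : r ∈ Rk G Γ x y := by
    rw [F.Rk_eq_inf h hcard]
    exact Subgroup.mem_inf.2 ⟨hrZ, hrW⟩
  have hcR : cj d r ∈ Rk G Γ x z := (F.cj_d_mem_Rk_z h).2 hrR
  rcases hall w hw with h0 | h0 | h0 | h0
  · exact ⟨1, Subgroup.one_mem _, 1, Subgroup.one_mem _, by rw [h0, one_mul]⟩
  · exact ⟨r, hrR, 1, Subgroup.one_mem _, by rw [h0, mul_one]⟩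
  · exact ⟨1, Subgroup.one_mem _, cj d r, hcR, by rw [h0, one_mul]⟩
  · exact ⟨r, hrR, cj d r, hcR, by rw [h0, F.cj_d_cj_d_eq h hrW]⟩

end Frame

/-- **B6**: `|W_x| = 4`. -/
theorem card_Wv (h : Loc3 G Γ) {x y : V} (hxy : Γ.Adj x y)
    (hcard : Nat.card (Zv G Γ x) = 2 * Nat.card (Zed G x y)) : Nat.card (Wv G Γ x) = 4 := by
  obtain ⟨z, z', d, t, F⟩ := exists_frame h hxy
  have h1 := card_eq_mul_of_inf_eq_bot (Rk_le_Wv (G := G) (Γ := Γ) x y) (Rk_le_Wv x z)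
    (Rk_inf_Rk h F.hxy F.hxz F.hyz) (fun _ hw => F.exists_mul_of_mem_Wv h hcard hw)
  rw [h1, Cfsg.Agent.Lead.Gold.card_Rk h hxy hcard,
    Cfsg.Agent.Lead.Gold.card_Rk h F.hxz (card_Zv_of_adj h hxy F.hxz hcard)]

/-- **B6**: `|Z_x : Y_x| = 4`. -/
theorem card_Zv_eq_four_mul (h : Loc3 G Γ) {x y : V} (hxy : Γ.Adj x y)
    (hcard : Nat.card (Zv G Γ x) = 2 * Nat.card (Zed G x y)) :
    Nat.card (Zv G Γ x) = 4 * Nat.card (Yv G Γ x) := by
  rw [card_Zv_eq h x, card_Wv h hxy hcard]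

/-- the frame with `z` and `z'` exchanged -/
theorem Frame.swap {x y z z' : V} {d t : G} (F : Frame G Γ x y z z' d t) :
    Frame G Γ x y z' z (d * d) t where
  hxy := F.hxy
  hxz := F.hxz'
  hxz' := F.hxz
  hzz' := F.hzz'.symm
  hyz := F.hyz'
  hyz' := F.hyz
  hall := fun w hw => by
    rcases F.hall w hw with h0 | h0 | h0
    · exact Or.inl h0
    · exact Or.inr (Or.inr h0)
    · exact Or.inr (Or.inl h0)
  hd := Subgroup.mul_mem _ F.hd F.hd
  hdy := by rw [mul_smul, F.hdy, F.hdz]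
  hdz := by rw [mul_smul, F.hdz', F.hdy]
  hdz' := by rw [mul_smul, F.hdz, F.hdz']
  ht := F.ht
  htz := F.htz'
  htz' := F.htz

/-- **B6**: `W_x = R_{xy} R_{xy'}` for distinct neighbours `y, y'` of `x`. -/
theorem Wv_eq_sup (h : Loc3 G Γ) {x y y' : V} (hxy : Γ.Adj x y) (hxy' : Γ.Adj x y') (hne : y ≠ y')
    (hcard : Nat.card (Zv G Γ x) = 2 * Nat.card (Zed G x y)) :
    Wv G Γ x = Rk G Γ x y ⊔ Rk G Γ x y' := by
  obtain ⟨z, z', d, t, F⟩ := exists_frame h hxy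
  apply le_antisymm
  · intro w hw
    rcases F.hall y' hxy' with h0 | h0 | h0
    · exact absurd h0.symm hne
    · subst h0
      obtain ⟨a, ha, b, hb, rfl⟩ := F.exists_mul_of_mem_Wv h hcard hw
      exact Subgroup.mul_mem _ (Subgroup.mem_sup_left ha) (Subgroup.mem_sup_right hb)
    · subst h0
      obtain ⟨a, ha, b, hb, rfl⟩ := F.swap.exists_mul_of_mem_Wv h hcard hw
      exact Subgroup.mul_mem _ (Subgroup.mem_sup_left ha) (Subgroup.mem_sup_right hb)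
  · exact sup_le (Rk_le_Wv x y) (Rk_le_Wv x y')

/-- **B6**: `Z_{xy} = R_{xy} Y_x`. -/
theorem Zed_eq_sup (h : Loc3 G Γ) {x y : V} (hxy : Γ.Adj x y)
    (hcard : Nat.card (Zv G Γ x) = 2 * Nat.card (Zed G x y)) :
    Zed G x y = Rk G Γ x y ⊔ Yv G Γ x := by
  obtain ⟨z, z', d, t, F⟩ := exists_frame h hxy
  apply le_antisymm
  · intro u hu
    obtain ⟨w, hw, v, hv, rfl⟩ := exists_mul_of_mem_Zv h (Zed_le_Zv hxy hu)
    have hvZ : v ∈ Zed G x y := Yv_le_Zed h hxy hv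
    have hwZ : w ∈ Zed G x y := by
      have : w = w * v * v⁻¹ := by group
      rw [this]
      exact Subgroup.mul_mem _ hu (inv_mem hvZ)
    have hwR : w ∈ Rk G Γ x y := by
      rw [F.Rk_eq_inf h hcard]
      exact Subgroup.mem_inf.2 ⟨hwZ, hw⟩
    exact Subgroup.mul_mem _ (Subgroup.mem_sup_left hwR) (Subgroup.mem_sup_right hv)
  · exact sup_le (Cfsg.Agent.Lead.Gold.Rk_le_Zed h hxy) (Yv_le_Zed h hxy)

/-- **B6**: distinct neighbours give distinct groups `R_{xy}`. -/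
theorem Rk_ne (h : Loc3 G Γ) {x y y' : V} (hxy : Γ.Adj x y) (hxy' : Γ.Adj x y') (hne : y ≠ y')
    (hcard : Nat.card (Zv G Γ x) = 2 * Nat.card (Zed G x y)) : Rk G Γ x y ≠ Rk G Γ x y' := by
  intro heq
  obtain ⟨u, hu, hu1⟩ := exists_mem_Rk_ne_one h hxy hcard
  have h1 : u ∈ Rk G Γ x y ⊓ Rk G Γ x y' := Subgroup.mem_inf.2 ⟨hu, heq ▸ hu⟩
  rw [Rk_inf_Rk h hxy hxy' hne, Subgroup.mem_bot] at h1
  exact hu1 h1

end Cfsg.Agent.Helper2.Gold
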