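import Mathlib

/-!
Helper lemma (helper2): a simple graph in which any two distinct vertices are adjacent or have a
common neighbour, and which has two distinct non-adjacent vertices, is connected of diameter 2.
-/

set_option autoImplicit false

namespace Cfsg.Agent.Helper2.GraphDiam2

open SimpleGraph

theorem connected_and_diam_eq_two {α : Type*} [Nonempty α] (G : SimpleGraph α)
    (h2 : ∀ u v : α, u ≠ v → G.Adj u v ∨ ∃ w, G.Adj u w ∧ G.Adj w v)
    (hne : ∃ u v : α, u ≠ v ∧ ¬ G.Adj u v) :
    G.Connected ∧ G.diam = 2 := by
  have hreach : ∀ u v : α, G.Reachable u v := by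
    intro u v
    by_cases huv : u = v
    · subst huv; exact Reachable.refl _
    · rcases h2 u v huv with h | ⟨w, h1, h2'⟩
      · exact h.reachable
      · exact h1.reachable.trans h2'.reachable
  have hconn : G.Connected := ⟨hreach⟩
  refine ⟨hconn, ?_⟩
  have hdist : ∀ u v : α, G.dist u v ≤ 2 := by
    intro u v
    by_cases huv : u = v
    · subst huv; simp
    · rcases h2 u v huv with h | ⟨w, h1, h2'⟩
      · have : G.dist u v = 1 := dist_eq_one_iff_adj.mpr h
        omega
      · have hw : G.dist u v ≤ G.dist u w + G.dist w v := hconn.dist_triangle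
        have e1 : G.dist u w = 1 := dist_eq_one_iff_adj.mpr h1
        have e2 : G.dist w v = 1 := dist_eq_one_iff_adj.mpr h2'
        omega
  have hedist : ∀ u v : α, G.edist u v ≤ 2 := by
    intro u v
    have hr : G.Reachable u v := hreach u v
    have : G.edist u v = (G.dist u v : ℕ∞) := hr.coe_dist_eq_edist.symm
    rw [this]
    exact_mod_cast hdist u v
  have hediam : G.ediam ≤ 2 := ediam_le_of_edist_le hedist
  have hnetop : G.ediam ≠ ⊤ := by
    intro h; rw [h] at hediam; exact absurd hediam (by simp)
  obtain ⟨u, v, huv, hnadj⟩ := hne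
  have hd2 : G.dist u v = 2 := by
    have h1 : G.dist u v ≠ 0 := by
      intro h0
      exact huv ((hreach u v).dist_eq_zero_iff.mp h0)
    have h2' : G.dist u v ≠ 1 := by
      intro h1'
      exact hnadj (dist_eq_one_iff_adj.mp h1')
    have := hdist u v
    omega
  have hle : G.dist u v ≤ G.diam := dist_le_diam hnetop
  have hdiamle : G.diam ≤ 2 := by
    unfold SimpleGraph.diam
    have : G.ediam.toNat ≤ (2 : ℕ∞).toNat := ENat.toNat_le_toNat hediam (by simp)
    simpa using this
  omega

end Cfsg.Agent.Helper2.GraphDiam2
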