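import Mathlib
import Cfsg.Prelude.Def_Solvable
import Cfsg.Prelude.Def_CaseTheorems
import Cfsg.Prelude.Def_Transfer
import Cfsg.Agent.Helper1.Coprime
import Cfsg.Agent.Helper1.Fitting
import Cfsg.Agent.Helper1.Fitting2
import Cfsg.Agent.Helper4.HallHigman
import Cfsg.Agent.Helper4.SolvPSolv
import Cfsg.Agent.Helper4.CyclicCentB
import Cfsg.Agent.Helper5.AxB
import Cfsg.Agent.Helper5.Cores
import Cfsg.Agent.Helper5.Misc
import Cfsg.Agent.Helper5.PClosedQuot
import Cfsg.Agent.S0058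

set_option autoImplicit false

/-!
Solvable groups with `O(H) = 1` in which centralizers of involutions have normal
`2`-complements: the Hall `2'`-subgroups act semiregularly on `O₂(H)`.
-/

namespace Cfsg.Agent.Helper2.HallFrob

variable {H : Type*} [Group H] [Finite H]

/-- an element both of odd order and of `2`-power order is trivial. -/
theorem eq_one_of_odd_of_two_pow {x : H} (hx : Odd (orderOf x)) {k : ℕ} (hk : x ^ 2 ^ k = 1) :
    x = 1 := by
  have h1 : orderOf x ∣ 2 ^ k := orderOf_dvd_of_pow_eq_one hk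
  have h2 : (orderOf x).Coprime (2 ^ k) := (Nat.coprime_two_right.mpr hx).pow_right k
  exact orderOf_eq_one_iff.mp (Nat.Coprime.eq_one_of_dvd h2 h1)

section

variable (hsol : Group.IsSolvable H) (hO : Cfsg.oddCore H = ⊥)
  (hI : ∀ t : H, orderOf t = 2 →
    Cfsg.HasNormalPComplement 2 ↥(Subgroup.centralizer ({t} : Set H)))

include hsol hO in
theorem centralizer_pCore_le : Subgroup.centralizer (Cfsg.pCore 2 H : Set H) ≤ Cfsg.pCore 2 H :=
  Cfsg.Agent.Helper4.centralizer_pCore_le_of_isPSolvable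
    (Cfsg.Agent.Helper4.SolvPSolv.isPSolvable_of_isSolvable 2 hsol) hO

include hsol hO hI in
/-- no nontrivial element of odd order commutes with an involution. -/
theorem eq_one_of_comm_invol {x t : H} (hx : Odd (orderOf x)) (ht : orderOf t = 2)
    (hxt : x * t = t * x) : x = 1 := by
  have hY2 : IsPGroup 2 (Cfsg.pCore 2 H) := Cfsg.Agent.Helper5.isPGroup_pCore 2
  have hYn : (Cfsg.pCore 2 H).Normal := Cfsg.Agent.Helper4.pCore_normal
  have hHH := centralizer_pCore_le hsol hO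
  obtain ⟨P, N, hNn, hNP⟩ := hI t ht
  have hxC : x ∈ Subgroup.centralizer ({t} : Set H) := by
    rw [Subgroup.mem_centralizer_iff]
    intro h hh
    rw [Set.mem_singleton_iff] at hh
    rw [hh]; exact hxt.symm
  -- `N` has odd order
  have hcard := hNP.card_mul_card
  have hPc := P.card_eq_multiplicity
  have hC0 : Nat.card ↥(Subgroup.centralizer ({t} : Set H)) ≠ 0 := Nat.card_pos.ne'
  have hNcop : (Nat.card N).Coprime 2 := by
    have h1 := Nat.coprime_ordCompl Nat.prime_two hC0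
    have h2 : Nat.card N = Nat.card ↥(Subgroup.centralizer ({t} : Set H)) /
        2 ^ (Nat.card ↥(Subgroup.centralizer ({t} : Set H))).factorization 2 := by
      rw [← hPc, ← hcard, Nat.mul_div_cancel _ Nat.card_pos]
    rw [h2]
    exact h1.symm
  -- `x ∈ N`
  have hidx : N.index = Nat.card P := by
    have h1 := N.card_mul_index
    rw [← hcard] at h1
    exact Nat.eq_of_mul_eq_mul_left Nat.card_pos h1
  have hxN : (⟨x, hxC⟩ : ↥(Subgroup.centralizer ({t} : Set H))) ∈ N := by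
    haveI := hNn
    have h1 := N.pow_index_mem (⟨x, hxC⟩ : ↥(Subgroup.centralizer ({t} : Set H)))
    rw [hidx, hPc] at h1
    have h2 : (⟨x, hxC⟩ : ↥(Subgroup.centralizer ({t} : Set H))) ^ orderOf x ∈ N := by
      have : (⟨x, hxC⟩ : ↥(Subgroup.centralizer ({t} : Set H))) ^ orderOf x = 1 := by
        apply Subtype.ext
        simp [pow_orderOf_eq_one]
      rw [this]; exact one_mem _
    have hcop : (2 ^ (Nat.card ↥(Subgroup.centralizer ({t} : Set H))).factorization 2).Coprime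
        (orderOf x) := ((Nat.coprime_two_right.mpr hx).pow_right _).symm
    exact Cfsg.Agent.Helper5.mem_of_pow_mem_of_coprime N _ _ _ hcop h1 h2
  -- the `A × B` lemma
  have hB : IsPGroup 2 (Subgroup.zpowers t) := by
    apply IsPGroup.of_card (n := 1)
    rw [Nat.card_zpowers, ht, pow_one]
  have hcB : x ∈ Subgroup.centralizer ((Subgroup.zpowers t : Subgroup H) : Set H) := by
    rw [Subgroup.mem_centralizer_iff]
    intro b hb
    obtain ⟨i, rfl⟩ := Subgroup.mem_zpowers_iff.mp hb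
    have hc : Commute t x := hxt.symm
    exact (hc.zpow_left i).eq
  have hxY : x ∈ Subgroup.normalizer ((Cfsg.pCore 2 H : Subgroup H) : Set H) := by
    rw [Subgroup.normalizer_eq_top]; exact Subgroup.mem_top x
  have hBY : Subgroup.zpowers t ≤ Subgroup.normalizer ((Cfsg.pCore 2 H : Subgroup H) : Set H) := by
    rw [Subgroup.normalizer_eq_top]; exact le_top
  have hall := Cfsg.Agent.Helper5.thompson_AxB (Subgroup.zpowers t) hB x
    (Nat.coprime_two_right.mpr hx) hcB (Cfsg.pCore 2 H) hY2 hxY hBY (by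
      intro r hr hrB
      have hrt : t * r = r * t :=
        (Subgroup.mem_centralizer_iff.mp hrB) t (Subgroup.mem_zpowers t)
      have hrC : r ∈ Subgroup.centralizer ({t} : Set H) := by
        rw [Subgroup.mem_centralizer_iff]
        intro h hh
        rw [Set.mem_singleton_iff] at hh
        rw [hh]; exact hrt
      -- the commutator lies in `N ∩ Y`
      have hw' : (⟨r, hrC⟩ : ↥(Subgroup.centralizer ({t} : Set H))) * ⟨x, hxC⟩ * ⟨r, hrC⟩⁻¹ *
          ⟨x, hxC⟩⁻¹ ∈ N := mul_mem (hNn.conj_mem _ hxN _) (inv_mem hxN)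
      have hwY : r * x * r⁻¹ * x⁻¹ ∈ Cfsg.pCore 2 H := by
        have h1 : x * r⁻¹ * x⁻¹ ∈ Cfsg.pCore 2 H := hYn.conj_mem _ (inv_mem hr) x
        have h2 : r * x * r⁻¹ * x⁻¹ = r * (x * r⁻¹ * x⁻¹) := by group
        rw [h2]; exact mul_mem hr h1
      obtain ⟨k, hk⟩ := hY2 ⟨_, hwY⟩
      have hk' : (r * x * r⁻¹ * x⁻¹) ^ 2 ^ k = 1 := by
        have := congrArg Subtype.val hk
        simpa using this
      have hodd : Odd (orderOf (r * x * r⁻¹ * x⁻¹)) := by
        have h1 := Subgroup.orderOf_dvd_natCard N hw'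
        have h2 : orderOf ((⟨r, hrC⟩ : ↥(Subgroup.centralizer ({t} : Set H))) * ⟨x, hxC⟩ *
          ⟨r, hrC⟩⁻¹ * ⟨x, hxC⟩⁻¹) = orderOf (r * x * r⁻¹ * x⁻¹) := by
          rw [← Subgroup.orderOf_coe]
          rfl
        rw [h2] at h1
        exact Nat.coprime_two_right.mp (hNcop.coprime_dvd_left h1)
      have h1 := eq_one_of_odd_of_two_pow hodd hk'
      have h2 : x * r = (r * x * r⁻¹ * x⁻¹)⁻¹ * (r * x) := by group
      rw [h2, h1, inv_one, one_mul])
  have hxcent : x ∈ Subgroup.centralizer (Cfsg.pCore 2 H : Set H) := by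
    rw [Subgroup.mem_centralizer_iff]
    intro r hr
    exact (hall r hr).symm
  have hxY' := hHH hxcent
  obtain ⟨k, hk⟩ := hY2 ⟨x, hxY'⟩
  have hk' : x ^ 2 ^ k = 1 := by
    have := congrArg Subtype.val hk
    simpa using this
  exact eq_one_of_odd_of_two_pow hx hk'

end

section

variable (hsol : Group.IsSolvable H) (hO : Cfsg.oddCore H = ⊥)
  (hI : ∀ t : H, orderOf t = 2 →
    Cfsg.HasNormalPComplement 2 ↥(Subgroup.centralizer ({t} : Set H)))

include hsol hO hI in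
/-- no nontrivial element of odd order commutes with a nontrivial `2`-element. -/
theorem eq_one_of_comm_two_elt {x n : H} (hx : Odd (orderOf x)) (hn1 : n ≠ 1) {k : ℕ}
    (hnk : n ^ 2 ^ k = 1) (hxn : x * n = n * x) : x = 1 := by
  have h1 : orderOf n ∣ 2 ^ k := orderOf_dvd_of_pow_eq_one hnk
  obtain ⟨j, hj, hoj⟩ := (Nat.dvd_prime_pow Nat.prime_two).mp h1
  have hj0 : j ≠ 0 := by
    rintro rfl
    rw [pow_zero, orderOf_eq_one_iff] at hoj
    exact hn1 hoj
  obtain ⟨i, rfl⟩ := Nat.exists_eq_succ_of_ne_zero hj0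
  have ht : orderOf (n ^ 2 ^ i) = 2 := by
    rw [orderOf_pow_of_dvd (pow_ne_zero _ two_ne_zero) (by rw [hoj]; exact pow_dvd_pow 2 (Nat.le_succ i)),
      hoj, pow_succ, Nat.mul_div_cancel_left _ (pow_pos two_pos i)]
  have hc : Commute x n := hxn
  exact eq_one_of_comm_invol hsol hO hI hx ht (hc.pow_right _).eq

include hsol hO hI in
/-- elements of odd order act without fixed points on `O₂(H)`. -/
theorem not_comm_of_odd {x y : H} (hx : Odd (orderOf x)) (hx1 : x ≠ 1)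
    (hy : y ∈ Cfsg.pCore 2 H) (hy1 : y ≠ 1) : x * y ≠ y * x := by
  intro h
  have hY2 : IsPGroup 2 (Cfsg.pCore 2 H) := Cfsg.Agent.Helper5.isPGroup_pCore 2
  obtain ⟨k, hk⟩ := hY2 ⟨y, hy⟩
  have hk' : y ^ 2 ^ k = 1 := by
    have := congrArg Subtype.val hk
    simpa using this
  exact hx1 (eq_one_of_comm_two_elt hsol hO hI hx hy1 hk' h)

include hsol hO in
theorem subsingleton_of_pCore_eq_bot (hY : Cfsg.pCore 2 H = ⊥) : Subsingleton H := by
  have h1 := centralizer_pCore_le hsol hO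
  rw [hY] at h1
  have h2 : Subgroup.centralizer (((⊥ : Subgroup H) : Subgroup H) : Set H) = ⊤ := by
    rw [Subgroup.coe_bot, Subgroup.centralizer_eq_top_iff_subset]
    intro x hx
    rw [Set.mem_singleton_iff] at hx
    rw [hx]; exact Subgroup.one_mem _
  rw [h2] at h1
  refine ⟨fun a b => ?_⟩
  have ha : a ∈ (⊥ : Subgroup H) := h1 (Subgroup.mem_top a)
  have hb : b ∈ (⊥ : Subgroup H) := h1 (Subgroup.mem_top b)
  rw [Subgroup.mem_bot] at ha hb
  rw [ha, hb]

include hsol hO hI in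
/-- abelian subgroups of odd order are cyclic. -/
theorem isCyclic_of_comm_of_odd (A : Subgroup H) [IsMulCommutative A] (hA : Odd (Nat.card A)) :
    IsCyclic A := by
  by_contra hnc
  have hY2 : IsPGroup 2 (Cfsg.pCore 2 H) := Cfsg.Agent.Helper5.isPGroup_pCore 2
  have hAK : A ≤ Subgroup.normalizer ((Cfsg.pCore 2 H : Subgroup H) : Set H) := by
    haveI : (Cfsg.pCore 2 H).Normal := Cfsg.Agent.Helper4.pCore_normal
    rw [Subgroup.normalizer_eq_top]; exact le_top
  have hcop : (Nat.card A).Coprime (Nat.card (Cfsg.pCore 2 H)) := by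
    obtain ⟨m, hm⟩ := IsPGroup.iff_card.mp hY2
    rw [hm]
    exact (Nat.coprime_two_right.mpr hA).pow_right m
  have hgen := Cfsg.Agent.S0058.result A (Cfsg.pCore 2 H) hnc hAK hcop
  have hbot : (⨆ a ∈ {a : H | a ∈ A ∧ a ≠ 1},
      Cfsg.pCore 2 H ⊓ Subgroup.centralizer {a}) = ⊥ := by
    rw [eq_bot_iff]
    apply iSup₂_le
    rintro a ⟨haA, ha1⟩ y ⟨hyY, hyC⟩
    rw [Subgroup.mem_bot]
    by_contra hy1
    have haodd : Odd (orderOf a) := by
      have h1 := Subgroup.orderOf_dvd_natCard A haA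
      exact Nat.coprime_two_right.mp ((Nat.coprime_two_right.mpr hA).coprime_dvd_left h1)
    have hcomm : a * y = y * a :=
      (Subgroup.mem_centralizer_iff.mp hyC) a (Set.mem_singleton a)
    exact not_comm_of_odd hsol hO hI haodd ha1 hyY hy1 hcomm
  rw [hbot] at hgen
  haveI := subsingleton_of_pCore_eq_bot hsol hO hgen.symm
  exact hnc inferInstance

end

section

variable (hsol : Group.IsSolvable H) (hO : Cfsg.oddCore H = ⊥)
  (hI : ∀ t : H, orderOf t = 2 →
    Cfsg.HasNormalPComplement 2 ↥(Subgroup.centralizer ({t} : Set H)))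

include hsol hO hI in
/-- transport of `isCyclic_of_comm_of_odd` along an injective homomorphism. -/
theorem isCyclic_of_injective {A : Type*} [Group A] [Finite A] (f : A →* H)
    (hf : Function.Injective f) (hc : ∀ a b : A, a * b = b * a) (hodd : Odd (Nat.card A)) :
    IsCyclic A := by
  haveI : IsMulCommutative f.range := by
    refine ⟨⟨fun x y => ?_⟩⟩
    obtain ⟨a, ha⟩ := x.2
    obtain ⟨b, hb⟩ := y.2
    apply Subtype.ext
    change (x : H) * y = y * x
    rw [← ha, ← hb, ← map_mul, ← map_mul, hc]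
  have hcard : Nat.card f.range = Nat.card A :=
    (Nat.card_congr (MonoidHom.ofInjective hf).toEquiv).symm
  haveI := isCyclic_of_comm_of_odd hsol hO hI f.range (by rw [hcard]; exact hodd)
  exact isCyclic_of_surjective (MonoidHom.ofInjective hf).symm
    (MonoidHom.ofInjective hf).symm.surjective

include hsol hO hI in
theorem sylow_isCyclic (X : Subgroup H) (hXodd : Odd (Nat.card X)) (p : ℕ) [Fact p.Prime]
    (P : Sylow p ↥X) : IsCyclic ↥(P : Subgroup ↥X) := by
  have hPodd : Odd (Nat.card ↥(P : Subgroup ↥X)) :=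
    Odd.of_dvd_nat hXodd (Subgroup.card_subgroup_dvd_card _)
  have hasc : Cfsg.Agent.Helper4.AbelianSubgroupsCyclic ↥(P : Subgroup ↥X) := by
    intro A hA
    apply isCyclic_of_injective hsol hO hI
      ((X.subtype.comp (P : Subgroup ↥X).subtype).comp A.subtype)
    · intro a b hab
      apply Subtype.ext
      apply Subtype.ext
      apply Subtype.ext
      exact hab
    · intro a b
      exact hA.is_comm.comm a b
    · exact Odd.of_dvd_nat hPodd (Subgroup.card_subgroup_dvd_card _)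
  rcases Cfsg.Agent.Helper4.cyclic_or_quaternion_of_abelianSubgroupsCyclic p P.isPGroup' hasc with
    h | ⟨-, n, ⟨e⟩⟩
  · exact h
  · exfalso
    have h1 : Nat.card ↥(P : Subgroup ↥X) = 4 * 2 ^ n := by
      haveI : NeZero (2 ^ n) := ⟨pow_ne_zero _ two_ne_zero⟩
      rw [Nat.card_congr e.toEquiv, Nat.card_eq_fintype_card, QuaternionGroup.card]
    rw [h1] at hPodd
    rcases hPodd with ⟨m, hm⟩
    omega

end

section general

variable {Q : Type*} [Group Q] [Finite Q]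

/-- a normal subgroup of odd order lies in every subgroup of odd order and `2`-power index. -/
theorem le_of_odd_of_index {N Xq : Subgroup Q} [N.Normal] (hN : Odd (Nat.card N))
    (hX : Odd (Nat.card Xq)) {j : ℕ} (hj : Xq.index = 2 ^ j) : N ≤ Xq := by
  have h1 : Nat.card (Xq ⊔ N : Subgroup Q) ∣ Nat.card Xq * Nat.card N :=
    Cfsg.Agent.Helper1.card_sup_dvd Xq N
  have hodd : Odd (Nat.card (Xq ⊔ N : Subgroup Q)) := Odd.of_dvd_nat (hX.mul hN) h1
  have hle : Xq ≤ Xq ⊔ N := le_sup_left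
  have h2 : Xq.relIndex (Xq ⊔ N) ∣ 2 ^ j := by
    rw [← hj]; exact Subgroup.relIndex_dvd_index_of_le hle
  have h3 : Xq.relIndex (Xq ⊔ N) ∣ Nat.card (Xq ⊔ N : Subgroup Q) :=
    Dvd.intro _ (Cfsg.Agent.Helper1.relIndex_mul_card_of_le hle)
  have h4 : Xq.relIndex (Xq ⊔ N) = 1 := by
    have hc : (Nat.card (Xq ⊔ N : Subgroup Q)).Coprime (2 ^ j) :=
      (Nat.coprime_two_right.mpr hodd).pow_right j
    exact Nat.eq_one_of_dvd_coprimes hc h3 h2
  exact le_sup_right.trans (Subgroup.relIndex_eq_one.mp h4)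

omit [Finite Q] in
/-- commutators centralize a cyclic normal subgroup. -/
theorem comm_mem_centralizer_of_isCyclic (F : Subgroup Q) [F.Normal] [IsCyclic ↥F] (g h : Q) :
    g * h * g⁻¹ * h⁻¹ ∈ Subgroup.centralizer (F : Set Q) := by
  have hcomm : ∀ a b : MulAut ↥F, a * b = b * a := by
    intro a b
    apply (IsCyclic.mulAutMulEquiv ↥F).injective
    rw [map_mul, map_mul, mul_comm]
  have h1 : (MulAut.conjNormal (g * h * g⁻¹ * h⁻¹) : MulAut ↥F) = 1 := by
    rw [map_mul, map_mul, map_mul, map_inv, map_inv,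
      hcomm (MulAut.conjNormal g) (MulAut.conjNormal h), mul_assoc (MulAut.conjNormal h),
      mul_inv_cancel, mul_one, mul_inv_cancel]
  rw [Subgroup.mem_centralizer_iff]
  intro f hf
  have h2 := MulAut.conjNormal_apply (H := F) (g * h * g⁻¹ * h⁻¹) ⟨f, hf⟩
  rw [h1] at h2
  simp only [MulAut.one_apply] at h2
  -- h2 : f = c * f * c⁻¹
  calc f * (g * h * g⁻¹ * h⁻¹) = (g * h * g⁻¹ * h⁻¹ * f * (g * h * g⁻¹ * h⁻¹)⁻¹) *
      (g * h * g⁻¹ * h⁻¹) := by rw [← h2]
  _ = g * h * g⁻¹ * h⁻¹ * f := by group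

end general

section

variable (hsol : Group.IsSolvable H) (hO : Cfsg.oddCore H = ⊥)
  (hI : ∀ t : H, orderOf t = 2 →
    Cfsg.HasNormalPComplement 2 ↥(Subgroup.centralizer ({t} : Set H)))

include hsol hO hI in
theorem main (X : Subgroup H) (hXodd : Odd (Nat.card X)) (hXidx : ∃ k : ℕ, X.index = 2 ^ k) :
    (∀ x ∈ X, x ≠ 1 → ∀ y ∈ Cfsg.pCore 2 H, y ≠ 1 → x * y ≠ y * x) ∧
      (∀ (p : ℕ) [Fact p.Prime] (P : Sylow p ↥X), IsCyclic ↥(P : Subgroup ↥X)) ∧
      (X ⊔ Cfsg.pCore 2 H).Normal ∧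
      ∀ hN : (X ⊔ Cfsg.pCore 2 H).Normal, IsCyclic (H ⧸ (X ⊔ Cfsg.pCore 2 H)) ∧
        IsPGroup 2 (H ⧸ (X ⊔ Cfsg.pCore 2 H)) := by
  classical
  have hY2 : IsPGroup 2 (Cfsg.pCore 2 H) := Cfsg.Agent.Helper5.isPGroup_pCore 2
  have hXo : ∀ x ∈ X, Odd (orderOf x) := fun x hx =>
    Odd.of_dvd_nat hXodd (Subgroup.orderOf_dvd_natCard X hx)
  refine ⟨fun x hx hx1 y hy hy1 => not_comm_of_odd hsol hO hI (hXo x hx) hx1 hy hy1,
    fun p _ P => sylow_isCyclic hsol hO hI X hXodd p P, ?_⟩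
  -- the quotient by `O₂(H)`
  haveI := hsol
  have hπs : Function.Surjective (QuotientGroup.mk' (Cfsg.pCore 2 H)) :=
    QuotientGroup.mk'_surjective _
  have hO2 : Cfsg.pCore 2 (H ⧸ Cfsg.pCore 2 H) = ⊥ := by
    have h := Cfsg.Agent.Helper5.comap_pCore_quotient (Cfsg.pCore 2 H) hY2
    rw [eq_bot_iff]
    intro z hz
    obtain ⟨h0, rfl⟩ := hπs z
    have h1 : h0 ∈ (Cfsg.pCore 2 (H ⧸ Cfsg.pCore 2 H)).comap
        (QuotientGroup.mk' (Cfsg.pCore 2 H)) := hz
    rw [h] at h1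
    rw [Subgroup.mem_bot]
    exact (QuotientGroup.eq_one_iff h0).mpr h1
  have hFodd : Odd (Nat.card (Cfsg.fittingSubgroup (H ⧸ Cfsg.pCore 2 H))) := by
    rw [Cfsg.Agent.Helper1.fittingSubgroup_eq_fitJoin, Cfsg.Agent.Helper1.fitJoin, iSup]
    apply Nat.coprime_two_right.mp
    apply Cfsg.Agent.Helper1.sSup_normal_coprime 2
    rintro N ⟨q, rfl⟩
    refine ⟨inferInstance, ?_⟩
    change (Nat.card ↥(Cfsg.pCore (q : ℕ) (H ⧸ Cfsg.pCore 2 H))).Coprime 2
    by_cases hq : (q : ℕ) = 2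
    · rw [hq, hO2, Subgroup.card_bot]; exact Nat.coprime_one_left 2
    · haveI : Fact (q : ℕ).Prime := ⟨q.2⟩
      obtain ⟨n, hn⟩ := IsPGroup.iff_card.1
        (Cfsg.Agent.Helper5.isPGroup_pCore (G := H ⧸ Cfsg.pCore 2 H) (q : ℕ))
      rw [hn]
      exact Nat.Coprime.pow_left _ ((Nat.coprime_primes q.2 Nat.prime_two).2 hq)
  have hXbodd : Odd (Nat.card (X.map (QuotientGroup.mk' (Cfsg.pCore 2 H)))) :=
    Odd.of_dvd_nat hXodd (Subgroup.card_map_dvd (H := X) _)
  obtain ⟨k, hk⟩ := hXidx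
  obtain ⟨j, -, hj⟩ := (Nat.dvd_prime_pow Nat.prime_two).mp
    (hk ▸ Subgroup.index_map_dvd (H := X) hπs)
  have hFX : Cfsg.fittingSubgroup (H ⧸ Cfsg.pCore 2 H) ≤
      X.map (QuotientGroup.mk' (Cfsg.pCore 2 H)) := le_of_odd_of_index hFodd hXbodd hj
  have hinj : ∀ x ∈ X, QuotientGroup.mk' (Cfsg.pCore 2 H) x = 1 → x = 1 := by
    intro x hx h1
    have hxY : x ∈ Cfsg.pCore 2 H := (QuotientGroup.eq_one_iff x).mp h1
    obtain ⟨m, hm⟩ := hY2 ⟨x, hxY⟩
    have hm' : x ^ 2 ^ m = 1 := by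
      have := congrArg Subtype.val hm
      simpa using this
    exact eq_one_of_odd_of_two_pow (hXo x hx) hm'
  -- abelian subgroups of the image of `X` are cyclic
  have hascb : ∀ Ab : Subgroup (H ⧸ Cfsg.pCore 2 H),
      Ab ≤ X.map (QuotientGroup.mk' (Cfsg.pCore 2 H)) →
      (∀ a ∈ Ab, ∀ b ∈ Ab, a * b = b * a) → IsCyclic Ab := by
    intro Ab hAb hcomm
    have hmap : (X ⊓ Ab.comap (QuotientGroup.mk' (Cfsg.pCore 2 H))).map
        (QuotientGroup.mk' (Cfsg.pCore 2 H)) = Ab := by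
      apply le_antisymm
      · rintro _ ⟨a, ha, rfl⟩; exact ha.2
      · intro z hz
        obtain ⟨x, hx, rfl⟩ := hAb hz
        exact ⟨x, ⟨hx, hz⟩, rfl⟩
    haveI : IsCyclic ↥(X ⊓ Ab.comap (QuotientGroup.mk' (Cfsg.pCore 2 H))) := by
      apply isCyclic_of_injective hsol hO hI
        (X ⊓ Ab.comap (QuotientGroup.mk' (Cfsg.pCore 2 H))).subtype Subtype.coe_injective
      · intro a b
        apply Subtype.ext
        have h1 : QuotientGroup.mk' (Cfsg.pCore 2 H) ((a : H) * b * ((b : H) * a)⁻¹) = 1 := by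
          rw [map_mul, map_inv, map_mul, map_mul, hcomm _ a.2.2 _ b.2.2, mul_inv_cancel]
        have h2 := hinj _ (X.mul_mem (X.mul_mem a.2.1 b.2.1)
          (X.inv_mem (X.mul_mem b.2.1 a.2.1))) h1
        exact mul_inv_eq_one.mp h2
      · exact Odd.of_dvd_nat hXodd (Subgroup.card_dvd_of_le inf_le_left)
    rw [← hmap]
    exact isCyclic_of_surjective
      ((QuotientGroup.mk' (Cfsg.pCore 2 H)).subgroupMap
        (X ⊓ Ab.comap (QuotientGroup.mk' (Cfsg.pCore 2 H))))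
      ((QuotientGroup.mk' (Cfsg.pCore 2 H)).subgroupMap_surjective _)
  haveI hFc : IsCyclic ↥(Cfsg.fittingSubgroup (H ⧸ Cfsg.pCore 2 H)) := by
    apply Cfsg.Agent.Helper4.isCyclic_of_abelianSubgroupsCyclic_of_odd
      Cfsg.Agent.Helper1.fittingSubgroup_isNilpotent _ hFodd
    intro A hA
    haveI := hascb (A.map (Cfsg.fittingSubgroup (H ⧸ Cfsg.pCore 2 H)).subtype)
      ((Subgroup.map_subtype_le A).trans hFX) (by
        rintro _ ⟨a', ha', rfl⟩ _ ⟨b', hb', rfl⟩
        have h1 := hA.is_comm.comm ⟨a', ha'⟩ ⟨b', hb'⟩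
        have h2 := congrArg (fun z : ↥A =>
          ((z : ↥(Cfsg.fittingSubgroup (H ⧸ Cfsg.pCore 2 H))) : H ⧸ Cfsg.pCore 2 H)) h1
        simpa using h2)
    exact isCyclic_of_surjective
      (Subgroup.equivMapOfInjective A _ (Subgroup.subtype_injective _)).symm
      (MulEquiv.surjective _)
  have hcommX : ∀ g h : H ⧸ Cfsg.pCore 2 H,
      g * h * g⁻¹ * h⁻¹ ∈ X.map (QuotientGroup.mk' (Cfsg.pCore 2 H)) := fun g h =>
    hFX (Cfsg.Agent.Helper1.centralizer_fittingSubgroup_le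
      (comm_mem_centralizer_of_isCyclic _ g h))
  have hXbn : (X.map (QuotientGroup.mk' (Cfsg.pCore 2 H))).Normal := by
    refine ⟨fun x hx g => ?_⟩
    have : g * x * g⁻¹ = (g * x * g⁻¹ * x⁻¹) * x := by group
    rw [this]; exact Subgroup.mul_mem _ (hcommX g x) hx
  have hL : X ⊔ Cfsg.pCore 2 H = (X.map (QuotientGroup.mk' (Cfsg.pCore 2 H))).comap
      (QuotientGroup.mk' (Cfsg.pCore 2 H)) := by
    rw [QuotientGroup.comap_map_mk', sup_comm]
  have hLn : (X ⊔ Cfsg.pCore 2 H).Normal := by rw [hL]; exact hXbn.comap _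
  refine ⟨hLn, ?_⟩
  intro hN
  have hidx : ∃ j' : ℕ, (X ⊔ Cfsg.pCore 2 H).index = 2 ^ j' := by
    obtain ⟨j', -, h⟩ := (Nat.dvd_prime_pow Nat.prime_two).mp
      (hk ▸ Subgroup.index_dvd_of_le (le_sup_left : X ≤ X ⊔ Cfsg.pCore 2 H))
    exact ⟨j', h⟩
  obtain ⟨j', hj'⟩ := hidx
  refine ⟨?_, IsPGroup.of_card (n := j') (by rw [← Subgroup.index_eq_card]; exact hj')⟩
  by_contra hnc
  -- a Sylow `2`-subgroup covers the quotient
  obtain ⟨T⟩ : Nonempty (Sylow 2 H) := inferInstance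
  have hcover : ∀ h : H, ∃ l ∈ X ⊔ Cfsg.pCore 2 H, ∃ t ∈ (T : Subgroup H), l * t = h := by
    intro h
    have htop : (X ⊔ Cfsg.pCore 2 H) ⊔ (T : Subgroup H) = ⊤ := by
      rw [← Subgroup.index_eq_one]
      have h1 : ((X ⊔ Cfsg.pCore 2 H) ⊔ (T : Subgroup H)).index ∣ 2 ^ j' := by
        rw [← hj']; exact Subgroup.index_dvd_of_le le_sup_left
      obtain ⟨i, -, hi⟩ := (Nat.dvd_prime_pow Nat.prime_two).mp h1
      have h2 : ((X ⊔ Cfsg.pCore 2 H) ⊔ (T : Subgroup H)).index ∣ (T : Subgroup H).index :=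
        Subgroup.index_dvd_of_le le_sup_right
      have h3 : ¬ 2 ∣ (T : Subgroup H).index := T.not_dvd_index
      rcases Nat.eq_zero_or_pos i with rfl | hipos
      · rw [hi, pow_zero]
      · exfalso
        apply h3
        refine dvd_trans ?_ h2
        rw [hi]
        exact dvd_pow_self 2 hipos.ne'
    have hh : h ∈ (X ⊔ Cfsg.pCore 2 H) ⊔ (T : Subgroup H) := by rw [htop]; exact Subgroup.mem_top h
    exact Subgroup.mem_sup_of_normal_left.mp hh
  -- the image of `T` in the quotient by `O₂(H)`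
  have hT2 : ∀ z ∈ (T : Subgroup H).map (QuotientGroup.mk' (Cfsg.pCore 2 H)),
      ∃ m : ℕ, z ^ 2 ^ m = 1 := by
    rintro _ ⟨t, ht, rfl⟩
    obtain ⟨m, hm⟩ := T.isPGroup' ⟨t, ht⟩
    refine ⟨m, ?_⟩
    have hm' : t ^ 2 ^ m = 1 := by
      have := congrArg Subtype.val hm
      simpa using this
    rw [← map_pow, hm', map_one]
  have hTX : ∀ z ∈ (T : Subgroup H).map (QuotientGroup.mk' (Cfsg.pCore 2 H)),
      z ∈ X.map (QuotientGroup.mk' (Cfsg.pCore 2 H)) → z = 1 := by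
    intro z hzT hzX
    obtain ⟨m, hm⟩ := hT2 z hzT
    have hodd : Odd (orderOf z) :=
      Odd.of_dvd_nat hXbodd (Subgroup.orderOf_dvd_natCard _ hzX)
    exact eq_one_of_odd_of_two_pow hodd hm
  haveI hTc : IsMulCommutative ↥((T : Subgroup H).map (QuotientGroup.mk' (Cfsg.pCore 2 H))) := by
    refine ⟨⟨fun a b => ?_⟩⟩
    apply Subtype.ext
    have h1 := hTX ((a : H ⧸ Cfsg.pCore 2 H) * b * (a : H ⧸ Cfsg.pCore 2 H)⁻¹ * (b : H ⧸ Cfsg.pCore 2 H)⁻¹)
      (Subgroup.mul_mem _ (Subgroup.mul_mem _ (Subgroup.mul_mem _ a.2 b.2) (Subgroup.inv_mem _ a.2))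
        (Subgroup.inv_mem _ b.2)) (hcommX _ _)
    have h2 : (a : H ⧸ Cfsg.pCore 2 H) * b =
        ((a : H ⧸ Cfsg.pCore 2 H) * b * (a : H ⧸ Cfsg.pCore 2 H)⁻¹ * (b : H ⧸ Cfsg.pCore 2 H)⁻¹) * (b * a) := by group
    change (a : H ⧸ Cfsg.pCore 2 H) * b = b * a
    rw [h2, h1, one_mul]
  have hTnc : ¬ IsCyclic ↥((T : Subgroup H).map (QuotientGroup.mk' (Cfsg.pCore 2 H))) := by
    intro hcyc
    apply hnc
    let φb : (H ⧸ Cfsg.pCore 2 H) →* (H ⧸ (X ⊔ Cfsg.pCore 2 H)) :=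
      QuotientGroup.lift (Cfsg.pCore 2 H) (QuotientGroup.mk' (X ⊔ Cfsg.pCore 2 H)) (by
        intro y hy
        rw [MonoidHom.mem_ker]
        exact (QuotientGroup.eq_one_iff y).mpr ((le_sup_right : Cfsg.pCore 2 H ≤ X ⊔ Cfsg.pCore 2 H) hy))
    have hφb : ∀ h : H, φb (QuotientGroup.mk' (Cfsg.pCore 2 H) h) =
        QuotientGroup.mk' (X ⊔ Cfsg.pCore 2 H) h := fun h => rfl
    have hsurj : Function.Surjective
        (φb.comp ((T : Subgroup H).map (QuotientGroup.mk' (Cfsg.pCore 2 H))).subtype) := by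
      intro q
      obtain ⟨h, rfl⟩ := QuotientGroup.mk'_surjective _ q
      obtain ⟨l, hl, t, ht, rfl⟩ := hcover h
      refine ⟨⟨QuotientGroup.mk' _ t, ⟨t, ht, rfl⟩⟩, ?_⟩
      change φb (QuotientGroup.mk' _ t) = _
      have hl1 : QuotientGroup.mk' (X ⊔ Cfsg.pCore 2 H) l = 1 := (QuotientGroup.eq_one_iff l).mpr hl
      rw [hφb, map_mul, hl1, one_mul]
    exact isCyclic_of_surjective _ hsurj
  have hcopTX : (Nat.card ↥((T : Subgroup H).map (QuotientGroup.mk' (Cfsg.pCore 2 H)))).Coprime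
      (Nat.card ↥(X.map (QuotientGroup.mk' (Cfsg.pCore 2 H)))) := by
    obtain ⟨m, hm⟩ := IsPGroup.iff_card.mp T.isPGroup'
    have h1 : Nat.card ↥((T : Subgroup H).map (QuotientGroup.mk' (Cfsg.pCore 2 H))) ∣ 2 ^ m := by
      rw [← hm]; exact Subgroup.card_map_dvd (H := (T : Subgroup H)) _
    exact ((Nat.coprime_two_right.mpr hXbodd).pow_right m).symm.coprime_dvd_left h1
  have hgen := Cfsg.Agent.S0058.result ((T : Subgroup H).map (QuotientGroup.mk' (Cfsg.pCore 2 H)))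
    (X.map (QuotientGroup.mk' (Cfsg.pCore 2 H))) hTnc
    (by rw [Subgroup.normalizer_eq_top]; exact le_top) hcopTX
  by_cases hXb : X.map (QuotientGroup.mk' (Cfsg.pCore 2 H)) = ⊥
  · -- then the quotient is trivial
    apply hTnc
    have hF : Cfsg.fittingSubgroup (H ⧸ Cfsg.pCore 2 H) = ⊥ := by
      rw [eq_bot_iff, ← hXb]; exact hFX
    have h1 := Cfsg.Agent.Helper1.centralizer_fittingSubgroup_le (G := H ⧸ Cfsg.pCore 2 H)
    rw [hF] at h1
    have h2 : Subgroup.centralizer (((⊥ : Subgroup (H ⧸ Cfsg.pCore 2 H)) :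
        Subgroup (H ⧸ Cfsg.pCore 2 H)) : Set (H ⧸ Cfsg.pCore 2 H)) = ⊤ := by
      rw [Subgroup.coe_bot, Subgroup.centralizer_eq_top_iff_subset]
      intro x hx
      rw [Set.mem_singleton_iff] at hx
      rw [hx]; exact Subgroup.one_mem _
    rw [h2] at h1
    haveI : Subsingleton (H ⧸ Cfsg.pCore 2 H) := by
      refine ⟨fun a b => ?_⟩
      have ha : a ∈ (⊥ : Subgroup (H ⧸ Cfsg.pCore 2 H)) := h1 (Subgroup.mem_top a)
      have hb : b ∈ (⊥ : Subgroup (H ⧸ Cfsg.pCore 2 H)) := h1 (Subgroup.mem_top b)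
      rw [Subgroup.mem_bot] at ha hb
      rw [ha, hb]
    infer_instance
  · -- some nontrivial element of `T̄` fixes a nontrivial element of `X̄`
    have hex : ∃ a ∈ (T : Subgroup H).map (QuotientGroup.mk' (Cfsg.pCore 2 H)), a ≠ 1 ∧
        X.map (QuotientGroup.mk' (Cfsg.pCore 2 H)) ⊓ Subgroup.centralizer {a} ≠ ⊥ := by
      by_contra hcon
      push_neg at hcon
      apply hXb
      rw [← hgen, eq_bot_iff]
      apply iSup₂_le
      rintro a ⟨haT, ha1⟩
      rw [hcon a haT ha1]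
    obtain ⟨a, haT, ha1, hne⟩ := hex
    obtain ⟨⟨f₀, hf₀⟩, hf₀1⟩ := (Subgroup.ne_bot_iff_exists_ne_one).mp hne
    have hf₀1' : f₀ ≠ 1 := fun h => hf₀1 (Subtype.ext h)
    obtain ⟨hf₀X, hf₀C⟩ := Subgroup.mem_inf.mp hf₀
    have haf : a * f₀ = f₀ * a := (Subgroup.mem_centralizer_iff.mp hf₀C) a (Set.mem_singleton a)
    obtain ⟨x₀, hx₀, rfl⟩ := hf₀X
    obtain ⟨g, hg, rfl⟩ := haT
    have hx₀1 : x₀ ≠ 1 := by
      rintro rfl
      exact hf₀1' (map_one _)
    have hcg : Commute (QuotientGroup.mk' (Cfsg.pCore 2 H) x₀) (QuotientGroup.mk' (Cfsg.pCore 2 H) g) :=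
      haf.symm
    have hcz : ∀ (i : ℤ), ∀ z ∈ Subgroup.zpowers (QuotientGroup.mk' (Cfsg.pCore 2 H) g),
        (QuotientGroup.mk' (Cfsg.pCore 2 H) (x₀ ^ i)) * z *
          (QuotientGroup.mk' (Cfsg.pCore 2 H) (x₀ ^ i))⁻¹ = z := by
      intro i z hz
      obtain ⟨m, rfl⟩ := Subgroup.mem_zpowers_iff.mp hz
      rw [map_zpow]
      have := ((hcg.zpow_left i).zpow_right m).eq
      rw [this, mul_assoc, mul_inv_cancel, mul_one]
    have hR2 : IsPGroup 2 ↥((Subgroup.zpowers (QuotientGroup.mk' (Cfsg.pCore 2 H) g)).comap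
        (QuotientGroup.mk' (Cfsg.pCore 2 H))) := by
      apply IsPGroup.comap_of_ker_isPGroup _ _ (by rw [QuotientGroup.ker_mk']; exact hY2)
      have hle : Subgroup.zpowers (QuotientGroup.mk' (Cfsg.pCore 2 H) g) ≤
          (T : Subgroup H).map (QuotientGroup.mk' (Cfsg.pCore 2 H)) :=
        Subgroup.zpowers_le.mpr ⟨g, hg, rfl⟩
      exact (T.isPGroup'.map _).to_le hle
    have hnY : Subgroup.normalizer ((Cfsg.pCore 2 H : Subgroup H) : Set H) = ⊤ :=
      Subgroup.normalizer_eq_top _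
    obtain ⟨c', hc', hgc⟩ := Cfsg.Agent.Helper1.coprime_fixed_coset (Subgroup.zpowers x₀)
      ((Subgroup.zpowers (QuotientGroup.mk' (Cfsg.pCore 2 H) g)).comap
        (QuotientGroup.mk' (Cfsg.pCore 2 H)))
      (by
        intro x hx
        obtain ⟨i, rfl⟩ := Subgroup.mem_zpowers_iff.mp hx
        rw [Subgroup.mem_normalizer_iff]
        intro r
        rw [Subgroup.mem_comap, Subgroup.mem_comap, map_mul, map_mul, map_inv]
        constructor
        · intro hr
          rw [hcz i _ hr]; exact hr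
        · intro hr
          have h1 := hcz (-i) _ hr
          rw [zpow_neg, map_inv, inv_inv] at h1
          have h2 : (QuotientGroup.mk' (Cfsg.pCore 2 H) (x₀ ^ i))⁻¹ *
              ((QuotientGroup.mk' (Cfsg.pCore 2 H) (x₀ ^ i)) * (QuotientGroup.mk' (Cfsg.pCore 2 H) r) *
                (QuotientGroup.mk' (Cfsg.pCore 2 H) (x₀ ^ i))⁻¹) *
              (QuotientGroup.mk' (Cfsg.pCore 2 H) (x₀ ^ i)) = QuotientGroup.mk' (Cfsg.pCore 2 H) r := by
            group
          rw [h2] at h1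
          rw [h1]; exact hr)
      (by
        obtain ⟨m, hm⟩ := IsPGroup.iff_card.mp hR2
        rw [hm, Nat.card_zpowers]
        exact (Nat.coprime_two_right.mpr (hXo x₀ hx₀)).pow_right m)
      (Or.inl inferInstance) (Cfsg.pCore 2 H)
      (by
        intro y hy
        have hy1 : QuotientGroup.mk' (Cfsg.pCore 2 H) y = 1 := (QuotientGroup.eq_one_iff y).mpr hy
        rw [Subgroup.mem_comap, hy1]
        exact one_mem _)
      (by rw [hnY]; exact le_top) (by rw [hnY]; exact le_top) g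
      (by rw [Subgroup.mem_comap]; exact Subgroup.mem_zpowers _)
      (by
        intro x hx
        obtain ⟨i, rfl⟩ := Subgroup.mem_zpowers_iff.mp hx
        have h1 : QuotientGroup.mk' (Cfsg.pCore 2 H) (x₀ ^ i * g * (x₀ ^ i)⁻¹ * g⁻¹) = 1 := by
          rw [map_mul, map_mul, map_mul, map_inv, map_inv, hcz i _ (Subgroup.mem_zpowers _),
            mul_inv_cancel]
        exact (QuotientGroup.eq_one_iff _).mp h1)
    have hc'1 : c' ≠ 1 := by
      rintro rfl
      apply ha1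
      rw [mul_one] at hgc
      have := (Cfsg.pCore 2 H).inv_mem hgc
      rw [inv_inv] at this
      exact (QuotientGroup.eq_one_iff g).mpr this
    obtain ⟨m, hm⟩ := hR2 ⟨c', hc'.1⟩
    have hm' : c' ^ 2 ^ m = 1 := by
      have := congrArg Subtype.val hm
      rw [Subgroup.coe_pow] at this
      exact this
    have hcomm : x₀ * c' = c' * x₀ :=
      (Subgroup.mem_centralizer_iff.mp hc'.2) x₀ (Subgroup.mem_zpowers x₀)
    exact hx₀1 (eq_one_of_comm_two_elt hsol hO hI (hXo x₀ hx₀) hc'1 hm' hcomm)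

end

end Cfsg.Agent.Helper2.HallFrob
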