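import Cfsg.Agent.Helper2.HeMC6Ju0
import Cfsg.Agent.Helper2.HeMC6Ju1
import Cfsg.Agent.Helper2.HeMC6Ju2
import Cfsg.Agent.Helper2.HeMC6Ju3
import Cfsg.Agent.Helper2.HeMC6Ju4
import Cfsg.Agent.Helper2.HeMC6Ju5
import Cfsg.Agent.Helper2.HeMC6Ju6
import Cfsg.Agent.Helper2.HeMC6Ju7
import Cfsg.Agent.Helper2.HeMC6Ju8
import Cfsg.Agent.Helper2.HeMC6Ju9
import Cfsg.Agent.Helper2.HeMC6Ju10
import Cfsg.Agent.Helper2.HeMC6Ju11
import Cfsg.Agent.Helper2.HeMC6Ju12
import Cfsg.Agent.Helper2.HeMC6Tb0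
import Cfsg.Agent.Helper2.HeMC6Tb1

/-! generated labelled Todd-Coxeter certificate, summary: HeMC6 -/

set_option autoImplicit false
set_option maxRecDepth 1000000

namespace Cfsg.Agent.Helper2.HeMC6
open Cfsg.Agent.Helper5.LTC

theorem upto_0 : ∀ j, j < 0 → ∃ r, checkFact cert j r = true := fun j hj => absurd hj (by omega)

theorem upto_1 : ∀ j, j < 4000 → ∃ r, checkFact cert j r = true :=
  upto_step cert upto_0 ju_0 4000 len_0 chk_0

theorem upto_2 : ∀ j, j < 8000 → ∃ r, checkFact cert j r = true :=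
  upto_step cert upto_1 ju_1 4000 len_1 chk_1

theorem upto_3 : ∀ j, j < 12000 → ∃ r, checkFact cert j r = true :=
  upto_step cert upto_2 ju_2 4000 len_2 chk_2

theorem upto_4 : ∀ j, j < 16000 → ∃ r, checkFact cert j r = true :=
  upto_step cert upto_3 ju_3 4000 len_3 chk_3

theorem upto_5 : ∀ j, j < 20000 → ∃ r, checkFact cert j r = true :=
  upto_step cert upto_4 ju_4 4000 len_4 chk_4

theorem upto_6 : ∀ j, j < 24000 → ∃ r, checkFact cert j r = true :=
  upto_step cert upto_5 ju_5 4000 len_5 chk_5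

theorem upto_7 : ∀ j, j < 28000 → ∃ r, checkFact cert j r = true :=
  upto_step cert upto_6 ju_6 4000 len_6 chk_6

theorem upto_8 : ∀ j, j < 32000 → ∃ r, checkFact cert j r = true :=
  upto_step cert upto_7 ju_7 4000 len_7 chk_7

theorem upto_9 : ∀ j, j < 36000 → ∃ r, checkFact cert j r = true :=
  upto_step cert upto_8 ju_8 4000 len_8 chk_8

theorem upto_10 : ∀ j, j < 40000 → ∃ r, checkFact cert j r = true :=
  upto_step cert upto_9 ju_9 4000 len_9 chk_9

theorem upto_11 : ∀ j, j < 44000 → ∃ r, checkFact cert j r = true :=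
  upto_step cert upto_10 ju_10 4000 len_10 chk_10

theorem upto_12 : ∀ j, j < 48000 → ∃ r, checkFact cert j r = true :=
  upto_step cert upto_11 ju_11 4000 len_11 chk_11

theorem upto_13 : ∀ j, j < 51959 → ∃ r, checkFact cert j r = true :=
  upto_step cert upto_12 ju_12 3959 len_12 chk_12

theorem hchk : ∀ j, j < cert.nf → ∃ r, checkFact cert j r = true := upto_13

theorem rowsto_0 : ∀ n, n < 0 → ∀ x, x < cert.k → tabEntryOK cert tab n x = true :=
  fun n hn => absurd hn (by omega)

theorem rowsto_1 : ∀ n, n < 4000 → ∀ x, x < cert.k → tabEntryOK cert tab n x = true :=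
  rows_step cert tab rowsto_0 4000 rows_0

theorem rowsto_2 : ∀ n, n < 4116 → ∀ x, x < cert.k → tabEntryOK cert tab n x = true :=
  rows_step cert tab rowsto_1 116 rows_1

theorem hT : ∀ n, n < tab.N → ∀ x, x < cert.k → tabEntryOK cert tab n x = true := rowsto_2

theorem hjs : ∀ j ∈ js, relFactOK cert j = true := by decide +kernel

theorem h0 : ordOK cert js cs0 0 1 = true := by decide +kernel

theorem hgs : ∀ i, i < 7 → genOK cert js (css.getD i []) i 0 (as_.getD i 0) = true := by decide +kernel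

end Cfsg.Agent.Helper2.HeMC6
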