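import Mathlib
import Cfsg.Agent.Helper2.HeMDat
import Cfsg.Agent.Helper5.HeXTTCSum
import Cfsg.Agent.Helper5.LPX
import Cfsg.Agent.Helper5.LPS
import Cfsg.Agent.Helper5.StemPF

/-!
# Checks for the Schur multiplier of the Held group

The words of `HeMDat` in the action of the presented group on 2058 points: the tables of the eight
letters, the stabiliser chains of the subgroups of orders 4080 and 979200.
-/

set_option autoImplicit false

namespace Cfsg.Agent.Helper2.HeM

open Cfsg.Agent.Helper5 Cfsg.Agent.Helper5.LP Cfsg.Agent.Helper5.StemP Cfsg.Agent.Helper5.TC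
  Cfsg.Agent.Helper5.TCI

/-- the action of the eight letters on the 2058 points. -/
def tabF (c v : ℕ) : ℕ := pLook 682 (tabB c) v

theorem W_lt : ∀ c, c < 8 → ∀ x ∈ W c, x < 7 := by decide

theorem W_rev : W 1 = (W 0).reverse ∧ W 3 = (W 2).reverse ∧ W 5 = (W 4).reverse ∧
    W 7 = (W 6).reverse := by decide

theorem letW_lt : ∀ c, c < 7 → ∀ x ∈ letW c, x < 8 := by decide

set_option maxRecDepth 1000000 in
theorem tab_agree0 : agreeRangeF HeXTTC.ctF (W 0) (tabF 0) 2058 0 = true := by decide +kernel

set_option maxRecDepth 1000000 in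
theorem tab_agree1 : agreeRangeF HeXTTC.ctF (W 1) (tabF 1) 2058 0 = true := by decide +kernel

set_option maxRecDepth 1000000 in
theorem tab_agree2 : agreeRangeF HeXTTC.ctF (W 2) (tabF 2) 2058 0 = true := by decide +kernel

set_option maxRecDepth 1000000 in
theorem tab_agree3 : agreeRangeF HeXTTC.ctF (W 3) (tabF 3) 2058 0 = true := by decide +kernel

set_option maxRecDepth 1000000 in
theorem tab_agree4 : agreeRangeF HeXTTC.ctF (W 4) (tabF 4) 2058 0 = true := by decide +kernel

set_option maxRecDepth 1000000 in
theorem tab_agree5 : agreeRangeF HeXTTC.ctF (W 5) (tabF 5) 2058 0 = true := by decide +kernel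

set_option maxRecDepth 1000000 in
theorem tab_agree6 : agreeRangeF HeXTTC.ctF (W 6) (tabF 6) 2058 0 = true := by decide +kernel

set_option maxRecDepth 1000000 in
theorem tab_agree7 : agreeRangeF HeXTTC.ctF (W 7) (tabF 7) 2058 0 = true := by decide +kernel

theorem tab_agree : ∀ c, c < 8 → agreeRangeF HeXTTC.ctF (W c) (tabF c) 2058 0 = true := by
  intro c hc
  interval_cases c
  · exact tab_agree0
  · exact tab_agree1
  · exact tab_agree2
  · exact tab_agree3
  · exact tab_agree4
  · exact tab_agree5
  · exact tab_agree6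
  · exact tab_agree7

set_option maxRecDepth 1000000 in
theorem chk_move : actL HeXTTC.ctF (W 0) 0 ≠ 0 := by decide +kernel

set_option maxRecDepth 1000000 in
theorem chainA_ok : chainOK tabF (2 * 2) 2058 [] levelAs = true := chainOK_of_F (by decide +kernel)

theorem chainA_prod : chainProd levelAs = 4080 := by decide +kernel

set_option maxRecDepth 1000000 in
theorem chainB_ok : chainOK tabF (2 * 3) 2058 [] levelBs = true := chainOK_of_F (by decide +kernel)

theorem chainB_prod : chainProd levelBs = 979200 := by decide +kernel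

theorem CC_lt : ∀ r ∈ CC, ∀ c ∈ r, c < 2 * 4 := by decide

theorem CB_lt : ∀ r ∈ CB, ∀ c ∈ r, c < 2 * 3 := by decide

theorem CA_lt : ∀ r ∈ CA, ∀ c ∈ r, c < 2 * 2 := by decide

theorem CB_sub : ∀ r ∈ CB, r ∈ CC := by decide

theorem CA_sub : ∀ r ∈ CA, r ∈ CB := by decide

end Cfsg.Agent.Helper2.HeM
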