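import Mathlib
import Cfsg.Agent.Helper2.HeMChk

/-!
# Checks for the Schur multiplier of the Held group: orders and the seven involutions

The four generators have order dividing 17, and the seven involutions are the words `letW` in them,
in the action on 2058 points.
-/

set_option autoImplicit false

namespace Cfsg.Agent.Helper2.HeM

open Cfsg.Agent.Helper5 Cfsg.Agent.Helper5.LP Cfsg.Agent.Helper5.StemP Cfsg.Agent.Helper5.TC
  Cfsg.Agent.Helper5.TCI

set_option maxRecDepth 1000000 in
theorem chk_pow0 : fixRangeF HeXTTC.ctF ((List.replicate 17 0).flatMap W) 2058 0 = true := by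
  decide +kernel

set_option maxRecDepth 1000000 in
theorem chk_pow1 : fixRangeF HeXTTC.ctF ((List.replicate 17 2).flatMap W) 2058 0 = true := by
  decide +kernel

set_option maxRecDepth 1000000 in
theorem chk_pow2 : fixRangeF HeXTTC.ctF ((List.replicate 17 4).flatMap W) 2058 0 = true := by
  decide +kernel

set_option maxRecDepth 1000000 in
theorem chk_pow3 : fixRangeF HeXTTC.ctF ((List.replicate 17 6).flatMap W) 2058 0 = true := by
  decide +kernel

theorem chk_pow : fixRangeF HeXTTC.ctF ((List.replicate 17 0).flatMap W) 2058 0 = true ∧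
    fixRangeF HeXTTC.ctF ((List.replicate 17 2).flatMap W) 2058 0 = true ∧
    fixRangeF HeXTTC.ctF ((List.replicate 17 4).flatMap W) 2058 0 = true ∧
    fixRangeF HeXTTC.ctF ((List.replicate 17 6).flatMap W) 2058 0 = true :=
  ⟨chk_pow0, chk_pow1, chk_pow2, chk_pow3⟩

set_option maxRecDepth 1000000 in
theorem chk_let0 : agreeRangeF HeXTTC.ctF ((letW 0).flatMap W) (HeXTTC.ctF 0) 2058 0 = true := by
  decide +kernel

set_option maxRecDepth 1000000 in
theorem chk_let1 : agreeRangeF HeXTTC.ctF ((letW 1).flatMap W) (HeXTTC.ctF 1) 2058 0 = true := by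
  decide +kernel

set_option maxRecDepth 1000000 in
theorem chk_let2 : agreeRangeF HeXTTC.ctF ((letW 2).flatMap W) (HeXTTC.ctF 2) 2058 0 = true := by
  decide +kernel

set_option maxRecDepth 1000000 in
theorem chk_let3 : agreeRangeF HeXTTC.ctF ((letW 3).flatMap W) (HeXTTC.ctF 3) 2058 0 = true := by
  decide +kernel

set_option maxRecDepth 1000000 in
theorem chk_let4 : agreeRangeF HeXTTC.ctF ((letW 4).flatMap W) (HeXTTC.ctF 4) 2058 0 = true := by
  decide +kernel

set_option maxRecDepth 1000000 in
theorem chk_let5 : agreeRangeF HeXTTC.ctF ((letW 5).flatMap W) (HeXTTC.ctF 5) 2058 0 = true := by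
  decide +kernel

set_option maxRecDepth 1000000 in
theorem chk_let6 : agreeRangeF HeXTTC.ctF ((letW 6).flatMap W) (HeXTTC.ctF 6) 2058 0 = true := by
  decide +kernel

theorem chk_let : ∀ c, c < 7 →
    agreeRangeF HeXTTC.ctF ((letW c).flatMap W) (HeXTTC.ctF c) 2058 0 = true := by
  intro c hc
  interval_cases c
  · exact chk_let0
  · exact chk_let1
  · exact chk_let2
  · exact chk_let3
  · exact chk_let4
  · exact chk_let5
  · exact chk_let6

end Cfsg.Agent.Helper2.HeM
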