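import Mathlib
import Cfsg.Agent.Helper2.HeMChk

/-!
# Checks for the Schur multiplier of the Held group: relators (part 1)
-/

set_option autoImplicit false

namespace Cfsg.Agent.Helper2.HeM

open Cfsg.Agent.Helper5 Cfsg.Agent.Helper5.LP Cfsg.Agent.Helper5.StemP Cfsg.Agent.Helper5.TC
  Cfsg.Agent.Helper5.TCI

set_option maxRecDepth 1000000 in
theorem chk_rel4 : fixRangeF HeXTTC.ctF (([0, 2, 4, 1, 4, 7, 3, 5, 0, 5, 3, 7] : List ℕ).flatMap W) 2058 0 = true := by
  decide +kernel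

set_option maxRecDepth 1000000 in
theorem chk_rel5 : fixRangeF HeXTTC.ctF (([0, 4, 2, 6, 5, 2, 6, 2, 4, 6, 2, 5] : List ℕ).flatMap W) 2058 0 = true := by
  decide +kernel

set_option maxRecDepth 1000000 in
theorem chk_rel6 : fixRangeF HeXTTC.ctF (([0, 4, 2, 7, 3, 6, 2, 2, 6, 3, 7, 2] : List ℕ).flatMap W) 2058 0 = true := by
  decide +kernel

set_option maxRecDepth 1000000 in
theorem chk_rel7 : fixRangeF HeXTTC.ctF (([0, 0, 2, 0, 5, 0, 5, 1, 4, 3, 1, 5] : List ℕ).flatMap W) 2058 0 = true := by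
  decide +kernel

end Cfsg.Agent.Helper2.HeM
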