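import Mathlib
import Cfsg.Agent.Helper2.HeMChkP
import Cfsg.Agent.Helper2.HeMChkR0
import Cfsg.Agent.Helper2.HeMChkR1
import Cfsg.Agent.Helper2.HeMChkR2
import Cfsg.Agent.Helper2.HeMChkR3

/-!
# Checks for the Schur multiplier of the Held group: all the relators
-/

set_option autoImplicit false

namespace Cfsg.Agent.Helper2.HeM

open Cfsg.Agent.Helper5 Cfsg.Agent.Helper5.LP Cfsg.Agent.Helper5.StemP Cfsg.Agent.Helper5.TC
  Cfsg.Agent.Helper5.TCI

theorem chk_rels : ∀ r ∈ CC, fixRangeF HeXTTC.ctF (r.flatMap W) 2058 0 = true := by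
  intro r hr
  simp only [CC, List.mem_cons, List.not_mem_nil, or_false] at hr
  rcases hr with rfl | rfl | rfl | rfl | rfl | rfl | rfl | rfl | rfl | rfl | rfl | rfl | rfl | rfl | rfl | rfl
  · exact chk_rel0
  · exact chk_rel1
  · exact chk_rel2
  · exact chk_rel3
  · exact chk_rel4
  · exact chk_rel5
  · exact chk_rel6
  · exact chk_rel7
  · exact chk_rel8
  · exact chk_rel9
  · exact chk_rel10
  · exact chk_rel11
  · exact chk_rel12
  · exact chk_rel13
  · exact chk_rel14
  · exact chk_rel15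

end Cfsg.Agent.Helper2.HeM
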