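import Mathlib
import Cfsg.Agent.Helper2.HeMGen
import Cfsg.Agent.Helper5.LTCH
import Cfsg.Agent.Helper5.LTCF
import Cfsg.Agent.Helper5.StemPI

/-!
# The covering groups of the subgroup of order 4080 of the Held group

The covering presentation of exponent `e` on the generators `x0, x1` of order 17: once it is known
to define a group of order at most `17 * 240 = 4080` (labelled Todd–Coxeter over the subgroup
generated by `x0`, see `HeMCovA6` and `HeMCovA35`), the covering homomorphism is injective, because
words in `x0, x1` spell at least 4080 elements of the Held group.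
-/

set_option autoImplicit false

namespace Cfsg.Agent.Helper2.HeM

open Cfsg Cfsg.Agent.Helper5 Cfsg.Agent.Helper5.StemP Cfsg.Agent.Helper5.LP
  Cfsg.Agent.Helper5.LTC Cfsg.Agent.Helper5.TC Cfsg.Agent.Helper5.TCI

theorem CA2_lt : ∀ r ∈ CA ++ CA, ∀ c ∈ r, c < 2 * 2 := by
  intro r hr
  rcases List.mem_append.mp hr with h | h <;> exact CA_lt r h

theorem CA2_rel : ∀ r ∈ CA ++ CA, (r.map (lval g)).prod = 1 := by
  intro r hr
  rcases List.mem_append.mp hr with h | h <;> exact CA_rel r h

theorem g_pow2 : ∀ i, i < 2 → g i ^ mm i = 1 := fun i hi => g_pow i (by omega)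

section prime
variable (e : ℕ)

/-- the covering homomorphism of the subgroup of order 4080. -/
noncomputable def piA : CovG 2 mm CA CA e →* P :=
  coverHomU 2 mm CA CA e CA2_lt g g_pow2 CA2_rel

theorem piA_ev (l : List ℕ) (hl : ∀ c ∈ l, c < 2 * 2) :
    piA e (ev (2 * 2) (coverRels 2 mm CA CA e) l) = (l.map (lval g)).prod :=
  coverHomU_ev 2 mm CA CA e CA2_lt g g_pow2 CA2_rel l hl

/-- the lift of the first generator. -/
noncomputable def xA : CovG 2 mm CA CA e := ev (2 * 2) (coverRels 2 mm CA CA e) [0]

/-- the lifted subgroup of order 17. -/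
noncomputable def kA : Subgroup (CovG 2 mm CA CA e) := Subgroup.zpowers (xA e)

theorem xA_pow : xA e ^ 17 = 1 := cgen_pow 2 mm CA CA e (i := 0) (by norm_num)

theorem kA_card : Nat.card (kA e) = orderOf (xA e) := Nat.card_zpowers (xA e)

theorem orderOf_xA_dvd : orderOf (xA e) ∣ 17 := orderOf_dvd_of_pow_eq_one (xA_pow e)

theorem orderOf_xA_pos : 0 < orderOf (xA e) :=
  Nat.pos_of_dvd_of_pos (orderOf_xA_dvd e) (by norm_num)

instance kA_fin : Finite (kA e) :=
  Nat.finite_of_card_ne_zero (by rw [kA_card]; exact (orderOf_xA_pos e).ne')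

theorem kA_card_le : Nat.card (kA e) ≤ 17 := by
  rw [kA_card]
  exact Nat.le_of_dvd (by norm_num) (orderOf_xA_dvd e)

theorem piA_x : piA e (xA e) = g 0 := by
  unfold xA
  rw [piA_ev e [0] (by decide)]
  simp only [List.map_cons, List.map_nil, List.prod_cons, List.prod_nil, mul_one]
  rfl

theorem zA_ker : ∀ i, zC 2 mm CA CA e i ∈ (piA e).ker := by
  intro i
  unfold zC
  by_cases hi : i < CA.length
  · rw [List.getD_eq_getElem CA [] hi]
    exact coverHomU_ker 2 mm CA CA e CA2_lt g g_pow2 CA2_rel (List.getElem_mem hi)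
  · rw [List.getD_eq_default CA [] (by omega), ev_nil]
    exact Subgroup.one_mem _

theorem kA_inj : ∀ l, phi (zC 2 mm CA CA e) l ∈ kA e → phi (zC 2 mm CA CA e) l = 1 := by
  intro l hl
  have hmem : g 0 ∈ (kA e).map (piA e) := ⟨xA e, Subgroup.mem_zpowers (xA e), piA_x e⟩
  have hge : 17 ≤ Nat.card ((kA e).map (piA e)) := by
    have h7 : orderOf (⟨g 0, hmem⟩ : (kA e).map (piA e)) = 17 := by
      rw [Subgroup.orderOf_mk]
      exact order_g0
    have hd : 17 ∣ Nat.card ((kA e).map (piA e)) := h7 ▸ orderOf_dvd_natCard _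
    exact Nat.le_of_dvd Nat.card_pos hd
  apply eq_one_of_map_card (kA e) (piA e) 17 (kA_card_le e) hge _ hl
  exact MonoidHom.mem_ker.mp (phi_mem _ (zA_ker e) l)

/-- the order bound given by the labelled coset enumerations. -/
def BoundA : Prop := Finite (CovG 2 mm CA CA e) ∧ Nat.card (CovG 2 mm CA CA e) ≤ 4080

theorem actsOn_A : ActsOn (rho.comp (piA e)) (ev (2 * 2) (coverRels 2 mm CA CA e)) (2 * 2)
    tabF :=
  actsOn_of_hom (piA e) _ (2 * 2) (by norm_num) (piA_ev e)

theorem card_range_A : 4080 ≤ Nat.card (rho.comp (piA e)).range := by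
  have h1 := chain_lower (actsOn_A e) levelAs [] chainA_ok
  rw [chainA_prod] at h1
  exact h1.trans (Subgroup.card_le_of_le inf_le_left)

variable {e}

theorem rhoA_injective (hA : BoundA e) : Function.Injective (rho.comp (piA e)) := by
  have := hA.1
  have hs := (rho.comp (piA e)).rangeRestrict_surjective
  have hb := hs.bijective_of_nat_card_le (hA.2.trans (card_range_A e))
  intro x y hxy
  apply hb.1
  exact Subtype.ext hxy

theorem piA_injective (hA : BoundA e) : Function.Injective (piA e) := by
  intro x y hxy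
  apply rhoA_injective hA
  rw [MonoidHom.comp_apply, MonoidHom.comp_apply, hxy]

theorem card_piA_range (hA : BoundA e) : 4080 ≤ Nat.card (piA e).range := by
  have := hA.1
  have h1 : Nat.card (rho.comp (piA e)).range ≤ Nat.card (piA e).range := by
    rw [MonoidHom.range_comp]
    have : Finite (piA e).range := inferInstance
    exact Nat.le_of_dvd Nat.card_pos (Subgroup.card_map_dvd _ rho)
  exact (card_range_A e).trans h1

/-- the central words are trivial in the covering group of the subgroup. -/
theorem ev_CA_eq_one (hA : BoundA e) :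
    ∀ r ∈ CA, ev (2 * 2) (coverRels 2 mm CA CA e) r = 1 := by
  intro r hr
  apply piA_injective hA
  rw [map_one]
  exact MonoidHom.mem_ker.mp (coverHomU_ker 2 mm CA CA e CA2_lt g g_pow2 CA2_rel hr)

end prime

end Cfsg.Agent.Helper2.HeM
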