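import Mathlib
import Cfsg.Agent.Helper2.HeMCovA
import Cfsg.Agent.Helper2.HeMA35Sum

/-!
# The covering group of exponent 35 of the subgroup of order 4080 of the Held group: the order

Labelled Todd–Coxeter over the subgroup generated by `x0` (240 cosets): the covering group has
order at most `17 * 240 = 4080`.
-/

set_option autoImplicit false

namespace Cfsg.Agent.Helper2.HeM

open Cfsg Cfsg.Agent.Helper5 Cfsg.Agent.Helper5.StemP Cfsg.Agent.Helper5.LP
  Cfsg.Agent.Helper5.LTC Cfsg.Agent.Helper5.TC Cfsg.Agent.Helper5.TCI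

theorem words_lt_A35 : ∀ wi, ∀ c ∈ HeMA35.cert.W wi, c < 2 * 2 := by
  intro wi c hc
  have h : ∀ w ∈ HeMA35.words, ∀ c ∈ w, c < 4 := by decide +kernel
  change c ∈ HeMA35.words.getD wi [] at hc
  by_cases hwi : wi < HeMA35.words.length
  · rw [List.getD_eq_getElem _ _ hwi] at hc
    exact h _ (List.getElem_mem hwi) c hc
  · rw [List.getD_eq_default _ _ (by omega)] at hc
    simp at hc

set_option maxRecDepth 1000000 in
theorem wordOK_A35 : ∀ wi, wi < HeMA35.cert.nrel →
    wordOK (coverRels 2 mm CA CA 35) CA (HeMA35.cert.W wi) (HeMA35.cert.δ wi)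
      (HeMA35.origs.getD wi 0) = true := by decide +kernel

theorem subW0_A35 : HeMA35.cert.W 23 = [0] := by decide +kernel

theorem hsubs_A35 : ∀ wi, HeMA35.cert.nrel ≤ wi → wi < HeMA35.cert.nw →
    ev (2 * 2) (coverRels 2 mm CA CA 35) (HeMA35.cert.W wi) ∈ kA 35 := by
  intro wi h1 h2
  have h1' : 23 ≤ wi := h1
  have h2' : wi < 24 := h2
  interval_cases wi
  rw [subW0_A35]
  exact Subgroup.mem_zpowers (xA 35)

theorem boundA35 : BoundA 35 := by
  have h := covG_card_le 2 mm CA CA 35 HeMA35.cert rfl rfl rfl (by norm_num) (fun r hr => hr)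
    CA_lt (by decide) words_lt_A35 (fun wi => HeMA35.origs.getD wi 0) wordOK_A35 (kA 35)
    hsubs_A35 (kA_inj 35) HeMA35.hchk HeMA35.tab (by decide +kernel) (by decide)
    HeMA35.hT HeMA35.js HeMA35.hjs 0 1 (by norm_num) (by norm_num) HeMA35.cs0 HeMA35.h0
    (fun i => HeMA35.as_.getD i 0) (fun i => HeMA35.css.getD i []) HeMA35.hgs
  refine ⟨h.1, h.2.trans ?_⟩
  have hN : HeMA35.tab.N = 240 := rfl
  rw [hN]
  calc Nat.card (kA 35) * 240 * 1 ≤ 17 * 240 * 1 :=
        Nat.mul_le_mul_right _ (Nat.mul_le_mul_right _ (kA_card_le 35))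
    _ = 4080 := by norm_num

end Cfsg.Agent.Helper2.HeM
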