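import Mathlib
import Cfsg.Agent.Helper2.HeMCovA
import Cfsg.Agent.Helper5.LTCI

/-!
# The covering groups of the subgroup of order 979200 of the Held group

The covering presentation of exponent `e` on the generators `x0, x1, x2` of order 17, over the image
of the covering group of the subgroup of order 4080: once it is known to define a group of order at
most `4080 * 240 = 979200` (see `HeMCovB6` and `HeMCovB35`), the covering homomorphism is injective.
-/

set_option autoImplicit false

namespace Cfsg.Agent.Helper2.HeM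

open Cfsg Cfsg.Agent.Helper5 Cfsg.Agent.Helper5.StemP Cfsg.Agent.Helper5.LP
  Cfsg.Agent.Helper5.LTC Cfsg.Agent.Helper5.TC Cfsg.Agent.Helper5.TCI

theorem CB2_lt : ∀ r ∈ CB ++ CB, ∀ c ∈ r, c < 2 * 3 := by
  intro r hr
  rcases List.mem_append.mp hr with h | h <;> exact CB_lt r h

theorem CB2_rel : ∀ r ∈ CB ++ CB, (r.map (lval g)).prod = 1 := by
  intro r hr
  rcases List.mem_append.mp hr with h | h <;> exact CB_rel r h

theorem g_pow3 : ∀ i, i < 3 → g i ^ mm i = 1 := fun i hi => g_pow i (by omega)

theorem CA_lt6 : ∀ r ∈ CA, ∀ c ∈ r, c < 2 * 3 := fun r hr c hc => by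
  have := CA_lt r hr c hc
  omega

section prime
variable (e : ℕ)

/-- the covering homomorphism of the subgroup of order 979200. -/
noncomputable def piB : CovG 3 mm CB CB e →* P :=
  coverHomU 3 mm CB CB e CB2_lt g g_pow3 CB2_rel

theorem piB_ev (l : List ℕ) (hl : ∀ c ∈ l, c < 2 * 3) :
    piB e (ev (2 * 3) (coverRels 3 mm CB CB e) l) = (l.map (lval g)).prod :=
  coverHomU_ev 3 mm CB CB e CB2_lt g g_pow3 CB2_rel l hl

theorem evB_eq (l : List ℕ) (hl : ∀ c ∈ l, c < 2 * 2) :
    (l.map (lval (cgen 3 mm CB CB e))).prod = ev (2 * 3) (coverRels 3 mm CB CB e) l :=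
  (ev_eq_prod 3 mm CB CB e l (fun c hc => by have := hl c hc; omega)).symm

theorem relsB_hold : ∀ l ∈ coverRels 2 mm CA CA e,
    (l.map (lval (cgen 3 mm CB CB e))).prod = 1 := by
  apply coverRels_hold
  · intro i hi
    exact cgen_pow 3 mm CB CB e (i := i) (by omega)
  · intro r hr
    rw [evB_eq e r (CA_lt r hr)]
    exact cover_center 3 mm CB CB e (CA_sub r hr) (CA_lt6 r hr)
  · intro r hr
    rw [evB_eq e r (CA_lt r hr), ev_pow]
    exact ev_rel (mem_coverRels_T 3 mm CB CB e (CA_sub r hr))

/-- the natural map from the covering group of the subgroup of order 4080. -/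
noncomputable def phiB : CovG 2 mm CA CA e →* CovG 3 mm CB CB e :=
  lift (lval (cgen 3 mm CB CB e)) (coverRels_lt 2 mm CA CA e CA2_lt) (relsB_hold e)

theorem phiB_ev (l : List ℕ) (hl : ∀ c ∈ l, c < 2 * 2) :
    phiB e (ev (2 * 2) (coverRels 2 mm CA CA e) l) = ev (2 * 3) (coverRels 3 mm CB CB e) l := by
  unfold phiB
  rw [lift_ev _ _ _ l hl, evB_eq e l hl]

/-- the image of the covering group of the subgroup of order 4080. -/
noncomputable def kB : Subgroup (CovG 3 mm CB CB e) := (phiB e).range

theorem compB_eq : (piB e).comp (phiB e) = piA e := by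
  apply covG_hom_ext
  intro c hc
  have hl : ∀ c' ∈ [c], c' < 2 * 2 := by
    intro c' hc'
    rw [List.mem_singleton] at hc'
    omega
  have hl6 : ∀ c' ∈ [c], c' < 2 * 3 := fun c' hc' => by have := hl c' hc'; omega
  rw [MonoidHom.comp_apply, phiB_ev e [c] hl, piB_ev e [c] hl6, piA_ev e [c] hl]

theorem zB_ker : ∀ i, zC 3 mm CB CB e i ∈ (piB e).ker := by
  intro i
  unfold zC
  by_cases hi : i < CB.length
  · rw [List.getD_eq_getElem CB [] hi]
    exact coverHomU_ker 3 mm CB CB e CB2_lt g g_pow3 CB2_rel (List.getElem_mem hi)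
  · rw [List.getD_eq_default CB [] (by omega), ev_nil]
    exact Subgroup.one_mem _

theorem letter_mem_kB (c : ℕ) (hc : c < 2 * 2) :
    ev (2 * 3) (coverRels 3 mm CB CB e) [c] ∈ kB e := by
  refine ⟨ev (2 * 2) (coverRels 2 mm CA CA e) [c], ?_⟩
  apply phiB_ev
  intro c' hc'
  rw [List.mem_singleton] at hc'
  omega

variable {e}

theorem kB_fin (hA : BoundA e) : Finite (kB e) := by
  have := hA.1
  exact Finite.of_surjective (phiB e).rangeRestrict (phiB e).rangeRestrict_surjective

theorem kB_card (hA : BoundA e) : Nat.card (kB e) ≤ 4080 := by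
  have := hA.1
  exact (Nat.card_le_card_of_surjective (phiB e).rangeRestrict
    (phiB e).rangeRestrict_surjective).trans hA.2

theorem kB_map_card (hA : BoundA e) : 4080 ≤ Nat.card ((kB e).map (piB e)) := by
  have h : (kB e).map (piB e) = (piA e).range := by
    unfold kB
    rw [← MonoidHom.range_comp, compB_eq]
  rw [h]
  exact card_piA_range hA

theorem kB_inj (hA : BoundA e) :
    ∀ l, phi (zC 3 mm CB CB e) l ∈ kB e → phi (zC 3 mm CB CB e) l = 1 := by
  intro l hl
  have := kB_fin hA
  apply eq_one_of_map_card (kB e) (piB e) 4080 (kB_card hA) (kB_map_card hA) _ hl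
  exact MonoidHom.mem_ker.mp (phi_mem _ (zB_ker e) l)

/-- the words of the subgroup of order 4080 are trivial in the covering group. -/
theorem evB_CA_eq_one (hA : BoundA e) :
    ∀ r ∈ CA, ev (2 * 3) (coverRels 3 mm CB CB e) r = 1 := by
  intro r hr
  rw [← phiB_ev e r (CA_lt r hr), ev_CA_eq_one hA r hr, map_one]

theorem zB_tail (hA : BoundA e) : ∀ i, 6 ≤ i → zC 3 mm CB CB e i = 1 := by
  intro i hi
  unfold zC
  have e1 : CB.getD i [] = CA.getD (i - 6) [] := by
    rw [CB_eq]
    exact List.getD_append_right _ _ _ _ hi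
  rw [e1]
  by_cases hlt : i - 6 < CA.length
  · rw [List.getD_eq_getElem CA [] hlt]
    exact evB_CA_eq_one hA _ (List.getElem_mem hlt)
  · rw [List.getD_eq_default CA [] (by omega), ev_nil]

variable (e)

/-- the order bound given by the labelled coset enumerations. -/
def BoundB : Prop := Finite (CovG 3 mm CB CB e) ∧ Nat.card (CovG 3 mm CB CB e) ≤ 979200

theorem actsOn_B : ActsOn (rho.comp (piB e)) (ev (2 * 3) (coverRels 3 mm CB CB e)) (2 * 3)
    tabF :=
  actsOn_of_hom (piB e) _ (2 * 3) (by norm_num) (piB_ev e)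

theorem card_range_B : 979200 ≤ Nat.card (rho.comp (piB e)).range := by
  have h1 := chain_lower (actsOn_B e) levelBs [] chainB_ok
  rw [chainB_prod] at h1
  exact h1.trans (Subgroup.card_le_of_le inf_le_left)

variable {e}

theorem rhoB_injective (hB : BoundB e) : Function.Injective (rho.comp (piB e)) := by
  have := hB.1
  have hs := (rho.comp (piB e)).rangeRestrict_surjective
  have hb := hs.bijective_of_nat_card_le (hB.2.trans (card_range_B e))
  intro x y hxy
  apply hb.1
  exact Subtype.ext hxy

theorem piB_injective (hB : BoundB e) : Function.Injective (piB e) := by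
  intro x y hxy
  apply rhoB_injective hB
  rw [MonoidHom.comp_apply, MonoidHom.comp_apply, hxy]

theorem card_piB_range (hB : BoundB e) : 979200 ≤ Nat.card (piB e).range := by
  have := hB.1
  have h1 : Nat.card (rho.comp (piB e)).range ≤ Nat.card (piB e).range := by
    rw [MonoidHom.range_comp]
    have : Finite (piB e).range := inferInstance
    exact Nat.le_of_dvd Nat.card_pos (Subgroup.card_map_dvd _ rho)
  exact (card_range_B e).trans h1

/-- the central words are trivial in the covering group of the subgroup of order 979200. -/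
theorem ev_CB_eq_one (hB : BoundB e) :
    ∀ r ∈ CB, ev (2 * 3) (coverRels 3 mm CB CB e) r = 1 := by
  intro r hr
  apply piB_injective hB
  rw [map_one]
  exact MonoidHom.mem_ker.mp (coverHomU_ker 3 mm CB CB e CB2_lt g g_pow3 CB2_rel hr)

end prime

end Cfsg.Agent.Helper2.HeM
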