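import Mathlib
import Cfsg.Agent.Helper2.HeMCovB
import Cfsg.Agent.Helper2.HeMCovA35
import Cfsg.Agent.Helper2.HeMB35Sum

/-!
# The covering group of exponent 35 of the subgroup of order 979200 of the Held group: the order

Labelled Todd–Coxeter over the image of the covering group of the subgroup of order 4080
(240 cosets): the covering group has order at most `4080 * 240 = 979200`.
-/

set_option autoImplicit false

namespace Cfsg.Agent.Helper2.HeM

open Cfsg Cfsg.Agent.Helper5 Cfsg.Agent.Helper5.StemP Cfsg.Agent.Helper5.LP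
  Cfsg.Agent.Helper5.LTC Cfsg.Agent.Helper5.TC Cfsg.Agent.Helper5.TCI

theorem words_lt_B35 : ∀ wi, ∀ c ∈ HeMB35.cert.W wi, c < 2 * 3 := by
  intro wi c hc
  have h : ∀ w ∈ HeMB35.words, ∀ c ∈ w, c < 6 := by decide +kernel
  change c ∈ HeMB35.words.getD wi [] at hc
  by_cases hwi : wi < HeMB35.words.length
  · rw [List.getD_eq_getElem _ _ hwi] at hc
    exact h _ (List.getElem_mem hwi) c hc
  · rw [List.getD_eq_default _ _ (by omega)] at hc
    simp at hc

set_option maxRecDepth 1000000 in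
theorem wordOK_B35 : ∀ wi, wi < HeMB35.cert.nrel →
    wordOK2 (coverRels 3 mm CB CB 35) CB 6 (HeMB35.cert.W wi) (HeMB35.cert.δ wi)
      (HeMB35.origs.getD wi 0) = true := by decide +kernel

theorem subW0_B35 : HeMB35.cert.W 92 = [0] := by decide +kernel

theorem subW1_B35 : HeMB35.cert.W 93 = [2] := by decide +kernel

theorem hsubs_B35 : ∀ wi, HeMB35.cert.nrel ≤ wi → wi < HeMB35.cert.nw →
    ev (2 * 3) (coverRels 3 mm CB CB 35) (HeMB35.cert.W wi) ∈ kB 35 := by
  intro wi h1 h2
  have h1' : 92 ≤ wi := h1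
  have h2' : wi < 94 := h2
  interval_cases wi
  · rw [subW0_B35]
    exact letter_mem_kB 35 0 (by norm_num)
  · rw [subW1_B35]
    exact letter_mem_kB 35 2 (by norm_num)

theorem boundB35 : BoundB 35 := by
  have := kB_fin boundA35
  have h := covG_card_le_tail 3 mm CB CB 35 HeMB35.cert rfl rfl rfl (by norm_num)
    (fun r hr => hr) CB_lt 6 (by norm_num) (zB_tail boundA35)
    words_lt_B35 (fun wi => HeMB35.origs.getD wi 0) wordOK_B35 (kB 35) hsubs_B35
    (kB_inj boundA35) HeMB35.hchk HeMB35.tab (by decide +kernel) (by decide)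
    HeMB35.hT HeMB35.js HeMB35.hjs 0 1 (by norm_num) (by norm_num) HeMB35.cs0 HeMB35.h0
    (fun i => HeMB35.as_.getD i 0) (fun i => HeMB35.css.getD i []) HeMB35.hgs
  refine ⟨h.1, h.2.trans ?_⟩
  have hN : HeMB35.tab.N = 240 := rfl
  rw [hN]
  calc Nat.card (kB 35) * 240 * 1 ≤ 4080 * 240 * 1 :=
        Nat.mul_le_mul_right _ (Nat.mul_le_mul_right _ (kB_card boundA35))
    _ = 979200 := by norm_num

end Cfsg.Agent.Helper2.HeM
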