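import Mathlib
import Cfsg.Agent.Helper2.HeMCovB

/-!
# The covering groups of the Held group

The covering presentation of exponent `e` on the generators `x0, x1, x2, x3` of order 17, over the
image of the covering group of the subgroup of order 979200.
-/

set_option autoImplicit false

namespace Cfsg.Agent.Helper2.HeM

open Cfsg Cfsg.Agent.Helper5 Cfsg.Agent.Helper5.StemP Cfsg.Agent.Helper5.LP
  Cfsg.Agent.Helper5.LTC Cfsg.Agent.Helper5.TC Cfsg.Agent.Helper5.TCI

theorem CC2_lt : ∀ r ∈ CC ++ CC, ∀ c ∈ r, c < 2 * 4 := by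
  intro r hr
  rcases List.mem_append.mp hr with h | h <;> exact CC_lt r h

theorem CC2_rel : ∀ r ∈ CC ++ CC, (r.map (lval g)).prod = 1 := by
  intro r hr
  rcases List.mem_append.mp hr with h | h <;> exact CC_rel r h

theorem CB_lt8 : ∀ r ∈ CB, ∀ c ∈ r, c < 2 * 4 := fun r hr c hc => by
  have := CB_lt r hr c hc
  omega

section prime
variable (e : ℕ)

/-- the covering homomorphism. -/
noncomputable def piC : CovG 4 mm CC CC e →* P :=
  coverHomU 4 mm CC CC e CC2_lt g g_pow CC2_rel

theorem piC_surj : Function.Surjective (piC e) :=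
  coverHomU_surjective 4 mm CC CC e CC2_lt g g_pow CC2_rel g_closure

theorem piC_ev (l : List ℕ) (hl : ∀ c ∈ l, c < 2 * 4) :
    piC e (ev (2 * 4) (coverRels 4 mm CC CC e) l) = (l.map (lval g)).prod :=
  coverHomU_ev 4 mm CC CC e CC2_lt g g_pow CC2_rel l hl

theorem evC_eq (l : List ℕ) (hl : ∀ c ∈ l, c < 2 * 3) :
    (l.map (lval (cgen 4 mm CC CC e))).prod = ev (2 * 4) (coverRels 4 mm CC CC e) l :=
  (ev_eq_prod 4 mm CC CC e l (fun c hc => by have := hl c hc; omega)).symm

theorem relsC_hold : ∀ l ∈ coverRels 3 mm CB CB e,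
    (l.map (lval (cgen 4 mm CC CC e))).prod = 1 := by
  apply coverRels_hold
  · intro i hi
    exact cgen_pow 4 mm CC CC e (i := i) (by omega)
  · intro r hr
    rw [evC_eq e r (CB_lt r hr)]
    exact cover_center 4 mm CC CC e (CB_sub r hr) (CB_lt8 r hr)
  · intro r hr
    rw [evC_eq e r (CB_lt r hr), ev_pow]
    exact ev_rel (mem_coverRels_T 4 mm CC CC e (CB_sub r hr))

/-- the natural map from the covering group of the subgroup of order 979200. -/
noncomputable def phiC : CovG 3 mm CB CB e →* CovG 4 mm CC CC e :=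
  lift (lval (cgen 4 mm CC CC e)) (coverRels_lt 3 mm CB CB e CB2_lt) (relsC_hold e)

theorem phiC_ev (l : List ℕ) (hl : ∀ c ∈ l, c < 2 * 3) :
    phiC e (ev (2 * 3) (coverRels 3 mm CB CB e) l) = ev (2 * 4) (coverRels 4 mm CC CC e) l := by
  unfold phiC
  rw [lift_ev _ _ _ l hl, evC_eq e l hl]

/-- the image of the covering group of the subgroup of order 979200. -/
noncomputable def kC : Subgroup (CovG 4 mm CC CC e) := (phiC e).range

theorem compC_eq : (piC e).comp (phiC e) = piB e := by
  apply covG_hom_ext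
  intro c hc
  have hl : ∀ c' ∈ [c], c' < 2 * 3 := by
    intro c' hc'
    rw [List.mem_singleton] at hc'
    omega
  have hl8 : ∀ c' ∈ [c], c' < 2 * 4 := fun c' hc' => by have := hl c' hc'; omega
  rw [MonoidHom.comp_apply, phiC_ev e [c] hl, piC_ev e [c] hl8, piB_ev e [c] hl]

theorem zC_ker : ∀ i, zC 4 mm CC CC e i ∈ (piC e).ker := by
  intro i
  unfold zC
  by_cases hi : i < CC.length
  · rw [List.getD_eq_getElem CC [] hi]
    exact coverHomU_ker 4 mm CC CC e CC2_lt g g_pow CC2_rel (List.getElem_mem hi)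
  · rw [List.getD_eq_default CC [] (by omega), ev_nil]
    exact Subgroup.one_mem _

theorem letter_mem_kC (c : ℕ) (hc : c < 2 * 3) :
    ev (2 * 4) (coverRels 4 mm CC CC e) [c] ∈ kC e := by
  refine ⟨ev (2 * 3) (coverRels 3 mm CB CB e) [c], ?_⟩
  apply phiC_ev
  intro c' hc'
  rw [List.mem_singleton] at hc'
  omega

variable {e}

theorem kC_fin (hB : BoundB e) : Finite (kC e) := by
  have := hB.1
  exact Finite.of_surjective (phiC e).rangeRestrict (phiC e).rangeRestrict_surjective

theorem kC_card (hB : BoundB e) : Nat.card (kC e) ≤ 979200 := by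
  have := hB.1
  exact (Nat.card_le_card_of_surjective (phiC e).rangeRestrict
    (phiC e).rangeRestrict_surjective).trans hB.2

theorem kC_map_card (hB : BoundB e) : 979200 ≤ Nat.card ((kC e).map (piC e)) := by
  have h : (kC e).map (piC e) = (piB e).range := by
    unfold kC
    rw [← MonoidHom.range_comp, compC_eq]
  rw [h]
  exact card_piB_range hB

theorem kC_inj (hB : BoundB e) :
    ∀ l, phi (zC 4 mm CC CC e) l ∈ kC e → phi (zC 4 mm CC CC e) l = 1 := by
  intro l hl
  have := kC_fin hB
  apply eq_one_of_map_card (kC e) (piC e) 979200 (kC_card hB) (kC_map_card hB) _ hl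
  exact MonoidHom.mem_ker.mp (phi_mem _ (zC_ker e) l)

/-- the words of the subgroup of order 979200 are trivial in the covering group. -/
theorem evC_CB_eq_one (hB : BoundB e) :
    ∀ r ∈ CB, ev (2 * 4) (coverRels 4 mm CC CC e) r = 1 := by
  intro r hr
  rw [← phiC_ev e r (CB_lt r hr), ev_CB_eq_one hB r hr, map_one]

theorem zC_tail (hB : BoundB e) : ∀ i, 7 ≤ i → zC 4 mm CC CC e i = 1 := by
  intro i hi
  unfold zC
  have e1 : CC.getD i [] = CB.getD (i - 7) [] := by
    rw [CC_eq]
    exact List.getD_append_right _ _ _ _ hi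
  rw [e1]
  by_cases hlt : i - 7 < CB.length
  · rw [List.getD_eq_getElem CB [] hlt]
    exact evC_CB_eq_one hB _ (List.getElem_mem hlt)
  · rw [List.getD_eq_default CB [] (by omega), ev_nil]

variable (e)

/-- the order bound given by the labelled coset enumerations. -/
def BoundC : Prop := Finite (CovG 4 mm CC CC e) ∧ Nat.card (CovG 4 mm CC CC e) ≤ 4030387200

variable {e}

theorem card_ker_C (hC : BoundC e) : Nat.card (piC e).ker = 1 := by
  have := hC.1
  have h1 := card_eq_card_mul_ker (piC e) (piC_surj e)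
  have h2 := hC.2
  rw [← card_P] at h2
  have hpos : 0 < Nat.card P := Nat.card_pos
  have hk : 0 < Nat.card (piC e).ker := Nat.card_pos
  have h3 : Nat.card (piC e).ker ≤ 1 := by
    by_contra hcon
    rw [not_le] at hcon
    have : Nat.card P * 2 ≤ Nat.card P * Nat.card (piC e).ker :=
      Nat.mul_le_mul_left _ hcon
    omega
  omega

theorem card_C (hC : BoundC e) : Nat.card (CovG 4 mm CC CC e) = Nat.card P := by
  have := hC.1
  rw [card_eq_card_mul_ker (piC e) (piC_surj e), card_ker_C hC, mul_one]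

end prime

end Cfsg.Agent.Helper2.HeM
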