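import Mathlib
import Cfsg.Agent.Helper2.HeMCovC
import Cfsg.Agent.Helper2.HeMCovB35
import Cfsg.Agent.Helper2.HeMC35Sum

/-!
# The covering group of exponent 35 of the Held group: the order

Labelled Todd–Coxeter over the image of the covering group of the subgroup of order 979200
(4116 cosets): the covering group has order at most `979200 * 4116 = 4030387200`.
-/

set_option autoImplicit false

namespace Cfsg.Agent.Helper2.HeM

open Cfsg Cfsg.Agent.Helper5 Cfsg.Agent.Helper5.StemP Cfsg.Agent.Helper5.LP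
  Cfsg.Agent.Helper5.LTC Cfsg.Agent.Helper5.TC Cfsg.Agent.Helper5.TCI

theorem words_lt_C35 : ∀ wi, ∀ c ∈ HeMC35.cert.W wi, c < 2 * 4 := by
  intro wi c hc
  have h : ∀ w ∈ HeMC35.words, ∀ c ∈ w, c < 8 := by decide +kernel
  change c ∈ HeMC35.words.getD wi [] at hc
  by_cases hwi : wi < HeMC35.words.length
  · rw [List.getD_eq_getElem _ _ hwi] at hc
    exact h _ (List.getElem_mem hwi) c hc
  · rw [List.getD_eq_default _ _ (by omega)] at hc
    simp at hc

set_option maxRecDepth 1000000 in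
theorem wordOK_C35 : ∀ wi, wi < HeMC35.cert.nrel →
    wordOK2 (coverRels 4 mm CC CC 35) CC 7 (HeMC35.cert.W wi) (HeMC35.cert.δ wi)
      (HeMC35.origs.getD wi 0) = true := by decide +kernel

theorem subW0_C35 : HeMC35.cert.W 177 = [0] := by decide +kernel

theorem subW1_C35 : HeMC35.cert.W 178 = [2] := by decide +kernel

theorem subW2_C35 : HeMC35.cert.W 179 = [4] := by decide +kernel

theorem hsubs_C35 : ∀ wi, HeMC35.cert.nrel ≤ wi → wi < HeMC35.cert.nw →
    ev (2 * 4) (coverRels 4 mm CC CC 35) (HeMC35.cert.W wi) ∈ kC 35 := by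
  intro wi h1 h2
  have h1' : 177 ≤ wi := h1
  have h2' : wi < 180 := h2
  interval_cases wi
  · rw [subW0_C35]
    exact letter_mem_kC 35 0 (by norm_num)
  · rw [subW1_C35]
    exact letter_mem_kC 35 2 (by norm_num)
  · rw [subW2_C35]
    exact letter_mem_kC 35 4 (by norm_num)

theorem boundC35 : BoundC 35 := by
  have := kC_fin boundB35
  have h := covG_card_le_tail 4 mm CC CC 35 HeMC35.cert rfl rfl rfl (by norm_num)
    (fun r hr => hr) CC_lt 7 (by norm_num) (zC_tail boundB35)
    words_lt_C35 (fun wi => HeMC35.origs.getD wi 0) wordOK_C35 (kC 35) hsubs_C35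
    (kC_inj boundB35) HeMC35.hchk HeMC35.tab (by decide +kernel) (by decide)
    HeMC35.hT HeMC35.js HeMC35.hjs 0 1 (by norm_num) (by norm_num) HeMC35.cs0 HeMC35.h0
    (fun i => HeMC35.as_.getD i 0) (fun i => HeMC35.css.getD i []) HeMC35.hgs
  refine ⟨h.1, h.2.trans ?_⟩
  have hN : HeMC35.tab.N = 4116 := rfl
  rw [hN]
  calc Nat.card (kC 35) * 4116 * 1 ≤ 979200 * 4116 * 1 :=
        Nat.mul_le_mul_right _ (Nat.mul_le_mul_right _ (kC_card boundB35))
    _ = 4030387200 := by norm_num

end Cfsg.Agent.Helper2.HeM
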