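import Mathlib
import Cfsg.Agent.Helper2.HeMCovC
import Cfsg.Agent.Helper2.HeMCovB6
import Cfsg.Agent.Helper2.HeMC6Sum

/-!
# The covering group of exponent 6 of the Held group: the order

Labelled Todd–Coxeter over the image of the covering group of the subgroup of order 979200
(4116 cosets): the covering group has order at most `979200 * 4116 = 4030387200`.
-/

set_option autoImplicit false

namespace Cfsg.Agent.Helper2.HeM

open Cfsg Cfsg.Agent.Helper5 Cfsg.Agent.Helper5.StemP Cfsg.Agent.Helper5.LP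
  Cfsg.Agent.Helper5.LTC Cfsg.Agent.Helper5.TC Cfsg.Agent.Helper5.TCI

theorem words_lt_C6 : ∀ wi, ∀ c ∈ HeMC6.cert.W wi, c < 2 * 4 := by
  intro wi c hc
  have h : ∀ w ∈ HeMC6.words, ∀ c ∈ w, c < 8 := by decide +kernel
  change c ∈ HeMC6.words.getD wi [] at hc
  by_cases hwi : wi < HeMC6.words.length
  · rw [List.getD_eq_getElem _ _ hwi] at hc
    exact h _ (List.getElem_mem hwi) c hc
  · rw [List.getD_eq_default _ _ (by omega)] at hc
    simp at hc

set_option maxRecDepth 1000000 in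
theorem wordOK_C6 : ∀ wi, wi < HeMC6.cert.nrel →
    wordOK2 (coverRels 4 mm CC CC 6) CC 7 (HeMC6.cert.W wi) (HeMC6.cert.δ wi)
      (HeMC6.origs.getD wi 0) = true := by decide +kernel

theorem subW0_C6 : HeMC6.cert.W 177 = [0] := by decide +kernel

theorem subW1_C6 : HeMC6.cert.W 178 = [2] := by decide +kernel

theorem subW2_C6 : HeMC6.cert.W 179 = [4] := by decide +kernel

theorem hsubs_C6 : ∀ wi, HeMC6.cert.nrel ≤ wi → wi < HeMC6.cert.nw →
    ev (2 * 4) (coverRels 4 mm CC CC 6) (HeMC6.cert.W wi) ∈ kC 6 := by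
  intro wi h1 h2
  have h1' : 177 ≤ wi := h1
  have h2' : wi < 180 := h2
  interval_cases wi
  · rw [subW0_C6]
    exact letter_mem_kC 6 0 (by norm_num)
  · rw [subW1_C6]
    exact letter_mem_kC 6 2 (by norm_num)
  · rw [subW2_C6]
    exact letter_mem_kC 6 4 (by norm_num)

theorem boundC6 : BoundC 6 := by
  have := kC_fin boundB6
  have h := covG_card_le_tail 4 mm CC CC 6 HeMC6.cert rfl rfl rfl (by norm_num)
    (fun r hr => hr) CC_lt 7 (by norm_num) (zC_tail boundB6)
    words_lt_C6 (fun wi => HeMC6.origs.getD wi 0) wordOK_C6 (kC 6) hsubs_C6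
    (kC_inj boundB6) HeMC6.hchk HeMC6.tab (by decide +kernel) (by decide)
    HeMC6.hT HeMC6.js HeMC6.hjs 0 1 (by norm_num) (by norm_num) HeMC6.cs0 HeMC6.h0
    (fun i => HeMC6.as_.getD i 0) (fun i => HeMC6.css.getD i []) HeMC6.hgs
  refine ⟨h.1, h.2.trans ?_⟩
  have hN : HeMC6.tab.N = 4116 := rfl
  rw [hN]
  calc Nat.card (kC 6) * 4116 * 1 ≤ 979200 * 4116 * 1 :=
        Nat.mul_le_mul_right _ (Nat.mul_le_mul_right _ (kC_card boundB6))
    _ = 4030387200 := by norm_num

end Cfsg.Agent.Helper2.HeM
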