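import Mathlib
import Cfsg.Agent.Helper2.HeMCovC6
import Cfsg.Agent.Helper2.HeMCovC35
import Cfsg.Agent.Helper5.StemPL
import Cfsg.Agent.Helper5.StemPK
import Cfsg.Agent.Helper3.Schur

/-!
# The Schur multiplier of the Held group is trivial

The covering groups of exponents 6 and 35 on four generators of order 17 have the order of the
group; so the kernel of a finite stem extension has no element of order 2, 3, 5 or 7, and it has no
element of order 17 since `17 ^ 2` does not divide the order of the group.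
-/

set_option autoImplicit false

namespace Cfsg.Agent.Helper2.HeM

open Cfsg Cfsg.Agent.Helper5 Cfsg.Agent.Helper5.StemP Cfsg.Agent.Helper5.LP
  Cfsg.Agent.Helper5.LTC

universe u v

/-- the order of the kernel of a stem extension is at most the product of the orders of the kernels
of four quotients. -/
theorem card_ker_le_mul4 {Γ : Type u} {G : Type v} [Group Γ] [Group G] [Finite Γ] (σ : Γ →* G)
    (hc : σ.ker ≤ Subgroup.center Γ) (t1 t2 t3 t4 : ℕ)
    (h : ∀ z ∈ σ.ker, z ^ Nat.gcd (Nat.gcd (Nat.gcd t1 t2) t3) t4 = 1 → z = 1) :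
    Nat.card σ.ker ≤ Nat.card (qmap σ hc t1).ker * Nat.card (qmap σ hc t2).ker *
      Nat.card (qmap σ hc t3).ker * Nat.card (qmap σ hc t4).ker := by
  rw [← Nat.card_prod, ← Nat.card_prod, ← Nat.card_prod]
  apply Nat.card_le_card_of_injective
    (fun z : σ.ker => ((((⟨QuotientGroup.mk z.1, z.2⟩ : (qmap σ hc t1).ker),
      (⟨QuotientGroup.mk z.1, z.2⟩ : (qmap σ hc t2).ker)),
      (⟨QuotientGroup.mk z.1, z.2⟩ : (qmap σ hc t3).ker)),
      (⟨QuotientGroup.mk z.1, z.2⟩ : (qmap σ hc t4).ker)))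
  intro a b hab
  have h1 : (QuotientGroup.mk a.1 : Γ ⧸ torPart σ hc t1) = QuotientGroup.mk b.1 :=
    congrArg (fun p => (p.1.1.1 : Γ ⧸ torPart σ hc t1)) hab
  have h2 : (QuotientGroup.mk a.1 : Γ ⧸ torPart σ hc t2) = QuotientGroup.mk b.1 :=
    congrArg (fun p => (p.1.1.2 : Γ ⧸ torPart σ hc t2)) hab
  have h3 : (QuotientGroup.mk a.1 : Γ ⧸ torPart σ hc t3) = QuotientGroup.mk b.1 :=
    congrArg (fun p => (p.1.2 : Γ ⧸ torPart σ hc t3)) hab
  have h4 : (QuotientGroup.mk a.1 : Γ ⧸ torPart σ hc t4) = QuotientGroup.mk b.1 :=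
    congrArg (fun p => (p.2 : Γ ⧸ torPart σ hc t4)) hab
  rw [QuotientGroup.eq] at h1 h2 h3 h4
  have h5 : (a.1⁻¹ * b.1) ^ Nat.gcd t1 t2 = 1 := pow_gcd_eq_one.mpr ⟨h1.2, h2.2⟩
  have h6 : (a.1⁻¹ * b.1) ^ Nat.gcd (Nat.gcd t1 t2) t3 = 1 := pow_gcd_eq_one.mpr ⟨h5, h3.2⟩
  have h7 : (a.1⁻¹ * b.1) ^ Nat.gcd (Nat.gcd (Nat.gcd t1 t2) t3) t4 = 1 :=
    pow_gcd_eq_one.mpr ⟨h6, h4.2⟩
  have h8 := h _ h1.1 h7
  apply Subtype.ext
  exact inv_mul_eq_one.mp h8

theorem mm_cop (n : ℕ) (h17 : Nat.Coprime 17 n) :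
    ∀ i, i < 4 → g i ^ mm i = 1 ∧ (mm i).Coprime n :=
  fun i hi => ⟨g_pow i hi, h17⟩

theorem bound (Γ : Type) [Group Γ] [Finite Γ] (σ : Γ →* P)
    (hσ : Cfsg.IsStemExtension σ) : Nat.card σ.ker ≤ 1 := by
  have hc := hσ.2.1
  have f6 : Finite (LPG (2 * 4) (coverRels 4 mm CC CC 6)) := boundC6.1
  have f35 : Finite (LPG (2 * 4) (coverRels 4 mm CC CC 35)) := boundC35.1
  have hcard6 : Nat.card (LPG (2 * 4) (coverRels 4 mm CC CC 6)) ∣ Nat.card P * 1 := by
    show Nat.card (CovG 4 mm CC CC 6) ∣ _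
    rw [card_C boundC6, mul_one]
  have hcard35 : Nat.card (LPG (2 * 4) (coverRels 4 mm CC CC 35)) ∣ Nat.card P * 1 := by
    show Nat.card (CovG 4 mm CC CC 35) ∣ _
    rw [card_C boundC35, mul_one]
  have h2 : Nat.card (qmap σ hc 3935925).ker ∣ 1 :=
    card_qmap_ker_dvd_of_pow_dvd σ hσ hc 2 Nat.prime_two 10 1 3935925 6 (by norm_num)
      (by rw [card_P]; norm_num)
      4 mm CC CC CC2_lt g g_closure (mm_cop (2 ^ 10) (by decide)) CC2_rel 1 hcard6 (by decide)
  have h3 : Nat.card (qmap σ hc 149273600).ker ∣ 1 :=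
    card_qmap_ker_dvd_of_pow_dvd σ hσ hc 3 Nat.prime_three 3 1 149273600 6 (by norm_num)
      (by rw [card_P]; norm_num)
      4 mm CC CC CC2_lt g g_closure (mm_cop (3 ^ 3) (by decide)) CC2_rel 1 hcard6 (by decide)
  have h5 : Nat.card (qmap σ hc 161215488).ker ∣ 1 :=
    card_qmap_ker_dvd_of_pow_dvd σ hσ hc 5 Nat.prime_five 2 1 161215488 35 (by norm_num)
      (by rw [card_P]; norm_num)
      4 mm CC CC CC2_lt g g_closure (mm_cop (5 ^ 2) (by decide)) CC2_rel 1 hcard35 (by decide)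
  have h7 : Nat.card (qmap σ hc 11750400).ker ∣ 1 :=
    card_qmap_ker_dvd_of_pow_dvd σ hσ hc 7 (by norm_num) 3 1 11750400 35 (by norm_num)
      (by rw [card_P]; norm_num)
      4 mm CC CC CC2_lt g g_closure (mm_cop (7 ^ 3) (by decide)) CC2_rel 1 hcard35 (by decide)
  have h17 : ∀ z ∈ σ.ker,
      z ^ Nat.gcd (Nat.gcd (Nat.gcd 3935925 149273600) 161215488) 11750400 = 1 → z = 1 := by
    intro z hz hz1
    have e17 : Nat.gcd (Nat.gcd (Nat.gcd 3935925 149273600) 161215488) 11750400 = 17 := by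
      decide
    rw [e17] at hz1
    refine eq_one_of_pow_eq_one σ hσ 17 ?_ z hz hz1
    intro q hq hqd
    rw [card_P, (Nat.prime_dvd_prime_iff_eq hq (by norm_num)).mp hqd]
    decide
  have h8 := card_ker_le_mul4 σ hc 3935925 149273600 161215488 11750400 h17
  calc Nat.card σ.ker ≤ Nat.card (qmap σ hc 3935925).ker * Nat.card (qmap σ hc 149273600).ker *
        Nat.card (qmap σ hc 161215488).ker * Nat.card (qmap σ hc 11750400).ker := h8
    _ ≤ 1 * 1 * 1 * 1 :=
        Nat.mul_le_mul (Nat.mul_le_mul (Nat.mul_le_mul (Nat.le_of_dvd (by norm_num) h2)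
          (Nat.le_of_dvd (by norm_num) h3)) (Nat.le_of_dvd (by norm_num) h5))
          (Nat.le_of_dvd (by norm_num) h7)
    _ = 1 := by norm_num

/-- **The Schur multiplier of the presented group is trivial.** -/
theorem main : Cfsg.HasCyclicSchurMultiplier P 1 := by
  apply Cfsg.Agent.Helper3.hasCyclicSchurMultiplier_one_of
  intro Γ _ _ σ hσ
  have h := bound Γ σ hσ
  rw [Subgroup.eq_bot_iff_card]
  have hpos : 0 < Nat.card σ.ker := Nat.card_pos
  omega

end Cfsg.Agent.Helper2.HeM
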