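import Mathlib
import Cfsg.Agent.S0670

set_option autoImplicit false

namespace Cfsg.Agent.Helper2.HeartTriv

open MulAction

section

variable {G : Type*} [Group G] {K : Type*} [Field K] {Ω : Type*} [Fintype Ω] [MulAction G Ω]

/-- The orthogonal complement of a subrepresentation of the permutation module. -/
noncomputable def perp (W : Subrepresentation (Cfsg.permRep K G Ω)) :
    Subrepresentation (Cfsg.permRep K G Ω) where
  toSubmodule :=
    { carrier := {w | ∀ u ∈ W.toSubmodule, ∑ x, w x * u x = 0}
      add_mem' := by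
        intro w₁ w₂ h₁ h₂ u hu
        simp only [Pi.add_apply, add_mul, Finset.sum_add_distrib]
        rw [h₁ u hu, h₂ u hu, add_zero]
      zero_mem' := by
        intro u _
        simp
      smul_mem' := by
        intro c w hw u hu
        simp only [Pi.smul_apply, smul_eq_mul, mul_assoc, ← Finset.mul_sum]
        rw [hw u hu, mul_zero] }
  apply_mem_toSubmodule g w hw := by
    intro u hu
    have h1 := hw (Cfsg.permRep K G Ω g⁻¹ u) (W.apply_mem_toSubmodule g⁻¹ hu)
    show ∑ x, w (g⁻¹ • x) * u x = 0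
    rw [← Equiv.sum_comp (MulAction.toPerm g) (fun x => w (g⁻¹ • x) * u x)]
    have h2 : ∀ x, Cfsg.permRep K G Ω g⁻¹ u x = u (g • x) := by
      intro x
      show u ((g⁻¹)⁻¹ • x) = u (g • x)
      rw [inv_inv]
    simp only [h2] at h1
    simpa using h1

theorem mem_perp {W : Subrepresentation (Cfsg.permRep K G Ω)} {w : Ω → K} :
    w ∈ (perp W).toSubmodule ↔ ∀ u ∈ W.toSubmodule, ∑ x, w x * u x = 0 := Iff.rfl

end

section

variable {G : Type*} [Group G] [Finite G] {K : Type*} [Field K] {p f : ℕ} [Fact p.Prime]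
  [CharP K p] {Ω : Type*} [Fintype Ω] [MulAction G Ω] [MulAction.IsPretransitive G Ω]

/-- Locality: an invariant subspace not inside the sum-zero functions is everything. -/
theorem eq_top_of_sum_ne_zero (hf : 1 ≤ f) (hcard : Fintype.card Ω = p ^ f)
    (W : Subrepresentation (Cfsg.permRep K G Ω)) (u : Ω → K) (hu : u ∈ W.toSubmodule)
    (hsum : ∑ x, u x ≠ 0) : W.toSubmodule = ⊤ := by
  classical
  by_contra hne
  have hlt : W.toSubmodule < ⊤ := lt_top_iff_ne_top.2 hne
  obtain ⟨φ, hφ0, hφ⟩ := Submodule.exists_le_ker_of_lt_top _ hlt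
  have hφw : ∀ v : Ω → K, φ v = ∑ x, φ (Pi.single x 1) * v x := by
    intro v
    rw [LinearMap.pi_apply_eq_sum_univ φ v]
    refine Finset.sum_congr rfl fun x _ => ?_
    rw [smul_eq_mul, mul_comm]
    congr 2
    funext j
    rw [Pi.single_apply]
    by_cases h : x = j
    · rw [if_pos h, if_pos h.symm]
    · rw [if_neg h, if_neg (Ne.symm h)]
  have hw : (fun x => φ (Pi.single x 1)) ∈ (perp W).toSubmodule := by
    intro v hv
    rw [← hφw]
    exact hφ hv
  have hw0 : (perp W).toSubmodule ≠ ⊥ := by
    intro h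
    rw [h, Submodule.mem_bot] at hw
    apply hφ0
    apply LinearMap.ext
    intro v
    rw [hφw]
    have : ∀ x, φ (Pi.single x 1) = 0 := fun x => congrFun hw x
    simp [this]
  have h1 := Cfsg.Agent.S0670.result hf hcard (perp W) hw0
  have h2 : (fun _ => (1 : K)) ∈ (perp W).toSubmodule :=
    h1 (Submodule.subset_span (Set.mem_singleton _))
  have h3 := h2 u hu
  simp only [one_mul] at h3
  exact hsum h3

end

end Cfsg.Agent.Helper2.HeartTriv
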