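import Mathlib
import Cfsg.Agent.Helper2.HeartTriv

set_option autoImplicit false

namespace Cfsg.Agent.Helper2.HeartTriv

open MulAction

section

variable {G : Type*} [Group G] {K : Type*} [Field K] {Ω : Type*} [Fintype Ω] [MulAction G Ω]

open Classical in
/-- The operator `u ↦ (x ↦ ∑_{y : Γ x y} (u y - u x))` of a relation `Γ`. -/
noncomputable def orbOp (K : Type*) [Field K] (Γ : Ω → Ω → Prop) : (Ω → K) →ₗ[K] (Ω → K) where
  toFun u x := ∑ y, if Γ x y then (u y - u x) else 0
  map_add' u v := by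
    funext x
    simp only [Pi.add_apply]
    rw [← Finset.sum_add_distrib]
    refine Finset.sum_congr rfl fun y _ => ?_
    split_ifs
    · ring
    · simp
  map_smul' a u := by
    funext x
    simp only [Pi.smul_apply, smul_eq_mul, RingHom.id_apply]
    rw [Finset.mul_sum]
    refine Finset.sum_congr rfl fun y _ => ?_
    split_ifs
    · ring
    · simp

open Classical in
theorem orbOp_apply (Γ : Ω → Ω → Prop) (u : Ω → K) (x : Ω) :
    orbOp K Γ u x = ∑ y, if Γ x y then (u y - u x) else 0 := rfl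

theorem orbOp_permRep (Γ : Ω → Ω → Prop) (hΓ : ∀ (g : G) (x y : Ω), Γ (g • x) (g • y) ↔ Γ x y)
    (g : G) (u : Ω → K) :
    orbOp K Γ (Cfsg.permRep K G Ω g u) = Cfsg.permRep K G Ω g (orbOp K Γ u) := by
  classical
  funext x
  have e1 : Cfsg.permRep K G Ω g (orbOp K Γ u) x = orbOp K Γ u (g⁻¹ • x) := rfl
  have e2 : ∀ z, Cfsg.permRep K G Ω g u z = u (g⁻¹ • z) := fun z => rfl
  rw [e1, orbOp_apply, orbOp_apply]
  simp only [e2]
  rw [← Equiv.sum_comp (MulAction.toPerm g)
    (fun y => if Γ x y then (u (g⁻¹ • y) - u (g⁻¹ • x)) else 0)]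
  refine Finset.sum_congr rfl fun y _ => ?_
  simp only [MulAction.toPerm_apply, inv_smul_smul]
  have h3 : Γ x (g • y) ↔ Γ (g⁻¹ • x) y := by
    rw [← hΓ g (g⁻¹ • x) y, smul_inv_smul]
  by_cases h : Γ x (g • y)
  · rw [if_pos h, if_pos (h3.1 h)]
  · rw [if_neg h, if_neg (fun h' => h (h3.2 h'))]

theorem orbOp_one (Γ : Ω → Ω → Prop) : orbOp K Γ (fun _ => (1 : K)) = 0 := by
  classical
  funext x
  rw [orbOp_apply]
  simp

end

section

variable {G : Type*} [Group G] [Finite G] {K : Type*} [Field K] {p f : ℕ} [Fact p.Prime]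
  [CharP K p] {Ω : Type*} [Fintype Ω] [MulAction G Ω] [MulAction.IsPretransitive G Ω]

theorem main (hf : 1 ≤ f) (hcard : Fintype.card Ω = p ^ f)
    (h : ∀ W W' : Subrepresentation (Cfsg.permRep K G Ω),
      (Cfsg.permConstants K G Ω).toSubmodule ≤ W.toSubmodule →
      W.toSubmodule < W'.toSubmodule →
      W'.toSubmodule ≤ (Cfsg.permSumZero K G Ω).toSubmodule →
      ∃ g : G, ∃ v ∈ W'.toSubmodule, Cfsg.permRep K G Ω g v - v ∉ W.toSubmodule) :
    MulAction.IsMultiplyPretransitive G Ω 2 := by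
  classical
  by_contra h2
  rw [MulAction.is_two_pretransitive_iff] at h2
  push_neg at h2
  obtain ⟨a, b, c, d, hab, hcd, hno⟩ := h2
  let Γ : Ω → Ω → Prop := fun x y => ∃ g : G, g • a = x ∧ g • b = y
  have hΓ : ∀ (g : G) (x y : Ω), Γ (g • x) (g • y) ↔ Γ x y := by
    intro g x y
    constructor
    · rintro ⟨k, h1, h2⟩
      refine ⟨g⁻¹ * k, ?_, ?_⟩
      · rw [mul_smul, h1, inv_smul_smul]
      · rw [mul_smul, h2, inv_smul_smul]
    · rintro ⟨k, rfl, rfl⟩
      exact ⟨g * k, mul_smul _ _ _, mul_smul _ _ _⟩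
  have hΓirr : ∀ x, ¬ Γ x x := by
    rintro x ⟨k, h1, h2⟩
    exact hab (MulAction.injective k (h1.trans h2.symm))
  have hΓcd : ¬ Γ c d := by
    rintro ⟨k, h1, h2⟩
    exact hno k h1 h2
  obtain ⟨x₀, hx₀⟩ : ∃ x₀, Γ x₀ d := by
    obtain ⟨g, hg⟩ := MulAction.exists_smul_eq G b d
    exact ⟨g • a, g, rfl, hg⟩
  have hpK : ((Fintype.card Ω : ℕ) : K) = 0 := by
    rw [hcard, Nat.cast_pow, CharP.cast_eq_zero K p, zero_pow (by omega)]
  have hΩ : Nonempty Ω := ⟨a⟩
  -- the constants lie in the sum-zero functions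
  have hCS : (Cfsg.permConstants K G Ω).toSubmodule ≤ (Cfsg.permSumZero K G Ω).toSubmodule := by
    intro v hv
    obtain ⟨k, rfl⟩ := Submodule.mem_span_singleton.1 hv
    show ∑ x : Ω, (k • (fun _ => (1 : K)) : Ω → K) x = 0
    simp only [Pi.smul_apply, smul_eq_mul, mul_one, Finset.sum_const, Finset.card_univ,
      nsmul_eq_mul]
    rw [hpK, zero_mul]
  have hCfix : ∀ (g : G) (v : Ω → K), v ∈ (Cfsg.permConstants K G Ω).toSubmodule →
      Cfsg.permRep K G Ω g v = v := by
    intro g v hv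
    obtain ⟨k, rfl⟩ := Submodule.mem_span_singleton.1 hv
    rfl
  let φ := orbOp K Γ
  have hφ : ∀ (g : G) (u : Ω → K), φ (Cfsg.permRep K G Ω g u) = Cfsg.permRep K G Ω g (φ u) :=
    orbOp_permRep Γ hΓ
  -- subrepresentations
  let Rng : Subrepresentation (Cfsg.permRep K G Ω) :=
    { toSubmodule := LinearMap.range φ
      apply_mem_toSubmodule := by
        rintro g _ ⟨u, rfl⟩
        exact ⟨Cfsg.permRep K G Ω g u, hφ g u⟩ }
  let RngS : Subrepresentation (Cfsg.permRep K G Ω) :=
    { toSubmodule := (Cfsg.permSumZero K G Ω).toSubmodule.map φ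
      apply_mem_toSubmodule := by
        rintro g _ ⟨u, hu, rfl⟩
        exact ⟨Cfsg.permRep K G Ω g u,
          (Cfsg.permSumZero K G Ω).apply_mem_toSubmodule g hu, hφ g u⟩ }
  let Cmp : Subrepresentation (Cfsg.permRep K G Ω) :=
    { toSubmodule := (Cfsg.permConstants K G Ω).toSubmodule.comap φ
      apply_mem_toSubmodule := by
        intro g u hu
        show φ (Cfsg.permRep K G Ω g u) ∈ (Cfsg.permConstants K G Ω).toSubmodule
        rw [hφ g u]
        exact (Cfsg.permConstants K G Ω).apply_mem_toSubmodule g hu }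
  -- the image of `φ` is not inside the constants
  have hnotC : ¬ (∀ u, φ u ∈ (Cfsg.permConstants K G Ω).toSubmodule) := by
    intro hall
    obtain ⟨k, hk⟩ := Submodule.mem_span_singleton.1 (hall (Pi.single d 1))
    have h1 := congrFun hk c
    have h2 := congrFun hk x₀
    have hx₀d : x₀ ≠ d := by rintro rfl; exact hΓirr _ hx₀
    have e1 : φ (Pi.single d 1) c = 0 := by
      show orbOp K Γ (Pi.single d 1) c = 0
      rw [orbOp_apply]
      refine Finset.sum_eq_zero fun y _ => ?_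
      by_cases hy : Γ c y
      · have hyd : y ≠ d := by rintro rfl; exact hΓcd hy
        rw [if_pos hy, Pi.single_eq_of_ne hyd, Pi.single_eq_of_ne hcd, sub_zero]
      · rw [if_neg hy]
    have e2 : φ (Pi.single d 1) x₀ = 1 := by
      show orbOp K Γ (Pi.single d 1) x₀ = 1
      rw [orbOp_apply, Finset.sum_eq_single d]
      · rw [if_pos hx₀, Pi.single_eq_same, Pi.single_eq_of_ne hx₀d, sub_zero]
      · intro y _ hyd
        by_cases hy : Γ x₀ y
        · rw [if_pos hy, Pi.single_eq_of_ne hyd, Pi.single_eq_of_ne hx₀d, sub_zero]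
        · rw [if_neg hy]
      · intro h; exact absurd (Finset.mem_univ d) h
    simp only [Pi.smul_apply, smul_eq_mul, mul_one] at h1 h2
    rw [e1] at h1
    rw [e2, h1] at h2
    exact zero_ne_one h2
  -- the image of `φ` is inside the sum-zero functions
  have hRS : LinearMap.range φ ≤ (Cfsg.permSumZero K G Ω).toSubmodule := by
    by_contra hcon
    obtain ⟨v, hv, hvS⟩ := Set.not_subset.1 hcon
    have htop : Rng.toSubmodule = ⊤ := eq_top_of_sum_ne_zero hf hcard Rng v hv hvS
    have hsurj : Function.Surjective φ := LinearMap.range_eq_top.1 htop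
    have hinj : Function.Injective φ := LinearMap.injective_iff_surjective.2 hsurj
    have h1 : φ (fun _ => (1 : K)) = φ 0 := by rw [map_zero]; exact orbOp_one Γ
    have h2 := congrFun (hinj h1) a
    simp at h2
  -- apply the hypothesis
  have hW'S : (Rng ⊔ Cfsg.permConstants K G Ω).toSubmodule
      ≤ (Cfsg.permSumZero K G Ω).toSubmodule := by
    rw [Subrepresentation.toSubmodule_sup]
    exact sup_le hRS hCS
  have hCW : (Cfsg.permConstants K G Ω).toSubmodule
      ≤ (RngS ⊔ Cfsg.permConstants K G Ω).toSubmodule := by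
    rw [Subrepresentation.toSubmodule_sup]
    exact le_sup_right
  have hle : (RngS ⊔ Cfsg.permConstants K G Ω).toSubmodule
      ≤ (Rng ⊔ Cfsg.permConstants K G Ω).toSubmodule := by
    rw [Subrepresentation.toSubmodule_sup, Subrepresentation.toSubmodule_sup]
    refine sup_le_sup_right ?_ _
    rintro _ ⟨u, -, rfl⟩
    exact ⟨u, rfl⟩
  have hlt : (RngS ⊔ Cfsg.permConstants K G Ω).toSubmodule
      < (Rng ⊔ Cfsg.permConstants K G Ω).toSubmodule := by
    refine lt_of_le_of_ne hle ?_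
    intro heq
    apply hnotC
    have hsingle : φ (Pi.single a 1) ∈ (RngS ⊔ Cfsg.permConstants K G Ω).toSubmodule := by
      rw [heq, Subrepresentation.toSubmodule_sup]
      exact Submodule.mem_sup_left ⟨_, rfl⟩
    rw [Subrepresentation.toSubmodule_sup, Submodule.mem_sup] at hsingle
    obtain ⟨_, ⟨s, hs, rfl⟩, cc, hcc, hsum⟩ := hsingle
    have hmem : (Pi.single a (1 : K) - s : Ω → K) ∈ Cmp.toSubmodule := by
      show φ (Pi.single a (1 : K) - s) ∈ (Cfsg.permConstants K G Ω).toSubmodule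
      rw [map_sub, ← hsum, add_sub_cancel_left]
      exact hcc
    have hsum1 : ∑ x, (Pi.single a (1 : K) - s : Ω → K) x ≠ 0 := by
      have hs0 : ∑ x, s x = 0 := hs
      simp only [Pi.sub_apply, Finset.sum_sub_distrib, hs0, sub_zero]
      rw [Finset.sum_pi_single']
      simp
    have htop : Cmp.toSubmodule = ⊤ := eq_top_of_sum_ne_zero hf hcard Cmp _ hmem hsum1
    intro u
    have : u ∈ Cmp.toSubmodule := by rw [htop]; trivial
    exact this
  obtain ⟨g, v, hv, hgv⟩ := h _ _ hCW hlt hW'S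
  apply hgv
  rw [Subrepresentation.toSubmodule_sup, Submodule.mem_sup] at hv
  obtain ⟨_, ⟨u, rfl⟩, cc, hcc, rfl⟩ := hv
  rw [Subrepresentation.toSubmodule_sup]
  apply Submodule.mem_sup_left
  refine ⟨Cfsg.permRep K G Ω g u - u, ?_, ?_⟩
  · show ∑ x, (Cfsg.permRep K G Ω g u - u) x = 0
    simp only [Pi.sub_apply, Finset.sum_sub_distrib]
    have : ∑ x, Cfsg.permRep K G Ω g u x = ∑ x, u x :=
      Fintype.sum_equiv (MulAction.toPerm g⁻¹) _ _ (fun x => rfl)
    rw [this, sub_self]
  · rw [map_sub, map_add, hφ g u, hCfix g cc hcc]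
    abel

end

end Cfsg.Agent.Helper2.HeartTriv
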