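import Mathlib
import Cfsg.Agent.Helper2.OddAut
import Cfsg.Agent.Helper2.SmallOrder

set_option autoImplicit false

/-! Odd-order automorphism groups of abelian `2`-groups with at most four elements of order
dividing two. -/

namespace Cfsg.Agent.Helper2.Homocyclic

/-- an odd-order automorphism of an abelian `2`-group fixing all involutions is trivial -/
theorem aut_odd_trivial_of_fix_omega {Q : Type*} [Group Q] [Finite Q]
    (hcomm : ∀ a b : Q, a * b = b * a) (hQ : IsPGroup 2 Q) (σ : MulAut Q) (t : ℕ) (ht : Odd t)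
    (hσ : σ ^ t = 1) (hfix : ∀ x : Q, x ^ 2 = 1 → σ x = x) : σ = 1 := by
  have key : ∀ j : ℕ, ∀ x : Q, x ^ 2 ^ j = 1 → σ x = x := by
    intro j
    induction j with
    | zero =>
      intro x hx
      rw [pow_zero, pow_one] at hx
      rw [hx, map_one]
    | succ j ih =>
      intro x hx
      have h1 : (x ^ 2) ^ 2 ^ j = 1 := by rw [← pow_mul, ← pow_succ']; exact hx
      have h2 : σ (x ^ 2) = x ^ 2 := ih _ h1
      obtain ⟨w, hw⟩ : ∃ w, w = σ x * x⁻¹ := ⟨_, rfl⟩
      have hw2 : w ^ 2 = 1 := by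
        have hc : Commute (σ x) x⁻¹ := hcomm _ _
        rw [hw, hc.mul_pow, ← map_pow, h2, inv_pow, mul_inv_cancel]
      have hσw : σ w = w := hfix w hw2
      have hσx : σ x = w * x := by rw [hw]; group
      have hpow : ∀ k : ℕ, (σ ^ k) x = w ^ k * x := by
        intro k
        induction k with
        | zero => simp
        | succ k ihk =>
          rw [pow_succ', MulAut.mul_apply, ihk, map_mul, map_pow, hσw, hσx, pow_succ]
          group
      have hwt : w ^ t = 1 := by
        have h3 := hpow t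
        rw [hσ, MulAut.one_apply] at h3
        exact mul_eq_right.mp h3.symm
      have hw1 : w = 1 := by
        obtain ⟨k, rfl⟩ := ht
        rw [pow_succ, pow_mul, hw2, one_pow, one_mul] at hwt
        exact hwt
      rw [hσx, hw1, one_mul]
  ext x
  obtain ⟨j, hj⟩ := hQ x
  exact key j x hj

/-- the subgroup of elements of order dividing two -/
def omega (Q : Type*) [Group Q] (hcomm : ∀ a b : Q, a * b = b * a) : Subgroup Q where
  carrier := {x | x ^ 2 = 1}
  one_mem' := one_pow 2
  mul_mem' := by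
    intro a b ha hb
    have hc : Commute a b := hcomm a b
    change (a * b) ^ 2 = 1
    rw [hc.mul_pow, ha, hb, one_mul]
  inv_mem' := by
    intro a ha
    change a⁻¹ ^ 2 = 1
    rw [inv_pow, ha, inv_one]

theorem mem_omega {Q : Type*} [Group Q] (hcomm : ∀ a b : Q, a * b = b * a) (x : Q) :
    x ∈ omega Q hcomm ↔ x ^ 2 = 1 := Iff.rfl

/-- restriction of automorphisms to `omega` -/
def res (Q : Type*) [Group Q] (hcomm : ∀ a b : Q, a * b = b * a) :
    MulAut Q →* MulAut (omega Q hcomm) where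
  toFun σ :=
    { toFun := fun x => ⟨σ x, by
        have hx : (x : Q) ^ 2 = 1 := x.2
        change (σ x) ^ 2 = 1
        rw [← map_pow, hx, map_one]⟩
      invFun := fun x => ⟨σ⁻¹ x, by
        have hx : (x : Q) ^ 2 = 1 := x.2
        change (σ⁻¹ x) ^ 2 = 1
        rw [← map_pow, hx, map_one]⟩
      left_inv := fun x => by ext; simp
      right_inv := fun x => by ext; simp
      map_mul' := fun x y => by ext; simp }
  map_one' := by ext; rfl
  map_mul' := fun σ τ => by ext; rfl

theorem res_apply {Q : Type*} [Group Q] (hcomm : ∀ a b : Q, a * b = b * a) (σ : MulAut Q)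
    (x : omega Q hcomm) : ((res Q hcomm σ x : omega Q hcomm) : Q) = σ x := rfl

theorem card_odd_aut_subgroup {Q : Type*} [Group Q] [Finite Q]
    (hcomm : ∀ a b : Q, a * b = b * a) (hQ : IsPGroup 2 Q)
    (hΩ : Nat.card (omega Q hcomm) ≤ 4) (A : Subgroup (MulAut Q))
    (hA : Odd (Nat.card A)) :
    (Nat.card A = 1 ∨ Nat.card A = 3) ∧ (∀ σ ∈ A, ∀ z : Q, z ≠ 1 → σ z = z → σ = 1) := by
  classical
  haveI : Fact (Nat.Prime 3) := ⟨by norm_num⟩
  have hodd : ∀ σ ∈ A, Odd (orderOf σ) := by
    intro σ hσ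
    have h1 : orderOf σ ∣ Nat.card A := by
      have := orderOf_dvd_natCard (⟨σ, hσ⟩ : A)
      rwa [Subgroup.orderOf_mk] at this
    exact hA.of_dvd_nat h1
  have htriv : ∀ σ ∈ A, res Q hcomm σ = 1 → σ = 1 := by
    intro σ hσ h
    apply aut_odd_trivial_of_fix_omega hcomm hQ σ (orderOf σ) (hodd σ hσ) (pow_orderOf_eq_one σ)
    intro x hx
    have h1 := res_apply hcomm σ ⟨x, hx⟩
    rw [h] at h1
    exact h1.symm
  have hinj : Function.Injective ((res Q hcomm).comp A.subtype) := by
    rw [injective_iff_map_eq_one]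
    intro σ hσ
    apply Subtype.ext
    exact htriv σ.1 σ.2 hσ
  have hdvd6 : Nat.card A ∣ 6 := by
    have h1 := Subgroup.card_dvd_of_injective _ hinj
    have h2 := SmallOrder.card_mulAut_dvd_factorial (omega Q hcomm)
    have h3 : (Nat.card (omega Q hcomm) - 1).factorial ∣ (3 : ℕ).factorial :=
      Nat.factorial_dvd_factorial (by omega)
    exact h1.trans (h2.trans h3)
  have hcard : Nat.card A = 1 ∨ Nat.card A = 3 := by
    have hle : Nat.card A ≤ 6 := Nat.le_of_dvd (by norm_num) hdvd6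
    have hpos : 0 < Nat.card A := Nat.card_pos
    obtain ⟨k, hk⟩ := hA
    interval_cases h : Nat.card A <;> first | omega | (exfalso; revert hdvd6; decide)
  refine ⟨hcard, ?_⟩
  intro σ hσ z hz hσz
  -- σ ^ 3 = 1
  have hσ3 : σ ^ 3 = 1 := by
    have h1 : orderOf σ ∣ Nat.card A := by
      have := orderOf_dvd_natCard (⟨σ, hσ⟩ : A)
      rwa [Subgroup.orderOf_mk] at this
    apply orderOf_dvd_iff_pow_eq_one.mp
    rcases hcard with h | h
    · rw [h] at h1; exact h1.trans (by norm_num)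
    · rw [h] at h1; exact h1
  apply htriv σ hσ
  by_contra hτ
  set τ := res Q hcomm σ with hτdef
  have hτ3 : τ ^ 3 = 1 := by rw [hτdef, ← map_pow, hσ3, map_one]
  have hord : orderOf τ = 3 := by
    have h1 : orderOf τ ∣ 3 := orderOf_dvd_of_pow_eq_one hτ3
    rcases (Nat.dvd_prime (by norm_num : Nat.Prime 3)).mp h1 with h | h
    · exact absurd (orderOf_eq_one_iff.mp h) hτ
    · exact h
  have hmod := OddAut.card_modEq_fixSub τ 3 hord
  -- an involution fixed by σ
  obtain ⟨j, hj⟩ := (IsPGroup.iff_orderOf.mp hQ) z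
  have hj1 : 1 ≤ j := by
    by_contra h0
    have : j = 0 := by omega
    rw [this, pow_zero, orderOf_eq_one_iff] at hj
    exact hz hj
  obtain ⟨z₁, hz₁⟩ : ∃ z₁, z₁ = z ^ 2 ^ (j - 1) := ⟨_, rfl⟩
  have hz₁2 : z₁ ^ 2 = 1 := by
    rw [hz₁, ← pow_mul, ← pow_succ, Nat.sub_add_cancel hj1, ← hj, pow_orderOf_eq_one]
  have hz₁ne : z₁ ≠ 1 := by
    rw [hz₁]
    intro h
    have h1 := orderOf_dvd_of_pow_eq_one h
    rw [hj] at h1
    have h2 : j ≤ j - 1 := (Nat.pow_dvd_pow_iff_le_right (by norm_num)).mp h1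
    omega
  have hσz₁ : σ z₁ = z₁ := by rw [hz₁, map_pow, hσz]
  -- the fixed subgroup of τ
  have hfixmem : (⟨z₁, hz₁2⟩ : omega Q hcomm) ∈ OddAut.fixSub τ := by
    rw [OddAut.mem_fixSub]
    apply Subtype.ext
    rw [hτdef, res_apply]
    exact hσz₁
  have hfixne : OddAut.fixSub τ ≠ ⊥ := by
    intro h
    rw [h, Subgroup.mem_bot] at hfixmem
    exact hz₁ne (congrArg Subtype.val hfixmem)
  have hfixtop : OddAut.fixSub τ ≠ ⊤ := OddAut.fixSub_ne_top τ hτ
  have hΩ2 : IsPGroup 2 (omega Q hcomm) := hQ.to_subgroup _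
  obtain ⟨a, ha⟩ := IsPGroup.iff_card.mp hΩ2
  obtain ⟨b, hb⟩ := IsPGroup.iff_card.mp (hΩ2.to_subgroup (OddAut.fixSub τ))
  have hb1 : 1 ≤ b := by
    by_contra h0
    have : b = 0 := by omega
    rw [this, pow_zero] at hb
    exact hfixne (Subgroup.card_eq_one.mp hb)
  have hba : b < a := by
    have h1 : Nat.card (OddAut.fixSub τ) < Nat.card (omega Q hcomm) := by
      by_contra hge
      push Not at hge
      apply hfixtop
      exact Subgroup.eq_top_of_le_card _ hge
    rw [ha, hb] at h1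
    exact (Nat.pow_lt_pow_iff_right (by norm_num)).mp h1
  have ha2 : a ≤ 2 := by
    rw [ha] at hΩ
    by_contra h3
    push Not at h3
    have : 2 ^ 3 ≤ 2 ^ a := Nat.pow_le_pow_right (by norm_num) h3
    omega
  have hab : a = 2 ∧ b = 1 := by omega
  rw [ha, hb, hab.1, hab.2] at hmod
  revert hmod
  decide

end Cfsg.Agent.Helper2.Homocyclic
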