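import Mathlib
import Cfsg.Agent.Helper2.GenHyper
import Cfsg.Agent.Helper4.HallHigman
import Cfsg.Agent.Helper4.SolvPSolv
import Cfsg.Agent.Helper4.UpperPSeries2
import Cfsg.Agent.Helper5.Cores
import Cfsg.Agent.Helper1.Basic

set_option autoImplicit false

namespace Cfsg.Agent.Helper2.HypComm

open Cfsg.Agent.Helper2

/-- conjugation by a normalizing element as an automorphism of the subgroup. -/
def conjK {H : Type*} [Group H] (K : Subgroup H) (a : H)
    (ha : a ∈ Subgroup.normalizer (K : Set H)) : ↥K ≃* ↥K where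
  toFun x := ⟨a * x * a⁻¹, (Subgroup.mem_normalizer_iff.mp ha x).mp x.2⟩
  invFun x := ⟨a⁻¹ * x * a, by
    have h := (Subgroup.mem_normalizer_iff.mp ha (a⁻¹ * x * a)).mpr
      (by simpa [mul_assoc] using x.2)
    exact h⟩
  left_inv x := by ext; simp [mul_assoc]
  right_inv x := by ext; simp [mul_assoc]
  map_mul' x y := by ext; simp [mul_assoc]

theorem conjK_coe {H : Type*} [Group H] (K : Subgroup H) (a : H)
    (ha : a ∈ Subgroup.normalizer (K : Set H)) (x : ↥K) :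
    ((conjK K a ha x : ↥K) : H) = a * x * a⁻¹ := rfl

/-- `O_{q',q}` is characteristic. -/
theorem map_pPrimePCore (q : ℕ) {X : Type*} [Group X] (e : X ≃* X) {x : X}
    (hx : x ∈ Cfsg.pPrimePCore q X) : e x ∈ Cfsg.pPrimePCore q X := by
  have hN : (Cfsg.pPrimeCore q X).map e.toMonoidHom = Cfsg.pPrimeCore q X :=
    Cfsg.Agent.Helper4.pPrimeCore_map_mulEquiv e
  have h2 := Cfsg.Agent.Helper4.pCore_map_mulEquiv (p := q)
    (QuotientGroup.congr (Cfsg.pPrimeCore q X) (Cfsg.pPrimeCore q X) e hN)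
  unfold Cfsg.pPrimePCore at hx ⊢
  rw [Subgroup.mem_comap] at hx ⊢
  rw [← h2]
  exact ⟨_, hx, rfl⟩

/-- a `q'`-element of `O_{q',q}` lies in `O_{q'}`. -/
theorem mem_pPrimeCore_of_mem_pPrimePCore (q : ℕ) [hq : Fact q.Prime] {X : Type*} [Group X]
    {x : X} (hx : x ∈ Cfsg.pPrimePCore q X) (hord : ¬ q ∣ orderOf x) :
    x ∈ Cfsg.pPrimeCore q X := by
  unfold Cfsg.pPrimePCore at hx
  rw [Subgroup.mem_comap] at hx
  obtain ⟨k, hk⟩ := Cfsg.Agent.Helper5.isPGroup_pCore q (G := X ⧸ Cfsg.pPrimeCore q X) ⟨_, hx⟩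
  have hk' : (QuotientGroup.mk' (Cfsg.pPrimeCore q X) x) ^ q ^ k = 1 := by
    have := congrArg Subtype.val hk
    simpa using this
  have h1 : orderOf (QuotientGroup.mk' (Cfsg.pPrimeCore q X) x) ∣ q ^ k :=
    orderOf_dvd_of_pow_eq_one hk'
  have h2 : orderOf (QuotientGroup.mk' (Cfsg.pPrimeCore q X) x) ∣ orderOf x :=
    orderOf_map_dvd _ x
  have hcop : Nat.Coprime (q ^ k) (orderOf x) :=
    Nat.Coprime.pow_left k ((Nat.Prime.coprime_iff_not_dvd hq.out).mpr hord)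
  have h3 : orderOf (QuotientGroup.mk' (Cfsg.pPrimeCore q X) x) = 1 :=
    Nat.eq_one_of_dvd_coprimes hcop h1 h2
  rw [orderOf_eq_one_iff] at h3
  exact (QuotientGroup.eq_one_iff x).mp h3

/-- existence of a hyperplane. -/
theorem exists_hyperplane {H : Type*} [Group H] [Finite H] (p : ℕ) [hp : Fact p.Prime]
    (A : Subgroup H) (hA : Cfsg.IsElementaryAbelian p A) (hA2 : p ≤ Nat.card ↥A) :
    ∃ B : Subgroup H, B ≤ A ∧ B.relIndex A = p := by
  have hApg : IsPGroup p A := isPGroup_of_elementary hA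
  obtain ⟨k, hk⟩ := IsPGroup.iff_card.mp hApg
  have hk1 : 1 ≤ k := by
    rcases Nat.eq_zero_or_pos k with h | h
    · rw [h, pow_zero] at hk
      have := hp.out.two_le
      omega
    · exact h
  obtain ⟨B₀, hB₀⟩ := Sylow.exists_subgroup_card_pow_prime (G := ↥A) p (n := k - 1)
    (by rw [hk]; exact pow_dvd_pow p (Nat.sub_le k 1))
  refine ⟨B₀.map A.subtype, Subgroup.map_subtype_le _, ?_⟩
  have hcard : Nat.card (B₀.map A.subtype) = p ^ (k - 1) := by
    rw [← hB₀]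
    exact (Nat.card_congr (B₀.equivMapOfInjective A.subtype A.subtype_injective).toEquiv).symm
  have h1 := Cfsg.Agent.Helper1.relIndex_mul_card_of_le (Subgroup.map_subtype_le B₀)
  rw [hcard, hk] at h1
  have h2 : p ^ k = p * p ^ (k - 1) := by
    rw [← pow_succ']
    congr 1
    omega
  rw [h2] at h1
  exact Nat.eq_of_mul_eq_mul_right (pow_pos hp.out.pos _) h1

theorem main {H : Type*} [Group H] [Finite H] (p : ℕ) [hp : Fact p.Prime] (A K : Subgroup H)
    (hA : Cfsg.IsElementaryAbelian p A) (hA2 : p ^ 2 ≤ Nat.card ↥A) (hK : ¬ p ∣ Nat.card ↥K)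
    (hKs : Group.IsSolvable ↥K) (hAK : A ≤ Subgroup.normalizer (K : Set H)) (q : ℕ)
    [hq : Fact q.Prime] (U : Subgroup H) (hU : U ≤ K) (hUq : ¬ q ∣ Nat.card ↥U)
    (hcomm : ∀ B : Subgroup H, B ≤ A → B.relIndex A = p →
      ¬ q ∣ Nat.card ↥⁅U, K ⊓ Subgroup.centralizer (B : Set H)⁆) :
    U ≤ (Cfsg.pPrimeCore q ↥K).map K.subtype := by
  classical
  set Q₀ : Subgroup H := (Cfsg.pPrimePCore q ↥K).map K.subtype with hQ₀
  have hQ₀K : Q₀ ≤ K := by rw [hQ₀]; exact Subgroup.map_subtype_le _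
  have hmemQ : ∀ x : H, ∀ hx : x ∈ K, x ∈ Q₀ ↔ (⟨x, hx⟩ : ↥K) ∈ Cfsg.pPrimePCore q ↥K := by
    intro x hx
    constructor
    · rintro ⟨y, hy, hyx⟩
      have : y = ⟨x, hx⟩ := Subtype.ext hyx
      rw [← this]; exact hy
    · intro h
      exact ⟨⟨x, hx⟩, h, rfl⟩
  -- `A` normalizes `Q₀`
  have hAQ : A ≤ Subgroup.normalizer (Q₀ : Set H) := by
    intro a ha
    apply Subgroup.mem_normalizer_fintype
    intro x hx
    have hxK : x ∈ K := hQ₀K hx
    have h1 := (hmemQ x hxK).mp hx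
    have h2 := map_pPrimePCore q (conjK K a (hAK ha)) h1
    exact ⟨_, h2, rfl⟩
  have hpQ : ¬ p ∣ Nat.card Q₀ := fun h => hK (h.trans (Subgroup.card_dvd_of_le hQ₀K))
  have hgen := le_iSup_hyperplane_centralizers p (Nat.card A) A Q₀ rfl hA hpQ hAQ
  have hpA : p ≤ Nat.card A := by
    have : p ≤ p ^ 2 := by nlinarith [hp.out.two_le]
    omega
  obtain ⟨B₁, hB₁A, hB₁i⟩ := exists_hyperplane p A hA hpA
  intro u hu
  have huK : u ∈ K := hU hu
  have hordu : ¬ q ∣ orderOf u := fun h =>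
    hUq (h.trans (Subgroup.orderOf_dvd_natCard U hu))
  set N := Cfsg.pPrimeCore q ↥K with hN
  -- the key: `π u` commutes with `π y` for `y ∈ O_{q',q}`
  have hkey : ∀ y : ↥K, y ∈ Cfsg.pPrimePCore q ↥K →
      QuotientGroup.mk' N y * QuotientGroup.mk' N ⟨u, huK⟩ =
        QuotientGroup.mk' N ⟨u, huK⟩ * QuotientGroup.mk' N y := by
    set C : Subgroup H :=
      ((Subgroup.centralizer {QuotientGroup.mk' N ⟨u, huK⟩}).comap (QuotientGroup.mk' N)).map
        K.subtype with hC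
    have hQC : Q₀ ≤ C := by
      refine hgen.trans (iSup_le ?_)
      rintro ⟨B, hBA, hBi⟩
      obtain ⟨B', hB'A, hB'i, hB'B⟩ : ∃ B' : Subgroup H, B' ≤ A ∧ B'.relIndex A = p ∧ B' ≤ B := by
        by_cases hBp : B.relIndex A = p
        · exact ⟨B, hBA, hBp, le_refl _⟩
        · have hdvd : B.relIndex A ∣ Nat.card A := Subgroup.relIndex_dvd_card B A
          obtain ⟨k, hk⟩ := IsPGroup.iff_card.mp (isPGroup_of_elementary hA)
          rw [hk] at hdvd
          obtain ⟨j, hj, hjr⟩ := (Nat.dvd_prime_pow hp.out).mp hdvd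
          have hj1 : j = 0 := by
            rcases Nat.lt_or_ge j 1 with h | h
            · omega
            · exfalso
              rcases Nat.lt_or_ge j 2 with h2 | h2
              · have : j = 1 := by omega
                rw [this, pow_one] at hjr
                exact hBp hjr
              · have : p ^ 2 ≤ p ^ j := Nat.pow_le_pow_right hp.out.pos h2
                have : p < p ^ 2 := by nlinarith [hp.out.two_le]
                omega
          rw [hj1, pow_zero, Subgroup.relIndex_eq_one] at hjr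
          exact ⟨B₁, hB₁A, hB₁i, hB₁A.trans hjr⟩
      intro s hs
      have hsQ : s ∈ Q₀ := hs.1
      have hsK : s ∈ K := hQ₀K hsQ
      have hsB : s ∈ Subgroup.centralizer (B' : Set H) :=
        Subgroup.centralizer_le hB'B hs.2
      have hR := hcomm B' hB'A hB'i
      have hcR : u * s * u⁻¹ * s⁻¹ ∈ ⁅U, K ⊓ Subgroup.centralizer (B' : Set H)⁆ := by
        have := Subgroup.commutator_mem_commutator hu
          (show s ∈ K ⊓ Subgroup.centralizer (B' : Set H) from ⟨hsK, hsB⟩)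
        rwa [commutatorElement_def] at this
      have hord : ¬ q ∣ orderOf (u * s * u⁻¹ * s⁻¹) := fun h =>
        hR (h.trans (Subgroup.orderOf_dvd_natCard _ hcR))
      have hs' : (⟨s, hsK⟩ : ↥K) ∈ Cfsg.pPrimePCore q ↥K := (hmemQ s hsK).mp hsQ
      have hnorm : (Cfsg.pPrimePCore q ↥K).Normal := by
        unfold Cfsg.pPrimePCore; infer_instance
      have hc' : (⟨u, huK⟩ : ↥K) * (⟨s, hsK⟩ : ↥K) * (⟨u, huK⟩ : ↥K)⁻¹ * (⟨s, hsK⟩ : ↥K)⁻¹ ∈
          Cfsg.pPrimePCore q ↥K := by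
        exact (Cfsg.pPrimePCore q ↥K).mul_mem (hnorm.conj_mem _ hs' _)
          ((Cfsg.pPrimePCore q ↥K).inv_mem hs')
      have hord' : ¬ q ∣ orderOf
          ((⟨u, huK⟩ : ↥K) * (⟨s, hsK⟩ : ↥K) * (⟨u, huK⟩ : ↥K)⁻¹ * (⟨s, hsK⟩ : ↥K)⁻¹) := by
        rw [← Subgroup.orderOf_coe]
        exact hord
      have hcN := mem_pPrimeCore_of_mem_pPrimePCore q hc' hord'
      refine ⟨⟨s, hsK⟩, ?_, rfl⟩
      rw [SetLike.mem_coe, Subgroup.mem_comap, Subgroup.mem_centralizer_singleton_iff]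
      have h1 : QuotientGroup.mk' N
          ((⟨u, huK⟩ : ↥K) * (⟨s, hsK⟩ : ↥K) * (⟨u, huK⟩ : ↥K)⁻¹ * (⟨s, hsK⟩ : ↥K)⁻¹) = 1 :=
        (QuotientGroup.eq_one_iff _).mpr hcN
      rw [map_mul, map_mul, map_mul, map_inv, map_inv] at h1
      have h2 := mul_inv_eq_one.mp h1
      have h3 := mul_inv_eq_iff_eq_mul.mp h2
      exact h3.symm
    intro y hy
    have hyQ : (y : H) ∈ Q₀ := ⟨y, hy, rfl⟩
    obtain ⟨z, hz, hzy⟩ := hQC hyQ
    have hzy' : z = y := Subtype.ext hzy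
    rw [SetLike.mem_coe, Subgroup.mem_comap, Subgroup.mem_centralizer_singleton_iff, hzy'] at hz
    exact hz
  -- hence `π u` centralizes `O_q(K/N)`
  have hcent : QuotientGroup.mk' N ⟨u, huK⟩ ∈
      Subgroup.centralizer (Cfsg.pCore q (↥K ⧸ N) : Set (↥K ⧸ N)) := by
    rw [Subgroup.mem_centralizer_iff]
    intro z hz
    obtain ⟨y, rfl⟩ := QuotientGroup.mk'_surjective N z
    exact hkey y hz
  have hsolq : Cfsg.IsPSolvable q (↥K ⧸ N) :=
    Cfsg.Agent.Helper4.SolvPSolv.isPSolvable_of_isSolvable q inferInstance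
  have hHH := Cfsg.Agent.Helper4.centralizer_pCore_le_of_isPSolvable hsolq
    (Cfsg.Agent.Helper4.pPrimeCore_quotient_eq_bot q) hcent
  have hu' : (⟨u, huK⟩ : ↥K) ∈ Cfsg.pPrimePCore q ↥K := hHH
  have hord'' : ¬ q ∣ orderOf (⟨u, huK⟩ : ↥K) := by
    rw [← Subgroup.orderOf_coe]
    exact hordu
  exact ⟨⟨u, huK⟩, mem_pPrimeCore_of_mem_pPrimePCore q hu' hord'', rfl⟩

end Cfsg.Agent.Helper2.HypComm
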