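import Mathlib

/-!
Helper library (helper2) for S3265: the "lengthening lemma".  If `σ` has odd order and fixes `p`, `q`,
and `τ` is the 3-cycle `u → p → q → u`, then `σ * τ` has odd order (the `σ`-cycle of `u` gets the two
points `p`, `q` inserted).
-/

set_option autoImplicit false

namespace Cfsg.Agent.Helper2.InvGraph

open Equiv Function

variable {α : Type*} [DecidableEq α] [Fintype α]

theorem orderOf_mul_comm' {G : Type*} [Group G] (a b : G) : orderOf (a * b) = orderOf (b * a) := by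
  have h : b * a = a⁻¹ * (a * b) * a := by group
  have h2 : b * a = (MulAut.conj a⁻¹) (a * b) := by
    rw [MulAut.conj_apply, inv_inv]; exact h
  rw [h2]
  exact (MulEquiv.orderOf_eq _ _).symm

theorem odd_orderOf_mul_of_three (σ τ : Perm α) (u p q : α)
    (hpq : p ≠ q) (hup : u ≠ p) (huq : u ≠ q) (hp : σ p = p) (hq : σ q = q)
    (τu : τ u = p) (τp : τ p = q) (τq : τ q = u)
    (τo : ∀ v, v ≠ u → v ≠ p → v ≠ q → τ v = v)
    (hodd : Odd (orderOf σ)) : Odd (orderOf (σ * τ)) := by
  obtain ⟨f, hf⟩ : ∃ f : Perm α, f = σ * τ := ⟨_, rfl⟩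
  rw [← hf]
  set N := orderOf σ with hNdef
  have hN : σ ^ N = 1 := pow_orderOf_eq_one σ
  have hNpos : 0 < N := hodd.pos
  set ℓ := minimalPeriod σ u with hℓdef
  have hperN : IsPeriodicPt σ N u := by
    change σ^[N] u = u
    rw [Perm.iterate_eq_pow, hN]; rfl
  have hℓN : ℓ ∣ N := hperN.minimalPeriod_dvd
  have hℓpos : 0 < ℓ := minimalPeriod_pos_of_mem_periodicPts ⟨N, hNpos, hperN⟩
  have hℓu : (σ ^ ℓ) u = u := by
    have := isPeriodicPt_minimalPeriod σ u
    change σ^[ℓ] u = u at this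
    rwa [Perm.iterate_eq_pow] at this
  have hℓodd : Odd ℓ := Odd.of_dvd_nat hodd hℓN
  have fu : f u = p := by simp [hf, τu, hp]
  have fp : f p = q := by simp [hf, τp, hq]
  have fq : f q = σ u := by simp [hf, τq]
  have hpp : ∀ j : ℕ, (σ ^ j) p = p := Perm.pow_apply_eq_self_of_apply_eq_self hp
  have hqq : ∀ j : ℕ, (σ ^ j) q = q := Perm.pow_apply_eq_self_of_apply_eq_self hq
  have hnep : ∀ (j : ℕ) (v : α), v ≠ p → (σ ^ j) v ≠ p := by
    intro j v hv h
    apply hv
    apply (σ ^ j).injective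
    rw [h, hpp]
  have hneq : ∀ (j : ℕ) (v : α), v ≠ q → (σ ^ j) v ≠ q := by
    intro j v hv h
    apply hv
    apply (σ ^ j).injective
    rw [h, hqq]
  have fo : ∀ j : ℕ, 0 < j → j < ℓ → f ((σ ^ j) u) = (σ ^ (j + 1)) u := by
    intro j hj0 hjl
    have h1 : (σ ^ j) u ≠ u := by
      intro h
      have : IsPeriodicPt σ j u := by
        change σ^[j] u = u
        rw [Perm.iterate_eq_pow]; exact h
      exact not_isPeriodicPt_of_pos_of_lt_minimalPeriod hj0.ne' hjl this
    have h2 := hnep j u hup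
    have h3 := hneq j u huq
    rw [hf, Perm.mul_apply, τo _ h1 h2 h3, pow_succ', Perm.mul_apply]
  have lemA : ∀ i : ℕ, i + 1 ≤ ℓ → (f ^ (i + 3)) u = (σ ^ (i + 1)) u := by
    intro i
    induction i with
    | zero =>
      intro _
      rw [pow_succ', pow_succ', pow_one, Perm.mul_apply, Perm.mul_apply, fu, fp, fq]
      simp
    | succ i ih =>
      intro hi
      have := ih (by omega)
      rw [show i + 1 + 3 = (i + 3) + 1 by ring, pow_succ', Perm.mul_apply, this]
      exact fo (i + 1) (by omega) (by omega)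
  have hfu : (f ^ (ℓ + 2)) u = u := by
    have := lemA (ℓ - 1) (by omega)
    rw [show ℓ - 1 + 3 = ℓ + 2 by omega, show ℓ - 1 + 1 = ℓ by omega, hℓu] at this
    exact this
  have hin : ∀ v, (v = p ∨ v = q ∨ ∃ j : ℕ, (σ ^ j) u = v) → (f ^ (ℓ + 2)) v = v := by
    intro v hv
    have hex : ∃ i : ℕ, (f ^ i) u = v := by
      rcases hv with rfl | rfl | ⟨j, rfl⟩
      · exact ⟨1, by rw [pow_one, fu]⟩
      · exact ⟨2, by rw [pow_succ', pow_one, Perm.mul_apply, fu, fp]⟩
      · have hmod : (σ ^ (j % ℓ)) u = (σ ^ j) u := by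
          have := iterate_mod_minimalPeriod_eq (f := σ) (x := u) (n := j)
          rw [Perm.iterate_eq_pow, Perm.iterate_eq_pow] at this
          exact this
        have hlt : j % ℓ < ℓ := Nat.mod_lt _ hℓpos
        rw [← hmod]
        rcases Nat.eq_zero_or_pos (j % ℓ) with h0 | h0
        · exact ⟨0, by rw [h0]; simp⟩
        · refine ⟨(j % ℓ - 1) + 3, ?_⟩
          rw [lemA (j % ℓ - 1) (by omega), show j % ℓ - 1 + 1 = j % ℓ by omega]
    obtain ⟨i, rfl⟩ := hex
    rw [← Perm.mul_apply, ← pow_add, add_comm, pow_add, Perm.mul_apply, hfu]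
  have hout : ∀ v, v ≠ p → v ≠ q → (∀ j : ℕ, (σ ^ j) u ≠ v) → ∀ j : ℕ, (f ^ j) v = (σ ^ j) v := by
    intro v hvp hvq hvo j
    induction j with
    | zero => simp
    | succ j ih =>
      rw [pow_succ', Perm.mul_apply, ih]
      have h1 : (σ ^ j) v ≠ u := by
        intro h
        apply hvo ((N - 1) * j)
        rw [← h, ← Perm.mul_apply, ← pow_add, show (N - 1) * j + j = N * j by
          have : N - 1 + 1 = N := by omega
          calc (N - 1) * j + j = (N - 1 + 1) * j := by ring
            _ = N * j := by rw [this], pow_mul, hN, one_pow]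
        rfl
      have h2 := hnep j v hvp
      have h3 := hneq j v hvq
      rw [hf, Perm.mul_apply, τo _ h1 h2 h3, pow_succ' σ, Perm.mul_apply]
  have hM : f ^ (N * (ℓ + 2)) = 1 := by
    ext v
    by_cases hv : v = p ∨ v = q ∨ ∃ j : ℕ, (σ ^ j) u = v
    · rw [pow_mul']
      rw [Perm.pow_apply_eq_self_of_apply_eq_self (hin v hv)]
      rfl
    · rw [not_or, not_or, not_exists] at hv
      obtain ⟨hvp, hvq, hvo⟩ := hv
      rw [pow_mul]
      have : (f ^ N) v = v := by
        rw [hout v hvp hvq hvo N, hN]; rfl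
      rw [Perm.pow_apply_eq_self_of_apply_eq_self this]
      rfl
  have hdvd : orderOf f ∣ N * (ℓ + 2) := orderOf_dvd_of_pow_eq_one hM
  have hoddM : Odd (N * (ℓ + 2)) := by
    apply Odd.mul hodd
    exact Odd.add_even hℓodd (by decide)
  exact Odd.of_dvd_nat hoddM hdvd

end Cfsg.Agent.Helper2.InvGraph
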