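import Mathlib
import Cfsg.Agent.Helper2.InvGraphA

/-!
Helper library (helper2) for S3265: basic definitions and tools (solutions `Sol`, exceptional
configuration `Exc`, removing/adding a transposition, transfer from `Fin m`).
-/

set_option autoImplicit false

namespace Cfsg.Agent.Helper2.InvGraph

open Equiv Function

variable {α : Type*} [DecidableEq α] [Fintype α]

theorem inv_apply_apply {x : Perm α} (hx : x * x = 1) (v : α) : x (x v) = v := by
  have := congrArg (fun f : Perm α => f v) hx
  simpa using this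

theorem comm_swap_of_fixed (w : Perm α) {p q : α} (hp : w p = p) (hq : w q = q) :
    w * swap p q = swap p q * w := by
  rw [mul_swap_eq_swap_mul, hp, hq]

/-- `z` is an involution supported in `A` with `x z` and `z y` of odd order. -/
def Sol (A : Finset α) (x y : Perm α) : Prop :=
  ∃ z : Perm α, z * z = 1 ∧ (∀ v, z v ≠ v → v ∈ A) ∧ Odd (orderOf (x * z)) ∧ Odd (orderOf (z * y))

theorem Sol.symm {A : Finset α} {x y : Perm α} (h : Sol A x y) : Sol A y x := by
  obtain ⟨z, hz, hs, h1, h2⟩ := h
  exact ⟨z, hz, hs, by rw [orderOf_mul_comm']; exact h2, by rw [orderOf_mul_comm']; exact h1⟩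

theorem Sol.mono {A B : Finset α} (hAB : A ⊆ B) {x y : Perm α} (h : Sol A x y) : Sol B x y := by
  obtain ⟨z, hz, hs, h1, h2⟩ := h
  exact ⟨z, hz, fun v hv => hAB (hs v hv), h1, h2⟩

/-- The exceptional configuration: two distinct fixed-point-free involutions of a 4-set. -/
def Exc (A : Finset α) (x y : Perm α) : Prop :=
  A.card = 4 ∧ (∀ v ∈ A, x v ≠ v) ∧ (∀ v ∈ A, y v ≠ v) ∧ x ≠ y

structure Cfg (A : Finset α) (x y : Perm α) : Prop where
  hx : x * x = 1
  hy : y * y = 1
  sx : ∀ v, x v ≠ v → v ∈ A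
  sy : ∀ v, y v ≠ v → v ∈ A
  card : x.support.card = y.support.card

theorem Cfg.symm {A : Finset α} {x y : Perm α} (h : Cfg A x y) : Cfg A y x :=
  ⟨h.hy, h.hx, h.sy, h.sx, h.card.symm⟩

theorem Exc.symm {A : Finset α} {x y : Perm α} (h : Exc A x y) : Exc A y x :=
  ⟨h.1, h.2.2.1, h.2.1, h.2.2.2.symm⟩

/-! ### removing a transposition from an involution -/

section rm

variable {x : Perm α} {a b : α}

theorem rm_apply_left (hx : x * x = 1) (hab : x a = b) : (x * swap a b) a = a := by
  rw [Perm.mul_apply, swap_apply_left, ← hab, inv_apply_apply hx]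

theorem rm_apply_right (hab : x a = b) : (x * swap a b) b = b := by
  rw [Perm.mul_apply, swap_apply_right, hab]

theorem rm_apply_of_ne {v : α} (h1 : v ≠ a) (h2 : v ≠ b) : (x * swap a b) v = x v := by
  rw [Perm.mul_apply, swap_apply_of_ne_of_ne h1 h2]

theorem rm_comm (hx : x * x = 1) (hab : x a = b) : swap a b * x = x * swap a b := by
  rw [mul_swap_eq_swap_mul, hab, ← hab, inv_apply_apply hx, swap_comm]

theorem rm_mul_self (hx : x * x = 1) (hab : x a = b) : (x * swap a b) * (x * swap a b) = 1 := by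
  have hc := rm_comm hx hab
  calc (x * swap a b) * (x * swap a b) = x * (swap a b * x) * swap a b := by group
    _ = x * (x * swap a b) * swap a b := by rw [hc]
    _ = (x * x) * (swap a b * swap a b) := by group
    _ = 1 := by rw [hx, swap_mul_self, one_mul]

theorem rm_mul_swap (x : Perm α) (a b : α) : (x * swap a b) * swap a b = x := by
  rw [mul_assoc, swap_mul_self, mul_one]

theorem rm_moved {v : α} (hx : x * x = 1) (hab : x a = b) (hv : (x * swap a b) v ≠ v) :
    x v ≠ v ∧ v ≠ a ∧ v ≠ b := by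
  have h1 : v ≠ a := by
    rintro rfl; exact hv (rm_apply_left hx hab)
  have h2 : v ≠ b := by
    rintro rfl; exact hv (rm_apply_right hab)
  rw [rm_apply_of_ne h1 h2] at hv
  exact ⟨hv, h1, h2⟩

theorem rm_support (hx : x * x = 1) (hab : x a = b) :
    (x * swap a b).support = x.support \ {a, b} := by
  ext v
  simp only [Perm.mem_support, Finset.mem_sdiff, Finset.mem_insert, Finset.mem_singleton, not_or]
  constructor
  · intro h
    obtain ⟨h1, h2, h3⟩ := rm_moved hx hab h
    exact ⟨h1, h2, h3⟩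
  · rintro ⟨h1, h2, h3⟩
    rw [rm_apply_of_ne h2 h3]; exact h1

theorem rm_card (hx : x * x = 1) (hab : x a = b) (hne : a ≠ b) :
    (x * swap a b).support.card + 2 = x.support.card := by
  rw [rm_support hx hab]
  have hsub : ({a, b} : Finset α) ⊆ x.support := by
    intro v hv
    simp only [Finset.mem_insert, Finset.mem_singleton] at hv
    rw [Perm.mem_support]
    rcases hv with rfl | rfl
    · rw [hab]; exact hne.symm
    · rw [← hab, inv_apply_apply hx]; rw [hab]; exact hne
  rw [Finset.card_sdiff_of_subset hsub, Finset.card_pair hne]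
  have := Finset.card_le_card hsub
  rw [Finset.card_pair hne] at this
  omega

end rm

/-! ### adding a transposition on two fixed points -/

section add

variable {x : Perm α} {p q : α}

theorem add_mul_self (hx : x * x = 1) (hp : x p = p) (hq : x q = q) :
    (x * swap p q) * (x * swap p q) = 1 := by
  have hc := comm_swap_of_fixed x hp hq
  calc (x * swap p q) * (x * swap p q) = x * (swap p q * x) * swap p q := by group
    _ = x * (x * swap p q) * swap p q := by rw [hc]
    _ = (x * x) * (swap p q * swap p q) := by group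
    _ = 1 := by rw [hx, swap_mul_self, one_mul]

theorem add_apply_left (hq : x q = q) : (x * swap p q) p = q := by
  rw [Perm.mul_apply, swap_apply_left, hq]

theorem add_apply_right (hp : x p = p) : (x * swap p q) q = p := by
  rw [Perm.mul_apply, swap_apply_right, hp]

theorem add_support (hp : x p = p) (hq : x q = q) (hpq : p ≠ q) :
    (x * swap p q).support = x.support ∪ {p, q} := by
  ext v
  simp only [Perm.mem_support, Finset.mem_union, Finset.mem_insert, Finset.mem_singleton]
  by_cases h1 : v = p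
  · subst h1
    rw [add_apply_left hq]
    exact ⟨fun _ => Or.inr (Or.inl rfl), fun _ => hpq.symm⟩
  by_cases h2 : v = q
  · subst h2
    rw [add_apply_right hp]
    exact ⟨fun _ => Or.inr (Or.inr rfl), fun _ => hpq⟩
  rw [rm_apply_of_ne h1 h2]
  constructor
  · intro h; exact Or.inl h
  · rintro (h | h | h)
    · exact h
    · exact absurd h h1
    · exact absurd h h2

theorem add_card (hp : x p = p) (hq : x q = q) (hpq : p ≠ q) :
    (x * swap p q).support.card = x.support.card + 2 := by
  rw [add_support hp hq hpq, Finset.card_union_of_disjoint, Finset.card_pair hpq]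
  rw [Finset.disjoint_left]
  intro v hv hv2
  rw [Perm.mem_support] at hv
  simp only [Finset.mem_insert, Finset.mem_singleton] at hv2
  rcases hv2 with rfl | rfl
  · exact hv hp
  · exact hv hq

end add

/-! ### transfer from `Fin m` -/

theorem swap_viaEmbedding {β : Type*} [DecidableEq β] (ι : β ↪ α) (i j : β) :
    (swap i j).viaEmbedding ι = swap (ι i) (ι j) := by
  ext v
  by_cases hv : v ∈ Set.range ι
  · obtain ⟨k, rfl⟩ := hv
    rw [Perm.viaEmbedding_apply, ι.injective.swap_apply]
  · rw [Perm.viaEmbedding_apply_of_notMem _ _ _ hv]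
    have h1 : v ≠ ι i := fun h => hv ⟨i, h.symm⟩
    have h2 : v ≠ ι j := fun h => hv ⟨j, h.symm⟩
    rw [swap_apply_of_ne_of_ne h1 h2]

theorem eq_viaEmbedding {β : Type*} (ι : β ↪ α) (x : Perm α) (x₀ : Perm β)
    (hx : ∀ i, x (ι i) = ι (x₀ i)) (hxo : ∀ v, v ∉ Set.range ι → x v = v) :
    x = x₀.viaEmbedding ι := by
  ext v
  by_cases hv : v ∈ Set.range ι
  · obtain ⟨k, rfl⟩ := hv
    rw [Perm.viaEmbedding_apply, hx]
  · rw [Perm.viaEmbedding_apply_of_notMem _ _ _ hv, hxo v hv]

theorem odd_orderOf_of_pow {G : Type*} [Monoid G] (g : G) (N : ℕ) (hN : Odd N) (h : g ^ N = 1) :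
    Odd (orderOf g) :=
  Odd.of_dvd_nat hN (orderOf_dvd_of_pow_eq_one h)

theorem transfer {β : Type*} (ι : β ↪ α) (x y : Perm α) (x₀ y₀ z₀ : Perm β)
    (hx : ∀ i, x (ι i) = ι (x₀ i)) (hy : ∀ i, y (ι i) = ι (y₀ i))
    (hxo : ∀ v, v ∉ Set.range ι → x v = v) (hyo : ∀ v, v ∉ Set.range ι → y v = v)
    (hz : z₀ * z₀ = 1) (N : ℕ) (hN : Odd N) (h1 : (x₀ * z₀) ^ N = 1) (h2 : (z₀ * y₀) ^ N = 1) :
    ∃ z : Perm α, z * z = 1 ∧ (∀ v, z v ≠ v → v ∈ Set.range ι) ∧ Odd (orderOf (x * z)) ∧
      Odd (orderOf (z * y)) := by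
  have ex := eq_viaEmbedding ι x x₀ hx hxo
  have ey := eq_viaEmbedding ι y y₀ hy hyo
  refine ⟨z₀.viaEmbedding ι, ?_, ?_, ?_, ?_⟩
  · rw [← Perm.viaEmbeddingHom_apply, ← map_mul, hz, map_one]
  · intro v hv
    by_contra hvr
    exact hv (Perm.viaEmbedding_apply_of_notMem _ _ _ hvr)
  · apply odd_orderOf_of_pow _ N hN
    rw [ex, ← Perm.viaEmbeddingHom_apply, ← Perm.viaEmbeddingHom_apply, ← map_mul, ← map_pow, h1,
      map_one]
  · apply odd_orderOf_of_pow _ N hN
    rw [ey, ← Perm.viaEmbeddingHom_apply, ← Perm.viaEmbeddingHom_apply, ← map_mul, ← map_pow, h2,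
      map_one]

end Cfsg.Agent.Helper2.InvGraph
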