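import Mathlib
import Cfsg.Agent.Helper2.InvGraphB

/-!
Helper library (helper2) for S3265: reduction lemmas (peeling, contraction, insertion of a 4-cycle).
-/

set_option autoImplicit false

namespace Cfsg.Agent.Helper2.InvGraph

open Equiv Function

variable {α : Type*} [DecidableEq α] [Fintype α]

theorem odd_mul_three {σ : Perm α} {p q u : α} (hpq : p ≠ q) (hup : u ≠ p) (huq : u ≠ q)
    (hp : σ p = p) (hq : σ q = q) (hodd : Odd (orderOf σ)) :
    Odd (orderOf (σ * (swap p q * swap q u))) := by
  apply odd_orderOf_mul_of_three σ _ u p q hpq hup huq hp hq _ _ _ _ hodd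
  · rw [Perm.mul_apply, swap_apply_right, swap_apply_right]
  · rw [Perm.mul_apply, swap_apply_of_ne_of_ne hpq hup.symm, swap_apply_left]
  · rw [Perm.mul_apply, swap_apply_left, swap_apply_of_ne_of_ne hup huq]
  · intro v h1 h2 h3
    rw [Perm.mul_apply, swap_apply_of_ne_of_ne h3 h1, swap_apply_of_ne_of_ne h2 h3]

theorem swap_rotate {a b c : α} (hab : a ≠ b) (hac : a ≠ c) (hbc : b ≠ c) :
    swap a b * swap b c = swap b c * swap c a := by
  ext v
  simp only [Perm.mul_apply]
  by_cases h1 : v = a
  · subst h1
    rw [swap_apply_of_ne_of_ne hab hac, swap_apply_left, swap_apply_right, swap_apply_right]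
  by_cases h2 : v = b
  · subst h2
    rw [swap_apply_left, swap_apply_of_ne_of_ne hac.symm hbc.symm,
      swap_apply_of_ne_of_ne hbc hab.symm, swap_apply_left]
  by_cases h3 : v = c
  · subst h3
    rw [swap_apply_right, swap_apply_right, swap_apply_left,
      swap_apply_of_ne_of_ne hab hac]
  · rw [swap_apply_of_ne_of_ne h2 h3, swap_apply_of_ne_of_ne h1 h2,
      swap_apply_of_ne_of_ne h3 h1, swap_apply_of_ne_of_ne h2 h3]

theorem fixed_of_not_mem {A : Finset α} {z : Perm α} (hs : ∀ v, z v ≠ v → v ∈ A) {v : α}
    (hv : v ∉ A) : z v = v := by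
  by_contra h
  exact hv (hs v h)

/-- Peel the end of a path: `a` is moved by `x` only, `b = x a` is moved by `y`. -/
theorem peel_end {A : Finset α} {x y : Perm α} (hx : x * x = 1) (hy : y * y = 1) {a b c : α}
    (haA : a ∈ A) (hbA : b ∈ A) (hab : x a = b) (hne : a ≠ b) (hya : y a = a) (hbc : y b = c)
    (hbc' : b ≠ c)
    (h : Sol ((A.erase a).erase b) (x * swap a b) (y * swap b c)) : Sol A x y := by
  obtain ⟨z', hz', hs', h1, h2⟩ := h
  have hca : c ≠ a := by
    rintro rfl
    apply hne
    have := inv_apply_apply hy b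
    rw [hbc, hya] at this
    exact this
  have za : z' a = a := fixed_of_not_mem hs' (by simp)
  have zb : z' b = b := fixed_of_not_mem hs' (by simp)
  have hcomm := comm_swap_of_fixed z' za zb
  refine ⟨z' * swap a b, add_mul_self hz' za zb, ?_, ?_, ?_⟩
  · intro v hv
    by_cases h1 : v = a
    · rw [h1]; exact haA
    by_cases h2 : v = b
    · rw [h2]; exact hbA
    rw [rm_apply_of_ne h1 h2] at hv
    exact Finset.mem_of_mem_erase (Finset.mem_of_mem_erase (hs' v hv))
  · have e : x * (z' * swap a b) = (x * swap a b) * z' := by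
      rw [hcomm]; group
    rw [e]; exact h1
  · have ya' : (y * swap b c) a = a := by
      rw [rm_apply_of_ne hne hca.symm, hya]
    have yb' : (y * swap b c) b = b := rm_apply_left hy hbc
    have hc := comm_swap_of_fixed (y * swap b c) ya' yb'
    have e : z' * swap a b * y = (z' * (y * swap b c)) * (swap a b * swap b c) := by
      calc z' * swap a b * y = z' * swap a b * ((y * swap b c) * swap b c) := by rw [rm_mul_swap]
        _ = z' * (swap a b * (y * swap b c)) * swap b c := by group
        _ = z' * ((y * swap b c) * swap a b) * swap b c := by rw [hc]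
        _ = _ := by group
    rw [e]
    apply odd_mul_three hne hca hbc'.symm _ _ h2
    · rw [Perm.mul_apply, ya', za]
    · rw [Perm.mul_apply, yb', zb]

/-- Peel an `x`-only edge `(a b)` and a `y`-only edge `(c d)`, keeping `a` as a free point. -/
theorem peel_xy {A : Finset α} {x y : Perm α} (hx : x * x = 1) (hy : y * y = 1) {a b c d : α}
    (hbA : b ∈ A) (hcA : c ∈ A) (hdA : d ∈ A)
    (hab : x a = b) (hne : a ≠ b) (hya : y a = a) (hyb : y b = b)
    (hcd : y c = d) (hne' : c ≠ d) (hxc : x c = c) (hxd : x d = d)
    (h : Sol (((A.erase b).erase c).erase d) (x * swap a b) (y * swap c d)) : Sol A x y := by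
  obtain ⟨z', hz', hs', h1, h2⟩ := h
  have hxb : x b = a := by rw [← hab, inv_apply_apply hx]
  have hyd : y d = c := by rw [← hcd, inv_apply_apply hy]
  have hca : c ≠ a := by
    rintro rfl; rw [hab] at hxc; exact hne hxc.symm
  have hcb : c ≠ b := by
    rintro rfl; rw [hxb] at hxc; exact hne hxc
  have hda : d ≠ a := by
    rintro rfl; rw [hab] at hxd; exact hne hxd.symm
  have hdb : d ≠ b := by
    rintro rfl; rw [hxb] at hxd; exact hne hxd
  have zb : z' b = b := fixed_of_not_mem hs' (by simp)
  have zc : z' c = c := fixed_of_not_mem hs' (by simp)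
  have zd : z' d = d := fixed_of_not_mem hs' (by simp)
  obtain ⟨w, hw⟩ : ∃ w, w = z' a := ⟨_, rfl⟩
  have hzw : z' w = a := by rw [hw, inv_apply_apply hz']
  have hwb : w ≠ b := by
    rintro rfl
    rw [zb] at hzw; exact hne hzw.symm
  have hwc : w ≠ c := by
    rintro rfl
    rw [zc] at hzw; exact hca hzw
  refine ⟨z' * swap b c, add_mul_self hz' zb zc, ?_, ?_, ?_⟩
  · intro v hv
    by_cases h1 : v = b
    · rw [h1]; exact hbA
    by_cases h2 : v = c
    · rw [h2]; exact hcA
    rw [rm_apply_of_ne h1 h2] at hv
    exact Finset.mem_of_mem_erase (Finset.mem_of_mem_erase (Finset.mem_of_mem_erase (hs' v hv)))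
  · have hsw : swap a b * z' = z' * swap w b := by
      rw [mul_swap_eq_swap_mul, hzw, zb]
    have e : x * (z' * swap b c) = ((x * swap a b) * z') * (swap b c * swap c w) := by
      calc x * (z' * swap b c) = ((x * swap a b) * swap a b) * (z' * swap b c) := by
            rw [rm_mul_swap]
        _ = (x * swap a b) * (swap a b * z') * swap b c := by group
        _ = (x * swap a b) * (z' * swap w b) * swap b c := by rw [hsw]
        _ = ((x * swap a b) * z') * (swap w b * swap b c) := by group
        _ = _ := by rw [swap_rotate hwb hwc hcb.symm]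
    rw [e]
    apply odd_mul_three hcb.symm hwb hwc _ _ h1
    · rw [Perm.mul_apply, zb, rm_apply_right hab]
    · rw [Perm.mul_apply, zc, rm_apply_of_ne hca hcb, hxc]
  · have yb' : (y * swap c d) b = b := by
      rw [rm_apply_of_ne hcb.symm hdb.symm, hyb]
    have yc' : (y * swap c d) c = c := rm_apply_left hy hcd
    have hc := comm_swap_of_fixed (y * swap c d) yb' yc'
    have e : z' * swap b c * y = (z' * (y * swap c d)) * (swap b c * swap c d) := by
      calc z' * swap b c * y = z' * swap b c * ((y * swap c d) * swap c d) := by rw [rm_mul_swap]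
        _ = z' * (swap b c * (y * swap c d)) * swap c d := by group
        _ = z' * ((y * swap c d) * swap b c) * swap c d := by rw [hc]
        _ = _ := by group
    rw [e]
    apply odd_mul_three hcb.symm hdb hne'.symm _ _ h2
    · rw [Perm.mul_apply, yb', zb]
    · rw [Perm.mul_apply, yc', zc]

/-- Peel a transposition common to `x` and `y`. -/
theorem peel_common {A : Finset α} {x y : Perm α} (hx : x * x = 1) (hy : y * y = 1) {a b : α}
    (haA : a ∈ A) (hbA : b ∈ A) (hab : x a = b) (hab' : y a = b)
    (h : Sol ((A.erase a).erase b) (x * swap a b) (y * swap a b)) : Sol A x y := by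
  obtain ⟨z', hz', hs', h1, h2⟩ := h
  have za : z' a = a := fixed_of_not_mem hs' (by simp)
  have zb : z' b = b := fixed_of_not_mem hs' (by simp)
  have hcomm := comm_swap_of_fixed z' za zb
  refine ⟨z' * swap a b, add_mul_self hz' za zb, ?_, ?_, ?_⟩
  · intro v hv
    by_cases h1 : v = a
    · rw [h1]; exact haA
    by_cases h2 : v = b
    · rw [h2]; exact hbA
    rw [rm_apply_of_ne h1 h2] at hv
    exact Finset.mem_of_mem_erase (Finset.mem_of_mem_erase (hs' v hv))
  · have e : x * (z' * swap a b) = (x * swap a b) * z' := by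
      rw [hcomm]; group
    rw [e]; exact h1
  · have e : z' * swap a b * y = z' * (y * swap a b) := by
      rw [mul_assoc, rm_comm hy hab']
    rw [e]; exact h2

end Cfsg.Agent.Helper2.InvGraph
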