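import Mathlib
import Cfsg.Agent.Helper2.InvGraphC

/-!
Helper library (helper2) for S3265: the contraction lemma (shortening a long alternating stretch by
four points) and the insertion lemma (removing a 4-cycle component).
-/

set_option autoImplicit false

namespace Cfsg.Agent.Helper2.InvGraph

open Equiv Function

variable {α : Type*} [DecidableEq α] [Fintype α]

omit [DecidableEq α] [Fintype α] in
theorem nodup6 {a b c d e f : α} (h : [a,b,c,d,e,f].Nodup) :
    (a ≠ b ∧ a ≠ c ∧ a ≠ d ∧ a ≠ e ∧ a ≠ f) ∧ (b ≠ c ∧ b ≠ d ∧ b ≠ e ∧ b ≠ f) ∧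
      (c ≠ d ∧ c ≠ e ∧ c ≠ f) ∧ (d ≠ e ∧ d ≠ f) ∧ e ≠ f := by
  simpa [List.nodup_cons, not_or] using h

omit [DecidableEq α] [Fintype α] in
theorem nodup4 {a b c d : α} (h : [a,b,c,d].Nodup) :
    (a ≠ b ∧ a ≠ c ∧ a ≠ d) ∧ (b ≠ c ∧ b ≠ d) ∧ c ≠ d := by
  simpa [List.nodup_cons, not_or] using h

set_option maxRecDepth 100000 in
theorem contraction_identity (a b c d e f : α) (h : [a,b,c,d,e,f].Nodup) :
    swap b c * swap d e * (swap a f * swap e f * swap c d * swap a b) =
      (swap c e * swap e a) * (swap d b * swap b f) := by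
  let ι : Fin 6 ↪ α := ⟨![a,b,c,d,e,f], List.nodup_ofFn.mp (by simpa using h)⟩
  change swap (ι 1) (ι 2) * swap (ι 3) (ι 4) *
      (swap (ι 0) (ι 5) * swap (ι 4) (ι 5) * swap (ι 2) (ι 3) * swap (ι 0) (ι 1)) =
      (swap (ι 2) (ι 4) * swap (ι 4) (ι 0)) * (swap (ι 3) (ι 1) * swap (ι 1) (ι 5))
  simp only [← swap_viaEmbedding, ← Perm.viaEmbeddingHom_apply, ← map_mul]
  congr 1
  decide

set_option maxRecDepth 100000 in
theorem strip_identity_x (u v b c d e : α) (h : [u,v,b,c,d,e].Nodup) :
    swap d e * swap b c * (swap u v * swap u b * swap v d * swap c e) =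
      (swap c d * swap d u) * (swap e b * swap b v) := by
  let ι : Fin 6 ↪ α := ⟨![u,v,b,c,d,e], List.nodup_ofFn.mp (by simpa using h)⟩
  change swap (ι 4) (ι 5) * swap (ι 2) (ι 3) *
      (swap (ι 0) (ι 1) * swap (ι 0) (ι 2) * swap (ι 1) (ι 4) * swap (ι 3) (ι 5)) =
      (swap (ι 3) (ι 4) * swap (ι 4) (ι 0)) * (swap (ι 5) (ι 2) * swap (ι 2) (ι 1))
  simp only [← swap_viaEmbedding, ← Perm.viaEmbeddingHom_apply, ← map_mul]
  congr 1
  decide

set_option maxRecDepth 100000 in
theorem strip_identity_y (u v b c d e : α) (h : [u,v,b,c,d,e].Nodup) :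
    swap e b * swap c d * (swap u v * swap u b * swap v d * swap c e) =
      (swap e d * swap d u) * (swap c b * swap b v) := by
  let ι : Fin 6 ↪ α := ⟨![u,v,b,c,d,e], List.nodup_ofFn.mp (by simpa using h)⟩
  change swap (ι 5) (ι 2) * swap (ι 3) (ι 4) *
      (swap (ι 0) (ι 1) * swap (ι 0) (ι 2) * swap (ι 1) (ι 4) * swap (ι 3) (ι 5)) =
      (swap (ι 5) (ι 4) * swap (ι 4) (ι 0)) * (swap (ι 3) (ι 2) * swap (ι 2) (ι 1))
  simp only [← swap_viaEmbedding, ← Perm.viaEmbeddingHom_apply, ← map_mul]
  congr 1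
  decide

/-- values of the contracted involution `x'` at the four removed points -/
theorem contr_x_fixed {x : Perm α} (hx : x * x = 1) {a b c d e f : α}
    (hnd : [a,b,c,d,e,f].Nodup) (hab : x a = b) (hcd : x c = d) (hef : x e = f) :
    (x * swap a b * swap c d * swap e f * swap a f) b = b ∧
    (x * swap a b * swap c d * swap e f * swap a f) c = c ∧
    (x * swap a b * swap c d * swap e f * swap a f) d = d ∧
    (x * swap a b * swap c d * swap e f * swap a f) e = e := by
  obtain ⟨⟨hab', hac, had, hae, haf⟩, ⟨hbc', hbd, hbe, hbf⟩, ⟨hcd', hce, hcf⟩, ⟨hde', hdf⟩, hef'⟩ :=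
    nodup6 hnd
  have hdc : x d = c := by rw [← hcd, inv_apply_apply hx]
  have hfe : x f = e := by rw [← hef, inv_apply_apply hx]
  refine ⟨?_, ?_, ?_, ?_⟩
  · simp only [Perm.mul_apply]
    rw [swap_apply_of_ne_of_ne hab'.symm hbf, swap_apply_of_ne_of_ne hbe hbf,
      swap_apply_of_ne_of_ne hbc' hbd, swap_apply_right, hab]
  · simp only [Perm.mul_apply]
    rw [swap_apply_of_ne_of_ne hac.symm hcf, swap_apply_of_ne_of_ne hce hcf,
      swap_apply_left, swap_apply_of_ne_of_ne had.symm hbd.symm, hdc]
  · simp only [Perm.mul_apply]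
    rw [swap_apply_of_ne_of_ne had.symm hdf, swap_apply_of_ne_of_ne hde' hdf,
      swap_apply_right, swap_apply_of_ne_of_ne hac.symm hbc'.symm, hcd]
  · simp only [Perm.mul_apply]
    rw [swap_apply_of_ne_of_ne hae.symm hef', swap_apply_left,
      swap_apply_of_ne_of_ne hcf.symm hdf.symm, swap_apply_of_ne_of_ne haf.symm hbf.symm, hfe]

theorem contr_y_fixed {y : Perm α} (hy : y * y = 1) {b c d e : α}
    (hnd : [b,c,d,e].Nodup) (hbc : y b = c) (hde : y d = e) :
    (y * swap b c * swap d e) b = b ∧ (y * swap b c * swap d e) c = c ∧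
    (y * swap b c * swap d e) d = d ∧ (y * swap b c * swap d e) e = e := by
  obtain ⟨⟨hbc', hbd, hbe⟩, ⟨hcd', hce⟩, hde'⟩ := nodup4 hnd
  have hcb : y c = b := by rw [← hbc, inv_apply_apply hy]
  have hed : y e = d := by rw [← hde, inv_apply_apply hy]
  refine ⟨?_, ?_, ?_, ?_⟩
  · simp only [Perm.mul_apply]
    rw [swap_apply_of_ne_of_ne hbd hbe, swap_apply_left, hcb]
  · simp only [Perm.mul_apply]
    rw [swap_apply_of_ne_of_ne hcd' hce, swap_apply_right, hbc]
  · simp only [Perm.mul_apply]
    rw [swap_apply_left, swap_apply_of_ne_of_ne hbe.symm hce.symm, hed]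
  · simp only [Perm.mul_apply]
    rw [swap_apply_right, swap_apply_of_ne_of_ne hbd.symm hcd'.symm, hde]

/-- **Contraction**: a stretch `a -x- b -y- c -x- d -y- e -x- f` of six distinct points can be
contracted to `a -x'- f`. -/
theorem contraction {A : Finset α} {x y : Perm α} (hx : x * x = 1) (hy : y * y = 1)
    {a b c d e f : α} (hnd : [a,b,c,d,e,f].Nodup)
    (hbA : b ∈ A) (hcA : c ∈ A) (hdA : d ∈ A) (heA : e ∈ A)
    (hab : x a = b) (hbc : y b = c) (hcd : x c = d) (hde : y d = e) (hef : x e = f)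
    (h : Sol ((((A.erase b).erase c).erase d).erase e)
      (x * swap a b * swap c d * swap e f * swap a f) (y * swap b c * swap d e)) : Sol A x y := by
  obtain ⟨z', hz', hs', h1, h2⟩ := h
  obtain ⟨⟨hab', hac, had, hae, haf⟩, ⟨hbc', hbd, hbe, hbf⟩, ⟨hcd', hce, hcf⟩, ⟨hde', hdf⟩, hef'⟩ :=
    nodup6 hnd
  have hnd4 : [b,c,d,e].Nodup := by
    simp [List.nodup_cons, hbc', hbd, hbe, hcd', hce, hde']
  obtain ⟨xb, xc, xd, xe⟩ := contr_x_fixed hx hnd hab hcd hef
  obtain ⟨yb, yc, yd, ye⟩ := contr_y_fixed hy hnd4 hbc hde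
  obtain ⟨x', hx'⟩ : ∃ x', x' = x * swap a b * swap c d * swap e f * swap a f := ⟨_, rfl⟩
  obtain ⟨y', hy'⟩ : ∃ y', y' = y * swap b c * swap d e := ⟨_, rfl⟩
  rw [← hx'] at xb xc xd xe h1
  rw [← hy'] at yb yc yd ye h2
  have zb : z' b = b := fixed_of_not_mem hs' (by simp)
  have zc : z' c = c := fixed_of_not_mem hs' (by simp)
  have zd : z' d = d := fixed_of_not_mem hs' (by simp)
  have ze : z' e = e := fixed_of_not_mem hs' (by simp)
  have ex : x = x' * (swap a f * swap e f * swap c d * swap a b) := by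
    rw [hx']
    simp only [← mul_assoc, mul_swap_mul_self]
  have ey : y = y' * swap d e * swap b c := by
    rw [hy']
    simp only [mul_swap_mul_self]
  have z1d : (z' * swap b c) d = d := by rw [rm_apply_of_ne hbd.symm hcd'.symm, zd]
  have z1e : (z' * swap b c) e = e := by rw [rm_apply_of_ne hbe.symm hce.symm, ze]
  have hz1 : (z' * swap b c) * (z' * swap b c) = 1 := add_mul_self hz' zb zc
  refine ⟨z' * swap b c * swap d e, add_mul_self hz1 z1d z1e, ?_, ?_, ?_⟩
  · intro v hv
    by_cases h1 : v = b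
    · rw [h1]; exact hbA
    by_cases h2 : v = c
    · rw [h2]; exact hcA
    by_cases h3 : v = d
    · rw [h3]; exact hdA
    by_cases h4 : v = e
    · rw [h4]; exact heA
    rw [rm_apply_of_ne h3 h4, rm_apply_of_ne h1 h2] at hv
    exact Finset.mem_of_mem_erase (Finset.mem_of_mem_erase (Finset.mem_of_mem_erase
      (Finset.mem_of_mem_erase (hs' v hv))))
  · rw [orderOf_mul_comm']
    have c1 := comm_swap_of_fixed x' xb xc
    have c2 := comm_swap_of_fixed x' xd xe
    have e1 : z' * swap b c * swap d e * x =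
        ((z' * x') * (swap c e * swap e a)) * (swap d b * swap b f) := by
      calc z' * swap b c * swap d e * x
          = z' * swap b c * swap d e * (x' * (swap a f * swap e f * swap c d * swap a b)) := by
            rw [← ex]
        _ = z' * swap b c * (swap d e * x') * (swap a f * swap e f * swap c d * swap a b) := by
            group
        _ = z' * swap b c * (x' * swap d e) * (swap a f * swap e f * swap c d * swap a b) := by
            rw [c2]
        _ = z' * (swap b c * x') * swap d e * (swap a f * swap e f * swap c d * swap a b) := by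
            group
        _ = z' * (x' * swap b c) * swap d e * (swap a f * swap e f * swap c d * swap a b) := by
            rw [c1]
        _ = (z' * x') * (swap b c * swap d e * (swap a f * swap e f * swap c d * swap a b)) := by
            group
        _ = (z' * x') * ((swap c e * swap e a) * (swap d b * swap b f)) := by
            rw [contraction_identity a b c d e f hnd]
        _ = _ := by group
    rw [e1]
    have h1' : Odd (orderOf (z' * x')) := by rw [orderOf_mul_comm']; exact h1
    have hσ1 : Odd (orderOf ((z' * x') * (swap c e * swap e a))) := by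
      apply odd_mul_three hce hac hae _ _ h1'
      · rw [Perm.mul_apply, xc, zc]
      · rw [Perm.mul_apply, xe, ze]
    apply odd_mul_three hbd.symm hdf.symm hbf.symm _ _ hσ1
    · simp only [Perm.mul_apply]
      rw [swap_apply_of_ne_of_ne hde' had.symm, swap_apply_of_ne_of_ne hcd'.symm hde', xd, zd]
    · simp only [Perm.mul_apply]
      rw [swap_apply_of_ne_of_ne hbe hab'.symm, swap_apply_of_ne_of_ne hbc' hbe, xb, zb]
  · have c1 := comm_swap_of_fixed y' yb yc
    have c2 := comm_swap_of_fixed y' yd ye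
    have e2 : z' * swap b c * swap d e * y = z' * y' := by
      calc z' * swap b c * swap d e * y
          = z' * swap b c * swap d e * (y' * swap d e * swap b c) := by rw [← ey]
        _ = z' * swap b c * (swap d e * y') * swap d e * swap b c := by group
        _ = z' * swap b c * (y' * swap d e) * swap d e * swap b c := by rw [c2]
        _ = z' * (swap b c * y') * (swap d e * swap d e) * swap b c := by group
        _ = z' * (y' * swap b c) * (swap d e * swap d e) * swap b c := by rw [c1]
        _ = z' * y' * (swap b c * swap b c) := by rw [swap_mul_self]; group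
        _ = z' * y' := by rw [swap_mul_self, mul_one]
    rw [e2]; exact h2

end Cfsg.Agent.Helper2.InvGraph
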