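import Mathlib
import Cfsg.Agent.Helper2.InvGraphD

/-!
Helper library (helper2) for S3265: the insertion lemma (a 4-cycle component `b -x- c -y- d -x- e -y- b`
can be removed when the rest is nontrivial).
-/

set_option autoImplicit false

namespace Cfsg.Agent.Helper2.InvGraph

open Equiv Function

variable {α : Type*} [DecidableEq α] [Fintype α]

theorem strip_x_inv {x : Perm α} (hx : x * x = 1) {b c d e : α} (hnd : [b,c,d,e].Nodup)
    (hbc : x b = c) (hde : x d = e) :
    (x * swap b c * swap d e) * (x * swap b c * swap d e) = 1 := by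
  obtain ⟨⟨hbc', hbd, hbe⟩, ⟨hcd', hce⟩, hde'⟩ := nodup4 hnd
  have h1 : (x * swap b c) d = e := by rw [rm_apply_of_ne hbd.symm hcd'.symm, hde]
  exact rm_mul_self (rm_mul_self hx hbc) h1

theorem strip {A : Finset α} {x y : Perm α} (hx : x * x = 1) (hy : y * y = 1) {b c d e : α}
    (hnd : [b,c,d,e].Nodup) (hbA : b ∈ A) (hcA : c ∈ A) (hdA : d ∈ A) (heA : e ∈ A)
    (hbc : x b = c) (hcd : y c = d) (hde : x d = e) (heb : y e = b)
    (hx1 : x * swap b c * swap d e ≠ 1)
    (h : Sol ((((A.erase b).erase c).erase d).erase e)
      (x * swap b c * swap d e) (y * swap c d * swap e b)) : Sol A x y := by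
  obtain ⟨z', hz', hs', h1, h2⟩ := h
  obtain ⟨⟨hbc', hbd, hbe⟩, ⟨hcd', hce⟩, hde'⟩ := nodup4 hnd
  have hnd' : [c,d,e,b].Nodup := by
    simp [List.nodup_cons, hcd', hce, hbc'.symm, hde', hbd.symm, hbe.symm]
  obtain ⟨xb, xc, xd, xe⟩ := contr_y_fixed hx hnd hbc hde
  obtain ⟨yc, yd, ye, yb⟩ := contr_y_fixed hy hnd' hcd heb
  have hx'inv := strip_x_inv hx hnd hbc hde
  obtain ⟨x', hx'⟩ : ∃ x', x' = x * swap b c * swap d e := ⟨_, rfl⟩
  obtain ⟨y', hy'⟩ : ∃ y', y' = y * swap c d * swap e b := ⟨_, rfl⟩
  rw [← hx'] at xb xc xd xe h1 hx1 hx'inv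
  rw [← hy'] at yb yc yd ye h2
  have zb : z' b = b := fixed_of_not_mem hs' (by simp)
  have zc : z' c = c := fixed_of_not_mem hs' (by simp)
  have zd : z' d = d := fixed_of_not_mem hs' (by simp)
  have ze : z' e = e := fixed_of_not_mem hs' (by simp)
  have ex : x = x' * swap d e * swap b c := by
    rw [hx']; simp only [mul_swap_mul_self]
  have ey : y = y' * swap e b * swap c d := by
    rw [hy']; simp only [mul_swap_mul_self]
  -- `z'` is not trivial
  have hz1 : z' ≠ 1 := by
    rintro rfl
    rw [mul_one] at h1
    have : orderOf x' = 2 := by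
      haveI : Fact (Nat.Prime 2) := ⟨Nat.prime_two⟩
      exact orderOf_eq_prime (by rw [pow_two]; exact hx'inv) hx1
    rw [this] at h1
    exact absurd h1 (by decide)
  obtain ⟨u, hu⟩ : ∃ u, z' u ≠ u := by
    by_contra hcon
    apply hz1
    ext w
    by_contra hw
    exact hcon ⟨w, hw⟩
  obtain ⟨v, hv⟩ : ∃ v, v = z' u := ⟨_, rfl⟩
  have huv : z' u = v := hv.symm
  have hvu : z' v = u := by rw [hv, inv_apply_apply hz']
  have huv' : u ≠ v := fun h => hu (by rw [huv]; exact h.symm)
  have hv' : z' v ≠ v := by rw [hvu]; exact huv'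
  have hu4 := hs' u hu
  have hv4 := hs' v hv'
  simp only [Finset.mem_erase] at hu4 hv4
  obtain ⟨hue, hud, huc, hub, huA⟩ := hu4
  obtain ⟨hve, hvd, hvc, hvb, hvA⟩ := hv4
  have hnd6 : [u,v,b,c,d,e].Nodup := by
    simp [List.nodup_cons, huv', hub, huc, hud, hue, hvb, hvc, hvd, hve, hbc', hbd, hbe, hcd', hce,
      hde']
  -- the involution chain
  have i1 := rm_mul_self hz' huv
  have z1u : (z' * swap u v) u = u := rm_apply_left hz' huv
  have z1v : (z' * swap u v) v = v := rm_apply_right huv
  have z1b : (z' * swap u v) b = b := by rw [rm_apply_of_ne hub.symm hvb.symm, zb]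
  have z1c : (z' * swap u v) c = c := by rw [rm_apply_of_ne huc.symm hvc.symm, zc]
  have z1d : (z' * swap u v) d = d := by rw [rm_apply_of_ne hud.symm hvd.symm, zd]
  have z1e : (z' * swap u v) e = e := by rw [rm_apply_of_ne hue.symm hve.symm, ze]
  have i2 := add_mul_self i1 z1u z1b
  have z2v : (z' * swap u v * swap u b) v = v := by rw [rm_apply_of_ne huv'.symm hvb, z1v]
  have z2c : (z' * swap u v * swap u b) c = c := by rw [rm_apply_of_ne huc.symm hbc'.symm, z1c]
  have z2d : (z' * swap u v * swap u b) d = d := by rw [rm_apply_of_ne hud.symm hbd.symm, z1d]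
  have z2e : (z' * swap u v * swap u b) e = e := by rw [rm_apply_of_ne hue.symm hbe.symm, z1e]
  have i3 := add_mul_self i2 z2v z2d
  have z3c : (z' * swap u v * swap u b * swap v d) c = c := by
    rw [rm_apply_of_ne hvc.symm hcd', z2c]
  have z3e : (z' * swap u v * swap u b * swap v d) e = e := by
    rw [rm_apply_of_ne hve.symm hde'.symm, z2e]
  have i4 := add_mul_self i3 z3c z3e
  have cbc := comm_swap_of_fixed z' zb zc
  have cde := comm_swap_of_fixed z' zd ze
  have ceb := comm_swap_of_fixed z' ze zb
  have ccd := comm_swap_of_fixed z' zc zd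
  refine ⟨z' * swap u v * swap u b * swap v d * swap c e, i4, ?_, ?_, ?_⟩
  · intro w hw
    by_cases h1 : w = u
    · rw [h1]; exact huA
    by_cases h2 : w = v
    · rw [h2]; exact hvA
    by_cases h3 : w = b
    · rw [h3]; exact hbA
    by_cases h4 : w = c
    · rw [h4]; exact hcA
    by_cases h5 : w = d
    · rw [h5]; exact hdA
    by_cases h6 : w = e
    · rw [h6]; exact heA
    rw [rm_apply_of_ne h4 h6, rm_apply_of_ne h2 h5, rm_apply_of_ne h1 h3, rm_apply_of_ne h1 h2]
      at hw
    exact Finset.mem_of_mem_erase (Finset.mem_of_mem_erase (Finset.mem_of_mem_erase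
      (Finset.mem_of_mem_erase (hs' w hw))))
  · have e1 : x * (z' * swap u v * swap u b * swap v d * swap c e) =
        ((x' * z') * (swap c d * swap d u)) * (swap e b * swap b v) := by
      calc x * (z' * swap u v * swap u b * swap v d * swap c e)
          = x' * swap d e * swap b c * (z' * swap u v * swap u b * swap v d * swap c e) := by
            rw [← ex]
        _ = x' * swap d e * (swap b c * z') * (swap u v * swap u b * swap v d * swap c e) := by
            group
        _ = x' * swap d e * (z' * swap b c) * (swap u v * swap u b * swap v d * swap c e) := by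
            rw [cbc]
        _ = x' * (swap d e * z') * swap b c * (swap u v * swap u b * swap v d * swap c e) := by
            group
        _ = x' * (z' * swap d e) * swap b c * (swap u v * swap u b * swap v d * swap c e) := by
            rw [cde]
        _ = (x' * z') * (swap d e * swap b c * (swap u v * swap u b * swap v d * swap c e)) := by
            group
        _ = (x' * z') * ((swap c d * swap d u) * (swap e b * swap b v)) := by
            rw [strip_identity_x u v b c d e hnd6]
        _ = _ := by group
    rw [e1]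
    have hσ1 : Odd (orderOf ((x' * z') * (swap c d * swap d u))) := by
      apply odd_mul_three hcd' huc hud _ _ h1
      · rw [Perm.mul_apply, zc, xc]
      · rw [Perm.mul_apply, zd, xd]
    apply odd_mul_three hbe.symm hve hvb _ _ hσ1
    · simp only [Perm.mul_apply]
      rw [swap_apply_of_ne_of_ne hde'.symm hue.symm, swap_apply_of_ne_of_ne hce.symm hde'.symm,
        ze, xe]
    · simp only [Perm.mul_apply]
      rw [swap_apply_of_ne_of_ne hbd hub.symm, swap_apply_of_ne_of_ne hbc' hbd, zb, xb]
  · rw [orderOf_mul_comm']
    have e2 : y * (z' * swap u v * swap u b * swap v d * swap c e) =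
        ((y' * z') * (swap e d * swap d u)) * (swap c b * swap b v) := by
      calc y * (z' * swap u v * swap u b * swap v d * swap c e)
          = y' * swap e b * swap c d * (z' * swap u v * swap u b * swap v d * swap c e) := by
            rw [← ey]
        _ = y' * swap e b * (swap c d * z') * (swap u v * swap u b * swap v d * swap c e) := by
            group
        _ = y' * swap e b * (z' * swap c d) * (swap u v * swap u b * swap v d * swap c e) := by
            rw [ccd]
        _ = y' * (swap e b * z') * swap c d * (swap u v * swap u b * swap v d * swap c e) := by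
            group
        _ = y' * (z' * swap e b) * swap c d * (swap u v * swap u b * swap v d * swap c e) := by
            rw [ceb]
        _ = (y' * z') * (swap e b * swap c d * (swap u v * swap u b * swap v d * swap c e)) := by
            group
        _ = (y' * z') * ((swap e d * swap d u) * (swap c b * swap b v)) := by
            rw [strip_identity_y u v b c d e hnd6]
        _ = _ := by group
    rw [e2]
    have h2' : Odd (orderOf (y' * z')) := by rw [orderOf_mul_comm']; exact h2
    have hσ1 : Odd (orderOf ((y' * z') * (swap e d * swap d u))) := by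
      apply odd_mul_three hde'.symm hue hud _ _ h2'
      · rw [Perm.mul_apply, ze, ye]
      · rw [Perm.mul_apply, zd, yd]
    apply odd_mul_three hbc'.symm hvc hvb _ _ hσ1
    · simp only [Perm.mul_apply]
      rw [swap_apply_of_ne_of_ne hcd' huc.symm, swap_apply_of_ne_of_ne hce hcd', zc, yc]
    · simp only [Perm.mul_apply]
      rw [swap_apply_of_ne_of_ne hbd hub.symm, swap_apply_of_ne_of_ne hbe hbd, zb, yb]

end Cfsg.Agent.Helper2.InvGraph
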