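import Mathlib
import Cfsg.Agent.Helper2.InvGraphE

/-!
Helper library (helper2) for S3265: structure of the exceptional configuration and the three explicit
gadgets.
-/

set_option autoImplicit false

namespace Cfsg.Agent.Helper2.InvGraph

open Equiv Function

variable {α : Type*} [DecidableEq α] [Fintype α]

theorem Cfg.x_mem {A : Finset α} {x y : Perm α} (hc : Cfg A x y) {v : α} (hv : x v ≠ v) :
    x v ∈ A := by
  apply hc.sx
  rw [inv_apply_apply hc.hx]
  exact fun h => hv h.symm

theorem Cfg.y_mem {A : Finset α} {x y : Perm α} (hc : Cfg A x y) {v : α} (hv : y v ≠ v) :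
    y v ∈ A := hc.symm.x_mem hv

/-- In the exceptional configuration `x` and `y` differ at every point of `A`. -/
theorem exc_ne {A : Finset α} {x y : Perm α} (hc : Cfg A x y) (he : Exc A x y) {p : α}
    (hp : p ∈ A) : x p ≠ y p := by
  obtain ⟨hcard, hxm, hym, hne⟩ := he
  intro hxy
  apply hne
  obtain ⟨q, hq⟩ : ∃ q, q = x p := ⟨_, rfl⟩
  have hxp : x p = q := hq.symm
  have hyp : y p = q := by rw [← hxy]; exact hxp
  have hxq : x q = p := by rw [hq, inv_apply_apply hc.hx]
  have hyq : y q = p := by rw [← hyp, inv_apply_apply hc.hy]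
  have hpq : p ≠ q := by rw [hq]; exact (hxm p hp).symm
  have hqA : q ∈ A := by rw [hq]; exact hc.x_mem (hxm p hp)
  have hB : ((A.erase p).erase q).card = 2 := by
    rw [Finset.card_erase_of_mem (Finset.mem_erase.mpr ⟨hpq.symm, hqA⟩),
      Finset.card_erase_of_mem hp, hcard]
  ext v
  by_cases hvA : v ∈ A
  · by_cases h1 : v = p
    · rw [h1, hxy]
    by_cases h2 : v = q
    · rw [h2, hxq, hyq]
    have hvB : v ∈ (A.erase p).erase q := Finset.mem_erase.mpr ⟨h2, Finset.mem_erase.mpr ⟨h1, hvA⟩⟩
    have hcard1 : (((A.erase p).erase q).erase v).card = 1 := by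
      rw [Finset.card_erase_of_mem hvB, hB]
    have hxv : x v ∈ ((A.erase p).erase q).erase v := by
      refine Finset.mem_erase.mpr ⟨hxm v hvA, Finset.mem_erase.mpr ⟨?_, Finset.mem_erase.mpr
        ⟨?_, hc.x_mem (hxm v hvA)⟩⟩⟩
      · intro h
        apply h1
        have := inv_apply_apply hc.hx v
        rw [h, hxq] at this
        exact this.symm
      · intro h
        apply h2
        have := inv_apply_apply hc.hx v
        rw [h, hxp] at this
        exact this.symm
    have hyv : y v ∈ ((A.erase p).erase q).erase v := by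
      refine Finset.mem_erase.mpr ⟨hym v hvA, Finset.mem_erase.mpr ⟨?_, Finset.mem_erase.mpr
        ⟨?_, hc.y_mem (hym v hvA)⟩⟩⟩
      · intro h
        apply h1
        have := inv_apply_apply hc.hy v
        rw [h, hyq] at this
        exact this.symm
      · intro h
        apply h2
        have := inv_apply_apply hc.hy v
        rw [h, hyp] at this
        exact this.symm
    exact Finset.card_le_one.mp hcard1.le _ hxv _ hyv
  · have h1 : x v = v := by
      by_contra h; exact hvA (hc.sx v h)
    have h2 : y v = v := by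
      by_contra h; exact hvA (hc.sy v h)
    rw [h1, h2]

/-- Structure of the exceptional configuration, from any base point. -/
theorem exc_structure {A : Finset α} {x y : Perm α} (hc : Cfg A x y) (he : Exc A x y) {p : α}
    (hp : p ∈ A) :
    [p, x p, y (x p), y p].Nodup ∧ A = {p, x p, y (x p), y p} ∧ x (y (x p)) = y p := by
  have hne := exc_ne hc he hp
  obtain ⟨hcard, hxm, hym, -⟩ := he
  obtain ⟨q, hq⟩ : ∃ q, q = x p := ⟨_, rfl⟩
  obtain ⟨s, hs⟩ : ∃ s, s = y p := ⟨_, rfl⟩
  obtain ⟨r, hr⟩ : ∃ r, r = y q := ⟨_, rfl⟩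
  rw [← hq, ← hs] at hne ⊢
  rw [← hr]
  have hxq : x q = p := by rw [hq, inv_apply_apply hc.hx]
  have hys : y s = p := by rw [hs, inv_apply_apply hc.hy]
  have hyr : y r = q := by rw [hr, inv_apply_apply hc.hy]
  have hqA : q ∈ A := by rw [hq]; exact hc.x_mem (hxm p hp)
  have hsA : s ∈ A := by rw [hs]; exact hc.y_mem (hym p hp)
  have hrA : r ∈ A := by rw [hr]; exact hc.y_mem (hym q hqA)
  have hpq : p ≠ q := by rw [hq]; exact (hxm p hp).symm
  have hps : p ≠ s := by rw [hs]; exact (hym p hp).symm
  have hqr : q ≠ r := by rw [hr]; exact (hym q hqA).symm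
  have hpr : p ≠ r := by
    intro h
    apply hne
    rw [hs, h, hyr]
  have hrs : r ≠ s := by
    intro h
    apply hpq
    apply y.injective
    rw [← hs, ← hr, h]
  have hcard4 : ({p, q, r, s} : Finset α).card = 4 := by
    rw [Finset.card_insert_of_notMem, Finset.card_insert_of_notMem, Finset.card_pair hrs]
    · simp [hqr, hne]
    · simp [hpq, hpr, hps]
  have hsub : ({p, q, r, s} : Finset α) ⊆ A := by
    intro v hv
    simp only [Finset.mem_insert, Finset.mem_singleton] at hv
    rcases hv with rfl | rfl | rfl | rfl <;> assumption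
  have hA : A = {p, q, r, s} :=
    (Finset.eq_of_subset_of_card_le hsub (by rw [hcard, hcard4])).symm
  refine ⟨?_, hA, ?_⟩
  · simp [List.nodup_cons, hpq, hpr, hps, hqr, hne, hrs]
  · have hxr : x r ∈ A := hc.x_mem (hxm r hrA)
    rw [hA] at hxr
    simp only [Finset.mem_insert, Finset.mem_singleton] at hxr
    rcases hxr with h | h | h | h
    · exfalso
      apply hqr
      have := inv_apply_apply hc.hx r
      rw [h, ← hq] at this
      exact this
    · exfalso
      apply hpr
      have := inv_apply_apply hc.hx r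
      rw [h, hxq] at this
      exact this
    · exact absurd h (hxm r hrA)
    · exact h

end Cfsg.Agent.Helper2.InvGraph
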