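import Mathlib
import Cfsg.Agent.Helper2.InvGraphF

/-!
Helper library (helper2) for S3265: the gadget "4-cycle plus a common fixed point".
-/

set_option autoImplicit false

namespace Cfsg.Agent.Helper2.InvGraph

open Equiv Function

variable {α : Type*} [DecidableEq α] [Fintype α]

set_option maxRecDepth 100000 in
theorem gadget_a {A : Finset α} {x y : Perm α} (hc : Cfg A x y) {u : α} (huA : u ∈ A)
    (hxu : x u = u) (hyu : y u = u) (he : Exc (A.erase u) x y) : Sol A x y := by
  have hc' : Cfg (A.erase u) x y := by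
    refine ⟨hc.hx, hc.hy, ?_, ?_, hc.card⟩
    · intro v hv
      exact Finset.mem_erase.mpr ⟨fun h => hv (by rw [h, hxu]), hc.sx v hv⟩
    · intro v hv
      exact Finset.mem_erase.mpr ⟨fun h => hv (by rw [h, hyu]), hc.sy v hv⟩
  have hne : (A.erase u).Nonempty := by
    rw [← Finset.card_pos, he.1]; norm_num
  obtain ⟨p, hp⟩ := hne
  obtain ⟨hnd, hA', hxr⟩ := exc_structure hc' he hp
  obtain ⟨q, hq⟩ : ∃ q, q = x p := ⟨_, rfl⟩
  obtain ⟨s, hs⟩ : ∃ s, s = y p := ⟨_, rfl⟩
  obtain ⟨r, hr⟩ : ∃ r, r = y q := ⟨_, rfl⟩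
  rw [← hq, ← hs, ← hr] at hnd hA' hxr
  have hxp : x p = q := hq.symm
  have hxq : x q = p := by rw [hq, inv_apply_apply hc.hx]
  have hxs : x s = r := by rw [← hxr, inv_apply_apply hc.hx]
  have hyp : y p = s := hs.symm
  have hys : y s = p := by rw [hs, inv_apply_apply hc.hy]
  have hyq : y q = r := hr.symm
  have hyr : y r = q := by rw [hr, inv_apply_apply hc.hy]
  have hu' : u ∉ ({p, q, r, s} : Finset α) := by
    rw [← hA']; simp
  simp only [Finset.mem_insert, Finset.mem_singleton, not_or] at hu'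
  obtain ⟨hup, huq, hur, hus⟩ := hu'
  obtain ⟨⟨hpq, hpr, hps⟩, ⟨hqr, hqs⟩, hrs⟩ := nodup4 hnd
  have hnd5 : [p, q, r, s, u].Nodup := by
    simp [List.nodup_cons, hpq, hpr, hps, hqr, hqs, hrs, Ne.symm hup, Ne.symm huq, Ne.symm hur,
      Ne.symm hus]
  let ι : Fin 5 ↪ α := ⟨![p, q, r, s, u], List.nodup_ofFn.mp (by simpa using hnd5)⟩
  have hrange : ∀ v, v ∈ A → v ∈ Set.range ι := by
    intro v hv
    by_cases hvu : v = u
    · exact ⟨4, hvu.symm⟩
    · have : v ∈ A.erase u := Finset.mem_erase.mpr ⟨hvu, hv⟩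
      rw [hA'] at this
      simp only [Finset.mem_insert, Finset.mem_singleton] at this
      rcases this with h | h | h | h
      · exact ⟨0, h.symm⟩
      · exact ⟨1, h.symm⟩
      · exact ⟨2, h.symm⟩
      · exact ⟨3, h.symm⟩
  have hmem : ∀ i, ι i ∈ A := by
    intro i
    have hsub : ∀ v ∈ ({p, q, r, s} : Finset α), v ∈ A := by
      intro v hv; rw [← hA'] at hv; exact Finset.mem_of_mem_erase hv
    fin_cases i
    · exact hsub p (by simp)
    · exact hsub q (by simp)
    · exact hsub r (by simp)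
    · exact hsub s (by simp)
    · exact huA
  obtain ⟨z, hz, hzs, h1, h2⟩ := transfer ι x y (swap 0 1 * swap 2 3) (swap 1 2 * swap 3 0)
    (swap 1 2 * swap 3 4)
    (by intro i; fin_cases i; exacts [hxp, hxq, hxr, hxs, hxu])
    (by intro i; fin_cases i; exacts [hyp, hyq, hyr, hys, hyu])
    (fun v hv => by by_contra h; exact hv (hrange v (hc.sx v h)))
    (fun v hv => by by_contra h; exact hv (hrange v (hc.sy v h)))
    (by decide) 15 (by decide) (by decide) (by decide)
  refine ⟨z, hz, ?_, h1, h2⟩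
  intro v hv
  obtain ⟨i, rfl⟩ := hzs v hv
  exact hmem i

end Cfsg.Agent.Helper2.InvGraph
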