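import Mathlib
import Cfsg.Agent.Helper2.InvGraphG

/-!
Helper library (helper2) for S3265: the gadget "two 4-cycles".
-/

set_option autoImplicit false

namespace Cfsg.Agent.Helper2.InvGraph

open Equiv Function

variable {α : Type*} [DecidableEq α] [Fintype α]

theorem two_swaps_apply_of_ne (x : Perm α) {b c d e v : α} (h1 : v ≠ b) (h2 : v ≠ c) (h3 : v ≠ d)
    (h4 : v ≠ e) : (x * swap b c * swap d e) v = x v := by
  simp only [Perm.mul_apply]
  rw [swap_apply_of_ne_of_ne h3 h4, swap_apply_of_ne_of_ne h1 h2]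

set_option maxRecDepth 100000 in
theorem gadget_e {A : Finset α} {x y : Perm α} (hc : Cfg A x y) {b c d e : α}
    (hnd : [b,c,d,e].Nodup) (hbA : b ∈ A) (hcA : c ∈ A) (hdA : d ∈ A) (heA : e ∈ A)
    (hbc : x b = c) (hcd : y c = d) (hde : x d = e) (heb : y e = b)
    (hc' : Cfg ((((A.erase b).erase c).erase d).erase e)
      (x * swap b c * swap d e) (y * swap c d * swap e b))
    (he : Exc ((((A.erase b).erase c).erase d).erase e)
      (x * swap b c * swap d e) (y * swap c d * swap e b)) : Sol A x y := by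
  obtain ⟨⟨hbc', hbd, hbe⟩, ⟨hcd', hce⟩, hde'⟩ := nodup4 hnd
  have hne : ((((A.erase b).erase c).erase d).erase e).Nonempty := by
    rw [← Finset.card_pos, he.1]; norm_num
  obtain ⟨p, hp⟩ := hne
  obtain ⟨hnd4, hA', hxr⟩ := exc_structure hc' he hp
  obtain ⟨q, hq⟩ : ∃ q, q = (x * swap b c * swap d e) p := ⟨_, rfl⟩
  obtain ⟨s, hs⟩ : ∃ s, s = (y * swap c d * swap e b) p := ⟨_, rfl⟩
  obtain ⟨r, hr⟩ : ∃ r, r = (y * swap c d * swap e b) q := ⟨_, rfl⟩
  rw [← hq, ← hs, ← hr] at hnd4 hA' hxr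
  have hmemA' : ∀ v ∈ ({p, q, r, s} : Finset α), v ≠ e ∧ v ≠ d ∧ v ≠ c ∧ v ≠ b ∧ v ∈ A := by
    intro v hv
    rw [← hA'] at hv
    simpa only [Finset.mem_erase] using hv
  obtain ⟨hpe, hpd, hpc, hpb, hpA⟩ := hmemA' p (by simp)
  obtain ⟨hqe, hqd, hqc, hqb, hqA⟩ := hmemA' q (by simp)
  obtain ⟨hre, hrd, hrc, hrb, hrA⟩ := hmemA' r (by simp)
  obtain ⟨hse, hsd, hsc, hsb, hsA⟩ := hmemA' s (by simp)
  obtain ⟨⟨hpq, hpr, hps⟩, ⟨hqr, hqs⟩, hrs⟩ := nodup4 hnd4
  rw [two_swaps_apply_of_ne x hpb hpc hpd hpe] at hq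
  rw [two_swaps_apply_of_ne y hpc hpd hpe hpb] at hs
  rw [two_swaps_apply_of_ne y hqc hqd hqe hqb] at hr
  rw [two_swaps_apply_of_ne x hrb hrc hrd hre] at hxr
  have hxp : x p = q := hq.symm
  have hxq : x q = p := by rw [hq, inv_apply_apply hc.hx]
  have hxs : x s = r := by rw [← hxr, inv_apply_apply hc.hx]
  have hyp : y p = s := hs.symm
  have hys : y s = p := by rw [hs, inv_apply_apply hc.hy]
  have hyq : y q = r := hr.symm
  have hyr : y r = q := by rw [hr, inv_apply_apply hc.hy]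
  have hxc : x c = b := by rw [← hbc, inv_apply_apply hc.hx]
  have hxe : x e = d := by rw [← hde, inv_apply_apply hc.hx]
  have hyd : y d = c := by rw [← hcd, inv_apply_apply hc.hy]
  have hyb : y b = e := by rw [← heb, inv_apply_apply hc.hy]
  have hnd8 : [b, c, d, e, p, q, r, s].Nodup := by
    simp [List.nodup_cons, hbc', hbd, hbe, hcd', hce, hde', hpq, hpr, hps, hqr, hqs, hrs,
      Ne.symm hpb, Ne.symm hpc, Ne.symm hpd, Ne.symm hpe, Ne.symm hqb, Ne.symm hqc, Ne.symm hqd,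
      Ne.symm hqe, Ne.symm hrb, Ne.symm hrc, Ne.symm hrd, Ne.symm hre, Ne.symm hsb, Ne.symm hsc,
      Ne.symm hsd, Ne.symm hse]
  let ι : Fin 8 ↪ α := ⟨![b, c, d, e, p, q, r, s], List.nodup_ofFn.mp (by simpa using hnd8)⟩
  have hrange : ∀ v, v ∈ A → v ∈ Set.range ι := by
    intro v hv
    by_cases h1 : v = b
    · exact ⟨0, h1.symm⟩
    by_cases h2 : v = c
    · exact ⟨1, h2.symm⟩
    by_cases h3 : v = d
    · exact ⟨2, h3.symm⟩
    by_cases h4 : v = e
    · exact ⟨3, h4.symm⟩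
    have : v ∈ (((A.erase b).erase c).erase d).erase e := by
      simp only [Finset.mem_erase]; exact ⟨h4, h3, h2, h1, hv⟩
    rw [hA'] at this
    simp only [Finset.mem_insert, Finset.mem_singleton] at this
    rcases this with h | h | h | h
    · exact ⟨4, h.symm⟩
    · exact ⟨5, h.symm⟩
    · exact ⟨6, h.symm⟩
    · exact ⟨7, h.symm⟩
  have hmem : ∀ i, ι i ∈ A := by
    intro i
    fin_cases i
    exacts [hbA, hcA, hdA, heA, hpA, hqA, hrA, hsA]
  obtain ⟨z, hz, hzs, h1, h2⟩ := transfer ι x y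
    (swap 0 1 * swap 2 3 * swap 4 5 * swap 6 7) (swap 1 2 * swap 3 0 * swap 5 6 * swap 7 4)
    (swap 0 1 * swap 2 4 * swap 3 7 * swap 5 6)
    (by intro i; fin_cases i; exacts [hbc, hxc, hde, hxe, hxp, hxq, hxr, hxs])
    (by intro i; fin_cases i; exacts [hyb, hcd, hyd, heb, hyp, hyq, hyr, hys])
    (fun v hv => by by_contra h; exact hv (hrange v (hc.sx v h)))
    (fun v hv => by by_contra h; exact hv (hrange v (hc.sy v h)))
    (by decide) 15 (by decide) (by decide) (by decide)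
  refine ⟨z, hz, ?_, h1, h2⟩
  intro v hv
  obtain ⟨i, rfl⟩ := hzs v hv
  exact hmem i

end Cfsg.Agent.Helper2.InvGraph
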