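import Mathlib
import Cfsg.Agent.Helper2.InvGraphH

/-!
Helper library (helper2) for S3265: the gadget "8-cycle" (contraction of an 8-cycle gives the
exceptional configuration).
-/

set_option autoImplicit false

namespace Cfsg.Agent.Helper2.InvGraph

open Equiv Function

variable {α : Type*} [DecidableEq α] [Fintype α]

theorem contr_x_apply_of_ne (x : Perm α) {a b c d e f v : α} (h1 : v ≠ a) (h2 : v ≠ b) (h3 : v ≠ c)
    (h4 : v ≠ d) (h5 : v ≠ e) (h6 : v ≠ f) :
    (x * swap a b * swap c d * swap e f * swap a f) v = x v := by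
  simp only [Perm.mul_apply]
  rw [swap_apply_of_ne_of_ne h1 h6, swap_apply_of_ne_of_ne h5 h6, swap_apply_of_ne_of_ne h3 h4,
    swap_apply_of_ne_of_ne h1 h2]

theorem contr_x_apply_a {x : Perm α} {a b c d e f : α} (hnd : [a,b,c,d,e,f].Nodup)
    (hef : x e = f) : (x * swap a b * swap c d * swap e f * swap a f) a = f := by
  obtain ⟨⟨hab', hac, had, hae, haf⟩, ⟨hbc', hbd, hbe, hbf⟩, ⟨hcd', hce, hcf⟩, ⟨hde', hdf⟩, hef'⟩ :=
    nodup6 hnd
  simp only [Perm.mul_apply]
  rw [swap_apply_left, swap_apply_right, swap_apply_of_ne_of_ne hce.symm hde'.symm,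
    swap_apply_of_ne_of_ne hae.symm hbe.symm, hef]

set_option maxRecDepth 100000 in
theorem gadget_d {A : Finset α} {x y : Perm α} (hc : Cfg A x y) {a b c d e f : α}
    (hnd : [a,b,c,d,e,f].Nodup) (haA : a ∈ A) (hbA : b ∈ A) (hcA : c ∈ A) (hdA : d ∈ A)
    (heA : e ∈ A)
    (hab : x a = b) (hbc : y b = c) (hcd : x c = d) (hde : y d = e) (hef : x e = f)
    (hc' : Cfg ((((A.erase b).erase c).erase d).erase e)
      (x * swap a b * swap c d * swap e f * swap a f) (y * swap b c * swap d e))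
    (he : Exc ((((A.erase b).erase c).erase d).erase e)
      (x * swap a b * swap c d * swap e f * swap a f) (y * swap b c * swap d e)) : Sol A x y := by
  obtain ⟨⟨hab', hac, had, hae, haf⟩, ⟨hbc', hbd, hbe, hbf⟩, ⟨hcd', hce, hcf⟩, ⟨hde', hdf⟩, hef'⟩ :=
    nodup6 hnd
  have hp : a ∈ (((A.erase b).erase c).erase d).erase e := by
    simp only [Finset.mem_erase]; exact ⟨hae, had, hac, hab', haA⟩
  obtain ⟨hnd4, hA', hxr⟩ := exc_structure hc' he hp
  rw [contr_x_apply_a hnd hef] at hnd4 hA' hxr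
  obtain ⟨s, hs⟩ : ∃ s, s = (y * swap b c * swap d e) a := ⟨_, rfl⟩
  obtain ⟨r, hr⟩ : ∃ r, r = (y * swap b c * swap d e) f := ⟨_, rfl⟩
  rw [← hs, ← hr] at hnd4 hA' hxr
  have hmemA' : ∀ v ∈ ({a, f, r, s} : Finset α), v ≠ e ∧ v ≠ d ∧ v ≠ c ∧ v ≠ b ∧ v ∈ A := by
    intro v hv
    rw [← hA'] at hv
    simpa only [Finset.mem_erase] using hv
  obtain ⟨hfe, hfd, hfc, hfb, hfA⟩ := hmemA' f (by simp)
  obtain ⟨hre, hrd, hrc, hrb, hrA⟩ := hmemA' r (by simp)
  obtain ⟨hse, hsd, hsc, hsb, hsA⟩ := hmemA' s (by simp)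
  obtain ⟨⟨haf', har, has⟩, ⟨hfr, hfs⟩, hrs⟩ := nodup4 hnd4
  rw [two_swaps_apply_of_ne y hab' hac had hae] at hs
  rw [two_swaps_apply_of_ne y hfb hfc hfd hfe] at hr
  rw [contr_x_apply_of_ne x har.symm hrb hrc hrd hre hfr.symm] at hxr
  have hxb : x b = a := by rw [← hab, inv_apply_apply hc.hx]
  have hxd : x d = c := by rw [← hcd, inv_apply_apply hc.hx]
  have hxf : x f = e := by rw [← hef, inv_apply_apply hc.hx]
  have hxs : x s = r := by rw [← hxr, inv_apply_apply hc.hx]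
  have hyc : y c = b := by rw [← hbc, inv_apply_apply hc.hy]
  have hye : y e = d := by rw [← hde, inv_apply_apply hc.hy]
  have hyf : y f = r := hr.symm
  have hyr : y r = f := by rw [hr, inv_apply_apply hc.hy]
  have hya : y a = s := hs.symm
  have hys : y s = a := by rw [hs, inv_apply_apply hc.hy]
  have hnd8 : [a, b, c, d, e, f, r, s].Nodup := by
    simp [List.nodup_cons, hab', hac, had, hae, haf, hbc', hbd, hbe, hbf, hcd', hce, hcf, hde', hdf,
      hef', har, has, hfr, hfs, hrs, Ne.symm hrb, Ne.symm hrc, Ne.symm hrd, Ne.symm hre,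
      Ne.symm hsb, Ne.symm hsc, Ne.symm hsd, Ne.symm hse]
  let ι : Fin 8 ↪ α := ⟨![a, b, c, d, e, f, r, s], List.nodup_ofFn.mp (by simpa using hnd8)⟩
  have hrange : ∀ v, v ∈ A → v ∈ Set.range ι := by
    intro v hv
    by_cases h1 : v = b
    · exact ⟨1, h1.symm⟩
    by_cases h2 : v = c
    · exact ⟨2, h2.symm⟩
    by_cases h3 : v = d
    · exact ⟨3, h3.symm⟩
    by_cases h4 : v = e
    · exact ⟨4, h4.symm⟩
    have : v ∈ (((A.erase b).erase c).erase d).erase e := by
      simp only [Finset.mem_erase]; exact ⟨h4, h3, h2, h1, hv⟩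
    rw [hA'] at this
    simp only [Finset.mem_insert, Finset.mem_singleton] at this
    rcases this with h | h | h | h
    · exact ⟨0, h.symm⟩
    · exact ⟨5, h.symm⟩
    · exact ⟨6, h.symm⟩
    · exact ⟨7, h.symm⟩
  have hmem : ∀ i, ι i ∈ A := by
    intro i
    fin_cases i
    exacts [haA, hbA, hcA, hdA, heA, hfA, hrA, hsA]
  obtain ⟨z, hz, hzs, h1, h2⟩ := transfer ι x y
    (swap 0 1 * swap 2 3 * swap 4 5 * swap 6 7) (swap 1 2 * swap 3 4 * swap 5 6 * swap 7 0)
    (swap 0 1 * swap 2 4 * swap 3 7 * swap 5 6)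
    (by intro i; fin_cases i; exacts [hab, hxb, hcd, hxd, hef, hxf, hxr, hxs])
    (by intro i; fin_cases i; exacts [hya, hbc, hyc, hde, hye, hyf, hyr, hys])
    (fun v hv => by by_contra h; exact hv (hrange v (hc.sx v h)))
    (fun v hv => by by_contra h; exact hv (hrange v (hc.sy v h)))
    (by decide) 15 (by decide) (by decide) (by decide)
  refine ⟨z, hz, ?_, h1, h2⟩
  intro v hv
  obtain ⟨i, rfl⟩ := hzs v hv
  exact hmem i

end Cfsg.Agent.Helper2.InvGraph
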