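import Mathlib
import Cfsg.Agent.Helper2.InvGraphI

/-!
Helper library (helper2) for S3265: the reduced configurations are again configurations.
-/

set_option autoImplicit false

namespace Cfsg.Agent.Helper2.InvGraph

open Equiv Function

variable {α : Type*} [DecidableEq α] [Fintype α]

theorem Cfg.erase_fixed {A : Finset α} {x y : Perm α} (hc : Cfg A x y) {u : α} (hxu : x u = u)
    (hyu : y u = u) : Cfg (A.erase u) x y := by
  refine ⟨hc.hx, hc.hy, ?_, ?_, hc.card⟩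
  · intro v hv
    refine Finset.mem_erase.mpr ⟨?_, hc.sx v hv⟩
    rintro rfl; exact hv hxu
  · intro v hv
    refine Finset.mem_erase.mpr ⟨?_, hc.sy v hv⟩
    rintro rfl; exact hv hyu

theorem cfg_peel_end {A : Finset α} {x y : Perm α} (hc : Cfg A x y) {a b c : α}
    (hab : x a = b) (hne : a ≠ b) (hya : y a = a) (hbc : y b = c) (hbc' : b ≠ c) :
    Cfg ((A.erase a).erase b) (x * swap a b) (y * swap b c) := by
  refine ⟨rm_mul_self hc.hx hab, rm_mul_self hc.hy hbc, ?_, ?_, ?_⟩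
  · intro v hv
    obtain ⟨h1, h2, h3⟩ := rm_moved hc.hx hab hv
    exact Finset.mem_erase.mpr ⟨h3, Finset.mem_erase.mpr ⟨h2, hc.sx v h1⟩⟩
  · intro v hv
    obtain ⟨h1, h2, h3⟩ := rm_moved hc.hy hbc hv
    have h4 : v ≠ a := by rintro rfl; exact h1 hya
    exact Finset.mem_erase.mpr ⟨h2, Finset.mem_erase.mpr ⟨h4, hc.sy v h1⟩⟩
  · have e1 := rm_card hc.hx hab hne
    have e2 := rm_card hc.hy hbc hbc'
    have := hc.card
    omega

theorem cfg_peel_xy {A : Finset α} {x y : Perm α} (hc : Cfg A x y) {a b c d : α}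
    (hab : x a = b) (hne : a ≠ b) (hya : y a = a) (hyb : y b = b)
    (hcd : y c = d) (hne' : c ≠ d) (hxc : x c = c) (hxd : x d = d) :
    Cfg (((A.erase b).erase c).erase d) (x * swap a b) (y * swap c d) := by
  refine ⟨rm_mul_self hc.hx hab, rm_mul_self hc.hy hcd, ?_, ?_, ?_⟩
  · intro v hv
    obtain ⟨h1, h2, h3⟩ := rm_moved hc.hx hab hv
    have h4 : v ≠ c := by rintro rfl; exact h1 hxc
    have h5 : v ≠ d := by rintro rfl; exact h1 hxd
    exact Finset.mem_erase.mpr ⟨h5, Finset.mem_erase.mpr ⟨h4, Finset.mem_erase.mpr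
      ⟨h3, hc.sx v h1⟩⟩⟩
  · intro v hv
    obtain ⟨h1, h2, h3⟩ := rm_moved hc.hy hcd hv
    have h4 : v ≠ b := by rintro rfl; exact h1 hyb
    exact Finset.mem_erase.mpr ⟨h3, Finset.mem_erase.mpr ⟨h2, Finset.mem_erase.mpr
      ⟨h4, hc.sy v h1⟩⟩⟩
  · have e1 := rm_card hc.hx hab hne
    have e2 := rm_card hc.hy hcd hne'
    have := hc.card
    omega

theorem cfg_strip {A : Finset α} {x y : Perm α} (hc : Cfg A x y) {b c d e : α}
    (hnd : [b,c,d,e].Nodup) (hbc : x b = c) (hcd : y c = d) (hde : x d = e) (heb : y e = b) :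
    Cfg ((((A.erase b).erase c).erase d).erase e)
      (x * swap b c * swap d e) (y * swap c d * swap e b) := by
  obtain ⟨⟨hbc', hbd, hbe⟩, ⟨hcd', hce⟩, hde'⟩ := nodup4 hnd
  have hx1 := rm_mul_self hc.hx hbc
  have hde1 : (x * swap b c) d = e := by rw [rm_apply_of_ne hbd.symm hcd'.symm]; exact hde
  have hy1 := rm_mul_self hc.hy hcd
  have heb1 : (y * swap c d) e = b := by rw [rm_apply_of_ne hce.symm hde'.symm]; exact heb
  refine ⟨rm_mul_self hx1 hde1, rm_mul_self hy1 heb1, ?_, ?_, ?_⟩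
  · intro v hv
    obtain ⟨h1, h2, h3⟩ := rm_moved hx1 hde1 hv
    obtain ⟨h4, h5, h6⟩ := rm_moved hc.hx hbc h1
    exact Finset.mem_erase.mpr ⟨h3, Finset.mem_erase.mpr ⟨h2, Finset.mem_erase.mpr
      ⟨h6, Finset.mem_erase.mpr ⟨h5, hc.sx v h4⟩⟩⟩⟩
  · intro v hv
    obtain ⟨h1, h2, h3⟩ := rm_moved hy1 heb1 hv
    obtain ⟨h4, h5, h6⟩ := rm_moved hc.hy hcd h1
    exact Finset.mem_erase.mpr ⟨h2, Finset.mem_erase.mpr ⟨h6, Finset.mem_erase.mpr
      ⟨h5, Finset.mem_erase.mpr ⟨h3, hc.sy v h4⟩⟩⟩⟩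
  · have e1 := rm_card hc.hx hbc hbc'
    have e2 := rm_card hx1 hde1 hde'
    have e3 := rm_card hc.hy hcd hcd'
    have e4 := rm_card hy1 heb1 (Ne.symm hbe)
    have := hc.card
    omega

theorem cfg_contraction {A : Finset α} {x y : Perm α} (hc : Cfg A x y) {a b c d e f : α}
    (hnd : [a,b,c,d,e,f].Nodup)
    (hab : x a = b) (hbc : y b = c) (hcd : x c = d) (hde : y d = e) (hef : x e = f) :
    Cfg ((((A.erase b).erase c).erase d).erase e)
      (x * swap a b * swap c d * swap e f * swap a f) (y * swap b c * swap d e) := by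
  obtain ⟨⟨hab', hac, had, hae, haf⟩, ⟨hbc', hbd, hbe, hbf⟩, ⟨hcd', hce, hcf⟩, ⟨hde', hdf⟩, hef'⟩ :=
    nodup6 hnd
  have hx1 := rm_mul_self hc.hx hab
  have hcd1 : (x * swap a b) c = d := by rw [rm_apply_of_ne hac.symm hbc'.symm]; exact hcd
  have hx2 := rm_mul_self hx1 hcd1
  have hef1 : (x * swap a b * swap c d) e = f := by
    rw [rm_apply_of_ne hce.symm hde'.symm, rm_apply_of_ne hae.symm hbe.symm]; exact hef
  have hx3 := rm_mul_self hx2 hef1
  have ha3 : (x * swap a b * swap c d * swap e f) a = a := by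
    rw [rm_apply_of_ne hae haf, rm_apply_of_ne hac had]; exact rm_apply_left hc.hx hab
  have hf3 : (x * swap a b * swap c d * swap e f) f = f := rm_apply_right hef1
  have hy1 := rm_mul_self hc.hy hbc
  have hde1 : (y * swap b c) d = e := by rw [rm_apply_of_ne hbd.symm hcd'.symm]; exact hde
  have haA : a ∈ A := hc.sx a (by rw [hab]; exact hab'.symm)
  have hxf : x f = e := by rw [← hef, inv_apply_apply hc.hx]
  have hfA : f ∈ A := hc.sx f (by rw [hxf]; exact hef')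
  refine ⟨add_mul_self hx3 ha3 hf3, rm_mul_self hy1 hde1, ?_, ?_, ?_⟩
  · intro v hv
    by_cases h1 : v = a
    · rw [h1]
      exact Finset.mem_erase.mpr ⟨hae, Finset.mem_erase.mpr ⟨had, Finset.mem_erase.mpr
        ⟨hac, Finset.mem_erase.mpr ⟨hab', haA⟩⟩⟩⟩
    by_cases h2 : v = f
    · rw [h2]
      exact Finset.mem_erase.mpr ⟨hef'.symm, Finset.mem_erase.mpr ⟨hdf.symm, Finset.mem_erase.mpr
        ⟨hcf.symm, Finset.mem_erase.mpr ⟨hbf.symm, hfA⟩⟩⟩⟩
    rw [rm_apply_of_ne h1 h2] at hv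
    obtain ⟨g1, g2, g3⟩ := rm_moved hx2 hef1 hv
    obtain ⟨g4, g5, g6⟩ := rm_moved hx1 hcd1 g1
    obtain ⟨g7, g8, g9⟩ := rm_moved hc.hx hab g4
    exact Finset.mem_erase.mpr ⟨g2, Finset.mem_erase.mpr ⟨g6, Finset.mem_erase.mpr
      ⟨g5, Finset.mem_erase.mpr ⟨g9, hc.sx v g7⟩⟩⟩⟩
  · intro v hv
    obtain ⟨h1, h2, h3⟩ := rm_moved hy1 hde1 hv
    obtain ⟨h4, h5, h6⟩ := rm_moved hc.hy hbc h1
    exact Finset.mem_erase.mpr ⟨h3, Finset.mem_erase.mpr ⟨h2, Finset.mem_erase.mpr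
      ⟨h6, Finset.mem_erase.mpr ⟨h5, hc.sy v h4⟩⟩⟩⟩
  · have e1 := rm_card hc.hx hab hab'
    have e2 := rm_card hx1 hcd1 hcd'
    have e3 := rm_card hx2 hef1 hef'
    have e4 := add_card ha3 hf3 haf
    have e5 := rm_card hc.hy hbc hbc'
    have e6 := rm_card hy1 hde1 hde'
    have := hc.card
    omega

theorem nodup4_mk {a b c d : α} (ab : a ≠ b) (ac : a ≠ c) (ad : a ≠ d) (bc : b ≠ c) (bd : b ≠ d)
    (cd : c ≠ d) : [a,b,c,d].Nodup := by
  simp only [List.nodup_cons, List.mem_cons, List.not_mem_nil, or_false, not_or, List.nodup_nil,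
    and_true, not_false_eq_true]
  exact ⟨⟨ab, ac, ad⟩, ⟨bc, bd⟩, cd⟩

theorem nodup6_mk {a b c d e f : α} (ab : a ≠ b) (ac : a ≠ c) (ad : a ≠ d) (ae : a ≠ e)
    (af : a ≠ f) (bc : b ≠ c) (bd : b ≠ d) (be : b ≠ e) (bf : b ≠ f) (cd : c ≠ d) (ce : c ≠ e)
    (cf : c ≠ f) (de : d ≠ e) (df : d ≠ f) (ef : e ≠ f) : [a,b,c,d,e,f].Nodup := by
  simp only [List.nodup_cons, List.mem_cons, List.not_mem_nil, or_false, not_or, List.nodup_nil,
    and_true, not_false_eq_true]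
  exact ⟨⟨ab, ac, ad, ae, af⟩, ⟨bc, bd, be, bf⟩, ⟨cd, ce, cf⟩, ⟨de, df⟩, ef⟩

theorem card_erase4_lt {A : Finset α} {b : α} (hb : b ∈ A) (c d e : α) :
    ((((A.erase b).erase c).erase d).erase e).card < A.card :=
  lt_of_le_of_lt (Finset.card_le_card ((Finset.erase_subset _ _).trans
    ((Finset.erase_subset _ _).trans (Finset.erase_subset _ _)))) (Finset.card_erase_lt_of_mem hb)

end Cfsg.Agent.Helper2.InvGraph
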