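import Mathlib
import Cfsg.Agent.Helper2.InvGraphJ

/-!
Helper library (helper2) for S3265: the main combinatorial theorem.  Two involutions `x, y` with the
same number of moved points, supported in `A`, and not forming the exceptional configuration, have a
common "odd-product neighbour" `z` supported in `A`.
-/

set_option autoImplicit false

namespace Cfsg.Agent.Helper2.InvGraph

open Equiv Function

variable {α : Type*} [DecidableEq α] [Fintype α]

/-- Induction hypothesis. -/
def IH (α : Type*) [DecidableEq α] [Fintype α] (N : ℕ) : Prop :=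
  ∀ (A : Finset α) (x y : Perm α), A.card < N → Cfg A x y → ¬ Exc A x y → Sol A x y

theorem sol_of_eq {A : Finset α} {x : Perm α} (hx : x * x = 1) (sx : ∀ v, x v ≠ v → v ∈ A) :
    Sol A x x :=
  ⟨x, hx, sx, by rw [hx, orderOf_one]; exact odd_one, by rw [hx, orderOf_one]; exact odd_one⟩

theorem step_fixed {A : Finset α} {x y : Perm α} (ih : IH α A.card) (hc : Cfg A x y) {u : α}
    (huA : u ∈ A) (hxu : x u = u) (hyu : y u = u) : Sol A x y := by
  have hc' := hc.erase_fixed hxu hyu
  by_cases he : Exc (A.erase u) x y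
  · exact gadget_a hc huA hxu hyu he
  · exact (ih _ _ _ (Finset.card_erase_lt_of_mem huA) hc' he).mono (Finset.erase_subset _ _)

theorem step_end {A : Finset α} {x y : Perm α} (ih : IH α A.card) (hc : Cfg A x y) {a : α}
    (haA : a ∈ A) (hxa : x a ≠ a) (hya : y a = a) (hyb : y (x a) ≠ x a) : Sol A x y := by
  have hbA : x a ∈ A := hc.x_mem hxa
  have hcA : y (x a) ∈ A := hc.y_mem hyb
  have hne : a ≠ x a := Ne.symm hxa
  have hbc' : x a ≠ y (x a) := Ne.symm hyb
  have hc' := cfg_peel_end hc rfl hne hya rfl hbc'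
  apply peel_end hc.hx hc.hy haA hbA rfl hne hya rfl hbc'
  refine ih _ _ _ ?_ hc' ?_
  · exact lt_of_le_of_lt (Finset.card_le_card (Finset.erase_subset _ _))
      (Finset.card_erase_lt_of_mem haA)
  · intro he
    have hca : y (x a) ≠ a := by
      intro h
      apply hne
      have := inv_apply_apply hc.hy (x a)
      rw [h, hya] at this
      exact this
    have hmem : y (x a) ∈ (A.erase a).erase (x a) :=
      Finset.mem_erase.mpr ⟨hyb, Finset.mem_erase.mpr ⟨hca, hcA⟩⟩
    exact he.2.2.1 _ hmem (rm_apply_right rfl)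

theorem step_xonly {A : Finset α} {x y : Perm α} (ih : IH α A.card) (hc : Cfg A x y) {a : α}
    (haA : a ∈ A) (hxa : x a ≠ a) (hya : y a = a) : Sol A x y := by
  by_cases hyb : y (x a) = x a
  swap
  · exact step_end ih hc haA hxa hya hyb
  have hex : ∃ c, y c ≠ c ∧ x c = c := by
    by_contra hcon
    have hsub : y.support ⊆ x.support := by
      intro v hv
      rw [Perm.mem_support] at hv ⊢
      intro hxv
      exact hcon ⟨v, hv, hxv⟩
    have heq := Finset.eq_of_subset_of_card_le hsub (le_of_eq hc.card)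
    have hmem : a ∈ y.support := by rw [heq, Perm.mem_support]; exact hxa
    rw [Perm.mem_support] at hmem
    exact hmem hya
  obtain ⟨c, hyc, hxc⟩ := hex
  have hcA : c ∈ A := hc.sy c hyc
  by_cases hxd : x (y c) = y c
  swap
  · exact (step_end ih hc.symm hcA hyc hxc hxd).symm
  have hbA := hc.x_mem hxa
  have hdA := hc.y_mem hyc
  have hne : a ≠ x a := Ne.symm hxa
  have hne' : c ≠ y c := Ne.symm hyc
  have hc' := cfg_peel_xy hc rfl hne hya hyb rfl hne' hxc hxd
  apply peel_xy hc.hx hc.hy hbA hcA hdA rfl hne hya hyb rfl hne' hxc hxd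
  refine ih _ _ _ ?_ hc' ?_
  · exact lt_of_le_of_lt (Finset.card_le_card ((Finset.erase_subset _ _).trans
      (Finset.erase_subset _ _))) (Finset.card_erase_lt_of_mem hbA)
  · intro he
    have hac : a ≠ c := by rintro rfl; exact hxa hxc
    have had : a ≠ y c := by intro h; rw [← h] at hxd; exact hxa hxd
    have hmem : a ∈ ((A.erase (x a)).erase c).erase (y c) :=
      Finset.mem_erase.mpr ⟨had, Finset.mem_erase.mpr ⟨hac, Finset.mem_erase.mpr ⟨hne, haA⟩⟩⟩
    exact he.2.1 _ hmem (rm_apply_left hc.hx rfl)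

theorem card_four {a b c d : α} (hnd : [a,b,c,d].Nodup) : ({a, b, c, d} : Finset α).card = 4 := by
  have h := List.toFinset_card_of_nodup hnd
  simpa using h

theorem step_cycle4 {A : Finset α} {x y : Perm α} (ih : IH α A.card) (hc : Cfg A x y)
    (hne : ¬ Exc A x y) (fx : ∀ v ∈ A, x v ≠ v) (fy : ∀ v ∈ A, y v ≠ v) {a : α} (haA : a ∈ A)
    (h2 : y (x a) ≠ a) (h4 : y (x (y (x a))) = a) : Sol A x y := by
  obtain ⟨b, hb⟩ : ∃ b, b = x a := ⟨_, rfl⟩
  obtain ⟨c, hcc⟩ : ∃ c, c = y b := ⟨_, rfl⟩
  obtain ⟨d, hd⟩ : ∃ d, d = x c := ⟨_, rfl⟩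
  rw [← hb, ← hcc, ← hd] at h4
  rw [← hb, ← hcc] at h2
  have hab : x a = b := hb.symm
  have hbc : y b = c := hcc.symm
  have hcd : x c = d := hd.symm
  have hbA : b ∈ A := by rw [hb]; exact hc.x_mem (fx a haA)
  have hcA : c ∈ A := by rw [hcc]; exact hc.y_mem (fy b hbA)
  have hdA : d ∈ A := by rw [hd]; exact hc.x_mem (fx c hcA)
  have nab : a ≠ b := by rw [hb]; exact (fx a haA).symm
  have nbc : b ≠ c := by rw [hcc]; exact (fy b hbA).symm
  have ncd : c ≠ d := by rw [hd]; exact (fx c hcA).symm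
  have nac : a ≠ c := Ne.symm h2
  have nbd : b ≠ d := by
    intro h
    apply nac
    have := congrArg x h
    rw [hb, hd, inv_apply_apply hc.hx, inv_apply_apply hc.hx] at this
    exact this
  have nad : a ≠ d := by
    intro h
    rw [← h] at h4
    exact fy a haA h4
  have hnd : [a,b,c,d].Nodup := nodup4_mk nab nac nad nbc nbd ncd
  have hx1 : x * swap a b * swap c d ≠ 1 := by
    intro h1
    apply hne
    have hA : A = {a, b, c, d} := by
      apply Finset.Subset.antisymm
      · intro v hv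
        by_contra hv'
        simp only [Finset.mem_insert, Finset.mem_singleton, not_or] at hv'
        obtain ⟨n1, n2, n3, n4⟩ := hv'
        have := two_swaps_apply_of_ne x n1 n2 n3 n4
        rw [h1, Perm.one_apply] at this
        exact fx v hv this.symm
      · intro v hv
        simp only [Finset.mem_insert, Finset.mem_singleton] at hv
        rcases hv with rfl | rfl | rfl | rfl <;> assumption
    refine ⟨?_, fx, fy, ?_⟩
    · rw [hA]; exact card_four hnd
    · intro hxy
      apply nbd
      have hya : y a = d := by rw [← h4, inv_apply_apply hc.hy]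
      rw [← hab, ← hya, hxy]
  have hc' := cfg_strip hc hnd hab hbc hcd h4
  by_cases he : Exc ((((A.erase a).erase b).erase c).erase d)
      (x * swap a b * swap c d) (y * swap b c * swap d a)
  · exact gadget_e hc hnd haA hbA hcA hdA hab hbc hcd h4 hc' he
  · apply strip hc.hx hc.hy hnd haA hbA hcA hdA hab hbc hcd h4 hx1
    exact ih _ _ _ (card_erase4_lt haA b c d) hc' he

theorem step_long {A : Finset α} {x y : Perm α} (ih : IH α A.card) (hc : Cfg A x y)
    (fx : ∀ v ∈ A, x v ≠ v) (fy : ∀ v ∈ A, y v ≠ v) {a : α} (haA : a ∈ A)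
    (h2 : y (x a) ≠ a) (h4 : y (x (y (x a))) ≠ a) : Sol A x y := by
  obtain ⟨b, hb⟩ : ∃ b, b = x a := ⟨_, rfl⟩
  obtain ⟨c, hcc⟩ : ∃ c, c = y b := ⟨_, rfl⟩
  obtain ⟨d, hd⟩ : ∃ d, d = x c := ⟨_, rfl⟩
  obtain ⟨e, he⟩ : ∃ e, e = y d := ⟨_, rfl⟩
  obtain ⟨f, hf⟩ : ∃ f, f = x e := ⟨_, rfl⟩
  rw [← hb, ← hcc, ← hd, ← he] at h4
  rw [← hb, ← hcc] at h2
  have hab : x a = b := hb.symm
  have hbc : y b = c := hcc.symm
  have hcd : x c = d := hd.symm
  have hde : y d = e := he.symm
  have hef : x e = f := hf.symm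
  have hba : x b = a := by rw [hb, inv_apply_apply hc.hx]
  have hcb : y c = b := by rw [hcc, inv_apply_apply hc.hy]
  have hdc : x d = c := by rw [hd, inv_apply_apply hc.hx]
  have hed : y e = d := by rw [he, inv_apply_apply hc.hy]
  have hfe : x f = e := by rw [hf, inv_apply_apply hc.hx]
  have hbA : b ∈ A := by rw [hb]; exact hc.x_mem (fx a haA)
  have hcA : c ∈ A := by rw [hcc]; exact hc.y_mem (fy b hbA)
  have hdA : d ∈ A := by rw [hd]; exact hc.x_mem (fx c hcA)
  have heA : e ∈ A := by rw [he]; exact hc.y_mem (fy d hdA)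
  have nab : a ≠ b := by rw [hb]; exact (fx a haA).symm
  have nbc : b ≠ c := by rw [hcc]; exact (fy b hbA).symm
  have ncd : c ≠ d := by rw [hd]; exact (fx c hcA).symm
  have nde : d ≠ e := by rw [he]; exact (fy d hdA).symm
  have nef : e ≠ f := by rw [hf]; exact (fx e heA).symm
  have nac : a ≠ c := Ne.symm h2
  have nae : a ≠ e := Ne.symm h4
  have nad : a ≠ d := by
    intro h; apply nbc; rw [← hab, ← hdc, h]
  have nbd : b ≠ d := by
    intro h; apply nac; rw [← hba, ← hdc, h]
  have nbe : b ≠ e := by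
    intro h; apply ncd; rw [← hbc, ← hed, h]
  have naf : a ≠ f := by
    intro h; apply nbe; rw [← hab, ← hfe, h]
  have nbf : b ≠ f := by
    intro h; apply nae; rw [← hba, ← hfe, h]
  have nce : c ≠ e := by
    intro h; apply nbd; rw [← hcb, ← hed, h]
  have ncf : c ≠ f := by
    intro h; apply nde; rw [← hcd, ← hfe, h]
  have ndf : d ≠ f := by
    intro h; apply nce; rw [← hdc, ← hfe, h]
  have hnd : [a,b,c,d,e,f].Nodup :=
    nodup6_mk nab nac nad nae naf nbc nbd nbe nbf ncd nce ncf nde ndf nef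
  have hc' := cfg_contraction hc hnd hab hbc hcd hde hef
  by_cases hex : Exc ((((A.erase b).erase c).erase d).erase e)
      (x * swap a b * swap c d * swap e f * swap a f) (y * swap b c * swap d e)
  · exact gadget_d hc hnd haA hbA hcA hdA heA hab hbc hcd hde hef hc' hex
  · apply contraction hc.hx hc.hy hnd hbA hcA hdA heA hab hbc hcd hde hef
    exact ih _ _ _ (card_erase4_lt hbA c d e) hc' hex

/-- The main combinatorial theorem. -/
theorem sol_of_cfg : ∀ (n : ℕ) (A : Finset α) (x y : Perm α), A.card = n → Cfg A x y →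
    ¬ Exc A x y → Sol A x y := by
  intro n
  induction n using Nat.strong_induction_on with
  | _ n IHn =>
    intro A x y hn hc hne
    have ih : IH α A.card := by
      intro A' x' y' hlt hc' hne'
      exact IHn A'.card (hn ▸ hlt) A' x' y' rfl hc' hne'
    by_cases hxy : x = y
    · subst hxy; exact sol_of_eq hc.hx hc.sx
    by_cases h0 : ∃ u ∈ A, x u = u ∧ y u = u
    · obtain ⟨u, huA, hxu, hyu⟩ := h0
      exact step_fixed ih hc huA hxu hyu
    by_cases h1 : ∃ a ∈ A, x a ≠ a ∧ y a = a
    · obtain ⟨a, haA, hxa, hya⟩ := h1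
      exact step_xonly ih hc haA hxa hya
    by_cases h1' : ∃ a ∈ A, y a ≠ a ∧ x a = a
    · obtain ⟨a, haA, hya, hxa⟩ := h1'
      exact (step_xonly ih hc.symm haA hya hxa).symm
    have fx : ∀ v ∈ A, x v ≠ v := by
      intro v hv hxv
      by_cases hyv : y v = v
      · exact h0 ⟨v, hv, hxv, hyv⟩
      · exact h1' ⟨v, hv, hyv, hxv⟩
    have fy : ∀ v ∈ A, y v ≠ v := by
      intro v hv hyv
      exact h1 ⟨v, hv, fx v hv, hyv⟩
    have hex : ∃ a, x a ≠ y a := by
      by_contra hcon
      apply hxy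
      ext v
      by_contra h
      exact hcon ⟨v, h⟩
    obtain ⟨a, ha⟩ := hex
    have haA : a ∈ A := by
      by_contra hna
      apply ha
      rw [fixed_of_not_mem hc.sx hna, fixed_of_not_mem hc.sy hna]
    have h2 : y (x a) ≠ a := by
      intro h
      apply ha
      have := inv_apply_apply hc.hy (x a)
      rw [h] at this
      exact this.symm
    by_cases h4 : y (x (y (x a))) = a
    · exact step_cycle4 ih hc hne fx fy haA h2 h4
    · exact step_long ih hc fx fy haA h2 h4

end Cfsg.Agent.Helper2.InvGraph
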