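import Mathlib
import Cfsg.Agent.Helper2.PSL2InvA

/-!
Helper library (helper2) for S3266, part B: `SL(2,F)` / `PSL(2,F)` level lemmas.
-/

set_option autoImplicit false

namespace Cfsg.Agent.Helper2.PSL2Inv

open Matrix

variable {F : Type*} [Field F]

/-- The element of `SL(2,F)` with matrix `J a b c`. -/
def mkJ (a b c : F) (h : a * a + b * c = -1) : Matrix.SpecialLinearGroup (Fin 2) F :=
  ⟨J a b c, by rw [J_det, h]; simp⟩

@[simp] theorem coe_mkJ (a b c : F) (h : a * a + b * c = -1) :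
    ((mkJ a b c h : Matrix.SpecialLinearGroup (Fin 2) F) : Matrix (Fin 2) (Fin 2) F) = J a b c := rfl

theorem mem_center_of_scalar (g : Matrix.SpecialLinearGroup (Fin 2) F) (r : F)
    (h : (g : Matrix (Fin 2) (Fin 2) F) = r • (1 : Matrix (Fin 2) (Fin 2) F)) :
    g ∈ Subgroup.center (Matrix.SpecialLinearGroup (Fin 2) F) := by
  rw [Matrix.SpecialLinearGroup.mem_center_iff]
  refine ⟨r, ?_, ?_⟩
  · have hd := g.2
    rw [h] at hd
    simpa [Matrix.det_smul] using hd
  · rw [h, Matrix.scalar_apply, Matrix.smul_one_eq_diagonal]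

theorem scalar_of_mem_center (g : Matrix.SpecialLinearGroup (Fin 2) F)
    (h : g ∈ Subgroup.center (Matrix.SpecialLinearGroup (Fin 2) F)) :
    ∃ r : F, r ^ 2 = 1 ∧ (g : Matrix (Fin 2) (Fin 2) F) = r • (1 : Matrix (Fin 2) (Fin 2) F) := by
  rw [Matrix.SpecialLinearGroup.mem_center_iff] at h
  obtain ⟨r, hr, hr'⟩ := h
  refine ⟨r, by simpa using hr, ?_⟩
  rw [← hr', Matrix.scalar_apply, Matrix.smul_one_eq_diagonal]

/-- **Lemma O**: if the image of `M` in `PSL(2,F)` has even order, then there are `α β` with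
`β ≠ 0`, `2α + β tr M = 0` and `α² - β² = -1`. -/
theorem exists_of_not_odd [Finite F] (M : Matrix.SpecialLinearGroup (Fin 2) F)
    (h : ¬ Odd (orderOf (QuotientGroup.mk M : Matrix.ProjectiveSpecialLinearGroup (Fin 2) F))) :
    ∃ α β : F, β ≠ 0 ∧ 2 * α + β * (M : Matrix (Fin 2) (Fin 2) F).trace = 0 ∧
      α ^ 2 - β ^ 2 = -1 := by
  set p : Matrix.ProjectiveSpecialLinearGroup (Fin 2) F := QuotientGroup.mk M with hp
  have hpos : 0 < orderOf p := orderOf_pos p
  have hev : Even (orderOf p) := Nat.not_odd_iff_even.mp h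
  obtain ⟨m, hm⟩ := hev
  have hm0 : 0 < m := by omega
  have hmlt : m < orderOf p := by omega
  have hpm1 : p ^ m ≠ 1 := pow_ne_one_of_lt_orderOf hm0.ne' hmlt
  have hpm2 : (p ^ m) ^ 2 = 1 := by
    rw [← pow_mul, show m * 2 = orderOf p by omega, pow_orderOf_eq_one]
  set u : Matrix.SpecialLinearGroup (Fin 2) F := M ^ m with hu
  have hup : (QuotientGroup.mk u : Matrix.ProjectiveSpecialLinearGroup (Fin 2) F) = p ^ m := by
    rw [hu, hp]; rfl
  have hu_not : u ∉ Subgroup.center (Matrix.SpecialLinearGroup (Fin 2) F) := fun hc =>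
    hpm1 (by rw [← hup]; exact (QuotientGroup.eq_one_iff u).mpr hc)
  have hu2 : u * u ∈ Subgroup.center (Matrix.SpecialLinearGroup (Fin 2) F) := by
    rw [← QuotientGroup.eq_one_iff, QuotientGroup.mk_mul, hup, ← pow_two]; exact hpm2
  obtain ⟨r, hr, hr'⟩ := scalar_of_mem_center _ hu2
  rw [Matrix.SpecialLinearGroup.coe_mul] at hr'
  set U : Matrix (Fin 2) (Fin 2) F := (u : Matrix (Fin 2) (Fin 2) F) with hU
  have hdetU : U.det = 1 := u.2
  have hCH := cayley2 U
  rw [hdetU, one_smul] at hCH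
  set t := U.trace with ht
  have e1 : t • U = (r + 1) • (1 : Matrix (Fin 2) (Fin 2) F) := by
    have : t • U = U * U + 1 := by rw [hCH]; abel
    rw [this, hr', add_smul, one_smul]
  have ht0 : t = 0 := by
    by_contra htne
    apply hu_not
    apply mem_center_of_scalar u ((r + 1) / t)
    have : U = t⁻¹ • (t • U) := by rw [smul_smul, inv_mul_cancel₀ htne, one_smul]
    rw [← hU, this, e1, smul_smul]
    congr 1
    field_simp
  have hr1 : r = -1 := by
    rw [ht0, zero_smul] at e1
    have := congrFun (congrFun e1 0) 0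
    simp at this
    linear_combination -this
  obtain ⟨α, β, hαβ⟩ := pow_mem_span (M : Matrix (Fin 2) (Fin 2) F) m
  have hUM : U = α • (1 : Matrix (Fin 2) (Fin 2) F) + β • (M : Matrix (Fin 2) (Fin 2) F) := by
    rw [← hαβ, hU, hu, Matrix.SpecialLinearGroup.coe_pow]
  set Mm : Matrix (Fin 2) (Fin 2) F := (M : Matrix (Fin 2) (Fin 2) F) with hMm
  set τ := Mm.trace with hτ
  have htr : 2 * α + β * τ = 0 := by
    have : U.trace = 2 * α + β * τ := by
      rw [hUM, Matrix.trace_add, Matrix.trace_smul, Matrix.trace_smul, Matrix.trace_one]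
      simp [hτ]; ring
    rw [← this, ← ht, ht0]
  have hβ : β ≠ 0 := by
    intro hβ0
    apply hu_not
    apply mem_center_of_scalar u α
    rw [← hU, hUM, hβ0, zero_smul, add_zero]
  refine ⟨α, β, hβ, htr, ?_⟩
  have hdetM : Mm.det = 1 := M.2
  have hCHM := cayley2 Mm
  rw [hdetM, one_smul] at hCHM
  have key : U * U = (α ^ 2 - β ^ 2) • (1 : Matrix (Fin 2) (Fin 2) F) +
      (β * (2 * α + β * τ)) • Mm := by
    rw [hUM]
    simp only [add_mul, mul_add, smul_mul_assoc, mul_smul_comm, one_mul, mul_one, smul_add,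
      smul_smul, hCHM, smul_sub]
    module
  rw [htr, mul_zero, zero_smul, add_zero, hr', hr1] at key
  have := congrFun (congrFun key 0) 0
  simp at this
  linear_combination -this

end Cfsg.Agent.Helper2.PSL2Inv
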