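import Mathlib

/-!
Helper library (helper2) for S3266, part C: finite-field lemmas.
Main result `exists_efd`: for `τ` in a finite field `F` of odd characteristic with more than three
elements such that `4 - τ²` is a nonzero square, there are `e f d` with
`d² = 4 - e² - f² - τ² - τ e f`, neither `4 - e²` nor `4 - f²` a nonzero square, and side
conditions guaranteeing distinctness.
-/

set_option autoImplicit false

namespace Cfsg.Agent.Helper2.PSL2Inv

variable {F : Type*} [Field F] [Fintype F]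

theorem isSquare_mul_of_not_of_not {x y : F} (hx : ¬ IsSquare x) (hy : ¬ IsSquare y) :
    IsSquare (x * y) := by
  classical
  have hx0 : x ≠ 0 := fun h => hx (h ▸ IsSquare.zero)
  have hy0 : y ≠ 0 := fun h => hy (h ▸ IsSquare.zero)
  have h1 : quadraticChar F x = -1 := quadraticChar_neg_one_iff_not_isSquare.mpr hx
  have h2 : quadraticChar F y = -1 := quadraticChar_neg_one_iff_not_isSquare.mpr hy
  have h3 : quadraticChar F (x * y) = 1 := by rw [map_mul, h1, h2]; norm_num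
  exact (quadraticChar_one_iff_isSquare (mul_ne_zero hx0 hy0)).mp h3

theorem not_isSquare_mul {x y : F} (hx : IsSquare x) (hx0 : x ≠ 0) (hy : ¬ IsSquare y) :
    ¬ IsSquare (x * y) := by
  rintro ⟨z, hz⟩
  obtain ⟨w, hw⟩ := hx
  have hw0 : w ≠ 0 := by rintro rfl; simp at hw; exact hx0 hw
  apply hy
  refine ⟨z / w, ?_⟩
  rw [hw] at hz
  field_simp
  linear_combination hz

theorem not_isSquare_mul' {x y : F} (hx : IsSquare x) (hx0 : x ≠ 0) (hy : ¬ IsSquare y) :
    ¬ IsSquare (y * x) := by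
  rw [mul_comm]; exact not_isSquare_mul hx hx0 hy

theorem two_ne_zero_of_neg_one (hm1 : ¬ IsSquare (-1 : F)) : (2 : F) ≠ 0 := by
  intro h
  apply hm1
  refine ⟨1, ?_⟩
  linear_combination -h

/-- Case A: `-1` is a square. -/
theorem exists_efd_A {τ i : F} (hi : i ^ 2 = -1) (h2 : (2 : F) ≠ 0) (hτ : τ ≠ -2) :
    ∃ e f d : F, d ^ 2 = 4 - e ^ 2 - f ^ 2 - τ ^ 2 - τ * e * f ∧
      (∀ c : F, c ≠ 0 → c ^ 2 ≠ 4 - e ^ 2) ∧ (∀ c : F, c ≠ 0 → c ^ 2 ≠ 4 - f ^ 2) ∧
      e ≠ -2 ∧ f ≠ -2 ∧ (e = 2 → f ≠ -τ) ∧ (f = 2 → e ≠ -τ) := by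
  refine ⟨2, 2, i * (2 + τ), ?_, ?_, ?_, ?_, ?_, ?_, ?_⟩
  · linear_combination (2 + τ) ^ 2 * hi
  · intro c hc h
    have : c ^ 2 = 0 := by rw [h]; ring
    exact hc (pow_eq_zero_iff (two_ne_zero) |>.mp this)
  · intro c hc h
    have : c ^ 2 = 0 := by rw [h]; ring
    exact hc (pow_eq_zero_iff (two_ne_zero) |>.mp this)
  · intro h
    apply h2
    have : (2 : F) * 2 = 0 := by linear_combination h
    rcases mul_eq_zero.mp this with h | h <;> exact h
  · intro h
    apply h2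
    have : (2 : F) * 2 = 0 := by linear_combination h
    rcases mul_eq_zero.mp this with h | h <;> exact h
  · intro _ h
    exact hτ (by linear_combination h)
  · intro _ h
    exact hτ (by linear_combination h)

/-- If `m² - D` is a square for every `m`, then `D` is a square. -/
theorem isSquare_of_forall_sq_sub {D : F} (h : ∀ m : F, IsSquare (m ^ 2 - D)) : IsSquare D := by
  have hn : ∀ n : ℕ, IsSquare (-(n : F) * D) := by
    intro n
    induction n with
    | zero => simp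
    | succ n ih =>
      obtain ⟨m, hm⟩ := ih
      have := h m
      have e : m ^ 2 - D = -((n + 1 : ℕ) : F) * D := by
        push_cast
        linear_combination -hm
      rwa [e] at this
  have hp : ∃ p : ℕ, CharP F p := ⟨ringChar F, ringChar.charP F⟩
  obtain ⟨p, hpc⟩ := hp
  have hppos : 0 < p := by
    rcases Nat.eq_zero_or_pos p with h0 | h0
    · subst h0
      haveI : CharZero F := CharP.charP_to_charZero F
      exact (not_finite F).elim
    · exact h0
  have := hn (p - 1)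
  have e : -((p - 1 : ℕ) : F) * D = D := by
    rw [Nat.cast_sub hppos, CharP.cast_eq_zero F p]
    simp
  rwa [e] at this

/-- The key existence statement (*) of Case B. -/
theorem exists_eps_a (hm1 : ¬ IsSquare (-1 : F)) (hcard : 3 < Fintype.card F) {τ c : F}
    (hc : c ≠ 0) (hτ : c ^ 2 = 4 - τ ^ 2) :
    ∃ ε a : F, (ε = 1 ∨ ε = -1) ∧ a ≠ 0 ∧
      ¬ IsSquare ((ε ^ 2 + τ * ε + 1) * ((ε * a ^ 2) ^ 2 + τ * (ε * a ^ 2) + 1)) := by
  have h2 : (2 : F) ≠ 0 := two_ne_zero_of_neg_one hm1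
  have h4 : (4 : F) ≠ 0 := by
    have : (4 : F) = 2 * 2 := by norm_num
    rw [this]; exact mul_ne_zero h2 h2
  have hc2 : IsSquare (c ^ 2) := ⟨c, by ring⟩
  have hc20 : c ^ 2 ≠ 0 := pow_ne_zero 2 hc
  -- D = τ² - 4 is a nonsquare
  have hD : ¬ IsSquare (τ ^ 2 - 4) := by
    have : τ ^ 2 - 4 = c ^ 2 * (-1) := by rw [hτ]; ring
    rw [this]
    exact not_isSquare_mul hc2 hc20 hm1
  -- P never vanishes
  have hP0 : ∀ w : F, w ^ 2 + τ * w + 1 ≠ 0 := by
    intro w hw
    apply hD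
    refine ⟨2 * w + τ, ?_⟩
    linear_combination -4 * hw
  -- reduction: it suffices to find u ≠ 0 with P(±1) P(u) nonsquares
  have red : ∀ u : F, u ≠ 0 → ¬ IsSquare (((1 : F) ^ 2 + τ * 1 + 1) * (u ^ 2 + τ * u + 1)) →
      ¬ IsSquare (((-1 : F) ^ 2 + τ * (-1) + 1) * (u ^ 2 + τ * u + 1)) →
      ∃ ε a : F, (ε = 1 ∨ ε = -1) ∧ a ≠ 0 ∧
      ¬ IsSquare ((ε ^ 2 + τ * ε + 1) * ((ε * a ^ 2) ^ 2 + τ * (ε * a ^ 2) + 1)) := by
    intro u hu h1 h1'
    by_cases hsq : IsSquare u
    · obtain ⟨a, ha⟩ := hsq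
      have ha0 : a ≠ 0 := by rintro rfl; simp at ha; exact hu ha
      refine ⟨1, a, Or.inl rfl, ha0, ?_⟩
      have : (1 : F) * a ^ 2 = u := by rw [ha]; ring
      rw [this]; exact h1
    · have hsq' : IsSquare (-1 * u) := isSquare_mul_of_not_of_not hm1 hsq
      obtain ⟨a, ha⟩ := hsq'
      have ha0 : a ≠ 0 := by
        rintro rfl
        simp at ha
        exact hu ha
      refine ⟨-1, a, Or.inr rfl, ha0, ?_⟩
      have : (-1 : F) * a ^ 2 = u := by linear_combination ha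
      rw [this]; exact h1'
  -- P(1) P(-1) = c²
  have hprod : (τ + 2) * (2 - τ) = c ^ 2 := by rw [hτ]; ring
  have hp1 : τ + 2 ≠ 0 := fun h => hc20 (by rw [← hprod, h, zero_mul])
  have hm1' : 2 - τ ≠ 0 := fun h => hc20 (by rw [← hprod, h, mul_zero])
  have hiff : IsSquare (τ + 2) ↔ IsSquare (2 - τ) := by
    constructor
    · rintro ⟨s, hs⟩
      have hs0 : s ≠ 0 := by rintro rfl; simp at hs; exact hp1 hs
      refine ⟨c / s, ?_⟩
      field_simp
      have : (2 - τ) * (s * s) = c ^ 2 := by rw [← hs, ← hprod]; ring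
      linear_combination this
    · rintro ⟨s, hs⟩
      have hs0 : s ≠ 0 := by rintro rfl; simp at hs; exact hm1' hs
      refine ⟨c / s, ?_⟩
      field_simp
      have : (τ + 2) * (s * s) = c ^ 2 := by rw [← hs, ← hprod]
      linear_combination this
  have e1 : (1 : F) ^ 2 + τ * 1 + 1 = τ + 2 := by ring
  have e2 : (-1 : F) ^ 2 + τ * (-1) + 1 = 2 - τ := by ring
  by_cases hS : IsSquare (τ + 2)
  · -- Case 1
    have hS' : IsSquare (2 - τ) := hiff.mp hS
    have hw : ∃ w : F, ¬ IsSquare (w ^ 2 + τ * w + 1) := by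
      by_contra hcon
      push Not at hcon
      apply hD
      apply isSquare_of_forall_sq_sub
      intro m
      obtain ⟨z, hz⟩ := hcon ((m - τ) / 2)
      refine ⟨2 * z, ?_⟩
      have : m ^ 2 - (τ ^ 2 - 4) = 4 * (((m - τ) / 2) ^ 2 + τ * ((m - τ) / 2) + 1) := by
        field_simp; ring
      rw [this, hz]; ring
    obtain ⟨w, hw⟩ := hw
    have hw0 : w ≠ 0 := by
      rintro rfl
      apply hw
      exact ⟨1, by ring⟩
    apply red w hw0
    · rw [e1]; exact not_isSquare_mul hS hp1 hw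
    · rw [e2]; exact not_isSquare_mul hS' hm1' hw
  · have hS' : ¬ IsSquare (2 - τ) := fun h => hS (hiff.mpr h)
    by_cases hτ0 : τ = 0
    · -- Case 3
      subst hτ0
      have : ∃ t : F, t ≠ 0 ∧ t ≠ 1 ∧ t ≠ -1 := by
        classical
        by_contra hcon
        push Not at hcon
        have hsub : (Finset.univ : Finset F) ⊆ {0, 1, -1} := by
          intro t _
          by_cases h0 : t = 0
          · simp [h0]
          · by_cases h1 : t = 1
            · simp [h1]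
            · simp [hcon t h0 h1]
        have := Finset.card_le_card hsub
        have h3 : ({0, 1, -1} : Finset F).card ≤ 3 := Finset.card_le_three
        rw [Finset.card_univ] at this
        omega
      obtain ⟨t, ht0, ht1, htm1⟩ := this
      have ht2 : t ^ 2 - 1 ≠ 0 := by
        intro h
        have : (t - 1) * (t + 1) = 0 := by linear_combination h
        rcases mul_eq_zero.mp this with h | h
        · exact ht1 (by linear_combination h)
        · exact htm1 (by linear_combination h)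
      have h2t : 2 * t ≠ 0 := mul_ne_zero h2 ht0
      set w := (t ^ 2 - 1) / (2 * t) with hwdef
      have hw0 : w ≠ 0 := div_ne_zero ht2 h2t
      have hPw : w ^ 2 + 0 * w + 1 = ((t ^ 2 + 1) / (2 * t)) ^ 2 := by
        rw [hwdef]; field_simp; ring
      have hPsq : IsSquare (w ^ 2 + 0 * w + 1) := ⟨(t ^ 2 + 1) / (2 * t), by rw [hPw]; ring⟩
      have hPne : w ^ 2 + 0 * w + 1 ≠ 0 := hP0 w
      apply red w hw0
      · rw [e1]; exact not_isSquare_mul' hPsq hPne hS
      · rw [e2]; exact not_isSquare_mul' hPsq hPne hS'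
    · -- Case 2
      have hu0 : -τ ≠ 0 := neg_ne_zero.mpr hτ0
      have hPu : (-τ) ^ 2 + τ * (-τ) + 1 = 1 := by ring
      apply red (-τ) hu0
      · rw [e1, hPu, mul_one]; exact hS
      · rw [e2, hPu, mul_one]; exact hS'

/-- Case B: `-1` is not a square. -/
theorem exists_efd_B (hm1 : ¬ IsSquare (-1 : F)) (hcard : 3 < Fintype.card F) {τ c : F}
    (hc : c ≠ 0) (hτ : c ^ 2 = 4 - τ ^ 2) :
    ∃ e f d : F, d ^ 2 = 4 - e ^ 2 - f ^ 2 - τ ^ 2 - τ * e * f ∧
      (∀ c : F, c ≠ 0 → c ^ 2 ≠ 4 - e ^ 2) ∧ (∀ c : F, c ≠ 0 → c ^ 2 ≠ 4 - f ^ 2) ∧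
      e ≠ -2 ∧ f ≠ -2 ∧ (e = 2 → f ≠ -τ) ∧ (f = 2 → e ≠ -τ) := by
  obtain ⟨ε, a, hε, ha0, hns⟩ := exists_eps_a hm1 hcard hc hτ
  obtain ⟨z, hz⟩ := isSquare_mul_of_not_of_not hm1 hns
  have hε2 : ε ^ 2 = 1 := by rcases hε with rfl | rfl <;> ring
  -- a² ≠ 1
  have ha2 : a ^ 2 ≠ 1 := by
    intro h
    apply hns
    rw [h, mul_one]
    exact ⟨ε ^ 2 + τ * ε + 1, rfl⟩
  have ham1 : a - 1 ≠ 0 := fun h => ha2 (by
    have : a = 1 := by linear_combination h
    rw [this]; ring)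
  have hap1 : a + 1 ≠ 0 := fun h => ha2 (by
    have : a = -1 := by linear_combination h
    rw [this]; ring)
  set e := a + a⁻¹ with he
  have hea : e * a = a ^ 2 + 1 := by rw [he]; field_simp
  have he2 : e ≠ 2 := by
    intro h
    rw [h] at hea
    have : (a - 1) * (a - 1) = 0 := by linear_combination -hea
    rcases mul_eq_zero.mp this with h | h <;> exact ham1 h
  have hem2 : e ≠ -2 := by
    intro h
    rw [h] at hea
    have : (a + 1) * (a + 1) = 0 := by linear_combination -hea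
    rcases mul_eq_zero.mp this with h | h <;> exact hap1 h
  have h4e : ∀ c : F, c ≠ 0 → c ^ 2 ≠ 4 - e ^ 2 := by
    intro c' hc' h
    have e' : (4 - e ^ 2) * a ^ 2 = -((a ^ 2 - 1) ^ 2) := by
      have : (e * a) ^ 2 = (a ^ 2 + 1) ^ 2 := by rw [hea]
      linear_combination -this
    have hne : a ^ 2 - 1 ≠ 0 := fun h => ha2 (by linear_combination h)
    apply hm1
    refine ⟨c' * a / (a ^ 2 - 1), ?_⟩
    field_simp
    rw [← h] at e'
    linear_combination -e'
  have hf2 : (ε * e) ^ 2 = e ^ 2 := by rw [mul_pow, hε2, one_mul]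
  refine ⟨e, ε * e, z * a⁻¹, ?_, h4e, ?_, hem2, ?_, ?_, ?_⟩
  · have hz' : z ^ 2 = -1 * ((ε ^ 2 + τ * ε + 1) * ((ε * a ^ 2) ^ 2 + τ * (ε * a ^ 2) + 1)) := by
      rw [hz]; ring
    have hgoal : (z * a⁻¹) ^ 2 * a ^ 2 = (4 - e ^ 2 - (ε * e) ^ 2 - τ ^ 2 - τ * e * (ε * e)) * a ^ 2 := by
      have h1 : (z * a⁻¹) ^ 2 * a ^ 2 = z ^ 2 := by field_simp
      rw [h1, hz', hf2]
      have h2 : e ^ 2 * a ^ 2 = (a ^ 2 + 1) ^ 2 := by rw [← hea]; ring
      rcases hε with rfl | rfl
      · linear_combination (2 + τ) * h2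
      · linear_combination (2 - τ) * h2
    exact mul_right_cancel₀ (pow_ne_zero 2 ha0) hgoal
  · intro c' hc'
    rw [hf2]
    exact h4e c' hc'
  · rcases hε with rfl | rfl
    · simpa using hem2
    · intro h
      exact he2 (by linear_combination -h)
  · intro h; exact absurd h he2
  · intro h
    rcases hε with rfl | rfl
    · exact absurd (by simpa using h) he2
    · exact absurd (by linear_combination -h) hem2

/-- Combined statement for odd characteristic. -/
theorem exists_efd (h2 : (2 : F) ≠ 0) (hcard : 3 < Fintype.card F) {τ c : F}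
    (hc : c ≠ 0) (hτ : c ^ 2 = 4 - τ ^ 2) :
    ∃ e f d : F, d ^ 2 = 4 - e ^ 2 - f ^ 2 - τ ^ 2 - τ * e * f ∧
      (∀ c : F, c ≠ 0 → c ^ 2 ≠ 4 - e ^ 2) ∧ (∀ c : F, c ≠ 0 → c ^ 2 ≠ 4 - f ^ 2) ∧
      e ≠ -2 ∧ f ≠ -2 ∧ (e = 2 → f ≠ -τ) ∧ (f = 2 → e ≠ -τ) := by
  by_cases hm1 : IsSquare (-1 : F)
  · obtain ⟨i, hi⟩ := hm1
    have hτ2 : τ ≠ -2 := by
      rintro rfl
      apply hc
      have : c ^ 2 = 0 := by rw [hτ]; ring
      exact pow_eq_zero_iff (two_ne_zero) |>.mp this
    exact exists_efd_A (i := i) (by rw [hi]; ring) h2 hτ2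
  · exact exists_efd_B hm1 hcard hc hτ

end Cfsg.Agent.Helper2.PSL2Inv
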