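import Mathlib
import Cfsg.Agent.Helper2.PSL2InvB
import Cfsg.Agent.Helper2.PSL2InvC

/-!
Helper library (helper2) for S3266, part D: involutions of `PSL(2,F)` and their products.
-/

set_option autoImplicit false

namespace Cfsg.Agent.Helper2.PSL2Inv

open Matrix

variable {F : Type*} [Field F] [Fintype F]

/-- Odd characteristic: if `4 - (tr M)²` is not a nonzero square then the image of `M` in
`PSL(2,F)` has odd order. -/
theorem odd_orderOf_of_not_sq (h2 : (2 : F) ≠ 0) (M : Matrix.SpecialLinearGroup (Fin 2) F)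
    (h : ∀ c : F, c ≠ 0 → c ^ 2 ≠ 4 - (M : Matrix (Fin 2) (Fin 2) F).trace ^ 2) :
    Odd (orderOf (QuotientGroup.mk M : Matrix.ProjectiveSpecialLinearGroup (Fin 2) F)) := by
  by_contra hodd
  obtain ⟨α, β, hβ, h1, h3⟩ := exists_of_not_odd M hodd
  set τ := (M : Matrix (Fin 2) (Fin 2) F).trace
  apply h (2 / β) (div_ne_zero h2 hβ)
  field_simp
  have hα : 2 * α = -(β * τ) := by linear_combination h1
  have : (2 * α) ^ 2 - 4 * β ^ 2 = -4 := by linear_combination 4 * h3
  rw [hα] at this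
  linear_combination this

/-- Characteristic two: if `tr M ≠ 0` then the image of `M` in `PSL(2,F)` has odd order. -/
theorem odd_orderOf_of_trace_ne_zero (h2 : (2 : F) = 0) (M : Matrix.SpecialLinearGroup (Fin 2) F)
    (h : (M : Matrix (Fin 2) (Fin 2) F).trace ≠ 0) :
    Odd (orderOf (QuotientGroup.mk M : Matrix.ProjectiveSpecialLinearGroup (Fin 2) F)) := by
  by_contra hodd
  obtain ⟨α, β, hβ, h1, -⟩ := exists_of_not_odd M hodd
  rw [h2, zero_mul, zero_add] at h1
  rcases mul_eq_zero.mp h1 with h' | h'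
  · exact hβ h'
  · exact h h'

/-- An element `u ∉ Z` of `SL(2,F)` with `u² ∈ Z` has trace zero. -/
theorem trace_eq_zero_of_sq_mem_center (u : Matrix.SpecialLinearGroup (Fin 2) F)
    (hu_not : u ∉ Subgroup.center (Matrix.SpecialLinearGroup (Fin 2) F))
    (hu2 : u * u ∈ Subgroup.center (Matrix.SpecialLinearGroup (Fin 2) F)) :
    (u : Matrix (Fin 2) (Fin 2) F).trace = 0 := by
  obtain ⟨r, hr, hr'⟩ := scalar_of_mem_center _ hu2
  rw [Matrix.SpecialLinearGroup.coe_mul] at hr'
  set U : Matrix (Fin 2) (Fin 2) F := (u : Matrix (Fin 2) (Fin 2) F) with hU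
  have hdetU : U.det = 1 := u.2
  have hCH := cayley2 U
  rw [hdetU, one_smul] at hCH
  set t := U.trace with ht
  have e1 : t • U = (r + 1) • (1 : Matrix (Fin 2) (Fin 2) F) := by
    have : t • U = U * U + 1 := by rw [hCH]; abel
    rw [this, hr', add_smul, one_smul]
  by_contra htne
  apply hu_not
  apply mem_center_of_scalar u ((r + 1) / t)
  have : U = t⁻¹ • (t • U) := by rw [smul_smul, inv_mul_cancel₀ htne, one_smul]
  rw [← hU, this, e1, smul_smul]
  congr 1
  field_simp

/-- Every involution of `PSL(2,F)` is the image of some `mkJ a b c`. -/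
theorem exists_mkJ_of_orderOf_two (x : Matrix.ProjectiveSpecialLinearGroup (Fin 2) F)
    (hx : orderOf x = 2) :
    ∃ (a b c : F) (h : a * a + b * c = -1), x = QuotientGroup.mk (mkJ a b c h) ∧
      (b ≠ 0 ∨ c ≠ 0 ∨ (2 : F) ≠ 0) := by
  obtain ⟨g, rfl⟩ := QuotientGroup.mk_surjective x
  have hx2 : (QuotientGroup.mk g : Matrix.ProjectiveSpecialLinearGroup (Fin 2) F) ^ 2 = 1 := by
    have := pow_orderOf_eq_one (QuotientGroup.mk g : Matrix.ProjectiveSpecialLinearGroup (Fin 2) F)
    rwa [hx] at this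
  have hx1 : (QuotientGroup.mk g : Matrix.ProjectiveSpecialLinearGroup (Fin 2) F) ≠ 1 := by
    intro h
    rw [h, orderOf_one] at hx
    omega
  have hg_not : g ∉ Subgroup.center (Matrix.SpecialLinearGroup (Fin 2) F) := fun hc =>
    hx1 ((QuotientGroup.eq_one_iff g).mpr hc)
  have hg2 : g * g ∈ Subgroup.center (Matrix.SpecialLinearGroup (Fin 2) F) := by
    rw [← QuotientGroup.eq_one_iff, QuotientGroup.mk_mul, ← pow_two]; exact hx2
  have htr := trace_eq_zero_of_sq_mem_center g hg_not hg2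
  set G : Matrix (Fin 2) (Fin 2) F := (g : Matrix (Fin 2) (Fin 2) F) with hG
  have hGJ := eq_J_of_trace_zero G htr
  have hdet : G.det = 1 := g.2
  have hrel : G 0 0 * G 0 0 + G 0 1 * G 1 0 = -1 := by
    rw [hGJ, J_det] at hdet
    linear_combination -hdet
  have hgeq : g = mkJ (G 0 0) (G 0 1) (G 1 0) hrel := by
    apply Subtype.ext
    rw [coe_mkJ]
    exact hGJ
  refine ⟨G 0 0, G 0 1, G 1 0, hrel, by rw [← hgeq], ?_⟩
  by_contra hcon
  push Not at hcon
  obtain ⟨hb, hc, h2⟩ := hcon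
  apply hg_not
  apply mem_center_of_scalar g (G 0 0)
  rw [← hG, hGJ]
  simp only [J_apply00, J_apply01, J_apply10]
  rw [hb, hc]
  ext i j
  fin_cases i <;> fin_cases j <;> simp
  linear_combination -(G 0 0) * h2

theorem orderOf_mk_mkJ (a b c : F) (h : a * a + b * c = -1) (hne : b ≠ 0 ∨ c ≠ 0 ∨ (2 : F) ≠ 0) :
    orderOf (QuotientGroup.mk (mkJ a b c h) : Matrix.ProjectiveSpecialLinearGroup (Fin 2) F) = 2 := by
  have hsq : mkJ a b c h * mkJ a b c h ∈ Subgroup.center (Matrix.SpecialLinearGroup (Fin 2) F) := by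
    apply mem_center_of_scalar _ (-1)
    rw [Matrix.SpecialLinearGroup.coe_mul, coe_mkJ, J_mul_self a b c h]
    simp
  have hnot : mkJ a b c h ∉ Subgroup.center (Matrix.SpecialLinearGroup (Fin 2) F) := by
    intro hc
    obtain ⟨r, hr, hr'⟩ := scalar_of_mem_center _ hc
    rw [coe_mkJ] at hr'
    have h00 := congrFun (congrFun hr' 0) 0
    have h01 := congrFun (congrFun hr' 0) 1
    have h10 := congrFun (congrFun hr' 1) 0
    have h11 := congrFun (congrFun hr' 1) 1
    simp at h00 h01 h10 h11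
    rcases hne with hb | hc' | h2
    · exact hb h01
    · exact hc' h10
    · have : 2 * a = 0 := by linear_combination h00 - h11 - 2 * h00 + 2 * h00
      have ha : a = 0 := by
        rcases mul_eq_zero.mp this with h' | h'
        · exact absurd h' h2
        · exact h'
      rw [ha, h01, h10] at h
      norm_num at h
  refine orderOf_eq_prime ?_ ?_
  · rw [pow_two, ← QuotientGroup.mk_mul]
    exact (QuotientGroup.eq_one_iff _).mpr hsq
  · intro h1
    exact hnot ((QuotientGroup.eq_one_iff _).mp h1)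

theorem mk_mkJ_eq {a b c a' b' c' : F} {h : a * a + b * c = -1} {h' : a' * a' + b' * c' = -1}
    (heq : (QuotientGroup.mk (mkJ a b c h) : Matrix.ProjectiveSpecialLinearGroup (Fin 2) F) =
      QuotientGroup.mk (mkJ a' b' c' h')) :
    ∃ r : F, r ^ 2 = 1 ∧ a' = r * a ∧ b' = r * b ∧ c' = r * c := by
  rw [QuotientGroup.eq] at heq
  obtain ⟨r, hr, hr'⟩ := scalar_of_mem_center _ heq
  refine ⟨r, hr, ?_⟩
  have hmul : (mkJ a' b' c' h' : Matrix (Fin 2) (Fin 2) F) =
      (mkJ a b c h : Matrix (Fin 2) (Fin 2) F) * r • (1 : Matrix (Fin 2) (Fin 2) F) := by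
    rw [← hr', ← Matrix.SpecialLinearGroup.coe_mul, mul_inv_cancel_left]
  rw [coe_mkJ, coe_mkJ, Matrix.mul_smul, Matrix.mul_one] at hmul
  have h00 := congrFun (congrFun hmul 0) 0
  have h01 := congrFun (congrFun hmul 0) 1
  have h10 := congrFun (congrFun hmul 1) 0
  simp at h00 h01 h10
  exact ⟨h00, h01, h10⟩

/-- Two involutions with odd-order product are conjugate. -/
theorem isConj_of_odd_orderOf_mul {G : Type*} [Group G] (x z : G) (hx : x * x = 1) (hz : z * z = 1)
    (h : Odd (orderOf (x * z))) : IsConj x z := by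
  obtain ⟨m, hm⟩ := h
  set r := x * z with hr
  have hrinv : r⁻¹ = z * x := by
    rw [hr, _root_.mul_inv_rev]
    have hx' : x⁻¹ = x := by rw [inv_eq_iff_mul_eq_one]; exact hx
    have hz' : z⁻¹ = z := by rw [inv_eq_iff_mul_eq_one]; exact hz
    rw [hx', hz']
  have hxr : ∀ j : ℕ, r ^ j * x = x * (r⁻¹) ^ j := by
    intro j
    induction j with
    | zero => simp
    | succ j ih =>
      have hrx : r * x = x * r⁻¹ := by rw [hrinv, hr, mul_assoc]
      rw [pow_succ, mul_assoc, hrx, ← mul_assoc, ih, mul_assoc, ← pow_succ]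
  have hpow : r ^ (2 * m + 1) = 1 := by rw [← hm]; exact pow_orderOf_eq_one r
  rw [isConj_iff]
  refine ⟨r ^ m, ?_⟩
  rw [hxr m, mul_assoc, ← inv_pow, ← pow_add]
  have : (r⁻¹) ^ (m + m) = r := by
    rw [inv_pow, inv_eq_iff_mul_eq_one, ← pow_succ]
    rw [show m + m + 1 = 2 * m + 1 by ring]; exact hpow
  rw [this, hr, ← mul_assoc, hx, one_mul]

end Cfsg.Agent.Helper2.PSL2Inv
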