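import Mathlib
import Cfsg.Agent.Helper2.InvGraphK
import Cfsg.Agent.Helper2.GraphDiam2
import Cfsg.Agent.Helper2.PSL2InvD

/-!
Helper library (helper2) for S3265: the odd-product graph on a conjugacy class of involutions of a
symmetric group of degree at least 5 is connected of diameter 2.
-/

set_option autoImplicit false

namespace Cfsg.Agent.Helper2.InvGraph

open Equiv Function

variable {α : Type*} [DecidableEq α] [Fintype α]

theorem orderOf_two_swaps {p q r s : α} (hnd : [p,q,r,s].Nodup) :
    orderOf (swap p q * swap r s) = 2 := by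
  obtain ⟨⟨hpq, hpr, hps⟩, ⟨hqr, hqs⟩, hrs⟩ := nodup4 hnd
  have hc : swap p q * swap r s = swap r s * swap p q :=
    comm_swap_of_fixed (swap p q) (swap_apply_of_ne_of_ne hpr.symm hqr.symm)
      (swap_apply_of_ne_of_ne hps.symm hqs.symm)
  apply orderOf_eq_prime
  · rw [pow_two]
    calc swap p q * swap r s * (swap p q * swap r s)
        = swap p q * (swap r s * swap p q) * swap r s := by group
      _ = swap p q * (swap p q * swap r s) * swap r s := by rw [hc]
      _ = (swap p q * swap p q) * (swap r s * swap r s) := by group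
      _ = 1 := by rw [swap_mul_self, swap_mul_self, one_mul]
  · intro h
    have := congrArg (fun f : Perm α => f r) h
    simp only [Perm.mul_apply, swap_apply_left, Perm.one_apply] at this
    rw [swap_apply_of_ne_of_ne hps.symm hqs.symm] at this
    exact hrs this.symm

theorem sq_eq_one_of_orderOf_two {G : Type*} [Group G] {t : G} (ht : orderOf t = 2) : t * t = 1 := by
  have := pow_orderOf_eq_one t
  rw [ht, pow_two] at this
  exact this

theorem sq_eq_one_of_isConj {G : Type*} [Group G] {t x : G} (ht : t * t = 1) (h : IsConj t x) :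
    x * x = 1 := by
  rw [isConj_iff] at h
  obtain ⟨g, rfl⟩ := h
  calc g * t * g⁻¹ * (g * t * g⁻¹) = g * (t * t) * g⁻¹ := by group
    _ = 1 := by rw [ht]; group

theorem support_card_eq_of_isConj {x y : Perm α} (h : IsConj x y) :
    x.support.card = y.support.card := by
  rw [← Perm.sum_cycleType, ← Perm.sum_cycleType, Perm.isConj_iff_cycleType_eq.mp h]

/-- Any two conjugate involutions on at least `5` points have a common odd-product neighbour. -/
theorem exists_common (h5 : 5 ≤ Fintype.card α) {x y : Perm α} (hx : x * x = 1)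
    (hxy : IsConj x y) :
    ∃ z : Perm α, IsConj x z ∧ Odd (orderOf (x * z)) ∧ Odd (orderOf (z * y)) := by
  have hy : y * y = 1 := sq_eq_one_of_isConj hx hxy
  have hc : Cfg (Finset.univ : Finset α) x y :=
    ⟨hx, hy, fun v _ => Finset.mem_univ v, fun v _ => Finset.mem_univ v,
      support_card_eq_of_isConj hxy⟩
  have hne : ¬ Exc (Finset.univ : Finset α) x y := by
    intro he
    have := he.1
    rw [Finset.card_univ] at this
    omega
  obtain ⟨z, hz, -, h1, h2⟩ := sol_of_cfg _ _ x y rfl hc hne
  exact ⟨z, PSL2Inv.isConj_of_odd_orderOf_mul x z hx hz h1, h1, h2⟩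

/-- A conjugate of the involution `t` which is not joined to `t`. -/
theorem exists_nonadjacent (h5 : 5 ≤ Fintype.card α) {t : Perm α} (ht : orderOf t = 2) :
    ∃ y : Perm α, IsConj t y ∧ orderOf (t * y) = 2 := by
  have htt : t * t = 1 := sq_eq_one_of_orderOf_two ht
  have ht1 : t ≠ 1 := by
    rintro rfl
    rw [orderOf_one] at ht
    omega
  obtain ⟨a, ha⟩ : ∃ a, t a ≠ a := by
    by_contra hcon
    apply ht1
    ext v
    by_contra h
    exact hcon ⟨v, h⟩
  obtain ⟨b, hb⟩ : ∃ b, b = t a := ⟨_, rfl⟩
  have hab : t a = b := hb.symm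
  have hba : t b = a := by rw [hb, inv_apply_apply htt]
  have nab : a ≠ b := by rw [hb]; exact ha.symm
  by_cases hex : ∃ c, c ≠ a ∧ c ≠ b ∧ t c ≠ c
  · obtain ⟨c, hca, hcb, hc⟩ := hex
    obtain ⟨d, hd⟩ : ∃ d, d = t c := ⟨_, rfl⟩
    have hcd : t c = d := hd.symm
    have hdc : t d = c := by rw [hd, inv_apply_apply htt]
    have ncd : c ≠ d := by rw [hd]; exact hc.symm
    have nda : d ≠ a := by
      intro h; apply hcb; rw [← hdc, h, hab]
    have ndb : d ≠ b := by
      intro h; apply hca; rw [← hdc, h, hba]
    refine ⟨swap a c * t * swap a c, ?_, ?_⟩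
    · rw [isConj_iff]
      exact ⟨swap a c, by rw [swap_inv]⟩
    · have h1 : t * swap a c = swap b d * t := by
        rw [mul_swap_eq_swap_mul, hab, hcd]
      have h2 : t * (swap a c * t * swap a c) = swap b d * swap a c := by
        calc t * (swap a c * t * swap a c) = (t * swap a c) * t * swap a c := by group
          _ = swap b d * t * t * swap a c := by rw [h1]
          _ = swap b d * (t * t) * swap a c := by group
          _ = swap b d * swap a c := by rw [htt, mul_one]
      rw [h2]
      exact orderOf_two_swaps (nodup4_mk ndb.symm nab.symm hcb.symm nda ncd.symm hca.symm)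
  · have hts : t = swap a b := by
      ext v
      by_cases h1 : v = a
      · rw [h1, hab, swap_apply_left]
      by_cases h2 : v = b
      · rw [h2, hba, swap_apply_right]
      rw [swap_apply_of_ne_of_ne h1 h2]
      by_contra h3
      exact hex ⟨v, h1, h2, h3⟩
    have hcard : 1 < ((Finset.univ.erase a).erase b).card := by
      rw [Finset.card_erase_of_mem (Finset.mem_erase.mpr ⟨nab.symm, Finset.mem_univ b⟩),
        Finset.card_erase_of_mem (Finset.mem_univ a), Finset.card_univ]
      omega
    obtain ⟨p, hp, q, hq, npq⟩ := Finset.one_lt_card.mp hcard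
    rw [Finset.mem_erase, Finset.mem_erase] at hp hq
    refine ⟨swap p q, ?_, ?_⟩
    · rw [hts]; exact Perm.isConj_swap nab npq
    · rw [hts]
      exact orderOf_two_swaps (nodup4_mk nab hp.2.1.symm hq.2.1.symm hp.1.symm hq.1.symm npq)

end Cfsg.Agent.Helper2.InvGraph
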