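import Mathlib
import Cfsg.Prelude.Def_Characters
import Cfsg.Agent.Helper6.Involutions
import Cfsg.Agent.Helper6.IrrCount
import Cfsg.Agent.Helper6.IrrDegree
import Cfsg.Agent.Helper6.IrrBasis
import Cfsg.Agent.Helper6.SmallDegree
import Cfsg.Agent.Helper6.CharBasic
import Cfsg.Agent.Helper6.FrobSchur
import Cfsg.Agent.Helper6.OddReal

/-!
# Involutions in a simple group: fewer than a third of the elements
-/

set_option autoImplicit false
set_option linter.style.haveILetI false

namespace Cfsg.Agent.Helper2.InvolThird

open Module Representation Cfsg.Agent.Helper6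
open scoped ComplexConjugate

universe u

/-- a homomorphism from a nonabelian simple group to a commutative monoid is trivial -/
theorem hom_trivial {G M : Type*} [Group G] [IsSimpleGroup G] [CommMonoid M]
    (hna : ¬ ∀ a b : G, a * b = b * a) (f : G →* M) (g : G) : f g = 1 := by
  rcases IsSimpleGroup.eq_bot_or_eq_top_of_normal f.ker (MonoidHom.normal_ker f) with h | h
  · exfalso
    apply hna
    intro a b
    have h1 : f ((a * b) * (b * a)⁻¹) = 1 := by
      have e1 : (a * b) * (b * a)⁻¹ = a * b * a⁻¹ * b⁻¹ := by group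
      rw [e1, map_mul, map_mul, map_mul]
      calc f a * f b * f a⁻¹ * f b⁻¹ = (f a * f a⁻¹) * (f b * f b⁻¹) := by
            simp only [mul_assoc, mul_left_comm, mul_comm]
        _ = 1 := by rw [← map_mul, ← map_mul, mul_inv_cancel, mul_inv_cancel, map_one, one_mul]
    have h2 : (a * b) * (b * a)⁻¹ ∈ f.ker := MonoidHom.mem_ker.2 h1
    rw [h, Subgroup.mem_bot] at h2
    exact mul_inv_eq_one.1 h2
  · have : g ∈ f.ker := by rw [h]; exact Subgroup.mem_top g
    exact MonoidHom.mem_ker.1 this

/-- a `2 × 2` involutory matrix of determinant one is `±1` -/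
theorem mat2_eq (M : Matrix (Fin 2) (Fin 2) ℂ) (h2 : M * M = 1) (hd : M.det = 1) :
    M = 1 ∨ M = -1 := by
  have h00 := congrFun (congrFun h2 0) 0
  have h01 := congrFun (congrFun h2 0) 1
  have h10 := congrFun (congrFun h2 1) 0
  rw [Matrix.det_fin_two] at hd
  simp only [Matrix.mul_apply, Fin.sum_univ_two, Matrix.one_apply_eq] at h00
  simp only [Matrix.mul_apply, Fin.sum_univ_two] at h01 h10
  rw [Matrix.one_apply_ne (by decide)] at h01 h10
  have hs : M 0 0 * (M 0 0 + M 1 1) = 2 := by linear_combination h00 + hd
  have hs0 : M 0 0 + M 1 1 ≠ 0 := by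
    intro h
    rw [h, mul_zero] at hs
    norm_num at hs
  have hb : M 0 1 = 0 := by
    have : M 0 1 * (M 0 0 + M 1 1) = 0 := by linear_combination h01
    rcases mul_eq_zero.1 this with h | h
    · exact h
    · exact absurd h hs0
  have hc : M 1 0 = 0 := by
    have : M 1 0 * (M 0 0 + M 1 1) = 0 := by linear_combination h10
    rcases mul_eq_zero.1 this with h | h
    · exact h
    · exact absurd h hs0
  have ha : M 0 0 * M 0 0 = 1 := by
    rw [hb, zero_mul, add_zero] at h00
    exact h00
  have had : M 0 0 * M 1 1 = 1 := by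
    rw [hb, zero_mul, sub_zero] at hd
    exact hd
  have ha0 : M 0 0 ≠ 0 := by
    intro h
    rw [h, zero_mul] at ha
    exact zero_ne_one ha
  have hdd : M 1 1 = M 0 0 := by
    apply mul_left_cancel₀ ha0
    rw [had, ha]
  rcases mul_self_eq_one_iff.1 ha with h | h
  · left
    ext i j
    fin_cases i <;> fin_cases j
    · simpa using h
    · simpa using hb
    · simpa using hc
    · simpa [h] using hdd
  · right
    ext i j
    fin_cases i <;> fin_cases j
    · simpa using h
    · simpa using hb
    · simpa using hc
    · simpa [h] using hdd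

end Cfsg.Agent.Helper2.InvolThird
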