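import Mathlib
import Cfsg.Agent.Helper2.InvolThird

/-!
# Irreducible characters of a nonabelian simple group of even order have degree `≥ 3`
-/

set_option autoImplicit false
set_option linter.style.haveILetI false

namespace Cfsg.Agent.Helper2.InvolThird

open Module Representation Cfsg.Agent.Helper6
open scoped ComplexConjugate

universe u

theorem rep_injective_of_ker_eq_bot {G : Type u} [Group G] {n : ℕ}
    (ρ : Representation ℂ G (Fin n → ℂ)) (h : MonoidHom.ker ρ = ⊥) : Function.Injective ρ := by
  intro a b hab
  have h1 : ρ (a * b⁻¹) = 1 := by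
    rw [map_mul, hab, ← map_mul, mul_inv_cancel, map_one]
  have h2 : a * b⁻¹ ∈ MonoidHom.ker ρ := MonoidHom.mem_ker.2 h1
  rw [h, Subgroup.mem_bot] at h2
  exact mul_inv_eq_one.1 h2

theorem irr_trivial_or_degree_ge_three {G : Type u} [Group G] [Finite G] [IsSimpleGroup G]
    (heven : Even (Nat.card G)) (hna : ¬ ∀ a b : G, a * b = b * a)
    (χ : Cfsg.IrrCharacter G) :
    ((χ : G → ℂ) = fun _ => 1) ∨ ∃ d : ℕ, 3 ≤ d ∧ (χ : G → ℂ) 1 = d := by
  classical
  haveI := Fintype.ofFinite G
  obtain ⟨m, hmpos, hm⟩ := IsIrrCharacter.apply_one_pos χ.2
  have hself := classInner_irr_self χ.2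
  obtain ⟨n, ρ, hirr, hρ⟩ := χ.2
  have h1 : ρ.character 1 = n := by
    rw [char_one]
    simp
  have hnm : n = m := by
    have : (n : ℂ) = m := by rw [← h1, hρ, hm]
    exact_mod_cast this
  by_cases hn : 3 ≤ n
  · right
    exact ⟨n, hn, by rw [← hρ, h1]⟩
  rcases IsSimpleGroup.eq_bot_or_eq_top_of_normal (MonoidHom.ker ρ) (MonoidHom.normal_ker ρ)
    with hk | hk
  · -- faithful
    exfalso
    have hinj := rep_injective_of_ker_eq_bot ρ hk
    have hn3 : n = 1 ∨ n = 2 := by omega
    rcases hn3 with rfl | rfl
    · apply hna
      intro a b
      apply comm_of_faithful_small_degree ρ hinj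
      intro p hp _
      simp only [Module.finrank_fintype_fun_eq_card, Fintype.card_fin]
      exact hp.one_lt
    · haveI : Fact (Nat.Prime 2) := ⟨Nat.prime_two⟩
      obtain ⟨t, ht⟩ := exists_prime_orderOf_dvd_card' (G := G) 2 (even_iff_two_dvd.1 heven)
      have htt : t * t = 1 := by
        rw [← sq, ← ht]
        exact pow_orderOf_eq_one t
      have ht1 : t ≠ 1 := by
        intro h
        rw [h, orderOf_one] at ht
        omega
      have hMM : repMat ρ t * repMat ρ t = 1 := by
        rw [← repMat_mul, htt, repMat_one]
      have hdet : (repMat ρ t).det = 1 := by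
        unfold repMat
        rw [LinearMap.det_toMatrix']
        exact hom_trivial hna (LinearMap.det.comp (ρ : G →* _)) t
      rcases mat2_eq _ hMM hdet with h | h
      · apply ht1
        apply hinj
        have h3 : ρ t = 1 := by
          rw [← toLin'_repMat ρ t, h, Matrix.toLin'_one]
          rfl
        rw [h3, map_one]
      · have hρt : ρ t = -1 := by
          rw [← toLin'_repMat ρ t, h, map_neg, Matrix.toLin'_one]
          rfl
        have hcen : t ∈ Subgroup.center G := by
          rw [Subgroup.mem_center_iff]
          intro g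
          apply hinj
          rw [map_mul, map_mul, hρt]
          apply LinearMap.ext
          intro v
          simp only [Module.End.mul_apply, LinearMap.neg_apply, Module.End.one_apply, map_neg]
        rcases IsSimpleGroup.eq_bot_or_eq_top_of_normal (Subgroup.center G) inferInstance
          with hc | hc
        · rw [hc, Subgroup.mem_bot] at hcen
          exact ht1 hcen
        · apply hna
          intro a b
          have : b ∈ Subgroup.center G := by rw [hc]; exact Subgroup.mem_top b
          exact Subgroup.mem_center_iff.1 this a
  · -- trivial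
    left
    have hall : ∀ g : G, ρ g = 1 := by
      intro g
      have : g ∈ MonoidHom.ker ρ := by rw [hk]; exact Subgroup.mem_top g
      exact MonoidHom.mem_ker.1 this
    have hchar : ∀ g : G, ρ.character g = n := by
      intro g
      unfold Representation.character
      rw [hall g]
      simp
    have hχ : (χ : G → ℂ) = fun _ => (n : ℂ) := by
      rw [← hρ]
      funext g
      exact hchar g
    have hG0 : (Nat.card G : ℂ) ≠ 0 := by
      have : 0 < Nat.card G := Nat.card_pos
      exact_mod_cast this.ne'
    rw [hχ] at hself
    unfold Cfsg.classInner at hself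
    simp only [Complex.conj_natCast, Finset.sum_const, Finset.card_univ, nsmul_eq_mul] at hself
    rw [← Nat.card_eq_fintype_card, ← mul_assoc, inv_mul_cancel₀ hG0, one_mul] at hself
    have : n * n = 1 := by exact_mod_cast hself
    have hn1 : n = 1 := by nlinarith
    rw [hχ, hn1]
    simp

end Cfsg.Agent.Helper2.InvolThird
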