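import Mathlib
import Cfsg.Agent.Helper2.InvolThird2

/-!
# Involutions in a simple group: fewer than a third of the elements (counting)
-/

set_option autoImplicit false
set_option linter.style.haveILetI false

namespace Cfsg.Agent.Helper2.InvolThird

open Module Representation Cfsg.Agent.Helper6
open scoped ComplexConjugate

universe u

theorem not_comm_of_simple {G : Type u} [Group G] [Finite G] [IsSimpleGroup G]
    (heven : Even (Nat.card G)) (hgt : 2 < Nat.card G) : ¬ ∀ a b : G, a * b = b * a := by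
  intro h
  letI : CommGroup G := { ‹Group G› with mul_comm := h }
  have hp : (Nat.card G).Prime := IsSimpleGroup.prime_card (α := G)
  have h2 : 2 ∣ Nat.card G := even_iff_two_dvd.1 heven
  have := (Nat.prime_dvd_prime_iff_eq Nat.prime_two hp).1 h2
  omega

theorem card_sq_eq_one {G : Type u} [Group G] [Fintype G]
    [DecidablePred (fun s : G => s * s = 1)] :
    (Finset.univ.filter (fun s : G => s * s = 1)).card =
      1 + Nat.card {t : G // orderOf t = 2} := by
  classical
  haveI : Fact (Nat.Prime 2) := ⟨Nat.prime_two⟩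
  rw [Nat.card_eq_fintype_card, Fintype.card_subtype]
  have : Finset.univ.filter (fun s : G => s * s = 1) =
      insert 1 (Finset.univ.filter (fun t : G => orderOf t = 2)) := by
    ext s
    simp only [Finset.mem_filter, Finset.mem_univ, true_and, Finset.mem_insert]
    rw [orderOf_eq_prime_iff, sq]
    by_cases hs : s = 1
    · simp [hs]
    · simp [hs]
  rw [this, Finset.card_insert_of_notMem, add_comm]
  simp

theorem three_mul_card_involutions_lt {G : Type u} [Group G] [Finite G] [IsSimpleGroup G]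
    (heven : Even (Nat.card G)) (hgt : 2 < Nat.card G) :
    3 * Nat.card {t : G // orderOf t = 2} < Nat.card G := by
  classical
  haveI := Fintype.ofFinite G
  haveI : Finite (Cfsg.IrrCharacter G) := irr_finite
  haveI := Fintype.ofFinite (Cfsg.IrrCharacter G)
  have hna := not_comm_of_simple heven hgt
  -- degrees
  have hdeg : ∀ χ : Cfsg.IrrCharacter G, ∃ d : ℕ, 0 < d ∧ (χ : G → ℂ) 1 = d :=
    fun χ => IsIrrCharacter.apply_one_pos χ.2
  choose d hdpos hd using hdeg
  -- indicators
  have hind : ∀ χ : Cfsg.IrrCharacter G, ∃ ν : ℤ, (ν = 1 ∨ ν = -1 ∨ ν = 0) ∧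
      fsIndFun (χ : G → ℂ) = ν := by
    intro χ
    rcases irr_fs_cases χ with ⟨-, h | h⟩ | ⟨-, h⟩
    · exact ⟨1, Or.inl rfl, by rw [h]; simp⟩
    · exact ⟨-1, Or.inr (Or.inl rfl), by rw [h]; simp⟩
    · exact ⟨0, Or.inr (Or.inr rfl), by rw [h]; simp⟩
  choose ν hν hνeq using hind
  have hsum1 : ((Finset.univ.filter (fun s : G => s * s = 1)).card : ℤ) =
      ∑ χ : Cfsg.IrrCharacter G, ν χ * (d χ : ℤ) := by
    have h := card_sq_eq_one_eq_sum (G := G)
    have h2 : ∑ χ : Cfsg.IrrCharacter G, fsIndFun (χ : G → ℂ) * (χ : G → ℂ) 1 =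
        ((∑ χ : Cfsg.IrrCharacter G, ν χ * (d χ : ℤ) : ℤ) : ℂ) := by
      push_cast
      apply Finset.sum_congr rfl
      intro χ _
      rw [hνeq χ, hd χ]
    rw [h2] at h
    exact_mod_cast h
  have hsum2 : ∑ χ : Cfsg.IrrCharacter G, ((d χ : ℤ)) ^ 2 = (Nat.card G : ℤ) := by
    have h := sum_sq_degrees (G := G)
    have h2 : ∑ χ : Cfsg.IrrCharacter G, (χ : G → ℂ) 1 ^ 2 =
        ((∑ χ : Cfsg.IrrCharacter G, ((d χ : ℤ)) ^ 2 : ℤ) : ℂ) := by
      push_cast
      apply Finset.sum_congr rfl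
      intro χ _
      rw [hd χ]
    rw [h2] at h
    exact_mod_cast h
  let χ₀ : Cfsg.IrrCharacter G := ⟨fun _ => 1, isIrrCharacter_one⟩
  have hterm : ∀ χ : Cfsg.IrrCharacter G,
      3 * (ν χ * (d χ : ℤ)) ≤ (d χ : ℤ) ^ 2 + (if χ = χ₀ then 2 else 0) := by
    intro χ
    rcases irr_trivial_or_degree_ge_three heven hna χ with h | ⟨e, he, h⟩
    · have hχ : χ = χ₀ := Subtype.ext h
      have hd1 : d χ = 1 := by
        have : ((d χ : ℕ) : ℂ) = 1 := by rw [← hd χ, h]
        exact_mod_cast this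
      rw [if_pos hχ, hd1]
      rcases hν χ with h' | h' | h' <;> rw [h'] <;> norm_num
    · have hde : d χ = e := by
        have := hd χ
        rw [h] at this
        exact_mod_cast this.symm
      have h3 : (3 : ℤ) ≤ d χ := by rw [hde]; exact_mod_cast he
      have hnn : (0 : ℤ) ≤ if χ = χ₀ then 2 else 0 := by split_ifs <;> norm_num
      rcases hν χ with h' | h' | h' <;> rw [h'] <;> nlinarith
  have hfin : 3 * ((Finset.univ.filter (fun s : G => s * s = 1)).card : ℤ) ≤
      (Nat.card G : ℤ) + 2 := by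
    rw [hsum1, Finset.mul_sum, ← hsum2]
    calc ∑ χ : Cfsg.IrrCharacter G, 3 * (ν χ * (d χ : ℤ))
        ≤ ∑ χ : Cfsg.IrrCharacter G, ((d χ : ℤ) ^ 2 + (if χ = χ₀ then 2 else 0)) :=
          Finset.sum_le_sum (fun χ _ => hterm χ)
      _ = ∑ χ : Cfsg.IrrCharacter G, (d χ : ℤ) ^ 2 + 2 := by
          rw [Finset.sum_add_distrib, Finset.sum_ite_eq' Finset.univ χ₀]
          simp
  rw [card_sq_eq_one] at hfin
  push_cast at hfin
  have : (3 * Nat.card {t : G // orderOf t = 2} : ℤ) < Nat.card G := by linarith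
  exact_mod_cast this

end Cfsg.Agent.Helper2.InvolThird
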