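import Mathlib
import Cfsg.Agent.S2790
import Cfsg.Agent.Helper5.PMinimal
import Cfsg.Agent.Helper5.PMinimal3
import Cfsg.Agent.Helper1.Coprime

set_option autoImplicit false

/-!
# Isolated `p`-minimal subgroups (S3045), part A: generalities

* `iso_mem_of_coprime`: a `p'`-element of `N R` (`R` a `p`-group normalizing `N`) lies in `N`;
* `iso_le_L`: a subgroup `X ≥ S` not containing the `p`-minimal subgroup `P` lies in
  `L = ⟨N_G(S), P' ∈ 𝒫_G(S), P' ≠ P⟩` (McBride's lemma S2790 inside `X`).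
-/

namespace Cfsg.Agent.Helper2

open Cfsg Cfsg.Agent.Helper5

variable {G : Type*} [Group G]

/-- A `p'`-element of `N R`, where the `p`-group `R` normalizes `N`, lies in `N`. -/
theorem iso_mem_of_coprime {p : ℕ} [Fact p.Prime] (N R : Subgroup G)
    (hR : IsPGroup p R) (hRN : R ≤ Subgroup.normalizer (N : Set G)) {x : G} (hx : x ∈ N ⊔ R)
    (hcop : (orderOf x).Coprime p) : x ∈ N := by
  have hNX : N ≤ N ⊔ R := le_sup_left
  have hXN : N ⊔ R ≤ Subgroup.normalizer (N : Set G) := sup_le Subgroup.le_normalizer hRN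
  have hn : (N.subgroupOf (N ⊔ R)).Normal :=
    (Subgroup.normal_subgroupOf_iff_le_normalizer hNX).mpr hXN
  have hq : IsPGroup p (↥(N ⊔ R) ⧸ N.subgroupOf (N ⊔ R)) := by
    let f : ↥R →* ↥(N ⊔ R) ⧸ N.subgroupOf (N ⊔ R) :=
      (QuotientGroup.mk' _).comp (Subgroup.inclusion le_sup_right)
    apply hR.of_surjective f
    intro y
    obtain ⟨⟨y, hy⟩, rfl⟩ := QuotientGroup.mk_surjective y
    obtain ⟨n, hn, r, hr, rfl⟩ := Cfsg.Agent.Helper1.mem_sup_of_le_normalizer hRN hy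
    refine ⟨⟨r, hr⟩, ?_⟩
    show QuotientGroup.mk _ = QuotientGroup.mk _
    rw [QuotientGroup.eq]
    rw [Subgroup.mem_subgroupOf]
    simp only [Subgroup.coe_mul, Subgroup.coe_inv, Subgroup.coe_inclusion]
    have : r⁻¹ * (n * r) = r⁻¹ * n * r⁻¹⁻¹ := by group
    rw [this]
    exact (Subgroup.mem_normalizer_iff.mp (hRN (R.inv_mem hr)) n).mp hn
  set xq : ↥(N ⊔ R) ⧸ N.subgroupOf (N ⊔ R) := QuotientGroup.mk ⟨x, hx⟩ with hxq
  obtain ⟨k, hk⟩ := hq xq
  have h1 : xq ^ orderOf x = 1 := by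
    rw [hxq, ← QuotientGroup.mk_pow]
    have : (⟨x, hx⟩ : ↥(N ⊔ R)) ^ orderOf x = 1 := by
      apply Subtype.ext
      simp [pow_orderOf_eq_one]
    rw [this]
    rfl
  have h2 : orderOf xq ∣ orderOf x := orderOf_dvd_of_pow_eq_one h1
  have h3 : orderOf xq ∣ p ^ k := orderOf_dvd_of_pow_eq_one hk
  have h4 : orderOf xq = 1 := by
    have hc : (orderOf xq).Coprime (p ^ k) :=
      Nat.Coprime.pow_right k (Nat.Coprime.coprime_dvd_left h2 hcop)
    exact Nat.Coprime.eq_one_of_dvd hc h3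
  rw [orderOf_eq_one_iff, hxq, QuotientGroup.eq_one_iff, Subgroup.mem_subgroupOf] at h4
  exact h4

/-- The subgroup `L = ⟨N_G(S), P' ∈ 𝒫_G(S), P' ≠ P⟩`. -/
def isoL {p : ℕ} (S : Sylow p G) (P : Subgroup G) : Subgroup G :=
  Subgroup.normalizer ((S : Subgroup G) : Set G) ⊔
    ⨆ P' : {P' : Subgroup G // (S : Subgroup G) ≤ P' ∧ Cfsg.IsPMinimal p ↥P' ∧ P' ≠ P},
      (P' : Subgroup G)

theorem iso_normalizer_le_L {p : ℕ} (S : Sylow p G) (P : Subgroup G) :
    Subgroup.normalizer ((S : Subgroup G) : Set G) ≤ isoL S P := le_sup_left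

theorem iso_S_le_L {p : ℕ} (S : Sylow p G) (P : Subgroup G) : (S : Subgroup G) ≤ isoL S P :=
  Subgroup.le_normalizer.trans (iso_normalizer_le_L S P)

theorem iso_pMinimal_le_L {p : ℕ} (S : Sylow p G) (P P' : Subgroup G) (hS : (S : Subgroup G) ≤ P')
    (hmin : Cfsg.IsPMinimal p ↥P') (hne : P' ≠ P) : P' ≤ isoL S P :=
  le_trans (le_iSup (fun P' : {P' : Subgroup G // (S : Subgroup G) ≤ P' ∧ Cfsg.IsPMinimal p ↥P' ∧
    P' ≠ P} => (P' : Subgroup G)) ⟨P', hS, hmin, hne⟩) le_sup_right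

theorem iso_mem_subtype {p : ℕ} (S : Sylow p G) {X : Subgroup G} (hSX : (S : Subgroup G) ≤ X)
    (y : ↥X) : y ∈ ((S.subtype hSX : Sylow p ↥X) : Subgroup ↥X) ↔ (y : G) ∈ (S : Subgroup G) := by
  rw [Sylow.coe_subtype, Subgroup.mem_subgroupOf]

/-- (†): a subgroup containing `S` but not `P` lies in `L`. -/
theorem iso_le_L [Finite G] {p : ℕ} [Fact p.Prime] (S : Sylow p G) (P X : Subgroup G)
    (hSX : (S : Subgroup G) ≤ X) (hPX : ¬ P ≤ X) : X ≤ isoL S P := by
  intro x hx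
  obtain ⟨hgen, hfac⟩ := Cfsg.Agent.S2790.result (S.subtype hSX)
  obtain ⟨a, ha, b, hb, hab⟩ := hfac ⟨x, hx⟩
  rw [← hgen] at ha
  have key : (((S.subtype hSX : Sylow p ↥X) : Subgroup ↥X) ⊔
      ⨆ P'' : {P'' : Subgroup ↥X // ((S.subtype hSX : Sylow p ↥X) : Subgroup ↥X) ≤ P'' ∧
        Cfsg.IsPMinimal p ↥P''}, (P'' : Subgroup ↥X)).map X.subtype ≤ isoL S P := by
    rw [Subgroup.map_sup, Subgroup.map_iSup]
    apply sup_le
    · intro z hz
      obtain ⟨y, hy, rfl⟩ := Subgroup.mem_map.mp hz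
      exact iso_S_le_L S P ((iso_mem_subtype S hSX y).mp hy)
    · apply iSup_le
      rintro ⟨P'', hSP'', hmin⟩
      apply iso_pMinimal_le_L S P
      · intro g hg
        exact ⟨⟨g, hSX hg⟩, hSP'' ((iso_mem_subtype S hSX _).mpr hg), rfl⟩
      · exact isPMinimal_of_mulEquiv
          (Subgroup.equivMapOfInjective P'' X.subtype X.subtype_injective) hmin
      · intro h
        apply hPX
        rw [← h]
        exact Subgroup.map_subtype_le _
  have ha' : (a : G) ∈ isoL S P := key ⟨a, ha, rfl⟩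
  have hb' : (b : G) ∈ isoL S P := by
    apply iso_normalizer_le_L S P
    apply Subgroup.mem_normalizer_fintype
    intro g hg
    change g ∈ (S : Subgroup G) at hg
    change _ ∈ (S : Subgroup G)
    have h1 : (⟨g, hSX hg⟩ : ↥X) ∈ ((S.subtype hSX : Sylow p ↥X) : Subgroup ↥X) :=
      (iso_mem_subtype S hSX _).mpr hg
    have h2 := (Subgroup.mem_normalizer_iff.mp hb _).mp h1
    rw [iso_mem_subtype] at h2
    simpa using h2
  have hx' : x = (a : G) * (b : G) := by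
    have := congrArg Subtype.val hab
    simpa using this
  rw [hx']
  exact (isoL S P).mul_mem ha' hb'

/-- `G = ⟨L, P⟩`. -/
theorem iso_L_sup_P [Finite G] {p : ℕ} [Fact p.Prime] (S : Sylow p G) (P : Subgroup G) :
    isoL S P ⊔ P = ⊤ := by
  rw [eq_top_iff]
  intro g _
  obtain ⟨hgen, hfac⟩ := Cfsg.Agent.S2790.result S
  obtain ⟨a, ha, b, hb, rfl⟩ := hfac g
  rw [← hgen] at ha
  have key : ((S : Subgroup G) ⊔ ⨆ P' : {P' : Subgroup G // (S : Subgroup G) ≤ P' ∧
      Cfsg.IsPMinimal p ↥P'}, (P' : Subgroup G)) ≤ isoL S P ⊔ P := by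
    apply sup_le
    · exact (iso_S_le_L S P).trans le_sup_left
    · apply iSup_le
      rintro ⟨P', hSP', hmin⟩
      by_cases h : P' = P
      · subst h
        exact le_sup_right
      · exact (iso_pMinimal_le_L S P P' hSP' hmin h).trans le_sup_left
  exact Subgroup.mul_mem _ (key ha) (Subgroup.mem_sup_left (iso_normalizer_le_L S P hb))

end Cfsg.Agent.Helper2
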