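import Mathlib
import Cfsg.Prelude.Def_Amalgam
import Cfsg.Prelude.Def_BaumannBlocks
import Cfsg.Agent.Helper2.IsoA
import Cfsg.Agent.Helper1.SubnormalCommPCore
import Cfsg.Agent.Helper4.PCore

set_option autoImplicit false
set_option linter.unusedSectionVars false

/-!
# Isolated `p`-minimal subgroups (S3045), part B: consequences of `p`-minimality in `G`

`H = O^p(P)`, `Q = O_p(L)`, `Q ≰ O_p(P)`.
-/

namespace Cfsg.Agent.Helper2

open Cfsg Cfsg.Agent.Helper5
open scoped commutatorElement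

variable {G : Type*} [Group G]

/-- The image in `G` of a normal subgroup of `↥P` is normalized by `P`. -/
theorem iso_le_normalizer_map_subtype (P : Subgroup G) (N : Subgroup ↥P) [hN : N.Normal] :
    P ≤ Subgroup.normalizer ((N.map P.subtype : Subgroup G) : Set G) := by
  have aux : ∀ m : G, m ∈ P → ∀ x ∈ N.map P.subtype, m * x * m⁻¹ ∈ N.map P.subtype := by
    rintro m hm _ ⟨y, hy, rfl⟩
    exact ⟨⟨m, hm⟩ * y * ⟨m, hm⟩⁻¹, hN.conj_mem y hy ⟨m, hm⟩, rfl⟩
  intro l hl
  rw [Subgroup.mem_normalizer_iff]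
  intro x
  constructor
  · exact aux l hl x
  · intro hx
    have := aux l⁻¹ (Subgroup.inv_mem _ hl) _ hx
    have h4 : l⁻¹ * (l * x * l⁻¹) * l⁻¹⁻¹ = x := by group
    rwa [h4] at this

/-- An element normalizing `A` and `B` normalizes `A ⊔ B`. -/
theorem iso_normalizer_inf_le_sup (A B : Subgroup G) :
    Subgroup.normalizer (A : Set G) ⊓ Subgroup.normalizer (B : Set G) ≤
      Subgroup.normalizer ((A ⊔ B : Subgroup G) : Set G) := by
  have aux : ∀ g : G, g ∈ Subgroup.normalizer (A : Set G) ⊓ Subgroup.normalizer (B : Set G) →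
      ∀ x ∈ A ⊔ B, g * x * g⁻¹ ∈ A ⊔ B := by
    intro g hg x hx
    have h1 : A ⊔ B ≤ (A ⊔ B).comap (MulAut.conj g).toMonoidHom := by
      apply sup_le
      · intro a ha
        rw [Subgroup.mem_comap]
        exact Subgroup.mem_sup_left ((Subgroup.mem_normalizer_iff.mp hg.1 a).mp ha)
      · intro b hb
        rw [Subgroup.mem_comap]
        exact Subgroup.mem_sup_right ((Subgroup.mem_normalizer_iff.mp hg.2 b).mp hb)
    exact h1 hx
  intro g hg
  rw [Subgroup.mem_normalizer_iff]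
  intro x
  constructor
  · exact aux g hg x
  · intro hx
    have := aux g⁻¹ (Subgroup.inv_mem _ hg) _ hx
    have h4 : g⁻¹ * (g * x * g⁻¹) * g⁻¹⁻¹ = x := by group
    rwa [h4] at this

/-- The hypotheses of the isolated `p`-minimal subgroup theorem. -/
structure IsoSetup {p : ℕ} (S : Sylow p G) (P : Subgroup G) : Prop where
  hSP : (S : Subgroup G) ≤ P
  hPmin : Cfsg.IsPMinimal p ↥P
  hiso : ¬ Cfsg.pCoreOf p (isoL S P) ≤ Cfsg.pCoreOf p P

namespace IsoSetup

variable [Finite G] {p : ℕ} [Fact p.Prime] {S : Sylow p G} {P : Subgroup G}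

theorem H_le_P (_h : IsoSetup S P) : Cfsg.pResidualOf p P ≤ P := Subgroup.map_subtype_le _

/-- `P = O^p(P) S`. -/
theorem H_sup_S (h : IsoSetup S P) : Cfsg.pResidualOf p P ⊔ (S : Subgroup G) = P := by
  have h1 := pResidual_sup_sylow (S.subtype h.hSP)
  have h2 := congrArg (Subgroup.map P.subtype) h1
  rw [Subgroup.map_sup, Sylow.coe_subtype, Subgroup.subgroupOf_map_subtype,
    ← MonoidHom.range_eq_map, Subgroup.range_subtype, inf_eq_left.mpr h.hSP] at h2
  exact h2

theorem P_le_normalizer_H (_h : IsoSetup S P) :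
    P ≤ Subgroup.normalizer ((Cfsg.pResidualOf p P : Subgroup G) : Set G) := by
  have : (Cfsg.pResidual p ↥P).Characteristic := pResidual_characteristic p
  exact iso_le_normalizer_map_subtype P (Cfsg.pResidual p ↥P)

theorem L_le_normalizer_Q (_h : IsoSetup S P) :
    isoL S P ≤ Subgroup.normalizer ((Cfsg.pCoreOf p (isoL S P) : Subgroup G) : Set G) :=
  le_normalizer_pCore_map_subtype p (isoL S P)

theorem Q_isPGroup (_h : IsoSetup S P) : IsPGroup p (Cfsg.pCoreOf p (isoL S P)) :=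
  isPGroup_pCore_map_subtype p (isoL S P)

theorem Q_le_L (_h : IsoSetup S P) : Cfsg.pCoreOf p (isoL S P) ≤ isoL S P :=
  pCore_map_subtype_le p (isoL S P)

/-- `Q = O_p(L) ≤ S`. -/
theorem Q_le_S (h : IsoSetup S P) : Cfsg.pCoreOf p (isoL S P) ≤ (S : Subgroup G) := by
  have h1 : IsPGroup p ↥(Cfsg.pCoreOf p (isoL S P) ⊔ (S : Subgroup G)) :=
    h.Q_isPGroup.to_sup_of_normal_left' S.2 ((iso_S_le_L S P).trans h.L_le_normalizer_Q)
  have h2 := S.is_maximal' h1 le_sup_right
  rw [← h2]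
  exact le_sup_left

theorem OpP_le_S (h : IsoSetup S P) : Cfsg.pCoreOf p P ≤ (S : Subgroup G) := by
  have h1 : IsPGroup p ↥(Cfsg.pCoreOf p P ⊔ (S : Subgroup G)) :=
    (isPGroup_pCore_map_subtype p P).to_sup_of_normal_left' S.2
      (h.hSP.trans (le_normalizer_pCore_map_subtype p P))
  have h2 := S.is_maximal' h1 le_sup_right
  rw [← h2]
  exact le_sup_left

/-- `O^p(P)` lies in the normal closure of `Q`. -/
theorem H_le_normalClosure_Q (h : IsoSetup S P) :
    Cfsg.pResidualOf p P ≤ Subgroup.normalClosure ((Cfsg.pCoreOf p (isoL S P) : Subgroup G) : Set G) := by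
  set W := Subgroup.normalClosure ((Cfsg.pCoreOf p (isoL S P) : Subgroup G) : Set G) with hW
  obtain ⟨-, M, ⟨hM, hSM⟩, -⟩ := h.hPmin (S.subtype h.hSP)
  have hN : (W.subgroupOf P).Normal := inferInstance
  rcases pMinimal_normal_dichotomy h.hPmin (S.subtype h.hSP) M hM hSM (W.subgroupOf P) hN with h1 | h1
  · rintro _ ⟨y, hy, rfl⟩
    exact Subgroup.mem_subgroupOf.mp (h1 hy)
  · exfalso
    apply h.hiso
    intro q hq
    have hqS : q ∈ (S : Subgroup G) := h.Q_le_S hq
    have hqP : q ∈ P := h.hSP hqS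
    have h2 : (⟨q, hqP⟩ : ↥P) ∈ M.normalCore ⊓ ((S.subtype h.hSP : Sylow p ↥P) : Subgroup ↥P) := by
      refine ⟨h1 ?_, (iso_mem_subtype S h.hSP _).mpr hqS⟩
      rw [Subgroup.mem_subgroupOf]
      exact Subgroup.le_normalClosure hq
    exact ⟨⟨q, hqP⟩, pMinimal_normalCore_inf_le_pCore h.hPmin (S.subtype h.hSP) M hM hSM h2, rfl⟩

/-- `[O^p(P), Q] ≰ O_p(P)`. -/
theorem not_comm_le (h : IsoSetup S P) :
    ¬ ⁅Cfsg.pResidualOf p P, Cfsg.pCoreOf p (isoL S P)⁆ ≤ Cfsg.pCoreOf p P := by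
  intro hc
  apply h.hiso
  set Q := Cfsg.pCoreOf p (isoL S P) with hQ
  set O := Cfsg.pCoreOf p P with hO
  set H := Cfsg.pResidualOf p P with hH
  have hPO : P ≤ Subgroup.normalizer (O : Set G) := le_normalizer_pCore_map_subtype p P
  have hRS : Q ⊔ O ≤ (S : Subgroup G) := sup_le h.Q_le_S h.OpP_le_S
  have hSR : (S : Subgroup G) ≤ Subgroup.normalizer ((Q ⊔ O : Subgroup G) : Set G) := by
    refine le_trans ?_ (iso_normalizer_inf_le_sup Q O)
    exact le_inf ((iso_S_le_L S P).trans h.L_le_normalizer_Q) (h.hSP.trans hPO)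
  have hHR : H ≤ Subgroup.normalizer ((Q ⊔ O : Subgroup G) : Set G) := by
    intro x hx
    apply Subgroup.mem_normalizer_fintype
    intro y hy
    have h1 : Q ⊔ O ≤ (Q ⊔ O).comap (MulAut.conj x).toMonoidHom := by
      apply sup_le
      · intro q hq
        rw [Subgroup.mem_comap]
        have h2 : ⁅x, q⁆ ∈ O := hc (Subgroup.commutator_mem_commutator hx hq)
        have h3 : x * q * x⁻¹ = ⁅x, q⁆ * q := by
          rw [commutatorElement_def]; group
        show x * q * x⁻¹ ∈ Q ⊔ O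
        rw [h3]
        exact Subgroup.mul_mem _ (Subgroup.mem_sup_right h2) (Subgroup.mem_sup_left hq)
      · intro o ho
        rw [Subgroup.mem_comap]
        exact Subgroup.mem_sup_right
          ((Subgroup.mem_normalizer_iff.mp (hPO (h.H_le_P hx)) o).mp ho)
    exact h1 hy
  have hPR : P ≤ Subgroup.normalizer ((Q ⊔ O : Subgroup G) : Set G) := by
    rw [← h.H_sup_S]
    exact sup_le hHR hSR
  have h4 : Q ⊔ O ≤ O :=
    le_pCore_map_subtype P (Q ⊔ O) (hRS.trans h.hSP) (S.2.to_le hRS) hPR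
  exact le_sup_left.trans h4

/-- (†) for invariant subgroups: an `S`-invariant subgroup not containing `O^p(P)` lies in `L`. -/
theorem le_L_of_not_le (_h : IsoSetup S P) (N : Subgroup G)
    (hSN : (S : Subgroup G) ≤ Subgroup.normalizer (N : Set G))
    (hHN : ¬ Cfsg.pResidualOf p P ≤ N) : N ⊔ (S : Subgroup G) ≤ isoL S P := by
  apply iso_le_L S P _ le_sup_right
  intro hP
  apply hHN
  show (Cfsg.pResidual p ↥P).map P.subtype ≤ N
  rw [map_subtype_pResidual, Subgroup.closure_le]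
  rintro g ⟨hgP, hg⟩
  exact iso_mem_of_coprime N (S : Subgroup G) S.2 hSN (hP hgP) hg

/-- KEY LEMMA: a normal subgroup `N` of `G` not containing `O^p(P)` is centralized modulo `O_p(G)`
by the normal closure of `Q` (which contains the normal closure of `O^p(P)`). -/
theorem comm_normalClosure_le (h : IsoSetup S P) (N : Subgroup G) [hN : N.Normal]
    (hHN : ¬ Cfsg.pResidualOf p P ≤ N) :
    ⁅N, Subgroup.normalClosure ((Cfsg.pCoreOf p (isoL S P) : Subgroup G) : Set G)⁆ ≤
      Cfsg.pCore p G := by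
  set Q := Cfsg.pCoreOf p (isoL S P) with hQ
  have hK : (Cfsg.pCore p G).Normal := Cfsg.Agent.Helper4.pCore_normal
  have hSN : (S : Subgroup G) ≤ Subgroup.normalizer (N : Set G) := by
    rw [Subgroup.normalizer_eq_top]; exact le_top
  have hNL : N ≤ isoL S P := le_sup_left.trans (h.le_L_of_not_le N hSN hHN)
  have hNQ : N ≤ Subgroup.normalizer (Q : Set G) := hNL.trans h.L_le_normalizer_Q
  have h1 : ⁅N, Q⁆ ≤ N ⊓ Q := by
    refine le_inf (Subgroup.commutator_le_left N Q) ?_
    rw [Subgroup.commutator_comm]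
    exact Subgroup.le_normalizer_iff_commutator_le_left.1 hNQ
  have h2 : N ⊓ Q ≤ Cfsg.pCore p G := by
    apply Cfsg.Agent.Helper1.le_pCore_of_isSubnormal
    · refine Subgroup.IsSubnormal.step (N ⊓ Q) N inf_le_left hN.isSubnormal ?_
      rw [Subgroup.normal_subgroupOf_iff_le_normalizer inf_le_left]
      intro n hn
      exact mem_normalizer_inf N Q n (Subgroup.le_normalizer hn) (hNQ hn)
    · exact h.Q_isPGroup.to_le inf_le_right
  have h3 : ⁅N, Q⁆ ≤ Cfsg.pCore p G := h1.trans h2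
  -- the normal subgroup `C = C_G(N mod O_p(G))`
  set π := QuotientGroup.mk' (Cfsg.pCore p G) with hπ
  have : (N.map π).Normal := hN.map π (QuotientGroup.mk'_surjective _)
  have hQC : Q ≤ (Subgroup.centralizer ((N.map π : Subgroup (G ⧸ Cfsg.pCore p G)) :
      Set (G ⧸ Cfsg.pCore p G))).comap π := by
    rw [← Subgroup.map_le_iff_le_comap, ← Subgroup.commutator_eq_bot_iff_le_centralizer,
      ← Subgroup.map_commutator, Subgroup.commutator_comm]
    rw [eq_bot_iff]
    rintro _ ⟨x, hx, rfl⟩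
    rw [Subgroup.mem_bot, hπ, QuotientGroup.mk'_apply, QuotientGroup.eq_one_iff]
    exact h3 hx
  have hWC : Subgroup.normalClosure (Q : Set G) ≤
      (Subgroup.centralizer ((N.map π : Subgroup (G ⧸ Cfsg.pCore p G)) :
      Set (G ⧸ Cfsg.pCore p G))).comap π := Subgroup.normalClosure_le_normal hQC
  rw [← Subgroup.map_le_iff_le_comap, ← Subgroup.commutator_eq_bot_iff_le_centralizer,
    ← Subgroup.map_commutator, Subgroup.commutator_comm] at hWC
  intro x hx
  have : π x ∈ (⁅N, Subgroup.normalClosure (Q : Set G)⁆).map π := ⟨x, hx, rfl⟩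
  rw [hWC, Subgroup.mem_bot, hπ, QuotientGroup.mk'_apply, QuotientGroup.eq_one_iff] at this
  exact this

end IsoSetup

end Cfsg.Agent.Helper2
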