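import Mathlib
import Cfsg.Agent.Helper1.Coprime
import Cfsg.Agent.Helper1.PGroup
import Cfsg.Agent.Helper4.CoprimeActC
import Cfsg.Agent.Helper5.PMinimal2

set_option autoImplicit false
set_option linter.unusedSectionVars false

/-!
# Isolated `p`-minimal subgroups (S3045), part C: the abstract lemma modulo `O_p(G)`

`Γ` a finite group, `Y ⊴ Γ` a `p'`-group of class at most two, `H ≤ Y` invariant under the `p`-group
`S ≥ Q`, `L ≥ S` normalizing `Q`, `Γ = Y L`, `Y` the normal closure of `H`, `[H, Q] ≠ 1`, and every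
`S`-invariant subgroup of `Y` either contains `H` or lies in `L`.  Then `Y = H` is a `t`-group.
-/

namespace Cfsg.Agent.Helper2

open scoped commutatorElement

variable {Γ : Type*} [Group Γ]

/-- The hypotheses of the abstract lemma. -/
structure IsoAbs (p : ℕ) (Y H S Q L : Subgroup Γ) : Prop where
  hYn : Y.Normal
  hcl2 : ⁅⁅Y, Y⁆, Y⁆ = ⊥
  hYp : (Nat.card Y).Coprime p
  hHY : H ≤ Y
  hS : IsPGroup p S
  hQS : Q ≤ S
  hSL : S ≤ L
  hLQ : L ≤ Subgroup.normalizer (Q : Set Γ)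
  hSH : S ≤ Subgroup.normalizer (H : Set Γ)
  hdich : ∀ N : Subgroup Γ, N ≤ Y → S ≤ Subgroup.normalizer (N : Set Γ) → H ≤ N ∨ N ≤ L
  hHQ : ⁅H, Q⁆ ≠ ⊥
  hYL : Y ⊔ L = ⊤
  hgen : ∀ N : Subgroup Γ, N.Normal → H ≤ N → Y ≤ N

namespace IsoAbs

variable [Finite Γ] {p : ℕ} [Fact p.Prime] {Y H S Q L : Subgroup Γ}

theorem Q_isPGroup (h : IsoAbs p Y H S Q L) : IsPGroup p Q := h.hS.to_le h.hQS

theorem coprime_card (h : IsoAbs p Y H S Q L) (N : Subgroup Γ) (hN : N ≤ Y) :
    (Nat.card N).Coprime (Nat.card Q) := by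
  obtain ⟨k, hk⟩ := IsPGroup.iff_card.mp h.Q_isPGroup
  rw [hk]
  apply Nat.Coprime.pow_right
  exact Nat.Coprime.coprime_dvd_left (Subgroup.card_dvd_of_le hN) h.hYp

/-- An `S`-invariant subgroup of `Y` contains `H` or is centralized by `Q`. -/
theorem dich' (h : IsoAbs p Y H S Q L) (N : Subgroup Γ) (hN : N ≤ Y)
    (hSN : S ≤ Subgroup.normalizer (N : Set Γ)) : H ≤ N ∨ ⁅N, Q⁆ = ⊥ := by
  rcases h.hdich N hN hSN with h1 | h1
  · exact Or.inl h1
  · right
    have h2 : ⁅N, Q⁆ ≤ N := Subgroup.le_normalizer_iff_commutator_le_left.1 (h.hQS.trans hSN)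
    have h3 : ⁅N, Q⁆ ≤ Q := by
      rw [Subgroup.commutator_comm]
      exact Subgroup.le_normalizer_iff_commutator_le_left.1 (h1.trans h.hLQ)
    have h4 : N ⊓ Q = ⊥ := (Subgroup.disjoint_of_coprime_natCard (h.coprime_card N hN)).eq_bot
    rw [eq_bot_iff, ← h4]
    exact le_inf h2 h3

theorem Y_nilpotent (h : IsoAbs p Y H S Q L) : Group.IsNilpotent ↥Y :=
  Subgroup.isNilpotent_of_lowerCentralSeries_eq_bot (n := 2) h.hcl2

theorem Q_le_normalizer_Y (h : IsoAbs p Y H S Q L) : Q ≤ Subgroup.normalizer (Y : Set Γ) := by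
  have := h.hYn
  rw [Subgroup.normalizer_eq_top]; exact le_top

/-- `Y = [Y, Q]`. -/
theorem Y_eq_comm (h : IsoAbs p Y H S Q L) : ⁅Y, Q⁆ = Y := by
  have hYn := h.hYn
  have hBY : ⁅Y, Q⁆ ≤ Y := Subgroup.commutator_le_left Y Q
  apply le_antisymm hBY
  -- `[Y, Q]` is normal in `Γ = Y L`
  have hn1 : Y ≤ Subgroup.normalizer ((⁅Y, Q⁆ : Subgroup Γ) : Set Γ) :=
    Subgroup.normalizer_commutator_ge_left Y Q
  have hn2 : L ≤ Subgroup.normalizer ((⁅Y, Q⁆ : Subgroup Γ) : Set Γ) := by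
    intro l hl
    apply Subgroup.mem_normalizer_fintype
    intro x hx
    have h1 : ⁅Y, Q⁆ ≤ (⁅Y, Q⁆).comap (MulAut.conj l).toMonoidHom := by
      rw [Subgroup.commutator_le]
      intro y hy q hq
      rw [Subgroup.mem_comap, map_commutatorElement]
      apply Subgroup.commutator_mem_commutator
      · exact hYn.conj_mem y hy l
      · exact (Subgroup.mem_normalizer_iff.mp (h.hLQ hl) q).mp hq
    exact h1 hx
  have hBn : (⁅Y, Q⁆ : Subgroup Γ).Normal := by
    rw [← Subgroup.normalizer_eq_top_iff, eq_top_iff, ← h.hYL]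
    exact sup_le hn1 hn2
  have hSB : S ≤ Subgroup.normalizer ((⁅Y, Q⁆ : Subgroup Γ) : Set Γ) := by
    rw [Subgroup.normalizer_eq_top_iff.mpr hBn]; exact le_top
  rcases h.dich' ⁅Y, Q⁆ hBY hSB with h1 | h1
  · exact h.hgen _ hBn h1
  · exfalso
    have h2 : ⁅⁅Y, Q⁆, Q⁆ = ⁅Y, Q⁆ :=
      Cfsg.Agent.Helper1.coprime_commutator_commutator Q Y h.Q_le_normalizer_Y
        (h.coprime_card Y le_rfl).symm
        (Or.inl (by have := h.Q_isPGroup.isNilpotent; infer_instance))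
    rw [h1] at h2
    apply h.hHQ
    rw [eq_bot_iff, h2]
    exact Subgroup.commutator_mono h.hHY le_rfl

theorem H_ne_bot (h : IsoAbs p Y H S Q L) : H ≠ ⊥ := by
  intro h0
  apply h.hHQ
  rw [h0, eq_bot_iff, Subgroup.commutator_le]
  intro a ha b _
  rw [Subgroup.mem_bot] at ha
  rw [ha, Subgroup.mem_bot, commutatorElement_one_left]

theorem not_Y_le_centralizer (h : IsoAbs p Y H S Q L) :
    ¬ Y ≤ Subgroup.centralizer (Q : Set Γ) := by
  intro hc
  apply h.hHQ
  rw [Subgroup.commutator_eq_bot_iff_le_centralizer]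
  exact h.hHY.trans hc

/-- `Y` is a `t`-group for a prime `t ≠ p`. -/
theorem exists_prime (h : IsoAbs p Y H S Q L) : ∃ t : ℕ, t.Prime ∧ t ≠ p ∧ IsPGroup t Y := by
  by_contra hno
  have hYn := h.hYn
  have hnil := h.Y_nilpotent
  apply h.not_Y_le_centralizer
  have key : ∀ (t : ℕ) [Fact t.Prime] (T : Sylow t ↥Y),
      (T : Subgroup ↥Y).map Y.subtype ≤ Subgroup.centralizer (Q : Set Γ) := by
    intro t ht T
    have hTn : (T : Subgroup ↥Y).Normal := inferInstance
    have hTc : (T : Subgroup ↥Y).Characteristic := Sylow.characteristic_of_normal T hTn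
    have hTΓ : ((T : Subgroup ↥Y).map Y.subtype).Normal := inferInstance
    have hTY : (T : Subgroup ↥Y).map Y.subtype ≤ Y := Subgroup.map_subtype_le _
    have hST : S ≤ Subgroup.normalizer (((T : Subgroup ↥Y).map Y.subtype : Subgroup Γ) : Set Γ) := by
      rw [Subgroup.normalizer_eq_top_iff.mpr hTΓ]; exact le_top
    rcases h.dich' _ hTY hST with h1 | h1
    · exfalso
      have h2 : Y ≤ (T : Subgroup ↥Y).map Y.subtype := h.hgen _ hTΓ h1
      have h3 : IsPGroup t Y := (T.isPGroup'.map Y.subtype).to_le h2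
      by_cases htp : t = p
      · subst htp
        obtain ⟨k, hk⟩ := IsPGroup.iff_card.mp h3
        have h4 := h.hYp
        rw [hk] at h4
        have h5 : Nat.card Y = 1 := by
          rcases Nat.eq_zero_or_pos k with h0 | h0
          · rw [hk, h0, pow_zero]
          · exfalso
            have h6 : (t ^ k).Coprime (t ^ 1) := by rw [pow_one]; exact h4
            rw [Nat.coprime_pow_left_iff h0, pow_one, Nat.coprime_self] at h6
            exact ht.out.one_lt.ne' h6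
        have h6 : Y = ⊥ := Subgroup.card_eq_one.mp h5
        apply h.H_ne_bot
        rw [eq_bot_iff, ← h6]
        exact h.hHY
      · exact hno ⟨t, ht.out, htp, h3⟩
    · rwa [Subgroup.commutator_eq_bot_iff_le_centralizer] at h1
  have htop : (Subgroup.centralizer (Q : Set Γ)).subgroupOf Y = ⊤ := by
    apply Cfsg.Agent.Helper5.eq_top_of_forall_sylow_le
    intro q hq
    have : Fact q.Prime := ⟨hq⟩
    obtain ⟨T⟩ : Nonempty (Sylow q ↥Y) := inferInstance
    refine ⟨(T : Subgroup ↥Y), ?_, T.not_dvd_index⟩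
    intro x hx
    rw [Subgroup.mem_subgroupOf]
    exact key q T ⟨x, hx, rfl⟩
  exact Subgroup.subgroupOf_eq_top.mp htop

/-- The conjugation action of `S` on the normal subgroup `Y`. -/
@[reducible] def isoAct (Y S : Subgroup Γ) [Y.Normal] : MulDistribMulAction ↥S ↥Y :=
  MulDistribMulAction.compHom ↥Y ((MulAut.conjNormal (H := Y)).comp S.subtype)

theorem isoAct_coe (Y S : Subgroup Γ) [Y.Normal] (s : ↥S) (y : ↥Y) :
    (((isoAct Y S).smul s y : ↥Y) : Γ) = (s : Γ) * (y : Γ) * (s : Γ)⁻¹ := rfl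

/-- `Y = H`. -/
theorem Y_le_H (h : IsoAbs p Y H S Q L) : Y ≤ H := by
  have hYn := h.hYn
  obtain ⟨t, ht, htp, hYt⟩ := h.exists_prime
  have : Fact t.Prime := ⟨ht⟩
  letI act : MulDistribMulAction ↥S ↥Y := isoAct Y S
  have hsmul : ∀ (s : ↥S) (y : ↥Y), ((s • y : ↥Y) : Γ) = (s : Γ) * (y : Γ) * (s : Γ)⁻¹ :=
    fun s y => rfl
  have htS : ¬ t ∣ Nat.card ↥S := by
    obtain ⟨k, hk⟩ := IsPGroup.iff_card.mp h.hS
    rw [hk]
    intro hd
    exact htp ((Nat.prime_dvd_prime_iff_eq ht (Fact.out : p.Prime)).mp (ht.dvd_of_dvd_pow hd))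
  -- invariance translations
  have hinv_of : ∀ L₀ : Subgroup ↥Y, Cfsg.Agent.Helper4.ActInv ↥S L₀ →
      S ≤ Subgroup.normalizer ((L₀.map Y.subtype : Subgroup Γ) : Set Γ) := by
    intro L₀ hL₀ s hs
    apply Subgroup.mem_normalizer_fintype
    rintro _ ⟨x, hx, rfl⟩
    exact ⟨(⟨s, hs⟩ : ↥S) • x, hL₀ ⟨s, hs⟩ x hx, hsmul ⟨s, hs⟩ x⟩
  have hHinv : Cfsg.Agent.Helper4.ActInv ↥S (H.subgroupOf Y) := by
    intro s x hx
    rw [Subgroup.mem_subgroupOf] at hx ⊢
    rw [hsmul]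
    exact (Subgroup.mem_normalizer_iff.mp (h.hSH s.2) _).mp hx
  set L₀ : Subgroup ↥Y := H.subgroupOf Y ⊔ frattini ↥Y with hL₀
  have hL₀inv : Cfsg.Agent.Helper4.ActInv ↥S L₀ :=
    Cfsg.Agent.Helper4.actInv_sup hHinv Cfsg.Agent.Helper4.actInv_frattini
  obtain ⟨L', hL'inv, hΦL', hsup, hinf⟩ :=
    Cfsg.Agent.Helper4.exists_invariant_compl_mod_frattini (A := ↥S) hYt htS hL₀inv le_sup_right
  have hL'Y : L'.map Y.subtype ≤ Y := Subgroup.map_subtype_le _
  rcases h.dich' _ hL'Y (hinv_of L' hL'inv) with h1 | h1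
  · -- `H ≤ L'`: then `H ≤ Φ(Y)`, impossible
    exfalso
    have h2 : H.subgroupOf Y ≤ L' := by
      intro x hx
      rw [Subgroup.mem_subgroupOf] at hx
      obtain ⟨x', hx', hxx⟩ := h1 hx
      have : x' = x := Subtype.ext hxx
      rwa [← this]
    have h3 : L₀ ≤ L' := sup_le h2 hΦL'
    have h4 : L₀ = frattini ↥Y := by rw [← hinf]; exact (inf_eq_left.mpr h3).symm
    have h5 : H.subgroupOf Y ≤ frattini ↥Y := by rw [← h4]; exact le_sup_left
    have hΦn : ((frattini ↥Y).map Y.subtype).Normal := inferInstance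
    have h6 : H ≤ (frattini ↥Y).map Y.subtype := by
      intro x hx
      exact ⟨⟨x, h.hHY hx⟩, h5 (Subgroup.mem_subgroupOf.mpr hx), rfl⟩
    have h7 : Y ≤ (frattini ↥Y).map Y.subtype := h.hgen _ hΦn h6
    have h8 : frattini ↥Y = ⊤ := by
      rw [eq_top_iff]
      intro y _
      obtain ⟨y', hy', hyy⟩ := h7 y.2
      have : y' = y := Subtype.ext hyy
      rwa [← this]
    have h9 : (⊥ : Subgroup ↥Y) = ⊤ := frattini_nongenerating (by rw [h8, bot_sup_eq])
    apply h.H_ne_bot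
    rw [eq_bot_iff]
    intro x hx
    have : (⟨x, h.hHY hx⟩ : ↥Y) ∈ (⊥ : Subgroup ↥Y) := by rw [h9]; exact Subgroup.mem_top _
    rw [Subgroup.mem_bot] at this ⊢
    exact congrArg Subtype.val this
  · -- `[L', Q] = 1`
    have hL₀n : L₀.Normal := by
      constructor
      intro n hn g
      have h2 : g * n * g⁻¹ = ⁅g, n⁆ * n := by rw [commutatorElement_def]; group
      rw [h2]
      refine L₀.mul_mem (le_sup_right (a := H.subgroupOf Y) ?_) hn
      apply Cfsg.Agent.Helper1.IsPGroup.commutator_le_frattini hYt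
      exact Subgroup.commutator_mem_commutator (Subgroup.mem_top g) (Subgroup.mem_top n)
    have hSM : S ≤ Subgroup.normalizer ((L₀.map Y.subtype : Subgroup Γ) : Set Γ) := hinv_of L₀ hL₀inv
    have h3 : ⁅Y, Q⁆ ≤ L₀.map Y.subtype := by
      rw [Subgroup.commutator_le]
      intro y hy q hq
      have hy' : (⟨y, hy⟩ : ↥Y) ∈ L₀ ⊔ L' := by rw [hsup]; exact Subgroup.mem_top _
      obtain ⟨m, hm, l, hl, hml⟩ := Subgroup.mem_sup_of_normal_left.mp hy'
      have hy2 : y = (m : Γ) * (l : Γ) := by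
        have := congrArg Subtype.val hml
        simpa using this.symm
      have hlq : ⁅(l : Γ), q⁆ = 1 := by
        have : ⁅(l : Γ), q⁆ ∈ ⁅L'.map Y.subtype, Q⁆ :=
          Subgroup.commutator_mem_commutator ⟨l, hl, rfl⟩ hq
        rwa [h1, Subgroup.mem_bot] at this
      rw [hy2, commutatorElement_mul_left_eq_conj_mul, hlq, mul_one, mul_inv_cancel, one_mul]
      have hmM : (m : Γ) ∈ L₀.map Y.subtype := ⟨m, hm, rfl⟩
      have h4 : q * (m : Γ)⁻¹ * q⁻¹ ∈ L₀.map Y.subtype :=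
        (Subgroup.mem_normalizer_iff.mp (hSM (h.hQS hq)) _).mp (Subgroup.inv_mem _ hmM)
      have h5 : ⁅(m : Γ), q⁆ = (m : Γ) * (q * (m : Γ)⁻¹ * q⁻¹) := by
        rw [commutatorElement_def]; group
      rw [h5]
      exact Subgroup.mul_mem _ hmM h4
    rw [h.Y_eq_comm] at h3
    have h6 : L₀ = ⊤ := by
      rw [eq_top_iff]
      intro y _
      obtain ⟨y', hy', hyy⟩ := h3 y.2
      have : y' = y := Subtype.ext hyy
      rwa [← this]
    have h7 : H.subgroupOf Y = ⊤ := frattini_nongenerating (by rw [← hL₀]; exact h6)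
    exact Subgroup.subgroupOf_eq_top.mp h7

theorem H_eq_Y (h : IsoAbs p Y H S Q L) : H = Y := le_antisymm h.hHY h.Y_le_H

end IsoAbs

end Cfsg.Agent.Helper2
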