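import Mathlib
import Cfsg.Agent.Helper2.Invol
import Cfsg.Agent.S0208
import Cfsg.Agent.S0209
import Cfsg.Agent.S1180
import Cfsg.Agent.S1185

set_option autoImplicit false

namespace Cfsg.Agent.Helper2.IsoCount

open Cfsg Cfsg.Agent.Helper2

variable {G : Type*} [Group G] [Finite G]

/-- odd order elements inverted by `z` -/
def IsK (z k : G) : Prop := Odd (orderOf k) ∧ z * k * z⁻¹ = k⁻¹

/-- conjugates of `z` -/
def IsT (z t : G) : Prop := ∃ g : G, g * z * g⁻¹ = t

omit [Finite G] in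
theorem isT_conj {z t : G} (ht : IsT z t) (a : G) : IsT z (a * t * a⁻¹) := by
  obtain ⟨g, rfl⟩ := ht
  exact ⟨a * g, by group⟩

theorem K_inj {z : G} (hz : IsIsolatedInvolution z) {k₁ k₂ : G} (h1 : IsK z k₁) (h2 : IsK z k₂)
    (h : k₁ * z * k₁⁻¹ = k₂ * z * k₂⁻¹) : k₁ = k₂ := by
  obtain ⟨k, -, huniq⟩ := Cfsg.Agent.S1185.result z hz k₂
  have e2 : k₂ = k := huniq k₂ ⟨h2, by rw [inv_mul_cancel]; exact Subgroup.one_mem _⟩
  have e1 : k₁ = k := by
    apply huniq k₁ ⟨h1, ?_⟩
    rw [Subgroup.mem_centralizer_singleton_iff]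
    calc k₂⁻¹ * k₁ * z = k₂⁻¹ * (k₁ * z * k₁⁻¹) * k₁ := by group
      _ = k₂⁻¹ * (k₂ * z * k₂⁻¹) * k₁ := by rw [h]
      _ = z * (k₂⁻¹ * k₁) := by group
  rw [e1, e2]

theorem exists_K_of_T {z : G} (hz : IsIsolatedInvolution z) {t : G} (ht : IsT z t) :
    ∃ k, IsK z k ∧ k * z * k⁻¹ = t := by
  obtain ⟨g, rfl⟩ := ht
  obtain ⟨k, ⟨hk, hkc⟩, -⟩ := Cfsg.Agent.S1185.result z hz g
  refine ⟨k, hk, ?_⟩
  rw [Subgroup.mem_centralizer_singleton_iff] at hkc
  calc k * z * k⁻¹ = g * (g⁻¹ * k * z) * k⁻¹ := by group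
    _ = g * (z * (g⁻¹ * k)) * k⁻¹ := by rw [hkc]
    _ = g * z * g⁻¹ := by group

theorem card_eq_card_centralizer_mul_card_K {z : G} (hz : IsIsolatedInvolution z) :
    Nat.card G = Nat.card ↥(Subgroup.centralizer ({z} : Set G)) * Nat.card {k : G // IsK z k} := by
  have hex : ∀ g : G, ∃ k : G, (IsK z k ∧ g⁻¹ * k ∈ Subgroup.centralizer ({z} : Set G)) ∧
      ∀ y : G, (IsK z y ∧ g⁻¹ * y ∈ Subgroup.centralizer ({z} : Set G)) → y = k :=
    fun g => Cfsg.Agent.S1185.result z hz g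
  choose κ hκ huniq using hex
  let f : G → {k : G // IsK z k} × ↥(Subgroup.centralizer ({z} : Set G)) :=
    fun g => (⟨κ g, (hκ g).1⟩, ⟨g⁻¹ * κ g, (hκ g).2⟩)
  have hbij : Function.Bijective f := by
    constructor
    · intro g g' h
      simp only [f, Prod.mk.injEq, Subtype.mk.injEq] at h
      obtain ⟨h1, h2⟩ := h
      rw [h1] at h2
      exact inv_injective (mul_right_cancel h2)
    · rintro ⟨⟨k, hk⟩, ⟨c, hc⟩⟩
      refine ⟨k * c⁻¹, ?_⟩
      have e : (k * c⁻¹)⁻¹ * k = c := by group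
      have hk' : k = κ (k * c⁻¹) := huniq (k * c⁻¹) k ⟨hk, by rw [e]; exact hc⟩
      simp only [f, Prod.mk.injEq, Subtype.mk.injEq]
      refine ⟨hk'.symm, ?_⟩
      rw [← hk', e]
  rw [Nat.card_eq_of_bijective f hbij, Nat.card_prod, mul_comm]

theorem card_K_comm {z : G} (hz : IsIsolatedInvolution z) (x : G) (hx : Commute x z) :
    Nat.card {k : G // Odd (orderOf k) ∧ z * k * z⁻¹ = k⁻¹ ∧ Commute k x} =
      Nat.card {t : G // IsT z t ∧ Commute t x} := by
  let f : {k : G // Odd (orderOf k) ∧ z * k * z⁻¹ = k⁻¹ ∧ Commute k x} →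
      {t : G // IsT z t ∧ Commute t x} :=
    fun k => ⟨k.1 * z * k.1⁻¹, ⟨k.1, rfl⟩,
      (k.2.2.2.mul_left hx.symm).mul_left k.2.2.2.inv_left⟩
  have hbij : Function.Bijective f := by
    constructor
    · intro k₁ k₂ h
      apply Subtype.ext
      exact K_inj hz ⟨k₁.2.1, k₁.2.2.1⟩ ⟨k₂.2.1, k₂.2.2.1⟩ (congrArg Subtype.val h)
    · rintro ⟨t, ht, htx⟩
      obtain ⟨k, hk, hkt⟩ := exists_K_of_T hz ht
      have hk' : IsK z (x * k * x⁻¹) := by
        refine ⟨?_, ?_⟩
        · have : x * k * x⁻¹ = MulAut.conj x k := rfl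
          rw [this, MulEquiv.orderOf_eq]; exact hk.1
        · have hzx : z * x = x * z := hx.eq.symm
          calc z * (x * k * x⁻¹) * z⁻¹ = (z * x) * k * x⁻¹ * z⁻¹ := by group
            _ = x * z * k * x⁻¹ * z⁻¹ := by rw [hzx]
            _ = x * (z * k * z⁻¹) * (z * x⁻¹ * z⁻¹) := by group
            _ = x * k⁻¹ * (z * x⁻¹ * z⁻¹) := by rw [hk.2]
            _ = x * k⁻¹ * ((z * x) * z⁻¹)⁻¹ := by group
            _ = x * k⁻¹ * ((x * z) * z⁻¹)⁻¹ := by rw [hzx]
            _ = (x * k * x⁻¹)⁻¹ := by group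
      have himg : (x * k * x⁻¹) * z * (x * k * x⁻¹)⁻¹ = k * z * k⁻¹ := by
        have hzx : x⁻¹ * z * x = z := by
          calc x⁻¹ * z * x = x⁻¹ * (z * x) := by group
            _ = x⁻¹ * (x * z) := by rw [hx.eq]
            _ = z := by group
        calc (x * k * x⁻¹) * z * (x * k * x⁻¹)⁻¹ = x * (k * (x⁻¹ * z * x) * k⁻¹) * x⁻¹ := by group
          _ = x * t * x⁻¹ := by rw [hzx, hkt]
          _ = t * x * x⁻¹ := by rw [htx.eq]
          _ = k * z * k⁻¹ := by rw [hkt]; group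
      have hcomm : x * k * x⁻¹ = k := K_inj hz hk' hk himg
      have hkx : Commute k x := by
        show k * x = x * k
        calc k * x = (x * k * x⁻¹) * x := by rw [hcomm]
          _ = x * k := by group
      exact ⟨⟨k, hk.1, hk.2, hkx⟩, Subtype.ext hkt⟩
  exact Nat.card_eq_of_bijective f hbij

theorem card_K_eq_card_T {z : G} (hz : IsIsolatedInvolution z) :
    Nat.card {k : G // IsK z k} = Nat.card {t : G // IsT z t} := by
  have h := card_K_comm hz 1 (Commute.one_left z)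
  have e1 : Nat.card {k : G // IsK z k} =
      Nat.card {k : G // Odd (orderOf k) ∧ z * k * z⁻¹ = k⁻¹ ∧ Commute k 1} :=
    Nat.card_congr (Equiv.subtypeEquivRight fun k =>
      ⟨fun h => ⟨h.1, h.2, Commute.one_right k⟩, fun h => ⟨h.1, h.2.1⟩⟩)
  have e2 : Nat.card {t : G // IsT z t ∧ Commute t 1} = Nat.card {t : G // IsT z t} :=
    Nat.card_congr (Equiv.subtypeEquivRight fun t =>
      ⟨fun h => h.1, fun h => ⟨h, Commute.one_right t⟩⟩)
  rw [e1, h, e2]

/-- the central involution of the dihedral group generated by `s` and `t` -/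
noncomputable def wEl (s t : G) : G := (s * t) ^ (orderOf (s * t) / 2)

/-- the conjugate of `t` commuting with `s` -/
noncomputable def phi (s t : G) : G := s * wEl s t

theorem phi_spec {z : G} (hz : IsIsolatedInvolution z) {s : G} (hs : orderOf s = 2)
    (hsT : ¬ IsT z s) {t : G} (ht : IsT z t) :
    IsT z (phi s t) ∧ Commute (wEl s t) s ∧ Commute (wEl s t) t := by
  obtain ⟨g, rfl⟩ := ht
  set t := g * z * g⁻¹ with htdef
  have htiso : IsIsolatedInvolution t := isIsolated_conj hz g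
  have ht2 : orderOf t = 2 := htiso.1
  have hss := mul_self_of_orderOf_two hs
  have htt := mul_self_of_orderOf_two ht2
  have heven : Even (orderOf (s * t)) := by
    rcases Nat.even_or_odd (orderOf (s * t)) with he | ho
    · exact he
    · exfalso
      obtain ⟨d, -, hd⟩ := Cfsg.Agent.S0208.result s t hs ht2 ho
      apply hsT
      refine ⟨d⁻¹ * g, ?_⟩
      have : s = d⁻¹ * t * d := by rw [← hd]; group
      rw [this, htdef]; group
  obtain ⟨hw2, hws, hwt⟩ := Cfsg.Agent.S0209.result s t hs ht2 heven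
  refine ⟨?_, hws, hwt⟩
  obtain ⟨r, hr⟩ := heven
  have hr' : orderOf (s * t) = 2 * r := by rw [hr]; ring
  have hrhalf : orderOf (s * t) / 2 = r := by rw [hr']; simp
  have hrpos : 0 < r := by
    have := orderOf_pos (s * t)
    omega
  have hts : t * s = (s * t)⁻¹ := (inv_mul_invol hss htt).symm
  have hordts : orderOf (t * s) = 2 * r := by rw [hts, orderOf_inv, hr']
  rcases Nat.even_or_odd' r with ⟨k, hk | hk⟩
  · exfalso
    have hpow : (t * s) ^ (2 * r) = 1 := by rw [← hordts]; exact pow_orderOf_eq_one _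
    have hcomm := commute_invol_mul_pow htt hss r hpow
    have hconj : t * (t * s) ^ r = (s * t) ^ k * t * ((s * t) ^ k)⁻¹ := by
      rw [hk]; exact invol_mul_pow_even htt hss k
    have := htiso.2 ((s * t) ^ k) (by rw [← hconj]; exact hcomm)
    rw [← hconj] at this
    have h1 : (t * s) ^ r = 1 := by
      have h2 := congrArg (fun y => t * y) this
      simpa [← mul_assoc, htt] using h2
    have hdvd : orderOf (t * s) ∣ r := orderOf_dvd_of_pow_eq_one h1
    rw [hordts] at hdvd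
    have := Nat.le_of_dvd hrpos hdvd
    omega
  · have hphi : phi s t = (t * s) ^ k * t * ((t * s) ^ k)⁻¹ := by
      unfold phi wEl
      rw [hrhalf, hk]
      exact invol_mul_pow_odd hss htt k
    rw [hphi]
    exact isT_conj ⟨g, rfl⟩ _

theorem phi_eq_of_commute {z : G} (hz : IsIsolatedInvolution z) {s : G} (hs : orderOf s = 2)
    (hsz : Commute s z) (hsT : ¬ IsT z s) {t : G} (ht : IsT z t) (hc : Commute t (s * z)) :
    phi s t = z := by
  obtain ⟨hT, hws, hwt⟩ := phi_spec hz hs hsT ht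
  have hss := mul_self_of_orderOf_two hs
  have h1 : Commute (s * z) (s * t) :=
    Commute.mul_right ((Commute.refl s).mul_left hsz.symm) hc.symm
  have h2 : Commute (s * z) (wEl s t) := h1.pow_right _
  have hz' : z = s * (s * z) := by rw [← mul_assoc, hss, one_mul]
  have h3 : Commute z (wEl s t) := by
    rw [hz']
    exact Commute.mul_left hws.symm h2
  have h4 : Commute z (phi s t) := Commute.mul_right hsz.symm h3
  obtain ⟨g', hg'⟩ := hT
  have := hz.2 g' (by rw [hg']; exact h4)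
  rw [hg'] at this
  exact this

theorem commute_of_phi_eq {z : G} (hz : IsIsolatedInvolution z) {s : G} (hs : orderOf s = 2)
    (hsT : ¬ IsT z s) {t : G} (ht : IsT z t) (h : phi s t = z) : Commute t (s * z) := by
  obtain ⟨-, -, hwt⟩ := phi_spec hz hs hsT ht
  have hss := mul_self_of_orderOf_two hs
  have : s * z = wEl s t := by
    rw [← h]; unfold phi; rw [← mul_assoc, hss, one_mul]
  rw [this]; exact hwt.symm

omit [Finite G] in
theorem phi_conj {s a : G} (ha : Commute a s) (t : G) :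
    phi s (a * t * a⁻¹) = a * phi s t * a⁻¹ := by
  unfold phi wEl
  have e : s * (a * t * a⁻¹) = a * (s * t) * a⁻¹ := by
    calc s * (a * t * a⁻¹) = (s * a) * t * a⁻¹ := by group
      _ = (a * s) * t * a⁻¹ := by rw [ha.eq]
      _ = a * (s * t) * a⁻¹ := by group
  have ho : orderOf (a * (s * t) * a⁻¹) = orderOf (s * t) := by
    have : a * (s * t) * a⁻¹ = MulAut.conj a (s * t) := rfl
    rw [this, MulEquiv.orderOf_eq]
  rw [e, ho, conj_pow]
  calc s * (a * (s * t) ^ (orderOf (s * t) / 2) * a⁻¹)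
      = (s * a) * (s * t) ^ (orderOf (s * t) / 2) * a⁻¹ := by group
    _ = (a * s) * (s * t) ^ (orderOf (s * t) / 2) * a⁻¹ := by rw [ha.eq]
    _ = a * (s * (s * t) ^ (orderOf (s * t) / 2)) * a⁻¹ := by group

theorem card_T_eq {z s : G} (hz : IsIsolatedInvolution z) (hs : orderOf s = 2)
    (hsz : Commute s z) (hne : s ≠ z) :
    Nat.card {t : G // IsT z t} =
      Nat.card {t : G // IsT z t ∧ Commute t s} * Nat.card {t : G // IsT z t ∧ Commute t (s * z)} := by
  have hsT : ¬ IsT z s := by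
    rintro ⟨g, hg⟩
    apply hne
    have := hz.2 g (by rw [hg]; exact hsz.symm)
    rw [hg] at this
    exact this
  have hex : ∀ t' : {t : G // IsT z t ∧ Commute t s}, ∃ a : G, Commute a s ∧ a * z * a⁻¹ = t'.1 := by
    rintro ⟨t', ⟨g, rfl⟩, hc⟩
    obtain ⟨a, haH, ha⟩ := Cfsg.Agent.S1180.result z hz (Subgroup.centralizer ({s} : Set G))
      (Subgroup.mem_centralizer_singleton_iff.mpr hsz.symm.eq) g
      (Subgroup.mem_centralizer_singleton_iff.mpr hc.eq)
    exact ⟨a, Subgroup.mem_centralizer_singleton_iff.mp haH, ha⟩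
  choose α hα1 hα2 using hex
  let Ψ : {t : G // IsT z t ∧ Commute t s} × {t : G // IsT z t ∧ Commute t (s * z)} →
      {t : G // IsT z t} :=
    fun q => ⟨α q.1 * q.2.1 * (α q.1)⁻¹, isT_conj q.2.2.1 _⟩
  have hphiΨ : ∀ q, phi s (Ψ q).1 = q.1.1 := by
    intro q
    show phi s (α q.1 * q.2.1 * (α q.1)⁻¹) = q.1.1
    rw [phi_conj (hα1 q.1), phi_eq_of_commute hz hs hsz hsT q.2.2.1 q.2.2.2, hα2]
  have hbij : Function.Bijective Ψ := by
    constructor
    · intro q q' h
      have h1 : q.1 = q'.1 := by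
        apply Subtype.ext
        rw [← hphiΨ q, ← hphiΨ q', h]
      have h2 : q.2 = q'.2 := by
        apply Subtype.ext
        have h3 := congrArg Subtype.val h
        change α q.1 * q.2.1 * (α q.1)⁻¹ = α q'.1 * q'.2.1 * (α q'.1)⁻¹ at h3
        rw [h1] at h3
        exact mul_left_cancel (mul_right_cancel h3)
      exact Prod.ext h1 h2
    · rintro ⟨t, ht⟩
      obtain ⟨hT, hws, hwt⟩ := phi_spec hz hs hsT ht
      have hcs : Commute (phi s t) s := Commute.mul_left (Commute.refl s) hws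
      set t' : {t : G // IsT z t ∧ Commute t s} := ⟨phi s t, hT, hcs⟩ with ht'
      have hbT : IsT z ((α t')⁻¹ * t * (α t')) := by
        have := isT_conj ht (α t')⁻¹
        rwa [inv_inv] at this
      have hbphi : phi s ((α t')⁻¹ * t * (α t')) = z := by
        have h1 := phi_conj (hα1 t').inv_left t
        rw [inv_inv] at h1
        rw [h1]
        have h2 : phi s t = α t' * z * (α t')⁻¹ := (hα2 t').symm
        rw [h2]; group
      have hbc := commute_of_phi_eq hz hs hsT hbT hbphi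
      refine ⟨(t', ⟨(α t')⁻¹ * t * (α t'), hbT, hbc⟩), ?_⟩
      apply Subtype.ext
      show α t' * ((α t')⁻¹ * t * (α t')) * (α t')⁻¹ = t
      group
  rw [← Nat.card_eq_of_bijective Ψ hbij, Nat.card_prod]

theorem card_T_comm_self {z : G} (hz : IsIsolatedInvolution z) :
    Nat.card {t : G // IsT z t ∧ Commute t z} = 1 := by
  rw [Nat.card_eq_one_iff_unique]
  refine ⟨⟨?_⟩, ⟨⟨z, ⟨1, by simp⟩, Commute.refl z⟩⟩⟩
  rintro ⟨t, ⟨g, rfl⟩, hc⟩ ⟨t', ⟨g', rfl⟩, hc'⟩
  apply Subtype.ext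
  show g * z * g⁻¹ = g' * z * g'⁻¹
  rw [hz.2 g hc.symm, hz.2 g' hc'.symm]

/-- Glauberman's counting formula for an isolated involution. -/
theorem card_formula {z : G} (hz : IsIsolatedInvolution z) (s : G) (hs : orderOf s = 2)
    (hsz : Commute s z) :
    Nat.card G = Nat.card (Subgroup.centralizer ({z} : Set G)) *
      Nat.card {k : G // Odd (orderOf k) ∧ z * k * z⁻¹ = k⁻¹ ∧ Commute k (s * z)} *
      Nat.card {k : G // Odd (orderOf k) ∧ z * k * z⁻¹ = k⁻¹ ∧ Commute k s} := by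
  have hzz := mul_self_of_orderOf_two hz.1
  rw [card_K_comm hz (s * z) (Commute.mul_left hsz (Commute.refl z)), card_K_comm hz s hsz,
    card_eq_card_centralizer_mul_card_K hz, card_K_eq_card_T hz, mul_assoc]
  congr 1
  by_cases hne : s = z
  · subst hne
    rw [card_T_comm_self hz, mul_one, hzz]
    exact Nat.card_congr (Equiv.subtypeEquivRight fun t =>
      ⟨fun h => ⟨h, Commute.one_right t⟩, fun h => h.1⟩)
  · rw [card_T_eq hz hs hsz hne, mul_comm]

end Cfsg.Agent.Helper2.IsoCount
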