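import Mathlib
import Cfsg.Prelude.Def_Local
import Cfsg.Agent.Helper2.IsoB
import Cfsg.Agent.Helper2.IsoC
import Cfsg.Agent.Helper2.Layer
import Cfsg.Agent.Helper2.Layer3
import Cfsg.Agent.Gagola.H8_SolvCam

set_option autoImplicit false
set_option linter.unusedSectionVars false

/-!
# Isolated `p`-minimal subgroups (S3045), part D: the two conclusions
-/

namespace Cfsg.Agent.Helper2

open Cfsg Cfsg.Agent.Helper5
open scoped commutatorElement

variable {G : Type*} [Group G]

theorem iso_pCore_char (p : ℕ) (X : Type*) [Group X] : (Cfsg.pCore p X).Characteristic := by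
  rw [Subgroup.characteristic_iff_map_le]
  intro φ
  unfold Cfsg.pCore
  rw [Subgroup.map_le_iff_le_comap]
  apply sSup_le
  intro N hN
  rw [← Subgroup.map_le_iff_le_comap]
  apply le_sSup
  exact ⟨hN.1.map φ.toMonoidHom φ.surjective, hN.2.map _⟩

namespace IsoSetup

variable [Finite G] {p : ℕ} [Fact p.Prime] {S : Sylow p G} {P : Subgroup G}

/-- The normal closure of `O^p(P)` lies in the normal closure of `Q`. -/
theorem Y_le_normalClosure_Q (h : IsoSetup S P) :
    Subgroup.normalClosure ((Cfsg.pResidualOf p P : Subgroup G) : Set G) ≤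
      Subgroup.normalClosure ((Cfsg.pCoreOf p (isoL S P) : Subgroup G) : Set G) :=
  Subgroup.normalClosure_le_normal h.H_le_normalClosure_Q

/-- KEY LEMMA for `Y`. -/
theorem comm_Y_le (h : IsoSetup S P) (N : Subgroup G) [hN : N.Normal]
    (hHN : ¬ Cfsg.pResidualOf p P ≤ N) :
    ⁅N, Subgroup.normalClosure ((Cfsg.pResidualOf p P : Subgroup G) : Set G)⁆ ≤ Cfsg.pCore p G :=
  (Subgroup.commutator_mono le_rfl h.Y_le_normalClosure_Q).trans (h.comm_normalClosure_le N hHN)

/-- S3045 (1): `O^p(P)` lies in the preimage of `F*(G / O_p(G))`. -/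
theorem H_le_comap_gfs (h : IsoSetup S P) [hn : (Cfsg.pCore p G).Normal] :
    Cfsg.pResidualOf p P ≤ (Cfsg.generalizedFittingSubgroup (G ⧸ Cfsg.pCore p G)).comap
      (QuotientGroup.mk' (Cfsg.pCore p G)) := by
  set K := Cfsg.pCore p G with hK
  set π := QuotientGroup.mk' K with hπ
  have hπs : Function.Surjective π := QuotientGroup.mk'_surjective K
  set F := Cfsg.generalizedFittingSubgroup (G ⧸ K) with hF
  set H := Cfsg.pResidualOf p P with hH
  set Y := Subgroup.normalClosure ((H : Subgroup G) : Set G) with hY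
  have hFn : F.Normal := inferInstance
  have hYn : Y.Normal := inferInstance
  by_contra hcon
  have hNn : (Y ⊓ F.comap π).Normal := inferInstance
  have hHN : ¬ H ≤ Y ⊓ F.comap π := fun h' => hcon (h'.trans inf_le_right)
  have h1 : ⁅Y ⊓ F.comap π, Y⁆ ≤ K := h.comm_Y_le _ hHN
  have hYbn : (Y.map π).Normal := hYn.map π hπs
  have h2 : ⁅Y.map π ⊓ F, Y.map π⁆ = ⊥ := by
    have h3 : Y.map π ⊓ F ≤ (Y ⊓ F.comap π).map π := by
      rintro _ ⟨⟨y, hy, rfl⟩, hx2⟩
      exact ⟨y, ⟨hy, hx2⟩, rfl⟩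
    rw [eq_bot_iff]
    refine (Subgroup.commutator_mono h3 le_rfl).trans ?_
    rw [← Subgroup.map_commutator]
    rintro _ ⟨x, hx, rfl⟩
    rw [Subgroup.mem_bot, hπ, QuotientGroup.mk'_apply, QuotientGroup.eq_one_iff]
    exact h1 hx
  have h3 : ⁅⁅Y.map π, F⁆, Y.map π⁆ = ⊥ := by
    rw [eq_bot_iff, ← h2]
    exact Subgroup.commutator_mono (Subgroup.commutator_le_inf _ _) le_rfl
  have h4 : ⁅⁅F, Y.map π⁆, Y.map π⁆ = ⊥ := by
    rw [Subgroup.commutator_comm F]; exact h3
  have h5 : ⁅⁅Y.map π, Y.map π⁆, F⁆ = ⊥ := Subgroup.commutator_commutator_eq_bot_of_rotate h3 h4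
  have h6 : ⁅Y.map π, Y.map π⁆ ≤ F := by
    rw [Subgroup.commutator_eq_bot_iff_le_centralizer] at h5
    exact h5.trans centralizer_generalizedFittingSubgroup_le
  have h7 : ⁅⁅Y.map π, Y.map π⁆, Y.map π⁆ = ⊥ := by
    rw [eq_bot_iff, ← h2]
    exact Subgroup.commutator_mono (le_inf (Subgroup.commutator_le_left _ _) h6) le_rfl
  have h8 : Group.IsNilpotent ↥(Y.map π) :=
    Subgroup.isNilpotent_of_lowerCentralSeries_eq_bot (n := 2) h7
  have h9 : Y.map π ≤ Cfsg.fittingSubgroup (G ⧸ K) := le_sSup ⟨hYbn, h8⟩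
  apply hcon
  intro x hx
  rw [Subgroup.mem_comap]
  exact fittingSubgroup_le_generalizedFittingSubgroup
    (h9 ⟨x, Subgroup.le_normalClosure hx, rfl⟩)

theorem H_ne_bot (h : IsoSetup S P) : Cfsg.pResidualOf p P ≠ ⊥ := by
  intro h0
  apply h.not_comm_le
  rw [h0, Subgroup.commutator_le]
  intro a ha b _
  rw [Subgroup.mem_bot] at ha
  rw [ha, commutatorElement_one_left]
  exact Subgroup.one_mem _

/-- `O_p(G) ≤ O_p(P)`. -/
theorem pCore_le_OpP (h : IsoSetup S P) : Cfsg.pCore p G ≤ Cfsg.pCoreOf p P := by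
  have hKn : (Cfsg.pCore p G).Normal := Cfsg.Agent.Helper4.pCore_normal
  apply le_pCore_map_subtype P (Cfsg.pCore p G) ((pCore_le_sylow S).trans h.hSP) (isPGroup_pCore p)
  rw [Subgroup.normalizer_eq_top]; exact le_top

/-- `G = Y L`. -/
theorem Y_sup_L (h : IsoSetup S P) :
    Subgroup.normalClosure ((Cfsg.pResidualOf p P : Subgroup G) : Set G) ⊔ isoL S P = ⊤ := by
  have hP : P ≤ Subgroup.normalClosure ((Cfsg.pResidualOf p P : Subgroup G) : Set G) ⊔ isoL S P :=
    calc P = Cfsg.pResidualOf p P ⊔ (S : Subgroup G) := h.H_sup_S.symm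
      _ ≤ _ := sup_le (Subgroup.le_normalClosure.trans le_sup_left)
          ((iso_S_le_L S P).trans le_sup_right)
  rw [eq_top_iff, ← iso_L_sup_P S P]
  exact sup_le le_sup_right hP

/-- If `Y` is solvable then `O^p(P)` is not contained in `[Y, Y]`. -/
theorem not_H_le_comm (h : IsoSetup S P)
    (hsolv : Group.IsSolvable ↥(Subgroup.normalClosure ((Cfsg.pResidualOf p P : Subgroup G) : Set G))) :
    ¬ Cfsg.pResidualOf p P ≤
      ⁅Subgroup.normalClosure ((Cfsg.pResidualOf p P : Subgroup G) : Set G),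
        Subgroup.normalClosure ((Cfsg.pResidualOf p P : Subgroup G) : Set G)⁆ := by
  set H := Cfsg.pResidualOf p P with hH
  set Y := Subgroup.normalClosure ((H : Subgroup G) : Set G) with hY
  intro hle
  have h1 : Y ≤ ⁅Y, Y⁆ := Subgroup.normalClosure_le_normal hle
  have hYne : Y ≠ ⊥ := by
    intro h0
    apply h.H_ne_bot
    rw [eq_bot_iff, ← h0]
    exact Subgroup.le_normalClosure
  have hnt : Nontrivial ↥Y := (Subgroup.nontrivial_iff_ne_bot Y).mpr hYne
  have h2 := Group.IsSolvable.commutator_lt_top_of_nontrivial (G := ↥Y)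
  apply h2.ne
  rw [eq_top_iff]
  intro y _
  have h3 : (y : G) ∈ ⁅Y, Y⁆ := h1 y.2
  have h4 : (⁅(⊤ : Subgroup ↥Y), (⊤ : Subgroup ↥Y)⁆ : Subgroup ↥Y).map Y.subtype = ⁅Y, Y⁆ := by
    rw [Subgroup.map_commutator, ← MonoidHom.range_eq_map, Subgroup.range_subtype]
  rw [← h4] at h3
  obtain ⟨y', hy', hyy⟩ := h3
  have : y' = y := Subtype.ext hyy
  rw [commutator_def, ← this]
  exact hy'

/-- The hypotheses of the abstract lemma hold in `G / O_p(G)` when `Y` is solvable. -/
theorem isoAbs (h : IsoSetup S P) [hn : (Cfsg.pCore p G).Normal]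
    (hsolv : Group.IsSolvable ↥(Subgroup.normalClosure ((Cfsg.pResidualOf p P : Subgroup G) : Set G))) :
    IsoAbs p
      ((Subgroup.normalClosure ((Cfsg.pResidualOf p P : Subgroup G) : Set G)).map
        (QuotientGroup.mk' (Cfsg.pCore p G)))
      ((Cfsg.pResidualOf p P).map (QuotientGroup.mk' (Cfsg.pCore p G)))
      ((S : Subgroup G).map (QuotientGroup.mk' (Cfsg.pCore p G)))
      ((Cfsg.pCoreOf p (isoL S P)).map (QuotientGroup.mk' (Cfsg.pCore p G)))
      ((isoL S P).map (QuotientGroup.mk' (Cfsg.pCore p G))) := by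
  set K := Cfsg.pCore p G with hK
  set π := QuotientGroup.mk' K with hπ
  have hπs : Function.Surjective π := QuotientGroup.mk'_surjective K
  have hker : ∀ x : G, π x = 1 ↔ x ∈ K := fun x => by
    rw [hπ, QuotientGroup.mk'_apply, QuotientGroup.eq_one_iff]
  set H := Cfsg.pResidualOf p P with hH
  set Q := Cfsg.pCoreOf p (isoL S P) with hQ
  set Y := Subgroup.normalClosure ((H : Subgroup G) : Set G) with hY
  have hYn : Y.Normal := inferInstance
  have hYbn : (Y.map π).Normal := hYn.map π hπs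
  have hcl2 : ⁅⁅Y.map π, Y.map π⁆, Y.map π⁆ = ⊥ := by
    have hcn : (⁅Y, Y⁆).Normal := inferInstance
    have h1 : ⁅⁅Y, Y⁆, Y⁆ ≤ K := h.comm_Y_le ⁅Y, Y⁆ (h.not_H_le_comm hsolv)
    rw [← Subgroup.map_commutator, ← Subgroup.map_commutator, eq_bot_iff]
    rintro _ ⟨x, hx, rfl⟩
    rw [Subgroup.mem_bot, hker]
    exact h1 hx
  have hYnil : Group.IsNilpotent ↥(Y.map π) :=
    Subgroup.isNilpotent_of_lowerCentralSeries_eq_bot (n := 2) hcl2
  refine ⟨hYbn, hcl2, ?_, Subgroup.map_mono Subgroup.le_normalClosure, S.2.map π,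
    Subgroup.map_mono h.Q_le_S, Subgroup.map_mono (iso_S_le_L S P), ?_, ?_, ?_, ?_, ?_, ?_⟩
  · -- `Y / O_p` is a `p'`-group
    obtain ⟨T⟩ : Nonempty (Sylow p ↥(Y.map π)) := inferInstance
    have hTn : (T : Subgroup ↥(Y.map π)).Normal := inferInstance
    have hTsub : ((T : Subgroup ↥(Y.map π)).map (Y.map π).subtype).IsSubnormal := by
      refine Subgroup.IsSubnormal.step _ (Y.map π) (Subgroup.map_subtype_le _) hYbn.isSubnormal ?_
      have : ((T : Subgroup ↥(Y.map π)).map (Y.map π).subtype).subgroupOf (Y.map π) =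
          (T : Subgroup ↥(Y.map π)) := by
        ext x
        rw [Subgroup.mem_subgroupOf]
        constructor
        · rintro ⟨x', hx', hxx⟩
          have : x' = x := Subtype.ext hxx
          rwa [← this]
        · intro hx
          exact ⟨x, hx, rfl⟩
      rw [this]
      exact hTn
    have hT1 : (T : Subgroup ↥(Y.map π)).map (Y.map π).subtype ≤ Cfsg.pCore p (G ⧸ K) :=
      Cfsg.Agent.Helper1.le_pCore_of_isSubnormal hTsub (T.isPGroup'.map _)
    rw [Cfsg.Agent.Gagola.pCore_quotient_pCore_eq_bot, le_bot_iff,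
      Subgroup.map_eq_bot_iff_of_injective _ (Subgroup.subtype_injective _)] at hT1
    have h2 := T.not_dvd_index
    rw [hT1, Subgroup.index_bot] at h2
    exact ((Nat.Prime.coprime_iff_not_dvd (Fact.out : p.Prime)).mpr h2).symm
  · exact (Subgroup.map_mono h.L_le_normalizer_Q).trans (Subgroup.le_normalizer_map π)
  · exact (Subgroup.map_mono (h.hSP.trans h.P_le_normalizer_H)).trans (Subgroup.le_normalizer_map π)
  · -- the dichotomy
    intro Nb hNb hSNb
    have hSN : (S : Subgroup G) ≤ Subgroup.normalizer ((Y ⊓ Nb.comap π : Subgroup G) : Set G) := by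
      intro s hs
      apply mem_normalizer_inf
      · rw [Subgroup.normalizer_eq_top]; exact Subgroup.mem_top s
      · apply Subgroup.le_normalizer_comap π
        rw [Subgroup.mem_comap]
        exact hSNb ⟨s, hs, rfl⟩
    have hmap : Nb ≤ (Y ⊓ Nb.comap π).map π := by
      intro x hx
      obtain ⟨y, hy, rfl⟩ := hNb hx
      exact ⟨y, ⟨hy, hx⟩, rfl⟩
    by_cases hHN : H ≤ Y ⊓ Nb.comap π
    · left
      rw [Subgroup.map_le_iff_le_comap]
      exact hHN.trans inf_le_right
    · right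
      exact hmap.trans (Subgroup.map_mono (le_sup_left.trans (h.le_L_of_not_le _ hSN hHN)))
  · -- `[H, Q] ≠ 1` modulo `O_p(G)`
    intro h0
    apply h.not_comm_le
    refine le_trans ?_ h.pCore_le_OpP
    intro x hx
    rw [← hker, ← Subgroup.mem_bot, ← h0, ← Subgroup.map_commutator]
    exact ⟨x, hx, rfl⟩
  · rw [← Subgroup.map_sup, h.Y_sup_L, ← MonoidHom.range_eq_map, MonoidHom.range_eq_top]
    exact hπs
  · intro Nb hNbn hHNb
    have : (Nb.comap π).Normal := hNbn.comap π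
    rw [Subgroup.map_le_iff_le_comap] at hHNb ⊢
    exact Subgroup.normalClosure_le_normal hHNb

/-- S3045 (2), first half: `Y = O^p(P)` when `Y` is solvable. -/
theorem H_eq_Y (h : IsoSetup S P)
    (hsolv : Group.IsSolvable ↥(Subgroup.normalClosure ((Cfsg.pResidualOf p P : Subgroup G) : Set G))) :
    Cfsg.pResidualOf p P = Subgroup.normalClosure ((Cfsg.pResidualOf p P : Subgroup G) : Set G) := by
  have hn : (Cfsg.pCore p G).Normal := Cfsg.Agent.Helper4.pCore_normal
  have habs := h.isoAbs hsolv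
  have hHY := habs.H_eq_Y
  set K := Cfsg.pCore p G with hK
  set π := QuotientGroup.mk' K with hπ
  set H := Cfsg.pResidualOf p P with hH
  set Y := Subgroup.normalClosure ((H : Subgroup G) : Set G) with hY
  have hYn : Y.Normal := inferInstance
  have hHleY : H ≤ Y := Subgroup.le_normalClosure
  have hYHK : Y ≤ H ⊔ K := by
    intro y hy
    have h1 : π y ∈ H.map π := by rw [hHY]; exact ⟨y, hy, rfl⟩
    obtain ⟨h', hh', hhy⟩ := h1
    have h2 : h'⁻¹ * y ∈ K := by
      rw [← QuotientGroup.eq_one_iff, ← QuotientGroup.mk'_apply, ← hπ, map_mul, map_inv, hhy,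
        inv_mul_cancel]
    have h3 : y = h' * (h'⁻¹ * y) := by group
    rw [h3]
    exact Subgroup.mul_mem _ (Subgroup.mem_sup_left hh') (Subgroup.mem_sup_right h2)
  have hKH : K ≤ Subgroup.normalizer (H : Set G) :=
    (pCore_le_sylow S).trans (h.hSP.trans h.P_le_normalizer_H)
  have hHdef : H = Subgroup.closure {g : G | g ∈ P ∧ (orderOf g).Coprime p} :=
    map_subtype_pResidual p P
  have hconj : ∀ x : G, H ≤ H.comap (MulAut.conj x).toMonoidHom := by
    intro x
    conv_lhs => rw [hHdef]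
    rw [Subgroup.closure_le]
    rintro g ⟨hgP, hg⟩
    have hgH : g ∈ H := by rw [hHdef]; exact Subgroup.subset_closure ⟨hgP, hg⟩
    show x * g * x⁻¹ ∈ H
    have h1 : x * g * x⁻¹ ∈ H ⊔ K := hYHK (hYn.conj_mem g (hHleY hgH) x)
    have h2 : orderOf (x * g * x⁻¹) = orderOf g := (MulAut.conj x).orderOf_eq g
    exact iso_mem_of_coprime H K (isPGroup_pCore p) hKH h1 (h2 ▸ hg)
  have hHn : H.Normal := ⟨fun n hn x => hconj x hn⟩
  exact le_antisymm hHleY (Subgroup.normalClosure_le_normal le_rfl)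

/-- S3045 (2), second half: `Y / O_p(Y)` is a `t`-group of class at most two. -/
theorem quotient_Y (h : IsoSetup S P) (Y : Subgroup G)
    (hY : Y = Subgroup.normalClosure ((Cfsg.pResidualOf p P : Subgroup G) : Set G))
    (hsolv : Group.IsSolvable ↥Y) :
    ∃ _ : (Cfsg.pCore p ↥Y).Normal, ∃ t : ℕ, t.Prime ∧ t ≠ p ∧
      IsPGroup t (↥Y ⧸ Cfsg.pCore p ↥Y) ∧
      ∃ _ : Group.IsNilpotent (↥Y ⧸ Cfsg.pCore p ↥Y),
        Group.nilpotencyClass (↥Y ⧸ Cfsg.pCore p ↥Y) ≤ 2 := by
  subst hY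
  have hn : (Cfsg.pCore p G).Normal := Cfsg.Agent.Helper4.pCore_normal
  have habs := h.isoAbs hsolv
  obtain ⟨t, ht, htp, hYt⟩ := habs.exists_prime
  have hcl2 := habs.hcl2
  set K := Cfsg.pCore p G with hK
  set π := QuotientGroup.mk' K with hπ
  have hker : ∀ x : G, π x = 1 ↔ x ∈ K := fun x => by
    rw [hπ, QuotientGroup.mk'_apply, QuotientGroup.eq_one_iff]
  set H := Cfsg.pResidualOf p P with hH
  set Y := Subgroup.normalClosure ((H : Subgroup G) : Set G) with hY
  have hYn : Y.Normal := inferInstance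
  have hKyc : (Cfsg.pCore p ↥Y).Characteristic := iso_pCore_char p ↥Y
  have hKyn : (Cfsg.pCore p ↥Y).Normal := inferInstance
  have hKy : K.subgroupOf Y ≤ Cfsg.pCore p ↥Y :=
    le_pCore inferInstance (isPGroup_pCore p).comap_subtype
  refine ⟨hKyn, t, ht, htp, ?_, ?_⟩
  · intro x
    obtain ⟨y, rfl⟩ := QuotientGroup.mk_surjective x
    obtain ⟨k, hk⟩ := hYt ⟨π y, ⟨y, y.2, rfl⟩⟩
    refine ⟨k, ?_⟩
    rw [← QuotientGroup.mk_pow, QuotientGroup.eq_one_iff]
    apply hKy
    rw [Subgroup.mem_subgroupOf, ← hker]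
    have := congrArg Subtype.val hk
    simpa using this
  · have h1 : Subgroup.lowerCentralSeries (⊤ : Subgroup (↥Y ⧸ Cfsg.pCore p ↥Y)) 2 = ⊥ := by
      have h2 : (⊤ : Subgroup (↥Y ⧸ Cfsg.pCore p ↥Y)) =
          (⊤ : Subgroup ↥Y).map (QuotientGroup.mk' (Cfsg.pCore p ↥Y)) := by
        rw [← MonoidHom.range_eq_map]
        exact (MonoidHom.range_eq_top.mpr (QuotientGroup.mk'_surjective _)).symm
      rw [h2, ← Subgroup.map_lowerCentralSeries, eq_bot_iff]
      rintro _ ⟨y, hy, rfl⟩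
      rw [Subgroup.mem_bot, QuotientGroup.mk'_apply, QuotientGroup.eq_one_iff]
      apply hKy
      rw [Subgroup.mem_subgroupOf, ← hker]
      have h3 : (y : G) ∈ Y.lowerCentralSeries 2 := by
        rw [← Subgroup.top_subtype_lowerCentralSeries]
        exact ⟨y, hy, rfl⟩
      have h4 : π (y : G) ∈ (Y.map π).lowerCentralSeries 2 := by
        rw [← Subgroup.map_lowerCentralSeries]
        exact ⟨y, h3, rfl⟩
      have h5 : (Y.map π).lowerCentralSeries 2 = ⊥ := hcl2
      rw [h5, Subgroup.mem_bot] at h4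
      exact h4
    have hnil : Group.IsNilpotent (↥Y ⧸ Cfsg.pCore p ↥Y) :=
      Subgroup.nilpotent_iff_lowerCentralSeries.mpr ⟨2, h1⟩
    exact ⟨hnil, Subgroup.lowerCentralSeries_eq_bot_iff_nilpotencyClass_le.mp h1⟩

end IsoSetup

end Cfsg.Agent.Helper2
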