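import Mathlib
import Cfsg.Prelude.Def_Local
import Cfsg.Agent.Helper1.SylowInt
import Cfsg.Agent.Helper1.Coprime
import Cfsg.Agent.Helper4.HallConverseB
import Cfsg.Agent.Helper2.Conj

set_option autoImplicit false
set_option linter.unusedSectionVars false

/-!
# Isolated `p`-minimal subgroups (S3044), part E: the abstract setting modulo `O_p(G)`, `p'`-case

`Γ` a finite group without nontrivial subnormal `p`-subgroups, `Y ⊴ Γ` the normal closure of `H`,
`S ≥ Q` a `p`-group, `L ≥ S` normalizing `Q`, `Γ = Y L`, `Y ≤ ⟨Q^Γ⟩`, `[H, Q] ≠ 1`, and every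
`S`-invariant subgroup of `Y` either contains `H` or lies in `L`.

If `Y` is a `p'`-group then `Y` is a `t`-group for some prime `t`.
-/

namespace Cfsg.Agent.Helper2

open scoped commutatorElement

variable {Γ : Type*} [Group Γ]

/-- The hypotheses of the abstract setting. -/
structure IsoQ (p : ℕ) (Y H S Q L : Subgroup Γ) : Prop where
  hYn : Y.Normal
  hHY : H ≤ Y
  hS : IsPGroup p S
  hQS : Q ≤ S
  hSL : S ≤ L
  hLQ : L ≤ Subgroup.normalizer (Q : Set Γ)
  hdich : ∀ N : Subgroup Γ, N ≤ Y → S ≤ Subgroup.normalizer (N : Set Γ) → H ≤ N ∨ N ≤ L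
  hHQ : ⁅H, Q⁆ ≠ ⊥
  hYL : Y ⊔ L = ⊤
  hgen : ∀ N : Subgroup Γ, N.Normal → H ≤ N → Y ≤ N
  hYW : Y ≤ Subgroup.normalClosure (Q : Set Γ)
  hOp : ∀ N : Subgroup Γ, N.IsSubnormal → IsPGroup p N → N = ⊥
  hFs : Y ≤ Cfsg.generalizedFittingSubgroup Γ

namespace IsoQ

variable [Finite Γ] {p : ℕ} [Fact p.Prime] {Y H S Q L : Subgroup Γ}

theorem Q_isPGroup (h : IsoQ p Y H S Q L) : IsPGroup p Q := h.hS.to_le h.hQS

theorem H_ne_bot (h : IsoQ p Y H S Q L) : H ≠ ⊥ := by
  intro h0
  apply h.hHQ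
  rw [h0, Subgroup.commutator_eq_bot_iff_le_centralizer]
  exact bot_le

theorem not_H_le_centralizer (h : IsoQ p Y H S Q L) :
    ¬ H ≤ Subgroup.centralizer (Q : Set Γ) := by
  intro h1
  exact h.hHQ (Subgroup.commutator_eq_bot_iff_le_centralizer.mpr h1)

/-- An `S`-invariant subgroup `N` of `Y` contains `H` or `[N, Q] ≤ N ⊓ Q` with `N ≤ L`. -/
theorem dich2 (h : IsoQ p Y H S Q L) (N : Subgroup Γ) (hN : N ≤ Y)
    (hSN : S ≤ Subgroup.normalizer (N : Set Γ)) : H ≤ N ∨ (N ≤ L ∧ ⁅N, Q⁆ ≤ N ⊓ Q) := by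
  rcases h.hdich N hN hSN with h1 | h1
  · exact Or.inl h1
  · right
    refine ⟨h1, le_inf ?_ ?_⟩
    · exact Subgroup.le_normalizer_iff_commutator_le_left.1 (h.hQS.trans hSN)
    · rw [Subgroup.commutator_comm]
      exact Subgroup.le_normalizer_iff_commutator_le_left.1 (h1.trans h.hLQ)

/-- An `S`-invariant `p'`-subgroup `N` of `Y` contains `H` or is centralized by `Q`. -/
theorem dich_coprime (h : IsoQ p Y H S Q L) (N : Subgroup Γ) (hN : N ≤ Y)
    (hSN : S ≤ Subgroup.normalizer (N : Set Γ)) (hcop : (Nat.card N).Coprime p) :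
    H ≤ N ∨ N ≤ Subgroup.centralizer (Q : Set Γ) := by
  rcases h.dich2 N hN hSN with h1 | ⟨-, h1⟩
  · exact Or.inl h1
  · right
    obtain ⟨k, hk⟩ := IsPGroup.iff_card.mp h.Q_isPGroup
    have h4 : N ⊓ Q = ⊥ := by
      apply (Subgroup.disjoint_of_coprime_natCard _).eq_bot
      rw [hk]
      exact Nat.Coprime.pow_right _ hcop
    rw [h4, le_bot_iff, Subgroup.commutator_comm,
      Subgroup.commutator_eq_bot_iff_le_centralizer] at h1
    intro n hn q hq
    exact (h1 hq n hn).symm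

/-- An `S`-invariant subgroup `N ⊴ Y` contains `H` or is centralized by `Q`. -/
theorem dich_normal (h : IsoQ p Y H S Q L) (N : Subgroup Γ) (hN : N ≤ Y)
    (hSN : S ≤ Subgroup.normalizer (N : Set Γ)) (hYN : Y ≤ Subgroup.normalizer (N : Set Γ)) :
    H ≤ N ∨ N ≤ Subgroup.centralizer (Q : Set Γ) := by
  rcases h.dich2 N hN hSN with h1 | ⟨hNL, h1⟩
  · exact Or.inl h1
  · right
    have hYn := h.hYn
    have h4 : N ⊓ Q = ⊥ := by
      apply h.hOp _ _ (h.Q_isPGroup.to_le inf_le_right)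
      have hNsn : N.IsSubnormal := by
        refine Subgroup.IsSubnormal.step N Y hN hYn.isSubnormal ?_
        rwa [Subgroup.normal_subgroupOf_iff_le_normalizer hN]
      refine Subgroup.IsSubnormal.step (N ⊓ Q) N inf_le_left hNsn ?_
      rw [Subgroup.normal_subgroupOf_iff_le_normalizer inf_le_left]
      intro n hn
      rw [Subgroup.mem_normalizer_iff]
      intro x
      have h5 := (Subgroup.mem_normalizer_iff.mp (Subgroup.le_normalizer hn)) x
      have h6 := (Subgroup.mem_normalizer_iff.mp (h.hLQ (hNL hn))) x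
      rw [Subgroup.mem_inf, Subgroup.mem_inf, h5, h6]
    rw [h4, le_bot_iff, Subgroup.commutator_comm,
      Subgroup.commutator_eq_bot_iff_le_centralizer] at h1
    intro n hn q hq
    exact (h1 hq n hn).symm

/-- KEY LEMMA: a normal subgroup of `Γ` inside `Y` not containing `H` is centralized by `Y`. -/
theorem key (h : IsoQ p Y H S Q L) (N : Subgroup Γ) [hNn : N.Normal] (hN : N ≤ Y)
    (hHN : ¬ H ≤ N) : Y ≤ Subgroup.centralizer (N : Set Γ) := by
  have h1 : N ≤ Subgroup.centralizer (Q : Set Γ) := by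
    rcases h.dich_normal N hN (by rw [Subgroup.normalizer_eq_top]; exact le_top)
      (by rw [Subgroup.normalizer_eq_top]; exact le_top) with h2 | h2
    · exact absurd h2 hHN
    · exact h2
  have h2 : Q ≤ Subgroup.centralizer (N : Set Γ) := by
    intro q hq n hn
    exact (h1 hn q hq).symm
  exact h.hYW.trans (Subgroup.normalClosure_le_normal h2)

/-- If `Y` is a `p'`-group then it is a `t`-group for a prime `t`. -/
theorem exists_prime_of_coprime (h : IsoQ p Y H S Q L) (hcop : (Nat.card Y).Coprime p) :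
    ∃ t : ℕ, t.Prime ∧ IsPGroup t Y := by
  have hYn := h.hYn
  have hSY : S ≤ Subgroup.normalizer (Y : Set Γ) := by
    rw [Subgroup.normalizer_eq_top]; exact le_top
  have hcopSY : (Nat.card S).Coprime (Nat.card Y) := by
    obtain ⟨k, hk⟩ := IsPGroup.iff_card.mp h.hS
    rw [hk]
    exact (Nat.Coprime.pow_right k hcop).symm
  have hSsolv : Group.IsSolvable S := by
    have := h.hS.isNilpotent
    infer_instance
  -- invariant Sylow subgroups
  have key : ∀ r : ℕ, r.Prime → ∃ R : Subgroup Γ, R ≤ Y ∧ IsPGroup r R ∧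
      ¬ r ∣ (R.subgroupOf Y).index ∧ S ≤ Subgroup.normalizer (R : Set Γ) ∧
      ((R.subgroupOf Y).Normal → (R.subgroupOf Y).Characteristic) := by
    intro r hr
    have : Fact r.Prime := ⟨hr⟩
    obtain ⟨R, hR⟩ := Cfsg.Agent.Helper1.exists_invariant_sylow (p := r) S Y hSY hcopSY
      (Or.inl hSsolv)
    have hRR : ((R : Subgroup Y).map Y.subtype).subgroupOf Y = R := by
      ext x
      rw [Subgroup.mem_subgroupOf]
      constructor
      · rintro ⟨x', hx', hxx⟩
        have : x' = x := Subtype.ext hxx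
        rwa [← this]
      · intro hx
        exact ⟨x, hx, rfl⟩
    refine ⟨(R : Subgroup Y).map Y.subtype, Subgroup.map_subtype_le _, R.isPGroup'.map _, ?_,
      hR, ?_⟩
    · rw [hRR]; exact R.not_dvd_index
    · intro hn
      rw [hRR] at hn ⊢
      exact Sylow.characteristic_of_normal R hn
  choose R hRY hRp hRidx hRS hRchar using key
  set C := Y ⊓ Subgroup.centralizer (Q : Set Γ) with hC
  have hsub : ∀ {A B : Subgroup Γ}, A ≤ B → A.subgroupOf Y ≤ B.subgroupOf Y := by
    intro A B hAB x hx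
    exact hAB hx
  have hcase : ∀ r (hr : r.Prime), H ≤ R r hr ∨ R r hr ≤ C := by
    intro r hr
    have hcopR : (Nat.card (R r hr)).Coprime p :=
      Nat.Coprime.coprime_dvd_left (Subgroup.card_dvd_of_le (hRY r hr)) hcop
    rcases h.dich_coprime (R r hr) (hRY r hr) (hRS r hr) hcopR with h1 | h1
    · exact Or.inl h1
    · exact Or.inr (le_inf (hRY r hr) h1)
  -- some prime `t` with `H ≤ R t`
  have hex : ∃ t, ∃ ht : t.Prime, H ≤ R t ht := by
    by_contra hcon
    have hall : ∀ r (hr : r.Prime), R r hr ≤ C := fun r hr =>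
      (hcase r hr).resolve_left (fun h' => hcon ⟨r, hr, h'⟩)
    have hidx : (C.subgroupOf Y).index = 1 := by
      rw [Nat.eq_one_iff_not_exists_prime_dvd]
      intro r hr hdvd
      apply hRidx r hr
      exact dvd_trans hdvd (Subgroup.index_dvd_of_le (hsub (hall r hr)))
    rw [Subgroup.index_eq_one, Subgroup.subgroupOf_eq_top] at hidx
    exact h.not_H_le_centralizer (h.hHY.trans (hidx.trans inf_le_right))
  obtain ⟨t, ht, hHt⟩ := hex
  have hother : ∀ r (hr : r.Prime), r ≠ t → R r hr ≤ C := by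
    intro r hr hrt
    refine (hcase r hr).resolve_left ?_
    intro hHr
    apply h.H_ne_bot
    have : Fact r.Prime := ⟨hr⟩
    have : Fact t.Prime := ⟨ht⟩
    have hd := IsPGroup.disjoint_of_ne r t hrt _ _ (hRp r hr) (hRp t ht)
    exact eq_bot_iff.mpr (hd.le_bot.trans' (le_inf hHr hHt))
  set T := R t ht with hT
  set N := Y ⊓ Subgroup.normalizer (T : Set Γ) with hN
  have hTN : T ≤ N := le_inf (hRY t ht) Subgroup.le_normalizer
  have hcopidx : Nat.Coprime (C.subgroupOf Y).index (N.subgroupOf Y).index := by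
    by_contra hnc
    obtain ⟨r, hr, h1, h2⟩ := Nat.Prime.not_coprime_iff_dvd.mp hnc
    by_cases hrt : r = t
    · subst hrt
      apply hRidx r ht
      exact dvd_trans h2 (Subgroup.index_dvd_of_le (hsub hTN))
    · apply hRidx r hr
      exact dvd_trans h1 (Subgroup.index_dvd_of_le (hsub (hother r hr hrt)))
  have hfac : ∀ y ∈ Y, ∃ n ∈ N, ∃ c ∈ C, y = n * c := by
    intro y hy
    obtain ⟨a, ha, b, hb, hab⟩ := Cfsg.Agent.Helper4.exists_mul_of_coprime_index
      (C.subgroupOf Y) (N.subgroupOf Y) hcopidx ⟨y, hy⟩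
    refine ⟨a, ha, b, hb, ?_⟩
    have := congrArg Subtype.val hab
    simpa using this
  -- every conjugate of `Q` normalizes `T`
  have hW : Subgroup.normalClosure (Q : Set Γ) ≤ Subgroup.normalizer (T : Set Γ) := by
    unfold Subgroup.normalClosure
    rw [Subgroup.closure_le]
    intro x hx
    rw [Group.mem_conjugatesOfSet_iff] at hx
    obtain ⟨q, hq, hconj⟩ := hx
    obtain ⟨g, hg⟩ := isConj_iff.mp hconj
    have hg' : g ∈ Y ⊔ L := by rw [h.hYL]; exact Subgroup.mem_top g
    obtain ⟨y, hy, l, hl, rfl⟩ := Cfsg.Agent.Helper1.mem_sup_of_le_normalizer (N := Y) (A := L)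
      (by rw [Subgroup.normalizer_eq_top]; exact le_top) hg'
    obtain ⟨n, hn, c, hc, hyy⟩ := hfac y hy
    have hq1 : l * q * l⁻¹ ∈ Q := (Subgroup.mem_normalizer_iff.mp (h.hLQ hl) q).mp hq
    have hq2 : c * (l * q * l⁻¹) * c⁻¹ = l * q * l⁻¹ := by
      have := (Subgroup.mem_centralizer_iff.mp hc.2) _ hq1
      rw [← this]; group
    have hx' : x = n * (l * q * l⁻¹) * n⁻¹ := by
      rw [← hg, hyy]
      conv_rhs => rw [← hq2]
      group
    rw [hx']
    have hn' := hn.2
    exact Subgroup.mul_mem _ (Subgroup.mul_mem _ hn' (hRS t ht (h.hQS hq1)))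
      (Subgroup.inv_mem _ hn')
  have hYT : Y ≤ Subgroup.normalizer (T : Set Γ) := h.hYW.trans hW
  have hTn : (T.subgroupOf Y).Normal :=
    (Subgroup.normal_subgroupOf_iff_le_normalizer (hRY t ht)).mpr hYT
  have hTc : (T.subgroupOf Y).Characteristic := hRchar t ht hTn
  have hTΓ : T.Normal := by
    have h1 : ((T.subgroupOf Y).map Y.subtype).Normal :=
      ConjAct.normal_of_characteristic_of_normal
    rwa [Subgroup.map_subgroupOf_eq_of_le (hRY t ht)] at h1
  exact ⟨t, ht, (hRp t ht).to_le (h.hgen T hTΓ hHt)⟩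

end IsoQ

end Cfsg.Agent.Helper2
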