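import Mathlib
import Cfsg.Prelude.Def_Local
import Cfsg.Agent.Helper2.IsoE
import Cfsg.Agent.Helper2.Layer
import Cfsg.Agent.Helper2.Layer4
import Cfsg.Agent.Helper2.Layer8
import Cfsg.Agent.Helper2.Component

set_option autoImplicit false
set_option linter.unusedSectionVars false

/-!
# Isolated `p`-minimal subgroups (S3044), part F: the abstract setting, nonsolvable case

In the setting `IsoQ`, if `Y` is not solvable then `Y = E(Y)` and `S` permutes the components of
`Y` transitively.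
-/

namespace Cfsg.Agent.Helper2

open scoped commutatorElement

variable {Γ : Type*} [Group Γ]

/-- `A` normalizes the join of the `A`-conjugates of `K`. -/
theorem iso_le_normalizer_iSup_cj (A K : Subgroup Γ) :
    A ≤ Subgroup.normalizer ((⨆ a : A, cj (a : Γ) K : Subgroup Γ) : Set Γ) := by
  intro a' ha'
  rw [mem_normalizer_iff_cj]
  show (⨆ a : A, cj (a : Γ) K).map (MulAut.conj a').toMonoidHom = _
  rw [Subgroup.map_iSup]
  apply le_antisymm
  · apply iSup_le
    intro a
    have h1 : (cj (a : Γ) K).map (MulAut.conj a').toMonoidHom = cj (a' * a) K := cj_cj K a' a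
    rw [h1]
    exact le_iSup (fun a : A => cj (a : Γ) K) ⟨a' * a, A.mul_mem ha' a.2⟩
  · apply iSup_le
    intro a
    have h1 : cj (a : Γ) K = (cj (a'⁻¹ * a) K).map (MulAut.conj a').toMonoidHom := by
      have := cj_cj K a' (a'⁻¹ * a)
      rw [mul_inv_cancel_left] at this
      exact this.symm
    rw [h1]
    exact le_iSup (fun a : A => (cj (a : Γ) K).map (MulAut.conj a').toMonoidHom)
      ⟨a'⁻¹ * a, A.mul_mem (A.inv_mem ha') a.2⟩

/-- A join of subgroups normalized by `Y` is normalized by `Y`. -/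
theorem iso_le_normalizer_iSup {ι : Sort*} (Y : Subgroup Γ) (A : ι → Subgroup Γ)
    (hA : ∀ i, Y ≤ Subgroup.normalizer (A i : Set Γ)) :
    Y ≤ Subgroup.normalizer ((⨆ i, A i : Subgroup Γ) : Set Γ) := by
  intro y hy
  rw [mem_normalizer_iff_cj]
  show (⨆ i, A i).map (MulAut.conj y).toMonoidHom = _
  rw [Subgroup.map_iSup]
  congr 1
  funext i
  exact (mem_normalizer_iff_cj (A i) y).mp (hA i hy)

namespace IsoQ

variable [Finite Γ] {p : ℕ} [Fact p.Prime] {Y H S Q L : Subgroup Γ}

/-- If `Y` is not solvable then `Y = E(Y)`. -/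
theorem layer_eq_top (h : IsoQ p Y H S Q L) (hns : ¬ Group.IsSolvable ↥Y) :
    Cfsg.layer ↥Y = ⊤ := by
  have hYn := h.hYn
  have hsn : (Y.subgroupOf (Cfsg.generalizedFittingSubgroup Γ)).IsSubnormal :=
    (inferInstance : (Y.subgroupOf (Cfsg.generalizedFittingSubgroup Γ)).Normal).isSubnormal
  obtain ⟨-, hFE⟩ := subnormal_in_genFitting Y h.hFs hsn
  set E := (Cfsg.layer ↥Y).map Y.subtype with hE
  have hEn : E.Normal := ConjAct.normal_of_characteristic_of_normal
  have hEY : E ≤ Y := Subgroup.map_subtype_le _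
  by_cases hHE : H ≤ E
  · have h1 := h.hgen E hEn hHE
    rw [eq_top_iff]
    intro y _
    obtain ⟨y', hy', hyy⟩ := h1 y.2
    have : y' = y := Subtype.ext hyy
    rwa [← this]
  · exfalso
    have h1 := h.key E hEY hHE
    have h2 : Cfsg.layer ↥Y = ⊥ := by
      have hp := layer_perfect (G := ↥Y)
      rw [← hp, Subgroup.commutator_eq_bot_iff_le_centralizer]
      intro a ha b hb
      apply Subtype.ext
      have h3 : (b : Γ) ∈ E := ⟨b, hb, rfl⟩
      have := (Subgroup.mem_centralizer_iff.mp (h1 a.2)) _ h3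
      simpa using this
    rw [h2, sup_bot_eq] at hFE
    apply hns
    have h3 : Group.IsSolvable ↥(Cfsg.fittingSubgroup ↥Y) := fittingSubgroup_isSolvable
    rw [hFE] at h3
    exact Group.isSolvable_of_surjective
      (f := (Subgroup.topEquiv : ↥(⊤ : Subgroup ↥Y) ≃* ↥Y).toMonoidHom)
      Subgroup.topEquiv.surjective

/-- `Y` is generated by the components of `Γ` inside `Y`. -/
theorem le_of_components_le (h : IsoQ p Y H S Q L) (hlay : Cfsg.layer ↥Y = ⊤) (Z : Subgroup Γ)
    (hZ : ∀ K : Subgroup Γ, Cfsg.IsComponent K → K ≤ Y → K ≤ Z) : Y ≤ Z := by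
  have hYn := h.hYn
  have h1 : (Cfsg.layer ↥Y).map Y.subtype ≤ Z := by
    unfold Cfsg.layer
    rw [(Subgroup.gc_map_comap Y.subtype).l_sSup]
    apply iSup₂_le
    intro K hK
    exact hZ _ ((isComponent_map_subtype_iff Y hYn.isSubnormal K).mp hK)
      (Subgroup.map_subtype_le _)
  rw [hlay, ← MonoidHom.range_eq_map, Subgroup.range_subtype] at h1
  exact h1

/-- `Y` normalizes each of its components. -/
theorem le_normalizer_component (h : IsoQ p Y H S Q L) (hlay : Cfsg.layer ↥Y = ⊤)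
    {K : Subgroup Γ} (hK : Cfsg.IsComponent K) :
    Y ≤ Subgroup.normalizer (K : Set Γ) := by
  apply h.le_of_components_le hlay
  intro K' hK' _
  by_cases hKK : K' = K
  · rw [hKK]; exact Subgroup.le_normalizer
  · have h1 := components_commute hK' hK hKK
    rw [Subgroup.commutator_eq_bot_iff_le_centralizer] at h1
    intro x hx
    apply Subgroup.centralizer_le_normalizer
    intro k hk
    exact (h1 hx k hk)

/-- `Q` centralizes no component of `Y`. -/
theorem not_component_le_centralizer (h : IsoQ p Y H S Q L) (hlay : Cfsg.layer ↥Y = ⊤)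
    {K : Subgroup Γ} (hK : Cfsg.IsComponent K) (hKY : K ≤ Y) :
    ¬ K ≤ Subgroup.centralizer (Q : Set Γ) := by
  intro hKQ
  have hYn := h.hYn
  set M := Subgroup.normalClosure (K : Set Γ) with hM
  have hMY : M ≤ Y := Subgroup.normalClosure_le_normal hKY
  have hcjQ : ∀ l ∈ L, cj l K ≤ Subgroup.centralizer (Q : Set Γ) := by
    intro l hl
    rw [cj_le_iff]
    intro k hk
    rw [Subgroup.mem_centralizer_iff]
    intro q hq
    have hl' : l⁻¹ ∈ Subgroup.normalizer (Q : Set Γ) := h.hLQ (L.inv_mem hl)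
    have hq' : l⁻¹ * q * l⁻¹⁻¹ ∈ Q := (Subgroup.mem_normalizer_iff.mp hl' q).mp hq
    have h1 := (Subgroup.mem_centralizer_iff.mp (hKQ hk)) _ hq'
    calc q * (l * k * l⁻¹) = l * ((l⁻¹ * q * l⁻¹⁻¹) * k) * l⁻¹ := by group
      _ = l * (k * (l⁻¹ * q * l⁻¹⁻¹)) * l⁻¹ := by rw [h1]
      _ = l * k * l⁻¹ * q := by group
  have hMQ : M ≤ Subgroup.centralizer (Q : Set Γ) := by
    rw [hM]
    unfold Subgroup.normalClosure
    rw [Subgroup.closure_le]
    intro x hx
    rw [Group.mem_conjugatesOfSet_iff] at hx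
    obtain ⟨k, hk, hconj⟩ := hx
    obtain ⟨g, hg⟩ := isConj_iff.mp hconj
    have hg' : g ∈ Y ⊔ L := by rw [h.hYL]; exact Subgroup.mem_top g
    obtain ⟨y, hy, l, hl, rfl⟩ := Cfsg.Agent.Helper1.mem_sup_of_le_normalizer (N := Y) (A := L)
      (by rw [Subgroup.normalizer_eq_top]; exact le_top) hg'
    have h1 : l * k * l⁻¹ ∈ cj l K := conj_mem_cj K l k hk
    have h2 : y ∈ Subgroup.normalizer ((cj l K : Subgroup Γ) : Set Γ) :=
      h.le_normalizer_component hlay (isComponent_cj hK l) hy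
    have h3 : y * (l * k * l⁻¹) * y⁻¹ ∈ cj l K :=
      (Subgroup.mem_normalizer_iff.mp h2 _).mp h1
    have h4 : x = y * (l * k * l⁻¹) * y⁻¹ := by rw [← hg]; group
    rw [h4]
    exact hcjQ l hl h3
  have hHM : ¬ H ≤ M := fun h' => h.not_H_le_centralizer (h'.trans hMQ)
  have h1 := h.key M hMY hHM
  apply component_not_commutative hK
  intro a ha b hb
  have := (Subgroup.mem_centralizer_iff.mp (h1 (hKY hb))) a (Subgroup.le_normalClosure ha)
  exact this

/-- `H` lies in the product of the `S`-conjugates of any component of `Y`. -/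
theorem H_le_iSup_cj (h : IsoQ p Y H S Q L) (hlay : Cfsg.layer ↥Y = ⊤)
    {K : Subgroup Γ} (hK : Cfsg.IsComponent K) (hKY : K ≤ Y) :
    H ≤ ⨆ s : S, cj (s : Γ) K := by
  have hYn := h.hYn
  have hcjY : ∀ g : Γ, cj g K ≤ Y := by
    intro g
    rw [cj_le_iff]
    intro x hx
    exact hYn.conj_mem x (hKY hx) g
  rcases h.dich_normal (⨆ s : S, cj (s : Γ) K) (iSup_le fun s => hcjY s)
    (iso_le_normalizer_iSup_cj S K)
    (iso_le_normalizer_iSup Y _ fun s => h.le_normalizer_component hlay (isComponent_cj hK s))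
    with h1 | h1
  · exact h1
  · exfalso
    apply h.not_component_le_centralizer hlay hK hKY
    refine le_trans ?_ h1
    have h2 : cj ((1 : S) : Γ) K ≤ ⨆ s : S, cj (s : Γ) K :=
      le_iSup (fun s : S => cj (s : Γ) K) 1
    rwa [Subgroup.coe_one, cj_one] at h2

/-- `S` permutes the components of `Y` transitively. -/
theorem exists_cj_eq (h : IsoQ p Y H S Q L) (hlay : Cfsg.layer ↥Y = ⊤)
    {K₁ K₂ : Subgroup Γ} (hK₁ : Cfsg.IsComponent K₁) (hK₁Y : K₁ ≤ Y)
    (hK₂ : Cfsg.IsComponent K₂) (hK₂Y : K₂ ≤ Y) : ∃ s ∈ S, K₂ = cj s K₁ := by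
  by_contra hcon
  have hYn := h.hYn
  have hne : ∀ s ∈ S, K₂ ≠ cj s K₁ := fun s hs h' => hcon ⟨s, hs, h'⟩
  -- a component different from all `S`-conjugates of `K'` is centralized by `H`
  have haux : ∀ K K' : Subgroup Γ, Cfsg.IsComponent K → Cfsg.IsComponent K' → K' ≤ Y →
      (∀ s ∈ S, K ≠ cj s K') → K ≤ Subgroup.centralizer (H : Set Γ) := by
    intro K K' hK hK' hK'Y hKK
    have h1 : (⨆ s : S, cj (s : Γ) K') ≤ Subgroup.centralizer (K : Set Γ) := by
      apply iSup_le
      intro s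
      have h2 := components_commute (isComponent_cj hK' (s : Γ)) hK (hKK s s.2).symm
      rwa [Subgroup.commutator_eq_bot_iff_le_centralizer] at h2
    have h2 : H ≤ Subgroup.centralizer (K : Set Γ) := (h.H_le_iSup_cj hlay hK' hK'Y).trans h1
    intro k hk x hx
    exact (h2 hx k hk).symm
  have hall : ∀ K : Subgroup Γ, Cfsg.IsComponent K → K ≤ Y →
      K ≤ Subgroup.centralizer (H : Set Γ) := by
    intro K hK _
    by_cases hK1 : ∃ s ∈ S, K = cj s K₁
    · obtain ⟨s, hs, rfl⟩ := hK1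
      apply haux _ K₂ hK hK₂ hK₂Y
      intro s' hs' heq
      apply hne (s'⁻¹ * s) (S.mul_mem (S.inv_mem hs') hs)
      rw [← cj_cj, heq, cj_cj, inv_mul_cancel, cj_one]
    · apply haux _ K₁ hK hK₁ hK₁Y
      intro s hs heq
      exact hK1 ⟨s, hs, heq⟩
  have h1 : Y ≤ Subgroup.centralizer (H : Set Γ) := h.le_of_components_le hlay _ hall
  have h2 : H ≤ Y ⊓ Subgroup.centralizer (Y : Set Γ) := by
    refine le_inf h.hHY ?_
    intro x hx y hy
    exact (h1 hy x hx).symm
  have h3 : Y ≤ Y ⊓ Subgroup.centralizer (Y : Set Γ) := h.hgen _ inferInstance h2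
  apply component_not_commutative hK₁
  intro a ha b hb
  exact ((h3 (hK₁Y hb)).2 a (hK₁Y ha))

end IsoQ

end Cfsg.Agent.Helper2
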