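import Mathlib
import Cfsg.Prelude.Def_Local
import Cfsg.Agent.Helper2.IsoD
import Cfsg.Agent.Helper2.IsoF
import Cfsg.Agent.Helper5.FEAction

set_option autoImplicit false
set_option linter.unusedSectionVars false

/-!
# Isolated `p`-minimal subgroups (S3044), part G: the setting `IsoQ` holds in `G / O_p(G)`;
the embedding of `Y / O_p(Y)` in `G / O_p(G)`
-/

namespace Cfsg.Agent.Helper2

open Cfsg Cfsg.Agent.Helper5
open scoped commutatorElement

variable {G : Type*} [Group G]

/-- `O_p(Y) = Y ∩ O_p(G)` for `Y ⊴ G`. -/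
theorem iso_pCore_normal_eq [Finite G] (p : ℕ) [Fact p.Prime] (Y : Subgroup G) [hYn : Y.Normal] :
    Cfsg.pCore p ↥Y = (Cfsg.pCore p G).subgroupOf Y := by
  have hKn : (Cfsg.pCore p G).Normal := Cfsg.Agent.Helper4.pCore_normal
  apply le_antisymm
  · have hc : (Cfsg.pCore p ↥Y).Characteristic := iso_pCore_char p ↥Y
    have h1 : ((Cfsg.pCore p ↥Y).map Y.subtype).Normal :=
      ConjAct.normal_of_characteristic_of_normal
    have h2 : (Cfsg.pCore p ↥Y).map Y.subtype ≤ Cfsg.pCore p G :=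
      le_pCore h1 ((isPGroup_pCore p).map _)
    intro x hx
    rw [Subgroup.mem_subgroupOf]
    exact h2 ⟨x, hx, rfl⟩
  · exact le_pCore inferInstance (isPGroup_pCore p).comap_subtype

/-- The embedding of `Y / O_p(Y)` in `G / O_p(G)`. -/
theorem iso_exists_embedding [Finite G] (p : ℕ) [Fact p.Prime] (Y : Subgroup G) [hYn : Y.Normal]
    [hn : (Cfsg.pCore p G).Normal] [hYc : (Cfsg.pCore p ↥Y).Normal] :
    ∃ e : (↥Y ⧸ Cfsg.pCore p ↥Y) ≃* ↥(Y.map (QuotientGroup.mk' (Cfsg.pCore p G))),
      ∀ y : ↥Y, ((e (QuotientGroup.mk' (Cfsg.pCore p ↥Y) y) : ↥(Y.map (QuotientGroup.mk' (Cfsg.pCore p G)))) :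
        G ⧸ Cfsg.pCore p G) = QuotientGroup.mk' (Cfsg.pCore p G) (y : G) := by
  set K := Cfsg.pCore p G with hK
  set π := QuotientGroup.mk' K with hπ
  set ψ : ↥Y →* ↥(Y.map π) := π.subgroupMap Y with hψ
  have hψs : Function.Surjective ψ := π.subgroupMap_surjective Y
  have hker : Cfsg.pCore p ↥Y = ψ.ker := by
    rw [iso_pCore_normal_eq p Y]
    ext x
    rw [Subgroup.mem_subgroupOf, MonoidHom.mem_ker, ← hK, ← QuotientGroup.eq_one_iff,
      ← QuotientGroup.mk'_apply, ← hπ]
    constructor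
    · intro hx
      exact Subtype.ext hx
    · intro hx
      exact congrArg Subtype.val hx
  refine ⟨(QuotientGroup.quotientMulEquivOfEq hker).trans
    (QuotientGroup.quotientKerEquivOfSurjective ψ hψs), ?_⟩
  intro y
  rfl

namespace IsoSetup

variable [Finite G] {p : ℕ} [Fact p.Prime] {S : Sylow p G} {P : Subgroup G}

/-- The hypotheses of the abstract setting hold in `G / O_p(G)`. -/
theorem isoQ (h : IsoSetup S P) [hn : (Cfsg.pCore p G).Normal] :
    IsoQ p
      ((Subgroup.normalClosure ((Cfsg.pResidualOf p P : Subgroup G) : Set G)).map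
        (QuotientGroup.mk' (Cfsg.pCore p G)))
      ((Cfsg.pResidualOf p P).map (QuotientGroup.mk' (Cfsg.pCore p G)))
      ((S : Subgroup G).map (QuotientGroup.mk' (Cfsg.pCore p G)))
      ((Cfsg.pCoreOf p (isoL S P)).map (QuotientGroup.mk' (Cfsg.pCore p G)))
      ((isoL S P).map (QuotientGroup.mk' (Cfsg.pCore p G))) := by
  set K := Cfsg.pCore p G with hK
  set π := QuotientGroup.mk' K with hπ
  have hπs : Function.Surjective π := QuotientGroup.mk'_surjective K
  have hker : ∀ x : G, π x = 1 ↔ x ∈ K := fun x => by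
    rw [hπ, QuotientGroup.mk'_apply, QuotientGroup.eq_one_iff]
  set H := Cfsg.pResidualOf p P with hH
  set Q := Cfsg.pCoreOf p (isoL S P) with hQ
  set Y := Subgroup.normalClosure ((H : Subgroup G) : Set G) with hY
  have hYn : Y.Normal := inferInstance
  have hYbn : (Y.map π).Normal := hYn.map π hπs
  refine ⟨hYbn, Subgroup.map_mono Subgroup.le_normalClosure, S.2.map π,
    Subgroup.map_mono h.Q_le_S, Subgroup.map_mono (iso_S_le_L S P), ?_, ?_, ?_, ?_, ?_, ?_, ?_, ?_⟩
  · exact (Subgroup.map_mono h.L_le_normalizer_Q).trans (Subgroup.le_normalizer_map π)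
  · -- the dichotomy
    intro Nb hNb hSNb
    have hSN : (S : Subgroup G) ≤ Subgroup.normalizer ((Y ⊓ Nb.comap π : Subgroup G) : Set G) := by
      intro s hs
      apply mem_normalizer_inf
      · rw [Subgroup.normalizer_eq_top]; exact Subgroup.mem_top s
      · apply Subgroup.le_normalizer_comap π
        rw [Subgroup.mem_comap]
        exact hSNb ⟨s, hs, rfl⟩
    have hmap : Nb ≤ (Y ⊓ Nb.comap π).map π := by
      intro x hx
      obtain ⟨y, hy, rfl⟩ := hNb hx
      exact ⟨y, ⟨hy, hx⟩, rfl⟩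
    by_cases hHN : H ≤ Y ⊓ Nb.comap π
    · left
      rw [Subgroup.map_le_iff_le_comap]
      exact hHN.trans inf_le_right
    · right
      exact hmap.trans (Subgroup.map_mono (le_sup_left.trans (h.le_L_of_not_le _ hSN hHN)))
  · -- `[H, Q] ≠ 1` modulo `O_p(G)`
    intro h0
    apply h.not_comm_le
    refine le_trans ?_ h.pCore_le_OpP
    intro x hx
    rw [← hker, ← Subgroup.mem_bot, ← h0, ← Subgroup.map_commutator]
    exact ⟨x, hx, rfl⟩
  · rw [← Subgroup.map_sup, h.Y_sup_L, ← MonoidHom.range_eq_map, MonoidHom.range_eq_top]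
    exact hπs
  · intro Nb hNbn hHNb
    have : (Nb.comap π).Normal := hNbn.comap π
    rw [Subgroup.map_le_iff_le_comap] at hHNb ⊢
    exact Subgroup.normalClosure_le_normal hHNb
  · -- `Y ≤ ⟨Q^G⟩`
    have h1 := Subgroup.map_mono (f := π) h.Y_le_normalClosure_Q
    rw [Subgroup.map_normalClosure ((Q : Subgroup G) : Set G) π hπs] at h1
    rw [Subgroup.coe_map]
    exact h1
  · -- no subnormal `p`-subgroups
    intro N hN hNp
    have h1 := Cfsg.Agent.Helper1.le_pCore_of_isSubnormal hN hNp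
    rwa [Cfsg.Agent.Gagola.pCore_quotient_pCore_eq_bot, le_bot_iff] at h1
  · -- `Y ≤ F*`
    rw [Subgroup.map_le_iff_le_comap]
    exact Subgroup.normalClosure_le_normal h.H_le_comap_gfs

end IsoSetup

end Cfsg.Agent.Helper2
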