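import Mathlib
import Cfsg.Prelude.Def_Local
import Cfsg.Agent.Helper2.IsoG

set_option autoImplicit false
set_option linter.unusedSectionVars false

/-!
# Isolated `p`-minimal subgroups (S3044), part H: the three conclusions
-/

namespace Cfsg.Agent.Helper2

open Cfsg Cfsg.Agent.Helper5
open scoped commutatorElement

variable {G : Type*} [Group G]

namespace IsoSetup

variable [Finite G] {p : ℕ} [Fact p.Prime] {S : Sylow p G} {P : Subgroup G}

/-- S3044 (2): `P` is isolated in `Y S`. -/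
theorem part2 (h : IsoSetup S P) (Y : Subgroup G) :
    ¬ (Cfsg.pCore p ↥((Subgroup.normalizer ((S : Subgroup G) : Set G) ⊓ (Y ⊔ (S : Subgroup G))) ⊔
          ⨆ P' : {P' : Subgroup G // (S : Subgroup G) ≤ P' ∧ P' ≤ Y ⊔ (S : Subgroup G) ∧
            Cfsg.IsPMinimal p ↥P' ∧ P' ≠ P}, (P' : Subgroup G))).map
        (Subgroup.subtype _) ≤ (Cfsg.pCore p ↥P).map P.subtype := by
  set L₀ := (Subgroup.normalizer ((S : Subgroup G) : Set G) ⊓ (Y ⊔ (S : Subgroup G))) ⊔
      ⨆ P' : {P' : Subgroup G // (S : Subgroup G) ≤ P' ∧ P' ≤ Y ⊔ (S : Subgroup G) ∧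
        Cfsg.IsPMinimal p ↥P' ∧ P' ≠ P}, (P' : Subgroup G) with hL₀
  intro hle
  apply h.hiso
  refine le_trans ?_ hle
  have hL₀L : L₀ ≤ isoL S P := by
    apply sup_le
    · exact inf_le_left.trans (iso_normalizer_le_L S P)
    · apply iSup_le
      rintro ⟨P', hSP', -, hmin, hne⟩
      exact iso_pMinimal_le_L S P P' hSP' hmin hne
  have hSL₀ : (S : Subgroup G) ≤ L₀ :=
    le_trans (le_inf Subgroup.le_normalizer le_sup_right) le_sup_left
  exact le_pCore_map_subtype L₀ _ (h.Q_le_S.trans hSL₀) h.Q_isPGroup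
    (hL₀L.trans h.L_le_normalizer_Q)

/-- S3044 (3): the structure of `Y`. -/
theorem part3 (h : IsoSetup S P) (Y : Subgroup G)
    (hY : Y = Subgroup.normalClosure ((Cfsg.pResidualOf p P : Subgroup G) : Set G)) :
    Cfsg.pResidualOf p P = Y ∨
     ∃ _ : (Cfsg.pCore p ↥Y).Normal,
       p ∣ Nat.card (↥Y ⧸ Cfsg.pCore p ↥Y) ∧ Cfsg.layer (↥Y ⧸ Cfsg.pCore p ↥Y) = ⊤ ∧
       ∀ K₁ K₂ : Subgroup (↥Y ⧸ Cfsg.pCore p ↥Y), Cfsg.IsComponent K₁ → Cfsg.IsComponent K₂ →
         ∃ s ∈ (S : Subgroup G),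
           ((K₂.comap (QuotientGroup.mk' (Cfsg.pCore p ↥Y))).map Y.subtype) =
             (((K₁.comap (QuotientGroup.mk' (Cfsg.pCore p ↥Y))).map Y.subtype)).map
               (MulAut.conj s).toMonoidHom := by
  subst hY
  by_cases hsolv : Group.IsSolvable
      ↥(Subgroup.normalClosure ((Cfsg.pResidualOf p P : Subgroup G) : Set G))
  · exact Or.inl (h.H_eq_Y hsolv)
  right
  have hn : (Cfsg.pCore p G).Normal := Cfsg.Agent.Helper4.pCore_normal
  have hq := h.isoQ
  set K := Cfsg.pCore p G with hK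
  set π := QuotientGroup.mk' K with hπ
  have hker : ∀ x : G, π x = 1 ↔ x ∈ K := fun x => by
    rw [hπ, QuotientGroup.mk'_apply, QuotientGroup.eq_one_iff]
  set H := Cfsg.pResidualOf p P with hH
  set Y := Subgroup.normalClosure ((H : Subgroup G) : Set G) with hY
  have hYn : Y.Normal := inferInstance
  have hYc : (Cfsg.pCore p ↥Y).Characteristic := iso_pCore_char p ↥Y
  have hYcn : (Cfsg.pCore p ↥Y).Normal := inferInstance
  obtain ⟨e, he⟩ := iso_exists_embedding p Y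
  -- `Y / O_p` is not solvable
  have hnsb : ¬ Group.IsSolvable ↥(Y.map π) := by
    intro hs
    apply hsolv
    set ψ : ↥Y →* ↥(Y.map π) := π.subgroupMap Y with hψ
    have hkp : IsPGroup p ↥ψ.ker := by
      have h1 : ψ.ker ≤ K.subgroupOf Y := by
        intro x hx
        rw [Subgroup.mem_subgroupOf, ← hker]
        exact congrArg Subtype.val (MonoidHom.mem_ker.mp hx)
      exact ((isPGroup_pCore p).comap_subtype).to_le h1
    have hknil := hkp.isNilpotent
    have hks : Group.IsSolvable ↥ψ.ker := inferInstance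
    exact Group.isSolvable_of_ker_le_range ψ.ker.subtype ψ (by rw [Subgroup.range_subtype])
  have hcard : Nat.card (↥Y ⧸ Cfsg.pCore p ↥Y) = Nat.card ↥(Y.map π) := Nat.card_congr e.toEquiv
  have hlay := hq.layer_eq_top hnsb
  refine ⟨hYcn, ?_, ?_, ?_⟩
  · by_contra hnd
    have hcop : (Nat.card ↥(Y.map π)).Coprime p := by
      rw [← hcard]
      exact ((Nat.Prime.coprime_iff_not_dvd (Fact.out : p.Prime)).mpr hnd).symm
    obtain ⟨t, ht, hYt⟩ := hq.exists_prime_of_coprime hcop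
    have : Fact t.Prime := ⟨ht⟩
    have hnil := hYt.isNilpotent
    exact hnsb inferInstance
  · have h1 := layer_map_equiv e
    rw [hlay] at h1
    rw [eq_top_iff]
    intro x _
    have h2 : e x ∈ (⊤ : Subgroup ↥(Y.map π)) := Subgroup.mem_top _
    rw [← h1] at h2
    obtain ⟨x', hx', hxx⟩ := h2
    have : x' = x := e.injective hxx
    rwa [← this]
  · intro K₁ K₂ hK₁ hK₂
    have hYbsn : (Y.map π).IsSubnormal := hq.hYn.isSubnormal
    have hc : ∀ Kc : Subgroup (↥Y ⧸ Cfsg.pCore p ↥Y), Cfsg.IsComponent Kc →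
        Cfsg.IsComponent ((Kc.map e.toMonoidHom).map (Y.map π).subtype) := fun Kc hKc =>
      (isComponent_map_subtype_iff (Y.map π) hYbsn _).mp (isComponent_map_equiv e hKc)
    obtain ⟨sb, hsb, heq⟩ := hq.exists_cj_eq hlay (hc K₁ hK₁) (Subgroup.map_subtype_le _)
      (hc K₂ hK₂) (Subgroup.map_subtype_le _)
    obtain ⟨s, hs, rfl⟩ := hsb
    refine ⟨s, hs, ?_⟩
    have hchar : ∀ (Kc : Subgroup (↥Y ⧸ Cfsg.pCore p ↥Y)) (g : G),
        g ∈ (Kc.comap (QuotientGroup.mk' (Cfsg.pCore p ↥Y))).map Y.subtype ↔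
          g ∈ Y ∧ π g ∈ (Kc.map e.toMonoidHom).map (Y.map π).subtype := by
      intro Kc g
      constructor
      · rintro ⟨y, hy, rfl⟩
        refine ⟨y.2, ?_⟩
        have h1 := he y
        refine ⟨e (QuotientGroup.mk' (Cfsg.pCore p ↥Y) y), ⟨_, hy, rfl⟩, ?_⟩
        exact h1
      · rintro ⟨hgY, x', ⟨x, hx, rfl⟩, hxg⟩
        refine ⟨⟨g, hgY⟩, ?_, rfl⟩
        show QuotientGroup.mk' (Cfsg.pCore p ↥Y) ⟨g, hgY⟩ ∈ Kc
        have h1 : e (QuotientGroup.mk' (Cfsg.pCore p ↥Y) ⟨g, hgY⟩) = e x :=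
          Subtype.ext ((he ⟨g, hgY⟩).trans hxg.symm)
        rw [e.injective h1]
        exact hx
    ext g
    rw [hchar K₂ g, heq]
    show _ ↔ g ∈ cj s _
    rw [mem_cj_iff, mem_cj_iff, hchar K₁]
    have h1 : π (s⁻¹ * g * s) = (π s)⁻¹ * π g * π s := by
      rw [map_mul, map_mul, map_inv]
    rw [h1]
    have h2 : s⁻¹ * g * s ∈ Y ↔ g ∈ Y := by
      constructor
      · intro h3
        have := hYn.conj_mem _ h3 s
        have h4 : s * (s⁻¹ * g * s) * s⁻¹ = g := by group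
        rwa [h4] at this
      · intro h3
        have := hYn.conj_mem _ h3 s⁻¹
        rwa [inv_inv] at this
    rw [h2]

end IsoSetup

end Cfsg.Agent.Helper2
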