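import Mathlib
import Cfsg.Agent.Lead.PermJordan2

set_option autoImplicit false

namespace Cfsg.Agent.Helper2.SmallSupp

open Equiv Equiv.Perm MulAction

variable {α : Type*} [Fintype α] [DecidableEq α]

theorem ap_inv (f : Perm α) (x : α) : f (f⁻¹ x) = x := by
  change (f * f⁻¹) x = x; rw [mul_inv_cancel]; rfl

theorem inv_ap (f : Perm α) (x : α) : f⁻¹ (f x) = x := by
  change (f⁻¹ * f) x = x; rw [inv_mul_cancel]; rfl

/-- realise a permutation on a set of size at most `k`. -/
theorem exists_mem_eqOn_le (G : Subgroup (Perm α)) {k : ℕ} (hk : IsMultiplyPretransitive G α k)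
    (hkn : k ≤ Fintype.card α) (F : Finset α) (hF : F.card ≤ k) (σ : Perm α) :
    ∃ x ∈ G, ∀ δ ∈ F, x δ = σ δ := by
  haveI := hk
  have h : IsMultiplyPretransitive G α F.card :=
    isMultiplyPretransitive_of_le hF (by rw [Nat.card_eq_fintype_card]; exact hkn)
  exact Cfsg.Agent.Lead.PJ.exists_mem_eqOn G h F rfl σ

/-- "segments": subsets of the support of every size that are closed under `g` up to at most
one exit. -/
theorem exists_segment (g : Perm α) : ∀ j : ℕ, j ≤ g.support.card →
    ∃ Γ : Finset α, Γ ⊆ g.support ∧ Γ.card = j ∧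
      ((∀ y ∈ Γ, g y ∈ Γ) ∨ ∃ y₀ ∈ Γ, g y₀ ∉ Γ ∧ ∀ y ∈ Γ, y ≠ y₀ → g y ∈ Γ) := by
  intro j
  induction j with
  | zero =>
    intro _
    exact ⟨∅, Finset.empty_subset _, rfl, Or.inl (by simp)⟩
  | succ j ih =>
    intro hj
    obtain ⟨Γ, hΓs, hΓc, hΓ⟩ := ih (by omega)
    rcases hΓ with hinv | ⟨y₀, hy₀, hexit, hrest⟩
    · -- invariant: add any new point
      have hlt : Γ.card < g.support.card := by omega
      obtain ⟨z, hz, hzΓ⟩ := Finset.exists_mem_notMem_of_card_lt_card hlt
      have himg : Γ.image g = Γ := by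
        apply Finset.eq_of_subset_of_card_le
        · intro y hy
          obtain ⟨y', hy', rfl⟩ := Finset.mem_image.mp hy
          exact hinv y' hy'
        · rw [Finset.card_image_of_injective _ g.injective]
      have hgz : g z ∉ Γ := by
        intro h
        rw [← himg] at h
        obtain ⟨y', hy', hyz⟩ := Finset.mem_image.mp h
        have : y' = z := g.injective hyz
        rw [this] at hy'
        exact hzΓ hy'
      have hgz' : g z ≠ z := Equiv.Perm.mem_support.mp hz
      refine ⟨insert z Γ, ?_, ?_, Or.inr ⟨z, Finset.mem_insert_self _ _, ?_, ?_⟩⟩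
      · intro y hy
        rcases Finset.mem_insert.mp hy with rfl | hy
        · exact hz
        · exact hΓs hy
      · rw [Finset.card_insert_of_notMem hzΓ, hΓc]
      · intro h
        rcases Finset.mem_insert.mp h with h | h
        · exact hgz' h
        · exact hgz h
      · intro y hy hyz
        rcases Finset.mem_insert.mp hy with rfl | hy
        · exact absurd rfl hyz
        · exact Finset.mem_insert_of_mem (hinv y hy)
    · -- one exit: add its image
      have hgy₀s : g y₀ ∈ g.support := Equiv.Perm.apply_mem_support.mpr (hΓs hy₀)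
      have hkey : ∀ y ∈ insert (g y₀) Γ, y ≠ g y₀ → g y ∈ insert (g y₀) Γ := by
        intro y hy hne
        rcases Finset.mem_insert.mp hy with rfl | hy
        · exact absurd rfl hne
        · by_cases hyy : y = y₀
          · rw [hyy]; exact Finset.mem_insert_self _ _
          · exact Finset.mem_insert_of_mem (hrest y hy hyy)
      refine ⟨insert (g y₀) Γ, ?_, ?_, ?_⟩
      · intro y hy
        rcases Finset.mem_insert.mp hy with rfl | hy
        · exact hgy₀s
        · exact hΓs hy
      · rw [Finset.card_insert_of_notMem hexit, hΓc]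
      · by_cases hgg : g (g y₀) ∈ insert (g y₀) Γ
        · left
          intro y hy
          by_cases hne : y = g y₀
          · rw [hne]; exact hgg
          · exact hkey y hy hne
        · right
          exact ⟨g y₀, Finset.mem_insert_self _ _, hgg, hkey⟩

/-- the core support computation. -/
theorem support_core (g h : Perm α) (Γ E : Finset α) (hΓ : Γ ⊆ g.support)
    (hfix : ∀ y ∈ Γ, h y = y) (hcl : ∀ y ∈ Γ, y ∉ E → g y ∈ Γ) :
    (g⁻¹ * (h * g * h⁻¹)).support ⊆ E ∪ ((g.support \ Γ) ∪ (g.support \ Γ).image h) := by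
  intro y hy
  by_contra hcon
  simp only [Finset.mem_union, not_or] at hcon
  obtain ⟨hyE, hyR, hyhR⟩ := hcon
  apply Equiv.Perm.mem_support.mp hy
  have hgoal : h (g (h⁻¹ y)) = g y := by
    by_cases hyΓ : y ∈ Γ
    · have h1 : h⁻¹ y = y := by
        rw [Equiv.Perm.inv_eq_iff_eq]; exact (hfix y hyΓ).symm
      rw [h1]
      exact hfix _ (hcl y hyΓ hyE)
    · have hyg : y ∉ g.support := fun hs => hyR (Finset.mem_sdiff.mpr ⟨hs, hyΓ⟩)
      have hgy : g y = y := Equiv.Perm.notMem_support.mp hyg
      have hhy : h⁻¹ y ∉ g.support := by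
        intro hs
        by_cases hΓ' : h⁻¹ y ∈ Γ
        · have h2 := hfix _ hΓ'
          rw [ap_inv] at h2
          rw [← h2] at hΓ'
          exact hyΓ hΓ'
        · apply hyhR
          rw [Finset.mem_image]
          exact ⟨h⁻¹ y, Finset.mem_sdiff.mpr ⟨hs, hΓ'⟩, ap_inv _ _⟩
      rw [Equiv.Perm.notMem_support.mp hhy, ap_inv, hgy]
  change g⁻¹ (h (g (h⁻¹ y))) = y
  rw [hgoal, inv_ap]

/-- Phase 1: reduce the support. -/
theorem exists_smaller (G : Subgroup (Perm α)) {k : ℕ} (hk3 : 3 ≤ k)
    (hkn : k ≤ Fintype.card α) (hG : IsMultiplyPretransitive G α k) (g : Perm α) (hg : g ∈ G)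
    (hm1 : k + 1 ≤ g.support.card) (hm2 : g.support.card < 2 * k - 2) :
    ∃ c ∈ G, c ≠ 1 ∧ c.support.card < g.support.card := by
  obtain ⟨Γ, hΓs, hΓc, hΓ⟩ := exists_segment g (k - 1) (by omega)
  have hRc : (g.support \ Γ).card = g.support.card - (k - 1) := by
    rw [Finset.card_sdiff_of_subset hΓs, hΓc]
  have hR2 : 2 ≤ (g.support \ Γ).card := by omega
  rcases hΓ with hinv | ⟨y₀, hy₀, hexit, hrest⟩
  · -- invariant case
    by_cases hfull : ∀ w : α, w ∈ g.support
    · -- the support is everything: take an element fixing a point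
      have h3 : 2 < (Finset.univ : Finset α).card := by rw [Finset.card_univ]; omega
      obtain ⟨a, b, b', -, -, -, hab, hab', hbb'⟩ := Finset.two_lt_card_iff.mp h3
      obtain ⟨h, hhG, hh⟩ := exists_mem_eqOn_le G hG hkn {a, b}
        (by rw [Finset.card_pair hab]; omega) (Equiv.swap b b')
      have ha : h a = a := by
        rw [hh a (by simp)]
        exact Equiv.swap_apply_of_ne_of_ne hab hab'
      have hb : h b = b' := by
        rw [hh b (by simp)]
        exact Equiv.swap_apply_left _ _
      refine ⟨h, hhG, ?_, ?_⟩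
      · intro h1
        rw [h1] at hb
        exact hbb' hb
      · have hsub : h.support ⊆ Finset.univ.erase a := by
          intro y hy
          rw [Finset.mem_erase]
          refine ⟨?_, Finset.mem_univ _⟩
          rintro rfl
          exact Equiv.Perm.mem_support.mp hy ha
        have h1 := Finset.card_le_card hsub
        rw [Finset.card_erase_of_mem (Finset.mem_univ a), Finset.card_univ] at h1
        have h2 : g.support = Finset.univ := Finset.eq_univ_iff_forall.mpr hfull
        rw [h2, Finset.card_univ]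
        have : 0 < Fintype.card α := by omega
        omega
    · push_neg at hfull
      obtain ⟨w, hw⟩ := hfull
      obtain ⟨x, hxR⟩ : (g.support \ Γ).Nonempty := by
        rw [← Finset.card_pos]; omega
      have hxs : x ∈ g.support := (Finset.mem_sdiff.mp hxR).1
      have hxΓ : x ∉ Γ := (Finset.mem_sdiff.mp hxR).2
      obtain ⟨h, hhG, hh⟩ := exists_mem_eqOn_le G hG hkn (insert x Γ)
        (by rw [Finset.card_insert_of_notMem hxΓ, hΓc]; omega) (Equiv.swap x w)
      have hfix : ∀ y ∈ Γ, h y = y := by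
        intro y hy
        rw [hh y (Finset.mem_insert_of_mem hy)]
        apply Equiv.swap_apply_of_ne_of_ne
        · rintro rfl; exact hxΓ hy
        · rintro rfl; exact hw (hΓs hy)
      have hhx : h x = w := by
        rw [hh x (Finset.mem_insert_self _ _)]
        exact Equiv.swap_apply_left _ _
      have hsub := support_core g h Γ ∅ hΓs hfix (fun y hy _ => hinv y hy)
      refine ⟨g⁻¹ * (h * g * h⁻¹), ?_, ?_, ?_⟩
      · exact G.mul_mem (G.inv_mem hg) (G.mul_mem (G.mul_mem hhG hg) (G.inv_mem hhG))
      · intro h1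
        have h2 : (g⁻¹ * (h * g * h⁻¹)) w = w := by rw [h1]; rfl
        change g⁻¹ (h (g (h⁻¹ w))) = w at h2
        have h3 : h⁻¹ w = x := by
          rw [Equiv.Perm.inv_eq_iff_eq]; exact hhx.symm
        rw [h3, Equiv.Perm.inv_eq_iff_eq, Equiv.Perm.notMem_support.mp hw] at h2
        rw [← hhx] at h2
        have h4 := h.injective h2
        exact Equiv.Perm.mem_support.mp hxs h4
      · have h1 := Finset.card_le_card hsub
        have h2 : (∅ ∪ ((g.support \ Γ) ∪ (g.support \ Γ).image h)).card ≤
            2 * (g.support \ Γ).card := by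
          rw [Finset.empty_union]
          refine (Finset.card_union_le _ _).trans ?_
          have := Finset.card_image_le (s := g.support \ Γ) (f := h)
          omega
        omega
  · -- one exit
    have hy₀s : y₀ ∈ g.support := hΓs hy₀
    have hxs : g y₀ ∈ g.support := Equiv.Perm.apply_mem_support.mpr hy₀s
    have hxR : g y₀ ∈ g.support \ Γ := Finset.mem_sdiff.mpr ⟨hxs, hexit⟩
    obtain ⟨x', hx'R, hx'⟩ : ∃ x' ∈ g.support \ Γ, x' ≠ g y₀ := by
      have h1 : 1 < (g.support \ Γ).card := by omega
      obtain ⟨u, hu, v, hv, huv⟩ := Finset.one_lt_card.mp h1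
      by_cases h : u = g y₀
      · exact ⟨v, hv, fun h' => huv (h.trans h'.symm)⟩
      · exact ⟨u, hu, h⟩
    have hx's : x' ∈ g.support := (Finset.mem_sdiff.mp hx'R).1
    have hx'Γ : x' ∉ Γ := (Finset.mem_sdiff.mp hx'R).2
    obtain ⟨h, hhG, hh⟩ := exists_mem_eqOn_le G hG hkn (insert (g y₀) Γ)
      (by rw [Finset.card_insert_of_notMem hexit, hΓc]; omega) (Equiv.swap (g y₀) x')
    have hfix : ∀ y ∈ Γ, h y = y := by
      intro y hy
      rw [hh y (Finset.mem_insert_of_mem hy)]
      apply Equiv.swap_apply_of_ne_of_ne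
      · rintro rfl; exact hexit hy
      · rintro rfl; exact hx'Γ hy
    have hhx : h (g y₀) = x' := by
      rw [hh _ (Finset.mem_insert_self _ _)]
      exact Equiv.swap_apply_left _ _
    have hsub := support_core g h Γ {y₀} hΓs hfix
      (fun y hy hyE => hrest y hy (fun h' => hyE (by rw [h']; exact Finset.mem_singleton_self _)))
    refine ⟨g⁻¹ * (h * g * h⁻¹), ?_, ?_, ?_⟩
    · exact G.mul_mem (G.inv_mem hg) (G.mul_mem (G.mul_mem hhG hg) (G.inv_mem hhG))
    · intro h1
      have h2 : (g⁻¹ * (h * g * h⁻¹)) y₀ = y₀ := by rw [h1]; rfl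
      change g⁻¹ (h (g (h⁻¹ y₀))) = y₀ at h2
      have h3 : h⁻¹ y₀ = y₀ := by
        rw [Equiv.Perm.inv_eq_iff_eq]; exact (hfix y₀ hy₀).symm
      rw [h3, hhx, Equiv.Perm.inv_eq_iff_eq] at h2
      exact hx' h2
    · have h1 := Finset.card_le_card hsub
      have hmem : x' ∈ (g.support \ Γ) ∩ (g.support \ Γ).image h := by
        rw [Finset.mem_inter]
        exact ⟨hx'R, Finset.mem_image.mpr ⟨g y₀, hxR, hhx⟩⟩
      have hpos : 0 < ((g.support \ Γ) ∩ (g.support \ Γ).image h).card :=
        Finset.card_pos.mpr ⟨x', hmem⟩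
      have h2 := Finset.card_union_add_card_inter (g.support \ Γ) ((g.support \ Γ).image h)
      have h3 := Finset.card_image_le (s := g.support \ Γ) (f := h)
      have h4 := Finset.card_union_le ({y₀} : Finset α)
        ((g.support \ Γ) ∪ (g.support \ Γ).image h)
      rw [Finset.card_singleton] at h4
      omega

/-- Phase 2: a controllable support gives a 3-cycle or a transposition. -/
theorem exists_three (G : Subgroup (Perm α)) {k : ℕ} (hk3 : 3 ≤ k)
    (hkn : k ≤ Fintype.card α) (hG : IsMultiplyPretransitive G α k) (g : Perm α) (hg : g ∈ G)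
    (hg1 : g ≠ 1) (hm : g.support.card ≤ k) :
    ∃ c ∈ G, c ≠ 1 ∧ c.support.card ≤ 3 := by
  by_cases hfull : ∀ w : α, w ∈ g.support
  · have h2 : g.support = Finset.univ := Finset.eq_univ_iff_forall.mpr hfull
    have h3 : 2 < (Finset.univ : Finset α).card := by rw [Finset.card_univ]; omega
    obtain ⟨a, b, b', -, -, -, hab, hab', hbb'⟩ := Finset.two_lt_card_iff.mp h3
    obtain ⟨h, hhG, hh⟩ := exists_mem_eqOn_le G hG hkn Finset.univ
      (by rw [← h2]; exact hm) (Equiv.swap a b)
    have : h = Equiv.swap a b := by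
      ext y; rw [hh y (Finset.mem_univ _)]
    refine ⟨Equiv.swap a b, this ▸ hhG, ?_, ?_⟩
    · intro h1
      have : Equiv.swap a b a = a := by rw [h1]; rfl
      rw [Equiv.swap_apply_left] at this
      exact hab this.symm
    · rw [Equiv.Perm.card_support_swap hab]; omega
  · push_neg at hfull
    obtain ⟨w, hw⟩ := hfull
    obtain ⟨x, hxs⟩ : g.support.Nonempty := by
      rw [Finset.nonempty_iff_ne_empty, Ne, Equiv.Perm.support_eq_empty_iff]; exact hg1
    obtain ⟨h, hhG, hh⟩ := exists_mem_eqOn_le G hG hkn g.support hm (Equiv.swap x w)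
    have hfix : ∀ y ∈ g.support.erase x, h y = y := by
      intro y hy
      rw [hh y (Finset.mem_of_mem_erase hy)]
      apply Equiv.swap_apply_of_ne_of_ne
      · exact Finset.ne_of_mem_erase hy
      · rintro rfl; exact hw (Finset.mem_of_mem_erase hy)
    have hhx : h x = w := by
      rw [hh x hxs]; exact Equiv.swap_apply_left _ _
    have hgx : g x ≠ x := Equiv.Perm.mem_support.mp hxs
    have hsub := support_core g h (g.support.erase x) {g⁻¹ x} (Finset.erase_subset _ _) hfix
      (by
        intro y hy hyE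
        rw [Finset.mem_erase]
        refine ⟨?_, Equiv.Perm.apply_mem_support.mpr (Finset.mem_of_mem_erase hy)⟩
        intro hgy
        apply hyE
        rw [Finset.mem_singleton, ← hgy, inv_ap])
    have hsd : g.support \ g.support.erase x = {x} := by
      ext y
      rw [Finset.mem_sdiff, Finset.mem_erase, Finset.mem_singleton]
      constructor
      · rintro ⟨hy, h1⟩
        by_contra hne
        exact h1 ⟨hne, hy⟩
      · rintro rfl
        exact ⟨hxs, fun h => h.1 rfl⟩
    refine ⟨g⁻¹ * (h * g * h⁻¹), ?_, ?_, ?_⟩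
    · exact G.mul_mem (G.inv_mem hg) (G.mul_mem (G.mul_mem hhG hg) (G.inv_mem hhG))
    · intro h1
      have h2 : (g⁻¹ * (h * g * h⁻¹)) w = w := by rw [h1]; rfl
      change g⁻¹ (h (g (h⁻¹ w))) = w at h2
      have h3 : h⁻¹ w = x := by
        rw [Equiv.Perm.inv_eq_iff_eq]; exact hhx.symm
      have h4 : h (g x) = g x := by
        apply hfix
        rw [Finset.mem_erase]
        exact ⟨hgx, Equiv.Perm.apply_mem_support.mpr hxs⟩
      rw [h3, h4, inv_ap] at h2
      rw [h2] at hxs
      exact hw hxs
    · have h1 := Finset.card_le_card hsub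
      rw [hsd, Finset.image_singleton] at h1
      have h2 : (({g⁻¹ x} : Finset α) ∪ ({x} ∪ {h x})).card ≤ 3 := by
        refine (Finset.card_union_le _ _).trans ?_
        have := Finset.card_union_le ({x} : Finset α) {h x}
        simp only [Finset.card_singleton] at this ⊢
        omega
      omega

theorem exists_le_three (G : Subgroup (Perm α)) {k : ℕ} (hk3 : 3 ≤ k)
    (hkn : k ≤ Fintype.card α) (hG : IsMultiplyPretransitive G α k) :
    ∀ n : ℕ, ∀ g : Perm α, g ∈ G → g ≠ 1 → g.support.card = n → n < 2 * k - 2 →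
      ∃ c ∈ G, c ≠ 1 ∧ c.support.card ≤ 3 := by
  intro n
  induction n using Nat.strong_induction_on with
  | _ n ih =>
    intro g hg hg1 hn hlt
    by_cases hle : g.support.card ≤ k
    · exact exists_three G hk3 hkn hG g hg hg1 hle
    · obtain ⟨c, hcG, hc1, hclt⟩ := exists_smaller G hk3 hkn hG g hg (by omega) (by omega)
      exact ih c.support.card (by omega) c hcG hc1 rfl (by omega)

theorem main (G : Subgroup (Perm α)) {k : ℕ} (hk : 3 ≤ k) (hkn : k ≤ Fintype.card α)
    (hG : IsMultiplyPretransitive G α k) (g : Perm α) (hg : g ∈ G) (hg1 : g ≠ 1)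
    (hsupp : g.support.card < 2 * k - 2) :
    (∃ h : Perm α, h ∈ G ∧ h ≠ 1 ∧ h.support.card ≤ 3) ∧ alternatingGroup α ≤ G := by
  obtain ⟨c, hcG, hc1, hc3⟩ := exists_le_three G hk hkn hG _ g hg hg1 rfl hsupp
  refine ⟨⟨c, hcG, hc1, hc3⟩, ?_⟩
  haveI := hG
  have h2 : IsMultiplyPretransitive G α 2 :=
    isMultiplyPretransitive_of_le (n := k) (by omega)
      (by rw [Nat.card_eq_fintype_card]; exact hkn)
  have hprim : IsPreprimitive G α := isPreprimitive_of_is_two_pretransitive h2
  have h0 : c.support.card ≠ 0 := by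
    rw [Ne, Finset.card_eq_zero, Equiv.Perm.support_eq_empty_iff]; exact hc1
  have h1 : c.support.card ≠ 1 := Equiv.Perm.card_support_ne_one c
  have h23 : c.support.card = 2 ∨ c.support.card = 3 := by omega
  rcases h23 with h | h
  · have hsw : c.IsSwap := Equiv.Perm.card_support_eq_two.mp h
    have := Equiv.Perm.subgroup_eq_top_of_isPreprimitive_of_isSwap_mem hprim c hsw hcG
    rw [this]; exact le_top
  · have h3c : c.IsThreeCycle := card_support_eq_three_iff.mp h
    exact Equiv.Perm.alternatingGroup_le_of_isPreprimitive_of_isThreeCycle_mem hprim h3c hcG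

end Cfsg.Agent.Helper2.SmallSupp
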