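import Mathlib
import Cfsg.Agent.Helper2.SmallSupp
import Cfsg.Agent.Helper4.StepwiseTransitive

set_option autoImplicit false

namespace Cfsg.Agent.Helper2.JordanNormal

open Equiv Equiv.Perm MulAction
open Cfsg.Agent.Helper2.SmallSupp

variable {α : Type*} [Fintype α] [DecidableEq α]

/-- `m` lies in `M` and fixes `t` pointwise. -/
def InFix (M : Subgroup (Perm α)) (t : Finset α) (m : Perm α) : Prop :=
  m ∈ M ∧ ∀ z ∈ t, m z = z

theorem inFix_one (M : Subgroup (Perm α)) (t : Finset α) : InFix M t 1 :=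
  ⟨M.one_mem, fun _ _ => rfl⟩

theorem inFix_mul {M : Subgroup (Perm α)} {t : Finset α} {a b : Perm α} (ha : InFix M t a)
    (hb : InFix M t b) : InFix M t (a * b) :=
  ⟨M.mul_mem ha.1 hb.1, fun z hz => by
    change a (b z) = z
    rw [hb.2 z hz, ha.2 z hz]⟩

theorem inv_fix {a : Perm α} {z : α} (h : a z = z) : a⁻¹ z = z := by
  rw [Equiv.Perm.inv_eq_iff_eq]; exact h.symm

theorem inFix_inv {M : Subgroup (Perm α)} {t : Finset α} {a : Perm α} (ha : InFix M t a) :
    InFix M t a⁻¹ :=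
  ⟨M.inv_mem ha.1, fun z hz => inv_fix (ha.2 z hz)⟩

theorem inFix_mono {M : Subgroup (Perm α)} {t t' : Finset α} (h : t' ⊆ t) {a : Perm α}
    (ha : InFix M t a) : InFix M t' a :=
  ⟨ha.1, fun z hz => ha.2 z (h hz)⟩

theorem conj_apply (g m : Perm α) (x : α) : (g * m * g⁻¹) (g x) = g (m x) := by
  change g (m (g⁻¹ (g x))) = g (m x)
  rw [inv_ap]

theorem conj_fix {g m : Perm α} {z : α} (hg : g z = z) (hm : m z = z) :
    (g * m * g⁻¹) z = z := by
  have := conj_apply g m z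
  rw [hg, hm, hg] at this
  exact this

theorem inFix_conj {G M : Subgroup (Perm α)}
    (hnorm : ∀ g ∈ G, ∀ m ∈ M, g * m * g⁻¹ ∈ M) {t : Finset α} {g m : Perm α} (hg : g ∈ G)
    (hgt : ∀ z ∈ t, g z = z) (hm : InFix M t m) : InFix M t (g * m * g⁻¹) :=
  ⟨hnorm g hg m hm.1, fun z hz => conj_fix (hgt z hz) (hm.2 z hz)⟩

theorem not_mem_of_fix {m : Perm α} {t : Finset α} (hm : ∀ z ∈ t, m z = z) {a : α}
    (ha : a ∉ t) : m a ∉ t := by
  intro h
  have h1 := hm _ h
  have h2 : m a = a := m.injective h1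
  rw [h2] at h
  exact ha h

/-- Lemma A: a nontrivial pointwise stabilizer in `M` is transitive on the complement. -/
theorem trans_of_ne_one (G M : Subgroup (Perm α))
    (hnorm : ∀ g ∈ G, ∀ m ∈ M, g * m * g⁻¹ ∈ M) {k : ℕ}
    (hG : IsMultiplyPretransitive G α k) (hkn : k ≤ Fintype.card α) (t : Finset α)
    (ht : t.card + 2 ≤ k) (m : Perm α) (hm : InFix M t m) (hm1 : m ≠ 1) :
    ∀ a b : α, a ∉ t → b ∉ t → ∃ m', InFix M t m' ∧ m' a = b := by
  obtain ⟨c, hc⟩ : ∃ c, m c ≠ c := by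
    by_contra hcon
    push_neg at hcon
    exact hm1 (Equiv.ext hcon)
  have hct : c ∉ t := fun h => hc (hm.2 c h)
  have hdt : m c ∉ t := not_mem_of_fix hm.2 hct
  intro a b ha hb
  -- step 1
  obtain ⟨g₁, hg₁G, hg₁⟩ := exists_mem_eqOn_le G hG hkn (insert c t)
    (by rw [Finset.card_insert_of_notMem hct]; omega) (Equiv.swap c a)
  have hg₁t : ∀ z ∈ t, g₁ z = z := by
    intro z hz
    rw [hg₁ z (Finset.mem_insert_of_mem hz)]
    apply Equiv.swap_apply_of_ne_of_ne
    · rintro rfl; exact hct hz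
    · rintro rfl; exact ha hz
  have hg₁c : g₁ c = a := by
    rw [hg₁ c (Finset.mem_insert_self _ _)]; exact Equiv.swap_apply_left _ _
  have hm₁ : InFix M t (g₁ * m * g₁⁻¹) := inFix_conj hnorm hg₁G hg₁t hm
  have hm₁a : (g₁ * m * g₁⁻¹) a = g₁ (m c) := by
    rw [← hg₁c]; exact conj_apply g₁ m c
  have ha' : g₁ (m c) ≠ a := by
    intro h
    rw [← hg₁c] at h
    exact hc (g₁.injective h)
  have ha't : g₁ (m c) ∉ t := not_mem_of_fix hg₁t hdt
  by_cases hba : b = a
  · exact ⟨1, inFix_one M t, by rw [hba]; rfl⟩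
  -- step 2
  have hat' : a ∉ insert (g₁ (m c)) t := by
    intro h
    rcases Finset.mem_insert.mp h with h | h
    · exact ha' h.symm
    · exact ha h
  obtain ⟨g₂, hg₂G, hg₂⟩ := exists_mem_eqOn_le G hG hkn (insert a (insert (g₁ (m c)) t))
    (by rw [Finset.card_insert_of_notMem hat', Finset.card_insert_of_notMem ha't]; omega)
    (Equiv.swap (g₁ (m c)) b)
  have hg₂t : ∀ z ∈ t, g₂ z = z := by
    intro z hz
    rw [hg₂ z (Finset.mem_insert_of_mem (Finset.mem_insert_of_mem hz))]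
    apply Equiv.swap_apply_of_ne_of_ne
    · rintro rfl; exact ha't hz
    · rintro rfl; exact hb hz
  have hg₂a : g₂ a = a := by
    rw [hg₂ a (Finset.mem_insert_self _ _)]
    exact Equiv.swap_apply_of_ne_of_ne (Ne.symm ha') (Ne.symm hba)
  have hg₂a' : g₂ (g₁ (m c)) = b := by
    rw [hg₂ _ (Finset.mem_insert_of_mem (Finset.mem_insert_self _ _))]
    exact Equiv.swap_apply_left _ _
  refine ⟨g₂ * (g₁ * m * g₁⁻¹) * g₂⁻¹, inFix_conj hnorm hg₂G hg₂t hm₁, ?_⟩
  have := conj_apply g₂ (g₁ * m * g₁⁻¹) a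
  rw [hg₂a, hm₁a, hg₂a'] at this
  exact this

/-- a conjugating element fixing `a` and `r a` centralizes the semiregular element `r`. -/
theorem conj_eq_of_apply_eq {G M : Subgroup (Perm α)}
    (hnorm : ∀ g ∈ G, ∀ m ∈ M, g * m * g⁻¹ ∈ M) {t : Finset α}
    (hsemi : ∀ r, InFix M t r → ∀ q, q ∉ t → r q = q → r = 1)
    {g r : Perm α} (hg : g ∈ G) (hgt : ∀ z ∈ t, g z = z) (hr : InFix M t r) {a : α}
    (hat : a ∉ t) (hga : g a = a) (hgra : g (r a) = r a) : g * r * g⁻¹ = r := by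
  have h1 : InFix M t (g * r * g⁻¹) := inFix_conj hnorm hg hgt hr
  have h2 : (g * r * g⁻¹) a = r a := by
    have := conj_apply g r a
    rw [hga, hgra] at this
    exact this
  have h3 : (r⁻¹ * (g * r * g⁻¹)) a = a := by
    change r⁻¹ ((g * r * g⁻¹) a) = a
    rw [h2, inv_ap]
  have h4 := hsemi _ (inFix_mul (inFix_inv hr) h1) a hat h3
  have h5 : r * (r⁻¹ * (g * r * g⁻¹)) = r * 1 := by rw [h4]
  rw [mul_one, mul_inv_cancel_left] at h5
  exact h5

/-- Lemma B: a regular pointwise stabilizer has exponent two. -/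
theorem sq_eq_one_of_regular (G M : Subgroup (Perm α))
    (hnorm : ∀ g ∈ G, ∀ m ∈ M, g * m * g⁻¹ ∈ M) {k : ℕ}
    (hG : IsMultiplyPretransitive G α k) (hkn : k < Fintype.card α) (t : Finset α)
    (ht : t.card + 3 ≤ k)
    (hsemi : ∀ r, InFix M t r → ∀ q, q ∉ t → r q = q → r = 1) :
    ∀ r, InFix M t r → r * r = 1 := by
  intro r hr
  by_contra hrr
  obtain ⟨a, hat⟩ : ∃ a, a ∉ t := by
    by_contra hcon
    push_neg at hcon
    have : Finset.univ ⊆ t := fun x _ => hcon x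
    have := Finset.card_le_card this
    rw [Finset.card_univ] at this
    omega
  have hrra : (r * r) a ≠ a := fun h => hrr (hsemi _ (inFix_mul hr hr) a hat h)
  have hb : r a ∉ t := not_mem_of_fix hr.2 hat
  have hc : r⁻¹ a ∉ t := not_mem_of_fix (inFix_inv hr).2 hat
  have hba : r a ≠ a := by
    intro h
    apply hrra
    change r (r a) = a
    rw [h, h]
  have hca : r⁻¹ a ≠ a := by
    intro h
    rw [Equiv.Perm.inv_eq_iff_eq] at h
    exact hba h.symm
  have hbc : r a ≠ r⁻¹ a := by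
    intro h
    apply hrra
    change r (r a) = a
    rw [h, ap_inv]
  -- a fourth point
  obtain ⟨d, hd⟩ : ∃ d, d ∉ insert a (insert (r a) (insert (r⁻¹ a) t)) := by
    by_contra hcon
    push_neg at hcon
    have : Finset.univ ⊆ insert a (insert (r a) (insert (r⁻¹ a) t)) := fun x _ => hcon x
    have h1 := Finset.card_le_card this
    have h2 := Finset.card_insert_le a (insert (r a) (insert (r⁻¹ a) t))
    have h3 := Finset.card_insert_le (r a) (insert (r⁻¹ a) t)
    have h4 := Finset.card_insert_le (r⁻¹ a) t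
    rw [Finset.card_univ] at h1
    omega
  simp only [Finset.mem_insert, not_or] at hd
  obtain ⟨hda, hdb, hdc, hdt⟩ := hd
  have hFc : (insert a (insert (r a) (insert (r⁻¹ a) t))).card ≤ k := by
    have h2 := Finset.card_insert_le a (insert (r a) (insert (r⁻¹ a) t))
    have h3 := Finset.card_insert_le (r a) (insert (r⁻¹ a) t)
    have h4 := Finset.card_insert_le (r⁻¹ a) t
    omega
  obtain ⟨g, hgG, hg⟩ := exists_mem_eqOn_le G hG hkn.le _ hFc (Equiv.swap (r⁻¹ a) d)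
  have hgt : ∀ z ∈ t, g z = z := by
    intro z hz
    rw [hg z (by simp [hz])]
    apply Equiv.swap_apply_of_ne_of_ne
    · rintro rfl; exact hc hz
    · rintro rfl; exact hdt hz
  have hga : g a = a := by
    rw [hg a (by simp)]
    exact Equiv.swap_apply_of_ne_of_ne (Ne.symm hca) (Ne.symm hda)
  have hgb : g (r a) = r a := by
    rw [hg (r a) (by simp)]
    exact Equiv.swap_apply_of_ne_of_ne hbc (Ne.symm hdb)
  have hgc : g (r⁻¹ a) = d := by
    rw [hg (r⁻¹ a) (by simp)]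
    exact Equiv.swap_apply_left _ _
  have hcomm := conj_eq_of_apply_eq hnorm hsemi hgG hgt hr hat hga hgb
  -- apply to `g (r⁻¹ a)`
  have h1 := conj_apply g r (r⁻¹ a)
  rw [hcomm, ap_inv, hga, hgc] at h1
  -- `r d = a`, so `d = r⁻¹ a`
  have h2 : d = r⁻¹ a := by
    rw [← h1, inv_ap]
  exact hdc h2

/-- Lemma C: with one more degree of transitivity, a regular pointwise stabilizer is impossible. -/
theorem false_of_regular (G M : Subgroup (Perm α))
    (hnorm : ∀ g ∈ G, ∀ m ∈ M, g * m * g⁻¹ ∈ M) {k : ℕ}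
    (hG : IsMultiplyPretransitive G α k) (hkn : k < Fintype.card α) (t : Finset α)
    (ht : t.card + 4 ≤ k)
    (htrans : ∀ a b : α, a ∉ t → b ∉ t → ∃ m', InFix M t m' ∧ m' a = b)
    (hsemi : ∀ r, InFix M t r → ∀ q, q ∉ t → r q = q → r = 1) : False := by
  have hsq := sq_eq_one_of_regular G M hnorm hG hkn t (by omega) hsemi
  have hex : ∀ s : Finset α, s.card ≤ t.card + 4 → ∃ d, d ∉ s := by
    intro s hs
    by_contra hcon
    push_neg at hcon
    have : Finset.univ ⊆ s := fun x _ => hcon x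
    have := Finset.card_le_card this
    rw [Finset.card_univ] at this
    omega
  obtain ⟨a, hat⟩ := hex t (by omega)
  obtain ⟨b, hb⟩ := hex (insert a t) (by have := Finset.card_insert_le a t; omega)
  simp only [Finset.mem_insert, not_or] at hb
  obtain ⟨hba, hbt⟩ := hb
  obtain ⟨c, hc⟩ := hex (insert a (insert b t)) (by
    have := Finset.card_insert_le a (insert b t)
    have := Finset.card_insert_le b t
    omega)
  simp only [Finset.mem_insert, not_or] at hc
  obtain ⟨hca, hcb, hct⟩ := hc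
  obtain ⟨r₁, hr₁, hr₁a⟩ := htrans a b hat hbt
  obtain ⟨r₂, hr₂, hr₂a⟩ := htrans a c hat hct
  have hr₁inv : r₁⁻¹ = r₁ := by
    rw [inv_eq_iff_mul_eq_one]; exact hsq r₁ hr₁
  -- e = r₁ c
  have het : r₁ c ∉ t := not_mem_of_fix hr₁.2 hct
  have hea : r₁ c ≠ a := by
    intro h
    have : c = r₁⁻¹ a := by rw [← h, inv_ap]
    rw [hr₁inv, hr₁a] at this
    exact hcb this
  have heb : r₁ c ≠ b := by
    intro h
    rw [← hr₁a] at h
    exact hca (r₁.injective h)
  have hec : r₁ c ≠ c := by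
    intro h
    have := hsemi r₁ hr₁ c hct h
    rw [this] at hr₁a
    exact hba hr₁a.symm
  obtain ⟨d, hd⟩ := hex (insert a (insert b (insert c (insert (r₁ c) t)))) (by
    have := Finset.card_insert_le a (insert b (insert c (insert (r₁ c) t)))
    have := Finset.card_insert_le b (insert c (insert (r₁ c) t))
    have := Finset.card_insert_le c (insert (r₁ c) t)
    have := Finset.card_insert_le (r₁ c) t
    omega)
  simp only [Finset.mem_insert, not_or] at hd
  obtain ⟨hda, hdb, hdc, hde, hdt⟩ := hd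
  have hFc : (insert a (insert b (insert c (insert (r₁ c) t)))).card ≤ k := by
    have := Finset.card_insert_le a (insert b (insert c (insert (r₁ c) t)))
    have := Finset.card_insert_le b (insert c (insert (r₁ c) t))
    have := Finset.card_insert_le c (insert (r₁ c) t)
    have := Finset.card_insert_le (r₁ c) t
    omega
  obtain ⟨g, hgG, hg⟩ := exists_mem_eqOn_le G hG hkn.le _ hFc (Equiv.swap (r₁ c) d)
  have hgt : ∀ z ∈ t, g z = z := by
    intro z hz
    rw [hg z (by simp [hz])]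
    apply Equiv.swap_apply_of_ne_of_ne
    · rintro rfl; exact het hz
    · rintro rfl; exact hdt hz
  have hga : g a = a := by
    rw [hg a (by simp)]
    exact Equiv.swap_apply_of_ne_of_ne (Ne.symm hea) (Ne.symm hda)
  have hgb : g b = b := by
    rw [hg b (by simp)]
    exact Equiv.swap_apply_of_ne_of_ne (Ne.symm heb) (Ne.symm hdb)
  have hgc : g c = c := by
    rw [hg c (by simp)]
    exact Equiv.swap_apply_of_ne_of_ne (Ne.symm hec) (Ne.symm hdc)
  have hge : g (r₁ c) = d := by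
    rw [hg (r₁ c) (by simp)]
    exact Equiv.swap_apply_left _ _
  have hc₁ := conj_eq_of_apply_eq hnorm hsemi hgG hgt hr₁ hat hga (by rw [hr₁a]; exact hgb)
  -- `g (r₁ c) = r₁ (g c) = r₁ c`
  have h1 := conj_apply g r₁ c
  rw [hc₁, hgc, hge] at h1
  exact hde h1.symm

/-- Lemma D: a sharply 2-transitive section whose point stabilizers have exponent two and at
least four points is impossible. -/
theorem false_of_sharp (M : Subgroup (Perm α)) (t' : Finset α) (p' : α) (hp' : p' ∈ t')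
    (hcard : t'.card + 3 ≤ Fintype.card α)
    (htransS : ∀ a b : α, a ∉ t'.erase p' → b ∉ t'.erase p' →
      ∃ m', InFix M (t'.erase p') m' ∧ m' a = b)
    (htransR : ∀ a b : α, a ∉ t' → b ∉ t' → ∃ m', InFix M t' m' ∧ m' a = b)
    (hsemi : ∀ r, InFix M t' r → ∀ q, q ∉ t' → r q = q → r = 1)
    (hsq : ∀ r, InFix M t' r → r * r = 1) : False := by
  have hex : ∀ s : Finset α, s.card ≤ t'.card + 2 → ∃ d, d ∉ s := by
    intro s hs
    by_contra hcon
    push_neg at hcon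
    have : Finset.univ ⊆ s := fun x _ => hcon x
    have := Finset.card_le_card this
    rw [Finset.card_univ] at this
    omega
  have hRS : ∀ r, InFix M t' r → InFix M (t'.erase p') r :=
    fun r hr => inFix_mono (Finset.erase_subset _ _) hr
  have hSR : ∀ r, InFix M (t'.erase p') r → r p' = p' → InFix M t' r := by
    intro r hr hrp
    refine ⟨hr.1, fun z hz => ?_⟩
    by_cases hzp : z = p'
    · rw [hzp]; exact hrp
    · exact hr.2 z (Finset.mem_erase.mpr ⟨hzp, hz⟩)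
  have hnot : ∀ q, q ∉ t' → q ∉ t'.erase p' := fun q hq h => hq (Finset.mem_of_mem_erase h)
  have hp'' : p' ∉ t'.erase p' := Finset.notMem_erase _ _
  obtain ⟨x', hx'⟩ := hex t' (by omega)
  obtain ⟨b, hb⟩ := hex (insert x' t') (by have := Finset.card_insert_le x' t'; omega)
  simp only [Finset.mem_insert, not_or] at hb
  obtain ⟨hbx, hbt⟩ := hb
  obtain ⟨c, hc⟩ := hex (insert x' (insert b t')) (by
    have := Finset.card_insert_le x' (insert b t')
    have := Finset.card_insert_le b t'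
    omega)
  simp only [Finset.mem_insert, not_or] at hc
  obtain ⟨hcx, hcb, hct⟩ := hc
  obtain ⟨s, hs, hsp⟩ := htransS p' x' hp'' (hnot _ hx')
  obtain ⟨v, hv, hvb⟩ := htransR b c hbt hct
  -- `s⁻¹ b`, `s⁻¹ c` avoid `t'`
  have hsinv := inFix_inv hs
  have hsb : s⁻¹ b ∉ t' := by
    intro h
    by_cases hp : s⁻¹ b = p'
    · rw [Equiv.Perm.inv_eq_iff_eq, hsp] at hp
      exact hbx hp
    · have h1 : s⁻¹ b ∈ t'.erase p' := Finset.mem_erase.mpr ⟨hp, h⟩
      exact not_mem_of_fix hsinv.2 (hnot _ hbt) h1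
  have hsc : s⁻¹ c ∉ t' := by
    intro h
    by_cases hp : s⁻¹ c = p'
    · rw [Equiv.Perm.inv_eq_iff_eq, hsp] at hp
      exact hcx hp
    · have h1 : s⁻¹ c ∈ t'.erase p' := Finset.mem_erase.mpr ⟨hp, h⟩
      exact not_mem_of_fix hsinv.2 (hnot _ hct) h1
  obtain ⟨v₀, hv₀, hv₀b⟩ := htransR (s⁻¹ b) (s⁻¹ c) hsb hsc
  -- v' = s v₀ s⁻¹
  have hv' : InFix M (t'.erase p') (s * v₀ * s⁻¹) := inFix_mul (inFix_mul hs (hRS _ hv₀)) hsinv
  have hv'b : (s * v₀ * s⁻¹) b = c := by
    change s (v₀ (s⁻¹ b)) = c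
    rw [hv₀b, ap_inv]
  have hv'c : (s * v₀ * s⁻¹) c = b := by
    change s (v₀ (s⁻¹ c)) = b
    rw [← hv₀b]
    have : v₀ (v₀ (s⁻¹ b)) = s⁻¹ b := by
      have h := hsq v₀ hv₀
      have h2 : (v₀ * v₀) (s⁻¹ b) = s⁻¹ b := by rw [h]; rfl
      exact h2
    rw [this, ap_inv]
  have hv'x : (s * v₀ * s⁻¹) x' = x' := by
    have := conj_apply s v₀ p'
    rw [hsp, hv₀.2 p' hp', hsp] at this
    exact this
  have hvc : v c = b := by
    rw [← hvb]
    have h := hsq v hv
    have h2 : (v * v) b = b := by rw [h]; rfl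
    exact h2
  -- u = v⁻¹ v'
  have hu : InFix M (t'.erase p') (v⁻¹ * (s * v₀ * s⁻¹)) := inFix_mul (inFix_inv (hRS _ hv)) hv'
  have hub : (v⁻¹ * (s * v₀ * s⁻¹)) b = b := by
    change v⁻¹ ((s * v₀ * s⁻¹) b) = b
    rw [hv'b, ← hvb, inv_ap]
  have huc : (v⁻¹ * (s * v₀ * s⁻¹)) c = c := by
    change v⁻¹ ((s * v₀ * s⁻¹) c) = c
    rw [hv'c, ← hvc, inv_ap]
  -- u = 1
  obtain ⟨sb, hsb', hsbp⟩ := htransS p' b hp'' (hnot _ hbt)
  have hw : InFix M (t'.erase p') (sb⁻¹ * (v⁻¹ * (s * v₀ * s⁻¹)) * sb) :=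
    inFix_mul (inFix_mul (inFix_inv hsb') hu) hsb'
  have hwp : (sb⁻¹ * (v⁻¹ * (s * v₀ * s⁻¹)) * sb) p' = p' := by
    change sb⁻¹ ((v⁻¹ * (s * v₀ * s⁻¹)) (sb p')) = p'
    rw [hsbp, hub, ← hsbp, inv_ap]
  have hwR := hSR _ hw hwp
  have hsbc : sb⁻¹ c ∉ t' := by
    intro h
    by_cases hp : sb⁻¹ c = p'
    · rw [Equiv.Perm.inv_eq_iff_eq, hsbp] at hp
      exact hcb hp
    · have h1 : sb⁻¹ c ∈ t'.erase p' := Finset.mem_erase.mpr ⟨hp, h⟩
      exact not_mem_of_fix (inFix_inv hsb').2 (hnot _ hct) h1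
  have hwc : (sb⁻¹ * (v⁻¹ * (s * v₀ * s⁻¹)) * sb) (sb⁻¹ c) = sb⁻¹ c := by
    change sb⁻¹ ((v⁻¹ * (s * v₀ * s⁻¹)) (sb (sb⁻¹ c))) = sb⁻¹ c
    rw [ap_inv, huc]
  have hw1 := hsemi _ hwR _ hsbc hwc
  have hu1 : v⁻¹ * (s * v₀ * s⁻¹) = 1 := by
    have h1 : sb * (sb⁻¹ * (v⁻¹ * (s * v₀ * s⁻¹)) * sb) * sb⁻¹ = sb * 1 * sb⁻¹ := by rw [hw1]
    simpa [mul_assoc] using h1
  have hvv' : s * v₀ * s⁻¹ = v := by
    have h1 : v * (v⁻¹ * (s * v₀ * s⁻¹)) = v * 1 := by rw [hu1]
    rw [mul_one, mul_inv_cancel_left] at h1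
    exact h1
  have hvx : v x' = x' := by rw [← hvv']; exact hv'x
  have hv1 := hsemi v hv x' hx' hvx
  rw [hv1] at hvb
  exact hcb hvb.symm

end Cfsg.Agent.Helper2.JordanNormal
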