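import Mathlib
import Cfsg.Agent.Helper2.JordanNormal

set_option autoImplicit false

namespace Cfsg.Agent.Helper2.JordanNormal

open Equiv Equiv.Perm MulAction
open Cfsg.Agent.Helper2.SmallSupp

variable {α : Type*} [Fintype α] [DecidableEq α]

theorem comm_of_sq {H : Type*} [Group H] (h : ∀ x : H, x * x = 1) (a b : H) : a * b = b * a := by
  have h1 : ∀ x : H, x⁻¹ = x := fun x => inv_eq_of_mul_eq_one_left (h x)
  calc a * b = (a * b)⁻¹ := (h1 _).symm
    _ = b⁻¹ * a⁻¹ := mul_inv_rev a b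
    _ = b * a := by rw [h1, h1]

theorem main (G : Subgroup (Perm α)) {k : ℕ} (hk : 1 < k) (hdeg : k < Fintype.card α)
    (hG : IsMultiplyPretransitive G α k) (N : Subgroup G) [hNn : N.Normal] (hN : N ≠ ⊥) :
    IsMultiplyPretransitive N α (k - 1) ∨
      (k = 3 ∧ IsMulCommutative N ∧ ∀ n ∈ N, n ^ 2 = 1) := by
  classical
  set M : Subgroup (Perm α) := N.map G.subtype with hM
  have hmemM : ∀ n : G, n ∈ N → (n : Perm α) ∈ M := fun n hn => ⟨n, hn, rfl⟩
  have hnorm : ∀ g ∈ G, ∀ m ∈ M, g * m * g⁻¹ ∈ M := by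
    rintro g hg _ ⟨n, hn, rfl⟩
    exact ⟨⟨g, hg⟩ * n * ⟨g, hg⟩⁻¹, hNn.conj_mem n hn ⟨g, hg⟩, rfl⟩
  obtain ⟨m₁, hm₁M, hm₁⟩ : ∃ m ∈ M, m ≠ 1 := by
    rw [Ne, Subgroup.eq_bot_iff_forall] at hN
    push_neg at hN
    obtain ⟨n, hn, hn1⟩ := hN
    refine ⟨(n : Perm α), hmemM n hn, ?_⟩
    intro h
    apply hn1
    exact Subtype.ext h
  by_cases hall : ∀ t : Finset α, t.card + 2 ≤ k → ∃ m, InFix M t m ∧ m ≠ 1
  · left
    apply Cfsg.Agent.Helper4.isMultiplyPretransitive_of_fixing_transitive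
    intro t ht a b ha hb
    obtain ⟨m, hm, hm1⟩ := hall t (by omega)
    obtain ⟨m', hm', hm'a⟩ := trans_of_ne_one G M hnorm hG hdeg.le t (by omega) m hm hm1 a b ha hb
    obtain ⟨n, hn, hnm⟩ := hm'.1
    refine ⟨⟨n, hn⟩, ?_, ?_⟩
    · intro z hz
      change (n : Perm α) z = z
      have : (n : Perm α) = m' := hnm
      rw [this]
      exact hm'.2 z hz
    · change (n : Perm α) a = b
      have : (n : Perm α) = m' := hnm
      rw [this]
      exact hm'a
  · push_neg at hall
    have hex : ∃ j : ℕ, ∃ t : Finset α, t.card = j ∧ j + 2 ≤ k ∧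
        ∀ m, InFix M t m → m = 1 := by
      obtain ⟨t, ht, hP⟩ := hall
      exact ⟨t.card, t, rfl, ht, hP⟩
    obtain ⟨t, htc, htk, hP⟩ := Nat.find_spec hex
    have hmin : ∀ j, j < Nat.find hex → ∀ t' : Finset α, t'.card = j → j + 2 ≤ k →
        ∃ m, InFix M t' m ∧ m ≠ 1 := by
      intro j hj t' ht' hjk
      by_contra hcon
      push_neg at hcon
      exact Nat.find_min hex hj ⟨t', ht', hjk, hcon⟩
    set j₀ := Nat.find hex with hj₀
    have hj1 : 1 ≤ j₀ := by
      by_contra hcon
      have h0 : t.card = 0 := by omega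
      rw [Finset.card_eq_zero] at h0
      apply hm₁
      apply hP
      exact ⟨hm₁M, fun z hz => by rw [h0] at hz; simp at hz⟩
    obtain ⟨p, hp⟩ : t.Nonempty := by
      rw [← Finset.card_pos]; omega
    have ht'c : (t.erase p).card = j₀ - 1 := by
      rw [Finset.card_erase_of_mem hp, htc]
    obtain ⟨m₀, hm₀, hm₀1⟩ := hmin (j₀ - 1) (by omega) (t.erase p) ht'c (by omega)
    have htrans := trans_of_ne_one G M hnorm hG hdeg.le (t.erase p) (by omega) m₀ hm₀ hm₀1
    have hpt' : p ∉ t.erase p := Finset.notMem_erase _ _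
    have hsemip : ∀ r, InFix M (t.erase p) r → r p = p → r = 1 := by
      intro r hr hrp
      apply hP
      refine ⟨hr.1, fun z hz => ?_⟩
      by_cases hzp : z = p
      · rw [hzp]; exact hrp
      · exact hr.2 z (Finset.mem_erase.mpr ⟨hzp, hz⟩)
    have hsemi : ∀ r, InFix M (t.erase p) r → ∀ q, q ∉ t.erase p → r q = q → r = 1 := by
      intro r hr q hq hrq
      obtain ⟨r₀, hr₀, hr₀p⟩ := htrans p q hpt' hq
      have h1 : InFix M (t.erase p) (r₀⁻¹ * r * r₀) :=
        inFix_mul (inFix_mul (inFix_inv hr₀) hr) hr₀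
      have h2 : (r₀⁻¹ * r * r₀) p = p := by
        change r₀⁻¹ (r (r₀ p)) = p
        rw [hr₀p, hrq, ← hr₀p, inv_ap]
      have h3 := hsemip _ h1 h2
      have h4 : r₀ * (r₀⁻¹ * r * r₀) * r₀⁻¹ = r₀ * 1 * r₀⁻¹ := by rw [h3]
      simpa [mul_assoc] using h4
    by_cases hbig : j₀ + 3 ≤ k
    · exact (false_of_regular G M hnorm hG hdeg (t.erase p) (by omega) htrans hsemi).elim
    · have hjk : j₀ + 2 = k := by omega
      have hsq := sq_eq_one_of_regular G M hnorm hG hdeg (t.erase p) (by omega) hsemi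
      by_cases hk3 : k = 3
      · right
        have hj : j₀ = 1 := by omega
        have hempty : t.erase p = ∅ := by
          rw [← Finset.card_eq_zero, ht'c, hj]
        have hsqN : ∀ n : G, n ∈ N → n * n = 1 := by
          intro n hn
          have h1 : InFix M (t.erase p) (n : Perm α) :=
            ⟨hmemM n hn, fun z hz => by rw [hempty] at hz; simp at hz⟩
          have h2 := hsq _ h1
          exact Subtype.ext h2
        refine ⟨hk3, ?_, ?_⟩
        · refine ⟨⟨fun a b => ?_⟩⟩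
          have hsq' : ∀ x : ↥N, x * x = 1 := fun x => Subtype.ext (hsqN x.1 x.2)
          exact comm_of_sq hsq' a b
        · intro n hn
          rw [pow_two]
          exact hsqN n hn
      · exfalso
        have hj2 : 2 ≤ j₀ := by omega
        obtain ⟨p', hp'⟩ : (t.erase p).Nonempty := by
          rw [← Finset.card_pos]; omega
        have hcard : (t.erase p).card + 3 ≤ Fintype.card α := by omega
        have hm₀' : InFix M ((t.erase p).erase p') m₀ :=
          inFix_mono (Finset.erase_subset _ _) hm₀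
        have hc'' : ((t.erase p).erase p').card + 2 ≤ k := by
          rw [Finset.card_erase_of_mem hp']; omega
        have htransS := trans_of_ne_one G M hnorm hG hdeg.le ((t.erase p).erase p') hc'' m₀
          hm₀' hm₀1
        exact false_of_sharp M (t.erase p) p' hp' hcard htransS htrans hsemi hsq

end Cfsg.Agent.Helper2.JordanNormal
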