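import Mathlib
import Cfsg.Agent.Helper2.JordanNormal2

set_option autoImplicit false

namespace Cfsg.Agent.Helper2.JordanNormal

open Equiv Equiv.Perm MulAction
open Cfsg.Agent.Helper2.SmallSupp

variable {α : Type*} [Fintype α] [DecidableEq α]

/-- Bridge: primitivity of a pointwise stabilizer on the complement, in elementwise form. -/
theorem trivial_block_of_prim (G : Subgroup (Perm α)) (s : Set α)
    (hprim : IsPreprimitive (fixingSubgroup G s) (SubMulAction.ofFixingSubgroup G s))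
    (B : Set α)
    (hB : ∀ g ∈ G, (∀ z ∈ s, g z = z) → ∀ x ∈ B, g x ∈ B → ∀ y ∈ B, g y ∈ B) :
    (∀ x ∈ B, ∀ y ∈ B, x ∉ s → y ∉ s → x = y) ∨ ∀ x, x ∉ s → x ∈ B := by
  set B' : Set (SubMulAction.ofFixingSubgroup G s) := {x | (x : α) ∈ B} with hB'
  have hfix : ∀ g : fixingSubgroup G s, ∀ z ∈ s, ((g : G) : Perm α) z = z := by
    intro g z hz
    exact (mem_fixingSubgroup_iff G).mp g.2 z hz
  have hblock : IsBlock (fixingSubgroup G s) B' := by
    rw [isBlock_iff_smul_eq_of_mem]
    intro g a ha hga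
    apply Set.Subset.antisymm
    · rintro _ ⟨y, hy, rfl⟩
      exact hB _ (g : G).2 (hfix g) (a : α) ha hga (y : α) hy
    · intro y hy
      refine ⟨g⁻¹ • y, ?_, by simp⟩
      have h1 : ((g⁻¹ : fixingSubgroup G s) : G) = (g : G)⁻¹ := rfl
      have h2 : (((g : G)⁻¹ : G) : Perm α) = ((g : G) : Perm α)⁻¹ := rfl
      have hx : ((g⁻¹ • (g • a) : SubMulAction.ofFixingSubgroup G s) : α) = (a : α) := by
        rw [inv_smul_smul]
      have h3 := hB _ (g⁻¹ : fixingSubgroup G s).1.2 (hfix g⁻¹) ((g • a :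
        SubMulAction.ofFixingSubgroup G s) : α) hga (by
          have : ((g⁻¹ • (g • a) : SubMulAction.ofFixingSubgroup G s) : α) ∈ B := by
            rw [hx]; exact ha
          exact this) (y : α) hy
      exact h3
  rcases hprim.isTrivialBlock_of_isBlock hblock with h | h
  · left
    intro x hx y hy hxs hys
    have := h (show (⟨x, hxs⟩ : SubMulAction.ofFixingSubgroup G s) ∈ B' from hx)
      (show (⟨y, hys⟩ : SubMulAction.ofFixingSubgroup G s) ∈ B' from hy)
    exact congrArg Subtype.val this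
  · right
    intro x hx
    have : (⟨x, hx⟩ : SubMulAction.ofFixingSubgroup G s) ∈ B' := by rw [h]; trivial
    exact this

/-- E1: transitivity of a nontrivial pointwise stabilizer, primitive case. -/
theorem trans_of_ne_one_prim (G M : Subgroup (Perm α))
    (hnorm : ∀ g ∈ G, ∀ m ∈ M, g * m * g⁻¹ ∈ M) (t : Finset α)
    (hprim : IsPreprimitive (fixingSubgroup G (t : Set α))
      (SubMulAction.ofFixingSubgroup G (t : Set α)))
    (m : Perm α) (hm : InFix M t m) (hm1 : m ≠ 1) :
    ∀ a b : α, a ∉ t → b ∉ t → ∃ m', InFix M t m' ∧ m' a = b := by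
  obtain ⟨c, hc⟩ : ∃ c, m c ≠ c := by
    by_contra hcon
    push_neg at hcon
    exact hm1 (Equiv.ext hcon)
  have hct : c ∉ t := fun h => hc (hm.2 c h)
  have hdt : m c ∉ t := not_mem_of_fix hm.2 hct
  set B : Set α := {x | ∃ m', InFix M t m' ∧ m' c = x} with hBdef
  have hblock : ∀ g ∈ G, (∀ z ∈ (t : Set α), g z = z) → ∀ x ∈ B, g x ∈ B → ∀ y ∈ B, g y ∈ B := by
    rintro g hg hgt _ ⟨m₁, hm₁, rfl⟩ ⟨m₂, hm₂, hm₂c⟩ _ ⟨m₃, hm₃, rfl⟩
    have hgt' : ∀ z ∈ t, g z = z := fun z hz => hgt z (Finset.mem_coe.mpr hz)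
    refine ⟨g * (m₃ * m₁⁻¹) * g⁻¹ * m₂, inFix_mul (inFix_conj hnorm hg hgt'
      (inFix_mul hm₃ (inFix_inv hm₁))) hm₂, ?_⟩
    change (g * (m₃ * m₁⁻¹) * g⁻¹) (m₂ c) = g (m₃ c)
    rw [hm₂c, conj_apply]
    change g (m₃ (m₁⁻¹ (m₁ c))) = g (m₃ c)
    rw [inv_ap]
  have hcB : c ∈ B := ⟨1, inFix_one M t, rfl⟩
  have hmcB : m c ∈ B := ⟨m, hm, rfl⟩
  rcases trivial_block_of_prim G (t : Set α) hprim B hblock with h | h
  · exfalso
    exact hc (h (m c) hmcB c hcB (fun h' => hdt (Finset.mem_coe.mp h'))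
      (fun h' => hct (Finset.mem_coe.mp h')))
  · intro a b ha hb
    obtain ⟨m₁, hm₁, hm₁c⟩ := h a (fun h' => ha (Finset.mem_coe.mp h'))
    obtain ⟨m₂, hm₂, hm₂c⟩ := h b (fun h' => hb (Finset.mem_coe.mp h'))
    refine ⟨m₂ * m₁⁻¹, inFix_mul hm₂ (inFix_inv hm₁), ?_⟩
    change m₂ (m₁⁻¹ a) = b
    rw [← hm₁c, inv_ap, hm₂c]

/-- regular elements are determined by the image of one point. -/
theorem eq_of_apply_eq {M : Subgroup (Perm α)} {t : Finset α}
    (hsemi : ∀ r, InFix M t r → ∀ q, q ∉ t → r q = q → r = 1) {r₁ r₂ : Perm α}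
    (h₁ : InFix M t r₁) (h₂ : InFix M t r₂) {a : α} (ha : a ∉ t) (h : r₁ a = r₂ a) : r₁ = r₂ := by
  have h3 : (r₂⁻¹ * r₁) a = a := by
    change r₂⁻¹ (r₁ a) = a
    rw [h, inv_ap]
  have h4 := hsemi _ (inFix_mul (inFix_inv h₂) h₁) a ha h3
  have h5 : r₂ * (r₂⁻¹ * r₁) = r₂ * 1 := by rw [h4]
  rw [mul_one, mul_inv_cancel_left] at h5
  exact h5

/-- E2: exponent two for a regular pointwise stabilizer, primitive case. -/
theorem sq_eq_one_of_regular_prim (G M : Subgroup (Perm α))
    (hnorm : ∀ g ∈ G, ∀ m ∈ M, g * m * g⁻¹ ∈ M) (t : Finset α)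
    (hprim : ∀ a, a ∉ t → IsPreprimitive (fixingSubgroup G ((insert a t : Finset α) : Set α))
      (SubMulAction.ofFixingSubgroup G ((insert a t : Finset α) : Set α)))
    (hsemi : ∀ r, InFix M t r → ∀ q, q ∉ t → r q = q → r = 1) :
    (∀ r, InFix M t r → r * r = 1) ∨ Fintype.card α ≤ t.card + 3 := by
  by_contra hcon
  push_neg at hcon
  obtain ⟨⟨r, hr, hrr⟩, hcard⟩ := hcon
  obtain ⟨a, hat⟩ : ∃ a, a ∉ t := by
    by_contra hcon
    push_neg at hcon
    have : Finset.univ ⊆ t := fun x _ => hcon x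
    have := Finset.card_le_card this
    rw [Finset.card_univ] at this
    omega
  have hrra : (r * r) a ≠ a := fun h => hrr (hsemi _ (inFix_mul hr hr) a hat h)
  have hrinv := inFix_inv hr
  have hb : r a ∉ t := not_mem_of_fix hr.2 hat
  have hc : r⁻¹ a ∉ t := not_mem_of_fix hrinv.2 hat
  have hba : r a ≠ a := by
    intro h
    apply hrra
    change r (r a) = a
    rw [h, h]
  have hca : r⁻¹ a ≠ a := by
    intro h
    rw [Equiv.Perm.inv_eq_iff_eq] at h
    exact hba h.symm
  have hbc : r a ≠ r⁻¹ a := by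
    intro h
    apply hrra
    change r (r a) = a
    rw [h, ap_inv]
  set B : Set α := {x | x = r a ∨ x = r⁻¹ a} with hBdef
  -- conjugates
  have hconj : ∀ g ∈ G, (∀ z ∈ ((insert a t : Finset α) : Set α), g z = z) →
      InFix M t (g * r * g⁻¹) ∧ (g * r * g⁻¹) a = g (r a) ∧
        (g * r * g⁻¹)⁻¹ a = g (r⁻¹ a) := by
    intro g hg hgs
    have hgt : ∀ z ∈ t, g z = z := fun z hz =>
      hgs z (Finset.mem_coe.mpr (Finset.mem_insert_of_mem hz))
    have hga : g a = a := hgs a (Finset.mem_coe.mpr (Finset.mem_insert_self _ _))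
    refine ⟨inFix_conj hnorm hg hgt hr, ?_, ?_⟩
    · have := conj_apply g r a
      rw [hga] at this
      exact this
    · have h1 : (g * r * g⁻¹)⁻¹ = g * r⁻¹ * g⁻¹ := by group
      rw [h1]
      have := conj_apply g r⁻¹ a
      rw [hga] at this
      exact this
  have hblock : ∀ g ∈ G, (∀ z ∈ ((insert a t : Finset α) : Set α), g z = z) →
      ∀ x ∈ B, g x ∈ B → ∀ y ∈ B, g y ∈ B := by
    intro g hg hgs x hx hgx y hy
    obtain ⟨hc1, hc2, hc3⟩ := hconj g hg hgs
    have hc1' := inFix_inv hc1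
    -- `g * r * g⁻¹` is `r` or `r⁻¹`
    have hcases : g * r * g⁻¹ = r ∨ g * r * g⁻¹ = r⁻¹ := by
      rcases hx with rfl | rfl
      · rcases hgx with h | h
        · left
          exact eq_of_apply_eq hsemi hc1 hr hat (hc2.trans h)
        · right
          exact eq_of_apply_eq hsemi hc1 hrinv hat (hc2.trans h)
      · rcases hgx with h | h
        · right
          have h1 : (g * r * g⁻¹)⁻¹ = r := eq_of_apply_eq hsemi hc1' hr hat (hc3.trans h)
          exact inv_eq_iff_eq_inv.mp h1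
        · left
          have h1 : (g * r * g⁻¹)⁻¹ = r⁻¹ := eq_of_apply_eq hsemi hc1' hrinv hat (hc3.trans h)
          exact inv_injective h1
    rcases hcases with h | h
    · rw [h] at hc2 hc3
      rcases hy with rfl | rfl
      · left; exact hc2.symm
      · right; exact hc3.symm
    · rw [h] at hc2 hc3
      rw [inv_inv] at hc3
      rcases hy with rfl | rfl
      · right; exact hc2.symm
      · left; exact hc3.symm
  have hbs : r a ∉ ((insert a t : Finset α) : Set α) := by
    intro h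
    rcases Finset.mem_insert.mp (Finset.mem_coe.mp h) with h | h
    · exact hba h
    · exact hb h
  have hcs : r⁻¹ a ∉ ((insert a t : Finset α) : Set α) := by
    intro h
    rcases Finset.mem_insert.mp (Finset.mem_coe.mp h) with h | h
    · exact hca h
    · exact hc h
  rcases trivial_block_of_prim G _ (hprim a hat) B hblock with h | h
  · exact hbc (h (r a) (Or.inl rfl) (r⁻¹ a) (Or.inr rfl) hbs hcs)
  · have hsub : Finset.univ ⊆ insert (r a) (insert (r⁻¹ a) (insert a t)) := by
      intro x _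
      by_cases hx : x ∈ insert a t
      · exact Finset.mem_insert_of_mem (Finset.mem_insert_of_mem hx)
      · rcases h x (fun h' => hx (Finset.mem_coe.mp h')) with h1 | h1
        · rw [h1]; exact Finset.mem_insert_self _ _
        · rw [h1]; exact Finset.mem_insert_of_mem (Finset.mem_insert_self _ _)
    have h1 := Finset.card_le_card hsub
    have h2 := Finset.card_insert_le (r a) (insert (r⁻¹ a) (insert a t))
    have h3 := Finset.card_insert_le (r⁻¹ a) (insert a t)
    have h4 := Finset.card_insert_le a t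
    rw [Finset.card_univ] at h1
    omega

end Cfsg.Agent.Helper2.JordanNormal
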