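import Mathlib
import Cfsg.Agent.Helper2.JordanPrim

set_option autoImplicit false

namespace Cfsg.Agent.Helper2.JordanNormal

open Equiv Equiv.Perm MulAction
open Cfsg.Agent.Helper2.SmallSupp

variable {α : Type*} [Fintype α] [DecidableEq α]

theorem main_prim (G : Subgroup (Perm α)) {k : ℕ} (hk : 1 ≤ k) (hkn : k ≤ Fintype.card α)
    (hG : IsMultiplyPreprimitive G α k) (htop : G ≠ ⊤) (H : Subgroup G) [hHn : H.Normal]
    (hH : H ≠ ⊥) (hnr : ∃ a : α, stabilizer H a ≠ ⊥) : IsMultiplyPretransitive H α k := by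
  classical
  have hG' : IsMultiplyPretransitive G α k := IsMultiplyPreprimitive.isMultiplyPretransitive G α k
  have hlt2 : k + 1 < Fintype.card α := by
    by_contra hcon
    apply htop
    haveI := hG'
    have h1 : IsMultiplyPretransitive G α (Nat.card α - 1) :=
      isMultiplyPretransitive_of_le (n := k) (by rw [Nat.card_eq_fintype_card]; omega)
        (by rw [Nat.card_eq_fintype_card]; exact hkn)
    exact Equiv.Perm.eq_top_of_isMultiplyPretransitive h1
  have hdeg : k < Fintype.card α := by omega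
  have hprimS : ∀ s : Finset α, s.card + 1 = k →
      IsPreprimitive (fixingSubgroup G (s : Set α))
        (SubMulAction.ofFixingSubgroup G (s : Set α)) := by
    intro s hs
    apply hG.isPreprimitive_ofFixingSubgroup
    rw [Set.encard_coe_eq_coe_finsetCard]
    exact_mod_cast hs
  set M : Subgroup (Perm α) := H.map G.subtype with hM
  have hmemM : ∀ n : G, n ∈ H → (n : Perm α) ∈ M := fun n hn => ⟨n, hn, rfl⟩
  have hnorm : ∀ g ∈ G, ∀ m ∈ M, g * m * g⁻¹ ∈ M := by
    rintro g hg _ ⟨n, hn, rfl⟩
    exact ⟨⟨g, hg⟩ * n * ⟨g, hg⟩⁻¹, hHn.conj_mem n hn ⟨g, hg⟩, rfl⟩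
  -- a nontrivial element fixing a point
  obtain ⟨a₀, ma, hmaM, hma1, hmaa⟩ : ∃ a₀ : α, ∃ m ∈ M, m ≠ 1 ∧ m a₀ = a₀ := by
    obtain ⟨a₀, ha₀⟩ := hnr
    rw [Ne, Subgroup.eq_bot_iff_forall] at ha₀
    push_neg at ha₀
    obtain ⟨h, hh, hh1⟩ := ha₀
    refine ⟨a₀, ((h : G) : Perm α), hmemM _ h.2, ?_, ?_⟩
    · intro h1
      apply hh1
      exact Subtype.ext (Subtype.ext h1)
    · exact hh
  have hall : ∀ t : Finset α, t.card + 1 ≤ k → ∃ m, InFix M t m ∧ m ≠ 1 := by
    by_contra hcon
    push_neg at hcon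
    have hex : ∃ j : ℕ, ∃ t : Finset α, t.card = j ∧ j + 1 ≤ k ∧
        ∀ m, InFix M t m → m = 1 := by
      obtain ⟨t, ht, hP⟩ := hcon
      exact ⟨t.card, t, rfl, ht, hP⟩
    obtain ⟨t, htc, htk, hP⟩ := Nat.find_spec hex
    have hmin : ∀ j, j < Nat.find hex → ∀ t' : Finset α, t'.card = j → j + 1 ≤ k →
        ∃ m, InFix M t' m ∧ m ≠ 1 := by
      intro j hj t' ht' hjk
      by_contra hcon'
      push_neg at hcon'
      exact Nat.find_min hex hj ⟨t', ht', hjk, hcon'⟩
    set j₀ := Nat.find hex with hj₀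
    have hj1 : 1 ≤ j₀ := by
      by_contra hcon'
      have h0 : t.card = 0 := by omega
      rw [Finset.card_eq_zero] at h0
      apply hma1
      apply hP
      exact ⟨hmaM, fun z hz => by rw [h0] at hz; simp at hz⟩
    obtain ⟨p, hp⟩ : t.Nonempty := by
      rw [← Finset.card_pos]; omega
    have ht'c : (t.erase p).card = j₀ - 1 := by
      rw [Finset.card_erase_of_mem hp, htc]
    obtain ⟨m₀, hm₀, hm₀1⟩ := hmin (j₀ - 1) (by omega) (t.erase p) ht'c (by omega)
    have htrans := trans_of_ne_one G M hnorm hG' hdeg.le (t.erase p) (by omega) m₀ hm₀ hm₀1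
    have hpt' : p ∉ t.erase p := Finset.notMem_erase _ _
    have hsemip : ∀ r, InFix M (t.erase p) r → r p = p → r = 1 := by
      intro r hr hrp
      apply hP
      refine ⟨hr.1, fun z hz => ?_⟩
      by_cases hzp : z = p
      · rw [hzp]; exact hrp
      · exact hr.2 z (Finset.mem_erase.mpr ⟨hzp, hz⟩)
    have hsemi : ∀ r, InFix M (t.erase p) r → ∀ q, q ∉ t.erase p → r q = q → r = 1 := by
      intro r hr q hq hrq
      obtain ⟨r₀, hr₀, hr₀p⟩ := htrans p q hpt' hq
      have h1 : InFix M (t.erase p) (r₀⁻¹ * r * r₀) :=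
        inFix_mul (inFix_mul (inFix_inv hr₀) hr) hr₀
      have h2 : (r₀⁻¹ * r * r₀) p = p := by
        change r₀⁻¹ (r (r₀ p)) = p
        rw [hr₀p, hrq, ← hr₀p, inv_ap]
      have h3 := hsemip _ h1 h2
      have h4 : r₀ * (r₀⁻¹ * r * r₀) * r₀⁻¹ = r₀ * 1 * r₀⁻¹ := by rw [h3]
      simpa [mul_assoc] using h4
    -- the final contradiction once the stabilizer has exponent two
    have hfinal : (∀ r, InFix M (t.erase p) r → r * r = 1) → False := by
      intro hsq
      by_cases hempty : (t.erase p).card = 0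
      · rw [Finset.card_eq_zero] at hempty
        apply hma1
        apply hsemi ma ⟨hmaM, fun z hz => by rw [hempty] at hz; simp at hz⟩ a₀
          (by rw [hempty]; simp) hmaa
      · obtain ⟨p', hp'⟩ : (t.erase p).Nonempty := by
          rw [← Finset.card_pos]; omega
        have hcard : (t.erase p).card + 3 ≤ Fintype.card α := by omega
        have hm₀' : InFix M ((t.erase p).erase p') m₀ :=
          inFix_mono (Finset.erase_subset _ _) hm₀
        have hc'' : ((t.erase p).erase p').card + 2 ≤ k := by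
          rw [Finset.card_erase_of_mem hp']; omega
        have htransS := trans_of_ne_one G M hnorm hG' hdeg.le ((t.erase p).erase p') hc'' m₀
          hm₀' hm₀1
        exact false_of_sharp M (t.erase p) p' hp' hcard htransS htrans hsemi hsq
    by_cases hbig : j₀ + 3 ≤ k
    · exact false_of_regular G M hnorm hG' hdeg (t.erase p) (by omega) htrans hsemi
    · by_cases hmid : j₀ + 2 = k
      · exact hfinal (sq_eq_one_of_regular G M hnorm hG' hdeg (t.erase p) (by omega) hsemi)
      · have hjk : j₀ + 1 = k := by omega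
        have hprim' : ∀ a, a ∉ t.erase p →
            IsPreprimitive (fixingSubgroup G ((insert a (t.erase p) : Finset α) : Set α))
              (SubMulAction.ofFixingSubgroup G ((insert a (t.erase p) : Finset α) : Set α)) := by
          intro a ha
          apply hprimS
          rw [Finset.card_insert_of_notMem ha, ht'c]
          omega
        rcases sq_eq_one_of_regular_prim G M hnorm (t.erase p) hprim' hsemi with hsq | hsmall
        · exact hfinal hsq
        · omega
  -- now the criterion
  apply Cfsg.Agent.Helper4.isMultiplyPretransitive_of_fixing_transitive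
  intro t ht a b ha hb
  obtain ⟨m, hm, hm1⟩ := hall t (by omega)
  have hex : ∃ m', InFix M t m' ∧ m' a = b := by
    by_cases h2 : t.card + 2 ≤ k
    · exact trans_of_ne_one G M hnorm hG' hdeg.le t h2 m hm hm1 a b ha hb
    · exact trans_of_ne_one_prim G M hnorm t (hprimS t (by omega)) m hm hm1 a b ha hb
  obtain ⟨m', hm', hm'a⟩ := hex
  obtain ⟨n, hn, hnm⟩ := hm'.1
  refine ⟨⟨n, hn⟩, ?_, ?_⟩
  · intro z hz
    change (n : Perm α) z = z
    have : (n : Perm α) = m' := hnm
    rw [this]
    exact hm'.2 z hz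
  · change (n : Perm α) a = b
    have : (n : Perm α) = m' := hnm
    rw [this]
    exact hm'a

end Cfsg.Agent.Helper2.JordanNormal
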