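import Mathlib
import Cfsg.Agent.Helper2.KleinSylow
import Cfsg.Agent.Helper2.ThompsonTransfer
import Cfsg.Agent.Helper2.SmallOrder
import Cfsg.Agent.S0112
import Cfsg.Agent.S0113

set_option autoImplicit false
set_option linter.style.haveILetI false

/-!
# Simple groups in which some involution centralizer has a normal Klein four Sylow 2-subgroup

Group-theoretic part.
-/

namespace Cfsg.Agent.Helper2.K4Cent

open Subgroup

variable {G : Type*} [Group G]

/-- The hypotheses, bundled. -/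
structure Hyp (x : G) (S₀ : Subgroup G) : Prop where
  hx : orderOf x = 2
  hle : S₀ ≤ centralizer ({x} : Set G)
  hK : IsKleinFour ↥S₀
  hodd : ¬ 2 ∣ S₀.relIndex (centralizer ({x} : Set G))
  hn : (S₀.subgroupOf (centralizer ({x} : Set G))).Normal

theorem mem_of_pow_mem_of_coprime {H : Subgroup G} {c : G} {m n : ℕ} (hmn : Nat.Coprime m n)
    (hm : c ^ m ∈ H) (hn : c ^ n ∈ H) : c ∈ H := by
  have hbez : (m : ℤ) * Int.gcdA m n + (n : ℤ) * Int.gcdB m n = 1 := by
    have := Int.gcd_eq_gcd_ab (m : ℤ) (n : ℤ)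
    rw [Int.gcd_natCast_natCast, hmn.gcd_eq_one] at this
    exact_mod_cast this.symm
  have : c = (c ^ m) ^ (Int.gcdA m n) * (c ^ n) ^ (Int.gcdB m n) := by
    rw [← zpow_natCast c m, ← zpow_natCast c n, ← zpow_mul, ← zpow_mul, ← zpow_add, hbez,
      zpow_one]
  rw [this]
  exact H.mul_mem (H.zpow_mem hm _) (H.zpow_mem hn _)

theorem pow_relIndex_mem {x : G} {S₀ : Subgroup G} (h : Hyp x S₀) {c : G}
    (hc : c ∈ centralizer ({x} : Set G)) :
    c ^ (S₀.relIndex (centralizer ({x} : Set G))) ∈ S₀ := by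
  haveI := h.hn
  have h1 : ((⟨c, hc⟩ : centralizer ({x} : Set G)) :
      centralizer ({x} : Set G) ⧸ S₀.subgroupOf (centralizer ({x} : Set G))) ^
      Nat.card (centralizer ({x} : Set G) ⧸ S₀.subgroupOf (centralizer ({x} : Set G))) = 1 :=
    pow_card_eq_one'
  rw [← Subgroup.index_eq_card, ← QuotientGroup.mk_pow, QuotientGroup.eq_one_iff] at h1
  rw [Subgroup.relIndex]
  simpa [Subgroup.mem_subgroupOf] using h1

theorem mem_of_two_pow {x : G} {S₀ : Subgroup G} (h : Hyp x S₀) {c : G}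
    (hc : c ∈ centralizer ({x} : Set G)) (k : ℕ) (hk : c ^ (2 ^ k) = 1) : c ∈ S₀ := by
  have hcop : Nat.Coprime (S₀.relIndex (centralizer ({x} : Set G))) (2 ^ k) :=
    Nat.Coprime.pow_right k ((Nat.Prime.coprime_iff_not_dvd Nat.prime_two).2 h.hodd).symm
  exact mem_of_pow_mem_of_coprime hcop (pow_relIndex_mem h hc) (by rw [hk]; exact S₀.one_mem)

theorem x_mem_centralizer (x : G) : x ∈ centralizer ({x} : Set G) := by
  rw [mem_centralizer_singleton_iff]

theorem x_mem {x : G} {S₀ : Subgroup G} (h : Hyp x S₀) : x ∈ S₀ := by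
  refine mem_of_two_pow h (x_mem_centralizer x) 1 ?_
  rw [pow_one, ← h.hx]
  exact pow_orderOf_eq_one x

theorem x_ne_one {x : G} {S₀ : Subgroup G} (h : Hyp x S₀) : x ≠ 1 :=
  ne_one_of_orderOf_two h.hx

theorem conj_mem {x : G} {S₀ : Subgroup G} (h : Hyp x S₀) {c s : G}
    (hc : c ∈ centralizer ({x} : Set G)) (hs : s ∈ S₀) : c * s * c⁻¹ ∈ S₀ := by
  have := h.hn.conj_mem ⟨s, h.hle hs⟩ (by simpa [Subgroup.mem_subgroupOf] using hs) ⟨c, hc⟩
  simpa [Subgroup.mem_subgroupOf] using this

/-- There is a third involution. -/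
theorem exists_other {x : G} {S₀ : Subgroup G} (h : Hyp x S₀) :
    ∃ a ∈ S₀, a ≠ 1 ∧ x ≠ a := by
  obtain ⟨a, b, ha, hb, ha1, hb1, hab⟩ := klein_elements S₀ h.hK
  by_cases hxa : x = a
  · refine ⟨b, hb, hb1, ?_⟩
    rw [hxa]; exact hab
  · exact ⟨a, ha, ha1, hxa⟩

theorem sq_comm {x : G} {S₀ : Subgroup G} (h : Hyp x S₀) {c s : G}
    (hc : c ∈ centralizer ({x} : Set G)) (hs : s ∈ S₀) : c ^ 2 * s = s * c ^ 2 := by
  obtain ⟨a, ha, ha1, hxa⟩ := exists_other h
  have hcx : c * x = x * c := ((mem_centralizer_singleton_iff).mp hc)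
  have hxx : x * x = 1 := mul_self_of_orderOf_two h.hx
  have hca : c ^ 2 * a = a * c ^ 2 := by
    have hmem := conj_mem h hc ha
    rcases klein_mem_cases S₀ h.hK (x_mem h) ha (x_ne_one h) ha1 hxa hmem with h1 | h1 | h1 | h1
    · exfalso; apply ha1
      calc a = c⁻¹ * (c * a * c⁻¹) * c := by group
        _ = 1 := by rw [h1]; group
    · exfalso; apply hxa
      calc x = c⁻¹ * (x * c) := by rw [← hcx]; group
        _ = c⁻¹ * (c * a * c⁻¹) * c := by rw [h1]; group
        _ = a := by group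
    · have hcc : c * a = a * c := by
        calc c * a = (c * a * c⁻¹) * c := by group
          _ = a * c := by rw [h1]
      calc c ^ 2 * a = c * (c * a) := by rw [pow_two, mul_assoc]
        _ = c * (a * c) := by rw [hcc]
        _ = (c * a) * c := by rw [mul_assoc]
        _ = a * c * c := by rw [hcc]
        _ = a * c ^ 2 := by rw [pow_two, mul_assoc]
    · have hcc : c * a = x * a * c := by
        calc c * a = (c * a * c⁻¹) * c := by group
          _ = x * a * c := by rw [h1]
      calc c ^ 2 * a = c * (c * a) := by rw [pow_two, mul_assoc]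
        _ = c * (x * a * c) := by rw [hcc]
        _ = (c * x) * (a * c) := by group
        _ = (x * c) * (a * c) := by rw [hcx]
        _ = x * (c * a) * c := by group
        _ = x * (x * a * c) * c := by rw [hcc]
        _ = (x * x) * a * c * c := by group
        _ = a * c ^ 2 := by rw [hxx, one_mul, pow_two, mul_assoc]
  have hcx2 : c ^ 2 * x = x * c ^ 2 := by
    calc c ^ 2 * x = c * (c * x) := by rw [pow_two, mul_assoc]
      _ = c * (x * c) := by rw [hcx]
      _ = (c * x) * c := by rw [mul_assoc]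
      _ = x * c * c := by rw [hcx]
      _ = x * c ^ 2 := by rw [pow_two, mul_assoc]
  rcases klein_mem_cases S₀ h.hK (x_mem h) ha (x_ne_one h) ha1 hxa hs with h1 | h1 | h1 | h1
  · rw [h1, mul_one, one_mul]
  · rw [h1]; exact hcx2
  · rw [h1]; exact hca
  · rw [h1]
    calc c ^ 2 * (x * a) = (c ^ 2 * x) * a := by rw [mul_assoc]
      _ = x * (c ^ 2 * a) := by rw [hcx2, mul_assoc]
      _ = x * a * c ^ 2 := by rw [hca, mul_assoc]

theorem cent_x_le {x : G} {S₀ : Subgroup G} (h : Hyp x S₀) :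
    centralizer ({x} : Set G) ≤ centralizer (S₀ : Set G) := by
  intro c hc
  have hcop : Nat.Coprime (S₀.relIndex (centralizer ({x} : Set G))) 2 :=
    ((Nat.Prime.coprime_iff_not_dvd Nat.prime_two).2 h.hodd).symm
  refine mem_of_pow_mem_of_coprime hcop ?_ ?_
  · rw [mem_centralizer_iff]
    intro s hs
    exact klein_comm S₀ h.hK hs (pow_relIndex_mem h hc)
  · rw [mem_centralizer_iff]
    intro s hs
    exact (sq_comm h hc hs).symm

theorem centralizer_eq {x : G} {S₀ : Subgroup G} (h : Hyp x S₀) :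
    centralizer (S₀ : Set G) = centralizer ({x} : Set G) := by
  apply le_antisymm
  · apply Subgroup.centralizer_le
    rw [Set.singleton_subset_iff]
    exact x_mem h
  · exact cent_x_le h

theorem cent_x_le_normalizer {x : G} {S₀ : Subgroup G} (h : Hyp x S₀) :
    centralizer ({x} : Set G) ≤ normalizer (S₀ : Set G) := by
  rw [← centralizer_eq h]
  exact Subgroup.centralizer_le_normalizer (s := (S₀ : Set G))

theorem two_subgroup_le {x : G} {S₀ : Subgroup G} (h : Hyp x S₀) (Q : Subgroup G)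
    (hQ : Q ≤ centralizer ({x} : Set G)) (hQ2 : IsPGroup 2 Q) : Q ≤ S₀ := by
  intro q hq
  obtain ⟨k, hk⟩ := hQ2 ⟨q, hq⟩
  refine mem_of_two_pow h (hQ hq) k ?_
  simpa using congrArg Subtype.val hk

theorem card_S₀ {x : G} {S₀ : Subgroup G} (h : Hyp x S₀) : Nat.card S₀ = 4 := by
  have := h.hK
  exact IsKleinFour.card_four (G := S₀)

theorem isPGroup_S₀ {x : G} {S₀ : Subgroup G} (h : Hyp x S₀) : IsPGroup 2 S₀ := by
  haveI : Fact (Nat.Prime 2) := ⟨Nat.prime_two⟩
  apply IsPGroup.of_card (n := 2)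
  rw [card_S₀ h]; norm_num

theorem four_dvd_card [Finite G] {x : G} {S₀ : Subgroup G} (h : Hyp x S₀) : 4 ∣ Nat.card G := by
  rw [← card_S₀ h]
  exact Subgroup.card_subgroup_dvd_card S₀

theorem no_index_two [Finite G] [IsSimpleGroup G] {x : G} {S₀ : Subgroup G} (h : Hyp x S₀)
    (H : Subgroup G) : H.index ≠ 2 := by
  intro hH
  haveI := Subgroup.normal_of_index_eq_two hH
  apply SmallOrder.false_of_normal_index H
  · rw [hH]; norm_num
  · rw [hH]
    intro h2
    have := four_dvd_card h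
    rw [← h2] at this
    norm_num at this

end Cfsg.Agent.Helper2.K4Cent
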