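import Mathlib
import Cfsg.Agent.Helper2.K4CentA

set_option autoImplicit false
set_option linter.style.haveILetI false

/-!
# Simple groups in which some involution centralizer has a normal Klein four Sylow 2-subgroup

The Klein four group is a Sylow 2-subgroup of `G`; all involutions are conjugate.
-/

namespace Cfsg.Agent.Helper2.K4Cent

open Subgroup

variable {G : Type*} [Group G]

/-- A cyclic group has at most one involution. -/
theorem cyclic_involution_unique {C : Type*} [Group C] [Finite C] [IsCyclic C] {u v : C}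
    (hu : u ^ 2 = 1) (hv : v ^ 2 = 1) (hu1 : u ≠ 1) (hv1 : v ≠ 1) : u = v := by
  classical
  have : Fintype C := Fintype.ofFinite C
  by_contra huv
  have hle := IsCyclic.card_pow_eq_one_le (α := C) (n := 2) (by norm_num)
  have hsub : ({1, u, v} : Finset C) ⊆ Finset.univ.filter (fun a : C => a ^ 2 = 1) := by
    intro a ha
    simp only [Finset.mem_insert, Finset.mem_singleton] at ha
    simp only [Finset.mem_filter, Finset.mem_univ, true_and]
    rcases ha with rfl | rfl | rfl
    · simp
    · exact hu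
    · exact hv
  have hcard : ({1, u, v} : Finset C).card = 3 := by
    rw [Finset.card_insert_of_notMem, Finset.card_insert_of_notMem, Finset.card_singleton]
    · simpa using huv
    · simp only [Finset.mem_insert, Finset.mem_singleton, not_or]
      exact ⟨fun h => hu1 h.symm, fun h => hv1 h.symm⟩
  have := Finset.card_le_card hsub
  omega

/-- The Klein four group `S₀` is a Sylow `2`-subgroup of `G`. -/
theorem sylow_eq [Finite G] [IsSimpleGroup G] {x : G} {S₀ : Subgroup G} (h : Hyp x S₀)
    (T : Sylow 2 G) (hST : S₀ ≤ T) : (T : Subgroup G) = S₀ := by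
  classical
  haveI : Fact (Nat.Prime 2) := ⟨Nat.prime_two⟩
  obtain ⟨n, hn⟩ := (IsPGroup.iff_card).mp T.isPGroup'
  have hcard4 : Nat.card S₀ = 4 := card_S₀ h
  by_cases hn3 : n ≤ 2
  · symm
    apply Subgroup.eq_of_le_of_card_ge hST
    rw [hn, hcard4]
    calc 2 ^ n ≤ 2 ^ 2 := Nat.pow_le_pow_right (by norm_num) hn3
      _ = 4 := by norm_num
  · push Not at hn3
    exfalso
    have hn3' : 3 ≤ n := hn3
    set A : Subgroup (T : Subgroup G) := S₀.subgroupOf (T : Subgroup G) with hAdef
    have hA : Nat.card A = 2 ^ 2 := by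
      rw [Nat.card_congr (Subgroup.subgroupOfEquivOfLe hST).toEquiv, hcard4]; norm_num
    have hC : centralizer (A : Set (T : Subgroup G)) = A := by
      apply le_antisymm
      · intro t ht
        rw [mem_centralizer_iff] at ht
        have hxA : (⟨x, hST (x_mem h)⟩ : (T : Subgroup G)) ∈ A := by
          rw [hAdef, Subgroup.mem_subgroupOf]; exact x_mem h
        have h1 := ht _ hxA
        have h2 : x * (t : G) = (t : G) * x := congrArg Subtype.val h1
        have htC : (t : G) ∈ centralizer ({x} : Set G) := by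
          rw [mem_centralizer_singleton_iff]; exact h2.symm
        obtain ⟨k, hk⟩ := T.isPGroup' t
        have hk' : (t : G) ^ (2 ^ k) = 1 := by simpa using congrArg Subtype.val hk
        rw [hAdef, Subgroup.mem_subgroupOf]
        exact mem_of_two_pow h htC k hk'
      · intro a ha
        rw [mem_centralizer_iff]
        intro b hb
        have hb' : b ∈ S₀.subgroupOf (T : Subgroup G) := hb
        rw [hAdef, Subgroup.mem_subgroupOf] at ha
        rw [Subgroup.mem_subgroupOf] at hb'
        exact Subtype.ext (klein_comm S₀ h.hK hb' ha)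
    have hcl := Cfsg.Agent.S0112.result (p := 2) n hn A hA hC
    obtain ⟨M₀, hcyc, hidx⟩ := Cfsg.Agent.S0113.result n hn3' hn hcl
    haveI := hcyc
    haveI hM₀n : M₀.Normal := Subgroup.normal_of_index_eq_two hidx
    set M : Subgroup G := M₀.map (T : Subgroup G).subtype with hMdef
    have hMrel : M.relIndex (T : Subgroup G) = 2 := by
      rw [Subgroup.relIndex, hMdef, Subgroup.subgroupOf,
        Subgroup.comap_map_eq_self_of_injective (Subgroup.subtype_injective _)]
      exact hidx
    have hord : ∀ y ∈ (T : Subgroup G), y ∉ M → 2 ^ (1 - 1) < orderOf y := by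
      intro y _ hyM
      have h1 : orderOf y ≠ 1 := by
        intro h1
        apply hyM
        rw [orderOf_eq_one_iff.mp h1]
        exact M.one_mem
      have := orderOf_pos y
      simp only [Nat.sub_self, pow_zero]
      omega
    obtain ⟨g, hg⟩ := thompson_transfer_general (no_index_two h) T M hMrel 1 le_rfl hord x
      (by rw [h.hx, pow_one])
    rw [hMdef, Subgroup.mem_map] at hg
    obtain ⟨w, hwM, hw⟩ := hg
    have hw' : (w : G) = g * x * g⁻¹ := hw
    have hxx : x * x = 1 := mul_self_of_orderOf_two h.hx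
    have hw2 : w ^ 2 = 1 := by
      apply Subtype.ext
      rw [Subgroup.coe_pow, hw', pow_two]
      calc g * x * g⁻¹ * (g * x * g⁻¹) = g * (x * x) * g⁻¹ := by group
        _ = 1 := by rw [hxx]; group
    have hw1 : w ≠ 1 := by
      intro h1
      apply x_ne_one h
      have : (w : G) = 1 := by rw [h1]; rfl
      rw [hw'] at this
      calc x = g⁻¹ * (g * x * g⁻¹) * g := by group
        _ = 1 := by rw [this]; group
    -- `w` is central in `T`
    have hcentral : ∀ t : (T : Subgroup G), t * w * t⁻¹ = w := by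
      intro t
      have hmem : t * w * t⁻¹ ∈ M₀ := hM₀n.conj_mem w hwM t
      have h2 : (⟨t * w * t⁻¹, hmem⟩ : M₀) ^ 2 = 1 := by
        apply Subtype.ext
        rw [Subgroup.coe_pow]
        show (t * w * t⁻¹) ^ 2 = 1
        rw [pow_two]
        calc t * w * t⁻¹ * (t * w * t⁻¹) = t * (w * w) * t⁻¹ := by group
          _ = 1 := by rw [← pow_two, hw2]; group
      have h3 : (⟨w, hwM⟩ : M₀) ^ 2 = 1 := by
        apply Subtype.ext
        rw [Subgroup.coe_pow]
        exact hw2
      have h4 : (⟨t * w * t⁻¹, hmem⟩ : M₀) ≠ 1 := by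
        intro h4
        apply hw1
        have : t * w * t⁻¹ = 1 := congrArg Subtype.val h4
        calc w = t⁻¹ * (t * w * t⁻¹) * t := by group
          _ = 1 := by rw [this]; group
      have h5 : (⟨w, hwM⟩ : M₀) ≠ 1 := by
        intro h5
        exact hw1 (congrArg Subtype.val h5)
      exact congrArg Subtype.val (cyclic_involution_unique h2 h3 h4 h5)
    -- hence `g⁻¹ T g ≤ C(x)`, a `2`-group, so inside `S₀`
    have hinS : ∀ t : (T : Subgroup G), g⁻¹ * (t : G) * g ∈ S₀ := by
      intro t
      have h1 : (t : G) * (g * x * g⁻¹) * (t : G)⁻¹ = g * x * g⁻¹ := by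
        have := congrArg Subtype.val (hcentral t)
        simpa [hw'] using this
      have hC : g⁻¹ * (t : G) * g ∈ centralizer ({x} : Set G) := by
        rw [mem_centralizer_singleton_iff]
        calc g⁻¹ * (t : G) * g * x
            = g⁻¹ * ((t : G) * (g * x * g⁻¹) * (t : G)⁻¹) * (t : G) * g := by group
          _ = g⁻¹ * (g * x * g⁻¹) * (t : G) * g := by rw [h1]
          _ = x * (g⁻¹ * (t : G) * g) := by group
      obtain ⟨k, hk⟩ := T.isPGroup' t
      have hk' : (t : G) ^ (2 ^ k) = 1 := by simpa using congrArg Subtype.val hk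
      refine mem_of_two_pow h hC k ?_
      have : (g⁻¹ * (t : G) * g) ^ (2 ^ k) = g⁻¹ * (t : G) ^ (2 ^ k) * g := by
        have := map_pow (MulAut.conj g⁻¹) (t : G) (2 ^ k)
        simpa [MulAut.conj_apply] using this.symm
      rw [this, hk']; group
    have hinj : Function.Injective (fun t : (T : Subgroup G) => (⟨g⁻¹ * (t : G) * g, hinS t⟩ : S₀)) := by
      intro t₁ t₂ h12
      have : g⁻¹ * (t₁ : G) * g = g⁻¹ * (t₂ : G) * g := congrArg Subtype.val h12
      apply Subtype.ext
      calc (t₁ : G) = g * (g⁻¹ * (t₁ : G) * g) * g⁻¹ := by group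
        _ = g * (g⁻¹ * (t₂ : G) * g) * g⁻¹ := by rw [this]
        _ = (t₂ : G) := by group
    have hle := Nat.card_le_card_of_injective _ hinj
    rw [hn, hcard4] at hle
    have : 2 ^ 3 ≤ 2 ^ n := Nat.pow_le_pow_right (by norm_num) hn3'
    omega

/-- There is a Sylow `2`-subgroup of `G` equal to `S₀`. -/
theorem exists_sylow [Finite G] [IsSimpleGroup G] {x : G} {S₀ : Subgroup G} (h : Hyp x S₀) :
    ∃ P : Sylow 2 G, (P : Subgroup G) = S₀ := by
  obtain ⟨T, hT⟩ := IsPGroup.exists_le_sylow (isPGroup_S₀ h)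
  exact ⟨T, sylow_eq h T hT⟩

/-- Every involution of `G` is conjugate to `x`. -/
theorem conj_to_x [Finite G] [IsSimpleGroup G] {x : G} {S₀ : Subgroup G} (h : Hyp x S₀)
    {t : G} (ht : orderOf t = 2) : ∃ g : G, g * t * g⁻¹ = x := by
  obtain ⟨P, hP⟩ := exists_sylow h
  have hzle : zpowers x ≤ S₀ := by
    rw [zpowers_le]; exact x_mem h
  have hMrel : (zpowers x).relIndex (P : Subgroup G) = 2 := by
    rw [hP]
    have h1 := Subgroup.card_mul_index ((zpowers x).subgroupOf S₀)
    rw [Nat.card_congr (Subgroup.subgroupOfEquivOfLe hzle).toEquiv, Nat.card_zpowers, h.hx,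
      card_S₀ h] at h1
    rw [Subgroup.relIndex]
    omega
  have hord : ∀ y ∈ (P : Subgroup G), y ∉ zpowers x → 2 ^ (1 - 1) < orderOf y := by
    intro y _ hyM
    have h1 : orderOf y ≠ 1 := by
      intro h1
      apply hyM
      rw [orderOf_eq_one_iff.mp h1]
      exact (zpowers x).one_mem
    have := orderOf_pos y
    simp only [Nat.sub_self, pow_zero]
    omega
  obtain ⟨g, hg⟩ := thompson_transfer_general (no_index_two h) P (zpowers x) hMrel 1 le_rfl hord t
    (by rw [ht, pow_one])
  refine ⟨g, ?_⟩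
  rw [Subgroup.mem_zpowers_iff] at hg
  obtain ⟨k, hk⟩ := hg
  have hxx : x * x = 1 := mul_self_of_orderOf_two h.hx
  have htt : t * t = 1 := mul_self_of_orderOf_two ht
  rw [← zpow_mod_orderOf, h.hx] at hk
  norm_num at hk
  rcases Int.emod_two_eq_zero_or_one k with h0 | h0
  · exfalso
    rw [h0, zpow_zero] at hk
    apply ne_one_of_orderOf_two ht
    calc t = g⁻¹ * (g * t * g⁻¹) * g := by group
      _ = 1 := by rw [← hk]; group
  · rw [h0, zpow_one] at hk
    exact hk.symm

theorem all_conj [Finite G] [IsSimpleGroup G] {x : G} {S₀ : Subgroup G} (h : Hyp x S₀)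
    (s t : G) (hs : orderOf s = 2) (ht : orderOf t = 2) : IsConj s t := by
  obtain ⟨g₁, hg₁⟩ := conj_to_x h hs
  obtain ⟨g₂, hg₂⟩ := conj_to_x h ht
  rw [isConj_iff]
  refine ⟨g₂⁻¹ * g₁, ?_⟩
  calc g₂⁻¹ * g₁ * s * (g₂⁻¹ * g₁)⁻¹ = g₂⁻¹ * (g₁ * s * g₁⁻¹) * g₂ := by group
    _ = g₂⁻¹ * (g₂ * t * g₂⁻¹) * g₂ := by rw [hg₁, hg₂]
    _ = t := by group

end Cfsg.Agent.Helper2.K4Cent
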