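import Mathlib
import Cfsg.Agent.Helper2.K4CentB

set_option autoImplicit false
set_option linter.style.haveILetI false

/-!
# Simple groups in which some involution centralizer has a normal Klein four Sylow 2-subgroup

The normalizer of the Klein four group and the number of Sylow 2-subgroups.
-/

namespace Cfsg.Agent.Helper2.K4Cent

open Subgroup

variable {G : Type*} [Group G]

/-- Fusion of `x` inside `S₀` is controlled by the normalizer. -/
theorem exists_normalizer_conj [Finite G] [IsSimpleGroup G] {x : G} {S₀ : Subgroup G}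
    (h : Hyp x S₀) {a : G} (ha : a ∈ S₀) (ha1 : a ≠ 1) :
    ∃ n ∈ normalizer (S₀ : Set G), n * x * n⁻¹ = a := by
  haveI : Fact (Nat.Prime 2) := ⟨Nat.prime_two⟩
  obtain ⟨P, hP⟩ := exists_sylow h
  have haa : a * a = 1 := klein_mul_self S₀ h.hK ha
  obtain ⟨g, hg⟩ := conj_to_x h (orderOf_two_of_mul_self haa ha1)
  have hab : ∀ u ∈ (P : Subgroup G), ∀ v ∈ (P : Subgroup G), u * v = v * u := by
    rw [hP]
    exact fun u hu v hv => klein_comm S₀ h.hK hu hv
  have hx' : g⁻¹ * x * g⁻¹⁻¹ = a := by
    calc g⁻¹ * x * g⁻¹⁻¹ = g⁻¹ * (g * a * g⁻¹) * g := by rw [hg]; group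
      _ = a := by group
  obtain ⟨n, hn, hnx⟩ := abelian_sylow_fusion P hab (a := x) (by rw [hP]; exact x_mem h) g⁻¹
    (by rw [hx', hP]; exact ha)
  refine ⟨n, ?_, ?_⟩
  · rw [← hP]; exact hn
  · rw [hnx, hx']

/-- `|N(S₀)| = 3 |C(x)|`. -/
theorem card_normalizer [Finite G] [IsSimpleGroup G] {x : G} {S₀ : Subgroup G} (h : Hyp x S₀) :
    Nat.card (normalizer (S₀ : Set G)) = 3 * Nat.card (centralizer ({x} : Set G)) := by
  classical
  set N : Subgroup G := normalizer (S₀ : Set G) with hN
  letI : MulAction N G := MulAction.compHom G ((MulAut.conj : G →* MulAut G).comp N.subtype)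
  have hsmul : ∀ (n : N) (y : G), n • y = (n : G) * y * (n : G)⁻¹ := fun n y => rfl
  have : Fintype N := Fintype.ofFinite N
  have : Fintype (MulAction.orbit N x) := Fintype.ofFinite _
  have : Fintype (MulAction.stabilizer N x) := Fintype.ofFinite _
  have hos := MulAction.card_orbit_mul_card_stabilizer_eq_card_group N x
  rw [← Nat.card_eq_fintype_card, ← Nat.card_eq_fintype_card, ← Nat.card_eq_fintype_card] at hos
  -- the stabilizer
  have hstab : MulAction.stabilizer N x = (centralizer ({x} : Set G)).subgroupOf N := by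
    ext n
    rw [MulAction.mem_stabilizer_iff, hsmul, Subgroup.mem_subgroupOf,
      mem_centralizer_singleton_iff]
    constructor
    · intro h1
      calc (n : G) * x = ((n : G) * x * (n : G)⁻¹) * (n : G) := by group
        _ = x * (n : G) := by rw [h1]
    · intro h1
      rw [h1]; group
  have hstabcard : Nat.card (MulAction.stabilizer N x) = Nat.card (centralizer ({x} : Set G)) := by
    rw [hstab]
    exact Nat.card_congr (Subgroup.subgroupOfEquivOfLe (cent_x_le_normalizer h)).toEquiv
  -- the orbit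
  obtain ⟨a, ha, ha1, hxa⟩ := exists_other h
  have hxx : x * x = 1 := mul_self_of_orderOf_two h.hx
  have haa : a * a = 1 := klein_mul_self S₀ h.hK ha
  have hxaS : x * a ∈ S₀ := S₀.mul_mem (x_mem h) ha
  have hxa1 : x * a ≠ 1 := by
    intro h1
    apply hxa
    calc x = x * (a * a) := by rw [haa, mul_one]
      _ = (x * a) * a := by group
      _ = a := by rw [h1, one_mul]
  have hx_xa : x ≠ x * a := by
    intro h1
    apply ha1
    calc a = x⁻¹ * (x * a) := by group
      _ = 1 := by rw [← h1]; group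
  have ha_xa : a ≠ x * a := by
    intro h1
    apply x_ne_one h
    calc x = (x * a) * a⁻¹ := by group
      _ = 1 := by rw [← h1]; group
  have horb : MulAction.orbit N x = {x, a, x * a} := by
    ext y
    rw [MulAction.mem_orbit_iff]
    constructor
    · rintro ⟨n, rfl⟩
      rw [hsmul]
      have hmem : (n : G) * x * (n : G)⁻¹ ∈ S₀ :=
        (Subgroup.mem_normalizer_iff.mp n.2 x).mp (x_mem h)
      have hne : (n : G) * x * (n : G)⁻¹ ≠ 1 := by
        intro h1
        apply x_ne_one h
        calc x = (n : G)⁻¹ * ((n : G) * x * (n : G)⁻¹) * (n : G) := by group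
          _ = 1 := by rw [h1]; group
      rcases klein_mem_cases S₀ h.hK (x_mem h) ha (x_ne_one h) ha1 hxa hmem with h1 | h1 | h1 | h1
      · exact absurd h1 hne
      · rw [h1]; simp
      · rw [h1]; simp
      · rw [h1]; simp
    · intro hy
      simp only [Set.mem_insert_iff, Set.mem_singleton_iff] at hy
      rcases hy with rfl | rfl | rfl
      · exact ⟨1, by rw [hsmul]; simp⟩
      · obtain ⟨n, hn, hnx⟩ := exists_normalizer_conj h ha ha1
        exact ⟨⟨n, hn⟩, by rw [hsmul]; exact hnx⟩
      · obtain ⟨n, hn, hnx⟩ := exists_normalizer_conj h hxaS hxa1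
        exact ⟨⟨n, hn⟩, by rw [hsmul]; exact hnx⟩
  have horbcard : Nat.card (MulAction.orbit N x) = 3 := by
    rw [horb, Nat.card_coe_set_eq]
    exact Set.ncard_eq_three.mpr ⟨x, a, x * a, hxa, hx_xa, ha_xa, rfl⟩
  rw [horbcard, hstabcard] at hos
  exact hos.symm

/-- `|G| = #Syl₂ · 3 |C(x)|`. -/
theorem card_eq [Finite G] [IsSimpleGroup G] {x : G} {S₀ : Subgroup G} (h : Hyp x S₀) :
    Nat.card G = Nat.card (Sylow 2 G) * (3 * Nat.card (centralizer ({x} : Set G))) := by
  haveI : Fact (Nat.Prime 2) := ⟨Nat.prime_two⟩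
  obtain ⟨P, hP⟩ := exists_sylow h
  have := SmallOrder.card_normalizer_mul_card_sylow P
  rw [hP, card_normalizer h] at this
  rw [← this, mul_comm]

theorem index_normalizer [Finite G] [IsSimpleGroup G] {x : G} {S₀ : Subgroup G} (h : Hyp x S₀) :
    (normalizer (S₀ : Set G)).index = Nat.card (Sylow 2 G) := by
  haveI : Fact (Nat.Prime 2) := ⟨Nat.prime_two⟩
  obtain ⟨P, hP⟩ := exists_sylow h
  rw [Sylow.card_eq_index_normalizer P, ← hP]
  rfl

/-- The number of Sylow `2`-subgroups is at least `5`. -/
theorem five_le_card_sylow [Finite G] [IsSimpleGroup G] {x : G} {S₀ : Subgroup G} (h : Hyp x S₀) :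
    5 ≤ Nat.card (Sylow 2 G) := by
  haveI : Fact (Nat.Prime 2) := ⟨Nat.prime_two⟩
  obtain ⟨P, hP⟩ := exists_sylow h
  have hmod := card_sylow_modEq_one 2 G
  have hodd : Nat.card (Sylow 2 G) % 2 = 1 := hmod
  have hcardP : Nat.card P = 4 := by
    show Nat.card (P : Subgroup G) = 4
    rw [hP]; exact card_S₀ h
  have hG4 := four_dvd_card h
  have hne1 : Nat.card (Sylow 2 G) ≠ 1 := by
    apply SmallOrder.card_sylow_ne_one P
    · rw [hcardP]; norm_num
    · rw [hcardP]
      intro h4
      -- then `zpowers x` has index `2`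
      have h1 := Subgroup.card_mul_index (zpowers x)
      rw [Nat.card_zpowers, h.hx, ← h4] at h1
      exact no_index_two h (zpowers x) (by omega)
  have hne3 : Nat.card (Sylow 2 G) ≠ 3 := by
    intro h3
    have hidx := index_normalizer h
    rw [h3] at hidx
    have hne : normalizer (S₀ : Set G) ≠ ⊤ := by
      intro htop
      rw [htop, Subgroup.index_top] at hidx
      omega
    have := SmallOrder.card_dvd_factorial_index (normalizer (S₀ : Set G)) hne
    rw [hidx] at this
    have h46 : 4 ∣ Nat.factorial 3 := dvd_trans hG4 this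
    norm_num [Nat.factorial] at h46
  have hpos : 0 < Nat.card (Sylow 2 G) := Nat.card_pos
  omega

end Cfsg.Agent.Helper2.K4Cent
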