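import Mathlib
import Cfsg.Agent.Helper2.KfG
import Cfsg.Agent.Helper6.SquareRoots
import Cfsg.Agent.Helper6.Involutions
import Cfsg.Agent.Helper6.FrobSchur
import Cfsg.Agent.Helper6.NormalInd
import Cfsg.Agent.Helper6.Codegree
import Cfsg.Agent.Helper6.KleinFourC

/-!
# Klein four Sylow subgroups: the Frobenius–Schur relation on the principal block
-/

set_option autoImplicit false
set_option linter.style.haveILetI false

namespace Cfsg.Agent.Helper2.Kf

open Cfsg.Agent.Helper6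
open scoped ComplexConjugate

universe u

variable {G : Type u} [Group G] {M : Ideal Cfsg.AlgInt}

/-- `J * v` has no square root when the Sylow `2`-subgroups are Klein four groups -/
theorem no_sqrt [Finite G] (P : Sylow 2 G) (hP : IsKleinFour (P : Subgroup G)) (J : G)
    (hJ2 : orderOf J = 2) (v : G) (hv : Odd (orderOf v)) (hJv : J * v = v * J) (s : G) :
    s * s ≠ J * v := by
  intro hs
  have hJJ : J * J = 1 := sq_eq_one_of_orderOf_two hJ2
  have hJ1 : J ≠ 1 := by
    rintro rfl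
    rw [orderOf_one] at hJ2
    omega
  obtain ⟨m, hm⟩ := hv
  have hw : (J * v) ^ (orderOf v) = J := by
    rw [(show Commute J v from hJv).mul_pow, pow_orderOf_eq_one, mul_one, hm, pow_succ, pow_mul,
      pow_two, hJJ, one_pow, one_mul]
  have h2 : (s ^ orderOf v) ^ 2 = J := by
    rw [← pow_mul, mul_comm, pow_mul, pow_two, hs, hw]
  have h4 : orderOf (s ^ orderOf v) = 2 ^ (1 + 1) := by
    apply orderOf_eq_prime_pow
    · rw [pow_one, h2]
      exact hJ1
    · rw [pow_succ, pow_mul, pow_one, h2, pow_two, hJJ]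
  have hne : s ^ orderOf v ≠ 1 := by
    intro h
    rw [h, orderOf_one] at h4
    norm_num at h4
  have := orderOf_eq_two_of_klein P hP (s ^ orderOf v) ⟨2, h4⟩ hne
  rw [h4] at this
  norm_num at this

/-- the indicator of the principal character -/
theorem fsIndFun_trivIrrK [Fintype G] :
    fsIndFun ((trivIrrK G : Cfsg.IrrCharacter G) : G → ℂ) = 1 := by
  unfold fsIndFun
  simp only [trivIrrK_apply, Finset.sum_const, Finset.card_univ, nsmul_eq_mul, mul_one]
  rw [Nat.card_eq_fintype_card]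
  have : (Fintype.card G : ℂ) ≠ 0 := by
    exact_mod_cast (Fintype.card_pos (α := G)).ne'
  exact inv_mul_cancel₀ this

/-- real irreducible characters of odd degree have indicator `1` -/
theorem fsIndFun_eq_one_of_real_of_odd [Fintype G] (χ : Cfsg.IrrCharacter G)
    (hreal : ∀ g, ((χ : G → ℂ) g).im = 0) (hodd : Odd (Cfsg.charDegree (χ : G → ℂ))) :
    fsIndFun (χ : G → ℂ) = 1 := by
  obtain ⟨n, ρ, hirr, hρ⟩ := χ.2
  haveI := hirr
  have hfs : fsIndFun (χ : G → ℂ) = fsInd ρ := by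
    unfold fsIndFun fsInd
    rw [hρ]
  have hn : Cfsg.charDegree (χ : G → ℂ) = n := by
    rw [← hρ, charDegree_rep]
  rw [hfs]
  apply fsInd_eq_one_of_real_of_odd ρ _ (hn ▸ hodd)
  intro g
  rw [char_inv_eq_conj, hρ]
  exact Complex.conj_eq_iff_im.mpr (hreal g)

open Classical in
/-- the Frobenius–Schur relation on the principal block -/
theorem fs_relation [Finite G] (hM : Cfsg.IsPModular 2 M) (g₀ : ℕ) (hg₀ : Odd g₀)
    (hG : Nat.card G = 4 * g₀) (hnc : ¬ ∃ N : Subgroup G, N.Normal ∧ Nat.card N = g₀)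
    (P : Sylow 2 G) (J : G) (hJ2 : orderOf J = 2)
    (χ₁ χ₂ χ₃ : Cfsg.IrrCharacter G)
    (hB : Cfsg.principalBlock M G = {χ : Cfsg.IrrCharacter G |
      (χ : G → ℂ) = (fun _ => 1) ∨ χ = χ₁ ∨ χ = χ₂ ∨ χ = χ₃})
    (hdist : (χ₁ : G → ℂ) ≠ (fun _ => 1) ∧ (χ₂ : G → ℂ) ≠ (fun _ => 1) ∧
      (χ₃ : G → ℂ) ≠ (fun _ => 1) ∧ χ₁ ≠ χ₂ ∧ χ₁ ≠ χ₃ ∧ χ₂ ≠ χ₃) :
    letI : Fintype G := Fintype.ofFinite G
    1 + fsIndFun (χ₁ : G → ℂ) * (χ₁ : G → ℂ) J + fsIndFun (χ₂ : G → ℂ) * (χ₂ : G → ℂ) J +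
      fsIndFun (χ₃ : G → ℂ) * (χ₃ : G → ℂ) J = 0 := by
  haveI : Fact (Nat.Prime 2) := ⟨Nat.prime_two⟩
  letI : Fintype G := Fintype.ofFinite G
  haveI : Finite (Cfsg.IrrCharacter G) := irr_finite
  haveI : Fintype (Cfsg.IrrCharacter G) := Fintype.ofFinite _
  have hP := sylow_isKleinFour g₀ hg₀ hG hnc P
  have hidx := (exists_index_pPrimeCore_of_klein P hP J hJ2).1
  have hx : ∃ k : ℕ, orderOf J = 2 ^ k := ⟨1, by rw [hJ2, pow_one]⟩
  have hoddO : Odd (Nat.card (Cfsg.pPrimeCore 2 (Subgroup.centralizer ({J} : Set G)))) := by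
    rw [← Nat.not_even_iff_odd, even_iff_two_dvd]
    exact Helper5.not_dvd_card_pPrimeCore 2
  have hzero : ∀ c ∈ Finset.univ.filter (fun c : Subgroup.centralizer ({J} : Set G) =>
        c ∈ Cfsg.pPrimeCore 2 (Subgroup.centralizer ({J} : Set G))),
      ∑ χ : Cfsg.IrrCharacter G, fsIndFun (χ : G → ℂ) * (χ : G → ℂ) (J * (c : G)) = 0 := by
    intro c hc
    rw [Finset.mem_filter] at hc
    rw [← card_sq_eq_eq_sum]
    have hcodd : Odd (orderOf (c : G)) := by
      have h1 : orderOf (⟨c, hc.2⟩ : Cfsg.pPrimeCore 2 (Subgroup.centralizer ({J} : Set G))) ∣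
          Nat.card (Cfsg.pPrimeCore 2 (Subgroup.centralizer ({J} : Set G))) :=
        orderOf_dvd_natCard _
      rw [Subgroup.orderOf_mk, ← Subgroup.orderOf_coe] at h1
      exact Odd.of_dvd_nat hoddO h1
    have hJc : J * (c : G) = (c : G) * J := by
      have := c.2
      rw [Subgroup.mem_centralizer_singleton_iff] at this
      exact this.symm
    have hempty : Finset.univ.filter (fun s : G => s * s = J * (c : G)) = ∅ := by
      rw [Finset.filter_eq_empty_iff]
      intro s _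
      exact no_sqrt P hP J hJ2 (c : G) hcodd hJc s
    rw [hempty, Finset.card_empty, Nat.cast_zero]
  have hsum := Finset.sum_eq_zero hzero
  rw [Finset.sum_comm] at hsum
  have hS : ∀ χ : Cfsg.IrrCharacter G,
      ∑ c ∈ Finset.univ.filter (fun c : Subgroup.centralizer ({J} : Set G) =>
        c ∈ Cfsg.pPrimeCore 2 (Subgroup.centralizer ({J} : Set G))),
        fsIndFun (χ : G → ℂ) * (χ : G → ℂ) (J * (c : G)) =
      if χ ∈ Cfsg.principalBlock M G then
        fsIndFun (χ : G → ℂ) *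
          ((Nat.card (Cfsg.pPrimeCore 2 (Subgroup.centralizer ({J} : Set G))) : ℂ) *
          (χ : G → ℂ) J) else 0 := by
    intro χ
    rw [← Finset.mul_sum]
    split_ifs with hχ
    · rw [sum_core_of_principal hM J hx χ hχ]
    · rw [sum_core_of_not_principal hM J hx hidx χ hχ, mul_zero]
  rw [Finset.sum_congr rfl (fun χ _ => hS χ), sum_block_four χ₁ χ₂ χ₃ hB hdist] at hsum
  rw [fsIndFun_trivIrrK, trivIrrK_apply] at hsum
  have hO0 : (Nat.card (Cfsg.pPrimeCore 2 (Subgroup.centralizer ({J} : Set G))) : ℂ) ≠ 0 := by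
    exact_mod_cast (Nat.card_pos
      (α := Cfsg.pPrimeCore 2 (Subgroup.centralizer ({J} : Set G)))).ne'
  have : (Nat.card (Cfsg.pPrimeCore 2 (Subgroup.centralizer ({J} : Set G))) : ℂ) *
      (1 + fsIndFun (χ₁ : G → ℂ) * (χ₁ : G → ℂ) J + fsIndFun (χ₂ : G → ℂ) * (χ₂ : G → ℂ) J +
      fsIndFun (χ₃ : G → ℂ) * (χ₃ : G → ℂ) J) = 0 := by
    linear_combination hsum
  rcases mul_eq_zero.mp this with h | h
  · exact absurd h hO0
  · exact h

end Cfsg.Agent.Helper2.Kf
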