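import Mathlib
import Cfsg.Agent.Helper2.KfH

/-!
# Klein four Sylow subgroups: the two characters with value `1` are complex conjugate
-/

set_option autoImplicit false
set_option linter.style.haveILetI false

namespace Cfsg.Agent.Helper2.Kf

open Cfsg.Agent.Helper6
open scoped ComplexConjugate

universe u

variable {G : Type u} [Group G] {M : Ideal Cfsg.AlgInt}

open Classical in
/-- in the case `(ε₁, ε₂, ε₃) = (1, 1, -1)`, `χ₂` is the complex conjugate of `χ₁`; in particular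
the degrees agree -/
theorem degrees_eq [Finite G] (hM : Cfsg.IsPModular 2 M) (g₀ : ℕ) (hg₀ : Odd g₀)
    (hG : Nat.card G = 4 * g₀) (hnc : ¬ ∃ N : Subgroup G, N.Normal ∧ Nat.card N = g₀)
    (P : Sylow 2 G) (J : G) (hJ2 : orderOf J = 2)
    (χ₁ χ₂ χ₃ : Cfsg.IrrCharacter G)
    (hB : Cfsg.principalBlock M G = {χ : Cfsg.IrrCharacter G |
      (χ : G → ℂ) = (fun _ => 1) ∨ χ = χ₁ ∨ χ = χ₂ ∨ χ = χ₃})
    (hdist : (χ₁ : G → ℂ) ≠ (fun _ => 1) ∧ (χ₂ : G → ℂ) ≠ (fun _ => 1) ∧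
      (χ₃ : G → ℂ) ≠ (fun _ => 1) ∧ χ₁ ≠ χ₂ ∧ χ₁ ≠ χ₃ ∧ χ₂ ≠ χ₃)
    (h1 : (χ₁ : G → ℂ) J = 1) (h2 : (χ₂ : G → ℂ) J = 1) (h3 : (χ₃ : G → ℂ) J = -1) :
    (χ₁ : G → ℂ) 1 = (χ₂ : G → ℂ) 1 := by
  haveI : Fact (Nat.Prime 2) := ⟨Nat.prime_two⟩
  letI : Fintype G := Fintype.ofFinite G
  haveI : Finite (Cfsg.IrrCharacter G) := irr_finite
  haveI : Fintype (Cfsg.IrrCharacter G) := Fintype.ofFinite _
  have hP := sylow_isKleinFour g₀ hg₀ hG hnc P
  have hconj := all_involutions_conj g₀ hg₀ hG hnc P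
  have hidx := (exists_index_pPrimeCore_of_klein P hP J hJ2).1
  have hx : ∃ k : ℕ, orderOf J = 2 ^ k := ⟨1, by rw [hJ2, pow_one]⟩
  obtain ⟨v, hvval, hv4, -, -, -⟩ := klein_principal_block_core hM P hP hconj
  -- the degrees are odd
  have hodd : ∀ χ : Cfsg.IrrCharacter G, ((χ : G → ℂ) J = 1 ∨ (χ : G → ℂ) J = -1) →
      Odd (Cfsg.charDegree (χ : G → ℂ)) := by
    intro χ hχ
    have hv := hvval χ J hJ2
    have hvχ : v χ = 1 ∨ v χ = -1 := by
      rcases hχ with h | h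
      · left
        rw [h] at hv
        exact_mod_cast hv.symm
      · right
        rw [h] at hv
        exact_mod_cast hv.symm
    obtain ⟨k, hk⟩ := hv4 χ
    rw [← Int.odd_coe_nat]
    rcases hvχ with h | h
    · exact ⟨2 * k, by rw [h] at hk; omega⟩
    · exact ⟨2 * k - 1, by rw [h] at hk; omega⟩
  have hodd1 := hodd χ₁ (Or.inl h1)
  have hodd2 := hodd χ₂ (Or.inl h2)
  have hodd3 := hodd χ₃ (Or.inr h3)
  have hν : ∀ χ : Cfsg.IrrCharacter G, Odd (Cfsg.charDegree (χ : G → ℂ)) →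
      ((∀ g, ((χ : G → ℂ) g).im = 0) ∧ fsIndFun (χ : G → ℂ) = 1) ∨
      ((∃ g, ((χ : G → ℂ) g).im ≠ 0) ∧ fsIndFun (χ : G → ℂ) = 0) := by
    intro χ hχ
    rcases irr_fs_cases χ with ⟨hreal, -⟩ | ⟨hnr, h0⟩
    · left
      exact ⟨hreal, fsIndFun_eq_one_of_real_of_odd χ hreal hχ⟩
    · right
      exact ⟨hnr, h0⟩
  have hrel := fs_relation hM g₀ hg₀ hG hnc P J hJ2 χ₁ χ₂ χ₃ hB hdist
  rw [h1, h2, h3] at hrel
  -- `χ₁` is not real
  have hnr : ∃ g, ((χ₁ : G → ℂ) g).im ≠ 0 := by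
    rcases hν χ₁ hodd1 with ⟨-, hν1⟩ | ⟨hnr, -⟩
    · exfalso
      rw [hν1] at hrel
      rcases hν χ₂ hodd2 with ⟨-, hν2⟩ | ⟨-, hν2⟩ <;>
        rcases hν χ₃ hodd3 with ⟨-, hν3⟩ | ⟨-, hν3⟩ <;>
        rw [hν2, hν3] at hrel <;> norm_num at hrel
    · exact hnr
  -- the conjugate character
  obtain ⟨ψ, hψ⟩ : ∃ ψ : Cfsg.IrrCharacter G, ψ = ⟨fun g => conj ((χ₁ : G → ℂ) g),
    conj_isIrr χ₁.2⟩ := ⟨_, rfl⟩
  have hψval : ∀ g, (ψ : G → ℂ) g = conj ((χ₁ : G → ℂ) g) := by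
    intro g
    rw [hψ]
  have hχ₁B : χ₁ ∈ Cfsg.principalBlock M G := by
    rw [hB]
    exact Or.inr (Or.inl rfl)
  have hψB : ψ ∈ Cfsg.principalBlock M G := by
    by_contra hcon
    have hz := sum_core_of_not_principal hM J hx hidx ψ hcon
    have hs := sum_core_of_principal hM J hx χ₁ hχ₁B
    have hz' : ∑ c ∈ Finset.univ.filter (fun c : Subgroup.centralizer ({J} : Set G) =>
        c ∈ Cfsg.pPrimeCore 2 (Subgroup.centralizer ({J} : Set G))),
        (ψ : G → ℂ) (J * (c : G)) = conj (∑ c ∈ Finset.univ.filter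
          (fun c : Subgroup.centralizer ({J} : Set G) =>
            c ∈ Cfsg.pPrimeCore 2 (Subgroup.centralizer ({J} : Set G))),
          (χ₁ : G → ℂ) (J * (c : G))) := by
      rw [map_sum]
      apply Finset.sum_congr rfl
      intro c _
      rw [hψval]
    rw [hz', hs, h1, mul_one, map_natCast] at hz
    have hO0 : (Nat.card (Cfsg.pPrimeCore 2 (Subgroup.centralizer ({J} : Set G))) : ℂ) ≠ 0 := by
      exact_mod_cast (Nat.card_pos
        (α := Cfsg.pPrimeCore 2 (Subgroup.centralizer ({J} : Set G)))).ne'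
    exact hO0 hz
  rw [hB] at hψB
  rcases hψB with h | h | h | h
  · exfalso
    apply hdist.1
    funext g
    have := congrFun h g
    rw [hψval] at this
    have h' := congrArg conj this
    rw [Complex.conj_conj, map_one] at h'
    exact h'
  · exfalso
    obtain ⟨g, hg⟩ := hnr
    apply hg
    have : (ψ : G → ℂ) g = (χ₁ : G → ℂ) g := by rw [h]
    rw [hψval] at this
    exact Complex.conj_eq_iff_im.mp this
  · have : (ψ : G → ℂ) 1 = (χ₂ : G → ℂ) 1 := by rw [h]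
    rw [hψval] at this
    obtain ⟨n, -, hn⟩ := IsIrrCharacter.apply_one_pos χ₁.2
    rw [hn, map_natCast] at this
    rw [hn, this]
  · exfalso
    have : (ψ : G → ℂ) J = (χ₃ : G → ℂ) J := by rw [h]
    rw [hψval, h1, h3, map_one] at this
    norm_num at this

end Cfsg.Agent.Helper2.Kf
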