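import Mathlib

/-!
# Arithmetic for the order formula in the case `ε₁ε₂ε₃ = -1`
-/

set_option autoImplicit false

namespace Cfsg.Agent.Helper2.Kf

theorem arith_final (g cJ cP x q : ℕ) (hx : 0 < x) (hcP : 0 < cP) (hcJ : 0 < cJ)
    (hq : q = 2 * x + 1) (hdvd : cP ∣ cJ) (hdvd2 : cJ ∣ g)
    (hform : g * (x + 1) ^ 2 * cP ^ 2 = 4 * cJ ^ 3 * x * (2 * x + 1)) :
    ∃ m : ℕ, 4 * cJ = m * cP * (q + 1) ∧ 8 * g = m ^ 3 * cP * (q ^ 3 - q) := by
  obtain ⟨k, hk⟩ := hdvd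
  obtain ⟨idx, hidx⟩ := hdvd2
  have hk0 : 0 < k := by
    rcases Nat.eq_zero_or_pos k with h | h
    · rw [h, mul_zero] at hk
      omega
    · exact h
  -- cancel
  have h1 : idx * (x + 1) ^ 2 = 4 * k ^ 2 * x * (2 * x + 1) := by
    have h2 : cP ^ 3 * k * (idx * (x + 1) ^ 2) = cP ^ 3 * k * (4 * k ^ 2 * x * (2 * x + 1)) := by
      rw [hidx, hk] at hform
      linear_combination hform
    have h3 : 0 < cP ^ 3 * k := by positivity
    exact Nat.eq_of_mul_eq_mul_left h3 h2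
  have hc1 : Nat.Coprime (x + 1) x := by
    have : Nat.Coprime (x + 1) x ↔ Nat.Coprime 1 x := by
      rw [add_comm]
      exact Nat.coprime_add_self_left
    rw [this]
    exact Nat.coprime_one_left x
  have hc2 : Nat.Coprime (x + 1) (2 * x + 1) := by
    have : 2 * x + 1 = x + (x + 1) := by ring
    rw [this, Nat.coprime_add_self_right]
    exact hc1
  have hd1 : (x + 1) ^ 2 ∣ (2 * k) ^ 2 := by
    have h4 : (x + 1) ^ 2 ∣ (2 * k) ^ 2 * (x * (2 * x + 1)) := by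
      refine ⟨idx, ?_⟩
      rw [mul_comm ((x + 1) ^ 2) idx, h1]
      ring
    have hc3 : Nat.Coprime ((x + 1) ^ 2) (x * (2 * x + 1)) :=
      Nat.Coprime.pow_left 2 (Nat.Coprime.mul_right hc1 hc2)
    exact hc3.dvd_of_dvd_mul_right h4
  have hd2 : x + 1 ∣ 2 * k := (Nat.pow_dvd_pow_iff (by norm_num)).mp hd1
  obtain ⟨m, hm⟩ := hd2
  refine ⟨m, ?_, ?_⟩
  · rw [hq, hk]
    have : 4 * (cP * k) = 2 * cP * (2 * k) := by ring
    rw [this, hm]
    ring
  · have h5 : idx = m ^ 2 * x * (2 * x + 1) := by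
      have h6 : (x + 1) ^ 2 * idx = (x + 1) ^ 2 * (m ^ 2 * x * (2 * x + 1)) := by
        have : 4 * k ^ 2 = (2 * k) ^ 2 := by ring
        rw [mul_comm, h1, this, hm]
        ring
      exact Nat.eq_of_mul_eq_mul_left (by positivity) h6
    have h7 : q ^ 3 - q = 4 * x * (x + 1) * (2 * x + 1) := by
      apply Nat.sub_eq_of_eq_add
      rw [hq]
      ring
    rw [h7, hidx, hk, h5]
    have : 8 * (cP * k * (m ^ 2 * x * (2 * x + 1))) =
        4 * cP * (2 * k) * (m ^ 2 * x * (2 * x + 1)) := by ring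
    rw [this, hm]
    ring

end Cfsg.Agent.Helper2.Kf
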