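import Mathlib
import Cfsg.Agent.Helper2.K4CentC
import Cfsg.Agent.Helper2.AltRecog
import Cfsg.Agent.Helper6.PowCongr
import Cfsg.Agent.Helper6.BlockPart
import Cfsg.Agent.S0948
import Cfsg.Agent.S4479
import Cfsg.Agent.S4480

set_option autoImplicit false
set_option linter.style.haveILetI false

/-!
# Simple groups in which some involution centralizer has a normal Klein four Sylow 2-subgroup

Character-theoretic part and the identification with `A₅`.
-/

namespace Cfsg.Agent.Helper2.K4Cent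

open Subgroup

variable {G : Type*} [Group G]

/-- The arithmetic core of the case `ε = -1`. -/
theorem arith_core (n x₁ x₂ x₃ : ℤ) (hn : 5 ≤ n) (h2 : x₂ = 3 ∨ 7 ≤ x₂) (h3 : x₃ = 3 ∨ 7 ≤ x₃)
    (hrel : x₁ + 1 = x₂ + x₃)
    (heq : 3 * n * (x₁ + 1) * (x₂ - 1) * (x₃ - 1) = 8 * x₁ * x₂ * x₃) : n = 5 := by
  obtain ⟨u, hu⟩ : ∃ u, u = x₂ - 1 := ⟨_, rfl⟩
  obtain ⟨v, hv⟩ : ∃ v, v = x₃ - 1 := ⟨_, rfl⟩
  have hx₂ : x₂ = u + 1 := by omega
  have hx₃ : x₃ = v + 1 := by omega
  have hx₁ : x₁ = u + v + 1 := by omega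
  rw [hx₁, hx₂, hx₃] at heq
  have hu2 : u = 2 ∨ 6 ≤ u := by omega
  have hv2 : v = 2 ∨ 6 ≤ v := by omega
  have hu0 : 2 ≤ u := by omega
  have hv0 : 2 ≤ v := by omega
  have huv : 0 < u * v := by positivity
  have hlow : 15 * ((u + v + 2) * (u * v)) ≤ 3 * n * (u + v + 1 + 1) * (u + 1 - 1) * (v + 1 - 1) := by
    have h1 : 0 ≤ (u + v + 2) * (u * v) := by positivity
    nlinarith
  have key : ∀ a b : ℤ, 6 ≤ a → 2 ≤ b → 8 * (a + b + 1) * (a + 1) * (b + 1) <
      15 * ((a + b + 2) * (a * b)) := by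
    intro a b ha hb
    have h1 : 0 ≤ (7 * a - 8) * (b - 2) := mul_nonneg (by linarith) (by linarith)
    have h2 : 8 * ((a + 1) * (b + 1)) + 12 ≤ 15 * (a * b) := by nlinarith
    have h3 : 0 < (a + 1) * (b + 1) := by positivity
    have h4 : 0 < a + b + 1 := by linarith
    nlinarith
  rcases hu2 with hu2 | hu6
  · rcases hv2 with hv2 | hv6
    · rw [hu2, hv2] at heq
      omega
    · exfalso
      have := key v u hv6 hu0
      have e1 : 8 * (v + u + 1) * (v + 1) * (u + 1) = 8 * (u + v + 1) * (u + 1) * (v + 1) := by ring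
      have e2 : 15 * ((v + u + 2) * (v * u)) = 15 * ((u + v + 2) * (u * v)) := by ring
      linarith
  · exfalso
    have := key u v hu6 hv0
    linarith

theorem card_cent_eq {x : G} {S₀ : Subgroup G} (h : Hyp x S₀) :
    Nat.card (centralizer ({x} : Set G)) = 4 * S₀.relIndex (centralizer ({x} : Set G)) := by
  have h1 := Subgroup.card_mul_index (S₀.subgroupOf (centralizer ({x} : Set G)))
  rw [Nat.card_congr (Subgroup.subgroupOfEquivOfLe h.hle).toEquiv, card_S₀ h] at h1
  rw [Subgroup.relIndex, h1]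

theorem main [Finite G] [IsSimpleGroup G] {x : G} {S₀ : Subgroup G} (h : Hyp x S₀) :
    Nonempty (G ≃* ↥(alternatingGroup (Fin 5))) := by
  classical
  haveI : Fact (Nat.Prime 2) := ⟨Nat.prime_two⟩
  obtain ⟨P, hP⟩ := exists_sylow h
  have hPK : IsKleinFour (P : Subgroup G) := by rw [hP]; exact h.hK
  have hcardP : Nat.card (P : Subgroup G) = 4 := by rw [hP]; exact card_S₀ h
  -- order of `G`
  set g₀ := (P : Subgroup G).index with hg₀def
  have hg₀ : Odd g₀ := by
    rw [← Nat.not_even_iff_odd, even_iff_two_dvd]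
    exact P.not_dvd_index
  have hG : Nat.card G = 4 * g₀ := by
    rw [← hcardP]; exact ((P : Subgroup G).card_mul_index).symm
  have hnc : ¬ ∃ N : Subgroup G, N.Normal ∧ Nat.card N = g₀ := by
    rintro ⟨N, hN, hNc⟩
    rcases hN.eq_bot_or_eq_top with hb | ht
    · rw [hb, Subgroup.card_bot] at hNc
      have h1 := Subgroup.card_mul_index (zpowers x)
      rw [Nat.card_zpowers, h.hx, hG, ← hNc] at h1
      exact no_index_two h (zpowers x) (by omega)
    · rw [ht, Subgroup.card_top, hG] at hNc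
      have := Nat.odd_iff.mp hg₀
      omega
  obtain ⟨M, hM⟩ := Cfsg.Agent.Helper6.exists_isPModular 2 Nat.prime_two
  obtain ⟨ζ₂, ζ₃, ζ₄, ε, hε, hζ₂, hζ₃, h23, h24, h34, hB, hval, hd2, hd3, hd4, hrel⟩ :=
    Cfsg.Agent.S0948.result M hM P hPK (all_conj h)
  have hxP : x ∈ (P : Subgroup G) := by rw [hP]; exact x_mem h
  obtain ⟨hv2, hv3, hv4⟩ := hval x h.hx
  have hζ₄ : (ζ₄ : G → ℂ) ≠ (fun _ => 1) := by
    intro h1
    rw [h1] at hv4
    norm_num at hv4
  have hcP : Nat.card (centralizer ((P : Subgroup G) : Set G)) =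
      Nat.card (centralizer ({x} : Set G)) := by
    rw [hP, centralizer_eq h]
  have hc0 : 0 < Nat.card (centralizer ({x} : Set G)) := Nat.card_pos
  have hcard := card_eq h
  have hG4 := four_dvd_card h
  rcases hε with rfl | rfl
  · -- case `ε = 1`: impossible
    exfalso
    obtain ⟨m, hm1, hm2⟩ := Cfsg.Agent.S4480.result M hM g₀ hg₀ hG hnc P x hxP h.hx ζ₂ ζ₃ ζ₄
      1 1 (-1) hB ⟨hζ₂, hζ₃, hζ₄, h23, h24, h34⟩
      ⟨Or.inl rfl, Or.inl rfl, Or.inr rfl⟩
      ⟨by rw [hv2]; simp, by rw [hv3], by rw [hv4]; simp⟩ (by norm_num) rfl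
    rw [hcP] at hm1 hm2
    set c := Nat.card (centralizer ({x} : Set G)) with hc
    set q := Cfsg.charDegree (ζ₄ : G → ℂ) with hq
    have h4 : 4 = m * (q + 1) := by
      have : 4 * c = (m * (q + 1)) * c := by
        calc 4 * c = m * c * (q + 1) := hm1
          _ = (m * (q + 1)) * c := by ring
      exact Nat.eq_of_mul_eq_mul_right hc0 this
    have hdvd : 4 ∣ q + 1 := by
      have : ((4 : ℕ) : ℤ) ∣ ((q + 1 : ℕ) : ℤ) := by
        push_cast
        exact hd4
      exact Int.natCast_dvd_natCast.mp this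
    obtain ⟨k, hk⟩ := hdvd
    have hk1 : m * k = 1 := by
      rw [hk] at h4
      have e : m * (4 * k) = 4 * (m * k) := by ring
      have : 4 * (m * k) = 4 * 1 := by rw [← e, ← h4]
      exact Nat.eq_of_mul_eq_mul_left (by norm_num) this
    have hm : m = 1 := Nat.eq_one_of_mul_eq_one_right hk1
    have hk' : k = 1 := Nat.eq_one_of_mul_eq_one_left hk1
    have hq3 : q = 3 := by rw [hk'] at hk; omega
    rw [hm, hq3] at hm2
    have hGc : Nat.card G = 3 * c := by
      norm_num at hm2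
      omega
    have hidx : (centralizer ({x} : Set G)).index = 3 := by
      have h1 := Subgroup.card_mul_index (centralizer ({x} : Set G))
      rw [hGc] at h1
      have : c * (centralizer ({x} : Set G)).index = c * 3 := by rw [h1]; ring
      exact Nat.eq_of_mul_eq_mul_left hc0 this
    have hne : centralizer ({x} : Set G) ≠ ⊤ := by
      intro htop
      rw [htop, Subgroup.index_top] at hidx
      omega
    have := SmallOrder.card_dvd_factorial_index (centralizer ({x} : Set G)) hne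
    rw [hidx] at this
    have h46 : 4 ∣ Nat.factorial 3 := dvd_trans hG4 this
    norm_num [Nat.factorial] at h46
  · -- case `ε = -1`
    have hform := Cfsg.Agent.S4479.result M hM g₀ hg₀ hG hnc P x hxP h.hx ζ₂ ζ₃ ζ₄
      1 (-1) (-1) hB ⟨hζ₂, hζ₃, hζ₄, h23, h24, h34⟩
      ⟨Or.inl rfl, Or.inr rfl, Or.inr rfl⟩
      ⟨by rw [hv2]; simp, by rw [hv3], by rw [hv4]; simp⟩
    rw [hcP] at hform
    set c := Nat.card (centralizer ({x} : Set G)) with hc
    set x₁ := Cfsg.charDegree (ζ₂ : G → ℂ) with hx₁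
    set x₂ := Cfsg.charDegree (ζ₃ : G → ℂ) with hx₂
    set x₃ := Cfsg.charDegree (ζ₄ : G → ℂ) with hx₃
    set n := Nat.card (Sylow 2 G) with hn
    have hn5 : 5 ≤ n := five_le_card_sylow h
    -- the degree relation
    have hdeg := hrel 1 (by rw [orderOf_one]; exact odd_one)
    rw [← Cfsg.Agent.Helper6.charDegree_cast_of_isCharacter
        (Cfsg.Agent.Helper6.IsIrrCharacter.isCharacter ζ₂.2),
      ← Cfsg.Agent.Helper6.charDegree_cast_of_isCharacter
        (Cfsg.Agent.Helper6.IsIrrCharacter.isCharacter ζ₃.2),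
      ← Cfsg.Agent.Helper6.charDegree_cast_of_isCharacter
        (Cfsg.Agent.Helper6.IsIrrCharacter.isCharacter ζ₄.2)] at hdeg
    have hdegZ : (x₁ : ℤ) + 1 = (x₂ : ℤ) + (x₃ : ℤ) := by
      have hdeg' : (1 : ℂ) + (x₁ : ℂ) - (x₂ : ℂ) - (x₃ : ℂ) = 0 := by
        have := hdeg
        push_cast at this
        linear_combination this
      have : ((1 + (x₁ : ℤ) - (x₂ : ℤ) - (x₃ : ℤ) : ℤ) : ℂ) = 0 := by
        push_cast
        exact hdeg'
      have := Int.cast_eq_zero.mp this
      linarith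
    have h2 : (x₂ : ℤ) = 3 ∨ 7 ≤ (x₂ : ℤ) := by
      have : (4 : ℤ) ∣ (x₂ : ℤ) + 1 := by simpa using hd3
      omega
    have h3 : (x₃ : ℤ) = 3 ∨ 7 ≤ (x₃ : ℤ) := by
      omega
    -- the order formula
    rw [hcard] at hform
    have hx₂q : ((x₂ : ℚ) + ((-1 : ℤ) : ℚ)) ≠ 0 := by
      have : (2 : ℤ) ≤ (x₂ : ℤ) - 1 := by omega
      have : (2 : ℚ) ≤ (x₂ : ℚ) - 1 := by exact_mod_cast this
      push_cast
      linarith
    have hx₃q : ((x₃ : ℚ) + ((-1 : ℤ) : ℚ)) ≠ 0 := by
      have : (2 : ℤ) ≤ (x₃ : ℤ) - 1 := by omega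
      have : (2 : ℚ) ≤ (x₃ : ℚ) - 1 := by exact_mod_cast this
      push_cast
      linarith
    have hx₁q : ((x₁ : ℚ) + ((1 : ℤ) : ℚ)) ≠ 0 := by
      have : (0 : ℚ) ≤ (x₁ : ℚ) := by positivity
      push_cast
      linarith
    have hcq : (c : ℚ) ≠ 0 := by
      have : (0 : ℚ) < (c : ℚ) := by exact_mod_cast hc0
      exact this.ne'
    have heqQ : (3 : ℚ) * n * ((x₁ : ℚ) + 1) * ((x₂ : ℚ) - 1) * ((x₃ : ℚ) - 1) =
        8 * x₁ * x₂ * x₃ := by
      have hx₂q' : ((x₂ : ℚ) - 1) ≠ 0 := by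
        intro h0; apply hx₂q; push_cast; linarith
      have hx₃q' : ((x₃ : ℚ) - 1) ≠ 0 := by
        intro h0; apply hx₃q; push_cast; linarith
      have hx₁q' : ((x₁ : ℚ) + 1) ≠ 0 := by
        intro h0; apply hx₁q; push_cast; linarith
      push_cast at hform
      have e : ((x₂ : ℚ) + -1) = (x₂ : ℚ) - 1 := by ring
      have e' : ((x₃ : ℚ) + -1) = (x₃ : ℚ) - 1 := by ring
      rw [e, e'] at hform
      field_simp at hform
      linarith
    have heqZ : 3 * (n : ℤ) * ((x₁ : ℤ) + 1) * ((x₂ : ℤ) - 1) * ((x₃ : ℤ) - 1) =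
        8 * (x₁ : ℤ) * (x₂ : ℤ) * (x₃ : ℤ) := by
      exact_mod_cast heqQ
    have hn5' : n = 5 := by
      have := arith_core (n : ℤ) x₁ x₂ x₃ (by exact_mod_cast hn5) h2 h3 hdegZ heqZ
      exact_mod_cast this
    -- conclusion
    have hidx : (normalizer (S₀ : Set G)).index = 5 := by
      rw [index_normalizer h, ← hn, hn5']
    have hne : normalizer (S₀ : Set G) ≠ ⊤ := by
      intro htop
      rw [htop, Subgroup.index_top] at hidx
      omega
    have hdvd := SmallOrder.card_dvd_factorial_index (normalizer (S₀ : Set G)) hne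
    have hc4 : c = 4 * S₀.relIndex (centralizer ({x} : Set G)) := card_cent_eq h
    rw [hidx, hcard, hn5', hc4] at hdvd
    have hrodd := h.hodd
    set r := S₀.relIndex (centralizer ({x} : Set G)) with hr
    have hr1 : r = 1 := by
      have h120 : Nat.factorial 5 = 120 := by norm_num [Nat.factorial]
      rw [h120] at hdvd
      have : 60 * r ∣ 60 * 2 := by
        have e : 5 * (3 * (4 * r)) = 60 * r := by ring
        rw [e] at hdvd
        exact hdvd
      have hr2 : r ∣ 2 := Nat.dvd_of_mul_dvd_mul_left (by norm_num) this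
      rcases (Nat.dvd_prime Nat.prime_two).mp hr2 with h1 | h1
      · exact h1
      · exfalso; apply hrodd; rw [h1]
    have hG60 : Nat.card G = 60 := by
      rw [hcard, hn5', hc4, hr1]
    exact AltRecog.equiv_alternating_of_index 5 (by norm_num) (normalizer (S₀ : Set G)) hidx
      (by rw [hG60]; norm_num [Nat.factorial])

end Cfsg.Agent.Helper2.K4Cent
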