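import Mathlib
import Cfsg.Statements.S1336
import Cfsg.Agent.Helper2.Conj
import Cfsg.Agent.Helper2.GenHyper

set_option autoImplicit false

namespace Cfsg.Agent.Helper2.KConn

open Cfsg Cfsg.Agent.Helper2

variable {G : Type*} [Group G]

/-- a vertex of the rank one commuting graph -/
def KVtx (p : ℕ) (A : Subgroup G) : Prop := IsElementaryAbelian p A ∧ p ^ 1 ≤ Nat.card ↥A

/-- the edge relation, literally as in the definition of `IsKConnected p 1` -/
def KRel (p : ℕ) (A B : Subgroup G) : Prop :=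
  IsElementaryAbelian p A ∧ p ^ 1 ≤ Nat.card ↥A ∧ IsElementaryAbelian p B ∧
        p ^ 1 ≤ Nat.card ↥B ∧ ∀ a ∈ A, ∀ b ∈ B, a * b = b * a

/-- connectedness -/
abbrev KC (p : ℕ) (A B : Subgroup G) : Prop := Relation.ReflTransGen (KRel p) A B

theorem kRel_symm {p : ℕ} {A B : Subgroup G} (h : KRel p A B) : KRel p B A :=
  ⟨h.2.2.1, h.2.2.2.1, h.1, h.2.1, fun b hb a ha => (h.2.2.2.2 a ha b hb).symm⟩

theorem kC_symm {p : ℕ} {A B : Subgroup G} (h : KC p A B) : KC p B A := by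
  induction h with
  | refl => exact Relation.ReflTransGen.refl
  | tail _ hBC ih => exact Relation.ReflTransGen.head (kRel_symm hBC) ih

theorem isElementaryAbelian_cj {p : ℕ} {A : Subgroup G} (hA : IsElementaryAbelian p A) (g : G) :
    IsElementaryAbelian p (cj g A) := by
  refine ⟨⟨⟨fun x y => ?_⟩⟩, ?_⟩
  · obtain ⟨x, hx⟩ := x
    obtain ⟨y, hy⟩ := y
    obtain ⟨a, ha, rfl⟩ := hx
    obtain ⟨b, hb, rfl⟩ := hy
    apply Subtype.ext
    have := congrArg Subtype.val (hA.1.is_comm.comm ⟨a, ha⟩ ⟨b, hb⟩)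
    simp only [Subgroup.coe_mul] at this ⊢
    rw [← map_mul, ← map_mul, this]
  · rintro _ ⟨a, ha, rfl⟩
    rw [← map_pow, hA.2 a ha, map_one]

theorem card_cj (A : Subgroup G) (g : G) : Nat.card ↥(cj g A) = Nat.card ↥A :=
  Subgroup.card_map_of_injective (MulAut.conj g).injective

theorem kVtx_cj {p : ℕ} {A : Subgroup G} (hA : KVtx p A) (g : G) : KVtx p (cj g A) :=
  ⟨isElementaryAbelian_cj hA.1 g, by rw [card_cj]; exact hA.2⟩

theorem kRel_cj {p : ℕ} {A B : Subgroup G} (h : KRel p A B) (g : G) :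
    KRel p (cj g A) (cj g B) := by
  refine ⟨isElementaryAbelian_cj h.1 g, by rw [card_cj]; exact h.2.1,
    isElementaryAbelian_cj h.2.2.1 g, by rw [card_cj]; exact h.2.2.2.1, ?_⟩
  rintro _ ⟨a, ha, rfl⟩ _ ⟨b, hb, rfl⟩
  rw [← map_mul, ← map_mul, h.2.2.2.2 a ha b hb]

theorem kC_cj {p : ℕ} {A B : Subgroup G} (h : KC p A B) (g : G) : KC p (cj g A) (cj g B) := by
  induction h with
  | refl => exact Relation.ReflTransGen.refl
  | tail _ hBC ih => exact Relation.ReflTransGen.tail ih (kRel_cj hBC g)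

theorem kVtx_zpowers {p : ℕ} [Fact p.Prime] {x : G} (hx : orderOf x = p) :
    KVtx p (Subgroup.zpowers x) := by
  refine ⟨⟨inferInstance, ?_⟩, ?_⟩
  · intro a ha
    obtain ⟨k, rfl⟩ := Subgroup.mem_zpowers_iff.mp ha
    rw [← zpow_natCast, ← zpow_mul, mul_comm, zpow_mul, zpow_natCast, ← hx, pow_orderOf_eq_one,
      one_zpow]
  · rw [Nat.card_zpowers, hx, pow_one]

theorem dvd_card_of_kVtx [Finite G] {p : ℕ} [Fact p.Prime] {A : Subgroup G} (hA : KVtx p A) :
    p ∣ Nat.card ↥A := by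
  obtain ⟨n, hn⟩ := IsPGroup.iff_card.mp (isPGroup_of_elementary hA.1)
  rcases n with _ | n
  · have h2 := hA.2
    rw [hn] at h2
    have := (Fact.out : p.Prime).one_lt
    simp at h2
    omega
  · rw [hn, pow_succ]; exact dvd_mul_left _ _

theorem exists_orderOf_eq_mem [Finite G] {p : ℕ} [Fact p.Prime] {K : Subgroup G}
    (h : p ∣ Nat.card ↥K) : ∃ x ∈ K, orderOf x = p := by
  obtain ⟨x, hx⟩ := exists_prime_orderOf_dvd_card' p h
  exact ⟨x, x.2, by rw [← hx, Subgroup.orderOf_coe]⟩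

theorem le_of_kC [Finite G] {p : ℕ} [Fact p.Prime] {H : Subgroup G}
    (hH : ∀ g : G, g ∉ H → ¬ p ∣ Nat.card ↥(H ⊓ cj g H)) {A B : Subgroup G}
    (hAB : KC p A B) (hA : A ≤ H) : B ≤ H := by
  induction hAB with
  | refl => exact hA
  | @tail B C _ hBC ih =>
    intro c hc
    by_contra hcH
    apply hH c hcH
    have hB : B ≤ H ⊓ cj c H := by
      refine le_inf ih ?_
      intro b hb
      rw [mem_cj_iff]
      have h1 := hBC.2.2.2.2 b hb c hc
      rw [mul_assoc, h1, inv_mul_cancel_left]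
      exact ih hb
    exact (dvd_card_of_kVtx ⟨hBC.1, hBC.2.1⟩).trans (Subgroup.card_dvd_of_le hB)

theorem not_isKConnected_of_strongly_embedded [Finite G] {p : ℕ} [Fact p.Prime] (H : Subgroup G)
    (hHtop : H ≠ ⊤) (hp : p ∣ Nat.card ↥H)
    (hH : ∀ g : G, g ∉ H → ¬ p ∣ Nat.card ↥(H ⊓ cj g H)) : ¬ IsKConnected p 1 G := by
  intro hconn
  obtain ⟨x, hxH, hx⟩ := exists_orderOf_eq_mem hp
  have hA := kVtx_zpowers hx
  obtain ⟨g, hg⟩ : ∃ g, g ∉ H := by
    by_contra hcon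
    push Not at hcon
    exact hHtop (eq_top_iff.mpr fun g _ => hcon g)
  have hAg : KVtx p (cj g (Subgroup.zpowers x)) := kVtx_cj hA g
  have hc : KC p (Subgroup.zpowers x) (cj g (Subgroup.zpowers x)) :=
    hconn _ _ hA.1 hA.2 hAg.1 hAg.2
  have hxle : Subgroup.zpowers x ≤ H := by rw [Subgroup.zpowers_le]; exact hxH
  have hle := le_of_kC hH hc hxle
  apply hH g hg
  have : cj g (Subgroup.zpowers x) ≤ H ⊓ cj g H := le_inf hle (cj_mono hxle g)
  exact (dvd_card_of_kVtx hAg).trans (Subgroup.card_dvd_of_le this)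

theorem kC_of_le_pGroup [Finite G] {p : ℕ} [Fact p.Prime] {P X Y : Subgroup G}
    (hP : IsPGroup p ↥P) (hX : KVtx p X) (hY : KVtx p Y) (hXP : X ≤ P) (hYP : Y ≤ P) :
    KC p X Y := by
  have hXnt : p ∣ Nat.card ↥X := dvd_card_of_kVtx hX
  have hp1 := (Fact.out : p.Prime).one_lt
  have hPnt : Nontrivial ↥P := by
    rw [← Finite.one_lt_card_iff_nontrivial]
    have h1 := Nat.le_of_dvd Nat.card_pos hXnt
    have h2 := Nat.le_of_dvd Nat.card_pos (Subgroup.card_dvd_of_le hXP)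
    omega
  have hZ : Nontrivial ↥(Subgroup.center ↥P) := hP.center_nontrivial
  have hZp : IsPGroup p ↥(Subgroup.center ↥P) := hP.to_subgroup _
  obtain ⟨n, hn⟩ := IsPGroup.iff_card.mp hZp
  have hpZ : p ∣ Nat.card ↥(Subgroup.center ↥P) := by
    rcases n with _ | n
    · rw [pow_zero] at hn
      have := Finite.one_lt_card (α := ↥(Subgroup.center ↥P))
      omega
    · rw [hn, pow_succ]; exact dvd_mul_left _ _
  obtain ⟨z, hz⟩ := exists_prime_orderOf_dvd_card' p hpZ
  have hz' : orderOf ((z : ↥P) : G) = p := by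
    rw [Subgroup.orderOf_coe, Subgroup.orderOf_coe]; exact hz
  have hZv := kVtx_zpowers hz'
  have hcomm : ∀ y ∈ P, ∀ w ∈ Subgroup.zpowers ((z : ↥P) : G), y * w = w * y := by
    intro y hy w hw
    obtain ⟨k, rfl⟩ := Subgroup.mem_zpowers_iff.mp hw
    have h1 : y * ((z : ↥P) : G) = ((z : ↥P) : G) * y := by
      have := Subgroup.mem_center_iff.mp z.2 ⟨y, hy⟩
      exact congrArg Subtype.val this
    exact (Commute.zpow_right h1 k).eq
  exact Relation.ReflTransGen.trans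
    (Relation.ReflTransGen.single
      ⟨hX.1, hX.2, hZv.1, hZv.2, fun a ha b hb => hcomm a (hXP ha) b hb⟩)
    (Relation.ReflTransGen.single
      ⟨hZv.1, hZv.2, hY.1, hY.2, fun a ha b hb => (hcomm b (hYP hb) a ha).symm⟩)

theorem kC_of_le [Finite G] {p : ℕ} [Fact p.Prime] {H E X : Subgroup G} (hE : KVtx p E)
    (hX : KVtx p X) (hEH : E ≤ H) (hXH : X ≤ H) (hH : ∀ h ∈ H, KC p E (cj h E)) :
    KC p E X := by
  have hE' : IsPGroup p ↥(E.subgroupOf H) := (isPGroup_of_elementary hE.1).comap_subtype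
  have hX' : IsPGroup p ↥(X.subgroupOf H) := (isPGroup_of_elementary hX.1).comap_subtype
  obtain ⟨P, hP⟩ := hE'.exists_le_sylow
  obtain ⟨h, hh⟩ := exists_cj_le_sylow P (X.subgroupOf H) hX'
  have hPG : IsPGroup p ↥((P : Subgroup ↥H).map H.subtype) := P.2.map _
  have h1 : E ≤ (P : Subgroup ↥H).map H.subtype := by
    intro e he
    exact ⟨⟨e, hEH he⟩, hP (Subgroup.mem_subgroupOf.mpr he), rfl⟩
  have h2 : cj (h : G) X ≤ (P : Subgroup ↥H).map H.subtype := by
    rw [cj_le_iff]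
    intro x hx
    refine ⟨h * ⟨x, hXH hx⟩ * h⁻¹, ?_, by simp⟩
    apply hh
    exact conj_mem_cj _ h _ (Subgroup.mem_subgroupOf.mpr hx)
  have c1 : KC p E (cj (h : G) X) := kC_of_le_pGroup hPG hE (kVtx_cj hX _) h1 h2
  have c2 := kC_cj c1 (h : G)⁻¹
  rw [cj_cj, inv_mul_cancel, cj_one] at c2
  exact (hH _ (H.inv_mem h.2)).trans c2

/-- the stabiliser of the connected component of `E` -/
def compStab (p : ℕ) (E : Subgroup G) : Subgroup G where
  carrier := {g | KC p E (cj g E)}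
  one_mem' := by
    change KC p E (cj 1 E)
    rw [cj_one]
  mul_mem' := by
    intro a b ha hb
    change KC p E (cj (a * b) E)
    have := kC_cj hb a
    rw [cj_cj] at this
    exact Relation.ReflTransGen.trans ha this
  inv_mem' := by
    intro a ha
    change KC p E (cj a⁻¹ E)
    have := kC_cj ha a⁻¹
    rw [cj_cj, inv_mul_cancel, cj_one] at this
    exact kC_symm this

theorem exists_strongly_embedded [Finite G] {p : ℕ} [Fact p.Prime] (h : ¬ IsKConnected p 1 G) :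
    ∃ H : Subgroup G, H ≠ ⊤ ∧ p ∣ Nat.card ↥H ∧
      ∀ g : G, g ∉ H → ¬ p ∣ Nat.card ↥(H ⊓ cj g H) := by
  unfold IsKConnected at h
  push Not at h
  obtain ⟨E, E', hE1, hE2, hE'1, hE'2, hnot⟩ := h
  have hE : KVtx p E := ⟨hE1, hE2⟩
  have hE' : KVtx p E' := ⟨hE'1, hE'2⟩
  have hnot' : ¬ KC p E E' := hnot
  have hEH : E ≤ compStab p E := by
    intro e he
    change KC p E (cj e E)
    have : cj e E = E := (mem_normalizer_iff_cj E e).mp (Subgroup.le_normalizer he)
    rw [this]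
  have hHmem : ∀ h ∈ compStab p E, KC p E (cj h E) := fun h hh => hh
  refine ⟨compStab p E, ?_, ?_, ?_⟩
  · intro htop
    exact hnot' (kC_of_le hE hE' hEH (by rw [htop]; exact le_top) hHmem)
  · exact (dvd_card_of_kVtx hE).trans (Subgroup.card_dvd_of_le hEH)
  · intro g hg hdvd
    apply hg
    obtain ⟨x, hxmem, hx⟩ := exists_orderOf_eq_mem hdvd
    have hXv := kVtx_zpowers hx
    have hX1 : Subgroup.zpowers x ≤ compStab p E := by
      rw [Subgroup.zpowers_le]; exact hxmem.1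
    have hX2 : cj g⁻¹ (Subgroup.zpowers x) ≤ compStab p E := by
      rw [cj_le_iff]
      intro y hy
      have : y ∈ cj g (compStab p E) := (Subgroup.zpowers_le.mpr hxmem.2) hy
      rw [mem_cj_iff] at this
      simpa using this
    have hXgv : KVtx p (cj g⁻¹ (Subgroup.zpowers x)) := kVtx_cj hXv _
    have c1 := kC_of_le hE hXv hEH hX1 hHmem
    have c2 := kC_of_le hE hXgv hEH hX2 hHmem
    have c3 := kC_cj c2 g
    rw [cj_cj, mul_inv_cancel, cj_one] at c3
    exact Relation.ReflTransGen.trans c1 (kC_symm c3)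

end Cfsg.Agent.Helper2.KConn
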