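import Mathlib
import Cfsg.Agent.Helper2.KleinSylow

set_option autoImplicit false

namespace Cfsg.Agent.Helper2

variable {G : Type*} [Group G]

/-- Main counting statement for groups with Klein four Sylow 2-subgroups: there exist
`a, b ∈ P` distinct involutions such that the number of classes of involutions is `1` or `3`,
and it is `3` iff `a` and `b` are not conjugate. -/
theorem klein_classes [Finite G] (P : Sylow 2 G) (hP : IsKleinFour (P : Subgroup G)) :
    ∃ a b : G, a ∈ (P : Subgroup G) ∧ b ∈ (P : Subgroup G) ∧ a ≠ 1 ∧ b ≠ 1 ∧ a ≠ b ∧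
      (Nat.card {C : ConjClasses G // ∃ t : G, orderOf t = 2 ∧ ConjClasses.mk t = C} = 1 ∨
        Nat.card {C : ConjClasses G // ∃ t : G, orderOf t = 2 ∧ ConjClasses.mk t = C} = 3) ∧
      (Nat.card {C : ConjClasses G // ∃ t : G, orderOf t = 2 ∧ ConjClasses.mk t = C} = 3 ↔
        (¬ IsConj a b ∧ ¬ IsConj a (a * b) ∧ ¬ IsConj b (a * b))) := by
  obtain ⟨a, b, ha, hb, ha1, hb1, hab⟩ := klein_elements _ hP
  have haa := klein_mul_self _ hP ha
  have hbb := klein_mul_self _ hP hb
  have hcomm := klein_comm _ hP ha hb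
  have hc : a * b ∈ (P : Subgroup G) := Subgroup.mul_mem _ ha hb
  have hc1 : a * b ≠ 1 := by
    intro h
    apply hab
    calc a = a * (b * b) := by rw [hbb, mul_one]
      _ = (a * b) * b := by group
      _ = b := by rw [h, one_mul]
  have hac : a ≠ a * b := by
    intro h
    apply hb1
    calc b = a⁻¹ * (a * b) := by group
      _ = 1 := by rw [← h]; group
  have hbc : b ≠ a * b := by
    intro h
    apply ha1
    calc a = (a * b) * b⁻¹ := by group
      _ = 1 := by rw [← h]; group
  have hcc : (a * b) * (a * b) = 1 := klein_mul_self _ hP hc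
  have e1 : a * (a * b) = b := by rw [← mul_assoc, haa, one_mul]
  have e2 : b * (a * b) = a := by rw [hcomm, ← mul_assoc, hbb, one_mul]
  -- fusion implications
  have h1 : ConjClasses.mk a = ConjClasses.mk b → ConjClasses.mk b = ConjClasses.mk (a * b) := by
    intro h
    rw [ConjClasses.mk_eq_mk_iff_isConj] at h ⊢
    exact klein_fusion_cycle P hP ha hb ha1 hb1 hab h
  have h2 : ConjClasses.mk a = ConjClasses.mk (a * b) →
      ConjClasses.mk b = ConjClasses.mk (a * b) := by
    intro h
    rw [ConjClasses.mk_eq_mk_iff_isConj] at h ⊢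
    have := klein_fusion_cycle P hP ha hc ha1 hc1 hac h
    rw [e1] at this
    exact this.symm
  have h3 : ConjClasses.mk b = ConjClasses.mk (a * b) → ConjClasses.mk a = ConjClasses.mk b := by
    intro h
    have h' := h
    rw [ConjClasses.mk_eq_mk_iff_isConj] at h' ⊢
    have := klein_fusion_cycle P hP hb hc hb1 hc1 hbc h'
    rw [e2] at this
    exact this.symm.trans h'.symm
  have hp : ∀ s : ConjClasses G, (∃ t : G, orderOf t = 2 ∧ ConjClasses.mk t = s) ↔
      s = ConjClasses.mk a ∨ s = ConjClasses.mk b ∨ s = ConjClasses.mk (a * b) := by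
    intro s
    constructor
    · rintro ⟨t, ht, rfl⟩
      have htt := mul_self_of_orderOf_two ht
      have ht1 := ne_one_of_orderOf_two ht
      have hz : IsPGroup 2 (Subgroup.zpowers t) := by
        apply IsPGroup.of_card (n := 1)
        rw [Nat.card_zpowers, ht, pow_one]
      obtain ⟨h, hh⟩ := exists_conj_le_sylow P _ hz
      have hmem := hh t (Subgroup.mem_zpowers t)
      have hconj : IsConj t (h * t * h⁻¹) := isConj_iff.mpr ⟨h, rfl⟩
      rcases klein_mem_cases _ hP ha hb ha1 hb1 hab hmem with h' | h' | h' | h'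
      · exfalso; apply ht1
        calc t = h⁻¹ * (h * t * h⁻¹) * h := by group
          _ = 1 := by rw [h']; group
      · left; rw [ConjClasses.mk_eq_mk_iff_isConj, ← h']; exact hconj
      · right; left; rw [ConjClasses.mk_eq_mk_iff_isConj, ← h']; exact hconj
      · right; right; rw [ConjClasses.mk_eq_mk_iff_isConj, ← h']; exact hconj
    · rintro (rfl | rfl | rfl)
      · exact ⟨a, orderOf_two_of_mul_self haa ha1, rfl⟩
      · exact ⟨b, orderOf_two_of_mul_self hbb hb1, rfl⟩
      · exact ⟨a * b, orderOf_two_of_mul_self hcc hc1, rfl⟩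
  obtain ⟨r1, r2⟩ := card_three_classes _ _ _ _ hp h1 h2 h3
  refine ⟨a, b, ha, hb, ha1, hb1, hab, r1, ?_⟩
  rw [r2]
  constructor
  · intro hne
    refine ⟨fun h => hne (ConjClasses.mk_eq_mk_iff_isConj.mpr h), fun h => ?_, fun h => ?_⟩
    · exact hne (h3 (h2 (ConjClasses.mk_eq_mk_iff_isConj.mpr h)))
    · exact hne (h3 (ConjClasses.mk_eq_mk_iff_isConj.mpr h))
  · rintro ⟨h, -, -⟩ he
    exact h (ConjClasses.mk_eq_mk_iff_isConj.mp he)

end Cfsg.Agent.Helper2
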