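import Mathlib
import Cfsg.Agent.Helper2.Layer3

set_option autoImplicit false

namespace Cfsg.Agent.Helper2

open Cfsg.Agent.Helper1

variable {G : Type*} [Group G]

/-- An automorphism is determined by its action on non-identity elements. -/
theorem card_mulAut_le (N : Type*) [Group N] [Finite N] :
    Nat.card (MulAut N) ≤ (Nat.card N - 1).factorial := by
  classical
  let f : MulAut N → Equiv.Perm {x : N // x ≠ 1} := fun φ =>
    (MulAut.toPerm N φ).subtypePerm (fun x => by
      change φ x ≠ 1 ↔ x ≠ 1
      rw [Ne, Ne, map_eq_one_iff φ φ.injective])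
  have hf : Function.Injective f := by
    intro φ ψ h
    ext x
    by_cases hx : x = 1
    · rw [hx, map_one, map_one]
    · have := congrArg (fun σ : Equiv.Perm {x : N // x ≠ 1} => (σ ⟨x, hx⟩ : N)) h
      exact this
  have h1 := Nat.card_le_card_of_injective f hf
  rw [Nat.card_perm] at h1
  have h2 : Nat.card {x : N // x ≠ 1} = Nat.card N - 1 := by
    let _ := Fintype.ofFinite N
    rw [Nat.card_eq_fintype_card, Nat.card_eq_fintype_card, Fintype.card_subtype_compl,
      Fintype.card_subtype_eq]
  rw [h2] at h1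
  exact h1

/-- `|H| ≤ |F*(H)|!`. -/
theorem card_le_factorial_card_generalizedFittingSubgroup [Finite G] :
    Nat.card G ≤ (Nat.card ↥(Cfsg.generalizedFittingSubgroup G)).factorial := by
  set Fs := Cfsg.generalizedFittingSubgroup G with hFs
  let φ : G →* MulAut ↥Fs := MulAut.conjNormal
  have hker : φ.ker ≤ Fs := by
    intro h hh
    apply centralizer_generalizedFittingSubgroup_le
    rw [Subgroup.mem_centralizer_iff]
    intro x hx
    have h1 : φ h ⟨x, hx⟩ = ⟨x, hx⟩ := by
      rw [MonoidHom.mem_ker.mp hh]; rfl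
    have h2 : h * x * h⁻¹ = x := congrArg Subtype.val h1
    calc x * h = (h * x * h⁻¹) * h := by rw [h2]
      _ = h * x := by group
  have h1 : Nat.card G = Nat.card ↥φ.range * Nat.card ↥φ.ker := by
    rw [← Subgroup.index_ker, Subgroup.index_mul_card]
  have h2 : Nat.card ↥φ.ker ≤ Nat.card ↥Fs := Subgroup.card_le_of_le hker
  have h3 : Nat.card ↥φ.range ≤ (Nat.card ↥Fs - 1).factorial :=
    (Nat.card_le_card_of_injective _ Subtype.val_injective).trans (card_mulAut_le ↥Fs)
  have hpos : 0 < Nat.card ↥Fs := Nat.card_pos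
  calc Nat.card G = Nat.card ↥φ.range * Nat.card ↥φ.ker := h1
    _ ≤ (Nat.card ↥Fs - 1).factorial * Nat.card ↥Fs := Nat.mul_le_mul h3 h2
    _ = (Nat.card ↥Fs).factorial := by
      rw [mul_comm]
      exact Nat.mul_factorial_pred hpos.ne'

end Cfsg.Agent.Helper2
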