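import Mathlib
import Cfsg.Agent.Helper2.BrTIF

/-!
# Integer vectors of norm three and four
-/

set_option autoImplicit false

namespace Cfsg.Agent.Helper2.M11

open Cfsg.Agent.Helper2.BrTI

variable {ι : Type*} [DecidableEq ι]

theorem sq_le_four_cases (a : ℤ) (h0 : a ≠ 0) (h : a ^ 2 ≤ 4) :
    a = 1 ∨ a = -1 ∨ a = 2 ∨ a = -2 := by
  have h1 : -2 ≤ a := by nlinarith
  have h2 : a ≤ 2 := by nlinarith
  omega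

/-- norm three -/
theorem norm_three (s : Finset ι) (c : ι → ℤ) (h : ∑ i ∈ s, c i ^ 2 = 3) :
    ∃ i₁ ∈ s, ∃ i₂ ∈ s, ∃ i₃ ∈ s, i₁ ≠ i₂ ∧ i₁ ≠ i₃ ∧ i₂ ≠ i₃ ∧
      (c i₁ = 1 ∨ c i₁ = -1) ∧ (c i₂ = 1 ∨ c i₂ = -1) ∧ (c i₃ = 1 ∨ c i₃ = -1) ∧
      ∀ j ∈ s, j ≠ i₁ → j ≠ i₂ → j ≠ i₃ → c j = 0 := by
  have hex : ∃ i₁ ∈ s, c i₁ ≠ 0 := by
    by_contra hne
    push Not at hne
    rw [Finset.sum_eq_zero (fun i hi => by rw [hne i hi]; norm_num)] at h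
    omega
  obtain ⟨i₁, hi₁, hc⟩ := hex
  rw [← Finset.add_sum_erase s _ hi₁] at h
  have hnn : 0 ≤ ∑ i ∈ s.erase i₁, c i ^ 2 := Finset.sum_nonneg (fun i _ => sq_nonneg _)
  have h1 : c i₁ = 1 ∨ c i₁ = -1 := by
    rcases sq_le_four_cases (c i₁) hc (by linarith) with h' | h' | h' | h'
    · exact Or.inl h'
    · exact Or.inr h'
    · rw [h'] at h; norm_num at h; linarith
    · rw [h'] at h; norm_num at h; linarith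
  have h2 : c i₁ ^ 2 = 1 := by rcases h1 with h | h <;> rw [h] <;> norm_num
  have h3 : ∑ i ∈ s.erase i₁, c i ^ 2 = 2 := by linarith
  obtain ⟨i₂, hi₂, i₃, hi₃, hne, hc₂, hc₃, hrest⟩ := norm_two (s.erase i₁) c h3
  refine ⟨i₁, hi₁, i₂, (Finset.mem_erase.mp hi₂).2, i₃, (Finset.mem_erase.mp hi₃).2,
    (Finset.mem_erase.mp hi₂).1.symm, (Finset.mem_erase.mp hi₃).1.symm, hne, h1, hc₂, hc₃, ?_⟩
  intro j hj hj1 hj2 hj3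
  exact hrest j (Finset.mem_erase.mpr ⟨hj1, hj⟩) hj2 hj3

/-- norm four -/
theorem norm_four (s : Finset ι) (c : ι → ℤ) (h : ∑ i ∈ s, c i ^ 2 = 4) :
    (∃ i₁ ∈ s, (c i₁ = 2 ∨ c i₁ = -2) ∧ ∀ j ∈ s, j ≠ i₁ → c j = 0) ∨
    (∃ i₁ ∈ s, ∃ i₂ ∈ s, ∃ i₃ ∈ s, ∃ i₄ ∈ s, i₁ ≠ i₂ ∧ i₁ ≠ i₃ ∧ i₁ ≠ i₄ ∧ i₂ ≠ i₃ ∧ i₂ ≠ i₄ ∧
      i₃ ≠ i₄ ∧ (c i₁ = 1 ∨ c i₁ = -1) ∧ (c i₂ = 1 ∨ c i₂ = -1) ∧ (c i₃ = 1 ∨ c i₃ = -1) ∧
      (c i₄ = 1 ∨ c i₄ = -1) ∧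
      ∀ j ∈ s, j ≠ i₁ → j ≠ i₂ → j ≠ i₃ → j ≠ i₄ → c j = 0) := by
  have hex : ∃ i₁ ∈ s, c i₁ ≠ 0 := by
    by_contra hne
    push Not at hne
    rw [Finset.sum_eq_zero (fun i hi => by rw [hne i hi]; norm_num)] at h
    omega
  obtain ⟨i₁, hi₁, hc⟩ := hex
  rw [← Finset.add_sum_erase s _ hi₁] at h
  have hnn : 0 ≤ ∑ i ∈ s.erase i₁, c i ^ 2 := Finset.sum_nonneg (fun i _ => sq_nonneg _)
  have hzero : ∑ i ∈ s.erase i₁, c i ^ 2 = 0 → ∀ j ∈ s, j ≠ i₁ → c j = 0 := by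
    intro h0 j hj hj1
    have := (Finset.sum_eq_zero_iff_of_nonneg (fun i _ => sq_nonneg (c i))).mp h0 j
      (Finset.mem_erase.mpr ⟨hj1, hj⟩)
    exact pow_eq_zero_iff (by norm_num) |>.mp this
  rcases sq_le_four_cases (c i₁) hc (by linarith) with h' | h' | h' | h'
  · right
    have h3 : ∑ i ∈ s.erase i₁, c i ^ 2 = 3 := by rw [h'] at h; linarith
    obtain ⟨i₂, hi₂, i₃, hi₃, i₄, hi₄, h23, h24, h34, hc₂, hc₃, hc₄, hrest⟩ :=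
      norm_three (s.erase i₁) c h3
    refine ⟨i₁, hi₁, i₂, (Finset.mem_erase.mp hi₂).2, i₃, (Finset.mem_erase.mp hi₃).2, i₄,
      (Finset.mem_erase.mp hi₄).2, (Finset.mem_erase.mp hi₂).1.symm,
      (Finset.mem_erase.mp hi₃).1.symm, (Finset.mem_erase.mp hi₄).1.symm, h23, h24, h34,
      Or.inl h', hc₂, hc₃, hc₄, ?_⟩
    intro j hj hj1 hj2 hj3 hj4
    exact hrest j (Finset.mem_erase.mpr ⟨hj1, hj⟩) hj2 hj3 hj4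
  · right
    have h3 : ∑ i ∈ s.erase i₁, c i ^ 2 = 3 := by rw [h'] at h; linarith
    obtain ⟨i₂, hi₂, i₃, hi₃, i₄, hi₄, h23, h24, h34, hc₂, hc₃, hc₄, hrest⟩ :=
      norm_three (s.erase i₁) c h3
    refine ⟨i₁, hi₁, i₂, (Finset.mem_erase.mp hi₂).2, i₃, (Finset.mem_erase.mp hi₃).2, i₄,
      (Finset.mem_erase.mp hi₄).2, (Finset.mem_erase.mp hi₂).1.symm,
      (Finset.mem_erase.mp hi₃).1.symm, (Finset.mem_erase.mp hi₄).1.symm, h23, h24, h34,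
      Or.inr h', hc₂, hc₃, hc₄, ?_⟩
    intro j hj hj1 hj2 hj3 hj4
    exact hrest j (Finset.mem_erase.mpr ⟨hj1, hj⟩) hj2 hj3 hj4
  · left
    exact ⟨i₁, hi₁, Or.inl h', hzero (by rw [h'] at h; linarith)⟩
  · left
    exact ⟨i₁, hi₁, Or.inr h', hzero (by rw [h'] at h; linarith)⟩

end Cfsg.Agent.Helper2.M11
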