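import Mathlib
import Cfsg.Agent.Helper2.M11_Norm

/-!
# The arithmetic of the `11`-block of a simple group of order `7920`
-/

set_option autoImplicit false
set_option linter.style.haveILetI false

namespace Cfsg.Agent.Helper2.M11

theorem sort4 {ι : Type*} (key : ι → ℕ) (i1 i2 i3 i4 : ι) :
    ∃ j1 j2 j3 j4 : ι, [j1, j2, j3, j4].Perm [i1, i2, i3, i4] ∧ key j2 ≤ key j1 ∧
      key j3 ≤ key j2 ∧ key j4 ≤ key j3 := by
  classical
  let r : ι → ι → Prop := fun a b => key b ≤ key a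
  haveI : DecidableRel r := fun a b => inferInstanceAs (Decidable (key b ≤ key a))
  have : Std.Total r := ⟨fun a b => Nat.le_total (key b) (key a)⟩
  have : IsTrans ι r := ⟨fun a b c hab hbc => Nat.le_trans hbc hab⟩
  have hp : ([i1, i2, i3, i4].insertionSort r).Perm [i1, i2, i3, i4] := List.perm_insertionSort r _
  have hs : ([i1, i2, i3, i4].insertionSort r).Pairwise r := List.pairwise_insertionSort r _
  have hlen : ([i1, i2, i3, i4].insertionSort r).length = 4 := by rw [hp.length_eq]; rfl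
  generalize [i1, i2, i3, i4].insertionSort r = l at hp hs hlen
  match l, hlen, hp, hs with
  | [j1, j2, j3, j4], _, hp, hs =>
    simp only [List.pairwise_cons, List.mem_cons, List.not_mem_nil, or_false, forall_eq_or_imp,
      forall_eq, IsEmpty.forall_iff, implies_true, List.Pairwise.nil, and_true] at hs
    exact ⟨j1, j2, j3, j4, hp, hs.1.1, hs.2.1.1, hs.2.2⟩

theorem deg_filter (r : ℕ) (n : ℕ) (h1 : 1 < n) (h88 : n ≤ 88) (hd : n ∣ 7920) (hr : n % 11 = r) :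
    n ∈ (Finset.range 89).filter (fun n => 1 < n ∧ n ∣ 7920 ∧ n % 11 = r) := by
  rw [Finset.mem_filter, Finset.mem_range]
  exact ⟨by omega, h1, hd, hr⟩

theorem deg_of_c_one (n : ℕ) (h1 : 1 < n) (h88 : n ≤ 88) (hd : n ∣ 7920)
    (h11 : (11 : ℤ) ∣ (n : ℤ) - 1) : n = 12 ∨ n = 45 := by
  have h := deg_filter 1 n h1 h88 hd (by omega)
  have hs : (Finset.range 89).filter (fun n => 1 < n ∧ n ∣ 7920 ∧ n % 11 = 1) = {12, 45} := by
    decide
  rw [hs] at h
  simpa using h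

theorem deg_of_c_neg_one (n : ℕ) (h1 : 1 < n) (h88 : n ≤ 88) (hd : n ∣ 7920)
    (h11 : (11 : ℤ) ∣ (n : ℤ) - (-1)) : n = 10 := by
  have h := deg_filter 10 n h1 h88 hd (by omega)
  have hs : (Finset.range 89).filter (fun n => 1 < n ∧ n ∣ 7920 ∧ n % 11 = 10) = {10} := by
    decide
  rw [hs] at h
  simpa using h

theorem deg_of_c_two (n : ℕ) (h1 : 1 < n) (h88 : n ≤ 88) (hd : n ∣ 7920)
    (h11 : (11 : ℤ) ∣ (n : ℤ) - 2) : n = 2 ∨ n = 24 := by
  have h := deg_filter 2 n h1 h88 hd (by omega)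
  have hs : (Finset.range 89).filter (fun n => 1 < n ∧ n ∣ 7920 ∧ n % 11 = 2) = {2, 24} := by
    decide
  rw [hs] at h
  simpa using h

theorem deg_of_c_neg_two (n : ℕ) (h1 : 1 < n) (h88 : n ≤ 88) (hd : n ∣ 7920)
    (h11 : (11 : ℤ) ∣ (n : ℤ) - (-2)) : n = 9 ∨ n = 20 := by
  have h := deg_filter 9 n h1 h88 hd (by omega)
  have hs : (Finset.range 89).filter (fun n => 1 < n ∧ n ∣ 7920 ∧ n % 11 = 9) = {9, 20} := by
    decide
  rw [hs] at h
  simpa using h

theorem deg_of_exc_pos (n : ℕ) (h1 : 1 < n) (h88 : n ≤ 88) (hd : n ∣ 7920)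
    (h11 : (11 : ℤ) ∣ (n : ℤ) - 5) : n = 5 ∨ n = 16 ∨ n = 60 := by
  have h := deg_filter 5 n h1 h88 hd (by omega)
  have hs : (Finset.range 89).filter (fun n => 1 < n ∧ n ∣ 7920 ∧ n % 11 = 5) = {5, 16, 60} := by
    decide
  rw [hs] at h
  simpa using h

theorem deg_of_exc_neg (n : ℕ) (h1 : 1 < n) (h88 : n ≤ 88) (hd : n ∣ 7920)
    (h11 : (11 : ℤ) ∣ (n : ℤ) + 5) : n = 6 ∨ n = 72 := by
  have h := deg_filter 6 n h1 h88 hd (by omega)
  have hs : (Finset.range 89).filter (fun n => 1 < n ∧ n ∣ 7920 ∧ n % 11 = 6) = {6, 72} := by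
    decide
  rw [hs] at h
  simpa using h

/-- sum over seven distinct indices is at most the total, for nonnegative summands -/
theorem sum_list_le {ι : Type*} [Fintype ι] [DecidableEq ι] (f : ι → ℕ) (l : List ι)
    (hl : l.Nodup) : (l.map f).sum ≤ ∑ i, f i := by
  rw [← List.sum_toFinset f hl]
  exact Finset.sum_le_sum_of_subset (Finset.subset_univ _)

/-- a sum all of whose terms vanish off a list without repetitions -/
theorem sum_eq_list {ι : Type*} [Fintype ι] [DecidableEq ι] (f : ι → ℤ) (l : List ι)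
    (hl : l.Nodup) (h0 : ∀ j, j ∉ l → f j = 0) : ∑ i, f i = (l.map f).sum := by
  rw [← List.sum_toFinset f hl]
  symm
  apply Finset.sum_subset (Finset.subset_univ _)
  intro j _ hj
  exact h0 j (by simpa using hj)

set_option maxHeartbeats 4000000 in
/-- the arithmetic of the `11`-block -/
theorem block11_arith {ι : Type*} [Fintype ι] [DecidableEq ι] (deg : ι → ℕ) (c : ι → ℤ) (ε : ℤ)
    (t l0 l1 : ι) (hε : ε = 1 ∨ ε = -1)
    (hl01 : l0 ≠ l1) (hl0t : l0 ≠ t) (hl1t : l1 ≠ t)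
    (hct : c t = 1) (hcl0 : c l0 = 0) (hcl1 : c l1 = 0)
    (hsq : ∑ i, c i ^ 2 = 5)
    (hdl : deg l0 = deg l1)
    (hlin : ∑ i, c i * (deg i : ℤ) = ε * (deg l0 : ℤ))
    (hcong : ∀ i, i ≠ l0 → i ≠ l1 → (11 : ℤ) ∣ (deg i : ℤ) - c i)
    (hcongl : (11 : ℤ) ∣ (deg l0 : ℤ) - 5 * ε)
    (hdvd : ∀ i, deg i ∣ 7920) (hdt : deg t = 1) (hd1 : ∀ i, i ≠ t → 1 < deg i)
    (hsum : ∑ i, deg i ^ 2 = 7920)
    (hker : ∀ i, i ≠ t → c i ≠ (deg i : ℤ)) :
    ε = 1 ∧ ∃ i1 i2 i3 i4 : ι, [t, l0, l1, i1, i2, i3, i4].Nodup ∧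
      (∀ j, j ∉ [t, l0, l1, i1, i2, i3, i4] → c j = 0) ∧
      ((deg l0 = 16 ∧ deg i1 = 45 ∧ c i1 = 1 ∧ deg i2 = 10 ∧ c i2 = -1 ∧ deg i3 = 10 ∧
          c i3 = -1 ∧ deg i4 = 10 ∧ c i4 = -1) ∨
       (deg l0 = 5 ∧ deg i1 = 12 ∧ c i1 = 1 ∧ deg i2 = 12 ∧ c i2 = 1 ∧ deg i3 = 10 ∧
          c i3 = -1 ∧ deg i4 = 10 ∧ c i4 = -1)) := by
  classical
  -- bound on the degrees
  have h88 : ∀ i, i ≠ t → deg i ≤ 88 := by
    intro i hi
    have h1 := sum_list_le (fun j => deg j ^ 2) [t, i] (by simp [Ne.symm hi])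
    simp only [List.map_cons, List.map_nil, List.sum_cons, List.sum_nil, add_zero, hdt, hsum] at h1
    nlinarith
  have hsq4 : ∑ i ∈ Finset.univ.erase t, c i ^ 2 = 4 := by
    have := Finset.add_sum_erase Finset.univ (fun i => c i ^ 2) (Finset.mem_univ t)
    simp only [hct] at this
    linarith
  have hd62 : deg l0 ≤ 62 := by
    have h1 := sum_list_le (fun j => deg j ^ 2) [t, l0, l1]
      (by simp [Ne.symm hl0t, Ne.symm hl1t, hl01])
    simp only [List.map_cons, List.map_nil, List.sum_cons, List.sum_nil, add_zero, hdt, hsum,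
      ← hdl] at h1
    nlinarith
  have hdl1 : 1 < deg l0 := hd1 l0 hl0t
  have hdcases : (ε = 1 ∧ (deg l0 = 5 ∨ deg l0 = 16 ∨ deg l0 = 60)) ∨ (ε = -1 ∧ deg l0 = 6) := by
    rcases hε with h | h
    · left
      refine ⟨h, deg_of_exc_pos _ hdl1 (by omega) (hdvd l0) ?_⟩
      rw [h] at hcongl
      simpa using hcongl
    · right
      refine ⟨h, ?_⟩
      have := deg_of_exc_neg _ hdl1 (by omega) (hdvd l0) (by
        rw [h] at hcongl
        have : (deg l0 : ℤ) - 5 * -1 = (deg l0 : ℤ) + 5 := by ring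
        rwa [this] at hcongl)
      omega
  rcases norm_four _ c hsq4 with ⟨i1, hi1, hc1, hrest⟩ | ⟨i1, hi1, i2, hi2, i3, hi3, i4, hi4, h12,
      h13, h14, h23, h24, h34, hc1, hc2, hc3, hc4, hrest⟩
  · -- a single entry `±2`
    exfalso
    have hi1t : i1 ≠ t := (Finset.mem_erase.mp hi1).1
    have hi1l0 : i1 ≠ l0 := by rintro rfl; rw [hcl0] at hc1; omega
    have hi1l1 : i1 ≠ l1 := by rintro rfl; rw [hcl1] at hc1; omega
    have hc0 : ∀ j, j ∉ [t, i1] → c j * (deg j : ℤ) = 0 := by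
      intro j hj
      simp only [List.mem_cons, List.not_mem_nil, or_false, not_or] at hj
      rw [hrest j (Finset.mem_erase.mpr ⟨hj.1, Finset.mem_univ _⟩) hj.2, zero_mul]
    have hs := sum_eq_list (fun j => c j * (deg j : ℤ)) [t, i1] (by simp [Ne.symm hi1t]) hc0
    simp only [List.map_cons, List.map_nil, List.sum_cons, List.sum_nil, add_zero, hct, hdt] at hs
    rw [hlin] at hs
    have hcg := hcong i1 hi1l0 hi1l1
    have hk := hker i1 hi1t
    rcases hc1 with h | h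
    · rw [h] at hcg hs hk
      rcases deg_of_c_two _ (hd1 i1 hi1t) (h88 i1 hi1t) (hdvd i1) hcg with h' | h'
      · rw [h'] at hk; exact hk rfl
      · rw [h'] at hs
        rcases hdcases with ⟨he, hd | hd | hd⟩ | ⟨he, hd⟩ <;> rw [he, hd] at hs <;> norm_num at hs
    · rw [h] at hcg hs
      rcases deg_of_c_neg_two _ (hd1 i1 hi1t) (h88 i1 hi1t) (hdvd i1) hcg with h' | h' <;>
        rw [h'] at hs <;>
        rcases hdcases with ⟨he, hd | hd | hd⟩ | ⟨he, hd⟩ <;> rw [he, hd] at hs <;> norm_num at hs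
  · -- four entries `±1`
    have hfact : ∀ j ∈ [i1, i2, i3, i4], j ≠ t ∧ j ≠ l0 ∧ j ≠ l1 ∧
        ((c j = 1 ∧ (deg j = 12 ∨ deg j = 45)) ∨ (c j = -1 ∧ deg j = 10)) := by
      have key : ∀ j, j ∈ Finset.univ.erase t → (c j = 1 ∨ c j = -1) → j ≠ t ∧ j ≠ l0 ∧ j ≠ l1 ∧
          ((c j = 1 ∧ (deg j = 12 ∨ deg j = 45)) ∨ (c j = -1 ∧ deg j = 10)) := by
        intro j hj hc
        have hjt : j ≠ t := (Finset.mem_erase.mp hj).1
        have hjl0 : j ≠ l0 := by rintro rfl; rw [hcl0] at hc; omega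
        have hjl1 : j ≠ l1 := by rintro rfl; rw [hcl1] at hc; omega
        refine ⟨hjt, hjl0, hjl1, ?_⟩
        have hcg := hcong j hjl0 hjl1
        rcases hc with h | h
        · left
          rw [h] at hcg
          exact ⟨h, deg_of_c_one _ (hd1 j hjt) (h88 j hjt) (hdvd j) hcg⟩
        · right
          rw [h] at hcg
          exact ⟨h, deg_of_c_neg_one _ (hd1 j hjt) (h88 j hjt) (hdvd j) hcg⟩
      intro j hj
      simp only [List.mem_cons, List.not_mem_nil, or_false] at hj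
      rcases hj with rfl | rfl | rfl | rfl
      · exact key _ hi1 hc1
      · exact key _ hi2 hc2
      · exact key _ hi3 hc3
      · exact key _ hi4 hc4
    have hnd0 : [i1, i2, i3, i4].Nodup := by
      simp only [List.nodup_cons, List.mem_cons, List.not_mem_nil, or_false, not_or,
        List.nodup_nil, and_true, not_false_eq_true]
      exact ⟨⟨h12, h13, h14⟩, ⟨h23, h24⟩, h34⟩
    have hrest0 : ∀ j, j ≠ t → j ∉ [i1, i2, i3, i4] → c j = 0 := by
      intro j hjt hj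
      simp only [List.mem_cons, List.not_mem_nil, or_false, not_or] at hj
      exact hrest j (Finset.mem_erase.mpr ⟨hjt, Finset.mem_univ _⟩) hj.1 hj.2.1 hj.2.2.1 hj.2.2.2
    obtain ⟨j1, j2, j3, j4, hperm, hk12, hk23, hk34⟩ := sort4 deg i1 i2 i3 i4
    have hfact' : ∀ j ∈ [j1, j2, j3, j4], j ≠ t ∧ j ≠ l0 ∧ j ≠ l1 ∧
        ((c j = 1 ∧ (deg j = 12 ∨ deg j = 45)) ∨ (c j = -1 ∧ deg j = 10)) :=
      fun j hj => hfact j (hperm.mem_iff.mp hj)
    have hnd1 : [j1, j2, j3, j4].Nodup := hperm.nodup_iff.mpr hnd0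
    have hrest1 : ∀ j, j ≠ t → j ∉ [j1, j2, j3, j4] → c j = 0 :=
      fun j hjt hj => hrest0 j hjt (fun h => hj (hperm.mem_iff.mpr h))
    obtain ⟨hj1t, hj1l0, hj1l1, hf1⟩ := hfact' j1 (by simp)
    obtain ⟨hj2t, hj2l0, hj2l1, hf2⟩ := hfact' j2 (by simp)
    obtain ⟨hj3t, hj3l0, hj3l1, hf3⟩ := hfact' j3 (by simp)
    obtain ⟨hj4t, hj4l0, hj4l1, hf4⟩ := hfact' j4 (by simp)
    have hnd : [t, l0, l1, j1, j2, j3, j4].Nodup := by
      simp only [List.nodup_cons, List.mem_cons, List.not_mem_nil, or_false, not_or,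
        List.nodup_nil, and_true, not_false_eq_true] at hnd1 ⊢
      exact ⟨⟨hl0t.symm, hl1t.symm, hj1t.symm, hj2t.symm, hj3t.symm, hj4t.symm⟩,
        ⟨hl01, hj1l0.symm, hj2l0.symm, hj3l0.symm, hj4l0.symm⟩,
        ⟨hj1l1.symm, hj2l1.symm, hj3l1.symm, hj4l1.symm⟩, hnd1⟩
    have hrest2 : ∀ j, j ∉ [t, l0, l1, j1, j2, j3, j4] → c j = 0 := by
      intro j hj
      simp only [List.mem_cons, List.not_mem_nil, or_false, not_or] at hj
      apply hrest1 j hj.1
      simp only [List.mem_cons, List.not_mem_nil, or_false, not_or]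
      exact hj.2.2.2
    -- the linear relation
    have hc0 : ∀ j, j ∉ [t, l0, l1, j1, j2, j3, j4] → c j * (deg j : ℤ) = 0 := by
      intro j hj
      rw [hrest2 j hj, zero_mul]
    have hs := sum_eq_list (fun j => c j * (deg j : ℤ)) _ hnd hc0
    simp only [List.map_cons, List.map_nil, List.sum_cons, List.sum_nil, add_zero, hct, hdt,
      hcl0, hcl1, zero_mul, zero_add] at hs
    rw [hlin] at hs
    -- the squares
    have hq := sum_list_le (fun j => deg j ^ 2) _ hnd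
    simp only [List.map_cons, List.map_nil, List.sum_cons, List.sum_nil, add_zero, hdt, hsum,
      ← hdl] at hq
    rcases hdcases with ⟨he, hd | hd | hd⟩ | ⟨he, hd⟩
    all_goals
      rw [he, hd] at hs
      rw [hd] at hq
      rcases hf1 with ⟨a1, b1 | b1⟩ | ⟨a1, b1⟩ <;> rcases hf2 with ⟨a2, b2 | b2⟩ | ⟨a2, b2⟩ <;>
      rcases hf3 with ⟨a3, b3 | b3⟩ | ⟨a3, b3⟩ <;> rcases hf4 with ⟨a4, b4 | b4⟩ | ⟨a4, b4⟩ <;>
      simp only [a1, a2, a3, a4, b1, b2, b3, b4] at hs hq <;>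
      first
        | (exfalso; norm_num at hs hq; done)
        | (exfalso; omega)
        | (refine ⟨he, j1, j2, j3, j4, hnd, hrest2, ?_⟩
           first
             | exact Or.inl ⟨hd, b1, a1, b2, a2, b3, a3, b4, a4⟩
             | exact Or.inr ⟨hd, b1, a1, b2, a2, b3, a3, b4, a4⟩)

end Cfsg.Agent.Helper2.M11
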