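import Mathlib
import Cfsg.Prelude.Def_Characters
import Cfsg.Prelude.Def_Blocks
import Cfsg.Agent.Helper6.OddReal

/-!
# The two possible shapes of the principal `11`-block of a simple group of order `7920`

`K` is a Sylow `11`-subgroup.  These structures are the interface between the exceptional
character theory (`M11_Setup`) and the column arguments (`INV`, `C10`, `DEG`, ...).
-/

set_option autoImplicit false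

namespace Cfsg.Agent.Helper2.M11

open Cfsg.Agent.Helper6
open scoped ComplexConjugate

universe u

/-- the trivial character -/
noncomputable def triv (G : Type u) [Group G] : Cfsg.IrrCharacter G :=
  ⟨fun _ => 1, isIrrCharacter_one⟩

/-- Case A: the characters not vanishing on `K \ 1` are `1`, `Y` (degree `45`, value `1`),
`X₁ X₂ X₃` (degree `10`, value `-1`) and `Λ₀ Λ₁` (degree `16`, values `x`, `y`). -/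
structure CaseA {G : Type u} [Group G] (K : Subgroup G) where
  Λ₀ : Cfsg.IrrCharacter G
  Λ₁ : Cfsg.IrrCharacter G
  Y : Cfsg.IrrCharacter G
  X₁ : Cfsg.IrrCharacter G
  X₂ : Cfsg.IrrCharacter G
  X₃ : Cfsg.IrrCharacter G
  nodup : [triv G, Λ₀, Λ₁, Y, X₁, X₂, X₃].Nodup
  degΛ₀ : Cfsg.charDegree (Λ₀ : G → ℂ) = 16
  degΛ₁ : Cfsg.charDegree (Λ₁ : G → ℂ) = 16
  degY : Cfsg.charDegree (Y : G → ℂ) = 45
  degX₁ : Cfsg.charDegree (X₁ : G → ℂ) = 10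
  degX₂ : Cfsg.charDegree (X₂ : G → ℂ) = 10
  degX₃ : Cfsg.charDegree (X₃ : G → ℂ) = 10
  /-- the values of the two relevant characters of the normalizer -/
  x : G → ℂ
  y : G → ℂ
  hxy : ∀ k ∈ K, k ≠ 1 → x k + y k = -1
  hxy2 : ∀ k ∈ K, k ≠ 1 → x k * conj (x k) + y k * conj (y k) = 6
  valΛ₀ : ∀ k ∈ K, k ≠ 1 → (Λ₀ : G → ℂ) k = x k
  valΛ₁ : ∀ k ∈ K, k ≠ 1 → (Λ₁ : G → ℂ) k = y k
  valY : ∀ k ∈ K, k ≠ 1 → (Y : G → ℂ) k = 1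
  valX₁ : ∀ k ∈ K, k ≠ 1 → (X₁ : G → ℂ) k = -1
  valX₂ : ∀ k ∈ K, k ≠ 1 → (X₂ : G → ℂ) k = -1
  valX₃ : ∀ k ∈ K, k ≠ 1 → (X₃ : G → ℂ) k = -1
  rest : ∀ χ : Cfsg.IrrCharacter G, χ ∉ [triv G, Λ₀, Λ₁, Y, X₁, X₂, X₃] →
    (∀ k ∈ K, k ≠ 1 → (χ : G → ℂ) k = 0) ∧ 11 ∣ Cfsg.charDegree (χ : G → ℂ)
  /-- the characters of degree `10` restrict to the normalizer as the sum of the two relevant
  characters, so they vanish on the normalizer off `K` -/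
  vanX₁ : ∀ g ∈ Subgroup.normalizer (K : Set G), g ∉ K → (X₁ : G → ℂ) g = 0
  vanX₂ : ∀ g ∈ Subgroup.normalizer (K : Set G), g ∉ K → (X₂ : G → ℂ) g = 0
  vanX₃ : ∀ g ∈ Subgroup.normalizer (K : Set G), g ∉ K → (X₃ : G → ℂ) g = 0

/-- Case B: the characters not vanishing on `K \ 1` are `1`, `Y₁ Y₂` (degree `12`, value `1`),
`X₁ X₂` (degree `10`, value `-1`) and `Λ₀ Λ₁` (degree `5`, values `x`, `y`). -/
structure CaseB {G : Type u} [Group G] (K : Subgroup G) where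
  Λ₀ : Cfsg.IrrCharacter G
  Λ₁ : Cfsg.IrrCharacter G
  Y₁ : Cfsg.IrrCharacter G
  Y₂ : Cfsg.IrrCharacter G
  X₁ : Cfsg.IrrCharacter G
  X₂ : Cfsg.IrrCharacter G
  nodup : [triv G, Λ₀, Λ₁, Y₁, Y₂, X₁, X₂].Nodup
  degΛ₀ : Cfsg.charDegree (Λ₀ : G → ℂ) = 5
  degΛ₁ : Cfsg.charDegree (Λ₁ : G → ℂ) = 5
  degY₁ : Cfsg.charDegree (Y₁ : G → ℂ) = 12
  degY₂ : Cfsg.charDegree (Y₂ : G → ℂ) = 12
  degX₁ : Cfsg.charDegree (X₁ : G → ℂ) = 10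
  degX₂ : Cfsg.charDegree (X₂ : G → ℂ) = 10
  x : G → ℂ
  y : G → ℂ
  hxy : ∀ k ∈ K, k ≠ 1 → x k + y k = -1
  hxy2 : ∀ k ∈ K, k ≠ 1 → x k * conj (x k) + y k * conj (y k) = 6
  valΛ₀ : ∀ k ∈ K, k ≠ 1 → (Λ₀ : G → ℂ) k = x k
  valΛ₁ : ∀ k ∈ K, k ≠ 1 → (Λ₁ : G → ℂ) k = y k
  valY₁ : ∀ k ∈ K, k ≠ 1 → (Y₁ : G → ℂ) k = 1
  valY₂ : ∀ k ∈ K, k ≠ 1 → (Y₂ : G → ℂ) k = 1
  valX₁ : ∀ k ∈ K, k ≠ 1 → (X₁ : G → ℂ) k = -1
  valX₂ : ∀ k ∈ K, k ≠ 1 → (X₂ : G → ℂ) k = -1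
  rest : ∀ χ : Cfsg.IrrCharacter G, χ ∉ [triv G, Λ₀, Λ₁, Y₁, Y₂, X₁, X₂] →
    (∀ k ∈ K, k ≠ 1 → (χ : G → ℂ) k = 0) ∧ 11 ∣ Cfsg.charDegree (χ : G → ℂ)
  vanX₁ : ∀ g ∈ Subgroup.normalizer (K : Set G), g ∉ K → (X₁ : G → ℂ) g = 0
  vanX₂ : ∀ g ∈ Subgroup.normalizer (K : Set G), g ∉ K → (X₂ : G → ℂ) g = 0
  vanΛ₀ : ∀ g ∈ Subgroup.normalizer (K : Set G), g ∉ K → (Λ₀ : G → ℂ) g = 0
  vanΛ₁ : ∀ g ∈ Subgroup.normalizer (K : Set G), g ∉ K → (Λ₁ : G → ℂ) g = 0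

end Cfsg.Agent.Helper2.M11
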