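import Mathlib

/-!
# M11 cluster: the Diophantine kernels `kerA_720`, `kerA_144`, `kerB` (helper2)

Pure integer arithmetic: the involution values of the characters of the principal
11-block of a simple group of order 7920, in case A (`kerA_*`) and case B (`kerB`).
-/

set_option autoImplicit false

namespace Cfsg.Agent.Helper2.M11

set_option maxHeartbeats 4000000 in
/-- Case A, reduced variables: `a₁ = 2x`, `a₂ = 2y`, `a₃ = 2z`, `ℓ = 4l`, `b = 3(2b'+1)`. -/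
theorem kerA_core (l b x y : ℤ)
    (hq : 5 + (2 * b + 1) ^ 2 = 2 * (x ^ 2 + y ^ 2 + (3 * b + 2 - 2 * l - x - y) ^ 2) + 5 * l ^ 2)
    (hn : 1 + 4 * (x ^ 2 + y ^ 2 + (3 * b + 2 - 2 * l - x - y) ^ 2) + 9 * (2 * b + 1) ^ 2
      + 32 * l ^ 2 ≤ 720) :
    (l = 0 ∧ b = -1 ∧ x ^ 2 + y ^ 2 + (3 * b + 2 - 2 * l - x - y) ^ 2 = 3) ∨
    (40 ≤ |2 * x| * (10 - |2 * x|) + |2 * y| * (10 - |2 * y|) +
        |2 * (3 * b + 2 - 2 * l - x - y)| * (10 - |2 * (3 * b + 2 - 2 * l - x - y)|) ∧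
      300 < 1 + 4 * (x ^ 2 + y ^ 2 + (3 * b + 2 - 2 * l - x - y) ^ 2) + 9 * (2 * b + 1) ^ 2
        + 32 * l ^ 2) := by
  have hl1 : -4 ≤ l := by nlinarith [sq_nonneg x, sq_nonneg y, sq_nonneg (3 * b + 2 - 2 * l - x - y), sq_nonneg (2 * b + 1)]
  have hl2 : l ≤ 4 := by nlinarith [sq_nonneg x, sq_nonneg y, sq_nonneg (3 * b + 2 - 2 * l - x - y), sq_nonneg (2 * b + 1)]
  have hb1 : -5 ≤ b := by nlinarith [sq_nonneg x, sq_nonneg y, sq_nonneg (3 * b + 2 - 2 * l - x - y), sq_nonneg l]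
  have hb2 : b ≤ 4 := by nlinarith [sq_nonneg x, sq_nonneg y, sq_nonneg (3 * b + 2 - 2 * l - x - y), sq_nonneg l]
  have hx1 : -13 ≤ x := by nlinarith [sq_nonneg y, sq_nonneg (3 * b + 2 - 2 * l - x - y), sq_nonneg (2 * b + 1), sq_nonneg l]
  have hx2 : x ≤ 13 := by nlinarith [sq_nonneg y, sq_nonneg (3 * b + 2 - 2 * l - x - y), sq_nonneg (2 * b + 1), sq_nonneg l]
  have hy1 : -13 ≤ y := by nlinarith [sq_nonneg x, sq_nonneg (3 * b + 2 - 2 * l - x - y), sq_nonneg (2 * b + 1), sq_nonneg l]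
  have hy2 : y ≤ 13 := by nlinarith [sq_nonneg x, sq_nonneg (3 * b + 2 - 2 * l - x - y), sq_nonneg (2 * b + 1), sq_nonneg l]
  interval_cases l <;> interval_cases b <;>
    first
      | (exfalso; ring_nf at hq hn; nlinarith [sq_nonneg x, sq_nonneg y, sq_nonneg (x + y), sq_nonneg (x - y)])
      | (exfalso; omega)
      | skip
  all_goals
    have hx1' : -5 ≤ x := by nlinarith [sq_nonneg y, sq_nonneg (x + y), sq_nonneg (x - y)]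
    have hx2' : x ≤ 5 := by nlinarith [sq_nonneg y, sq_nonneg (x + y), sq_nonneg (x - y)]
    have hy1' : -5 ≤ y := by nlinarith [sq_nonneg x, sq_nonneg (x + y), sq_nonneg (x - y)]
    have hy2' : y ≤ 5 := by nlinarith [sq_nonneg x, sq_nonneg (x + y), sq_nonneg (x - y)]
    interval_cases x <;> interval_cases y <;>
      first
        | (exfalso; norm_num at hq; done)
        | (left; norm_num; done)
        | (right; norm_num; done)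

/-- The reduction of the case-A involution equations to the variables of `kerA_core`. -/
theorem kerA_reduce (a₁ a₂ a₃ b ℓ : ℤ) (h1 : b = a₁ + a₂ + a₃ + ℓ - 1)
    (h2 : 720 + 16 * b ^ 2 = 72 * (a₁ ^ 2 + a₂ ^ 2 + a₃ ^ 2) + 45 * ℓ ^ 2)
    (p1 : Even a₁) (p2 : Even a₂) (p3 : Even a₃) (p4 : Odd b) (p5 : Even ℓ) :
    ∃ l b' x y : ℤ, a₁ = 2 * x ∧ a₂ = 2 * y ∧ a₃ = 2 * (3 * b' + 2 - 2 * l - x - y) ∧
      b = 3 * (2 * b' + 1) ∧ ℓ = 4 * l ∧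
      5 + (2 * b' + 1) ^ 2 =
        2 * (x ^ 2 + y ^ 2 + (3 * b' + 2 - 2 * l - x - y) ^ 2) + 5 * l ^ 2 := by
  obtain ⟨x, hx⟩ := p1
  obtain ⟨y, hy⟩ := p2
  obtain ⟨z, hz⟩ := p3
  obtain ⟨c, hc⟩ := p4
  obtain ⟨m, hm⟩ := p5
  have hx' : a₁ = 2 * x := by omega
  have hy' : a₂ = 2 * y := by omega
  have hz' : a₃ = 2 * z := by omega
  have hm' : ℓ = 2 * m := by omega
  -- `m` is even
  have hm2 : (2 : ℤ) ∣ m := by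
    have h2m : (2 : ℤ) ∣ m ^ 2 := by
      refine ⟨2 * b ^ 2 - 36 * (x ^ 2 + y ^ 2 + z ^ 2) - 22 * m ^ 2 + 90, ?_⟩
      rw [hx', hy', hz', hm'] at h2
      linarith
    exact Int.prime_two.dvd_of_dvd_pow h2m
  obtain ⟨l, hl⟩ := hm2
  have hl' : ℓ = 4 * l := by omega
  -- `3 ∣ b`
  have hb3 : (3 : ℤ) ∣ b := by
    have h3b : (3 : ℤ) ∣ b ^ 2 := by
      refine ⟨6 * (x ^ 2 + y ^ 2 + z ^ 2) + 15 * l ^ 2 - 15, ?_⟩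
      rw [hx', hy', hz', hl'] at h2
      linarith
    exact Int.prime_three.dvd_of_dvd_pow h3b
  obtain ⟨d, hd⟩ := hb3
  obtain ⟨b', hb'⟩ : ∃ b' : ℤ, d = 2 * b' + 1 := ⟨(d - 1) / 2, by omega⟩
  have hz2 : z = 3 * b' + 2 - 2 * l - x - y := by omega
  refine ⟨l, b', x, y, hx', hy', ?_, ?_, hl', ?_⟩
  · rw [hz', hz2]
  · rw [hd, hb']
  · rw [hx', hy', hz', hl', hd, hb', hz2] at h2
    linarith

/-- **kerA_720**, in the exact shape of the hypothesis `hker` of `h3_c10_caseA`. -/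
theorem kerA_720 : ∀ a₁ a₂ a₃ b ℓ : ℤ, b = a₁ + a₂ + a₃ + ℓ - 1 →
    720 + 16 * b ^ 2 = 72 * (a₁ ^ 2 + a₂ ^ 2 + a₃ ^ 2) + 45 * ℓ ^ 2 →
    Even a₁ → Even a₂ → Even a₃ → Odd b → Even ℓ →
    1 + a₁ ^ 2 + a₂ ^ 2 + a₃ ^ 2 + b ^ 2 + 2 * ℓ ^ 2 ≤ 720 →
    40 ≤ |a₁| * (10 - |a₁|) + |a₂| * (10 - |a₂|) + |a₃| * (10 - |a₃|) := by
  intro a₁ a₂ a₃ b ℓ h1 h2 p1 p2 p3 p4 p5 hn
  obtain ⟨l, b', x, y, rfl, rfl, rfl, rfl, rfl, hq⟩ := kerA_reduce a₁ a₂ a₃ b ℓ h1 h2 p1 p2 p3 p4 p5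
  have hn' : 1 + 4 * (x ^ 2 + y ^ 2 + (3 * b' + 2 - 2 * l - x - y) ^ 2) + 9 * (2 * b' + 1) ^ 2
      + 32 * l ^ 2 ≤ 720 := by linarith
  rcases kerA_core l b' x y hq hn' with ⟨rfl, rfl, hS⟩ | ⟨h40, -⟩
  · have hx1 : -1 ≤ x := by nlinarith [sq_nonneg y, sq_nonneg (3 * (-1) + 2 - 2 * 0 - x - y)]
    have hx2 : x ≤ 1 := by nlinarith [sq_nonneg y, sq_nonneg (3 * (-1) + 2 - 2 * 0 - x - y)]
    have hy1 : -1 ≤ y := by nlinarith [sq_nonneg x, sq_nonneg (3 * (-1) + 2 - 2 * 0 - x - y)]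
    have hy2 : y ≤ 1 := by nlinarith [sq_nonneg x, sq_nonneg (3 * (-1) + 2 - 2 * 0 - x - y)]
    interval_cases x <;> interval_cases y <;>
      first
        | (exfalso; norm_num at hS; done)
        | (norm_num; done)
  · exact h40

/-- **kerA_300**: with the norm bounded by `300` (e.g. by `|C(u)| ≤ 144`), the involution
values in case A are `(a; b; ℓ) = (-2, -2, 2; -3; 0)` up to the order of the `aᵢ`. -/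
theorem kerA_300 : ∀ a₁ a₂ a₃ b ℓ : ℤ, b = a₁ + a₂ + a₃ + ℓ - 1 →
    720 + 16 * b ^ 2 = 72 * (a₁ ^ 2 + a₂ ^ 2 + a₃ ^ 2) + 45 * ℓ ^ 2 →
    Even a₁ → Even a₂ → Even a₃ → Odd b → Even ℓ →
    1 + a₁ ^ 2 + a₂ ^ 2 + a₃ ^ 2 + b ^ 2 + 2 * ℓ ^ 2 ≤ 300 →
    b = -3 ∧ ℓ = 0 ∧ a₁ + a₂ + a₃ = -2 ∧ a₁ ^ 2 + a₂ ^ 2 + a₃ ^ 2 = 12 := by
  intro a₁ a₂ a₃ b ℓ h1 h2 p1 p2 p3 p4 p5 hn
  obtain ⟨l, b', x, y, rfl, rfl, rfl, rfl, rfl, hq⟩ := kerA_reduce a₁ a₂ a₃ b ℓ h1 h2 p1 p2 p3 p4 p5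
  have hn' : 1 + 4 * (x ^ 2 + y ^ 2 + (3 * b' + 2 - 2 * l - x - y) ^ 2) + 9 * (2 * b' + 1) ^ 2
      + 32 * l ^ 2 ≤ 300 := by linarith
  rcases kerA_core l b' x y hq (by linarith) with ⟨rfl, rfl, hS⟩ | ⟨-, h300⟩
  · refine ⟨by norm_num, by norm_num, by ring, by linarith⟩
  · exact absurd hn' (not_le.mpr h300)

/-- **kerA_144**: the same with the bound `144` (`|C(u)|` divides `144`). -/
theorem kerA_144 : ∀ a₁ a₂ a₃ b ℓ : ℤ, b = a₁ + a₂ + a₃ + ℓ - 1 →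
    720 + 16 * b ^ 2 = 72 * (a₁ ^ 2 + a₂ ^ 2 + a₃ ^ 2) + 45 * ℓ ^ 2 →
    Even a₁ → Even a₂ → Even a₃ → Odd b → Even ℓ →
    1 + a₁ ^ 2 + a₂ ^ 2 + a₃ ^ 2 + b ^ 2 + 2 * ℓ ^ 2 ≤ 144 →
    b = -3 ∧ ℓ = 0 ∧ a₁ + a₂ + a₃ = -2 ∧ a₁ ^ 2 + a₂ ^ 2 + a₃ ^ 2 = 12 := by
  intro a₁ a₂ a₃ b ℓ h1 h2 p1 p2 p3 p4 p5 hn
  exact kerA_300 a₁ a₂ a₃ b ℓ h1 h2 p1 p2 p3 p4 p5 (by linarith)

/-- **kerA_143**: the same with the bound `143`. -/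
theorem kerA_143 : ∀ a₁ a₂ a₃ b ℓ : ℤ, b = a₁ + a₂ + a₃ + ℓ - 1 →
    720 + 16 * b ^ 2 = 72 * (a₁ ^ 2 + a₂ ^ 2 + a₃ ^ 2) + 45 * ℓ ^ 2 →
    Even a₁ → Even a₂ → Even a₃ → Odd b → Even ℓ →
    1 + a₁ ^ 2 + a₂ ^ 2 + a₃ ^ 2 + b ^ 2 + 2 * ℓ ^ 2 ≤ 143 →
    b = -3 ∧ ℓ = 0 ∧ a₁ + a₂ + a₃ = -2 ∧ a₁ ^ 2 + a₂ ^ 2 + a₃ ^ 2 = 12 := by
  intro a₁ a₂ a₃ b ℓ h1 h2 p1 p2 p3 p4 p5 hn
  exact kerA_300 a₁ a₂ a₃ b ℓ h1 h2 p1 p2 p3 p4 p5 (by linarith)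

/-- The solutions of `a₁ + a₂ + a₃ = -2`, `a₁² + a₂² + a₃² = 12`: `(-2, -2, 2)` up to order. -/
theorem kerA_values (a₁ a₂ a₃ : ℤ) (hs : a₁ + a₂ + a₃ = -2)
    (hq : a₁ ^ 2 + a₂ ^ 2 + a₃ ^ 2 = 12) :
    (a₁ = 2 ∧ a₂ = -2 ∧ a₃ = -2) ∨ (a₁ = -2 ∧ a₂ = 2 ∧ a₃ = -2) ∨
      (a₁ = -2 ∧ a₂ = -2 ∧ a₃ = 2) := by
  have h3 : a₃ = -2 - a₁ - a₂ := by linarith
  subst h3
  have hx1 : -3 ≤ a₁ := by nlinarith [sq_nonneg a₂, sq_nonneg (-2 - a₁ - a₂)]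
  have hx2 : a₁ ≤ 3 := by nlinarith [sq_nonneg a₂, sq_nonneg (-2 - a₁ - a₂)]
  have hy1 : -3 ≤ a₂ := by nlinarith [sq_nonneg a₁, sq_nonneg (-2 - a₁ - a₂)]
  have hy2 : a₂ ≤ 3 := by nlinarith [sq_nonneg a₁, sq_nonneg (-2 - a₁ - a₂)]
  interval_cases a₁ <;> interval_cases a₂ <;>
    first
      | (exfalso; norm_num at hq; done)
      | (norm_num; done)

set_option maxHeartbeats 4000000 in
/-- Case B, halved variables. -/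
theorem kerB_core (u₁ u₂ v₁ v₂ : ℤ)
    (h2 : 60 + 5 * ((2 * u₁) ^ 2 + (2 * u₂) ^ 2) = 6 * ((2 * v₁) ^ 2 + (2 * v₂) ^ 2) +
      12 * (1 + 2 * u₁ + 2 * u₂ - 2 * v₁ - 2 * v₂) ^ 2)
    (hu₁ : |2 * u₁| < 12) (hu₂ : |2 * u₂| < 12) (hv₁ : |2 * v₁| < 10) (hv₂ : |2 * v₂| < 10)
    (hℓ : |1 + 2 * u₁ + 2 * u₂ - 2 * v₁ - 2 * v₂| < 5) :
    37 ≤ 2 * (25 - (1 + 2 * u₁ + 2 * u₂ - 2 * v₁ - 2 * v₂) ^ 2) +
      |2 * v₁| * (10 - |2 * v₁|) + |2 * v₂| * (10 - |2 * v₂|) := by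
  rw [abs_lt] at hu₁ hu₂ hv₁ hv₂ hℓ
  have a1 : -5 ≤ u₁ := by omega
  have a2 : u₁ ≤ 5 := by omega
  have a3 : -5 ≤ u₂ := by omega
  have a4 : u₂ ≤ 5 := by omega
  have a5 : -4 ≤ v₁ := by omega
  have a6 : v₁ ≤ 4 := by omega
  have a7 : -4 ≤ v₂ := by omega
  have a8 : v₂ ≤ 4 := by omega
  interval_cases u₁ <;> interval_cases u₂ <;>
    first
      | (exfalso; ring_nf at h2; omega)
      | skip
  all_goals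
    interval_cases v₁ <;> interval_cases v₂ <;>
      first
        | (exfalso; norm_num at h2; done)
        | (exfalso; norm_num at hℓ; done)
        | (norm_num; done)

/-- **kerB**, in the exact shape of the hypothesis `hker` of `h3_c10_caseB`. -/
theorem kerB : ∀ y₁ y₂ a₁ a₂ ℓ : ℤ, 1 + y₁ + y₂ - a₁ - a₂ - ℓ = 0 →
    60 + 5 * (y₁ ^ 2 + y₂ ^ 2) = 6 * (a₁ ^ 2 + a₂ ^ 2) + 12 * ℓ ^ 2 →
    Even y₁ → Even y₂ → Even a₁ → Even a₂ → Odd ℓ →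
    |y₁| < 12 → |y₂| < 12 → |a₁| < 10 → |a₂| < 10 → |ℓ| < 5 →
    37 ≤ 2 * (25 - ℓ ^ 2) + |a₁| * (10 - |a₁|) + |a₂| * (10 - |a₂|) := by
  intro y₁ y₂ a₁ a₂ ℓ h1 h2 p1 p2 p3 p4 _ b1 b2 b3 b4 b5
  obtain ⟨u₁, hu₁⟩ := p1
  obtain ⟨u₂, hu₂⟩ := p2
  obtain ⟨v₁, hv₁⟩ := p3
  obtain ⟨v₂, hv₂⟩ := p4
  have e1 : y₁ = 2 * u₁ := by omega
  have e2 : y₂ = 2 * u₂ := by omega
  have e3 : a₁ = 2 * v₁ := by omega
  have e4 : a₂ = 2 * v₂ := by omega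
  have e5 : ℓ = 1 + 2 * u₁ + 2 * u₂ - 2 * v₁ - 2 * v₂ := by omega
  subst e1 e2 e3 e4 e5
  exact kerB_core u₁ u₂ v₁ v₂ h2 b1 b2 b3 b4 b5

end Cfsg.Agent.Helper2.M11
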