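import Mathlib
import Cfsg.Agent.Helper2.BrTIE
import Cfsg.Agent.Helper6.Expansion

/-!
# Restriction to the normalizer of a T.I. subgroup

A character of the normalizer which agrees on `K` with a combination of relevant characters
is that combination; in particular it vanishes off `K`.
-/

set_option autoImplicit false
set_option linter.style.haveILetI false

namespace Cfsg.Agent.Helper2.M11

open Cfsg.Agent.Helper6 Cfsg.Agent.Helper2.BrTI
open scoped ComplexConjugate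

universe u

variable {G : Type u} [Group G] (K : Subgroup G)

local notation "NK" => Subgroup.normalizer (K : Set G)

variable [Fintype G]

set_option maxHeartbeats 1600000 in
theorem res_vanish [Fintype ↥NK] [Fintype (Cfsg.IrrCharacter ↥NK)] [Fintype (Rel K)]
    (hC : ∀ k ∈ K, k ≠ 1 → Subgroup.centralizer ({k} : Set G) ≤ K)
    (hab : ∀ a ∈ K, ∀ b ∈ K, a * b = b * a)
    (θ : ↥NK → ℂ) (hθ : Cfsg.IsCharacter ↥NK θ) (m : Rel K → ℕ)
    (hK : ∀ n : ↥NK, (n : G) ∈ K → θ n = ∑ η : Rel K, (m η : ℂ) * (η.1 : ↥NK → ℂ) n) :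
    ∀ n : ↥NK, (n : G) ∉ K → θ n = 0 := by
  classical
  have hrel : ∀ η : Rel K, (∀ x : ↥NK, (x : G) ∉ K → (η.1 : ↥NK → ℂ) x = 0) ∧
      (η.1 : ↥NK → ℂ) 1 = ((K.subgroupOf NK).index : ℂ) :=
    fun η => rel_data K hC hab _ η.1.2 η.2
  set φ : ↥NK → ℂ := ∑ η : Rel K, (m η : ℂ) • (η.1 : ↥NK → ℂ) with hφ
  have hφapp : ∀ n : ↥NK, φ n = ∑ η : Rel K, (m η : ℂ) * (η.1 : ↥NK → ℂ) n := by
    intro n
    rw [hφ, Finset.sum_apply]
    rfl
  -- the multiplicities of the relevant characters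
  have hmult : ∀ η : Rel K, Cfsg.classInner θ (η.1 : ↥NK → ℂ) = m η := by
    intro η
    have h1 : Cfsg.classInner θ (η.1 : ↥NK → ℂ) = Cfsg.classInner φ (η.1 : ↥NK → ℂ) := by
      rw [classInner_def, classInner_def]
      congr 1
      apply Finset.sum_congr rfl
      intro n _
      by_cases hn : (n : G) ∈ K
      · rw [hK n hn, hφapp n]
      · rw [(hrel η).1 n hn, map_zero, mul_zero, mul_zero]
    rw [h1, hφ, classInner_sum_left, Finset.sum_eq_single η]
    · rw [classInner_smul_left, classInner_irr_self η.1.2, mul_one]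
    · intro η' _ hne
      rw [classInner_smul_left, classInner_irr_ne η'.1.2 η.1.2
        (fun h => hne (Subtype.ext (Subtype.ext h))), mul_zero]
    · intro h; exact absurd (Finset.mem_univ _) h
  -- the expansion
  have hexp := classFunction_expansion θ (IsCharacter.isClassFunction hθ)
  have hnat : ∀ ψ : Cfsg.IrrCharacter ↥NK, ∃ k : ℕ, Cfsg.classInner θ (ψ : ↥NK → ℂ) = k :=
    fun ψ => classInner_char_char_nat hθ (IsIrrCharacter.isCharacter ψ.2)
  choose mult hmultψ using hnat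
  have hdeg : ∀ ψ : Cfsg.IrrCharacter ↥NK, ∃ d : ℕ, 0 < d ∧ (ψ : ↥NK → ℂ) 1 = d :=
    fun ψ => IsIrrCharacter.apply_one_pos ψ.2
  choose d hdpos hd using hdeg
  have hev : ∀ n : ↥NK, θ n = ∑ ψ : Cfsg.IrrCharacter ↥NK,
      Cfsg.classInner θ (ψ : ↥NK → ℂ) * (ψ : ↥NK → ℂ) n := by
    intro n
    have := congrFun hexp n
    rw [Finset.sum_apply] at this
    simpa using this
  -- at the identity
  have h1 := hev 1
  rw [sum_split K, hK 1 (by simpa using K.one_mem)] at h1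
  have h1a : ∑ η : Rel K, Cfsg.classInner θ (η.1 : ↥NK → ℂ) * (η.1 : ↥NK → ℂ) 1 =
      ∑ η : Rel K, (m η : ℂ) * (η.1 : ↥NK → ℂ) 1 :=
    Finset.sum_congr rfl (fun η _ => by rw [hmult η])
  rw [h1a] at h1
  have h1b : ∑ ψ ∈ Finset.univ.filter (fun χ : Cfsg.IrrCharacter ↥NK =>
      ∀ n ∈ K.subgroupOf NK, (χ : ↥NK → ℂ) n = (χ : ↥NK → ℂ) 1), mult ψ * d ψ = 0 := by
    have : ((∑ ψ ∈ Finset.univ.filter (fun χ : Cfsg.IrrCharacter ↥NK =>
        ∀ n ∈ K.subgroupOf NK, (χ : ↥NK → ℂ) n = (χ : ↥NK → ℂ) 1), mult ψ * d ψ : ℕ) : ℂ) = 0 := by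
      push_cast
      have h2 : ∑ ψ ∈ Finset.univ.filter (fun χ : Cfsg.IrrCharacter ↥NK =>
          ∀ n ∈ K.subgroupOf NK, (χ : ↥NK → ℂ) n = (χ : ↥NK → ℂ) 1),
          Cfsg.classInner θ (ψ : ↥NK → ℂ) * (ψ : ↥NK → ℂ) 1 = 0 := by
        linear_combination -h1
      rw [← h2]
      apply Finset.sum_congr rfl
      intro ψ _
      rw [hmultψ ψ, hd ψ]
    exact_mod_cast this
  have hzero : ∀ ψ ∈ Finset.univ.filter (fun χ : Cfsg.IrrCharacter ↥NK =>
      ∀ n ∈ K.subgroupOf NK, (χ : ↥NK → ℂ) n = (χ : ↥NK → ℂ) 1), mult ψ = 0 := by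
    intro ψ hψ
    have := (Finset.sum_eq_zero_iff.mp h1b) ψ hψ
    rcases Nat.mul_eq_zero.mp this with h | h
    · exact h
    · exact absurd h (hdpos ψ).ne'
  -- off `K`
  intro n hn
  rw [hev n, sum_split K]
  rw [Finset.sum_eq_zero, Finset.sum_eq_zero, add_zero]
  · intro ψ hψ
    rw [hmultψ ψ, hzero ψ hψ, Nat.cast_zero, zero_mul]
  · intro η _
    rw [(hrel η).1 n hn, mul_zero]

end Cfsg.Agent.Helper2.M11
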