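import Mathlib
import Cfsg.Agent.Helper2.M11_T2a

/-!
# Exceptional characters for a self-centralizing T.I. subgroup of order `11` with `e = 5`

There are two relevant characters of the normalizer; the exceptional characters are determined
up to swapping them.
-/

set_option autoImplicit false
set_option linter.style.haveILetI false

namespace Cfsg.Agent.Helper2.M11

open Cfsg.Agent.Helper6 Cfsg.Agent.Helper2.BrTI
open scoped ComplexConjugate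

universe u

variable {G : Type u} [Group G] {K : Subgroup G}

local notation "NK" => Subgroup.normalizer (K : Set G)

variable [Fintype G]

omit [Fintype G] in
theorem charDegree_triv : Cfsg.charDegree (fun _ : G => (1 : ℂ)) = 1 := by
  have h := charDegree_cast_of_isCharacter (isCharacter_one (G := G))
  exact_mod_cast h

/-- a vector of integers with sum of squares `1` and a known entry `1` -/
theorem eq_zero_of_sum_sq_one {ι : Type*} [Fintype ι] [DecidableEq ι] (c : ι → ℤ) (i₀ : ι)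
    (h0 : c i₀ = 1) (h : ∑ i, c i ^ 2 = 1) (j : ι) (hj : j ≠ i₀) : c j = 0 := by
  by_contra hne
  have h1 : ∑ i ∈ ({i₀, j} : Finset ι), c i ^ 2 ≤ ∑ i, c i ^ 2 :=
    Finset.sum_le_sum_of_subset_of_nonneg (Finset.subset_univ _) (fun i _ _ => sq_nonneg _)
  rw [Finset.sum_pair (Ne.symm hj), h0, h] at h1
  have : 0 < c j ^ 2 := by positivity
  omega

set_option maxHeartbeats 1600000 in
/-- the exceptional characters for `|K| = 11`, `e = 5` -/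
theorem t2_main (D : Data K) [Fintype ↥NK] [Fintype (Cfsg.IrrCharacter ↥NK)] [Fintype (Rel K)]
    [Fintype (Cfsg.IrrCharacter G)] (hK : Nat.card K = 11)
    (he : (K.subgroupOf NK).index = 5) :
    ∃ (ε : ℤ) (η₀ η₁ : Rel K) (Λ₀ Λ₁ : Cfsg.IrrCharacter G) (c : Cfsg.IrrCharacter G → ℤ),
      (ε = 1 ∨ ε = -1) ∧ η₀ ≠ η₁ ∧ (∀ η : Rel K, η = η₀ ∨ η = η₁) ∧ Λ₀ ≠ Λ₁ ∧
      (∀ k : ↥NK, (k : G) ∈ K → k ≠ 1 →
        (Λ₀ : G → ℂ) k = ε * (η₀.1 : ↥NK → ℂ) k ∧ (Λ₁ : G → ℂ) k = ε * (η₁.1 : ↥NK → ℂ) k ∧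
        (η₀.1 : ↥NK → ℂ) k + (η₁.1 : ↥NK → ℂ) k = -1 ∧
        (η₀.1 : ↥NK → ℂ) k * conj ((η₀.1 : ↥NK → ℂ) k) +
          (η₁.1 : ↥NK → ℂ) k * conj ((η₁.1 : ↥NK → ℂ) k) = 6) ∧
      c Λ₀ = 0 ∧ c Λ₁ = 0 ∧
      (∀ χ : Cfsg.IrrCharacter G, χ ≠ Λ₀ → χ ≠ Λ₁ →
        (∀ k : ↥NK, (k : G) ∈ K → k ≠ 1 → (χ : G → ℂ) k = c χ) ∧
        (11 : ℤ) ∣ (Cfsg.charDegree (χ : G → ℂ) : ℤ) - c χ) ∧
      c ⟨fun _ => 1, isIrrCharacter_one⟩ = 1 ∧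
      Λ₀ ≠ ⟨fun _ => 1, isIrrCharacter_one⟩ ∧ Λ₁ ≠ ⟨fun _ => 1, isIrrCharacter_one⟩ ∧
      ∑ χ, c χ ^ 2 = 5 ∧
      Cfsg.charDegree (Λ₀ : G → ℂ) = Cfsg.charDegree (Λ₁ : G → ℂ) ∧
      ∑ χ, c χ * (Cfsg.charDegree (χ : G → ℂ) : ℤ) = ε * (Cfsg.charDegree (Λ₀ : G → ℂ) : ℤ) ∧
      (11 : ℤ) ∣ (Cfsg.charDegree (Λ₀ : G → ℂ) : ℤ) - 5 * ε := by
  classical
  have hK2 : 2 ≤ Nat.card K := by rw [hK]; norm_num
  -- a nonidentity element, to count the relevant characters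
  obtain ⟨k₀, hk₀K, hk₀1⟩ : ∃ k₀ : ↥NK, (k₀ : G) ∈ K ∧ k₀ ≠ 1 := by
    have h1 : 1 < Nat.card (K.subgroupOf NK) := by rw [card_subgroupOf_normalizer]; omega
    haveI : Nontrivial (K.subgroupOf NK) := (Finite.one_lt_card_iff_nontrivial).mp h1
    obtain ⟨k, hk⟩ := exists_ne (1 : K.subgroupOf NK)
    exact ⟨k.1, Subgroup.mem_subgroupOf.mp k.2, fun h => hk (Subtype.ext h)⟩
  have hcard2 : Nat.card (Rel K) = 2 := by
    have h := (nside K D.hC D.hab k₀ hk₀K hk₀1).2.2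
    rw [he, hK] at h
    omega
  obtain ⟨η₀, η₁, hη01, huniv⟩ := Nat.card_eq_two_iff.mp hcard2
  have hall : ∀ η : Rel K, η = η₀ ∨ η = η₁ := by
    intro η
    have : η ∈ (Set.univ : Set (Rel K)) := Set.mem_univ _
    rw [← huniv] at this
    simpa using this
  have hfin : (Finset.univ : Finset (Rel K)) = {η₀, η₁} := by
    ext η
    simp only [Finset.mem_univ, Finset.mem_insert, Finset.mem_singleton, true_iff]
    exact hall η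
  have hns : ∀ k : ↥NK, (k : G) ∈ K → k ≠ 1 →
      (η₀.1 : ↥NK → ℂ) k + (η₁.1 : ↥NK → ℂ) k = -1 ∧
      (η₀.1 : ↥NK → ℂ) k * conj ((η₀.1 : ↥NK → ℂ) k) +
        (η₁.1 : ↥NK → ℂ) k * conj ((η₁.1 : ↥NK → ℂ) k) = 6 := by
    intro k hk hk1
    obtain ⟨h1, h2, -⟩ := nside K D.hC D.hab k hk hk1
    rw [hfin, Finset.sum_pair hη01] at h1 h2
    refine ⟨h1, ?_⟩
    rw [h2, he, hK]
    norm_num
  obtain ⟨εz, m, c, hεz, hεzC, hexc, hc_exc, hc_non, hctriv, htriv_non, hsq, hlin, hdvd⟩ :=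
    data_main3 D 5 he (by rw [hcard2]; norm_num) hK2
  rw [hcard2] at hsq hlin
  rw [hK] at hdvd
  push_cast at hsq hlin hdvd
  set triv : Cfsg.IrrCharacter G := ⟨fun _ => 1, isIrrCharacter_one⟩ with htriv
  have hge1 : (1 : ℤ) ≤ ∑ χ, c χ ^ 2 := by
    have h1 : c triv ^ 2 ≤ ∑ χ, c χ ^ 2 :=
      Finset.single_le_sum (f := fun χ => c χ ^ 2) (fun χ _ => sq_nonneg _) (Finset.mem_univ triv)
    rw [hctriv] at h1
    linarith
  have hdegtriv : Cfsg.charDegree ((triv : Cfsg.IrrCharacter G) : G → ℂ) = 1 := charDegree_triv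
  have hdeg01 : Cfsg.charDegree (D.f η₀ : G → ℂ) = Cfsg.charDegree (D.f η₁ : G → ℂ) := by
    have h1 : (Cfsg.charDegree (D.f η₀ : G → ℂ) : ℂ) = (Cfsg.charDegree (D.f η₁ : G → ℂ) : ℂ) := by
      rw [charDegree_cast_of_isCharacter (IsIrrCharacter.isCharacter (D.f η₀).2),
        charDegree_cast_of_isCharacter (IsIrrCharacter.isCharacter (D.f η₁).2), D.deg_eq η₀ η₁]
    exact_mod_cast h1
  have hf01 : D.f η₀ ≠ D.f η₁ := fun h => hη01 (D.hf h)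
  have hnon : ∀ χ : Cfsg.IrrCharacter G, χ ≠ D.f η₀ → χ ≠ D.f η₁ → ∀ η : Rel K, D.f η ≠ χ := by
    intro χ h0 h1 η h
    rcases hall η with rfl | rfl
    · exact h0 h.symm
    · exact h1 h.symm
  -- the case of a single nonzero entry is impossible
  have hone : ∑ χ, c χ ^ 2 = 1 → ∑ χ, c χ * (Cfsg.charDegree (χ : G → ℂ) : ℤ) = 1 := by
    intro h1
    rw [Finset.sum_eq_single triv]
    · rw [hctriv, hdegtriv]; norm_num
    · intro χ _ hχ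
      rw [eq_zero_of_sum_sq_one c triv hctriv h1 χ hχ, zero_mul]
    · intro h; exact absurd (Finset.mem_univ _) h
  have hm : m = -2 ∨ m = -1 ∨ m = 0 ∨ m = 1 ∨ m = 2 := by
    rw [hsq] at hge1
    have h1 : -2 ≤ m := by rcases hεz with h | h <;> rw [h] at hge1 <;> nlinarith
    have h2 : m ≤ 2 := by rcases hεz with h | h <;> rw [h] at hge1 <;> nlinarith
    omega
  have hd0 := hlin η₀
  have hdv0 := hdvd η₀
  -- the two good cases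
  have good0 : m = 0 → ∃ (ε : ℤ) (η₀ η₁ : Rel K) (Λ₀ Λ₁ : Cfsg.IrrCharacter G)
      (c : Cfsg.IrrCharacter G → ℤ),
      (ε = 1 ∨ ε = -1) ∧ η₀ ≠ η₁ ∧ (∀ η : Rel K, η = η₀ ∨ η = η₁) ∧ Λ₀ ≠ Λ₁ ∧
      (∀ k : ↥NK, (k : G) ∈ K → k ≠ 1 →
        (Λ₀ : G → ℂ) k = ε * (η₀.1 : ↥NK → ℂ) k ∧ (Λ₁ : G → ℂ) k = ε * (η₁.1 : ↥NK → ℂ) k ∧
        (η₀.1 : ↥NK → ℂ) k + (η₁.1 : ↥NK → ℂ) k = -1 ∧
        (η₀.1 : ↥NK → ℂ) k * conj ((η₀.1 : ↥NK → ℂ) k) +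
          (η₁.1 : ↥NK → ℂ) k * conj ((η₁.1 : ↥NK → ℂ) k) = 6) ∧
      c Λ₀ = 0 ∧ c Λ₁ = 0 ∧
      (∀ χ : Cfsg.IrrCharacter G, χ ≠ Λ₀ → χ ≠ Λ₁ →
        (∀ k : ↥NK, (k : G) ∈ K → k ≠ 1 → (χ : G → ℂ) k = c χ) ∧
        (11 : ℤ) ∣ (Cfsg.charDegree (χ : G → ℂ) : ℤ) - c χ) ∧
      c ⟨fun _ => 1, isIrrCharacter_one⟩ = 1 ∧
      Λ₀ ≠ ⟨fun _ => 1, isIrrCharacter_one⟩ ∧ Λ₁ ≠ ⟨fun _ => 1, isIrrCharacter_one⟩ ∧
      ∑ χ, c χ ^ 2 = 5 ∧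
      Cfsg.charDegree (Λ₀ : G → ℂ) = Cfsg.charDegree (Λ₁ : G → ℂ) ∧
      ∑ χ, c χ * (Cfsg.charDegree (χ : G → ℂ) : ℤ) = ε * (Cfsg.charDegree (Λ₀ : G → ℂ) : ℤ) ∧
      (11 : ℤ) ∣ (Cfsg.charDegree (Λ₀ : G → ℂ) : ℤ) - 5 * ε := by
    intro hm0
    rw [hm0] at hsq hd0 hdv0
    refine ⟨εz, η₀, η₁, D.f η₀, D.f η₁, c, hεz, hη01, hall, hf01, ?_, hc_exc η₀, hc_exc η₁, ?_,
      hctriv, htriv_non η₀, htriv_non η₁, by linarith, hdeg01, by rw [hd0]; ring, ?_⟩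
    · intro k hk hk1
      refine ⟨?_, ?_, (hns k hk hk1).1, (hns k hk hk1).2⟩
      · rw [hexc η₀ k hk hk1, hm0, hεzC]; simp
      · rw [hexc η₁ k hk hk1, hm0, hεzC]; simp
    · intro χ h0 h1
      have := hc_non χ (hnon χ h0 h1)
      rw [hK] at this
      exact this
    · have : (Cfsg.charDegree (D.f η₀ : G → ℂ) : ℤ) - 5 * εz =
          (Cfsg.charDegree (D.f η₀ : G → ℂ) : ℤ) - εz * 5 - 0 := by ring
      rw [this]; exact hdv0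
  have good1 : m = εz → ∃ (ε : ℤ) (η₀ η₁ : Rel K) (Λ₀ Λ₁ : Cfsg.IrrCharacter G)
      (c : Cfsg.IrrCharacter G → ℤ),
      (ε = 1 ∨ ε = -1) ∧ η₀ ≠ η₁ ∧ (∀ η : Rel K, η = η₀ ∨ η = η₁) ∧ Λ₀ ≠ Λ₁ ∧
      (∀ k : ↥NK, (k : G) ∈ K → k ≠ 1 →
        (Λ₀ : G → ℂ) k = ε * (η₀.1 : ↥NK → ℂ) k ∧ (Λ₁ : G → ℂ) k = ε * (η₁.1 : ↥NK → ℂ) k ∧
        (η₀.1 : ↥NK → ℂ) k + (η₁.1 : ↥NK → ℂ) k = -1 ∧
        (η₀.1 : ↥NK → ℂ) k * conj ((η₀.1 : ↥NK → ℂ) k) +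
          (η₁.1 : ↥NK → ℂ) k * conj ((η₁.1 : ↥NK → ℂ) k) = 6) ∧
      c Λ₀ = 0 ∧ c Λ₁ = 0 ∧
      (∀ χ : Cfsg.IrrCharacter G, χ ≠ Λ₀ → χ ≠ Λ₁ →
        (∀ k : ↥NK, (k : G) ∈ K → k ≠ 1 → (χ : G → ℂ) k = c χ) ∧
        (11 : ℤ) ∣ (Cfsg.charDegree (χ : G → ℂ) : ℤ) - c χ) ∧
      c ⟨fun _ => 1, isIrrCharacter_one⟩ = 1 ∧
      Λ₀ ≠ ⟨fun _ => 1, isIrrCharacter_one⟩ ∧ Λ₁ ≠ ⟨fun _ => 1, isIrrCharacter_one⟩ ∧
      ∑ χ, c χ ^ 2 = 5 ∧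
      Cfsg.charDegree (Λ₀ : G → ℂ) = Cfsg.charDegree (Λ₁ : G → ℂ) ∧
      ∑ χ, c χ * (Cfsg.charDegree (χ : G → ℂ) : ℤ) = ε * (Cfsg.charDegree (Λ₀ : G → ℂ) : ℤ) ∧
      (11 : ℤ) ∣ (Cfsg.charDegree (Λ₀ : G → ℂ) : ℤ) - 5 * ε := by
    intro hm1
    have hεsq : εz * εz = 1 := by rcases hεz with h | h <;> rw [h] <;> norm_num
    rw [hm1] at hsq hd0 hdv0
    refine ⟨-εz, η₀, η₁, D.f η₁, D.f η₀, c, by rcases hεz with h | h <;> rw [h] <;> norm_num,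
      hη01, hall, hf01.symm, ?_, hc_exc η₁, hc_exc η₀, ?_,
      hctriv, htriv_non η₁, htriv_non η₀, by nlinarith, hdeg01.symm, by rw [hd0, hdeg01]; ring, ?_⟩
    · intro k hk hk1
      have hs := (hns k hk hk1).1
      refine ⟨?_, ?_, (hns k hk hk1).1, (hns k hk hk1).2⟩
      · rw [hexc η₁ k hk hk1, hm1, ← hεzC]
        push_cast
        linear_combination (εz : ℂ) * hs
      · rw [hexc η₀ k hk hk1, hm1, ← hεzC]
        push_cast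
        linear_combination (εz : ℂ) * hs
    · intro χ h0 h1
      have := hc_non χ (hnon χ h1 h0)
      rw [hK] at this
      exact this
    · rw [← hdeg01]
      have : (Cfsg.charDegree (D.f η₀ : G → ℂ) : ℤ) - 5 * -εz =
          ((Cfsg.charDegree (D.f η₀ : G → ℂ) : ℤ) - εz * 5 - εz) + 11 * εz := by
        ring
      rw [this]
      exact dvd_add hdv0 (dvd_mul_right _ _)
  -- the bad cases
  have bad : ∑ χ, c χ ^ 2 = 1 → (3 : ℤ) ∣ 1 → False := by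
    intro _ h3
    norm_num at h3
  rcases hεz with hε | hε
  · -- ε = 1
    rcases hm with h | h | h | h | h
    · exfalso; rw [h, hε] at hsq; linarith
    · exfalso
      rw [h, hε] at hsq hd0
      have h1 := hone (by linarith)
      rw [h1] at hd0
      have : (3 : ℤ) ∣ 1 := ⟨(Cfsg.charDegree (D.f η₀ : G → ℂ) : ℤ), by linarith⟩
      norm_num at this
    · exact good0 h
    · exact good1 (by rw [h, hε])
    · exfalso
      rw [h, hε] at hsq hd0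
      have h1 := hone (by linarith)
      rw [h1] at hd0
      have : (3 : ℤ) ∣ 1 := ⟨-(Cfsg.charDegree (D.f η₀ : G → ℂ) : ℤ), by linarith⟩
      norm_num at this
  · -- ε = -1
    rcases hm with h | h | h | h | h
    · exfalso
      rw [h, hε] at hsq hd0
      have h1 := hone (by linarith)
      rw [h1] at hd0
      have : (3 : ℤ) ∣ 1 := ⟨(Cfsg.charDegree (D.f η₀ : G → ℂ) : ℤ), by linarith⟩
      norm_num at this
    · exact good1 (by rw [h, hε])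
    · exact good0 h
    · exfalso
      rw [h, hε] at hsq hd0
      have h1 := hone (by linarith)
      rw [h1] at hd0
      have : (3 : ℤ) ∣ 1 := ⟨-(Cfsg.charDegree (D.f η₀ : G → ℂ) : ℤ), by linarith⟩
      norm_num at this
    · exfalso; rw [h, hε] at hsq; linarith

end Cfsg.Agent.Helper2.M11
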