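import Mathlib
import Cfsg.Prelude.Def_Sporadic
import Cfsg.Agent.Helper2.BrTIH
import Cfsg.Agent.Helper2.M11_T2b
import Cfsg.Agent.Helper2.M11_B11
import Cfsg.Agent.Helper2.M11_Res
import Cfsg.Agent.Helper2.M11_Case
import Cfsg.Agent.Helper1.M11h
import Cfsg.Agent.Helper6.Codegree
import Cfsg.Agent.Helper6.DefectZeroBlock

/-!
# The principal `11`-block of a simple group of order `7920`: the two cases
-/

set_option autoImplicit false
set_option linter.style.haveILetI false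

namespace Cfsg.Agent.Helper2.M11

open Cfsg.Agent.Helper6 Cfsg.Agent.Helper2.BrTI
open scoped ComplexConjugate

universe u

variable {G : Type u} [Group G]

/-- in a simple group a nontrivial irreducible character is faithful -/
theorem apply_ne_degree_of_simple [Finite G] [IsSimpleGroup G] (χ : Cfsg.IrrCharacter G)
    (hχ : χ ≠ triv G) (g : G) (hg : g ≠ 1) : (χ : G → ℂ) g ≠ (χ : G → ℂ) 1 := by
  classical
  haveI : Fintype G := Fintype.ofFinite G
  intro h
  obtain ⟨N, hN, hmem, -, -, -⟩ := exists_kernel_data χ.2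
  haveI := hN
  rcases hN.eq_bot_or_eq_top with h0 | h0
  · have : g ∈ N := (hmem g).mpr h
    rw [h0, Subgroup.mem_bot] at this
    exact hg this
  · have hall : ∀ x : G, (χ : G → ℂ) x = (χ : G → ℂ) 1 := by
      intro x
      exact (hmem x).mp (by rw [h0]; exact Subgroup.mem_top x)
    have h1 : Cfsg.classInner (χ : G → ℂ) ((triv G : Cfsg.IrrCharacter G) : G → ℂ) = 0 :=
      classInner_irr_ne χ.2 (triv G).2 (fun h => hχ (Subtype.ext h))
    rw [classInner_def] at h1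
    have htv : ∀ x : G, ((triv G : Cfsg.IrrCharacter G) : G → ℂ) x = 1 := fun _ => rfl
    have h2 : ∑ x : G, (χ : G → ℂ) x * conj (((triv G : Cfsg.IrrCharacter G) : G → ℂ) x) =
        (Nat.card G : ℂ) * (χ : G → ℂ) 1 := by
      have h3 : ∀ x ∈ (Finset.univ : Finset G),
          (χ : G → ℂ) x * conj (((triv G : Cfsg.IrrCharacter G) : G → ℂ) x) = (χ : G → ℂ) 1 := by
        intro x _
        rw [hall x, htv x, map_one, mul_one]
      rw [Finset.sum_congr rfl h3, Finset.sum_const, Finset.card_univ, nsmul_eq_mul,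
        Nat.card_eq_fintype_card]
    rw [h2] at h1
    have hG0 : (Nat.card G : ℂ) ≠ 0 := Nat.cast_ne_zero.mpr Nat.card_pos.ne'
    rw [← mul_assoc, inv_mul_cancel₀ hG0, one_mul] at h1
    exact IsIrrCharacter.apply_one_ne_zero χ.2 h1

/-- in a perfect group only the trivial character has degree one -/
theorem one_lt_charDegree_of_perfect [Finite G] (hperf : commutator G = ⊤)
    (χ : Cfsg.IrrCharacter G) (hχ : χ ≠ triv G) : 1 < Cfsg.charDegree (χ : G → ℂ) := by
  obtain ⟨n, hn, hn1⟩ := IsIrrCharacter.apply_one_pos χ.2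
  have hdeg : Cfsg.charDegree (χ : G → ℂ) = n := by
    have := charDegree_cast_of_isCharacter (IsIrrCharacter.isCharacter χ.2)
    rw [hn1] at this
    exact_mod_cast this
  rw [hdeg]
  by_contra hlt
  have hn1' : n = 1 := by omega
  rw [hn1'] at hn1
  have hcard := card_linear_irr (G := G)
  rw [hperf, Subgroup.index_top] at hcard
  have hsub : Subsingleton {χ : Cfsg.IrrCharacter G // (χ : G → ℂ) 1 = 1} :=
    (Nat.card_eq_one_iff_unique.mp hcard).1
  have := Subsingleton.elim (⟨χ, by simpa using hn1⟩ :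
    {χ : Cfsg.IrrCharacter G // (χ : G → ℂ) 1 = 1}) ⟨triv G, rfl⟩
  exact hχ (congrArg Subtype.val this)

/-- the function on `G` obtained from a function on a subgroup by extension by zero -/
noncomputable def ext0 (H : Subgroup G) (f : ↥H → ℂ) : G → ℂ := by
  classical exact fun g => if h : g ∈ H then f ⟨g, h⟩ else 0

theorem ext0_apply (H : Subgroup G) (f : ↥H → ℂ) (g : G) (h : g ∈ H) : ext0 H f g = f ⟨g, h⟩ := by
  classical
  unfold ext0
  rw [dif_pos h]

set_option maxHeartbeats 4000000 in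
/-- the two possible shapes of the principal `11`-block -/
theorem exists_case [Finite G] (hG : Cfsg.IsM11 G) (P : Sylow 11 G) :
    Nonempty (CaseA (P : Subgroup G)) ∨ Nonempty (CaseB (P : Subgroup G)) := by
  classical
  obtain ⟨hs, hc⟩ := hG
  haveI := hs
  haveI : Fintype G := Fintype.ofFinite G
  haveI : Fact (Nat.Prime 11) := ⟨by norm_num⟩
  obtain ⟨K, hKdef⟩ : ∃ K : Subgroup G, K = (P : Subgroup G) := ⟨_, rfl⟩
  rw [← hKdef]
  have hK : Nat.card K = 11 := by
    rw [hKdef]; exact Cfsg.Agent.Helper1.M7920.card_sylow_eleven_subgroup hc P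
  have hN : Nat.card (Subgroup.normalizer (K : Set G)) = 55 := by
    rw [hKdef]; exact Cfsg.Agent.Helper1.M7920.card_normalizer_sylow_eleven hc P
  have hcent : Subgroup.centralizer (K : Set G) ≤ K := by
    rw [hKdef]; exact (Cfsg.Agent.Helper1.M7920.centralizer_sylow_eleven hc P).le
  have he : (K.subgroupOf (Subgroup.normalizer (K : Set G))).index = 5 := by
    have h1 := (K.subgroupOf (Subgroup.normalizer (K : Set G))).card_mul_index
    rw [card_subgroupOf_normalizer, hK, hN] at h1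
    omega
  obtain ⟨D⟩ := exists_data K hK hcent (by rw [he]; norm_num)
  haveI : Fintype ↥(Subgroup.normalizer (K : Set G)) := Fintype.ofFinite _
  haveI : Finite (Cfsg.IrrCharacter ↥(Subgroup.normalizer (K : Set G))) := irr_finite
  haveI : Fintype (Cfsg.IrrCharacter ↥(Subgroup.normalizer (K : Set G))) := Fintype.ofFinite _
  haveI : Fintype (Rel K) := Fintype.ofFinite _
  haveI : Finite (Cfsg.IrrCharacter G) := irr_finite
  haveI : Fintype (Cfsg.IrrCharacter G) := Fintype.ofFinite _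
  obtain ⟨ε, η₀, η₁, Λ₀, Λ₁, c, hε, hη01, hall, hΛ01, hval, hcΛ₀, hcΛ₁, hnon, hctriv, hΛ₀t, hΛ₁t,
    hsq, hdeg01, hlin, hcongl⟩ := t2_main D hK he
  -- degree facts
  have hperf : commutator G = ⊤ := perfect_of_simple (by rw [hc]; norm_num)
  have hdvd : ∀ χ : Cfsg.IrrCharacter G, Cfsg.charDegree (χ : G → ℂ) ∣ 7920 := by
    intro χ
    rw [← hc]
    exact charDegree_dvd_card χ.2
  have hdt : Cfsg.charDegree ((triv G : Cfsg.IrrCharacter G) : G → ℂ) = 1 := charDegree_triv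
  have hd1 : ∀ χ : Cfsg.IrrCharacter G, χ ≠ triv G → 1 < Cfsg.charDegree (χ : G → ℂ) :=
    fun χ hχ => one_lt_charDegree_of_perfect hperf χ hχ
  have hsum : ∑ χ : Cfsg.IrrCharacter G, Cfsg.charDegree (χ : G → ℂ) ^ 2 = 7920 := by
    rw [← hc]; exact sum_sq_charDegree
  -- a nonidentity element of `K`
  obtain ⟨k₀, hk₀K, hk₀1⟩ : ∃ k₀ : ↥(Subgroup.normalizer (K : Set G)), (k₀ : G) ∈ K ∧ k₀ ≠ 1 := by
    have h1 : 1 < Nat.card (K.subgroupOf (Subgroup.normalizer (K : Set G))) := by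
      rw [card_subgroupOf_normalizer]; omega
    haveI : Nontrivial (K.subgroupOf (Subgroup.normalizer (K : Set G))) :=
      (Finite.one_lt_card_iff_nontrivial).mp h1
    obtain ⟨k, hk⟩ := exists_ne (1 : K.subgroupOf (Subgroup.normalizer (K : Set G)))
    exact ⟨k.1, Subgroup.mem_subgroupOf.mp k.2, fun h => hk (Subtype.ext h)⟩
  have hk₀1' : (k₀ : G) ≠ 1 := fun h => hk₀1 (Subtype.ext h)
  have hdegC : ∀ χ : Cfsg.IrrCharacter G,
      (χ : G → ℂ) 1 = (Cfsg.charDegree (χ : G → ℂ) : ℂ) :=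
    fun χ => (charDegree_cast_of_isCharacter (IsIrrCharacter.isCharacter χ.2)).symm
  have hker : ∀ χ : Cfsg.IrrCharacter G, χ ≠ triv G →
      c χ ≠ (Cfsg.charDegree (χ : G → ℂ) : ℤ) := by
    intro χ hχ heq
    by_cases h0 : χ = Λ₀
    · rw [h0, hcΛ₀] at heq
      have := hd1 Λ₀ hΛ₀t
      omega
    by_cases h1 : χ = Λ₁
    · rw [h1, hcΛ₁] at heq
      have := hd1 Λ₁ hΛ₁t
      omega
    have h2 := (hnon χ h0 h1).1 k₀ hk₀K hk₀1
    apply apply_ne_degree_of_simple χ hχ (k₀ : G) hk₀1'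
    rw [h2, hdegC, heq]
    simp
  obtain ⟨hε1, i1, i2, i3, i4, hnd, hrest, hcases⟩ :=
    block11_arith (fun χ : Cfsg.IrrCharacter G => Cfsg.charDegree (χ : G → ℂ)) c ε (triv G) Λ₀ Λ₁
      hε hΛ01 hΛ₀t hΛ₁t hctriv hcΛ₀ hcΛ₁ hsq hdeg01 hlin (fun χ h0 h1 => (hnon χ h0 h1).2) hcongl
      hdvd hdt hd1 hsum hker
  subst hε1
  -- membership in the list
  have hmem : ∀ χ : Cfsg.IrrCharacter G, χ ∈ [triv G, Λ₀, Λ₁, i1, i2, i3, i4] ↔
      χ = triv G ∨ χ = Λ₀ ∨ χ = Λ₁ ∨ χ = i1 ∨ χ = i2 ∨ χ = i3 ∨ χ = i4 := by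
    intro χ; simp
  have hnd' := hnd
  simp only [List.nodup_cons, List.mem_cons, List.not_mem_nil, or_false, not_or,
    List.nodup_nil, and_true, not_false_eq_true] at hnd'
  obtain ⟨⟨-, -, ht1, ht2, ht3, ht4⟩, ⟨-, h01, h02, h03, h04⟩, ⟨h11, h12, h13, h14⟩, -⟩ := hnd'
  -- the relevant characters as functions on `G`
  set N : Subgroup G := Subgroup.normalizer (K : Set G) with hNdef
  have hKN : K ≤ N := Subgroup.le_normalizer
  set x : G → ℂ := ext0 N (η₀.1 : ↥N → ℂ) with hx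
  set y : G → ℂ := ext0 N (η₁.1 : ↥N → ℂ) with hy
  have hxk : ∀ k (hk : k ∈ K), x k = (η₀.1 : ↥N → ℂ) ⟨k, hKN hk⟩ := fun k hk =>
    ext0_apply N _ k (hKN hk)
  have hyk : ∀ k (hk : k ∈ K), y k = (η₁.1 : ↥N → ℂ) ⟨k, hKN hk⟩ := fun k hk =>
    ext0_apply N _ k (hKN hk)
  have hvalG : ∀ k ∈ K, k ≠ 1 → (Λ₀ : G → ℂ) k = x k ∧ (Λ₁ : G → ℂ) k = y k ∧
      x k + y k = -1 ∧ x k * conj (x k) + y k * conj (y k) = 6 := by
    intro k hk hk1
    have h := hval ⟨k, hKN hk⟩ hk (fun h => hk1 (by simpa using congrArg Subtype.val h))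
    rw [hxk k hk, hyk k hk]
    refine ⟨?_, ?_, h.2.2.1, h.2.2.2⟩
    · have := h.1; simpa using this
    · have := h.2.1; simpa using this
  have hnonG : ∀ χ : Cfsg.IrrCharacter G, χ ≠ Λ₀ → χ ≠ Λ₁ → ∀ k ∈ K, k ≠ 1 →
      (χ : G → ℂ) k = c χ := by
    intro χ h0 h1 k hk hk1
    exact (hnon χ h0 h1).1 ⟨k, hKN hk⟩ hk (fun h => hk1 (by simpa using congrArg Subtype.val h))
  have hrestG : ∀ χ : Cfsg.IrrCharacter G, χ ∉ [triv G, Λ₀, Λ₁, i1, i2, i3, i4] →
      (∀ k ∈ K, k ≠ 1 → (χ : G → ℂ) k = 0) ∧ 11 ∣ Cfsg.charDegree (χ : G → ℂ) := by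
    intro χ hχ
    have hc0 := hrest χ hχ
    rw [hmem] at hχ
    push Not at hχ
    refine ⟨fun k hk hk1 => by rw [hnonG χ hχ.2.1 hχ.2.2.1 k hk hk1, hc0]; simp, ?_⟩
    have := (hnon χ hχ.2.1 hχ.2.2.1).2
    rw [hc0, sub_zero] at this
    exact_mod_cast this
  have hfin : (Finset.univ : Finset (Rel K)) = {η₀, η₁} := by
    ext η
    simp only [Finset.mem_univ, Finset.mem_insert, Finset.mem_singleton, true_iff]
    exact hall η
  have hη1 : ∀ η : Rel K, (η.1 : ↥N → ℂ) 1 = 5 := by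
    intro η
    rw [(rel_data K D.hC D.hab _ η.1.2 η.2).2, he]
    norm_num
  -- vanishing of a character of degree `10` with value `-1`
  have hvan10 : ∀ χ : Cfsg.IrrCharacter G, χ ≠ Λ₀ → χ ≠ Λ₁ → c χ = -1 →
      Cfsg.charDegree (χ : G → ℂ) = 10 → ∀ g ∈ N, g ∉ K → (χ : G → ℂ) g = 0 := by
    intro χ h0 h1 hcχ hdχ g hgN hgK
    have h := res_vanish K D.hC D.hab (fun n : ↥N => (χ : G → ℂ) n)
      (IsCharacter.restrict N (IsIrrCharacter.isCharacter χ.2)) (fun _ => 1) (by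
        intro n hn
        rw [hfin, Finset.sum_pair hη01]
        by_cases hn1 : n = 1
        · rw [hn1, hη1, hη1]
          show (χ : G → ℂ) ((1 : ↥N) : G) = _
          rw [Subgroup.coe_one, hdegC, hdχ]
          norm_num
        · have h2 := hval n hn hn1
          show (χ : G → ℂ) (n : G) = _
          rw [hnonG χ h0 h1 (n : G) hn (fun h => hn1 (Subtype.ext h)), hcχ]
          push_cast
          linear_combination -h2.2.2.1) ⟨g, hgN⟩ hgK
    exact h
  rcases hcases with ⟨hd16, hdi1, hci1, hdi2, hci2, hdi3, hci3, hdi4, hci4⟩ |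
      ⟨hd5, hdi1, hci1, hdi2, hci2, hdi3, hci3, hdi4, hci4⟩
  · left
    refine ⟨⟨Λ₀, Λ₁, i1, i2, i3, i4, hnd, hd16, by rw [← hdeg01]; exact hd16, hdi1, hdi2, hdi3,
      hdi4, x, y, fun k hk hk1 => (hvalG k hk hk1).2.2.1, fun k hk hk1 => (hvalG k hk hk1).2.2.2,
      fun k hk hk1 => (hvalG k hk hk1).1, fun k hk hk1 => (hvalG k hk hk1).2.1, ?_, ?_, ?_, ?_,
      hrestG, ?_, ?_, ?_⟩⟩
    · intro k hk hk1
      rw [hnonG i1 (Ne.symm h01) (Ne.symm h11) k hk hk1, hci1]; simp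
    · intro k hk hk1
      rw [hnonG i2 (Ne.symm h02) (Ne.symm h12) k hk hk1, hci2]; simp
    · intro k hk hk1
      rw [hnonG i3 (Ne.symm h03) (Ne.symm h13) k hk hk1, hci3]; simp
    · intro k hk hk1
      rw [hnonG i4 (Ne.symm h04) (Ne.symm h14) k hk hk1, hci4]; simp
    · exact hvan10 i2 (Ne.symm h02) (Ne.symm h12) hci2 hdi2
    · exact hvan10 i3 (Ne.symm h03) (Ne.symm h13) hci3 hdi3
    · exact hvan10 i4 (Ne.symm h04) (Ne.symm h14) hci4 hdi4
  · right
    -- the exceptional characters restrict to the relevant characters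
    have hvanΛ₀ : ∀ g ∈ N, g ∉ K → (Λ₀ : G → ℂ) g = 0 := by
      intro g hgN hgK
      exact res_vanish K D.hC D.hab (fun n : ↥N => (Λ₀ : G → ℂ) n)
        (IsCharacter.restrict N (IsIrrCharacter.isCharacter Λ₀.2))
        (fun η => if η = η₀ then 1 else 0) (by
          intro n hn
          rw [hfin, Finset.sum_pair hη01, if_pos rfl, if_neg hη01.symm]
          by_cases hn1 : n = 1
          · rw [hn1, hη1]
            show (Λ₀ : G → ℂ) ((1 : ↥N) : G) = _
            rw [Subgroup.coe_one, hdegC, hd5]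
            norm_num
          · have h2 := hval n hn hn1
            show (Λ₀ : G → ℂ) (n : G) = _
            rw [h2.1]
            push_cast
            ring) ⟨g, hgN⟩ hgK
    have hvanΛ₁ : ∀ g ∈ N, g ∉ K → (Λ₁ : G → ℂ) g = 0 := by
      intro g hgN hgK
      exact res_vanish K D.hC D.hab (fun n : ↥N => (Λ₁ : G → ℂ) n)
        (IsCharacter.restrict N (IsIrrCharacter.isCharacter Λ₁.2))
        (fun η => if η = η₁ then 1 else 0) (by
          intro n hn
          rw [hfin, Finset.sum_pair hη01, if_neg hη01, if_pos rfl]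
          by_cases hn1 : n = 1
          · rw [hn1, hη1 η₁]
            show (Λ₁ : G → ℂ) ((1 : ↥N) : G) = _
            rw [Subgroup.coe_one, hdegC, ← hdeg01, hd5]
            norm_num
          · have h2 := hval n hn hn1
            show (Λ₁ : G → ℂ) (n : G) = _
            rw [h2.2.1]
            push_cast
            ring) ⟨g, hgN⟩ hgK
    refine ⟨⟨Λ₀, Λ₁, i1, i2, i3, i4, hnd, hd5, by rw [← hdeg01]; exact hd5, hdi1, hdi2, hdi3,
      hdi4, x, y, fun k hk hk1 => (hvalG k hk hk1).2.2.1, fun k hk hk1 => (hvalG k hk hk1).2.2.2,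
      fun k hk hk1 => (hvalG k hk hk1).1, fun k hk hk1 => (hvalG k hk hk1).2.1, ?_, ?_, ?_, ?_,
      hrestG, ?_, ?_, hvanΛ₀, hvanΛ₁⟩⟩
    · intro k hk hk1
      rw [hnonG i1 (Ne.symm h01) (Ne.symm h11) k hk hk1, hci1]; simp
    · intro k hk hk1
      rw [hnonG i2 (Ne.symm h02) (Ne.symm h12) k hk hk1, hci2]; simp
    · intro k hk hk1
      rw [hnonG i3 (Ne.symm h03) (Ne.symm h13) k hk hk1, hci3]; simp
    · intro k hk hk1
      rw [hnonG i4 (Ne.symm h04) (Ne.symm h14) k hk hk1, hci4]; simp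
    · exact hvan10 i3 (Ne.symm h03) (Ne.symm h13) hci3 hdi3
    · exact hvan10 i4 (Ne.symm h04) (Ne.symm h14) hci4 hdi4

end Cfsg.Agent.Helper2.M11
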