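import Mathlib

/-!
# Marggraf's theorem: flats (Jordan complements) and covers

`G` acts on a finite set `Ω` with `|Ω| = 2m+1`.  A *flat* is a subset `A` such that the pointwise
stabiliser of `A` is transitive on the complement of `A`.  Flats of small size are closed under
intersection.  We develop the calculus of covers `A ⋖ B` among small flats.
-/

set_option autoImplicit false
set_option linter.unusedSectionVars false

namespace Cfsg.Agent.Helper2.Marg

open MulAction
open scoped Pointwise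

/-- `A` is a flat (Jordan complement): the pointwise stabiliser of `A` is transitive on the
complement of `A`. -/
def IsFlat (G : Type*) {Ω : Type*} [Group G] [MulAction G Ω] (A : Finset Ω) : Prop :=
  ∀ x y : Ω, x ∉ A → y ∉ A → ∃ g : G, (∀ z ∈ A, g • z = z) ∧ g • x = y

variable {G Ω : Type*} [Group G] [MulAction G Ω] [Fintype Ω] [DecidableEq Ω]

theorem smul_finset_eq_of_fix {A : Finset Ω} {g : G} (h : ∀ z ∈ A, g • z = z) : g • A = A := by
  ext x
  rw [Finset.mem_smul_finset]
  constructor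
  · rintro ⟨y, hy, rfl⟩
    rw [h y hy]; exact hy
  · intro hx
    exact ⟨x, hx, h x hx⟩

theorem IsFlat.smul {A : Finset Ω} (h : IsFlat G A) (g : G) : IsFlat G (g • A) := by
  intro x y hx hy
  have hx' : g⁻¹ • x ∉ A := by rwa [Finset.inv_smul_mem_iff]
  have hy' : g⁻¹ • y ∉ A := by rwa [Finset.inv_smul_mem_iff]
  obtain ⟨k, hk, hkx⟩ := h _ _ hx' hy'
  refine ⟨g * k * g⁻¹, ?_, ?_⟩
  · intro z hz
    rw [Finset.mem_smul_finset] at hz
    obtain ⟨a, ha, rfl⟩ := hz
    rw [mul_smul, mul_smul, inv_smul_smul, hk a ha]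
  · rw [mul_smul, mul_smul, hkx, smul_inv_smul]

theorem IsFlat.inter {A B : Finset Ω} (hA : IsFlat G A) (hB : IsFlat G B) {z : Ω}
    (hzA : z ∉ A) (hzB : z ∉ B) : IsFlat G (A ∩ B) := by
  have key : ∀ x : Ω, x ∉ A ∩ B → ∃ g : G, (∀ w ∈ A ∩ B, g • w = w) ∧ g • x = z := by
    intro x hx
    rw [Finset.mem_inter, not_and_or] at hx
    rcases hx with hx | hx
    · obtain ⟨g, hg, hgx⟩ := hA x z hx hzA
      exact ⟨g, fun w hw => hg w (Finset.mem_inter.1 hw).1, hgx⟩
    · obtain ⟨g, hg, hgx⟩ := hB x z hx hzB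
      exact ⟨g, fun w hw => hg w (Finset.mem_inter.1 hw).2, hgx⟩
  intro x y hx hy
  obtain ⟨g₁, h₁, h₁x⟩ := key x hx
  obtain ⟨g₂, h₂, h₂y⟩ := key y hy
  refine ⟨g₂⁻¹ * g₁, ?_, ?_⟩
  · intro w hw
    rw [mul_smul, h₁ w hw, inv_smul_eq_iff, h₂ w hw]
  · rw [mul_smul, h₁x, inv_smul_eq_iff, h₂y]

theorem exists_notMem_of_card {A B : Finset Ω}
    (h : A.card + B.card < Fintype.card Ω + (A ∩ B).card) : ∃ z : Ω, z ∉ A ∧ z ∉ B := by
  have h1 := Finset.card_union_add_card_inter A B
  have h2 : (A ∪ B).card < Fintype.card Ω := by omega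
  by_contra hcon
  push Not at hcon
  have : A ∪ B = Finset.univ := by
    ext z
    simp only [Finset.mem_union, Finset.mem_univ, iff_true]
    by_cases hz : z ∈ A
    · exact Or.inl hz
    · exact Or.inr (hcon z hz)
  rw [this, Finset.card_univ] at h2
  omega

section boundary

variable (m : ℕ) (hn : Fintype.card Ω = 2 * m + 1)

include hn in
theorem IsFlat.inter_of_card {A B : Finset Ω} (hA : IsFlat G A) (hB : IsFlat G B)
    (h : A.card + B.card ≤ 2 * m + (A ∩ B).card) : IsFlat G (A ∩ B) := by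
  obtain ⟨z, hzA, hzB⟩ := exists_notMem_of_card (A := A) (B := B) (by omega)
  exact hA.inter hB hzA hzB

/-- `B` covers `A` among small flats. -/
structure Cov (G : Type*) {Ω : Type*} [Group G] [MulAction G Ω] (m : ℕ) (A B : Finset Ω) :
    Prop where
  flatA : IsFlat G A
  flatB : IsFlat G B
  sub : A ⊆ B
  ne : A ≠ B
  small : B.card ≤ m
  max : ∀ X : Finset Ω, IsFlat G X → A ⊆ X → X ⊆ B → X = A ∨ X = B

variable {m}

theorem Cov.card_lt {A B : Finset Ω} (h : Cov G m A B) : A.card < B.card :=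
  Finset.card_lt_card (Finset.ssubset_iff_subset_ne.2 ⟨h.sub, h.ne⟩)

theorem Cov.exists_mem {A B : Finset Ω} (h : Cov G m A B) : ∃ b ∈ B, b ∉ A := by
  by_contra hcon
  push Not at hcon
  exact h.ne (Finset.Subset.antisymm h.sub hcon)

theorem Cov.smul {A B : Finset Ω} (h : Cov G m A B) (g : G) : Cov G m (g • A) (g • B) where
  flatA := h.flatA.smul g
  flatB := h.flatB.smul g
  sub := Finset.smul_finset_subset_smul_finset_iff.2 h.sub
  ne := fun he => h.ne (smul_left_cancel g he)
  small := by rw [Finset.card_smul_finset]; exact h.small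
  max := by
    intro X hX h1 h2
    have h1' : A ⊆ g⁻¹ • X := by rwa [← Finset.smul_finset_subset_iff]
    have h2' : g⁻¹ • X ⊆ B := by rwa [← Finset.subset_smul_finset_iff]
    rcases h.max _ (hX.smul g⁻¹) h1' h2' with h3 | h3
    · left; rw [← h3, smul_inv_smul]
    · right; rw [← h3, smul_inv_smul]

include hn in
/-- Two distinct covers of `A` meet exactly in `A`. -/
theorem Cov.inter_eq {A B₁ B₂ : Finset Ω} (h1 : Cov G m A B₁) (h2 : Cov G m A B₂)
    (hne : B₁ ≠ B₂) : B₁ ∩ B₂ = A := by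
  have hfl : IsFlat G (B₁ ∩ B₂) :=
    IsFlat.inter_of_card m hn h1.flatB h2.flatB (by have := h1.small; have := h2.small; omega)
  have hsub : A ⊆ B₁ ∩ B₂ := Finset.subset_inter h1.sub h2.sub
  rcases h1.max _ hfl hsub Finset.inter_subset_left with h | h
  · exact h
  · exfalso
    have h12 : B₁ ⊆ B₂ := by rw [← h]; exact Finset.inter_subset_right
    rcases h2.max _ h1.flatB h1.sub h12 with h' | h'
    · exact h1.ne h'.symm
    · exact hne h'

include hn in
/-- A cover `B` of `A` which shares with a flat `X ⊇ A` a point outside `A` is contained in `X`. -/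
theorem Cov.subset_of_mem {A B X : Finset Ω} (h : Cov G m A B) (hX : IsFlat G X) (hAX : A ⊆ X)
    (hXc : X.card ≤ m + 1) {x : Ω} (hxB : x ∈ B) (hxX : x ∈ X) (hxA : x ∉ A) : B ⊆ X := by
  have hpos : 1 ≤ (B ∩ X).card :=
    Finset.card_pos.2 ⟨x, Finset.mem_inter.2 ⟨hxB, hxX⟩⟩
  have hfl : IsFlat G (B ∩ X) :=
    IsFlat.inter_of_card m hn h.flatB hX (by have := h.small; omega)
  rcases h.max _ hfl (Finset.subset_inter h.sub hAX) Finset.inter_subset_left with h' | h'
  · exfalso
    apply hxA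
    rw [← h']
    exact Finset.mem_inter.2 ⟨hxB, hxX⟩
  · rw [← h']; exact Finset.inter_subset_right

/-- Through every point outside `A` there is a cover of `A` which is a translate of `B`. -/
theorem Cov.exists_through {A B : Finset Ω} (h : Cov G m A B) {x : Ω} (hx : x ∉ A) :
    ∃ g : G, (∀ z ∈ A, g • z = z) ∧ x ∈ g • B ∧ Cov G m A (g • B) := by
  obtain ⟨b, hbB, hbA⟩ := h.exists_mem
  obtain ⟨g, hg, hgb⟩ := h.flatA b x hbA hx
  refine ⟨g, hg, ?_, ?_⟩
  · rw [← hgb]; exact Finset.smul_mem_smul_finset hbB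
  · have := h.smul g
    rwa [smul_finset_eq_of_fix hg] at this

include hn in
/-- Any two covers of `A` are translates of each other under the pointwise stabiliser of `A`. -/
theorem Cov.exists_smul_eq {A B₁ B₂ : Finset Ω} (h1 : Cov G m A B₁) (h2 : Cov G m A B₂) :
    ∃ g : G, (∀ z ∈ A, g • z = z) ∧ g • B₁ = B₂ := by
  obtain ⟨x, hxB, hxA⟩ := h2.exists_mem
  obtain ⟨g, hg, hxg, hcov⟩ := h1.exists_through hxA
  refine ⟨g, hg, ?_⟩
  by_contra hne
  have := Cov.inter_eq hn hcov h2 hne
  apply hxA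
  rw [← this]
  exact Finset.mem_inter.2 ⟨hxg, hxB⟩

include hn in
theorem Cov.card_eq {A B₁ B₂ : Finset Ω} (h1 : Cov G m A B₁) (h2 : Cov G m A B₂) :
    B₁.card = B₂.card := by
  obtain ⟨g, _, hg⟩ := Cov.exists_smul_eq hn h1 h2
  rw [← hg, Finset.card_smul_finset]

include hn in
/-- If `A' ⋖ A ⋖ B` and `A₁` is another cover of `A'` inside `B`, then `B` covers `A₁`. -/
theorem Cov.cov_of_sub {A' A A₁ B : Finset Ω} (h' : Cov G m A' A) (h : Cov G m A B)
    (h₁ : Cov G m A' A₁) (hsub : A₁ ⊆ B) : Cov G m A₁ B := by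
  obtain ⟨g, hg, hgA⟩ := Cov.exists_smul_eq hn h' h₁
  have hcov : Cov G m A₁ (g • B) := by
    have := h.smul g
    rwa [hgA] at this
  have hcard : A₁.card < B.card := by
    rw [← Cov.card_eq hn h' h₁]; exact h.card_lt
  obtain ⟨b, hbB, hbA₁⟩ : ∃ b ∈ B, b ∉ A₁ := by
    by_contra hcon
    push Not at hcon
    have := Finset.card_le_card hcon
    omega
  obtain ⟨k, hk, hbk, hcov'⟩ := hcov.exists_through hbA₁
  have hsub' : k • g • B ⊆ B :=
    Cov.subset_of_mem hn hcov' h.flatB hsub (by have := h.small; omega) hbk hbB hbA₁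
  have heq : k • g • B = B := by
    apply Finset.eq_of_subset_of_card_le hsub'
    rw [Finset.card_smul_finset, Finset.card_smul_finset]
  rwa [heq] at hcov'

end boundary

end Cfsg.Agent.Helper2.Marg
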