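import Mathlib
import Cfsg.Agent.Helper2.MargFlat

/-!
# Marggraf's theorem: the no-repeat lemma for chains of covers
-/

set_option autoImplicit false
set_option linter.unusedSectionVars false

namespace Cfsg.Agent.Helper2.Marg

open MulAction
open scoped Pointwise

variable {G Ω : Type*} [Group G] [MulAction G Ω] [Fintype Ω] [DecidableEq Ω]
variable {m : ℕ} (hn : Fintype.card Ω = 2 * m + 1)

include hn in
/-- Every non-empty small flat covers some flat. -/
theorem exists_cov_below (htr : IsFlat G (∅ : Finset Ω)) {A : Finset Ω} (hA : IsFlat G A)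
    (hAne : A.Nonempty) (hAs : A.card ≤ m) : ∃ A' : Finset Ω, Cov G m A' A := by
  classical
  let S : Finset (Finset Ω) := A.powerset.filter (fun X => IsFlat G X ∧ X ≠ A)
  have hS : S.Nonempty := by
    refine ⟨∅, ?_⟩
    simp only [S, Finset.mem_filter, Finset.mem_powerset, Finset.empty_subset, true_and]
    exact ⟨htr, fun h => hAne.ne_empty h.symm⟩
  obtain ⟨A', hA'S, hmax⟩ := Finset.exists_max_image S Finset.card hS
  simp only [S, Finset.mem_filter, Finset.mem_powerset] at hA'S
  obtain ⟨hsub, hfl, hne⟩ := hA'S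
  refine ⟨A', hfl, hA, hsub, hne, hAs, ?_⟩
  intro X hX h1 h2
  by_cases hXA : X = A
  · exact Or.inr hXA
  · left
    have hXS : X ∈ S := by
      simp only [S, Finset.mem_filter, Finset.mem_powerset]
      exact ⟨h2, hX, hXA⟩
    exact (Finset.eq_of_subset_of_card_le h1 (hmax X hXS)).symm

include hn in
/-- A cover of the empty flat in a primitive group is a singleton. -/
theorem Cov.card_eq_one_of_empty (hprim : IsPreprimitive G Ω) {B : Finset Ω}
    (h : Cov G m ∅ B) : B.card = 1 := by
  have hblock : IsBlock G (B : Set Ω) := by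
    rw [isBlock_iff_smul_eq_or_disjoint]
    intro g
    by_cases hg : g • B = B
    · left
      rw [← Finset.coe_smul_finset, hg]
    · right
      have hc := h.smul g
      rw [Finset.smul_finset_empty] at hc
      have := Cov.inter_eq hn hc h hg
      rw [← Finset.coe_smul_finset]
      exact Finset.disjoint_coe.2 (Finset.disjoint_iff_inter_eq_empty.2 this)
  have hBne : B.Nonempty := Finset.nonempty_iff_ne_empty.2 (fun he => h.ne he.symm)
  rcases hprim.isTrivialBlock_of_isBlock hblock with hsub | huniv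
  · obtain ⟨b, hb⟩ := hBne
    rw [Finset.card_eq_one]
    refine ⟨b, ?_⟩
    ext x
    simp only [Finset.mem_singleton]
    constructor
    · intro hx
      exact hsub (Finset.mem_coe.2 hx) (Finset.mem_coe.2 hb)
    · rintro rfl; exact hb
  · exfalso
    have : B = Finset.univ := by
      rw [← Finset.coe_inj, huniv, Finset.coe_univ]
    have hc := h.small
    rw [this, Finset.card_univ, hn] at hc
    omega

include hn in
/-- The no-repeat lemma: in a chain `A' ⋖ A ⋖ B ⊂ C` with `|C \ B| = |B \ A|` we have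
`|A \ A'| = |B \ A|`. -/
theorem no_repeat {A' A B C : Finset Ω} (h' : Cov G m A' A) (h : Cov G m A B)
    (hC : IsFlat G C) (hBC : B ⊆ C) (hCc : C.card ≤ m + 1)
    (heq : (C \ B).card = (B \ A).card) : (A \ A').card = (B \ A).card := by
  have hBs := h.small
  have hAs : A.card ≤ m := le_trans (Finset.card_le_card h.sub) hBs
  have hA'B : A' ⊆ B := h'.sub.trans h.sub
  have heB : (B \ A).card = B.card - A.card := Finset.card_sdiff_of_subset h.sub
  have hlt := h.card_lt
  have hlt' := h'.card_lt
  -- points `q ∈ B \ A` and `p ∈ C \ B`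
  obtain ⟨q, hqB, hqA⟩ := h.exists_mem
  have hCBne : (C \ B).Nonempty := by
    rw [← Finset.card_pos, heq, heB]; omega
  obtain ⟨p, hp⟩ := hCBne
  rw [Finset.mem_sdiff] at hp
  obtain ⟨hpC, hpB⟩ := hp
  have hqA' : q ∉ A' := fun hq => hqA (h'.sub hq)
  have hpA' : p ∉ A' := fun hp' => hpB (hA'B hp')
  have hpA : p ∉ A := fun hp' => hpB (h.sub hp')
  -- the cover `Aq` of `A'` through `q`
  obtain ⟨gq, _, hqAq, hcq⟩ := h'.exists_through hqA'
  set Aq := gq • A with hAq
  have hAqB : Aq ⊆ B :=
    Cov.subset_of_mem hn hcq h.flatB hA'B (by omega) hqAq hqB hqA'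
  have hAqA : Aq ∩ A = A' := by
    apply Cov.inter_eq hn hcq h'
    intro he; apply hqA; rw [← he]; exact hqAq
  have hAqcard : Aq.card = A.card := Cov.card_eq hn hcq h'
  -- the cover `Ap` of `A'` through `p`
  obtain ⟨gp, _, hpAp, hcp⟩ := h'.exists_through hpA'
  set Ap := gp • A with hAp
  have hApcard : Ap.card = A.card := Cov.card_eq hn hcp h'
  have hApC : Ap ⊆ C :=
    Cov.subset_of_mem hn hcp hC (hA'B.trans hBC) hCc hpAp hpC hpA'
  have hApB : Ap ∩ B = A' := by
    have hfl : IsFlat G (Ap ∩ B) :=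
      IsFlat.inter_of_card m hn hcp.flatB h.flatB (by have := hcp.small; omega)
    rcases hcp.max _ hfl (Finset.subset_inter hcp.sub hA'B) Finset.inter_subset_left with h1 | h1
    · exact h1
    · exfalso
      apply hpB
      have : p ∈ Ap ∩ B := by rw [h1]; exact hpAp
      exact (Finset.mem_inter.1 this).2
  -- `B` covers `Aq`; the cover `L` of `Aq` through `p`
  have hcqB : Cov G m Aq B := Cov.cov_of_sub hn h' h hcq hAqB
  have hpAq : p ∉ Aq := fun hp' => hpB (hAqB hp')
  obtain ⟨k, _, hpL, hcL⟩ := hcqB.exists_through hpAq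
  set L := k • B with hL
  have hLcard : L.card = B.card := Finset.card_smul_finset k B
  have hLC : L ⊆ C :=
    Cov.subset_of_mem hn hcL hC (hAqB.trans hBC) hCc hpL hpC hpAq
  have hLB : L ∩ B = Aq := by
    apply Cov.inter_eq hn hcL hcqB
    intro he; apply hpB; rw [← he]; exact hpL
  have hLsd : L \ Aq = C \ B := by
    apply Finset.eq_of_subset_of_card_le
    · intro x hx
      rw [Finset.mem_sdiff] at hx ⊢
      refine ⟨hLC hx.1, fun hxB => hx.2 ?_⟩
      rw [← hLB]; exact Finset.mem_inter.2 ⟨hx.1, hxB⟩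
    · rw [heq, heB, Finset.card_sdiff_of_subset hcL.sub, hLcard, hAqcard]
  -- the cover `B'` of `A` through `p`
  obtain ⟨k', _, hpB', hcB'⟩ := h.exists_through hpA
  set B' := k' • B with hB'
  have hB'card : B'.card = B.card := Finset.card_smul_finset k' B
  have hB'C : B' ⊆ C :=
    Cov.subset_of_mem hn hcB' hC (h.sub.trans hBC) hCc hpB' hpC hpA
  have hB'B : B' ∩ B = A := by
    apply Cov.inter_eq hn hcB' h
    intro he; apply hpB; rw [← he]; exact hpB'
  have hB'sd : B' \ A = C \ B := by
    apply Finset.eq_of_subset_of_card_le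
    · intro x hx
      rw [Finset.mem_sdiff] at hx ⊢
      refine ⟨hB'C hx.1, fun hxB => hx.2 ?_⟩
      rw [← hB'B]; exact Finset.mem_inter.2 ⟨hx.1, hxB⟩
    · rw [heq, heB, Finset.card_sdiff_of_subset hcB'.sub, hB'card]
  have hApB' : Ap ⊆ B' :=
    Cov.subset_of_mem hn hcp hcB'.flatB (h'.sub.trans hcB'.sub)
      (by have := hcB'.small; omega) hpAp hpB' hpA'
  have hcpB' : Cov G m Ap B' := Cov.cov_of_sub hn h' hcB' hcp hApB'
  -- the cover `L'` of `Ap` through `q`
  have hqAp : q ∉ Ap := by
    intro hq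
    apply hqA'
    rw [← hApB]; exact Finset.mem_inter.2 ⟨hq, hqB⟩
  have hqB' : q ∉ B' := by
    intro hq
    apply hqA
    rw [← hB'B]; exact Finset.mem_inter.2 ⟨hq, hqB⟩
  obtain ⟨k'', _, hqL', hcL'⟩ := hcpB'.exists_through hqAp
  set L' := k'' • B' with hL'
  have hL'card : L'.card = B.card := by rw [hL', Finset.card_smul_finset, hB'card]
  have hL'C : L' ⊆ C :=
    Cov.subset_of_mem hn hcL' hC hApC hCc hqL' (hBC hqB) hqAp
  have hL'B' : L' ∩ B' = Ap := by
    apply Cov.inter_eq hn hcL' hcpB'
    intro he; apply hqB'; rw [← he]; exact hqL'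
  -- `C \ B' = B \ A`
  have hCB' : C \ B' = B \ A := by
    ext x
    simp only [Finset.mem_sdiff]
    constructor
    · rintro ⟨hxC, hxB'⟩
      have hxB : x ∈ B := by
        by_contra hxB
        apply hxB'
        have : x ∈ C \ B := Finset.mem_sdiff.2 ⟨hxC, hxB⟩
        rw [← hB'sd] at this
        exact (Finset.mem_sdiff.1 this).1
      exact ⟨hxB, fun hxA => hxB' (hcB'.sub hxA)⟩
    · rintro ⟨hxB, hxA⟩
      refine ⟨hBC hxB, fun hxB' => hxA ?_⟩
      rw [← hB'B]; exact Finset.mem_inter.2 ⟨hxB', hxB⟩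
  have hL'sd : L' \ Ap = B \ A := by
    rw [← hCB']
    apply Finset.eq_of_subset_of_card_le
    · intro x hx
      rw [Finset.mem_sdiff] at hx ⊢
      refine ⟨hL'C hx.1, fun hxB' => hx.2 ?_⟩
      rw [← hL'B']; exact Finset.mem_inter.2 ⟨hx.1, hxB'⟩
    · rw [hCB', heB, Finset.card_sdiff_of_subset hcL'.sub, hL'card, hApcard]
  -- `Aq ⊆ L'`
  have hAqsd : Aq \ A' ⊆ B \ A := by
    intro x hx
    rw [Finset.mem_sdiff] at hx ⊢
    refine ⟨hAqB hx.1, fun hxA => hx.2 ?_⟩
    rw [← hAqA]; exact Finset.mem_inter.2 ⟨hx.1, hxA⟩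
  have hAqL' : Aq ⊆ L' := by
    intro x hx
    by_cases hxA' : x ∈ A'
    · exact hcL'.sub (hcp.sub hxA')
    · have : x ∈ L' \ Ap := by
        rw [hL'sd]; exact hAqsd (Finset.mem_sdiff.2 ⟨hx, hxA'⟩)
      exact (Finset.mem_sdiff.1 this).1
  -- `L ⊆ L'`
  have hLL' : L ⊆ L' := by
    have hfl : IsFlat G (L ∩ L') :=
      IsFlat.inter_of_card m hn hcL.flatB hcL'.flatB
        (by have := hcL.small; have := hcL'.small; omega)
    rcases hcL.max _ hfl (Finset.subset_inter hcL.sub hAqL') Finset.inter_subset_left with h1 | h1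
    · exfalso
      apply hpAq
      rw [← h1]
      exact Finset.mem_inter.2 ⟨hpL, hcL'.sub hpAp⟩
    · rw [← h1]; exact Finset.inter_subset_right
  -- conclusion
  have h1 : (A \ A').card ≤ (B \ A).card := by
    have := Finset.card_le_card hAqsd
    rwa [Finset.card_sdiff_of_subset hcq.sub, hAqcard,
      ← Finset.card_sdiff_of_subset h'.sub] at this
  have h2 : (B \ A).card ≤ (A \ A').card := by
    have hsub : C \ B ⊆ Ap \ A' := by
      intro x hx
      have hxL : x ∈ L := by
        rw [← hLsd] at hx; exact (Finset.mem_sdiff.1 hx).1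
      have hxL' := hLL' hxL
      rw [Finset.mem_sdiff] at hx ⊢
      have hxAp : x ∈ Ap := by
        by_contra hxAp
        have : x ∈ L' \ Ap := Finset.mem_sdiff.2 ⟨hxL', hxAp⟩
        rw [hL'sd] at this
        exact hx.2 (Finset.mem_sdiff.1 this).1
      exact ⟨hxAp, fun hxA' => hx.2 (hA'B hxA')⟩
    have := Finset.card_le_card hsub
    rwa [heq, Finset.card_sdiff_of_subset hcp.sub, hApcard,
      ← Finset.card_sdiff_of_subset h'.sub] at this
  omega

include hn in
/-- Descent: consecutive equal differences force the difference to be `1`. -/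
theorem diff_eq_one (hprim : IsPreprimitive G Ω) (htr : IsFlat G (∅ : Finset Ω)) :
    ∀ (N : ℕ) {A B C : Finset Ω}, B.card ≤ N → Cov G m A B → IsFlat G C → B ⊆ C →
      C.card ≤ m + 1 → (C \ B).card = (B \ A).card → (B \ A).card = 1 := by
  intro N
  induction N with
  | zero =>
    intro A B C hBN h _ _ _ _
    have := h.card_lt
    omega
  | succ N ih =>
    intro A B C hBN h hC hBC hCc heq
    rcases Finset.eq_empty_or_nonempty A with rfl | hAne
    · rw [Finset.sdiff_empty]
      exact Cov.card_eq_one_of_empty hn hprim h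
    · have hlt := h.card_lt
      have hBs := h.small
      obtain ⟨A', h'⟩ := exists_cov_below hn htr h.flatA hAne (by omega)
      have hnr := no_repeat hn h' h hC hBC hCc heq
      have := ih (A := A') (B := A) (C := B) (by omega) h' h.flatB h.sub (by omega) hnr.symm
      omega

end Cfsg.Agent.Helper2.Marg
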