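import Mathlib
import Cfsg.Agent.Helper2.MargFlat
import Cfsg.Agent.Lead.PermJordan

/-!
# Marggraf's theorem: Tits' inequality and multiple transitivity
-/

set_option autoImplicit false
set_option linter.unusedSectionVars false

namespace Cfsg.Agent.Helper2.Marg

open MulAction SubMulAction
open scoped Pointwise

variable {G Ω : Type*} [Group G] [MulAction G Ω] [Fintype Ω] [DecidableEq Ω]

/-- A `k`-transitive group is transitive on `k`-subsets. -/
theorem exists_smul_finset_eq {k : ℕ} (hk : IsMultiplyPretransitive G Ω k) {S T : Finset Ω}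
    (hS : S.card = k) (hT : T.card = k) : ∃ g : G, g • S = T := by
  let eS : S ≃ Fin k := S.equivFinOfCardEq hS
  let eT : T ≃ Fin k := T.equivFinOfCardEq hT
  let x : Fin k ↪ Ω := eS.symm.toEmbedding.trans (Function.Embedding.subtype _)
  let y : Fin k ↪ Ω := eT.symm.toEmbedding.trans (Function.Embedding.subtype _)
  obtain ⟨g, hg⟩ := hk.exists_smul_eq x y
  refine ⟨g, ?_⟩
  apply Finset.eq_of_subset_of_card_le
  · intro z hz
    rw [Finset.mem_smul_finset] at hz
    obtain ⟨s, hs, rfl⟩ := hz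
    have h1 : x (eS ⟨s, hs⟩) = s := by simp [x]
    have h2 : g • x (eS ⟨s, hs⟩) = y (eS ⟨s, hs⟩) := by
      rw [← hg]; rfl
    rw [← h1, h2]
    simp [y]
  · rw [Finset.card_smul_finset, hS, hT]

/-- Tits' inequality, in the form needed here. -/
theorem tits_bound {k e : ℕ} (hk : IsMultiplyPretransitive G Ω (k + 1)) {B C T0 : Finset Ω} {y : Ω}
    (hBcard : B.card = k + e) (hT0 : T0 ⊆ B) (hT0card : T0.card = k + 1)
    (hyC : y ∈ C) (hyB : y ∉ B) (hBC : B ⊆ C)
    (H1 : ∀ g g' : G, g • B ≠ g' • B → (g • B ∩ g' • B).card ≤ k)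
    (H2 : ∀ g : G, k + 1 ≤ (g • B ∩ C).card → g • B ⊆ C) : (k + 2) * e ≤ C.card := by
  classical
  have hyT0 : y ∉ T0 := fun h => hyB (hT0 h)
  have he : 1 ≤ e := by
    have := Finset.card_le_card hT0
    omega
  set T := insert y T0 with hT
  have hTcard : T.card = k + 2 := by rw [hT, Finset.card_insert_of_notMem hyT0, hT0card]
  have hTC : T ⊆ C := by
    intro x hx
    rw [hT, Finset.mem_insert] at hx
    rcases hx with rfl | hx
    · exact hyC
    · exact hBC (hT0 hx)
  have hex : ∀ z ∈ T, ∃ g : G, g • T0 = T.erase z := by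
    intro z hz
    apply exists_smul_finset_eq hk hT0card
    rw [Finset.card_erase_of_mem hz, hTcard]; rfl
  choose! gz hgz using hex
  -- (a)
  have ha : ∀ z ∈ T, T.erase z ⊆ gz z • B := by
    intro z hz
    rw [← hgz z hz]
    exact Finset.smul_finset_subset_smul_finset_iff.2 hT0
  -- (c)
  have hc : ∀ z ∈ T, z ∉ gz z • B := by
    intro z hz hzB
    have hTsub : T ⊆ gz z • B := by
      intro x hx
      by_cases hxz : x = z
      · rw [hxz]; exact hzB
      · exact ha z hz (Finset.mem_erase.2 ⟨hxz, hx⟩)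
    have h1 : gz z • B = (1 : G) • B := by
      by_contra hne
      have h2 := H1 _ _ hne
      rw [one_smul] at h2
      have h3 : T0 ⊆ gz z • B ∩ B := by
        intro x hx
        exact Finset.mem_inter.2 ⟨hTsub (Finset.mem_insert_of_mem hx), hT0 hx⟩
      have := Finset.card_le_card h3
      omega
    rw [one_smul] at h1
    apply hyB
    rw [← h1]
    exact hTsub (Finset.mem_insert_self _ _)
  -- (b)
  have hb : ∀ z ∈ T, gz z • B ⊆ C := by
    intro z hz
    apply H2
    have h1 : T.erase z ⊆ gz z • B ∩ C := by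
      intro x hx
      exact Finset.mem_inter.2 ⟨ha z hz hx, hTC (Finset.mem_of_mem_erase hx)⟩
    have := Finset.card_le_card h1
    rw [Finset.card_erase_of_mem hz, hTcard] at this
    omega
  -- (e)
  have hinterT : ∀ z ∈ T, gz z • B ∩ T = T.erase z := by
    intro z hz
    ext x
    rw [Finset.mem_inter, Finset.mem_erase]
    constructor
    · rintro ⟨hxB, hxT⟩
      refine ⟨fun hxz => hc z hz (hxz ▸ hxB), hxT⟩
    · rintro ⟨hxz, hxT⟩
      exact ⟨ha z hz (Finset.mem_erase.2 ⟨hxz, hxT⟩), hxT⟩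
  have hcard : ∀ z ∈ T, (gz z • B \ T).card = e - 1 := by
    intro z hz
    have h1 := Finset.card_sdiff_add_card_inter (gz z • B) T
    rw [hinterT z hz, Finset.card_erase_of_mem hz, hTcard, Finset.card_smul_finset, hBcard] at h1
    omega
  -- (d)
  have hdisj : ∀ z ∈ T, ∀ z' ∈ T, z ≠ z' → Disjoint (gz z • B \ T) (gz z' • B \ T) := by
    intro z hz z' hz' hzz'
    have hne : gz z • B ≠ gz z' • B := by
      intro heq
      apply hc z' hz'
      rw [← heq]
      exact ha z hz (Finset.mem_erase.2 ⟨fun h => hzz' h.symm, hz'⟩)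
    have h1 := H1 _ _ hne
    have h2 : (T.erase z).erase z' ⊆ gz z • B ∩ gz z' • B := by
      intro x hx
      rw [Finset.mem_erase, Finset.mem_erase] at hx
      obtain ⟨hxz', hxz, hxT⟩ := hx
      exact Finset.mem_inter.2 ⟨ha z hz (Finset.mem_erase.2 ⟨hxz, hxT⟩),
        ha z' hz' (Finset.mem_erase.2 ⟨hxz', hxT⟩)⟩
    have h3 : ((T.erase z).erase z').card = k := by
      rw [Finset.card_erase_of_mem (Finset.mem_erase.2 ⟨fun h => hzz' h.symm, hz'⟩),
        Finset.card_erase_of_mem hz, hTcard]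
      rfl
    have h4 : (T.erase z).erase z' = gz z • B ∩ gz z' • B :=
      Finset.eq_of_subset_of_card_le h2 (by omega)
    rw [Finset.disjoint_left]
    intro x hx hx'
    rw [Finset.mem_sdiff] at hx hx'
    have : x ∈ (T.erase z).erase z' := by
      rw [h4]; exact Finset.mem_inter.2 ⟨hx.1, hx'.1⟩
    exact hx.2 (Finset.mem_of_mem_erase (Finset.mem_of_mem_erase this))
  -- (f)
  set U := T.biUnion (fun z => gz z • B \ T) with hU
  have hUcard : U.card = (k + 2) * (e - 1) := by
    rw [hU, Finset.card_biUnion]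
    · rw [Finset.sum_congr rfl hcard, Finset.sum_const, hTcard, smul_eq_mul]
    · intro z hz z' hz' hzz'
      exact hdisj z hz z' hz' hzz'
  have hUC : U ⊆ C \ T := by
    intro x hx
    rw [hU, Finset.mem_biUnion] at hx
    obtain ⟨z, hz, hxz⟩ := hx
    rw [Finset.mem_sdiff] at hxz ⊢
    exact ⟨hb z hz hxz.1, hxz.2⟩
  have h1 := Finset.card_le_card hUC
  rw [Finset.card_sdiff_of_subset hTC, hUcard, hTcard] at h1
  have h2 := Finset.card_le_card hTC
  rw [hTcard] at h2
  obtain ⟨e', rfl⟩ : ∃ e', e = e' + 1 := ⟨e - 1, by omega⟩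
  simp only [Nat.add_sub_cancel] at h1
  have : (k + 2) * (e' + 1) = (k + 2) * e' + (k + 2) := by ring
  omega

section jordan

variable [Finite G]

/-- Jordan: a primitive group whose pointwise stabiliser of an `r`-set is 2-transitive on the
complement is `(r+2)`-transitive. -/
theorem jordan_two' (hG : IsPreprimitive G Ω) (s : Set Ω) {r : ℕ} (hsr : s.ncard = r)
    (hr : r + 2 ≤ Fintype.card Ω)
    (h2 : IsMultiplyPretransitive (fixingSubgroup G s) (ofFixingSubgroup G s) 2) :
    IsMultiplyPretransitive G Ω (r + 2) := by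
  have hmt : IsMultiplyPretransitive G Ω r := by
    rcases Nat.eq_zero_or_pos r with rfl | hpos
    · exact MulAction.is_zero_pretransitive
    · obtain ⟨n, rfl⟩ := Nat.exists_eq_add_of_le' hpos
      have hprim := isPreprimitive_of_is_two_pretransitive h2
      have h3 : IsMultiplyPreprimitive G Ω (n + 2) :=
        hG.isMultiplyPreprimitive hsr (by rw [Nat.card_eq_fintype_card]; omega) hprim
      have h4 : IsMultiplyPretransitive G Ω (n + 2) := inferInstance
      exact isMultiplyPretransitive_of_le (n := n + 2) (by omega)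
        (by rw [Nat.card_eq_fintype_card]; omega)
  exact Cfsg.Agent.Lead.PJ.isMultiplyPretransitive_add_of_fixingSubgroup s hsr hmt h2

omit [Fintype Ω] [Finite G] in
/-- If `A'` and `A' ∪ {a}` are flats then the pointwise stabiliser of `A'` is 2-transitive on
the complement of `A'`. -/
theorem two_trans_of_flat_pair {A' : Finset Ω} {a : Ω} (ha : a ∉ A') (h1 : IsFlat G A')
    (h2 : IsFlat G (insert a A')) :
    IsMultiplyPretransitive (fixingSubgroup G (A' : Set Ω))
      (ofFixingSubgroup G (A' : Set Ω)) 2 := by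
  rw [is_two_pretransitive_iff]
  intro x₁ x₂ y₁ y₂ hx hy
  have hmem : ∀ z : ofFixingSubgroup G (A' : Set Ω), (z : Ω) ∉ A' := by
    intro z
    have := z.2
    rw [mem_ofFixingSubgroup_iff] at this
    simpa using this
  have hfixinv : ∀ g : G, (∀ z ∈ A', g • z = z) → ∀ w : Ω, w ∉ A' → g • w ∉ A' := by
    intro g hg w hw hgw
    apply hw
    have := hg _ hgw
    have h3 : g • w = w := by
      have : g • (g • w) = g • w := this
      exact (MulAction.injective g this)
    rw [← h3]; exact hgw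
  obtain ⟨g₁, hg₁, hg₁x⟩ := h1 x₁ a (hmem x₁) ha
  obtain ⟨g₂, hg₂, hg₂y⟩ := h1 y₁ a (hmem y₁) ha
  have hx2 : g₁ • (x₂ : Ω) ∉ insert a A' := by
    rw [Finset.mem_insert, not_or]
    refine ⟨?_, hfixinv g₁ hg₁ _ (hmem x₂)⟩
    rw [← hg₁x]
    intro h
    exact hx (Subtype.ext (MulAction.injective g₁ h)).symm
  have hy2 : g₂ • (y₂ : Ω) ∉ insert a A' := by
    rw [Finset.mem_insert, not_or]
    refine ⟨?_, hfixinv g₂ hg₂ _ (hmem y₂)⟩
    rw [← hg₂y]
    intro h
    exact hy (Subtype.ext (MulAction.injective g₂ h)).symm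
  obtain ⟨k, hk, hkx⟩ := h2 _ _ hx2 hy2
  have hka : k • a = a := hk a (Finset.mem_insert_self _ _)
  have hkA : ∀ z ∈ A', k • z = z := fun z hz => hk z (Finset.mem_insert_of_mem hz)
  have hmemfix : g₂⁻¹ * k * g₁ ∈ fixingSubgroup G (A' : Set Ω) := by
    rw [mem_fixingSubgroup_iff]
    intro z hz
    have hz' : z ∈ A' := Finset.mem_coe.1 hz
    rw [mul_smul, mul_smul, hg₁ z hz', hkA z hz', inv_smul_eq_iff, hg₂ z hz']
  refine ⟨⟨g₂⁻¹ * k * g₁, hmemfix⟩, ?_, ?_⟩
  · apply Subtype.ext
    show (g₂⁻¹ * k * g₁) • (x₁ : Ω) = y₁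
    rw [mul_smul, mul_smul, hg₁x, hka, inv_smul_eq_iff, hg₂y]
  · apply Subtype.ext
    show (g₂⁻¹ * k * g₁) • (x₂ : Ω) = y₂
    rw [mul_smul, mul_smul, hkx, inv_smul_smul]

/-- If `A'` and `A' ∪ {a}` are flats of a primitive group, the group is `(|A'|+2)`-transitive. -/
theorem multiply_trans_of_flat_pair (hG : IsPreprimitive G Ω) {A' : Finset Ω} {a : Ω}
    (ha : a ∉ A') (h1 : IsFlat G A') (h2 : IsFlat G (insert a A'))
    (hcard : A'.card + 2 ≤ Fintype.card Ω) :
    IsMultiplyPretransitive G Ω (A'.card + 2) :=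
  jordan_two' hG (A' : Set Ω) (Set.ncard_coe_finset A') hcard (two_trans_of_flat_pair ha h1 h2)

end jordan

end Cfsg.Agent.Helper2.Marg
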