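import Mathlib
import Cfsg.Agent.Helper2.MargFlat
import Cfsg.Agent.Helper2.MargNR
import Cfsg.Agent.Helper2.MargTits

/-!
# Marggraf's theorem: the main inequality for chains of covers
-/

set_option autoImplicit false
set_option linter.unusedSectionVars false

namespace Cfsg.Agent.Helper2.Marg

open MulAction SubMulAction
open scoped Pointwise

variable {G Ω : Type*} [Group G] [MulAction G Ω] [Fintype Ω] [DecidableEq Ω]
variable {m : ℕ} (hn : Fintype.card Ω = 2 * m + 1)

include hn in
/-- If a translate of `T0 = A ∪ {b}` lies in the flat `X`, so does the translate of `B`. -/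
theorem steiner_sub {A B X : Finset Ω} (h : Cov G m A B) {b : Ω} (hbB : b ∈ B) (hbA : b ∉ A)
    {g₀ : G} (hX : IsFlat G X) (hXc : X.card ≤ m + 1) (hSX : g₀ • insert b A ⊆ X) :
    g₀ • B ⊆ X := by
  have hc := h.smul g₀
  have hsubA : g₀ • A ⊆ X := by
    intro x hx
    apply hSX
    exact Finset.smul_finset_subset_smul_finset_iff.2 (Finset.subset_insert b A) hx
  have hb1 : g₀ • b ∈ g₀ • B := Finset.smul_mem_smul_finset hbB
  have hb2 : g₀ • b ∈ X := hSX (Finset.smul_mem_smul_finset (Finset.mem_insert_self b A))
  have hb3 : g₀ • b ∉ g₀ • A := by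
    rw [Finset.smul_mem_smul_finset_iff]; exact hbA
  exact Cov.subset_of_mem hn hc hX hsubA hXc hb1 hb2 hb3

include hn in
/-- Distinct translates of `B` meet in at most `|A|` points. -/
theorem steiner_inter {A B : Finset Ω} (h : Cov G m A B)
    (hk : IsMultiplyPretransitive G Ω (A.card + 1)) (g g' : G) (hne : g • B ≠ g' • B) :
    (g • B ∩ g' • B).card ≤ A.card := by
  by_contra hcon
  push Not at hcon
  obtain ⟨b, hbB, hbA⟩ := h.exists_mem
  have hBs := h.small
  have hfl : IsFlat G (g • B ∩ g' • B) :=
    IsFlat.inter_of_card m hn (h.flatB.smul g) (h.flatB.smul g')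
      (by rw [Finset.card_smul_finset, Finset.card_smul_finset]; omega)
  obtain ⟨S, hSX, hScard⟩ := Finset.exists_subset_card_eq hcon
  have hT0card : (insert b A).card = A.card + 1 := Finset.card_insert_of_notMem hbA
  obtain ⟨g₀, hg₀⟩ := exists_smul_finset_eq hk hT0card hScard
  have h1 : g₀ • B ⊆ g • B :=
    steiner_sub hn h hbB hbA (h.flatB.smul g) (by rw [Finset.card_smul_finset]; omega)
      (by rw [hg₀]; exact hSX.trans Finset.inter_subset_left)
  have h2 : g₀ • B ⊆ g' • B :=
    steiner_sub hn h hbB hbA (h.flatB.smul g') (by rw [Finset.card_smul_finset]; omega)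
      (by rw [hg₀]; exact hSX.trans Finset.inter_subset_right)
  have e1 : g₀ • B = g • B :=
    Finset.eq_of_subset_of_card_le h1 (by rw [Finset.card_smul_finset, Finset.card_smul_finset])
  have e2 : g₀ • B = g' • B :=
    Finset.eq_of_subset_of_card_le h2 (by rw [Finset.card_smul_finset, Finset.card_smul_finset])
  exact hne (e1.symm.trans e2)

include hn in
/-- A translate of `B` meeting the flat `C` in more than `|A|` points lies in `C`. -/
theorem steiner_sub_of_card {A B C : Finset Ω} (h : Cov G m A B)
    (hk : IsMultiplyPretransitive G Ω (A.card + 1)) (hC : IsFlat G C) (hCc : C.card ≤ m + 1)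
    (g : G) (hcard : A.card + 1 ≤ (g • B ∩ C).card) : g • B ⊆ C := by
  obtain ⟨b, hbB, hbA⟩ := h.exists_mem
  have hBs := h.small
  obtain ⟨S, hSX, hScard⟩ := Finset.exists_subset_card_eq hcard
  have hT0card : (insert b A).card = A.card + 1 := Finset.card_insert_of_notMem hbA
  obtain ⟨g₀, hg₀⟩ := exists_smul_finset_eq hk hT0card hScard
  have h1 : g₀ • B ⊆ g • B :=
    steiner_sub hn h hbB hbA (h.flatB.smul g) (by rw [Finset.card_smul_finset]; omega)
      (by rw [hg₀]; exact hSX.trans Finset.inter_subset_left)
  have h2 : g₀ • B ⊆ C :=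
    steiner_sub hn h hbB hbA hC hCc (by rw [hg₀]; exact hSX.trans Finset.inter_subset_right)
  have e1 : g₀ • B = g • B :=
    Finset.eq_of_subset_of_card_le h1 (by rw [Finset.card_smul_finset, Finset.card_smul_finset])
  rw [← e1]; exact h2

include hn in
/-- The main inequality: if `A ⋖ B ⊂ C` with `|B \ A| ≥ 2` then `|C \ B| ≥ |B|`. -/
theorem main_claim [Finite G] (hprim : IsPreprimitive G Ω) (htr : IsFlat G (∅ : Finset Ω)) :
    ∀ (N : ℕ) {A B C : Finset Ω}, B.card ≤ N → Cov G m A B → IsFlat G C → B ⊆ C → B ≠ C →
      C.card ≤ m + 1 → 2 ≤ (B \ A).card → B.card ≤ (C \ B).card := by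
  intro N
  induction N with
  | zero =>
    intro A B C hBN h _ _ _ _ _
    have := h.card_lt
    omega
  | succ N ih =>
    intro A B C hBN h hC hBC hBneC hCc he
    have hlt := h.card_lt
    have hBs := h.small
    have heB : (B \ A).card = B.card - A.card := Finset.card_sdiff_of_subset h.sub
    -- `A` is non-empty
    rcases Finset.eq_empty_or_nonempty A with rfl | hAne
    · exfalso
      have := Cov.card_eq_one_of_empty hn hprim h
      rw [Finset.sdiff_empty] at he
      omega
    obtain ⟨A', h'⟩ := exists_cov_below hn htr h.flatA hAne (by omega)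
    have hlt' := h'.card_lt
    -- a point `p ∈ C \ B` and the cover `B'` of `A` through it
    obtain ⟨p, hpC, hpB⟩ : ∃ p ∈ C, p ∉ B := by
      by_contra hcon
      push Not at hcon
      exact hBneC (Finset.Subset.antisymm hBC hcon)
    have hpA : p ∉ A := fun hp' => hpB (h.sub hp')
    obtain ⟨k', _, hpB', hcB'⟩ := h.exists_through hpA
    set B' := k' • B with hB'
    have hB'card : B'.card = B.card := Finset.card_smul_finset k' B
    have hB'C : B' ⊆ C :=
      Cov.subset_of_mem hn hcB' hC (h.sub.trans hBC) hCc hpB' hpC hpA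
    have hB'B : B' ∩ B = A := by
      apply Cov.inter_eq hn hcB' h
      intro he'; apply hpB; rw [← he']; exact hpB'
    have hB'sd : B' \ A ⊆ C \ B := by
      intro x hx
      rw [Finset.mem_sdiff] at hx ⊢
      refine ⟨hB'C hx.1, fun hxB => hx.2 ?_⟩
      rw [← hB'B]; exact Finset.mem_inter.2 ⟨hx.1, hxB⟩
    have hB'sdcard : (B' \ A).card = (B \ A).card := by
      rw [Finset.card_sdiff_of_subset hcB'.sub, hB'card, heB]
    have hle : (B \ A).card ≤ (C \ B).card := by
      rw [← hB'sdcard]; exact Finset.card_le_card hB'sd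
    -- the differences are not equal
    have hneq : (C \ B).card ≠ (B \ A).card := by
      intro heq
      have := diff_eq_one hn hprim htr B.card le_rfl h hC hBC hCc heq
      omega
    -- a second cover `B''`
    have hlt2 : (B' \ A).card < (C \ B).card := by
      rw [hB'sdcard]; omega
    obtain ⟨p', hp'CB, hp'B'A⟩ := Finset.exists_mem_notMem_of_card_lt_card hlt2
    rw [Finset.mem_sdiff] at hp'CB
    obtain ⟨hp'C, hp'B⟩ := hp'CB
    have hp'A : p' ∉ A := fun hp' => hp'B (h.sub hp')
    have hp'B' : p' ∉ B' := fun hp' => hp'B'A (Finset.mem_sdiff.2 ⟨hp', hp'A⟩)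
    obtain ⟨k'', _, hp'B'', hcB''⟩ := h.exists_through hp'A
    set B'' := k'' • B with hB''
    have hB''card : B''.card = B.card := Finset.card_smul_finset k'' B
    have hB''C : B'' ⊆ C :=
      Cov.subset_of_mem hn hcB'' hC (h.sub.trans hBC) hCc hp'B'' hp'C hp'A
    have hB''B : B'' ∩ B = A := by
      apply Cov.inter_eq hn hcB'' h
      intro he'; apply hp'B; rw [← he']; exact hp'B''
    have hB''B' : B'' ∩ B' = A := by
      apply Cov.inter_eq hn hcB'' hcB'
      intro he'; apply hp'B'; rw [← he']; exact hp'B''
    have hB''sd : B'' \ A ⊆ C \ B := by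
      intro x hx
      rw [Finset.mem_sdiff] at hx ⊢
      refine ⟨hB''C hx.1, fun hxB => hx.2 ?_⟩
      rw [← hB''B]; exact Finset.mem_inter.2 ⟨hx.1, hxB⟩
    have hB''sdcard : (B'' \ A).card = (B \ A).card := by
      rw [Finset.card_sdiff_of_subset hcB''.sub, hB''card, heB]
    have hdisj : Disjoint (B' \ A) (B'' \ A) := by
      rw [Finset.disjoint_left]
      intro x hx hx'
      rw [Finset.mem_sdiff] at hx hx'
      apply hx.2
      rw [← hB''B']; exact Finset.mem_inter.2 ⟨hx'.1, hx.1⟩
    have h2e : 2 * (B \ A).card ≤ (C \ B).card := by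
      have h1 : (B' \ A) ∪ (B'' \ A) ⊆ C \ B := Finset.union_subset hB'sd hB''sd
      have h2 := Finset.card_le_card h1
      rw [Finset.card_union_of_disjoint hdisj, hB'sdcard, hB''sdcard] at h2
      omega
    -- the two cases for `|A \ A'|`
    have heA : (A \ A').card = A.card - A'.card := Finset.card_sdiff_of_subset h'.sub
    by_cases he' : 2 ≤ (A \ A').card
    · have := ih (A := A') (B := A) (C := B) (by omega) h' h.flatB h.sub h.ne (by omega) he'
      omega
    · -- Tits' inequality
      have he'1 : (A \ A').card = 1 := by omega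
      obtain ⟨a, ha⟩ := Finset.card_eq_one.1 he'1
      have haA' : a ∉ A' := by
        have : a ∈ A \ A' := by rw [ha]; exact Finset.mem_singleton_self a
        exact (Finset.mem_sdiff.1 this).2
      have hAins : A = insert a A' := by
        ext x
        rw [Finset.mem_insert]
        constructor
        · intro hx
          by_cases hxA' : x ∈ A'
          · exact Or.inr hxA'
          · left
            have : x ∈ A \ A' := Finset.mem_sdiff.2 ⟨hx, hxA'⟩
            rw [ha] at this
            exact Finset.mem_singleton.1 this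
        · rintro (rfl | hx)
          · have : x ∈ A \ A' := by rw [ha]; exact Finset.mem_singleton_self x
            exact (Finset.mem_sdiff.1 this).1
          · exact h'.sub hx
      have hAcard : A.card = A'.card + 1 := by
        rw [hAins, Finset.card_insert_of_notMem haA']
      have hk0 : IsMultiplyPretransitive G Ω (A'.card + 2) :=
        multiply_trans_of_flat_pair hprim haA' h'.flatA (by rw [← hAins]; exact h.flatA)
          (by omega)
      have hk : IsMultiplyPretransitive G Ω (A.card + 1) := by
        rw [hAcard]; exact hk0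
      obtain ⟨b, hbB, hbA⟩ := h.exists_mem
      have hT0 : insert b A ⊆ B := by
        intro x hx
        rw [Finset.mem_insert] at hx
        rcases hx with rfl | hx
        · exact hbB
        · exact h.sub hx
      have htb := tits_bound (k := A.card) (e := (B \ A).card) hk (B := B) (C := C)
        (T0 := insert b A) (y := p) (by omega) hT0 (Finset.card_insert_of_notMem hbA)
        hpC hpB hBC (steiner_inter hn h hk) (steiner_sub_of_card hn h hk hC hCc)
      have hCcard : C.card = B.card + (C \ B).card := by
        rw [Finset.card_sdiff_of_subset hBC]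
        have := Finset.card_le_card hBC
        omega
      have hmul : A.card * 2 ≤ A.card * (B \ A).card := Nat.mul_le_mul_left _ he
      have hexp : (A.card + 2) * (B \ A).card = A.card * (B \ A).card + 2 * (B \ A).card := by
        ring
      omega

end Cfsg.Agent.Helper2.Marg
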