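import Mathlib
import Cfsg.Agent.Helper2.MargFlat
import Cfsg.Agent.Helper2.MargNR
import Cfsg.Agent.Helper2.MargTits
import Cfsg.Agent.Helper2.MargMain
import Cfsg.Agent.Helper2.SmallSupp

/-!
# Marggraf's theorem: the boundary case `|Ω| = 2m+1`
-/

set_option autoImplicit false
set_option linter.unusedSectionVars false

namespace Cfsg.Agent.Helper2.Marg

open MulAction SubMulAction Equiv
open scoped Pointwise

/-- `g` acts on `Ω` as a 3-cycle. -/
def Is3 {G : Type*} (Ω : Type*) [Group G] [MulAction G Ω] (g : G) : Prop :=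
  ∃ x y z : Ω, x ≠ y ∧ y ≠ z ∧ x ≠ z ∧ g • x = y ∧ g • y = z ∧ g • z = x ∧
    ∀ w : Ω, w ≠ x → w ≠ y → w ≠ z → g • w = w

variable {G Ω : Type*} [Group G] [MulAction G Ω] [Fintype Ω] [DecidableEq Ω]

theorem Is3.isThreeCycle {g : G} (h : Is3 Ω g) : (toPerm g : Perm Ω).IsThreeCycle := by
  obtain ⟨x, y, z, hxy, hyz, hxz, h1, h2, h3, h4⟩ := h
  have : (toPerm g : Perm Ω) = swap z y * swap z x := by
    ext w
    rw [toPerm_apply, Perm.mul_apply]
    by_cases hwx : w = x
    · subst hwx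
      rw [swap_apply_right, swap_apply_left, h1]
    by_cases hwy : w = y
    · subst hwy
      rw [swap_apply_of_ne_of_ne hyz hxy.symm, swap_apply_right, h2]
    by_cases hwz : w = z
    · subst hwz
      rw [swap_apply_left, swap_apply_of_ne_of_ne hxz hxy, h3]
    rw [swap_apply_of_ne_of_ne hwz hwx, swap_apply_of_ne_of_ne hwz hwy, h4 w hwx hwy hwz]
  rw [this]
  exact Perm.isThreeCycle_swap_mul_swap_same hyz.symm hxz.symm hxy.symm

theorem exists_is3_of_alt_le (h3 : 3 ≤ Fintype.card Ω)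
    (h : alternatingGroup Ω ≤ (toPermHom G Ω).range) : ∃ g : G, Is3 Ω g := by
  obtain ⟨a, b, c, hab, hac, hbc⟩ := Fintype.two_lt_card_iff.1 (by omega : 2 < Fintype.card Ω)
  have hσ : swap a b * swap a c ∈ alternatingGroup Ω :=
    (Perm.isThreeCycle_swap_mul_swap_same hab hac hbc).mem_alternatingGroup
  obtain ⟨g, hg⟩ := h hσ
  have hg' : ∀ w : Ω, g • w = (swap a b * swap a c) w := by
    intro w
    rw [← hg]; rfl
  refine ⟨g, c, b, a, hbc.symm, hab.symm, hac.symm, ?_, ?_, ?_, ?_⟩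
  · rw [hg', Perm.mul_apply, swap_apply_right, swap_apply_left]
  · rw [hg', Perm.mul_apply, swap_apply_of_ne_of_ne hab.symm hbc, swap_apply_right]
  · rw [hg', Perm.mul_apply, swap_apply_left, swap_apply_of_ne_of_ne hac.symm hbc.symm]
  · intro w hwc hwb hwa
    rw [hg', Perm.mul_apply, swap_apply_of_ne_of_ne hwa hwc, swap_apply_of_ne_of_ne hwa hwb]

theorem isMultiplyPretransitive_range {k : ℕ} (hk : IsMultiplyPretransitive G Ω k) :
    IsMultiplyPretransitive (toPermHom G Ω).range Ω k := by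
  rw [isMultiplyPretransitive_iff]
  intro x y
  obtain ⟨g, hg⟩ := hk.exists_smul_eq x y
  refine ⟨⟨toPermHom G Ω g, ⟨g, rfl⟩⟩, ?_⟩
  ext i
  have := DFunLike.congr_fun hg i
  exact this

theorem smul_finset_compl' (g : G) (A : Finset Ω) : g • Aᶜ = (g • A)ᶜ := by
  ext x
  rw [← Finset.inv_smul_mem_iff, Finset.mem_compl, Finset.mem_compl, Finset.inv_smul_mem_iff]

variable {m : ℕ} (hn : Fintype.card Ω = 2 * m + 1)

include hn in
/-- The boundary case of Marggraf's theorem. -/
theorem boundary [Finite G] (hm : 2 ≤ m) (hprim : IsPreprimitive G Ω) (Γ : Finset Ω)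
    (hΓ : Γ.card = m) (hJ : IsFlat G Γᶜ) : ∃ g : G, Is3 Ω g := by
  classical
  have : Fintype G := Fintype.ofFinite G
  have hpt : IsPretransitive G Ω := hprim.toIsPretransitive
  set Δ := Γᶜ with hΔ
  have hΔcard : Δ.card = m + 1 := by
    rw [hΔ, Finset.card_compl, hΓ, hn]; omega
  have htr : IsFlat G (∅ : Finset Ω) := by
    intro x y _ _
    obtain ⟨g, hg⟩ := exists_smul_eq G x y
    exact ⟨g, fun z hz => absurd hz (Finset.notMem_empty z), hg⟩
  have hmemΔ : ∀ x : Ω, x ∈ Δ ↔ x ∉ Γ := fun x => Finset.mem_compl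
  -- `Γ` is not a block
  have hnb : ¬ IsBlock G (Γ : Set Ω) := by
    intro hb
    rcases hprim.isTrivialBlock_of_isBlock hb with hs | hu
    · have : Γ.card ≤ 1 := Finset.card_le_one.2 (fun a ha b hb' => hs ha hb')
      omega
    · have : Γ = Finset.univ := by rw [← Finset.coe_inj, hu, Finset.coe_univ]
      rw [this, Finset.card_univ] at hΓ
      omega
  rw [isBlock_iff_smul_eq_or_disjoint] at hnb
  push Not at hnb
  obtain ⟨g₀, hg₀ne, hg₀d⟩ := hnb
  have hg₀ne' : g₀ • Γ ≠ Γ := by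
    intro h
    apply hg₀ne
    rw [← Finset.coe_smul_finset, h]
  have hg₀d' : ¬ Disjoint (g₀ • Γ) Γ := by
    intro h
    apply hg₀d
    rw [← Finset.coe_smul_finset]
    exact Finset.disjoint_coe.2 h
  have hg₀Δ : g₀ • Δ ≠ Δ := by
    intro h
    apply hg₀ne'
    rw [hΔ, smul_finset_compl', compl_inj_iff] at h
    exact h
  have hg₀card : 2 ≤ (g₀ • Δ ∩ Δ).card := by
    have h1 : g₀ • Δ ∩ Δ = (g₀ • Γ ∪ Γ)ᶜ := by
      rw [hΔ, smul_finset_compl', Finset.compl_union]
    have h2 := Finset.card_union_add_card_inter (g₀ • Γ) Γ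
    rw [Finset.card_smul_finset, hΓ] at h2
    have h3 : 1 ≤ (g₀ • Γ ∩ Γ).card := by
      rw [Nat.one_le_iff_ne_zero, Ne, Finset.card_eq_zero, ← Finset.disjoint_iff_inter_eq_empty]
      exact hg₀d'
    rw [h1, Finset.card_compl, hn]
    omega
  -- maximal intersection
  let S : Finset G := Finset.univ.filter (fun g : G => g • Δ ≠ Δ)
  have hSne : S.Nonempty := ⟨g₀, by simp [S, hg₀Δ]⟩
  obtain ⟨g₁, hg₁S, hg₁max⟩ := Finset.exists_max_image S (fun g => (g • Δ ∩ Δ).card) hSne
  have hg₁Δ : g₁ • Δ ≠ Δ := by simpa [S] using hg₁S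
  set Θ := g₁ • Δ ∩ Δ with hΘ
  obtain ⟨k, hk⟩ : ∃ k : ℕ, k = Θ.card := ⟨_, rfl⟩
  have hP : ∀ g : G, g • Δ ≠ Δ → (g • Δ ∩ Δ).card ≤ k := by
    intro g hg
    rw [hk]
    exact hg₁max g (by simp [S, hg])
  have hk2 : 2 ≤ k := le_trans hg₀card (hP g₀ hg₀Δ)
  have hΘΔ : Θ ⊆ Δ := Finset.inter_subset_right
  have hΘg₁ : Θ ⊆ g₁ • Δ := Finset.inter_subset_left
  have hΘneΔ : Θ ≠ Δ := by
    intro h
    apply hg₁Δ
    symm
    apply Finset.eq_of_subset_of_card_le
    · intro x hx
      exact hΘg₁ (by rw [h]; exact hx)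
    · rw [Finset.card_smul_finset]
  have hkm : k ≤ m := by
    have h1 : Θ.card < Δ.card :=
      Finset.card_lt_card (Finset.ssubset_iff_subset_ne.2 ⟨hΘΔ, hΘneΔ⟩)
    omega
  have hΘfl : IsFlat G Θ :=
    IsFlat.inter_of_card m hn (hJ.smul g₁) hJ
      (by rw [Finset.card_smul_finset, hΔcard, ← hΘ]; omega)
  have hP' : ∀ g g' : G, g • Δ ≠ g' • Δ → (g • Δ ∩ g' • Δ).card ≤ k := by
    intro g g' hne
    have h1 : (g'⁻¹ * g) • Δ ≠ Δ := by
      intro h
      apply hne
      rw [mul_smul, inv_smul_eq_iff] at h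
      exact h
    have h2 := hP _ h1
    have h3 : (g'⁻¹ * g) • Δ ∩ Δ = g'⁻¹ • (g • Δ ∩ g' • Δ) := by
      rw [Finset.smul_finset_inter, mul_smul, inv_smul_smul]
    rw [h3, Finset.card_smul_finset] at h2
    exact h2
  obtain ⟨x₀, hx₀Δ, hx₀Θ⟩ : ∃ x ∈ Δ, x ∉ Θ := by
    by_contra hcon
    push Not at hcon
    exact hΘneΔ (Finset.Subset.antisymm hΘΔ hcon)
  obtain ⟨γ, hγ⟩ : Γ.Nonempty := by
    rw [← Finset.card_pos, hΓ]; omega
  have hγΔ : γ ∉ Δ := by rw [hmemΔ]; exact fun h => h hγ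
  rcases Nat.lt_or_ge k m with hlt | hge
  swap
  · -- the case `d = 1`
    have hkm' : k = m := le_antisymm hkm hge
    have hΔins : Δ = insert x₀ Θ := by
      symm
      apply Finset.eq_of_subset_of_card_le
      · intro x hx
        rw [Finset.mem_insert] at hx
        rcases hx with rfl | hx
        · exact hx₀Δ
        · exact hΘΔ hx
      · rw [Finset.card_insert_of_notMem hx₀Θ, hΔcard]; omega
    have hmt0 := multiply_trans_of_flat_pair hprim hx₀Θ hΘfl (by rw [← hΔins]; exact hJ)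
      (by rw [hn]; omega)
    have hmt : IsMultiplyPretransitive G Ω (m + 2) := by
      rw [← hkm', hk]; exact hmt0
    have hmtP := isMultiplyPretransitive_range hmt
    -- a non-identity element of small support
    obtain ⟨γ₁, hγ₁, γ₂, hγ₂, hγ₁₂⟩ := Finset.one_lt_card.1 (by omega : 1 < Γ.card)
    obtain ⟨h, hfix, hh⟩ := hJ γ₁ γ₂ (by rw [hmemΔ]; exact fun h => h hγ₁)
      (by rw [hmemΔ]; exact fun h => h hγ₂)
    have hσ1 : (toPermHom G Ω h : Perm Ω) ≠ 1 := by
      intro h1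
      apply hγ₁₂
      have : (toPermHom G Ω h : Perm Ω) γ₁ = γ₁ := by rw [h1]; rfl
      have h2 : h • γ₁ = γ₁ := this
      rw [hh] at h2
      exact h2.symm
    have hsupp : (toPermHom G Ω h : Perm Ω).support ⊆ Γ := by
      intro x hx
      rw [Perm.mem_support] at hx
      by_contra hxΓ
      apply hx
      exact hfix x (by rw [hmemΔ]; exact hxΓ)
    have hsc := Finset.card_le_card hsupp
    have hmain := Cfsg.Agent.Helper2.SmallSupp.main (toPermHom G Ω).range (k := m + 2)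
      (by omega) (by rw [hn]; omega) hmtP (toPermHom G Ω h) ⟨h, rfl⟩ hσ1 (by omega)
    exact exists_is3_of_alt_le (by rw [hn]; omega) hmain.2
  · -- the case `d ≥ 2` is impossible
    exfalso
    have hΘne : Θ.Nonempty := by rw [← Finset.card_pos]; omega
    -- `2 * d ≤ m`
    have h2d : 2 * (m + 1 - k) ≤ m := by
      set D₁ := g₁ • Δ \ Θ with hD₁
      have hD₁Γ : D₁ ⊆ Γ := by
        intro x hx
        rw [hD₁, Finset.mem_sdiff] at hx
        by_contra hxΓ
        apply hx.2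
        rw [hΘ]
        exact Finset.mem_inter.2 ⟨hx.1, (hmemΔ x).2 hxΓ⟩
      have hD₁card : D₁.card = m + 1 - k := by
        rw [hk, hD₁, Finset.card_sdiff_of_subset hΘg₁, Finset.card_smul_finset, hΔcard]
      obtain ⟨p', hp'Γ, hp'D₁⟩ : ∃ p ∈ Γ, p ∉ D₁ := by
        apply Finset.exists_mem_notMem_of_card_lt_card
        rw [hD₁card, hΓ]; omega
      have hp'Δ : p' ∉ Δ := by rw [hmemΔ]; exact fun h => h hp'Γ
      have hp'Θ : p' ∉ Θ := fun h => hp'Δ (hΘΔ h)
      have hp'g₁ : p' ∉ g₁ • Δ := by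
        intro h
        exact hp'D₁ (Finset.mem_sdiff.2 ⟨h, hp'Θ⟩)
      obtain ⟨g, hg, hgx₀⟩ := hΘfl x₀ p' hx₀Θ hp'Θ
      have hgΘ : g • Θ = Θ := smul_finset_eq_of_fix hg
      have hΘg : Θ ⊆ g • Δ := by
        rw [← hgΘ]; exact Finset.smul_finset_subset_smul_finset_iff.2 hΘΔ
      have hp'g : p' ∈ g • Δ := by rw [← hgx₀]; exact Finset.smul_mem_smul_finset hx₀Δ
      have hgΔ : g • Δ ≠ Δ := fun h => hp'Δ (h ▸ hp'g)
      have hgg₁ : g • Δ ≠ g₁ • Δ := fun h => hp'g₁ (h ▸ hp'g)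
      have hi1 : Θ = g • Δ ∩ g₁ • Δ :=
        Finset.eq_of_subset_of_card_le (Finset.subset_inter hΘg hΘg₁)
          (by rw [← hk]; exact hP' _ _ hgg₁)
      set D₂ := g • Δ \ Θ with hD₂
      have hD₂Γ : D₂ ⊆ Γ := by
        intro x hx
        rw [hD₂, Finset.mem_sdiff] at hx
        by_contra hxΓ
        apply hx.2
        have hi2 : Θ = g • Δ ∩ Δ :=
          Finset.eq_of_subset_of_card_le (Finset.subset_inter hΘg hΘΔ)
            (by rw [← hk]; exact hP _ hgΔ)
        rw [hi2]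
        exact Finset.mem_inter.2 ⟨hx.1, (hmemΔ x).2 hxΓ⟩
      have hD₂card : D₂.card = m + 1 - k := by
        rw [hk, hD₂, Finset.card_sdiff_of_subset hΘg, Finset.card_smul_finset, hΔcard]
      have hdisj : Disjoint D₁ D₂ := by
        rw [Finset.disjoint_left]
        intro x hx hx'
        rw [hD₁, Finset.mem_sdiff] at hx
        rw [hD₂, Finset.mem_sdiff] at hx'
        apply hx.2
        rw [hi1]
        exact Finset.mem_inter.2 ⟨hx'.1, hx.1⟩
      have h1 : D₁ ∪ D₂ ⊆ Γ := Finset.union_subset hD₁Γ hD₂Γ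
      have h2 := Finset.card_le_card h1
      rw [Finset.card_union_of_disjoint hdisj, hD₁card, hD₂card, hΓ] at h2
      omega
    -- a flat covered by `Θ`
    obtain ⟨Θ₂, hcov⟩ := exists_cov_below hn htr hΘfl hΘne (by omega)
    have hlt' := hcov.card_lt
    have heΘ : (Θ \ Θ₂).card = Θ.card - Θ₂.card := Finset.card_sdiff_of_subset hcov.sub
    have hΔΘ : (Δ \ Θ).card = m + 1 - k := by
      rw [hk, Finset.card_sdiff_of_subset hΘΔ, hΔcard]
    by_cases he' : 2 ≤ (Θ \ Θ₂).card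
    · have := main_claim hn hprim htr Θ.card le_rfl hcov hJ hΘΔ hΘneΔ (by omega) he'
      rw [hΔΘ] at this
      omega
    · have he'1 : (Θ \ Θ₂).card = 1 := by omega
      obtain ⟨a, ha⟩ := Finset.card_eq_one.1 he'1
      have haΘ₂ : a ∉ Θ₂ := by
        have : a ∈ Θ \ Θ₂ := by rw [ha]; exact Finset.mem_singleton_self a
        exact (Finset.mem_sdiff.1 this).2
      have hΘins : Θ = insert a Θ₂ := by
        ext x
        rw [Finset.mem_insert]
        constructor
        · intro hx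
          by_cases hxA' : x ∈ Θ₂
          · exact Or.inr hxA'
          · left
            have : x ∈ Θ \ Θ₂ := Finset.mem_sdiff.2 ⟨hx, hxA'⟩
            rw [ha] at this
            exact Finset.mem_singleton.1 this
        · rintro (rfl | hx)
          · have : x ∈ Θ \ Θ₂ := by rw [ha]; exact Finset.mem_singleton_self x
            exact (Finset.mem_sdiff.1 this).1
          · exact hcov.sub hx
      have hΘcard : Θ.card = Θ₂.card + 1 := by
        rw [hΘins, Finset.card_insert_of_notMem haΘ₂]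
      have hk0 : IsMultiplyPretransitive G Ω (Θ₂.card + 2) :=
        multiply_trans_of_flat_pair hprim haΘ₂ hcov.flatA (by rw [← hΘins]; exact hΘfl)
          (by rw [hn]; omega)
      have hkt : IsMultiplyPretransitive G Ω (k + 1) := by
        rw [hk, hΘcard]; exact hk0
      have hT0 : insert x₀ Θ ⊆ Δ := by
        intro x hx
        rw [Finset.mem_insert] at hx
        rcases hx with rfl | hx
        · exact hx₀Δ
        · exact hΘΔ hx
      have htb := tits_bound (k := k) (e := m + 1 - k) hkt (B := Δ) (C := Finset.univ)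
        (T0 := insert x₀ Θ) (y := γ) (by rw [hΔcard]; omega) hT0
        (by rw [hk]; exact Finset.card_insert_of_notMem hx₀Θ) (Finset.mem_univ _) hγΔ (Finset.subset_univ _) hP'
        (fun g _ => Finset.subset_univ _)
      rw [Finset.card_univ, hn] at htb
      have hmul : k * 2 ≤ k * (m + 1 - k) := Nat.mul_le_mul_left _ (by omega)
      have hexp : (k + 2) * (m + 1 - k) = k * (m + 1 - k) + 2 * (m + 1 - k) := by ring
      omega

end Cfsg.Agent.Helper2.Marg
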