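import Mathlib
import Cfsg.Agent.Helper2.MargBdry
import Cfsg.Agent.Helper4.MarggraffB

/-!
# Marggraf's theorem for primitive groups

A primitive group with a Jordan set `Γ`, `1 < |Γ| < |Ω|/2`, contains an element acting as a
3-cycle.  Induction on `|Ω|` through point stabilisers down to the boundary case `|Ω| = 2|Γ|+1`.
-/

set_option autoImplicit false
set_option linter.unusedSectionVars false

namespace Cfsg.Agent.Helper2.Marg

open MulAction SubMulAction Equiv
open scoped Pointwise

universe u v

section
variable {G : Type u} {Ω : Type v} [Group G] [MulAction G Ω]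

theorem isPretransitive_of_isFlat [DecidableEq Ω] {A : Finset Ω} (h : IsFlat G A) :
    IsPretransitive (fixingSubgroup G (A : Set Ω)) (ofFixingSubgroup G (A : Set Ω)) := by
  constructor
  intro x y
  have hx : (x : Ω) ∉ A := by
    have := x.2
    rw [mem_ofFixingSubgroup_iff] at this
    simpa using this
  have hy : (y : Ω) ∉ A := by
    have := y.2
    rw [mem_ofFixingSubgroup_iff] at this
    simpa using this
  obtain ⟨g, hg, hgx⟩ := h _ _ hx hy
  refine ⟨⟨g, ?_⟩, Subtype.ext hgx⟩
  rw [mem_fixingSubgroup_iff]
  intro z hz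
  exact hg z (Finset.mem_coe.1 hz)

theorem Is3.of_stabilizer {a : Ω} {h : stabilizer G a} (h3 : Is3 (ofStabilizer G a) h) :
    Is3 Ω (h : G) := by
  obtain ⟨x, y, z, hxy, hyz, hxz, h1, h2, h3', h4⟩ := h3
  refine ⟨x, y, z, fun e => hxy (Subtype.ext e), fun e => hyz (Subtype.ext e),
    fun e => hxz (Subtype.ext e), congrArg Subtype.val h1, congrArg Subtype.val h2,
    congrArg Subtype.val h3', ?_⟩
  intro w hwx hwy hwz
  by_cases hwa : w = a
  · rw [hwa]; exact h.2
  · have := h4 ⟨w, hwa⟩ (fun e => hwx (congrArg Subtype.val e))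
      (fun e => hwy (congrArg Subtype.val e)) (fun e => hwz (congrArg Subtype.val e))
    exact congrArg Subtype.val this

end

/-- Marggraf's theorem for primitive groups, by induction on the degree. -/
theorem core_aux : ∀ (n : ℕ) {G : Type u} {Ω : Type v} [Group G] [MulAction G Ω] [Finite G]
    [Fintype Ω] [DecidableEq Ω], Fintype.card Ω = n → IsPreprimitive G Ω →
    ∀ Γ : Finset Ω, 2 ≤ Γ.card → 2 * Γ.card < n → IsFlat G Γᶜ → ∃ g : G, Is3 Ω g := by
  intro n
  induction n with
  | zero =>
    intro G Ω _ _ _ _ _ _ _ Γ _ h _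
    omega
  | succ n ih =>
    intro G Ω _ _ _ _ _ hcard hprim Γ hΓ2 hΓn hJ
    classical
    by_cases hb : 2 * Γ.card + 1 = n + 1
    · exact boundary (m := Γ.card) (by omega) hΓ2 hprim Γ rfl hJ
    · have hlt : 2 * Γ.card < n := by omega
      have hpt : IsPretransitive G Ω := hprim.toIsPretransitive
      have hcompl : (Γᶜ).card = n + 1 - Γ.card := by rw [Finset.card_compl, hcard]
      obtain ⟨a, ha⟩ : (Γᶜ).Nonempty := by rw [← Finset.card_pos]; omega
      have haΓ : a ∉ Γ := Finset.mem_compl.1 ha
      -- `G` is 2-transitive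
      have h2t : IsMultiplyPretransitive G Ω 2 := by
        have hsn : ((Γᶜ : Finset Ω) : Set Ω).ncard = (n - Γ.card) + 1 := by
          rw [Set.ncard_coe_finset, hcompl]; omega
        have hsn' : (n - Γ.card) + 2 < Nat.card Ω := by
          rw [Nat.card_eq_fintype_card, hcard]; omega
        exact hprim.is_two_pretransitive hsn hsn' (isPretransitive_of_isFlat hJ)
      -- the point stabiliser is primitive
      have htr : ∀ x ∈ (Γ : Set Ω), ∀ y ∈ (Γ : Set Ω),
          ∃ g : G, (∀ z ∉ (Γ : Set Ω), g • z = z) ∧ g • x = y := by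
        intro x hx y hy
        obtain ⟨g, hg, hgx⟩ := hJ x y (by simpa using hx) (by simpa using hy)
        exact ⟨g, fun z hz => hg z (by simpa using hz), hgx⟩
      have hprim' : IsPreprimitive (stabilizer G a) (ofStabilizer G a) :=
        Cfsg.Agent.Helper4.Marggraff.isPreprimitive_ofStabilizer (Γ : Set Ω) h2t
          (by rw [Set.ncard_coe_finset]; exact hΓ2)
          (by rw [Set.ncard_coe_finset, Nat.card_eq_fintype_card, hcard]; omega) htr a
      -- the Jordan set in the point stabiliser
      have hcard' : Fintype.card (ofStabilizer G a) = n := by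
        have := nat_card_ofStabilizer_add_one_eq G a
        rw [Nat.card_eq_fintype_card, Nat.card_eq_fintype_card, hcard] at this
        omega
      set Γ' : Finset (ofStabilizer G a) := Γ.subtype (fun x => x ∈ ofStabilizer G a) with hΓ'
      have hΓ'card : Γ'.card = Γ.card := by
        rw [hΓ', Finset.card_subtype, Finset.filter_true_of_mem]
        intro x hx
        rw [mem_ofStabilizer_iff]
        rintro rfl
        exact haΓ hx
      have hJ' : IsFlat (stabilizer G a) Γ'ᶜ := by
        intro x y hx hy
        have hx' : (x : Ω) ∈ Γ := by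
          rw [Finset.mem_compl, not_not, hΓ', Finset.mem_subtype] at hx
          exact hx
        have hy' : (y : Ω) ∈ Γ := by
          rw [Finset.mem_compl, not_not, hΓ', Finset.mem_subtype] at hy
          exact hy
        obtain ⟨g, hg, hgx⟩ := hJ x y (by simpa using hx') (by simpa using hy')
        have hga : g ∈ stabilizer G a := hg a ha
        refine ⟨⟨g, hga⟩, ?_, Subtype.ext hgx⟩
        intro z hz
        apply Subtype.ext
        have hz' : (z : Ω) ∉ Γ := by
          rw [Finset.mem_compl, hΓ', Finset.mem_subtype] at hz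
          exact hz
        exact hg z (Finset.mem_compl.2 hz')
      obtain ⟨h, h3⟩ := ih hcard' hprim' Γ' (by omega) (by omega) hJ'
      exact ⟨h, h3.of_stabilizer⟩

/-- Marggraf's theorem for primitive groups: a primitive group with a Jordan set `Γ`,
`1 < |Γ| < |Ω|/2`, contains an element acting as a 3-cycle. -/
theorem core {G : Type u} {Ω : Type v} [Group G] [MulAction G Ω] [Finite G]
    [Fintype Ω] [DecidableEq Ω] (hprim : IsPreprimitive G Ω) (Γ : Finset Ω)
    (h2 : 2 ≤ Γ.card) (hn : 2 * Γ.card < Fintype.card Ω) (hJ : IsFlat G Γᶜ) :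
    ∃ g : G, Is3 Ω g :=
  core_aux _ rfl hprim Γ h2 hn hJ

end Cfsg.Agent.Helper2.Marg
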