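import Mathlib
import Cfsg.Agent.Helper2.MargInd

/-!
# Marggraf's theorem: from quasiprimitive to primitive

Equivariant quotients `φ : Ω → Σ` of a quasiprimitive group with a small Jordan set.
-/

set_option autoImplicit false
set_option linter.unusedSectionVars false

namespace Cfsg.Agent.Helper2.Marg

open MulAction SubMulAction Equiv
open scoped Pointwise

section general

variable {G X : Type*} [Group G] [MulAction G X] [Fintype X] [DecidableEq X]

theorem isPreprimitive_range (h : IsPreprimitive G X) :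
    IsPreprimitive (toPermHom G X).range X := by
  have hpt : IsPretransitive G X := h.toIsPretransitive
  have hpt' : IsPretransitive (toPermHom G X).range X := by
    constructor
    intro x y
    obtain ⟨g, hg⟩ := exists_smul_eq G x y
    exact ⟨⟨toPermHom G X g, ⟨g, rfl⟩⟩, hg⟩
  refine { toIsPretransitive := hpt', isTrivialBlock_of_isBlock := ?_ }
  intro B hB
  apply h.isTrivialBlock_of_isBlock
  rw [isBlock_iff_smul_eq_or_disjoint] at hB ⊢
  intro g
  exact hB ⟨toPermHom G X g, ⟨g, rfl⟩⟩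

theorem alt_le_range_of_is3 (hprim : IsPreprimitive G X) {g : G} (h : Is3 X g) :
    alternatingGroup X ≤ (toPermHom G X).range :=
  Equiv.Perm.alternatingGroup_le_of_isPreprimitive_of_isThreeCycle_mem
    (isPreprimitive_range hprim) h.isThreeCycle ⟨g, rfl⟩

end general

section quotient

variable {G Ω S : Type*} [Group G] [MulAction G Ω] [Fintype Ω] [DecidableEq Ω]
  [MulAction G S] [Fintype S] [DecidableEq S]
variable (φ : Ω → S) (hφ : ∀ (g : G) (ω : Ω), φ (g • ω) = g • φ ω)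
  (hsurj : Function.Surjective φ) (hfaith : ∀ g : G, (∀ σ : S, g • σ = σ) → g = 1)
variable (Γ : Finset Ω) (hJ : IsFlat G Γᶜ) (hΓ2 : 2 ≤ Γ.card)

include hJ in
/-- Elements fixing the complement of `Γ` pointwise preserve `Γ`. -/
theorem smul_mem_of_fix {h : G} (hfix : ∀ z ∈ Γᶜ, h • z = z) {γ : Ω} (hγ : γ ∈ Γ) :
    h • γ ∈ Γ := by
  by_contra hcon
  have h1 : h • (h • γ) = h • γ := hfix _ (Finset.mem_compl.2 hcon)
  have h2 : h • γ = γ := MulAction.injective h h1
  rw [h2] at hcon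
  exact hcon hγ

include hφ hsurj hfaith hJ hΓ2 in
/-- `Γ` is not mapped to a single point. -/
theorem not_image_single (σ₀ : S) (h1 : ∀ γ ∈ Γ, φ γ = σ₀) : False := by
  obtain ⟨γ₁, hγ₁, γ₂, hγ₂, hne⟩ := Finset.one_lt_card.1 (by omega : 1 < Γ.card)
  obtain ⟨h, hfix, hh⟩ := hJ γ₁ γ₂ (by simpa using hγ₁) (by simpa using hγ₂)
  have htriv : ∀ σ : S, h • σ = σ := by
    intro σ
    obtain ⟨ω, rfl⟩ := hsurj σ
    by_cases hω : ω ∈ Γ
    · rw [← hφ, h1 ω hω, h1 _ (smul_mem_of_fix Γ hJ hfix hω)]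
    · rw [← hφ, hfix ω (Finset.mem_compl.2 hω)]
  have := hfaith h htriv
  rw [this, one_smul] at hh
  exact hne hh

include hφ hsurj hfaith hJ hΓ2 in
/-- `Γ` is a union of fibres of `φ`. -/
theorem mem_of_fibre {x y : Ω} (hx : x ∈ Γ) (hxy : φ x = φ y) : y ∈ Γ := by
  by_contra hy
  apply not_image_single φ hφ hsurj hfaith Γ hJ hΓ2 (φ x)
  intro γ hγ
  obtain ⟨h, hfix, hh⟩ := hJ x γ (by simpa using hx) (by simpa using hγ)
  rw [← hh, hφ, hxy, ← hφ, hfix y (Finset.mem_compl.2 hy)]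

include hφ hsurj hfaith hJ hΓ2 in
/-- The image of `Γ` is a Jordan set. -/
theorem isFlat_image : IsFlat G (Γ.image φ)ᶜ := by
  intro σ₁ σ₂ h₁ h₂
  rw [Finset.mem_compl, not_not, Finset.mem_image] at h₁ h₂
  obtain ⟨γ₁, hγ₁, rfl⟩ := h₁
  obtain ⟨γ₂, hγ₂, rfl⟩ := h₂
  obtain ⟨h, hfix, hh⟩ := hJ γ₁ γ₂ (by simpa using hγ₁) (by simpa using hγ₂)
  refine ⟨h, ?_, by rw [← hφ, hh]⟩
  intro τ hτ
  obtain ⟨ω, rfl⟩ := hsurj τ
  have hω : ω ∉ Γ := by
    intro hω
    exact (Finset.mem_compl.1 hτ) (Finset.mem_image_of_mem φ hω)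
  rw [← hφ, hfix ω (Finset.mem_compl.2 hω)]

include hφ hsurj hfaith hJ hΓ2 in
theorem two_le_card_image : 2 ≤ (Γ.image φ).card := by
  by_contra hcon
  push Not at hcon
  obtain ⟨γ₀, hγ₀⟩ : Γ.Nonempty := by rw [← Finset.card_pos]; omega
  apply not_image_single φ hφ hsurj hfaith Γ hJ hΓ2 (φ γ₀)
  intro γ hγ
  have h1 : (Γ.image φ).card ≤ 1 := by omega
  exact Finset.card_le_one.1 h1 _ (Finset.mem_image_of_mem φ hγ) _ (Finset.mem_image_of_mem φ hγ₀)

include hφ in
/-- All fibres of `φ` have the same size. -/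
theorem card_fibre_eq [IsPretransitive G S] (σ τ : S) :
    (Finset.univ.filter (fun ω => φ ω = σ)).card = (Finset.univ.filter (fun ω => φ ω = τ)).card := by
  obtain ⟨g, rfl⟩ := exists_smul_eq G σ τ
  apply Finset.card_bij (fun ω _ => g • ω)
  · intro ω hω
    simp only [Finset.mem_filter, Finset.mem_univ, true_and] at hω ⊢
    rw [hφ, hω]
  · intro ω₁ _ ω₂ _ h
    exact MulAction.injective g h
  · intro ω hω
    simp only [Finset.mem_filter, Finset.mem_univ, true_and] at hω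
    refine ⟨g⁻¹ • ω, ?_, smul_inv_smul g ω⟩
    simp only [Finset.mem_filter, Finset.mem_univ, true_and]
    rw [hφ, hω, inv_smul_smul]

include hφ hsurj hfaith hJ hΓ2 in
/-- The image of `Γ` is still small. -/
theorem two_mul_card_image_lt [IsPretransitive G S] (hn : 2 * Γ.card < Fintype.card Ω) :
    2 * (Γ.image φ).card < Fintype.card S := by
  obtain ⟨γ₀, hγ₀⟩ : Γ.Nonempty := by rw [← Finset.card_pos]; omega
  set b := (Finset.univ.filter (fun ω => φ ω = φ γ₀)).card with hb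
  have hb' : ∀ σ : S, (Finset.univ.filter (fun ω => φ ω = σ)).card = b :=
    fun σ => card_fibre_eq φ hφ σ (φ γ₀)
  have h1 : Fintype.card Ω = b * Fintype.card S := by
    rw [← Finset.card_univ, Finset.card_eq_sum_card_fiberwise (f := φ) (t := Finset.univ)
      (fun x _ => Finset.mem_univ _)]
    rw [Finset.sum_congr rfl (fun σ _ => hb' σ), Finset.sum_const, Finset.card_univ, smul_eq_mul,
      mul_comm]
  have h2 : Γ.card = b * (Γ.image φ).card := by
    rw [Finset.card_eq_sum_card_fiberwise (f := φ) (t := Γ.image φ)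
      (fun x hx => Finset.mem_image_of_mem φ hx)]
    have : ∀ σ ∈ Γ.image φ, (Γ.filter (fun ω => φ ω = σ)).card = b := by
      intro σ hσ
      rw [← hb' σ]
      congr 1
      ext ω
      simp only [Finset.mem_filter, Finset.mem_univ, true_and, and_iff_right_iff_imp]
      intro hω
      obtain ⟨γ, hγ, hγσ⟩ := Finset.mem_image.1 hσ
      exact mem_of_fibre φ hφ hsurj hfaith Γ hJ hΓ2 hγ (hγσ.trans hω.symm)
    rw [Finset.sum_congr rfl this, Finset.sum_const, smul_eq_mul, mul_comm]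
  rw [h1, h2] at hn
  have hbpos : 0 < b := by
    rw [hb, Finset.card_pos]
    exact ⟨γ₀, by simp⟩
  have : b * (2 * (Γ.image φ).card) < b * Fintype.card S := by
    calc b * (2 * (Γ.image φ).card) = 2 * (b * (Γ.image φ).card) := by ring
      _ < b * Fintype.card S := hn
  exact Nat.lt_of_mul_lt_mul_left this

include hφ hsurj hfaith hJ hΓ2 in
/-- `|Γ|` is the fibre size times the size of the image. -/
theorem card_eq_fibre_mul [IsPretransitive G S] (σ₁ : S) :
    Γ.card = (Finset.univ.filter (fun ω => φ ω = σ₁)).card * (Γ.image φ).card := by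
  have hb' : ∀ σ : S, (Finset.univ.filter (fun ω => φ ω = σ)).card
      = (Finset.univ.filter (fun ω => φ ω = σ₁)).card :=
    fun σ => card_fibre_eq φ hφ σ σ₁
  rw [Finset.card_eq_sum_card_fiberwise (f := φ) (t := Γ.image φ)
    (fun x hx => Finset.mem_image_of_mem φ hx)]
  have : ∀ σ ∈ Γ.image φ, (Γ.filter (fun ω => φ ω = σ)).card
      = (Finset.univ.filter (fun ω => φ ω = σ₁)).card := by
    intro σ hσ
    rw [← hb' σ]
    congr 1
    ext ω
    simp only [Finset.mem_filter, Finset.mem_univ, true_and, and_iff_right_iff_imp]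
    intro hω
    obtain ⟨γ, hγ, hγσ⟩ := Finset.mem_image.1 hσ
    exact mem_of_fibre φ hφ hsurj hfaith Γ hJ hΓ2 hγ (hγσ.trans hω.symm)
  rw [Finset.sum_congr rfl this, Finset.sum_const, smul_eq_mul, mul_comm]

include hφ hsurj hfaith hJ hΓ2 in
/-- The key contradiction: a quasiprimitive group with a small Jordan set cannot have a proper
quotient action on which it induces the alternating group. -/
theorem false_of_alt [Finite G] [IsPretransitive G S]
    (hqp : ∀ N : Subgroup G, N.Normal → N ≠ ⊥ → IsPretransitive N Ω)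
    (halt : alternatingGroup S ≤ (toPermHom G S).range)
    (hc : 2 * (Γ.image φ).card < Fintype.card S)
    {x₀ v : Ω} (hx₀ : x₀ ∉ Γ) (hv : x₀ ≠ v) (hφv : φ v = φ x₀) : False := by
  classical
  set ρ := toPermHom G S with hρ
  have hρapp : ∀ (g : G) (σ : S), ρ g σ = g • σ := fun g σ => rfl
  have hinj : Function.Injective ρ := by
    rw [injective_iff_map_eq_one]
    intro g hg
    apply hfaith
    intro σ
    rw [← hρapp, hg]; rfl
  set σ₀ := φ x₀ with hσ₀
  have hσ₀im : σ₀ ∉ Γ.image φ := by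
    intro h
    obtain ⟨γ, hγ, hγσ⟩ := Finset.mem_image.1 h
    exact hx₀ (mem_of_fibre φ hφ hsurj hfaith Γ hJ hΓ2 hγ hγσ)
  have hfibΓ : ∀ ω : Ω, φ ω = σ₀ → ω ∉ Γ := by
    intro ω hω hωΓ
    exact hσ₀im (hω ▸ Finset.mem_image_of_mem φ hωΓ)
  -- properties of elements of `H`
  have hHfix : ∀ h : G, (∀ z ∈ Γᶜ, h • z = z) → ∀ ω : Ω, φ ω = σ₀ → h • ω = ω :=
    fun h hfix ω hω => hfix ω (Finset.mem_compl.2 (hfibΓ ω hω))
  have hHσ₀ : ∀ h : G, (∀ z ∈ Γᶜ, h • z = z) → h • σ₀ = σ₀ := by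
    intro h hfix
    rw [hσ₀, ← hφ, hfix x₀ (Finset.mem_compl.2 hx₀)]
  have hHsupp : ∀ h : G, (∀ z ∈ Γᶜ, h • z = z) → (ρ h).support ⊆ Γ.image φ := by
    intro h hfix σ hσ
    rw [Perm.mem_support] at hσ
    by_contra hcon
    apply hσ
    obtain ⟨ω, rfl⟩ := hsurj σ
    have hω : ω ∉ Γ := fun hω => hcon (Finset.mem_image_of_mem φ hω)
    rw [hρapp, ← hφ, hfix ω (Finset.mem_compl.2 hω)]
  -- `|Γ| ≥ 4`
  have hc2 := two_le_card_image φ hφ hsurj hfaith Γ hJ hΓ2
  have hb2 : 2 ≤ (Finset.univ.filter (fun ω => φ ω = σ₀)).card := by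
    have : ({x₀, v} : Finset Ω) ⊆ Finset.univ.filter (fun ω => φ ω = σ₀) := by
      intro ω hω
      rw [Finset.mem_insert, Finset.mem_singleton] at hω
      simp only [Finset.mem_filter, Finset.mem_univ, true_and]
      rcases hω with rfl | rfl
      · rfl
      · exact hφv
    have h1 := Finset.card_le_card this
    rwa [Finset.card_pair hv] at h1
  have hΓ4 : 4 ≤ Γ.card := by
    rw [card_eq_fibre_mul φ hφ hsurj hfaith Γ hJ hΓ2 σ₀]
    calc 4 = 2 * 2 := rfl
      _ ≤ _ := Nat.mul_le_mul hb2 hc2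
  -- an even non-identity element of `H`
  obtain ⟨a₁, ha₁fix, ha₁ne, ha₁sign⟩ : ∃ a : G, (∀ z ∈ Γᶜ, a • z = z) ∧ a ≠ 1 ∧
      Perm.sign (ρ a) = 1 := by
    obtain ⟨γ₁, hγ₁, γ₂, hγ₂, γ₃, hγ₃, h12, h13, h23⟩ :=
      Finset.two_lt_card.1 (by omega : 2 < Γ.card)
    obtain ⟨h₁, hfix₁, hh₁⟩ := hJ γ₁ γ₂ (by simpa using hγ₁) (by simpa using hγ₂)
    obtain ⟨h₂, hfix₂, hh₂⟩ := hJ γ₁ γ₃ (by simpa using hγ₁) (by simpa using hγ₃)
    have hne₁ : h₁ ≠ 1 := by
      rintro rfl; rw [one_smul] at hh₁; exact h12 hh₁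
    have hne₂ : h₂ ≠ 1 := by
      rintro rfl; rw [one_smul] at hh₂; exact h13 hh₂
    have hne₁₂ : h₁⁻¹ * h₂ ≠ 1 := by
      intro h
      have : h₂ = h₁ := by
        have := congrArg (fun t => h₁ * t) h
        simpa using this
      rw [this, hh₁] at hh₂
      exact h23 hh₂
    rcases Int.units_eq_one_or (Perm.sign (ρ h₁)) with hs₁ | hs₁
    · exact ⟨h₁, hfix₁, hne₁, hs₁⟩
    rcases Int.units_eq_one_or (Perm.sign (ρ h₂)) with hs₂ | hs₂
    · exact ⟨h₂, hfix₂, hne₂, hs₂⟩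
    refine ⟨h₁⁻¹ * h₂, ?_, hne₁₂, ?_⟩
    · intro z hz
      rw [mul_smul, hfix₂ z hz, inv_smul_eq_iff, hfix₁ z hz]
    · rw [map_mul, map_mul, map_inv, map_inv, hs₁, hs₂]
      decide
  -- `|S| ≥ 7`
  have hρa₁ : ρ a₁ ≠ 1 := fun h => ha₁ne (hinj (h.trans (map_one ρ).symm))
  have hc3 : 3 ≤ (Γ.image φ).card := by
    have h1 := Finset.card_le_card (hHsupp a₁ ha₁fix)
    have h2 : (ρ a₁).support.card ≠ 0 := by
      rw [Ne, Finset.card_eq_zero, Perm.support_eq_empty_iff]; exact hρa₁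
    have h3 := Perm.card_support_ne_one (ρ a₁)
    have h4 : (ρ a₁).support.card ≠ 2 := by
      intro h
      have := (Perm.card_support_eq_two.1 h).sign_eq
      rw [ha₁sign] at this
      exact absurd this (by decide)
    omega
  -- the alternating group on the complement of `σ₀`
  have hcardS' : Fintype.card {σ : S // σ ≠ σ₀} = Fintype.card S - 1 := by
    have := Fintype.card_subtype_compl (fun σ : S => σ = σ₀)
    rw [Fintype.card_subtype_eq] at this
    exact this
  have hsimple : IsSimpleGroup (alternatingGroup {σ : S // σ ≠ σ₀}) :=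
    alternatingGroup.isSimpleGroup (by rw [Nat.card_eq_fintype_card, hcardS']; omega)
  let ι : Perm {σ : S // σ ≠ σ₀} →* Perm S := Perm.ofSubtype
  have hιfix : ∀ τ : Perm {σ : S // σ ≠ σ₀}, ι τ σ₀ = σ₀ := fun τ =>
    Perm.ofSubtype_apply_of_not_mem τ (by simp)
  let e : G ≃* ρ.range := MonoidHom.ofInjective hinj
  let j : alternatingGroup {σ : S // σ ≠ σ₀} →* ρ.range :=
    (ι.comp (alternatingGroup {σ : S // σ ≠ σ₀}).subtype).codRestrict ρ.range (fun τ => by
      apply halt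
      rw [Perm.mem_alternatingGroup]
      show Perm.sign (Perm.ofSubtype (τ : Perm {σ : S // σ ≠ σ₀})) = 1
      rw [Perm.sign_ofSubtype]
      exact Perm.mem_alternatingGroup.1 τ.2)
  let F : alternatingGroup {σ : S // σ ≠ σ₀} →* G := e.symm.toMonoidHom.comp j
  have hF : ∀ τ : alternatingGroup {σ : S // σ ≠ σ₀}, ρ (F τ) = ι τ := by
    intro τ
    have h1 : (e (F τ) : Perm S) = ρ (F τ) := MonoidHom.ofInjective_apply hinj
    have h2 : e (F τ) = j τ := by
      show e (e.symm (j τ)) = j τ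
      exact e.apply_symm_apply _
    rw [← h1, h2]
    rfl
  have hFσ₀ : ∀ τ : alternatingGroup {σ : S // σ ≠ σ₀}, F τ • σ₀ = σ₀ := by
    intro τ
    rw [← hρapp, hF]; exact hιfix _
  -- lifting even elements fixing `σ₀`
  have hlift : ∀ g : G, g • σ₀ = σ₀ → Perm.sign (ρ g) = 1 →
      ∃ τ : alternatingGroup {σ : S // σ ≠ σ₀}, F τ = g := by
    intro g hg hsign
    have h₁ : ∀ σ : S, (ρ g σ ≠ σ₀) ↔ (σ ≠ σ₀) := by
      intro σ
      rw [hρapp, not_iff_not]
      constructor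
      · intro h
        rw [← hg] at h
        exact MulAction.injective g h
      · intro h
        rw [h, hg]
    have h₂ : ∀ σ : S, ρ g σ ≠ σ → σ ≠ σ₀ := by
      intro σ h hσ
      apply h
      rw [hσ, hρapp, hg]
    have hsign' : Perm.sign (Perm.subtypePerm (p := fun σ : S => σ ≠ σ₀) (ρ g) h₁) = 1 := by
      rw [Perm.sign_subtypePerm (p := fun σ : S => σ ≠ σ₀) (ρ g) h₁ h₂]; exact hsign
    refine ⟨⟨Perm.subtypePerm (p := fun σ : S => σ ≠ σ₀) (ρ g) h₁,
      Perm.mem_alternatingGroup.2 hsign'⟩, ?_⟩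
    apply hinj
    rw [hF]
    exact Perm.ofSubtype_subtypePerm (p := fun σ : S => σ ≠ σ₀) h₁ h₂
  -- the pointwise stabiliser of the fibre over `σ₀`
  let K : Subgroup G :=
    { carrier := {g | ∀ ω : Ω, φ ω = σ₀ → g • ω = ω}
      one_mem' := fun ω _ => one_smul G ω
      mul_mem' := by
        intro a b ha hb ω hω
        rw [mul_smul, hb ω hω, ha ω hω]
      inv_mem' := by
        intro a ha ω hω
        rw [inv_smul_eq_iff, ha ω hω] }
  have hKmem : ∀ g : G, g ∈ K ↔ ∀ ω : Ω, φ ω = σ₀ → g • ω = ω := fun g => Iff.rfl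
  have hKnormal : (K.comap F).Normal := by
    constructor
    intro k hk τ
    rw [Subgroup.mem_comap, hKmem] at hk ⊢
    intro ω hω
    rw [map_mul, map_mul, map_inv, mul_smul, mul_smul]
    have h1 : φ ((F τ)⁻¹ • ω) = σ₀ := by
      rw [hφ, hω, inv_smul_eq_iff, hFσ₀]
    rw [hk _ h1, smul_inv_smul]
  -- the lift of `a₁` is a non-identity element of `K.comap F`
  obtain ⟨τ₁, hτ₁⟩ := hlift a₁ (hHσ₀ a₁ ha₁fix) ha₁sign
  have hτ₁K : τ₁ ∈ K.comap F := by
    rw [Subgroup.mem_comap, hτ₁, hKmem]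
    exact hHfix a₁ ha₁fix
  have hτ₁ne : τ₁ ≠ 1 := by
    rintro rfl
    rw [map_one] at hτ₁
    exact ha₁ne hτ₁.symm
  have htop : K.comap F = ⊤ := by
    rcases hKnormal.eq_bot_or_eq_top with h | h
    · exfalso
      rw [h, Subgroup.mem_bot] at hτ₁K
      exact hτ₁ne hτ₁K
    · exact h
  -- the even elements form a transitive normal subgroup
  let A : Subgroup G := (alternatingGroup S).comap ρ
  have hAn : A.Normal := Subgroup.Normal.comap inferInstance ρ
  have hAne : A ≠ ⊥ := by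
    intro h
    have : a₁ ∈ A := by
      rw [Subgroup.mem_comap, Perm.mem_alternatingGroup]; exact ha₁sign
    rw [h, Subgroup.mem_bot] at this
    exact ha₁ne this
  have hAtr := hqp A hAn hAne
  obtain ⟨a, ha⟩ := hAtr.exists_smul_eq x₀ v
  have ha' : (a : G) • x₀ = v := ha
  have haσ₀ : (a : G) • σ₀ = σ₀ := by
    rw [hσ₀, ← hφ, ha', hφv]
  have hasign : Perm.sign (ρ (a : G)) = 1 := Perm.mem_alternatingGroup.1 a.2
  obtain ⟨τa, hτa⟩ := hlift a haσ₀ hasign
  have hτaK : τa ∈ K.comap F := by rw [htop]; trivial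
  rw [Subgroup.mem_comap, hτa, hKmem] at hτaK
  have := hτaK x₀ rfl
  rw [ha'] at this
  exact hv this.symm

end quotient

end Cfsg.Agent.Helper2.Marg
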