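import Mathlib
import Cfsg.Agent.Helper2.MargQP

/-!
# Marggraf's theorem: a quasiprimitive group with a small Jordan set is primitive
-/

set_option autoImplicit false
set_option linter.unusedSectionVars false

namespace Cfsg.Agent.Helper2.Marg

open MulAction SubMulAction Equiv
open scoped Pointwise

universe u v

/-- A faithful quasiprimitive group with a Jordan set `Γ`, `1 < |Γ| < |Ω|/2`, is primitive. -/
theorem primitive_of_quasiprimitive {G : Type u} {Ω : Type v} [Group G] [Finite G]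
    [MulAction G Ω] [Fintype Ω] [DecidableEq Ω]
    (hqp : ∀ N : Subgroup G, N.Normal → N ≠ ⊥ → IsPretransitive N Ω)
    (Γ : Finset Ω) (h2 : 2 ≤ Γ.card) (hn : 2 * Γ.card < Fintype.card Ω) (hJ : IsFlat G Γᶜ) :
    IsPreprimitive G Ω := by
  classical
  -- two points of `Γ`
  obtain ⟨γ₁, hγ₁, γ₂, hγ₂, hγne⟩ := Finset.one_lt_card.1 (by omega : 1 < Γ.card)
  obtain ⟨k₀, -, hk₀⟩ := hJ γ₁ γ₂ (by simpa using hγ₁) (by simpa using hγ₂)
  have hk₀1 : k₀ ≠ 1 := by
    rintro rfl; rw [one_smul] at hk₀; exact hγne hk₀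
  -- `G` is transitive
  have htr : IsPretransitive G Ω := by
    have htop : (⊤ : Subgroup G) ≠ ⊥ := by
      intro h
      apply hk₀1
      have : k₀ ∈ (⊤ : Subgroup G) := trivial
      rw [h, Subgroup.mem_bot] at this
      exact this
    have h1 := hqp ⊤ inferInstance htop
    constructor
    intro x y
    obtain ⟨g, hg⟩ := h1.exists_smul_eq x y
    exact ⟨g, hg⟩
  have hnt : Nontrivial Ω := ⟨⟨γ₁, γ₂, hγne⟩⟩
  -- a point outside `Γ`
  obtain ⟨x₀, hx₀⟩ : ∃ x : Ω, x ∉ Γ := by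
    by_contra hcon
    push Not at hcon
    have : Γ = Finset.univ := Finset.eq_univ_iff_forall.2 hcon
    rw [this, Finset.card_univ] at hn
    omega
  by_cases hco : IsCoatom (stabilizer G x₀)
  · exact (isCoatom_stabilizer_iff_preprimitive (G := G) (a := x₀)).1 hco
  exfalso
  have hstab_ne : stabilizer G x₀ ≠ ⊤ := by
    intro h
    obtain ⟨g, hg⟩ := exists_smul_eq G γ₁ γ₂
    obtain ⟨a, ha⟩ := exists_smul_eq G x₀ γ₁
    obtain ⟨b, hb⟩ := exists_smul_eq G x₀ γ₂
    have h1 : ∀ c : G, c • x₀ = x₀ := by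
      intro c
      have : c ∈ stabilizer G x₀ := by rw [h]; trivial
      exact this
    apply hγne
    rw [← ha, ← hb, h1 a, h1 b]
  obtain ⟨M, hM, hle⟩ := (eq_top_or_exists_le_coatom (stabilizer G x₀)).resolve_left hstab_ne
  have hMne : stabilizer G x₀ ≠ M := fun h => hco (h ▸ hM)
  have hlt : stabilizer G x₀ < M := lt_of_le_of_ne hle hMne
  obtain ⟨m₀, hm₀M, hm₀⟩ := SetLike.exists_of_lt hlt
  -- the quotient action
  let _ : Fintype (G ⧸ M) := Fintype.ofFinite _
  have hMtop : M ≠ ⊤ := hM.1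
  obtain ⟨g₁, hg₁⟩ : ∃ g : G, g ∉ M := by
    by_contra hcon
    push Not at hcon
    exact hMtop (Subgroup.eq_top_iff' M |>.2 hcon)
  have hntS : Nontrivial (G ⧸ M) := by
    refine ⟨⟨((1 : G) : G ⧸ M), (g₁ : G ⧸ M), ?_⟩⟩
    intro h
    rw [QuotientGroup.eq] at h
    apply hg₁
    simpa using h
  have hprimS : IsPreprimitive G (G ⧸ M) := by
    rw [← isCoatom_stabilizer_iff_preprimitive (G := G) (a := ((1 : G) : G ⧸ M)),
      MulAction.stabilizer_quotient]
    exact hM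
  -- the map `φ`
  let φ : Ω → G ⧸ M := fun ω => ((Classical.choose (exists_smul_eq G x₀ ω) : G) : G ⧸ M)
  have hφx₀ : ∀ g : G, φ (g • x₀) = (g : G ⧸ M) := by
    intro g
    have hc := Classical.choose_spec (exists_smul_eq G x₀ (g • x₀))
    show ((Classical.choose (exists_smul_eq G x₀ (g • x₀)) : G) : G ⧸ M) = (g : G ⧸ M)
    rw [QuotientGroup.eq]
    apply hle
    rw [mem_stabilizer_iff, mul_smul, inv_smul_eq_iff, hc]
  have hφ : ∀ (g : G) (ω : Ω), φ (g • ω) = g • φ ω := by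
    intro g ω
    obtain ⟨k, rfl⟩ := exists_smul_eq G x₀ ω
    rw [← mul_smul, hφx₀, hφx₀]
    rfl
  have hsurj : Function.Surjective φ := by
    intro σ
    obtain ⟨g, rfl⟩ := QuotientGroup.mk_surjective σ
    exact ⟨g • x₀, hφx₀ g⟩
  have hφ1 : φ x₀ = ((1 : G) : G ⧸ M) := by
    have := hφx₀ 1
    rwa [one_smul] at this
  have hfaith : ∀ g : G, (∀ σ : G ⧸ M, g • σ = σ) → g = 1 := by
    intro g hg
    let N : Subgroup G := (toPermHom G (G ⧸ M)).ker
    have hNn : N.Normal := inferInstance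
    have hgN : g ∈ N := by
      rw [MonoidHom.mem_ker]
      ext σ
      exact hg σ
    by_contra hg1
    have hNne : N ≠ ⊥ := by
      intro h
      rw [h, Subgroup.mem_bot] at hgN
      exact hg1 hgN
    have hNtr := hqp N hNn hNne
    apply hg₁
    obtain ⟨n, hn'⟩ := hNtr.exists_smul_eq x₀ (g₁ • x₀)
    have hn'' : (n : G) • x₀ = g₁ • x₀ := hn'
    have hnS : ∀ σ : G ⧸ M, (n : G) • σ = σ := by
      intro σ
      have := n.2
      rw [MonoidHom.mem_ker] at this
      have h3 := congrArg (fun p : Perm (G ⧸ M) => p σ) this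
      exact h3
    have h4 : φ (g₁ • x₀) = φ x₀ := by
      rw [← hn'', hφ, hnS]
    rw [hφx₀, hφ1, QuotientGroup.eq] at h4
    have h5 : g₁⁻¹ ∈ M := by simpa using h4
    exact (Subgroup.inv_mem_iff M).1 h5
  have hv : x₀ ≠ m₀ • x₀ := fun h => hm₀ h.symm
  have hφv : φ (m₀ • x₀) = φ x₀ := by
    rw [hφx₀, hφ1, QuotientGroup.eq]
    simpa using hm₀M
  have hflat := isFlat_image φ hφ hsurj hfaith Γ hJ h2
  have hc2 := two_le_card_image φ hφ hsurj hfaith Γ hJ h2
  have hc := two_mul_card_image_lt φ hφ hsurj hfaith Γ hJ h2 hn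
  obtain ⟨g, hg3⟩ := core hprimS (Γ.image φ) hc2 hc hflat
  have halt := alt_le_range_of_is3 hprimS hg3
  exact false_of_alt φ hφ hsurj hfaith Γ hJ h2 hqp halt hc hx₀ hv hφv

end Cfsg.Agent.Helper2.Marg
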