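import Mathlib

set_option autoImplicit false

namespace Cfsg.Agent.Helper2.MatGen

/-- Build a list of monoid elements by a breadth first search recipe: each step `(p, g)` appends
the product of the `p`-th element found so far with the `g`-th generator. -/
def build {M : Type*} [Mul M] [One M] (gens : List M) : List (ℕ × ℕ) → List M → List M
  | [], acc => acc
  | (p, g) :: rest, acc => build gens rest (acc ++ [acc.getD p 1 * gens.getD g 1])

theorem getD_mem_or {α : Type*} (l : List α) (n : ℕ) (d : α) : l.getD n d ∈ l ∨ l.getD n d = d := by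
  rw [List.getD_eq_getElem?_getD]
  rcases h : l[n]? with _ | a
  · right; rfl
  · left
    simp only [Option.getD_some]
    exact List.mem_of_getElem? h

theorem build_forall {M : Type*} [Monoid M] (P : M → Prop) (h1 : P 1)
    (hmul : ∀ x y, P x → P y → P (x * y)) (gens : List M) (hg : ∀ g ∈ gens, P g) :
    ∀ (steps : List (ℕ × ℕ)) (acc : List M), (∀ x ∈ acc, P x) →
      ∀ x ∈ build gens steps acc, P x := by
  intro steps
  induction steps with
  | nil => intro acc hacc x hx; exact hacc x hx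
  | cons s rest ih =>
    intro acc hacc x hx
    obtain ⟨p, g⟩ := s
    apply ih (acc ++ [acc.getD p 1 * gens.getD g 1]) _ x hx
    intro y hy
    rw [List.mem_append, List.mem_singleton] at hy
    rcases hy with hy | rfl
    · exact hacc y hy
    · apply hmul
      · rcases getD_mem_or acc p 1 with h | h
        · exact hacc _ h
        · rw [h]; exact h1
      · rcases getD_mem_or gens g 1 with h | h
        · exact hg _ h
        · rw [h]; exact h1

section glue

variable {G M : Type*} [Group G] [Monoid M] (ι : G →* M) (hι : Function.Injective ι)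
  (s : Set G) (S : List M)

include hι in
theorem card_closure_eq (hS1 : (1 : M) ∈ S)
    (hSmul : ∀ x ∈ S, ∀ g ∈ s, x * ι g ∈ S ∧ x * ι g⁻¹ ∈ S)
    (hSgen : ∀ x ∈ S, ∃ h ∈ Subgroup.closure s, ι h = x) (hnodup : S.Nodup) :
    Nat.card ↥(Subgroup.closure s) = S.length ∧ ∀ h ∈ Subgroup.closure s, ι h ∈ S := by
  classical
  have hmem : ∀ h ∈ Subgroup.closure s, ι h ∈ S := by
    intro h hh
    induction hh using Subgroup.closure_induction_right with
    | one => rw [map_one]; exact hS1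
    | mul_right x hx y hy ih => rw [map_mul]; exact (hSmul _ ih y hy).1
    | mul_inv_cancel x hx y hy ih => rw [map_mul]; exact (hSmul _ ih y hy).2
  refine ⟨?_, hmem⟩
  let f : ↥(Subgroup.closure s) → {x : M // x ∈ S} := fun h => ⟨ι h.1, hmem h.1 h.2⟩
  have hbij : Function.Bijective f := by
    constructor
    · intro a b h
      exact Subtype.ext (hι (congrArg Subtype.val h))
    · rintro ⟨x, hx⟩
      obtain ⟨h, hh, rfl⟩ := hSgen x hx
      exact ⟨⟨h, hh⟩, rfl⟩
  rw [Nat.card_eq_of_bijective f hbij]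
  have e : Nat.card {x : M // x ∈ S} = Nat.card ↥S.toFinset :=
    Nat.card_congr (Equiv.subtypeEquivRight fun x => by simp)
  rw [e, Nat.card_eq_fintype_card, Fintype.card_coe, List.toFinset_card_of_nodup hnodup]

end glue

section regular

variable {R : Type*} [CommRing R] (s : Set (Matrix.GeneralLinearGroup (Fin 2) R))
  (S : List (Matrix (Fin 2) (Fin 2) R)) (v₀ : Fin 2 → R)

theorem regular_of_base
    (hmem : ∀ h ∈ Subgroup.closure s, ((h : Matrix.GeneralLinearGroup (Fin 2) R) :
      Matrix (Fin 2) (Fin 2) R) ∈ S)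
    (hSgen : ∀ x ∈ S, ∃ h ∈ Subgroup.closure s,
      ((h : Matrix.GeneralLinearGroup (Fin 2) R) : Matrix (Fin 2) (Fin 2) R) = x)
    (ha : ∀ w : Fin 2 → R, w ≠ 0 → ∃ x ∈ S, Matrix.mulVec x v₀ = w)
    (hb : ∀ x ∈ S, Matrix.mulVec x v₀ = v₀ → x = 1) :
    ∀ v w : Fin 2 → R, v ≠ 0 → w ≠ 0 → ∃! h : Subgroup.closure s,
      Matrix.mulVec ((h : Matrix.GeneralLinearGroup (Fin 2) R) : Matrix (Fin 2) (Fin 2) R) v = w := by
  intro v w hv hw
  obtain ⟨x, hx, hxv⟩ := ha v hv
  obtain ⟨g, hg, rfl⟩ := hSgen x hx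
  obtain ⟨y, hy, hyw⟩ := ha w hw
  obtain ⟨k, hk, rfl⟩ := hSgen y hy
  have hginv : Matrix.mulVec ((g⁻¹ : Matrix.GeneralLinearGroup (Fin 2) R) :
      Matrix (Fin 2) (Fin 2) R) v = v₀ := by
    rw [← hxv, Matrix.mulVec_mulVec, ← Matrix.GeneralLinearGroup.coe_mul, inv_mul_cancel]
    simp
  refine ⟨⟨k * g⁻¹, mul_mem hk (inv_mem hg)⟩, ?_, ?_⟩
  · show Matrix.mulVec ((k * g⁻¹ : Matrix.GeneralLinearGroup (Fin 2) R) :
      Matrix (Fin 2) (Fin 2) R) v = w
    rw [Matrix.GeneralLinearGroup.coe_mul, ← Matrix.mulVec_mulVec, hginv, hyw]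
  · rintro ⟨h', hh'⟩ hh'v
    have hh'v' : Matrix.mulVec ((h' : Matrix.GeneralLinearGroup (Fin 2) R) :
      Matrix (Fin 2) (Fin 2) R) v = w := hh'v
    have hfix : Matrix.mulVec ((k⁻¹ * h' * g : Matrix.GeneralLinearGroup (Fin 2) R) :
        Matrix (Fin 2) (Fin 2) R) v₀ = v₀ := by
      rw [Matrix.GeneralLinearGroup.coe_mul, Matrix.GeneralLinearGroup.coe_mul,
        ← Matrix.mulVec_mulVec, ← Matrix.mulVec_mulVec, hxv, hh'v', ← hyw, Matrix.mulVec_mulVec,
        ← Matrix.GeneralLinearGroup.coe_mul, inv_mul_cancel]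
      simp
    have h1 := hb _ (hmem _ (mul_mem (mul_mem (inv_mem hk) hh') hg)) hfix
    have h2 : k⁻¹ * h' * g = 1 := by
      apply Units.ext
      rw [h1]; rfl
    apply Subtype.ext
    show h' = k * g⁻¹
    calc h' = k * (k⁻¹ * h' * g) * g⁻¹ := by group
      _ = k * g⁻¹ := by rw [h2, mul_one]

end regular

end Cfsg.Agent.Helper2.MatGen
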