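import Mathlib
import Cfsg.Agent.Helper2.MatGen

set_option autoImplicit false

namespace Cfsg.Agent.Helper2.MatGen

/-- Two by two matrices as a structure with four fields, for fast kernel computation. -/
structure M2 (R : Type*) where
  a : R
  b : R
  c : R
  d : R
deriving DecidableEq

namespace M2

variable {R : Type*} [CommRing R]

instance : Mul (M2 R) :=
  ⟨fun x y => ⟨x.a * y.a + x.b * y.c, x.a * y.b + x.b * y.d,
    x.c * y.a + x.d * y.c, x.c * y.b + x.d * y.d⟩⟩

instance : One (M2 R) := ⟨⟨1, 0, 0, 1⟩⟩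

theorem mul_def (x y : M2 R) : x * y = ⟨x.a * y.a + x.b * y.c, x.a * y.b + x.b * y.d,
    x.c * y.a + x.d * y.c, x.c * y.b + x.d * y.d⟩ := rfl

theorem one_def : (1 : M2 R) = ⟨1, 0, 0, 1⟩ := rfl

theorem ext' {x y : M2 R} (ha : x.a = y.a) (hb : x.b = y.b) (hc : x.c = y.c) (hd : x.d = y.d) :
    x = y := by
  cases x; cases y; simp_all

instance : Monoid (M2 R) where
  mul_assoc x y z := by
    apply ext' <;> simp only [mul_def] <;> ring
  one_mul x := by
    apply ext' <;> simp [mul_def, one_def]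
  mul_one x := by
    apply ext' <;> simp [mul_def, one_def]

/-- The matrix of an `M2`. -/
def toMat (x : M2 R) : Matrix (Fin 2) (Fin 2) R := !![x.a, x.b; x.c, x.d]

/-- The `M2` of a matrix. -/
def ofMat (m : Matrix (Fin 2) (Fin 2) R) : M2 R := ⟨m 0 0, m 0 1, m 1 0, m 1 1⟩

theorem toMat_ofMat (m : Matrix (Fin 2) (Fin 2) R) : toMat (ofMat m) = m := by
  ext i j
  fin_cases i <;> fin_cases j <;> rfl

theorem ofMat_toMat (x : M2 R) : ofMat (toMat x) = x := by
  apply ext' <;> simp [ofMat, toMat]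

theorem ofMat_mul (m n : Matrix (Fin 2) (Fin 2) R) : ofMat (m * n) = ofMat m * ofMat n := by
  apply ext' <;> simp [ofMat, mul_def, Matrix.mul_apply, Fin.sum_univ_two]

theorem ofMat_one : ofMat (1 : Matrix (Fin 2) (Fin 2) R) = 1 := by
  apply ext' <;> simp [ofMat, one_def]

theorem toMat_one : toMat (1 : M2 R) = 1 := by
  rw [← ofMat_one, toMat_ofMat]

/-- The monoid hom from `GL (Fin 2) R` to `M2 R`. -/
def ofGL : Matrix.GeneralLinearGroup (Fin 2) R →* M2 R where
  toFun g := ofMat (g : Matrix (Fin 2) (Fin 2) R)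
  map_one' := by
    show ofMat ((1 : Matrix.GeneralLinearGroup (Fin 2) R) : Matrix (Fin 2) (Fin 2) R) = 1
    rw [Matrix.GeneralLinearGroup.coe_one, ofMat_one]
  map_mul' g h := by
    show ofMat ((g * h : Matrix.GeneralLinearGroup (Fin 2) R) : Matrix (Fin 2) (Fin 2) R) = _
    rw [Matrix.GeneralLinearGroup.coe_mul, ofMat_mul]

theorem ofGL_apply (g : Matrix.GeneralLinearGroup (Fin 2) R) :
    ofGL g = ofMat (g : Matrix (Fin 2) (Fin 2) R) := rfl

theorem toMat_ofGL (g : Matrix.GeneralLinearGroup (Fin 2) R) :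
    toMat (ofGL g) = (g : Matrix (Fin 2) (Fin 2) R) := toMat_ofMat _

theorem ofGL_injective : Function.Injective (ofGL : Matrix.GeneralLinearGroup (Fin 2) R → M2 R) := by
  intro g h hgh
  apply Units.ext
  have := congrArg toMat hgh
  rwa [toMat_ofGL, toMat_ofGL] at this

theorem ofGL_eq_of_coe {g : Matrix.GeneralLinearGroup (Fin 2) R} {a b c d : R}
    (h : (g : Matrix (Fin 2) (Fin 2) R) = !![a, b; c, d]) : ofGL g = ⟨a, b, c, d⟩ := by
  rw [ofGL_apply, h]
  apply ext' <;> simp [ofMat]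

theorem toMat_mulVec (x : M2 R) : Matrix.mulVec (toMat x) ![1, 0] = ![x.a, x.c] := by
  ext i
  fin_cases i <;> simp [toMat, Matrix.mulVec, dotProduct, Fin.sum_univ_two]

end M2

section glue2

variable {G M : Type*} [Group G] [Monoid M] (ι : G →* M) (hι : Function.Injective ι)
  (s : Set G) (S : List M)

include hι in
theorem card_closure_eq' (hS1 : (1 : M) ∈ S)
    (hSmul : ∀ x ∈ S, ∀ g ∈ s, x * ι g ∈ S)
    (hSgen : ∀ x ∈ S, ∃ h ∈ Subgroup.closure s, ι h = x) (hnodup : S.Nodup) :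
    Nat.card ↥(Subgroup.closure s) = S.length ∧ ∀ h ∈ Subgroup.closure s, ι h ∈ S := by
  classical
  apply card_closure_eq ι hι s S hS1 _ hSgen hnodup
  intro x hx g hg
  refine ⟨hSmul x hx g hg, ?_⟩
  let f : {y : M // y ∈ S} → {y : M // y ∈ S} := fun y => ⟨y.1 * ι g, hSmul y.1 y.2 g hg⟩
  have hcancel : ι g * ι g⁻¹ = 1 := by rw [← map_mul, mul_inv_cancel, map_one]
  have hfin : Finite {y : M // y ∈ S} := by
    have : Finite ↥S.toFinset := inferInstance
    exact Finite.of_equiv _ (Equiv.subtypeEquivRight (fun y => by simp) :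
      ↥S.toFinset ≃ {y : M // y ∈ S})
  have hinj : Function.Injective f := by
    intro y z hyz
    have h1 : y.1 * ι g = z.1 * ι g := congrArg Subtype.val hyz
    apply Subtype.ext
    calc y.1 = y.1 * ι g * ι g⁻¹ := by rw [mul_assoc, hcancel, mul_one]
      _ = z.1 * ι g * ι g⁻¹ := by rw [h1]
      _ = z.1 := by rw [mul_assoc, hcancel, mul_one]
  obtain ⟨y, hy⟩ := (Finite.injective_iff_surjective.mp hinj) ⟨x, hx⟩
  have h2 : y.1 * ι g = x := congrArg Subtype.val hy
  rw [← h2, mul_assoc, hcancel, mul_one]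
  exact y.2

end glue2

section regular2

variable {R : Type*} [CommRing R] (s : Set (Matrix.GeneralLinearGroup (Fin 2) R))
  (S : List (M2 R))

theorem regular_of_base'
    (hmem : ∀ h ∈ Subgroup.closure s, M2.ofGL h ∈ S)
    (hSgen : ∀ x ∈ S, ∃ h ∈ Subgroup.closure s, M2.ofGL h = x)
    (ha : ∀ a c : R, (a ≠ 0 ∨ c ≠ 0) → ∃ x ∈ S, x.a = a ∧ x.c = c)
    (hb : ∀ x ∈ S, x.a = 1 → x.c = 0 → x = 1) :
    ∀ v w : Fin 2 → R, v ≠ 0 → w ≠ 0 → ∃! h : Subgroup.closure s,
      Matrix.mulVec ((h : Matrix.GeneralLinearGroup (Fin 2) R) : Matrix (Fin 2) (Fin 2) R) v = w := by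
  apply regular_of_base s (S.map M2.toMat) ![1, 0]
  · intro h hh
    rw [List.mem_map]
    exact ⟨_, hmem h hh, M2.toMat_ofGL h⟩
  · intro x hx
    rw [List.mem_map] at hx
    obtain ⟨y, hy, rfl⟩ := hx
    obtain ⟨h, hh, rfl⟩ := hSgen y hy
    exact ⟨h, hh, (M2.toMat_ofGL h).symm⟩
  · intro w hw
    have hw' : w 0 ≠ 0 ∨ w 1 ≠ 0 := by
      by_contra hcon
      rw [not_or, not_not, not_not] at hcon
      apply hw
      ext i
      fin_cases i
      · exact hcon.1
      · exact hcon.2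
    obtain ⟨x, hx, hxa, hxc⟩ := ha _ _ hw'
    refine ⟨M2.toMat x, List.mem_map.mpr ⟨x, hx, rfl⟩, ?_⟩
    rw [M2.toMat_mulVec, hxa, hxc]
    ext i
    fin_cases i <;> rfl
  · intro x hx hfix
    rw [List.mem_map] at hx
    obtain ⟨y, hy, rfl⟩ := hx
    rw [M2.toMat_mulVec] at hfix
    have h0 : y.a = 1 := by simpa using congrFun hfix 0
    have h1 : y.c = 0 := by simpa using congrFun hfix 1
    rw [hb y hy h0 h1, M2.toMat_one]

end regular2

end Cfsg.Agent.Helper2.MatGen
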