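import Mathlib
import Cfsg.Agent.Helper2.MatGen2

set_option autoImplicit false

namespace Cfsg.Agent.Helper2.MatGen

section abs

variable {R : Type*} [CommRing R]

theorem regular_of_base_abs (K : Subgroup (Matrix.GeneralLinearGroup (Fin 2) R)) (v₀ : Fin 2 → R)
    (ha : ∀ w : Fin 2 → R, w ≠ 0 → ∃ g ∈ K,
      Matrix.mulVec ((g : Matrix.GeneralLinearGroup (Fin 2) R) : Matrix (Fin 2) (Fin 2) R) v₀ = w)
    (hb : ∀ g ∈ K,
      Matrix.mulVec ((g : Matrix.GeneralLinearGroup (Fin 2) R) : Matrix (Fin 2) (Fin 2) R) v₀ = v₀ →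
        g = 1) :
    ∀ v w : Fin 2 → R, v ≠ 0 → w ≠ 0 → ∃! h : K,
      Matrix.mulVec ((h : Matrix.GeneralLinearGroup (Fin 2) R) : Matrix (Fin 2) (Fin 2) R) v = w := by
  intro v w hv hw
  obtain ⟨g, hg, hxv⟩ := ha v hv
  obtain ⟨k, hk, hyw⟩ := ha w hw
  have hginv : Matrix.mulVec ((g⁻¹ : Matrix.GeneralLinearGroup (Fin 2) R) :
      Matrix (Fin 2) (Fin 2) R) v = v₀ := by
    rw [← hxv, Matrix.mulVec_mulVec, ← Matrix.GeneralLinearGroup.coe_mul, inv_mul_cancel]
    simp
  refine ⟨⟨k * g⁻¹, mul_mem hk (inv_mem hg)⟩, ?_, ?_⟩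
  · show Matrix.mulVec ((k * g⁻¹ : Matrix.GeneralLinearGroup (Fin 2) R) :
      Matrix (Fin 2) (Fin 2) R) v = w
    rw [Matrix.GeneralLinearGroup.coe_mul, ← Matrix.mulVec_mulVec, hginv, hyw]
  · rintro ⟨h', hh'⟩ hh'v
    have hh'v' : Matrix.mulVec ((h' : Matrix.GeneralLinearGroup (Fin 2) R) :
      Matrix (Fin 2) (Fin 2) R) v = w := hh'v
    have hfix : Matrix.mulVec ((k⁻¹ * h' * g : Matrix.GeneralLinearGroup (Fin 2) R) :
        Matrix (Fin 2) (Fin 2) R) v₀ = v₀ := by
      rw [Matrix.GeneralLinearGroup.coe_mul, Matrix.GeneralLinearGroup.coe_mul,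
        ← Matrix.mulVec_mulVec, ← Matrix.mulVec_mulVec, hxv, hh'v', ← hyw, Matrix.mulVec_mulVec,
        ← Matrix.GeneralLinearGroup.coe_mul, inv_mul_cancel]
      simp
    have h2 : k⁻¹ * h' * g = 1 := hb _ (mul_mem (mul_mem (inv_mem hk) hh') hg) hfix
    apply Subtype.ext
    show h' = k * g⁻¹
    calc h' = k * (k⁻¹ * h' * g) * g⁻¹ := by group
      _ = k * g⁻¹ := by rw [h2, mul_one]

theorem mulVec_ne_zero (g : Matrix.GeneralLinearGroup (Fin 2) R) (v : Fin 2 → R) (hv : v ≠ 0) :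
    Matrix.mulVec ((g : Matrix.GeneralLinearGroup (Fin 2) R) : Matrix (Fin 2) (Fin 2) R) v ≠ 0 := by
  intro h0
  apply hv
  have : Matrix.mulVec ((g⁻¹ * g : Matrix.GeneralLinearGroup (Fin 2) R) :
      Matrix (Fin 2) (Fin 2) R) v = 0 := by
    rw [Matrix.GeneralLinearGroup.coe_mul, ← Matrix.mulVec_mulVec, h0, Matrix.mulVec_zero]
  rw [inv_mul_cancel] at this
  simpa using this

theorem card_nonzero_vec [Fintype R] [DecidableEq R] :
    Nat.card {v : Fin 2 → R // v ≠ 0} = Fintype.card R ^ 2 - 1 := by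
  classical
  rw [Nat.card_eq_fintype_card]
  have h1 : Fintype.card {v : Fin 2 → R // v ≠ 0} =
      Fintype.card (Fin 2 → R) - Fintype.card {v : Fin 2 → R // v = 0} :=
    Fintype.card_subtype_compl _
  rw [h1, Fintype.card_subtype_eq, Fintype.card_fun, Fintype.card_fin]

/-- A subgroup generated by `s ∪ t`, with `t` central, of the right order and acting freely on the
base vector is sharply transitive on the non-zero vectors. -/
theorem sharp_of_central_product [Fintype R] [DecidableEq R] [Nontrivial R]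
    (s t : Set (Matrix.GeneralLinearGroup (Fin 2) R)) (lH lZ : List (M2 R))
    (hH : ∀ h ∈ Subgroup.closure s, M2.ofGL h ∈ lH)
    (hZ : ∀ z ∈ Subgroup.closure t, M2.ofGL z ∈ lZ)
    (hcen : ∀ z ∈ t, ∀ g : Matrix.GeneralLinearGroup (Fin 2) R, g * z = z * g)
    (hfree : ∀ x ∈ lH, ∀ y ∈ lZ, (x * y).a = 1 → (x * y).c = 0 → x = 1 ∧ y = 1)
    (hcop : Nat.Coprime (Nat.card (Subgroup.closure s)) (Nat.card (Subgroup.closure t)))
    (hcard : Nat.card (Subgroup.closure s) * Nat.card (Subgroup.closure t) =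
      Fintype.card R ^ 2 - 1) :
    Nat.card (Subgroup.closure (s ∪ t)) = Fintype.card R ^ 2 - 1 ∧
    ∀ v w : Fin 2 → R, v ≠ 0 → w ≠ 0 → ∃! h : Subgroup.closure (s ∪ t),
      Matrix.mulVec ((h : Matrix.GeneralLinearGroup (Fin 2) R) : Matrix (Fin 2) (Fin 2) R) v = w := by
  classical
  have hHG : Subgroup.closure s ≤ Subgroup.closure (s ∪ t) :=
    Subgroup.closure_mono Set.subset_union_left
  have hZG : Subgroup.closure t ≤ Subgroup.closure (s ∪ t) :=
    Subgroup.closure_mono Set.subset_union_right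
  have hZc : Subgroup.closure t ≤ Subgroup.center (Matrix.GeneralLinearGroup (Fin 2) R) := by
    rw [Subgroup.closure_le]
    intro z hz
    exact Subgroup.mem_center_iff.mpr (hcen z hz)
  have hcomm : ∀ z ∈ Subgroup.closure t, ∀ g : Matrix.GeneralLinearGroup (Fin 2) R,
      g * z = z * g := fun z hz => Subgroup.mem_center_iff.mp (hZc hz)
  have hdecomp : ∀ g ∈ Subgroup.closure (s ∪ t), ∃ h ∈ Subgroup.closure s,
      ∃ z ∈ Subgroup.closure t, g = h * z := by
    intro g hg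
    induction hg using Subgroup.closure_induction with
    | mem x hx =>
      rcases hx with hx | hx
      · exact ⟨x, Subgroup.subset_closure hx, 1, one_mem _, (mul_one x).symm⟩
      · exact ⟨1, one_mem _, x, Subgroup.subset_closure hx, (one_mul x).symm⟩
    | one => exact ⟨1, one_mem _, 1, one_mem _, (mul_one 1).symm⟩
    | mul x y _ _ ihx ihy =>
      obtain ⟨h, hh, z, hz, rfl⟩ := ihx
      obtain ⟨h', hh', z', hz', rfl⟩ := ihy
      refine ⟨h * h', mul_mem hh hh', z * z', mul_mem hz hz', ?_⟩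
      calc h * z * (h' * z') = h * (z * h') * z' := by group
        _ = h * (h' * z) * z' := by rw [hcomm z hz h']
        _ = h * h' * (z * z') := by group
    | inv x _ ih =>
      obtain ⟨h, hh, z, hz, rfl⟩ := ih
      refine ⟨h⁻¹, inv_mem hh, z⁻¹, inv_mem hz, ?_⟩
      rw [mul_inv_rev, hcomm z⁻¹ (inv_mem hz) h⁻¹]
  have h10 : (![1, 0] : Fin 2 → R) ≠ 0 := by
    intro h
    have := congrFun h 0
    simp at this
  have hb : ∀ g ∈ Subgroup.closure (s ∪ t),
      Matrix.mulVec ((g : Matrix.GeneralLinearGroup (Fin 2) R) : Matrix (Fin 2) (Fin 2) R) ![1, 0]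
        = ![1, 0] → g = 1 := by
    intro g hg hfix
    obtain ⟨h, hh, z, hz, rfl⟩ := hdecomp g hg
    have h1 := M2.toMat_mulVec (M2.ofGL (h * z))
    rw [M2.toMat_ofGL, hfix, map_mul] at h1
    have ha1 : (M2.ofGL h * M2.ofGL z).a = 1 := by simpa using (congrFun h1 0).symm
    have hc1 : (M2.ofGL h * M2.ofGL z).c = 0 := by simpa using (congrFun h1 1).symm
    obtain ⟨e1, e2⟩ := hfree _ (hH h hh) _ (hZ z hz) ha1 hc1
    have e1' : h = 1 := M2.ofGL_injective (by rw [e1, map_one])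
    have e2' : z = 1 := M2.ofGL_injective (by rw [e2, map_one])
    rw [e1', e2', mul_one]
  let f : Subgroup.closure (s ∪ t) → {v : Fin 2 → R // v ≠ 0} := fun g =>
    ⟨Matrix.mulVec ((g : Matrix.GeneralLinearGroup (Fin 2) R) : Matrix (Fin 2) (Fin 2) R) ![1, 0],
      mulVec_ne_zero _ _ h10⟩
  have hf : Function.Injective f := by
    intro g k hgk
    have h1 : Matrix.mulVec ((g : Matrix.GeneralLinearGroup (Fin 2) R) :
        Matrix (Fin 2) (Fin 2) R) ![1, 0] =
      Matrix.mulVec ((k : Matrix.GeneralLinearGroup (Fin 2) R) :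
        Matrix (Fin 2) (Fin 2) R) ![1, 0] := congrArg Subtype.val hgk
    have h2 : (k.1)⁻¹ * g.1 = 1 := by
      apply hb _ (mul_mem (inv_mem k.2) g.2)
      rw [Matrix.GeneralLinearGroup.coe_mul, ← Matrix.mulVec_mulVec, h1, Matrix.mulVec_mulVec,
        ← Matrix.GeneralLinearGroup.coe_mul, inv_mul_cancel]
      simp
    apply Subtype.ext
    calc g.1 = k.1 * ((k.1)⁻¹ * g.1) := by group
      _ = k.1 := by rw [h2, mul_one]
  have hle : Nat.card (Subgroup.closure (s ∪ t)) ≤ Fintype.card R ^ 2 - 1 := by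
    rw [← card_nonzero_vec]
    exact Nat.card_le_card_of_injective f hf
  have hdvd : Nat.card (Subgroup.closure s) * Nat.card (Subgroup.closure t) ∣
      Nat.card (Subgroup.closure (s ∪ t)) :=
    Nat.Coprime.mul_dvd_of_dvd_of_dvd hcop (Subgroup.card_dvd_of_le hHG)
      (Subgroup.card_dvd_of_le hZG)
  have hge : Fintype.card R ^ 2 - 1 ≤ Nat.card (Subgroup.closure (s ∪ t)) := by
    rw [← hcard]
    exact Nat.le_of_dvd Nat.card_pos hdvd
  have hcardG : Nat.card (Subgroup.closure (s ∪ t)) = Fintype.card R ^ 2 - 1 := le_antisymm hle hge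
  refine ⟨hcardG, ?_⟩
  have hbij : Function.Bijective f := by
    apply Function.Injective.bijective_of_nat_card_le hf
    rw [card_nonzero_vec, hcardG]
  apply regular_of_base_abs _ ![1, 0] _ hb
  intro w hw
  obtain ⟨g, hg⟩ := hbij.2 ⟨w, hw⟩
  exact ⟨g.1, g.2, congrArg Subtype.val hg⟩

end abs

end Cfsg.Agent.Helper2.MatGen
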