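import Mathlib
import Cfsg.Agent.Helper2.QD2

set_option autoImplicit false

/-! The modular `2`-group `⟨x, y | x^(2^n) = y^2 = 1, y x y⁻¹ = x^(2^(n-1)+1)⟩`, `n ≥ 3`:
normal form, squares, and the maximal subgroups avoiding `y`. -/

namespace Cfsg.Agent.Helper2.Modular

open Cfsg.Agent.Helper2.QD

variable {S : Type*} [Group S]

/-- Data of a modular group. -/
structure MDat (S : Type*) [Group S] where
  n : ℕ
  x : S
  y : S
  hn : 3 ≤ n
  card : Nat.card S = 2 ^ (n + 1)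
  hx : orderOf x = 2 ^ n
  hyo : orderOf y = 2
  hrel : y * x * y⁻¹ = x ^ (2 ^ (n - 1) + 1)

namespace MDat

variable (d : MDat S)

instance : NeZero (2 ^ d.n) := ⟨by positivity⟩

/-- half of the modulus -/
def h : ZMod (2 ^ d.n) := ((2 ^ (d.n - 1) : ℕ) : ZMod (2 ^ d.n))

/-- a quarter of the modulus -/
def q : ZMod (2 ^ d.n) := ((2 ^ (d.n - 2) : ℕ) : ZMod (2 ^ d.n))

theorem E_cast : ((2 ^ (d.n - 1) + 1 : ℕ) : ZMod (2 ^ d.n)) = d.h + 1 := by
  unfold h
  push_cast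
  rfl

theorem two_q : 2 * d.q = d.h := by
  unfold q h
  have hn := d.hn
  have : 2 * 2 ^ (d.n - 2) = 2 ^ (d.n - 1) := by
    rw [← pow_succ']; congr 1; omega
  rw [← this]; push_cast; ring

theorem two_h : 2 * d.h = 0 := by
  unfold h
  have hn := d.hn
  have : 2 * 2 ^ (d.n - 1) = 2 ^ d.n := by
    rw [← pow_succ']; congr 1; omega
  have h2 : ((2 * 2 ^ (d.n - 1) : ℕ) : ZMod (2 ^ d.n)) = 0 := by
    rw [this]; exact ZMod.natCast_self _
  rw [← h2]; push_cast; ring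

theorem h_ne_zero : d.h ≠ 0 := by
  unfold h
  rw [Ne, ZMod.natCast_eq_zero_iff]
  intro hd
  have h1 := Nat.le_of_dvd (by positivity) hd
  have hn := d.hn
  have h2 : 2 ^ (d.n - 1) < 2 ^ d.n := Nat.pow_lt_pow_right (by norm_num) (by omega)
  omega

theorem h_mul_q : d.h * d.q = 0 := by
  unfold h q
  have hn := d.hn
  have : 2 ^ (d.n - 1) * 2 ^ (d.n - 2) = 2 ^ d.n * 2 ^ (d.n - 3) := by
    rw [← pow_add, ← pow_add]; congr 1; omega
  rw [← Nat.cast_mul, this, Nat.cast_mul, ZMod.natCast_self, zero_mul]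

theorem two_mul_eq_zero_iff (k : ZMod (2 ^ d.n)) : 2 * k = 0 ↔ k = 0 ∨ k = d.h := by
  constructor
  · intro hk
    have hkv : k = ((k.val : ℕ) : ZMod (2 ^ d.n)) := (ZMod.natCast_zmod_val k).symm
    have h1 : ((2 * k.val : ℕ) : ZMod (2 ^ d.n)) = 0 := by
      push_cast; rw [ZMod.natCast_zmod_val]; exact hk
    have hlt := ZMod.val_lt k
    obtain ⟨a, ha⟩ : ∃ a, a = k.val := ⟨_, rfl⟩
    rw [← ha] at h1 hlt hkv
    rw [ZMod.natCast_eq_zero_iff] at h1
    have hn := d.hn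
    have e : 2 ^ d.n = 2 * 2 ^ (d.n - 1) := by rw [← pow_succ']; congr 1; omega
    rw [e] at h1 hlt
    have h2 : 2 ^ (d.n - 1) ∣ a := (Nat.mul_dvd_mul_iff_left (by norm_num)).mp h1
    obtain ⟨c, hc⟩ := h2
    have hpos : 0 < 2 ^ (d.n - 1) := by positivity
    have hc2 : c < 2 := by
      by_contra hge
      push Not at hge
      have : 2 ^ (d.n - 1) * 2 ≤ 2 ^ (d.n - 1) * c := Nat.mul_le_mul_left _ hge
      omega
    interval_cases c
    · left
      rw [hkv, hc, mul_zero, Nat.cast_zero]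
    · right
      rw [hkv, hc, mul_one]
      rfl
  · rintro (rfl | rfl)
    · simp
    · exact d.two_h

variable [Finite S]

theorem hidx : (Subgroup.zpowers d.x).index = 2 := by
  have h1 := (Subgroup.zpowers d.x).card_mul_index
  rw [Nat.card_zpowers, d.hx, d.card, pow_succ] at h1
  exact Nat.eq_of_mul_eq_mul_left (by positivity) h1

theorem hyy : d.y * d.y = 1 := by
  have := pow_orderOf_eq_one d.y
  rw [d.hyo, pow_two] at this
  exact this

theorem hy : d.y ∉ Subgroup.zpowers d.x := by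
  intro hmem
  obtain ⟨k, hk⟩ := (mem_zpowers_iff d.x (2 ^ d.n) d.hx _).mp hmem
  have h1 := conj_X d.x d.y (2 ^ d.n) d.hx _ d.hrel 1
  rw [hk] at h1
  have h2 : X d.x (2 ^ d.n) k * X d.x (2 ^ d.n) 1 * (X d.x (2 ^ d.n) k)⁻¹ = X d.x (2 ^ d.n) 1 := by
    rw [X_comm d.x _ d.hx, mul_assoc, mul_inv_cancel, mul_one]
  rw [h2] at h1
  have h3 := X_inj d.x _ d.hx h1
  rw [mul_one, d.E_cast] at h3
  apply d.h_ne_zero
  calc d.h = (d.h + 1) - 1 := by ring
    _ = 0 := by rw [← h3]; ring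

/-- rotations `x ^ i` -/
def a (i : ZMod (2 ^ d.n)) : S := X d.x (2 ^ d.n) i

/-- the other coset `x ^ i * y` -/
def b (i : ZMod (2 ^ d.n)) : S := X d.x (2 ^ d.n) i * d.y

omit [Finite S] in
theorem a_add (i j : ZMod (2 ^ d.n)) : d.a (i + j) = d.a i * d.a j := X_add d.x _ d.hx i j

omit [Finite S] in
theorem a_zero : d.a 0 = 1 := X_zero d.x _ d.hx

omit [Finite S] in
theorem a_one : d.a 1 = d.x := X_one d.x _ d.hx

omit [Finite S] in
theorem a_inv (i : ZMod (2 ^ d.n)) : (d.a i)⁻¹ = d.a (-i) := (X_neg d.x _ d.hx i).symm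

omit [Finite S] in
theorem a_inj {i j : ZMod (2 ^ d.n)} (h : d.a i = d.a j) : i = j := X_inj d.x _ d.hx h

omit [Finite S] in
theorem a_eq_one_iff {i : ZMod (2 ^ d.n)} : d.a i = 1 ↔ i = 0 := X_eq_one_iff d.x _ d.hx

omit [Finite S] in
theorem a_mem (i : ZMod (2 ^ d.n)) : d.a i ∈ Subgroup.zpowers d.x := X_mem d.x _ d.hx i

omit [Finite S] in
theorem a_pow (i : ZMod (2 ^ d.n)) (k : ℕ) : (d.a i) ^ k = d.a ((k : ZMod (2 ^ d.n)) * i) :=
  X_pow d.x _ d.hx i k

omit [Finite S] in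
theorem mem_zpowers_iff' (s : S) : s ∈ Subgroup.zpowers d.x ↔ ∃ i, s = d.a i :=
  QD.mem_zpowers_iff d.x _ d.hx s

omit [Finite S] in
theorem a_mul_b (i j : ZMod (2 ^ d.n)) : d.a i * d.b j = d.b (i + j) :=
  mul_X_Xy d.x d.y _ d.hx i j

omit [Finite S] in
theorem b_mul_a (i j : ZMod (2 ^ d.n)) : d.b i * d.a j = d.b (i + (d.h + 1) * j) := by
  have := mul_Xy_X d.x d.y _ d.hx _ d.hrel i j
  rw [d.E_cast] at this
  exact this

theorem b_ne_a (i j : ZMod (2 ^ d.n)) : d.b i ≠ d.a j := Xy_ne_X d.x d.y _ d.hx d.hy i j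

theorem b_mul_b (i j : ZMod (2 ^ d.n)) : d.b i * d.b j = d.a (i + (d.h + 1) * j) := by
  have := mul_Xy_Xy d.x d.y _ d.hx _ d.hrel d.hyy i j
  rw [d.E_cast] at this
  exact this

omit [Finite S] in
theorem b_zero : d.b 0 = d.y := by
  unfold b; rw [X_zero d.x _ d.hx, one_mul]

theorem nf (s : S) : (∃ i, s = d.a i) ∨ (∃ i, s = d.b i) :=
  QD.nf d.x d.y (2 ^ d.n) d.hx d.hidx d.hy d.hyy s

/-- the central involution -/
def z : S := d.a d.h

omit [Finite S] in
theorem z_eq : d.z = d.x ^ (2 ^ (d.n - 1)) := by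
  unfold z a h
  exact X_natCast d.x _ d.hx _

omit [Finite S] in
theorem z_ne_one : d.z ≠ 1 := by
  unfold z; rw [Ne, d.a_eq_one_iff]; exact d.h_ne_zero

omit [Finite S] in
theorem z_sq : d.z * d.z = 1 := by
  unfold z; rw [← a_add, ← two_mul, d.two_h, a_zero]

omit [Finite S] in
theorem z_comm_a (i : ZMod (2 ^ d.n)) : d.z * d.a i = d.a i * d.z := by
  unfold z
  rw [← a_add, ← a_add, add_comm]

omit [Finite S] in
theorem z_comm_b (i : ZMod (2 ^ d.n)) : d.z * d.b i = d.b i * d.z := by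
  unfold z
  rw [a_mul_b, b_mul_a]
  congr 1
  have h1 : d.h * d.h = 0 := by
    rw [← d.two_q]
    calc 2 * d.q * (2 * d.q) = 2 * (2 * d.q * d.q) := by ring
      _ = 2 * (d.h * d.q) := by rw [d.two_q]
      _ = 0 := by rw [d.h_mul_q, mul_zero]
  calc d.h + i = i + (d.h * d.h + d.h) := by rw [h1]; ring
    _ = i + (d.h + 1) * d.h := by ring

theorem z_central (s : S) : d.z * s = s * d.z := by
  rcases d.nf s with ⟨i, rfl⟩ | ⟨i, rfl⟩
  · exact d.z_comm_a i
  · exact d.z_comm_b i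

/-- every square is an even power of `x` -/
theorem sq_eq (s : S) : ∃ w, s * s = d.a (2 * w) := by
  rcases d.nf s with ⟨i, rfl⟩ | ⟨i, rfl⟩
  · exact ⟨i, by rw [← a_add, two_mul]⟩
  · refine ⟨i + d.q * i, ?_⟩
    rw [b_mul_b, ← d.two_q]
    congr 1
    ring

/-- an involution which is a square is the central involution -/
theorem sq_invol (s : S) (h1 : (s * s) * (s * s) = 1) (h2 : s * s ≠ 1) : s * s = d.z := by
  obtain ⟨w, hw⟩ := d.sq_eq s
  rw [hw] at h1 h2 ⊢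
  rw [← a_add, a_eq_one_iff, ← two_mul, d.two_mul_eq_zero_iff] at h1
  rcases h1 with h1 | h1
  · exact absurd (by rw [h1, a_zero]) h2
  · rw [h1]; rfl

/-- an involution of `⟨x⟩` is `z` -/
theorem invol_of_mem_zpowers (s : S) (hs : s ∈ Subgroup.zpowers d.x) (h1 : s * s = 1) (h2 : s ≠ 1) :
    s = d.z := by
  obtain ⟨i, rfl⟩ := (d.mem_zpowers_iff' s).mp hs
  rw [← a_add, a_eq_one_iff, ← two_mul, d.two_mul_eq_zero_iff] at h1
  rcases h1 with h1 | h1
  · exact absurd (by rw [h1, a_zero]) h2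
  · rw [h1]; rfl

/-- `x ^ 2` commutes with `y` -/
theorem a_two_mul_comm_y (w : ZMod (2 ^ d.n)) : d.a (2 * w) * d.y = d.y * d.a (2 * w) := by
  rw [← d.b_zero, a_mul_b, b_mul_a]
  congr 1
  calc 2 * w + 0 = 0 * w + 2 * w := by ring
    _ = (2 * d.h) * w + 2 * w := by rw [d.two_h]
    _ = 0 + (d.h + 1) * (2 * w) := by ring

/-- the order of `x * y` -/
theorem orderOf_xy : orderOf (d.x * d.y) = 2 ^ d.n := by
  have hn := d.hn
  have hxy : d.x * d.y = d.b 1 := by unfold b; rw [X_one d.x _ d.hx]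
  have hsq : (d.b 1) ^ 2 = d.a (2 + d.h) := by
    rw [pow_two, b_mul_b]; congr 1; ring
  have hq : ((2 ^ (d.n - 2) : ℕ) : ZMod (2 ^ d.n)) = d.q := rfl
  have hpow : (d.b 1) ^ (2 ^ (d.n - 1)) = d.z := by
    have e1 : 2 ^ (d.n - 1) = 2 * 2 ^ (d.n - 2) := by rw [← pow_succ']; congr 1; omega
    rw [e1, pow_mul, hsq, a_pow, hq]
    unfold z
    congr 1
    calc d.q * (2 + d.h) = 2 * d.q + d.h * d.q := by ring
      _ = d.h := by rw [d.two_q, d.h_mul_q, add_zero]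
  have e2 : d.n = (d.n - 1) + 1 := by omega
  rw [hxy]
  have := orderOf_eq_prime_pow (x := d.b 1) (p := 2) (n := d.n - 1)
    (by rw [hpow]; exact d.z_ne_one)
    (by rw [pow_succ, pow_mul, hpow, pow_two, d.z_sq])
  rw [this]
  congr 1
  omega

/-- a subgroup of index two avoiding `y` is generated by `x` or by `x * y` -/
theorem cyclic_of_index_two (Q : Subgroup S) (hQ : Q.index = 2) (hyQ : d.y ∉ Q) :
    ∃ g ∈ Q, ∀ s ∈ Q, s ∈ Subgroup.zpowers g := by
  have hcardQ : Nat.card Q = 2 ^ d.n := by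
    have h1 := Q.card_mul_index
    rw [hQ, d.card, pow_succ] at h1
    exact Nat.eq_of_mul_eq_mul_right (by norm_num) h1
  have key : ∀ g ∈ Q, orderOf g = 2 ^ d.n → ∀ s ∈ Q, s ∈ Subgroup.zpowers g := by
    intro g hg hgo s hs
    have hle : Subgroup.zpowers g ≤ Q := by rw [Subgroup.zpowers_le]; exact hg
    have heq : Subgroup.zpowers g = Q := by
      apply Subgroup.eq_of_le_of_card_ge hle
      rw [Nat.card_zpowers, hgo, hcardQ]
    rw [heq]; exact hs
  by_cases hxQ : d.x ∈ Q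
  · exact ⟨d.x, hxQ, key d.x hxQ d.hx⟩
  · have hxy : d.x * d.y ∈ Q := by
      rw [Subgroup.mul_mem_iff_of_index_two hQ]
      exact ⟨fun h => absurd h hxQ, fun h => absurd h hyQ⟩
    exact ⟨d.x * d.y, hxy, key _ hxy d.orderOf_xy⟩

end MDat

end Cfsg.Agent.Helper2.Modular
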