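import Mathlib
import Cfsg.Prelude.Def_CaseTheorems
import Cfsg.Agent.Helper1.AutPlumbing
import Cfsg.Agent.Helper1.CriticalSubgroup
import Cfsg.Agent.Helper1.KWCondB
import Cfsg.Agent.Helper1.Basic

set_option autoImplicit false

/-!
Automorphisms of a finite `p`-group acting on a characteristic series with factors of order `p`
(towards B&G Theorem 5.5).  Abstract lemmas.
-/

namespace Cfsg.Agent.Helper2.Narrow

open Cfsg.Agent.Helper1 Cfsg.Agent.Helper1.AutPlumbing

open scoped commutatorElement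

universe u

/-- two automorphisms stabilising the cyclic group generated by `v` have a commutator fixing `v` -/
theorem commutatorElement_apply_eq {Q : Type*} [Group Q] (v : Q) (α β : MulAut Q)
    (hα : α v ∈ Subgroup.zpowers v) (hα' : α⁻¹ v ∈ Subgroup.zpowers v)
    (hβ : β v ∈ Subgroup.zpowers v) (hβ' : β⁻¹ v ∈ Subgroup.zpowers v) :
    ⁅α, β⁆ v = v := by
  obtain ⟨i, hi⟩ := Subgroup.mem_zpowers_iff.1 hα
  obtain ⟨i', hi'⟩ := Subgroup.mem_zpowers_iff.1 hα'
  obtain ⟨j, hj⟩ := Subgroup.mem_zpowers_iff.1 hβ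
  obtain ⟨j', hj'⟩ := Subgroup.mem_zpowers_iff.1 hβ'
  have h1 : v ^ (i * i') = v := by
    have : α (α⁻¹ v) = v := by
      rw [← MulAut.mul_apply, mul_inv_cancel, MulAut.one_apply]
    rw [← hi', map_zpow, ← hi, ← zpow_mul] at this
    exact this
  have h2 : v ^ (j * j') = v := by
    have : β (β⁻¹ v) = v := by
      rw [← MulAut.mul_apply, mul_inv_cancel, MulAut.one_apply]
    rw [← hj', map_zpow, ← hj, ← zpow_mul] at this
    exact this
  have key : ∀ (γ : MulAut Q) (k n : ℤ), v ^ k = γ v → γ (v ^ n) = v ^ (k * n) := by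
    intro γ k n h
    rw [map_zpow, ← h, ← zpow_mul]
  rw [commutatorElement_def, MulAut.mul_apply, MulAut.mul_apply, MulAut.mul_apply, ← hj',
    key α⁻¹ i' j' hi', key β j (i' * j') hj, key α i (j * (i' * j')) hi]
  have e : i * (j * (i' * j')) = (i * i') * (j * j') := by ring
  rw [e, zpow_mul, h1, h2]

/-- an automorphism stabilising the group generated by an element `v` with `v ^ p = 1` has its
`(p - 1)`-th power fixing `v` -/
theorem pow_pred_apply_eq {Q : Type*} [Group Q] {p : ℕ} [hp : Fact p.Prime] (v : Q)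
    (hv : v ^ p = 1) (α : MulAut Q) (hα : α v ∈ Subgroup.zpowers v) :
    (α ^ (p - 1)) v = v := by
  by_cases hv1 : v = 1
  · rw [hv1, map_one]
  have hord : orderOf v = p := orderOf_eq_prime hv hv1
  obtain ⟨i, hi⟩ := Subgroup.mem_zpowers_iff.1 hα
  have hpow : ∀ k : ℕ, (α ^ k) v = v ^ (i ^ k) := by
    intro k
    induction k with
    | zero => simp
    | succ k ih =>
      rw [pow_succ', MulAut.mul_apply, ih, map_zpow, ← hi, ← zpow_mul, pow_succ']
  rw [hpow]
  have hnd : ¬ (p : ℤ) ∣ i := by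
    intro hdvd
    have h1 : v ^ i = 1 := by
      rw [← orderOf_dvd_iff_zpow_eq_one, hord]
      exact hdvd
    rw [h1] at hi
    apply hv1
    have : α v = α 1 := by rw [← hi, map_one]
    exact α.injective this
  have hcop : IsCoprime i (p : ℤ) := by
    rw [isCoprime_comm]
    exact (Nat.prime_iff_prime_int.1 hp.out).coprime_iff_not_dvd.2 hnd
  have h2 : i ^ (p - 1) ≡ 1 [ZMOD p] := Int.ModEq.pow_card_sub_one_eq_one hp.out hcop
  have h3 : v ^ (i ^ (p - 1)) = v ^ (1 : ℤ) := by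
    rw [zpow_eq_zpow_iff_modEq, hord]
    exact h2
  rw [h3, zpow_one]

/-- an automorphism of order prime to `p` of a finite `p`-group which fixes `M` pointwise and acts
trivially on `N` modulo `M` fixes `N` pointwise -/
theorem fix_of_fix_mod {R : Type u} [Group R] [Finite R] {p : ℕ} [hp : Fact p.Prime]
    (hR : IsPGroup p R) (y : MulAut R) (hy : (orderOf y).Coprime p) (M N : Subgroup R)
    (hM : ∀ m ∈ M, y m = m) (hN : ∀ d ∈ N, d⁻¹ * y d ∈ M) : ∀ d ∈ N, y d = d := by
  intro d hd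
  set m := d⁻¹ * y d with hm
  have hmM : m ∈ M := hN d hd
  have hym : y m = m := hM m hmM
  have hyd : y d = d * m := by rw [hm]; group
  have hpow : ∀ k : ℕ, (y ^ k) d = d * m ^ k := by
    intro k
    induction k with
    | zero => simp
    | succ k ih =>
      rw [pow_succ', MulAut.mul_apply, ih, map_mul, map_pow, hym, hyd, mul_assoc, ← pow_succ']
  have h4 := hpow (orderOf y)
  rw [pow_orderOf_eq_one, MulAut.one_apply] at h4
  have h5 : m ^ orderOf y = 1 := by
    have : d * m ^ orderOf y = d * 1 := by rw [← h4, mul_one]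
    exact mul_left_cancel this
  have h6 : orderOf m ∣ orderOf y := orderOf_dvd_of_pow_eq_one h5
  obtain ⟨n, hn⟩ := hR m
  have h7 : orderOf m ∣ p ^ n := orderOf_dvd_of_pow_eq_one hn
  have h8 : orderOf m = 1 :=
    Nat.eq_one_of_dvd_coprimes (Nat.Coprime.pow_right n hy) h6 h7
  have h9 : m = 1 := orderOf_eq_one_iff.1 h8
  rw [hyd, h9, mul_one]

/-- the fixed point inequality: if `N` is central modulo `M` then `|N| ≤ |M| |C_N(s)|` -/
theorem card_le_mul_card_centralizer {R : Type u} [Group R] [Finite R] (M N : Subgroup R) (s : R)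
    (hN : ∀ d ∈ N, ∀ g : R, (g * d)⁻¹ * (d * g) ∈ M) :
    Nat.card N ≤ Nat.card M * Nat.card ↥(N ⊓ Subgroup.centralizer {s}) := by
  set C : Subgroup ↥N := (Subgroup.centralizer ({s} : Set R)).subgroupOf N with hC
  have hcomm : ∀ c : ↥N, c ∈ C → (c : R) * s = s * c := by
    intro c hc
    rw [hC, Subgroup.mem_subgroupOf, Subgroup.mem_centralizer_iff] at hc
    exact (hc s rfl).symm
  have hmem : ∀ d : ↥N, (d : R) * s⁻¹ * (d : R)⁻¹ * s ∈ M := by
    intro d
    have h1 := hN (d : R)⁻¹ (N.inv_mem d.2) s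
    have e : (s * (d : R)⁻¹)⁻¹ * ((d : R)⁻¹ * s) = (d : R) * s⁻¹ * (d : R)⁻¹ * s := by group
    rwa [e] at h1
  let f : ↥N → ↥M := fun d => ⟨(d : R) * s⁻¹ * (d : R)⁻¹ * s, hmem d⟩
  have hf : ∀ a b : ↥N, QuotientGroup.leftRel C a b → f a = f b := by
    intro a b hab
    rw [QuotientGroup.leftRel_apply] at hab
    have h1 := hcomm _ hab
    apply Subtype.ext
    show (a : R) * s⁻¹ * (a : R)⁻¹ * s = (b : R) * s⁻¹ * (b : R)⁻¹ * s
    have h2 : ((a⁻¹ * b : ↥N) : R) = (a : R)⁻¹ * (b : R) := by simp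
    rw [h2] at h1
    have h4 : ((a : R)⁻¹ * (b : R)) * s⁻¹ = s⁻¹ * ((a : R)⁻¹ * (b : R)) :=
      (show Commute ((a : R)⁻¹ * (b : R)) s from h1).inv_right
    calc (a : R) * s⁻¹ * (a : R)⁻¹ * s
        = (a : R) * (s⁻¹ * ((a : R)⁻¹ * (b : R))) * ((a : R)⁻¹ * (b : R))⁻¹ * (a : R)⁻¹ * s := by
          group
      _ = (a : R) * (((a : R)⁻¹ * (b : R)) * s⁻¹) * ((a : R)⁻¹ * (b : R))⁻¹ * (a : R)⁻¹ * s := by
          rw [h4]
      _ = (b : R) * s⁻¹ * (b : R)⁻¹ * s := by group
  let F : ↥N ⧸ C → ↥M := Quotient.lift f hf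
  have hFinj : Function.Injective F := by
    intro a b
    induction a using QuotientGroup.induction_on with | _ a => ?_
    induction b using QuotientGroup.induction_on with | _ b => ?_
    intro hab
    have h1 : (a : R) * s⁻¹ * (a : R)⁻¹ * s = (b : R) * s⁻¹ * (b : R)⁻¹ * s :=
      congrArg Subtype.val hab
    rw [QuotientGroup.eq, hC, Subgroup.mem_subgroupOf, Subgroup.mem_centralizer_iff]
    intro t ht
    rw [Set.mem_singleton_iff] at ht
    subst ht
    have h2 : ((a⁻¹ * b : ↥N) : R) = (a : R)⁻¹ * (b : R) := by simp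
    rw [h2]
    have h3 : (a : R) * t⁻¹ * (a : R)⁻¹ = (b : R) * t⁻¹ * (b : R)⁻¹ := mul_right_cancel h1
    have h4 : t⁻¹ * ((a : R)⁻¹ * (b : R)) = ((a : R)⁻¹ * (b : R)) * t⁻¹ := by
      calc t⁻¹ * ((a : R)⁻¹ * (b : R)) = (a : R)⁻¹ * ((a : R) * t⁻¹ * (a : R)⁻¹) * (b : R) := by
            group
        _ = (a : R)⁻¹ * ((b : R) * t⁻¹ * (b : R)⁻¹) * (b : R) := by rw [h3]
        _ = ((a : R)⁻¹ * (b : R)) * t⁻¹ := by group
    exact ((Commute.inv_left_iff).1 (show Commute t⁻¹ ((a : R)⁻¹ * (b : R)) from h4)).eq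
  have h1 : Nat.card (↥N ⧸ C) ≤ Nat.card ↥M := Nat.card_le_card_of_injective F hFinj
  have h2 : Nat.card ↥N = Nat.card (↥N ⧸ C) * Nat.card ↥C :=
    Subgroup.card_eq_card_quotient_mul_card_subgroup C
  have h3 : Nat.card ↥C = Nat.card ↥(N ⊓ Subgroup.centralizer {s}) := by
    rw [hC, Cfsg.Agent.Helper1.card_subgroupOf, inf_comm]
  rw [h2, h3]
  exact Nat.mul_le_mul_right _ h1

end Cfsg.Agent.Helper2.Narrow
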