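import Mathlib
import Cfsg.Agent.Helper2.NarrowA

set_option autoImplicit false

/-!
Automorphisms of a finite `p`-group acting on a characteristic series with factors of order `p`
(towards B&G Theorem 5.5).  The series argument.
-/

namespace Cfsg.Agent.Helper2.Narrow

open Cfsg.Agent.Helper1 Cfsg.Agent.Helper1.AutPlumbing

open scoped commutatorElement

universe u

variable {R : Type u} [Group R]

/-- a normal subgroup `D` properly containing the normal subgroup `M` of a finite `p`-group has an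
element outside `M` which is central modulo `M` -/
theorem exists_central_mod [Finite R] {p : ℕ} [hp : Fact p.Prime] (hR : IsPGroup p R)
    (M D : Subgroup R) [hM : M.Normal] [hD : D.Normal] (hMD : M ≤ D) (hne : M ≠ D) :
    ∃ d ∈ D, d ∉ M ∧ ∀ g : R, (g * d)⁻¹ * (d * g) ∈ M := by
  obtain ⟨d₀, hd₀D, hd₀M⟩ : ∃ d₀ ∈ D, d₀ ∉ M := by
    by_contra hcon
    push Not at hcon
    exact hne (le_antisymm hMD hcon)
  set π := QuotientGroup.mk' M with hπ
  have hπs : Function.Surjective π := QuotientGroup.mk'_surjective M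
  have hQ : IsPGroup p (R ⧸ M) := hR.to_quotient M
  haveI hDn : (D.map π).Normal := Subgroup.Normal.map hD π hπs
  have hDne : D.map π ≠ ⊥ := by
    intro hbot
    have h1 : π d₀ ∈ D.map π := Subgroup.mem_map_of_mem π hd₀D
    rw [hbot, Subgroup.mem_bot] at h1
    apply hd₀M
    rw [← QuotientGroup.ker_mk' M]
    exact h1
  obtain ⟨b, hbD, hb1, hbc⟩ := Cfsg.Agent.Helper1.KWCond.normal_inf_center_ne_bot hQ (D.map π) hDne
  obtain ⟨d, hdD, rfl⟩ := hbD
  refine ⟨d, hdD, ?_, ?_⟩
  · intro hdM
    apply hb1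
    have : d ∈ π.ker := by rw [hπ, QuotientGroup.ker_mk']; exact hdM
    exact this
  · intro g
    have h1 := hbc (π g)
    rw [← map_mul, ← map_mul] at h1
    have h2 : (QuotientGroup.mk (g * d) : R ⧸ M) = QuotientGroup.mk (d * g) := h1
    exact QuotientGroup.eq.1 h2

/-- the series argument: an automorphism of order prime to `p` which acts trivially on every
characteristic section of order at most `p` fixes pointwise every characteristic subgroup `D` of
exponent `p` admitting an element `s` with `|C_D(s)| ≤ p` -/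
theorem fix_of_good [Finite R] {p : ℕ} [hp : Fact p.Prime] (hR : IsPGroup p R)
    (D : Subgroup R) [hD : D.Characteristic] (hDexp : ∀ x ∈ D, x ^ p = 1) (s : R)
    (hs : Nat.card ↥(D ⊓ Subgroup.centralizer {s}) ≤ p)
    (y : MulAut R) (hy : (orderOf y).Coprime p)
    (hgood : ∀ M N : Subgroup R, M.Characteristic → N.Characteristic → M ≤ N →
       Nat.card N ≤ p * Nat.card M → ∀ d ∈ N, d⁻¹ * y d ∈ M) :
    ∀ d ∈ D, y d = d := by
  let 𝒞 : Set (Subgroup R) := {M | M.Characteristic ∧ M ≤ D ∧ ∀ d ∈ M, y d = d}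
  have hbot : (⊥ : Subgroup R) ∈ 𝒞 := by
    refine ⟨Subgroup.botCharacteristic, bot_le, ?_⟩
    intro d hd
    rw [Subgroup.mem_bot] at hd
    rw [hd, map_one]
  obtain ⟨M, -, hMmax⟩ := (Set.toFinite 𝒞).exists_le_maximal hbot
  obtain ⟨hMchar, hMD, hMfix⟩ : M ∈ 𝒞 := hMmax.prop
  by_cases hMeq : M = D
  · rw [← hMeq]; exact hMfix
  exfalso
  haveI := hMchar
  haveI hMn : M.Normal := inferInstance
  haveI hDn : D.Normal := inferInstance
  set N := critSub p M D with hN
  have hNchar : N.Characteristic := critSub_characteristic p M D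
  have hND : N ≤ D := fun x hx => (mem_critSub.1 hx).1
  have hMN : M ≤ N := by
    intro m hm
    rw [hN, mem_critSub]
    refine ⟨hMD hm, fun g => ?_, M.pow_mem hm p⟩
    have e : (g * m)⁻¹ * (m * g) = m⁻¹ * (g⁻¹ * m * g⁻¹⁻¹) := by group
    rw [e]
    exact M.mul_mem (M.inv_mem hm) (hMn.conj_mem m hm g⁻¹)
  obtain ⟨d, hdD, hdM, hdc⟩ := exists_central_mod hR M D hMD hMeq
  have hdN : d ∈ N := by
    rw [hN, mem_critSub]
    refine ⟨hdD, hdc, ?_⟩
    rw [hDexp d hdD]
    exact M.one_mem
  have hcardN : Nat.card N ≤ p * Nat.card M := by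
    have h1 := card_le_mul_card_centralizer M N s (fun x hx => (mem_critSub.1 hx).2.1)
    have h2 : Nat.card ↥(N ⊓ Subgroup.centralizer {s}) ≤ Nat.card ↥(D ⊓ Subgroup.centralizer {s}) :=
      Subgroup.card_le_of_le (inf_le_inf_right _ hND)
    calc Nat.card N ≤ Nat.card M * Nat.card ↥(N ⊓ Subgroup.centralizer {s}) := h1
      _ ≤ Nat.card M * p := Nat.mul_le_mul_left _ (h2.trans hs)
      _ = p * Nat.card M := mul_comm _ _
  have hNfix : ∀ x ∈ N, y x = x :=
    fix_of_fix_mod hR y hy M N hMfix (hgood M N hMchar hNchar hMN hcardN)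
  have hNmem : N ∈ 𝒞 := ⟨hNchar, hND, hNfix⟩
  exact hdM (hMmax.2 hNmem hMN hdN)

/-- the cyclic section: a characteristic section of order at most `p` is generated modulo `M` by
one element -/
theorem exists_generator_mod [Finite R] {p : ℕ} [hp : Fact p.Prime] (hR : IsPGroup p R)
    (M N : Subgroup R) [hM : M.Normal] (hMN : M ≤ N) (hcard : Nat.card N ≤ p * Nat.card M) :
    ∃ v : R ⧸ M, v ∈ N.map (QuotientGroup.mk' M) ∧ v ^ p = 1 ∧
      ∀ w ∈ N.map (QuotientGroup.mk' M), w ∈ Subgroup.zpowers v := by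
  set π := QuotientGroup.mk' M with hπ
  set V := N.map π with hV
  have hVp : IsPGroup p ↥V := (hR.to_quotient M).to_subgroup V
  have hcardV : Nat.card V * Nat.card M = Nat.card N := by
    have h1 : π.ker.relIndex N = Nat.card (N.map π) := Subgroup.relIndex_ker (K := N) π
    rw [hπ, QuotientGroup.ker_mk'] at h1
    rw [hV, ← h1]
    exact Cfsg.Agent.Helper1.relIndex_mul_card_of_le hMN
  have hVle : Nat.card V ≤ p := by
    have h1 : Nat.card V * Nat.card M ≤ p * Nat.card M := hcardV ▸ hcard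
    exact Nat.le_of_mul_le_mul_right h1 Nat.card_pos
  obtain ⟨k, hk⟩ := hVp.exists_card_eq
  have hp1 : 1 < p := hp.out.one_lt
  have hk1 : k ≤ 1 := by
    by_contra hcon
    push Not at hcon
    have h2 : p ^ 2 ≤ p ^ k := Nat.pow_le_pow_right hp.out.pos hcon
    have h3 : p * p ≤ p := by
      calc p * p = p ^ 2 := (sq p).symm
        _ ≤ p ^ k := h2
        _ = Nat.card V := hk.symm
        _ ≤ p := hVle
    nlinarith
  interval_cases k
  · -- trivial section
    rw [pow_zero] at hk
    have hVbot : V = ⊥ := Subgroup.card_eq_one.1 hk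
    refine ⟨1, V.one_mem, one_pow p, ?_⟩
    intro w hw
    rw [hVbot, Subgroup.mem_bot] at hw
    rw [hw]
    exact Subgroup.one_mem _
  · rw [pow_one] at hk
    haveI : IsCyclic ↥V := isCyclic_of_prime_card hk
    obtain ⟨g, hg⟩ := IsCyclic.exists_generator (α := ↥V)
    refine ⟨(g : R ⧸ M), g.2, ?_, ?_⟩
    · have h1 : g ^ p = 1 := by
        rw [← hk]; exact pow_card_eq_one'
      have h2 := congrArg (fun z : ↥V => (z : R ⧸ M)) h1
      simpa using h2
    · intro w hw
      obtain ⟨n, hn⟩ := Subgroup.mem_zpowers_iff.1 (hg ⟨w, hw⟩)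
      rw [Subgroup.mem_zpowers_iff]
      refine ⟨n, ?_⟩
      have h2 := congrArg (fun z : ↥V => (z : R ⧸ M)) hn
      simpa using h2

/-- every automorphism stabilises the cyclic section -/
theorem quotAut_mem_zpowers (M N : Subgroup R) [hM : M.Normal] (hMc : M.Characteristic)
    (hNc : N.Characteristic) (v : R ⧸ M) (hvN : v ∈ N.map (QuotientGroup.mk' M))
    (hgen : ∀ w ∈ N.map (QuotientGroup.mk' M), w ∈ Subgroup.zpowers v) (a : MulAut R) :
    quotAut M hMc a v ∈ Subgroup.zpowers v := by
  apply hgen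
  obtain ⟨d, hd, rfl⟩ := hvN
  refine ⟨a d, ?_, rfl⟩
  exact (Subgroup.characteristic_iff_le_comap.1 hNc) a hd

/-- from the generator to the whole section -/
theorem inv_mul_mem_of_fix (M N : Subgroup R) [hM : M.Normal] (hMc : M.Characteristic)
    (v : R ⧸ M) (hgen : ∀ w ∈ N.map (QuotientGroup.mk' M), w ∈ Subgroup.zpowers v)
    (y : MulAut R) (hy : quotAut M hMc y v = v) : ∀ d ∈ N, d⁻¹ * y d ∈ M := by
  intro d hd
  have h1 : (QuotientGroup.mk d : R ⧸ M) ∈ Subgroup.zpowers v :=
    hgen _ (Subgroup.mem_map_of_mem (QuotientGroup.mk' M) hd)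
  obtain ⟨n, hn⟩ := Subgroup.mem_zpowers_iff.1 h1
  have h2 : quotAut M hMc y (QuotientGroup.mk d) = QuotientGroup.mk d := by
    rw [← hn, map_zpow, hy]
  rw [quotAut_mk] at h2
  exact QuotientGroup.eq.1 h2.symm

/-- elements of the derived subgroup of the automorphism group act trivially on characteristic
sections of order at most `p` -/
theorem good_of_mem_commutator [Finite R] {p : ℕ} [hp : Fact p.Prime] (hR : IsPGroup p R)
    (y : MulAut R) (hy : y ∈ commutator (MulAut R)) (M N : Subgroup R) (hMc : M.Characteristic)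
    (hNc : N.Characteristic) (hMN : M ≤ N) (hcard : Nat.card N ≤ p * Nat.card M) :
    ∀ d ∈ N, d⁻¹ * y d ∈ M := by
  haveI := hMc
  haveI hMn : M.Normal := inferInstance
  obtain ⟨v, hvN, -, hgen⟩ := exists_generator_mod hR M N hMN hcard
  apply inv_mul_mem_of_fix M N hMc v hgen
  have hle : commutator (MulAut R) ≤
      (MulAction.stabilizer (MulAut (R ⧸ M)) v).comap (quotAut M hMc) := by
    rw [commutator_def, Subgroup.commutator_le]
    intro a _ b _
    rw [Subgroup.mem_comap, MulAction.mem_stabilizer_iff, MulAut.smul_def, map_commutatorElement]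
    apply commutatorElement_apply_eq
    · exact quotAut_mem_zpowers M N hMc hNc v hvN hgen a
    · rw [← map_inv]; exact quotAut_mem_zpowers M N hMc hNc v hvN hgen a⁻¹
    · exact quotAut_mem_zpowers M N hMc hNc v hvN hgen b
    · rw [← map_inv]; exact quotAut_mem_zpowers M N hMc hNc v hvN hgen b⁻¹
  have h1 := hle hy
  rw [Subgroup.mem_comap, MulAction.mem_stabilizer_iff, MulAut.smul_def] at h1
  exact h1

/-- `(p - 1)`-th powers of automorphisms act trivially on characteristic sections of order at most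
`p` -/
theorem good_of_pow_pred [Finite R] {p : ℕ} [hp : Fact p.Prime] (hR : IsPGroup p R)
    (x : MulAut R) (M N : Subgroup R) (hMc : M.Characteristic)
    (hNc : N.Characteristic) (hMN : M ≤ N) (hcard : Nat.card N ≤ p * Nat.card M) :
    ∀ d ∈ N, d⁻¹ * (x ^ (p - 1)) d ∈ M := by
  haveI := hMc
  haveI hMn : M.Normal := inferInstance
  obtain ⟨v, hvN, hvp, hgen⟩ := exists_generator_mod hR M N hMN hcard
  apply inv_mul_mem_of_fix M N hMc v hgen
  rw [map_pow]
  exact pow_pred_apply_eq v hvp _ (quotAut_mem_zpowers M N hMc hNc v hvN hgen x)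

end Cfsg.Agent.Helper2.Narrow
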