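import Mathlib
import Cfsg.Prelude.Def_OddOrderLocal
import Cfsg.Agent.Helper2.NarrowB
import Cfsg.Agent.Helper1.Rank2Key
import Cfsg.Agent.Helper1.SCN3b
import Cfsg.Agent.S1453

set_option autoImplicit false

/-!
Automorphisms of a narrow `p`-group of rank at least three (B&G Theorem 5.5, rank at least three).
-/

namespace Cfsg.Agent.Helper2.Narrow

open Cfsg.Agent.Helper1 Cfsg.Agent.Helper1.AutPlumbing

open scoped commutatorElement

universe u

variable {R : Type u} [Group R]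

/-- an elementary abelian subgroup of `R₀ R₁` (`R₀` of order `p`, `R₁` cyclic, commuting) has order
at most `p ^ 2` -/
theorem card_le_sq_of_le_sup [Finite R] {p : ℕ} [hp : Fact p.Prime] (R₀ R₁ B : Subgroup R)
    (hR₀ : Nat.card R₀ = p) (hcyc : IsCyclic R₁) (hcomm : ∀ a ∈ R₀, ∀ b ∈ R₁, a * b = b * a)
    (hB : B ≤ R₀ ⊔ R₁) (hBexp : ∀ x ∈ B, x ^ p = 1) : Nat.card B ≤ p ^ 2 := by
  classical
  have hR₁C : R₁ ≤ Subgroup.centralizer (R₀ : Set R) := by
    intro b hb
    rw [Subgroup.mem_centralizer_iff]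
    intro a ha
    exact hcomm a ha b hb
  have hR₁N : R₁ ≤ Subgroup.normalizer (R₀ : Set R) :=
    hR₁C.trans (Subgroup.centralizer_le_normalizer _)
  have hmem : ∀ x ∈ R₀ ⊔ R₁, ∃ a ∈ R₀, ∃ b ∈ R₁, x = a * b := by
    intro x hx
    rw [← SetLike.mem_coe, Subgroup.coe_mul_of_right_le_normalizer_left R₀ R₁ hR₁N,
      Set.mem_mul] at hx
    obtain ⟨a, ha, b, hb, rfl⟩ := hx
    exact ⟨a, ha, b, hb, rfl⟩
  have hR₀exp : ∀ a ∈ R₀, a ^ p = 1 := by
    intro a ha
    have h1 : (⟨a, ha⟩ : ↥R₀) ^ p = 1 := by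
      rw [← hR₀]; exact pow_card_eq_one'
    exact congrArg (fun z : ↥R₀ => (z : R)) h1
  have hdec : ∀ x : ↥B, ∃ ab : ↥R₀ × {b : ↥R₁ // b ^ p = 1}, (x : R) = (ab.1 : R) * ((ab.2 : ↥R₁) : R) := by
    intro x
    obtain ⟨a, ha, b, hb, hxab⟩ := hmem x (hB x.2)
    have hc : Commute a b := hcomm a ha b hb
    have h1 : b ^ p = 1 := by
      have := hBexp x x.2
      rw [hxab, hc.mul_pow, hR₀exp a ha, one_mul] at this
      exact this
    refine ⟨(⟨a, ha⟩, ⟨⟨b, hb⟩, ?_⟩), hxab⟩
    apply Subtype.ext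
    simpa using h1
  choose φ hφ using hdec
  have hφinj : Function.Injective φ := by
    intro x x' hxx'
    apply Subtype.ext
    rw [hφ x, hφ x', hxx']
  have h1 : Nat.card ↥B ≤ Nat.card (↥R₀ × {b : ↥R₁ // b ^ p = 1}) :=
    Nat.card_le_card_of_injective φ hφinj
  have h2 : Nat.card {b : ↥R₁ // b ^ p = 1} ≤ p := by
    haveI := Fintype.ofFinite ↥R₁
    rw [Nat.card_eq_fintype_card, Fintype.card_subtype]
    exact IsCyclic.card_pow_eq_one_le hp.out.pos
  rw [Nat.card_prod, hR₀] at h1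
  calc Nat.card ↥B ≤ p * Nat.card {b : ↥R₁ // b ^ p = 1} := h1
    _ ≤ p * p := Nat.mul_le_mul_left _ h2
    _ = p ^ 2 := (sq p).symm

/-- **Main theorem on narrow `p`-groups of rank at least three**: an automorphism of order prime
to `p` acting trivially on all characteristic sections of order at most `p` is trivial. -/
theorem eq_one_of_good [Finite R] {p : ℕ} [hp : Fact p.Prime] (hp2 : p ≠ 2) (hR : IsPGroup p R)
    (hN : Cfsg.IsNarrow p R) (hr : ¬ Cfsg.PRankLE p 2 R) (y : MulAut R)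
    (hy : (orderOf y).Coprime p)
    (hgood : ∀ M N : Subgroup R, M.Characteristic → N.Characteristic → M ≤ N →
       Nat.card N ≤ p * Nat.card M → ∀ d ∈ N, d⁻¹ * y d ∈ M) : y = 1 := by
  rcases hN with h | ⟨R₀, R₁, hR₀, hcyc, -, hcomm, hsup⟩
  · exact absurd h hr
  haveI hR₀prime : Fact (Nat.card ↥R₀).Prime := ⟨by rw [hR₀]; exact hp.out⟩
  -- a generator `s` of `R₀`
  haveI : IsCyclic ↥R₀ := isCyclic_of_prime_card hR₀
  obtain ⟨g, hg⟩ := IsCyclic.exists_generator (α := ↥R₀)
  set s : R := (g : R) with hs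
  have hsR₀ : s ∈ R₀ := g.2
  have hR₀z : ∀ a ∈ R₀, a ∈ Subgroup.zpowers s := by
    intro a ha
    obtain ⟨n, hn⟩ := Subgroup.mem_zpowers_iff.1 (hg ⟨a, ha⟩)
    rw [Subgroup.mem_zpowers_iff]
    refine ⟨n, ?_⟩
    have h2 := congrArg (fun z : ↥R₀ => (z : R)) hn
    simpa using h2
  have hR₀eq : R₀ = Subgroup.zpowers s :=
    le_antisymm hR₀z ((Subgroup.zpowers_le).2 hsR₀)
  have hsp : s ^ p = 1 := by
    have h1 : g ^ p = 1 := by
      rw [← hR₀]; exact pow_card_eq_one'
    exact congrArg (fun z : ↥R₀ => (z : R)) h1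
  have hR₀e : Cfsg.IsElementaryAbelian p R₀ := by
    rw [hR₀eq]; exact Cfsg.Agent.Helper1.SCN3.elementary_zpowers hsp
  have hCs : ∀ x : R, x ∈ Subgroup.centralizer ({s} : Set R) →
      x ∈ Subgroup.centralizer (R₀ : Set R) := by
    intro x hx
    rw [Subgroup.mem_centralizer_iff] at hx ⊢
    intro a ha
    obtain ⟨n, rfl⟩ := Subgroup.mem_zpowers_iff.1 (hR₀z a ha)
    have h1 : Commute s x := hx s rfl
    exact (h1.zpow_left n).eq
  -- rank bound inside `R₀ R₁`
  have hbound : ∀ B : Subgroup R, B ≤ R₀ ⊔ R₁ → (∀ x ∈ B, x ^ p = 1) → Nat.card B ≤ p ^ 2 :=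
    fun B hB hBe => card_le_sq_of_le_sup R₀ R₁ B hR₀ hcyc hcomm hB hBe
  -- `s` is not central
  have hsnc : s ∉ Subgroup.center R := by
    intro hsc
    apply hr
    intro B _ hBe
    apply hbound B _ hBe
    rw [hsup]
    intro b _
    rw [Subgroup.mem_centralizer_iff]
    intro a ha
    obtain ⟨n, rfl⟩ := Subgroup.mem_zpowers_iff.1 (hR₀z a ha)
    have h1 : Commute s b := (Subgroup.mem_center_iff.1 hsc b).symm
    exact (h1.zpow_left n).eq
  -- a central element `z` of order `p`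
  haveI : Nontrivial R := by
    by_contra hcon
    rw [not_nontrivial_iff_subsingleton] at hcon
    apply hsnc
    have : s = 1 := Subsingleton.elim _ _
    rw [this]; exact Subgroup.one_mem _
  have hcen : ⊥ < Subgroup.center R := hR.bot_lt_center
  have hcenp : p ∣ Nat.card (Subgroup.center R) := by
    obtain ⟨k, hk⟩ := (hR.to_subgroup (Subgroup.center R)).exists_card_eq
    have hk0 : k ≠ 0 := by
      rintro rfl
      rw [pow_zero] at hk
      exact hcen.ne' (Subgroup.card_eq_one.1 hk)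
    rw [hk]; exact dvd_pow_self p hk0
  obtain ⟨z', hz'⟩ := exists_prime_orderOf_dvd_card' p hcenp
  set z : R := (z' : R) with hz
  have hzc : z ∈ Subgroup.center R := z'.2
  have hzord : orderOf z = p := by
    rw [← hz']
    exact orderOf_injective (Subgroup.center R).subtype (Subgroup.subtype_injective _) z'
  have hzp : z ^ p = 1 := by rw [← hzord]; exact pow_orderOf_eq_one z
  set Z' : Subgroup R := Subgroup.zpowers z with hZ'
  have hZ'cen : Z' ≤ Subgroup.center R := (Subgroup.zpowers_le).2 hzc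
  have hZ'card : Nat.card Z' = p := by rw [hZ', Nat.card_zpowers, hzord]
  haveI hZ'n : Z'.Normal := by
    constructor
    intro n hn g
    have h1 := Subgroup.mem_center_iff.1 (hZ'cen hn) g
    have h2 : g * n * g⁻¹ = n := by rw [h1]; group
    rw [h2]; exact hn
  set E : Subgroup R := R₀ ⊔ Z' with hE
  have hZ'C : Z' ≤ Subgroup.centralizer (R₀ : Set R) :=
    hZ'cen.trans (Subgroup.center_le_centralizer _)
  have hEe : Cfsg.IsElementaryAbelian p E :=
    Cfsg.Agent.Helper1.SCN3.elementary_sup_of_le_centralizer hR₀e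
      (Cfsg.Agent.Helper1.SCN3.elementary_zpowers hzp) hZ'C
  -- `R₀ ∩ Z(R) = 1`
  have hdisj : R₀ ⊓ Z' = ⊥ := by
    have h1 := ((Subgroup.center R).subgroupOf R₀).eq_bot_or_eq_top_of_prime_card
    rcases h1 with h1 | h1
    · rw [Subgroup.subgroupOf_eq_bot] at h1
      rw [eq_bot_iff]
      exact (inf_le_inf_left _ hZ'cen).trans (by rw [inf_comm]; exact h1.le_bot)
    · rw [Subgroup.subgroupOf_eq_top] at h1
      exact absurd (h1 hsR₀) hsnc
  have hEcard : Nat.card E = p ^ 2 := by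
    rw [hE, Cfsg.Agent.Helper1.card_sup_of_disjoint_normal R₀ Z' hdisj, hR₀, hZ'card, sq]
  have hEC : E ≤ R₀ ⊔ R₁ := by
    rw [hsup, hE]
    refine sup_le ?_ hZ'C
    intro a ha
    rw [Subgroup.mem_centralizer_iff]
    intro a' ha'
    have := hR₀e.1.is_comm.comm ⟨a', ha'⟩ ⟨a, ha⟩
    exact congrArg (fun z : ↥R₀ => (z : R)) this
  have hEmax : ∀ B : Subgroup R, Cfsg.IsElementaryAbelian p B → E ≤ B → B = E := by
    intro B hB hEB
    have hBC : B ≤ R₀ ⊔ R₁ := by
      rw [hsup]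
      intro b hb
      rw [Subgroup.mem_centralizer_iff]
      intro a ha
      have haB : a ∈ B := hEB (Subgroup.mem_sup_left ha)
      have := hB.1.is_comm.comm ⟨a, haB⟩ ⟨b, hb⟩
      exact congrArg (fun z : ↥B => (z : R)) this
    have h1 : Nat.card B ≤ Nat.card E := by
      rw [hEcard]; exact hbound B hBC hB.2
    exact (Subgroup.eq_of_le_of_card_ge hEB h1).symm
  obtain ⟨hET, -, -, hTchar, hTidx⟩ := Cfsg.Agent.S1453.result p hp2 hR hr E hEe hEcard hEmax
  set T : Subgroup R := Subgroup.centralizer ((Subgroup.closure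
    {x : R | x ∈ Subgroup.upperCentralSeries R 2 ∧ x ^ p = 1} : Subgroup R) : Set R) with hT
  haveI := hTchar
  obtain ⟨D, hDchar, hDexp, -, hDfaith⟩ := Cfsg.Agent.Helper1.Rank2Key.exists_omega_critical hp2 hR
  haveI := hDchar
  set D₁ : Subgroup R := D ⊓ T with hD₁
  haveI hD₁char : D₁.Characteristic := Cfsg.Agent.Helper1.inf_characteristic D T
  have hD₁exp : ∀ x ∈ D₁, x ^ p = 1 := fun x hx => hDexp x hx.1
  -- `|E ∩ T| ≤ p`
  have hETcard : Nat.card ↥(E ⊓ T) ≤ p := by
    have h1 : Nat.card ↥(E ⊓ T) ∣ p ^ 2 := by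
      rw [← hEcard]; exact Subgroup.card_dvd_of_le inf_le_left
    obtain ⟨k, hk2, hk⟩ := (Nat.dvd_prime_pow hp.out).1 h1
    have hk' : k ≠ 2 := by
      rintro rfl
      apply hET
      have h2 : E ⊓ T = E := Subgroup.eq_of_le_of_card_ge inf_le_left (by rw [hk, hEcard])
      rw [← h2]; exact inf_le_right
    have hk1 : k ≤ 1 := by omega
    rw [hk]
    calc p ^ k ≤ p ^ 1 := Nat.pow_le_pow_right hp.out.pos hk1
      _ = p := pow_one p
  have hscard : Nat.card ↥(D₁ ⊓ Subgroup.centralizer {s}) ≤ p := by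
    refine le_trans (Subgroup.card_le_of_le ?_) hETcard
    intro x hx
    obtain ⟨⟨hxD, hxT⟩, hxs⟩ := hx
    refine ⟨?_, hxT⟩
    apply Cfsg.Agent.Helper1.SCN3.mem_of_centralizes_of_maximal hEe hEmax _ (hDexp x hxD)
    have h1 : E ≤ Subgroup.centralizer ({x} : Set R) := by
      rw [hE]
      refine sup_le ?_ ?_
      · intro a ha
        rw [Subgroup.mem_centralizer_iff]
        intro t ht
        rw [Set.mem_singleton_iff] at ht
        subst ht
        exact ((Subgroup.mem_centralizer_iff.1 (hCs t hxs)) a ha).symm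
      · exact hZ'cen.trans (Subgroup.center_le_centralizer _)
    rw [Subgroup.mem_centralizer_iff]
    intro e he
    exact ((Subgroup.mem_centralizer_iff.1 (h1 he)) x rfl).symm
  have hfix₁ : ∀ d ∈ D₁, y d = d := fix_of_good hR D₁ hD₁exp s hscard y hy hgood
  have hcardD : Nat.card D ≤ p * Nat.card D₁ := by
    have h1 : D₁.relIndex D * Nat.card D₁ = Nat.card D :=
      Cfsg.Agent.Helper1.relIndex_mul_card_of_le inf_le_left
    have h2 : D₁.relIndex D = T.relIndex D := by rw [hD₁]; exact Subgroup.inf_relIndex_left D T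
    have h3 : T.relIndex D ∣ p := by rw [← hTidx]; exact Subgroup.relIndex_dvd_index_of_normal T D
    have h4 : T.relIndex D ≤ p := Nat.le_of_dvd hp.out.pos h3
    rw [← h1, h2]
    exact Nat.mul_le_mul_right _ h4
  have hfix : ∀ d ∈ D, y d = d :=
    fix_of_fix_mod hR y hy D₁ D hfix₁ (hgood D₁ D hD₁char hDchar inf_le_left hcardD)
  exact hDfaith y hy hfix

/-- the `p'`-elements of the derived subgroup of `Aut R` are trivial (`R` narrow of rank `≥ 3`) -/
theorem commutator_coprime_eq_one_of_narrow [Finite R] {p : ℕ} [hp : Fact p.Prime] (hp2 : p ≠ 2)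
    (hR : IsPGroup p R) (hN : Cfsg.IsNarrow p R) (hr : ¬ Cfsg.PRankLE p 2 R) (y : MulAut R)
    (hyc : y ∈ commutator (MulAut R)) (hy : (orderOf y).Coprime p) : y = 1 :=
  eq_one_of_good hp2 hR hN hr y hy (good_of_mem_commutator hR y hyc)

/-- every `p'`-automorphism has order dividing `p - 1` (`R` narrow of rank `≥ 3`) -/
theorem pow_pred_eq_one_of_narrow [Finite R] {p : ℕ} [hp : Fact p.Prime] (hp2 : p ≠ 2)
    (hR : IsPGroup p R) (hN : Cfsg.IsNarrow p R) (hr : ¬ Cfsg.PRankLE p 2 R) (x : MulAut R)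
    (hx : (orderOf x).Coprime p) : x ^ (p - 1) = 1 := by
  apply eq_one_of_good hp2 hR hN hr (x ^ (p - 1))
    (hx.coprime_dvd_left (orderOf_pow_dvd (p - 1)))
  exact good_of_pow_pred hR x

/-- **B&G Theorem 5.5(a)**, external form: for a solvable group `X` of odd order of automorphisms
of a narrow `p`-group, the `p'`-elements of `⁅X, X⁆` are trivial. -/
theorem commutator_coprime_eq_one [Finite R] {p : ℕ} [hp : Fact p.Prime] (hp2 : p ≠ 2)
    (hR : IsPGroup p R) (hN : Cfsg.IsNarrow p R) (X : Subgroup (MulAut R))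
    (hsol : Group.IsSolvable X) (hodd : Odd (Nat.card X)) :
    ∀ y ∈ ⁅X, X⁆, (orderOf y).Coprime p → y = 1 := by
  by_cases hr : Cfsg.PRankLE p 2 R
  · exact Cfsg.Agent.Helper1.Rank2Key.commutator_coprime_eq_one hp2 hR hr X hsol hodd
  · intro y hyX hy
    apply commutator_coprime_eq_one_of_narrow hp2 hR hN hr y _ hy
    rw [commutator_def]
    exact Subgroup.commutator_mono le_top le_top hyX

end Cfsg.Agent.Helper2.Narrow
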