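import Mathlib
import Cfsg.Prelude.Def_OddOrderLocal
import Cfsg.Agent.Helper1.R2SB
import Cfsg.Agent.S1448

set_option autoImplicit false

/-!
The last clause of B&G Theorem 5.5(c): a group `A` of prime order not dividing `p (p - 1)` acting on
a non-abelian `p`-group `R` of rank at most two with `[R, A] = R` forces `|R| = p ^ 3`.
-/

namespace Cfsg.Agent.Helper2.Narrow

open scoped commutatorElement

universe u

variable {G : Type u} [Group G]

/-- a group of prime order `q ∤ p (p - 1)` normalising a cyclic `p`-group centralises it -/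
theorem centralizes_cyclic_of_prime_card [Finite G] {p : ℕ} [hp : Fact p.Prime] (C A : Subgroup G)
    (hC : IsPGroup p C) (hcyc : IsCyclic C) (hA : A ≤ Subgroup.normalizer (C : Set G))
    (hq : (Nat.card A).Prime) (hnd : ¬ Nat.card A ∣ p * (p - 1)) :
    A ≤ Subgroup.centralizer (C : Set G) := by
  set ψ : A →* MulAut C := C.normalizerMonoidHom.comp (Subgroup.inclusion hA) with hψ
  have h1 : Nat.card ψ.range ∣ Nat.card A := Subgroup.card_range_dvd ψ
  have h2 : Nat.card ψ.range ∣ Nat.card (MulAut C) := Subgroup.card_subgroup_dvd_card _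
  have h3 : Nat.card ψ.range = 1 := by
    rcases (Nat.dvd_prime hq).1 h1 with h | h
    · exact h
    exfalso
    rw [h, IsCyclic.card_mulAut] at h2
    obtain ⟨k, hk⟩ := IsPGroup.iff_card.1 hC
    rw [hk] at h2
    rcases Nat.eq_zero_or_pos k with rfl | hkpos
    · rw [pow_zero, Nat.totient_one] at h2
      exact hq.one_lt.ne' (Nat.dvd_one.1 h2)
    · rw [Nat.totient_prime_pow hp.out hkpos] at h2
      rcases (Nat.Prime.dvd_mul hq).1 h2 with h4 | h4
      · have h5 : Nat.card A ∣ p := hq.dvd_of_dvd_pow h4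
        exact hnd (Dvd.dvd.mul_right h5 _)
      · exact hnd (Dvd.dvd.mul_left h4 _)
  have h4 : ψ.range = ⊥ := Subgroup.card_eq_one.1 h3
  intro a ha
  have h5 : ψ ⟨a, ha⟩ = 1 := by
    have : ψ ⟨a, ha⟩ ∈ ψ.range := ⟨_, rfl⟩
    rw [h4, Subgroup.mem_bot] at this
    exact this
  have h6 : Subgroup.inclusion hA ⟨a, ha⟩ ∈ C.normalizerMonoidHom.ker := h5
  rw [Subgroup.normalizerMonoidHom_ker, Subgroup.mem_subgroupOf] at h6
  exact h6

/-- **Last clause of B&G Theorem 5.5(c).** -/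
theorem card_eq_cube [Finite G] (p : ℕ) [hp : Fact p.Prime] (hp2 : p ≠ 2) (R A : Subgroup G)
    (hR : IsPGroup p R) (hr : Cfsg.PRankLE p 2 R)
    (hA : A ≤ Subgroup.normalizer (R : Set G)) (hAodd : Odd (Nat.card A))
    (hq : (Nat.card A).Prime) (hnd : ¬ Nat.card A ∣ p * (p - 1))
    (hRA : ⁅R, A⁆ = R) (hnc : ¬ IsMulCommutative R) : Nat.card R = p ^ 3 := by
  have hR1 : R ≠ ⊥ := by
    rintro rfl
    apply hnc
    refine ⟨⟨?_⟩⟩
    rintro ⟨x, hx⟩ ⟨y, hy⟩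
    rw [Subgroup.mem_bot] at hx hy
    subst hx; subst hy
    rfl
  have hqp : Nat.card A ≠ p := by
    intro h
    apply hnd
    rw [h]
    exact Dvd.intro _ rfl
  have hcop : (Nat.card A).Coprime p := (Nat.coprime_primes hq hp.out).2 hqp
  obtain ⟨-, hcase⟩ := Cfsg.Agent.S1448.result p hp2 R A hR hR1 hr hA hcop hAodd hRA
  rcases hcase with hc | ⟨R₁, R₂, hsup, hcomm, hR₁nc, hR₁card, hR₁exp, hR₂cyc, hΩ⟩
  · exact absurd hc hnc
  have hR₁R : R₁ ≤ R := hsup ▸ le_sup_left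
  have hR₂R : R₂ ≤ R := hsup ▸ le_sup_right
  -- `R₂` is commutative
  have hR₂comm : ∀ x ∈ R₂, ∀ y ∈ R₂, x * y = y * x := by
    intro x hx y hy
    obtain ⟨g, hg⟩ := IsCyclic.exists_generator (α := ↥R₂)
    obtain ⟨m, hm⟩ := Subgroup.mem_zpowers_iff.1 (hg ⟨x, hx⟩)
    obtain ⟨n, hn⟩ := Subgroup.mem_zpowers_iff.1 (hg ⟨y, hy⟩)
    have h1 : (⟨x, hx⟩ : ↥R₂) * ⟨y, hy⟩ = ⟨y, hy⟩ * ⟨x, hx⟩ := by
      rw [← hm, ← hn, ← zpow_add, ← zpow_add, add_comm]
    exact congrArg Subtype.val h1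
  -- `R₂` is central in `R`
  have hR₂Z : R₂ ≤ Subgroup.centralizer (R : Set G) := by
    intro b hb
    have h1 : R ≤ Subgroup.centralizer ({b} : Set G) := by
      rw [← hsup]
      refine sup_le ?_ ?_
      · intro a ha
        rw [Subgroup.mem_centralizer_iff]
        intro t ht
        rw [Set.mem_singleton_iff] at ht
        subst ht
        exact (hcomm a ha t hb).symm
      · intro b' hb'
        rw [Subgroup.mem_centralizer_iff]
        intro t ht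
        rw [Set.mem_singleton_iff] at ht
        subst ht
        exact hR₂comm t hb b' hb'
    rw [Subgroup.mem_centralizer_iff]
    intro x hx
    exact ((Subgroup.mem_centralizer_iff.1 (h1 hx)) b rfl).symm
  have hR₂C₁ : R₂ ≤ Subgroup.centralizer (R₁ : Set G) :=
    hR₂Z.trans (Subgroup.centralizer_le hR₁R)
  have hR₂N₁ : R₂ ≤ Subgroup.normalizer (R₁ : Set G) :=
    hR₂C₁.trans (Subgroup.centralizer_le_normalizer _)
  have hmem : ∀ x ∈ R, ∃ a ∈ R₁, ∃ b ∈ R₂, x = a * b := by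
    intro x hx
    rw [← hsup, ← SetLike.mem_coe, Subgroup.coe_mul_of_right_le_normalizer_left R₁ R₂ hR₂N₁,
      Set.mem_mul] at hx
    obtain ⟨a, ha, b, hb, rfl⟩ := hx
    exact ⟨a, ha, b, hb, rfl⟩
  obtain ⟨-, hder⟩ := Cfsg.Agent.Helper1.R2S.center_of_card_cube' R₁ hR₁card hR₁nc
  have hΩR₂ : ⁅R₁, R₁⁆ ≤ R₂ := by
    rw [← hΩ, Subgroup.closure_le]
    intro x hx
    exact hx.1
  -- `Z(R) = R₂`
  have hZ : R ⊓ Subgroup.centralizer (R : Set G) = R₂ := by
    apply le_antisymm _ (le_inf hR₂R hR₂Z)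
    intro x hx
    obtain ⟨a, ha, b, hb, rfl⟩ := hmem x hx.1
    have haZ : a ∈ R₁ ⊓ Subgroup.centralizer (R₁ : Set G) := by
      refine ⟨ha, ?_⟩
      have h1 : a * b ∈ Subgroup.centralizer (R₁ : Set G) := Subgroup.centralizer_le hR₁R hx.2
      have h2 : a = a * b * b⁻¹ := by group
      rw [h2]
      exact Subgroup.mul_mem _ h1 (Subgroup.inv_mem _ (hR₂C₁ hb))
    rw [← hder] at haZ
    exact R₂.mul_mem (hΩR₂ haZ) hb
  have hAR₂ : A ≤ Subgroup.normalizer (R₂ : Set G) := by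
    rw [← hZ]
    have hfw : ∀ a ∈ A, ∀ x ∈ R ⊓ Subgroup.centralizer (R : Set G),
        a * x * a⁻¹ ∈ R ⊓ Subgroup.centralizer (R : Set G) := by
      intro a ha x hx
      refine Subgroup.mem_inf.2 ⟨((Subgroup.mem_normalizer_iff.1 (hA ha)) x).1 hx.1, ?_⟩
      rw [Subgroup.mem_centralizer_iff]
      intro r hr
      have hr' : a⁻¹ * r * a ∈ R := by
        have := ((Subgroup.mem_normalizer_iff.1 (hA (A.inv_mem ha))) r).1 hr
        rwa [inv_inv] at this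
      have h1 := (Subgroup.mem_centralizer_iff.1 hx.2) _ hr'
      calc r * (a * x * a⁻¹) = a * ((a⁻¹ * r * a) * x) * a⁻¹ := by group
        _ = a * (x * (a⁻¹ * r * a)) * a⁻¹ := by rw [h1]
        _ = a * x * a⁻¹ * r := by group
    intro a ha
    rw [Subgroup.mem_normalizer_iff]
    intro x
    constructor
    · exact hfw a ha x
    · intro hx
      have := hfw a⁻¹ (A.inv_mem ha) _ hx
      have e : a⁻¹ * (a * x * a⁻¹) * a⁻¹⁻¹ = x := by group
      rwa [e] at this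
  have hAC₂ : A ≤ Subgroup.centralizer (R₂ : Set G) :=
    centralizes_cyclic_of_prime_card R₂ A (hR.to_le hR₂R) hR₂cyc hAR₂ hq hnd
  -- `R₁ = Ω₁(R)` is `A`-invariant
  have hR₁exp' : ∀ x ∈ R₁, x ^ p = 1 := by
    intro x hx
    have h1 : (⟨x, hx⟩ : ↥R₁) ^ p = 1 := by
      rw [← hR₁exp]; exact Monoid.pow_exponent_eq_one _
    exact congrArg Subtype.val h1
  have hΩmem : ∀ x ∈ R, x ^ p = 1 → x ∈ R₁ := by
    intro x hx hxp
    obtain ⟨a, ha, b, hb, rfl⟩ := hmem x hx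
    have hc : Commute a b := hcomm a ha b hb
    rw [hc.mul_pow, hR₁exp' a ha, one_mul] at hxp
    have hb' : b ∈ ⁅R₁, R₁⁆ := by
      rw [← hΩ]
      exact Subgroup.subset_closure ⟨hb, hxp⟩
    exact R₁.mul_mem ha (Subgroup.commutator_le_self R₁ hb')
  have hconj : ∀ a ∈ A, ∀ x ∈ R₁, a * x * a⁻¹ ∈ R₁ := by
    intro a ha x hx
    apply hΩmem
    · exact ((Subgroup.mem_normalizer_iff.1 (hA ha)) x).1 (hR₁R hx)
    · rw [conj_pow, hR₁exp' x hx, mul_one, mul_inv_cancel]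
  -- `[R, A] ≤ R₁`
  have hle : ⁅R, A⁆ ≤ R₁ := by
    rw [Subgroup.commutator_le]
    intro x hx a ha
    obtain ⟨r₁, hr₁, r₂, hr₂, rfl⟩ := hmem x hx
    have h1 : a * r₂ = r₂ * a := ((Subgroup.mem_centralizer_iff.1 (hAC₂ ha)) r₂ hr₂).symm
    have h2 : ⁅r₁ * r₂, a⁆ = r₁ * (a * r₁⁻¹ * a⁻¹) := by
      rw [commutatorElement_def]
      calc r₁ * r₂ * a * (r₁ * r₂)⁻¹ * a⁻¹ = r₁ * (r₂ * a) * r₂⁻¹ * r₁⁻¹ * a⁻¹ := by group
        _ = r₁ * (a * r₂) * r₂⁻¹ * r₁⁻¹ * a⁻¹ := by rw [h1]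
        _ = r₁ * (a * r₁⁻¹ * a⁻¹) := by group
    rw [h2]
    exact R₁.mul_mem hr₁ (hconj a ha _ (R₁.inv_mem hr₁))
  have hRR₁ : R = R₁ := le_antisymm (hRA ▸ hle) hR₁R
  rw [hRR₁, hR₁card]

end Cfsg.Agent.Helper2.Narrow
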