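import Mathlib
import Cfsg.Agent.Lead.QuadSL2A
import Cfsg.Agent.Lead.SL2QuatA
import Cfsg.Agent.Helper2.SylowConj

set_option autoImplicit false
set_option linter.style.haveILetI false

/-!
# Groups that do not involve `SL₂(p)`

If, in every Sylow `2`-subgroup of a finite group `D`, any two elements with nontrivial squares
commute (this holds for abelian and for dihedral Sylow `2`-subgroups), then `D` does not involve
`SL₂(p)` for an odd prime `p`.
-/

namespace Cfsg.Agent.Helper2.NoInv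

open Cfsg.Agent.Lead Cfsg.Agent.Lead.QuadSL2
open scoped MatrixGroups

theorem conj_mul_self_ne {L : Type*} [Group L] {g x : L} (h : x * x ≠ 1) :
    (g * x * g⁻¹) * (g * x * g⁻¹) ≠ 1 := by
  intro h1
  apply h
  have h2 : g * (x * x) * g⁻¹ = 1 := by
    rw [← h1]; group
  calc x * x = g⁻¹ * (g * (x * x) * g⁻¹) * g := by group
    _ = 1 := by rw [h2]; group

/-- every Sylow `2`-subgroup of `SL₂(ℤ/p)`, `p` odd, contains two non-commuting elements with
nontrivial squares -/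
theorem exists_pair_sylow {p : ℕ} [hp : Fact p.Prime] (hp2 : p ≠ 2)
    (P : Sylow 2 SL(2, ZMod p)) :
    ∃ x ∈ P, ∃ y ∈ P, x * x ≠ 1 ∧ y * y ≠ 1 ∧ x * y ≠ y * x := by
  haveI : Fact (Nat.Prime 2) := ⟨Nat.prime_two⟩
  have h2 : (2 : ZMod p) ≠ 0 := by
    intro h
    have h3 : ((2 : ℕ) : ZMod p) = 0 := by exact_mod_cast h
    rw [ZMod.natCast_eq_zero_iff] at h3
    exact hp2 ((Nat.prime_dvd_prime_iff_eq hp.out Nat.prime_two).1 h3)
  obtain ⟨a, b, hab⟩ := ZMod.sq_add_sq p (-1)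
  have c := SL2Q.cfg h2 (2⁻¹) (mul_inv_cancel₀ h2) a b hab
  obtain ⟨g, hg⟩ := exists_conj_le_sylow P c.Q c.isPGroup_Q
  refine ⟨g * SL2Q.Jm * g⁻¹, hg _ c.j_mem_Q, g * SL2Q.om a b hab * g⁻¹, hg _ c.w_mem_Q,
    ?_, ?_, ?_⟩
  · apply conj_mul_self_ne
    rw [c.j_sq]; exact c.e_ne
  · apply conj_mul_self_ne
    rw [c.w_sq]; exact c.e_ne
  · intro h
    apply c.not_comm_w_j
    have h3 : g * (SL2Q.om a b hab * SL2Q.Jm) * g⁻¹ = g * (SL2Q.Jm * SL2Q.om a b hab) * g⁻¹ := by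
      calc g * (SL2Q.om a b hab * SL2Q.Jm) * g⁻¹
          = (g * SL2Q.om a b hab * g⁻¹) * (g * SL2Q.Jm * g⁻¹) := by group
        _ = (g * SL2Q.Jm * g⁻¹) * (g * SL2Q.om a b hab * g⁻¹) := h.symm
        _ = g * (SL2Q.Jm * SL2Q.om a b hab) * g⁻¹ := by group
    exact mul_left_cancel (mul_right_cancel h3)

/-- a finite group in whose Sylow `2`-subgroups elements with nontrivial squares commute does not
involve `SL₂(p)`, `p` odd -/
theorem not_inv_of_sylow {D : Type*} [Group D] [Finite D] {p : ℕ} [hp : Fact p.Prime]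
    (hp2 : p ≠ 2)
    (h : ∀ S : Sylow 2 D, ∀ x ∈ S, ∀ y ∈ S, x * x ≠ 1 → y * y ≠ 1 → x * y = y * x) :
    ¬ Inv p D := by
  rintro ⟨A, f, hf⟩
  haveI : Fact (Nat.Prime 2) := ⟨Nat.prime_two⟩
  obtain ⟨T⟩ : Nonempty (Sylow 2 A) := inferInstance
  obtain ⟨x, hx, y, hy, hxx, hyy, hxy⟩ := exists_pair_sylow hp2 (T.mapSurjective hf)
  have hx' : x ∈ ((T.mapSurjective hf : Sylow 2 SL(2, ZMod p)) : Subgroup SL(2, ZMod p)) := hx
  have hy' : y ∈ ((T.mapSurjective hf : Sylow 2 SL(2, ZMod p)) : Subgroup SL(2, ZMod p)) := hy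
  rw [Sylow.coe_mapSurjective, Subgroup.mem_map] at hx' hy'
  obtain ⟨x1, hx1, rfl⟩ := hx'
  obtain ⟨y1, hy1, rfl⟩ := hy'
  have hT2 : IsPGroup 2 ((T : Subgroup A).map A.subtype) := T.isPGroup'.map _
  obtain ⟨S, hS⟩ := hT2.exists_le_sylow
  have hx1S : (x1 : D) ∈ S := hS (Subgroup.mem_map_of_mem _ hx1)
  have hy1S : (y1 : D) ∈ S := hS (Subgroup.mem_map_of_mem _ hy1)
  have hc := h S _ hx1S _ hy1S (by
    intro h1
    apply hxx
    have h2 : x1 * x1 = 1 := Subtype.ext h1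
    rw [← map_mul, h2, map_one]) (by
    intro h1
    apply hyy
    have h2 : y1 * y1 = 1 := Subtype.ext h1
    rw [← map_mul, h2, map_one])
  apply hxy
  have h2 : x1 * y1 = y1 * x1 := Subtype.ext hc
  rw [← map_mul, h2, map_mul]

end Cfsg.Agent.Helper2.NoInv
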