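import Mathlib
import Cfsg.Agent.Lead.PSL2FusSimple
import Cfsg.Agent.Helper2.NoInvA

set_option autoImplicit false

/-!
# `PSL₂(q)`, `q` odd, does not involve `SL₂(p)` for odd `p`
-/

namespace Cfsg.Agent.Helper2.NoInv

open Matrix Subgroup Cfsg.Agent.Lead Cfsg.Agent.Lead.QuadSL2
open Cfsg.Agent.Helper8.Dk Cfsg.Agent.Helper7.SL2 Cfsg.Agent.Helper8.SL2C
open scoped MatrixGroups

/-- elements of a dihedral group with nontrivial squares commute -/
theorem dihedral_comm {n : ℕ} (x y : DihedralGroup n) (hx : x * x ≠ 1) (hy : y * y ≠ 1) :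
    x * y = y * x := by
  cases x with
  | r i =>
    cases y with
    | r j => rw [DihedralGroup.r_mul_r, DihedralGroup.r_mul_r, add_comm]
    | sr j => exact absurd (DihedralGroup.sr_mul_self j) hy
  | sr i => exact absurd (DihedralGroup.sr_mul_self i) hx

theorem arith' (q m w N : ℕ) (hN : 2 * N = q * ((2 * m) * (2 * w))) (hq : q % 2 = 1)
    (hw : w % 2 = 1) (hm0 : m ≠ 0) :
    ∃ k, 2 ^ k ∣ m ∧ ¬ 2 ^ (k + 1) ∣ m ∧ N.factorization 2 = k + 1 := by
  obtain ⟨k, u, hu, hmk⟩ := Nat.exists_eq_two_pow_mul_odd hm0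
  have hu2 : u % 2 = 1 := Nat.odd_iff.mp hu
  refine ⟨k, ⟨u, hmk⟩, ?_, ?_⟩
  · rintro ⟨c, hc⟩
    rw [hmk, pow_succ, mul_assoc] at hc
    have := Nat.eq_of_mul_eq_mul_left (by positivity) hc
    omega
  · have hNeq : N = 2 ^ (k + 1) * (q * u * w) := by
      have h1 : 2 * N = 2 * (2 ^ (k + 1) * (q * u * w)) := by
        rw [hN, hmk, pow_succ]; ring
      omega
    have hodd : ¬ 2 ∣ q * u * w := by
      rw [Nat.Prime.dvd_mul Nat.prime_two, Nat.Prime.dvd_mul Nat.prime_two]
      omega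
    have hne : q * u * w ≠ 0 := by
      intro h
      apply hodd
      rw [h]; exact dvd_zero 2
    rw [hNeq, Nat.factorization_mul (by positivity) hne, Nat.factorization_pow]
    simp only [Finsupp.coe_add, Finsupp.coe_smul, Pi.add_apply, Pi.smul_apply, smul_eq_mul]
    rw [Nat.Prime.factorization_self Nat.prime_two, Nat.factorization_eq_zero_of_not_dvd hodd]
    omega

variable {F : Type*} [Field F] [Fintype F]

/-- the Sylow `2`-subgroups of `PSL₂(q)`, `q ≥ 5` odd, are dihedral -/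
theorem psl2_sylow_dihedral (hodd : Fintype.card F % 2 = 1) (h5 : 5 ≤ Fintype.card F)
    (S : Sylow 2 (ProjectiveSpecialLinearGroup (Fin 2) F)) :
    ∃ k : ℕ, Nonempty (S ≃* DihedralGroup (2 ^ k)) := by
  haveI : Fact (Nat.Prime 2) := ⟨Nat.prime_two⟩
  have hq1 : 1 ≤ Fintype.card F := by omega
  have hsq := sq_sub_one_eq (Fintype.card F) hq1
  have hd : Nat.card (center (SpecialLinearGroup (Fin 2) F)) = 2 := by
    rw [card_center_SL2]
    have : 2 ∣ Fintype.card F - 1 := by omega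
    exact Nat.gcd_eq_left this
  have hG := card_center_mul_card_PSL2 (F := F)
  rw [hd, hsq] at hG
  obtain ⟨⟨D₁, m₁, ⟨e₁⟩, hm₁⟩, ⟨D₂, m₂, ⟨e₂⟩, hm₂⟩⟩ :=
    PSL2Fus.exists_dihedral_data hodd (by omega)
  have hmod : Fintype.card F % 4 = 1 ∨ Fintype.card F % 4 = 3 := by omega
  rcases hmod with hmod | hmod
  · obtain ⟨w, hw⟩ : ∃ w, 2 * w = Fintype.card F + 1 := ⟨(Fintype.card F + 1) / 2, by omega⟩
    have hwodd : w % 2 = 1 := by omega
    have hm0 : m₁ ≠ 0 := by omega
    obtain ⟨k, hkm, hkm', hfac⟩ := arith' (Fintype.card F) m₁ w _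
      (by rw [hG, hm₁, hw]) hodd hwodd hm0
    haveI : NeZero m₁ := ⟨hm0⟩
    have hcard : Nat.card S = 2 ^ (k + 1) := by rw [S.card_eq_multiplicity, hfac]
    exact ⟨k, DihSyl.sylow_dihedral S D₁ m₁ k e₁ hcard hkm hkm'⟩
  · obtain ⟨w, hw⟩ : ∃ w, 2 * w = Fintype.card F - 1 := ⟨(Fintype.card F - 1) / 2, by omega⟩
    have hwodd : w % 2 = 1 := by omega
    have hm0 : m₂ ≠ 0 := by omega
    obtain ⟨k, hkm, hkm', hfac⟩ := arith' (Fintype.card F) m₂ w _
      (by rw [hG, hm₂, hw, mul_comm (Fintype.card F - 1)]) hodd hwodd hm0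
    haveI : NeZero m₂ := ⟨hm0⟩
    have hcard : Nat.card S = 2 ^ (k + 1) := by rw [S.card_eq_multiplicity, hfac]
    exact ⟨k, DihSyl.sylow_dihedral S D₂ m₂ k e₂ hcard hkm hkm'⟩

/-- `PSL₂(q)`, `q` odd, does not involve `SL₂(p)`, `p` an odd prime -/
theorem not_inv_psl2 (hodd : Fintype.card F % 2 = 1) {p : ℕ} [hp : Fact p.Prime] (hp2 : p ≠ 2) :
    ¬ Inv p (ProjectiveSpecialLinearGroup (Fin 2) F) := by
  by_cases h5 : 5 ≤ Fintype.card F
  · apply not_inv_of_sylow hp2
    intro S x hx y hy hxx hyy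
    obtain ⟨k, ⟨e⟩⟩ := psl2_sylow_dihedral hodd h5 S
    have h1 := dihedral_comm (e ⟨x, hx⟩) (e ⟨y, hy⟩) (by
      intro h
      apply hxx
      rw [← map_mul, e.map_eq_one_iff] at h
      exact congrArg Subtype.val h) (by
      intro h
      apply hyy
      rw [← map_mul, e.map_eq_one_iff] at h
      exact congrArg Subtype.val h)
    rw [← map_mul, ← map_mul] at h1
    exact congrArg Subtype.val (e.injective h1)
  · -- `q = 3`: the group has order `12`
    have h2 : 2 ≤ Fintype.card F := Fintype.one_lt_card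
    have h3 : Fintype.card F = 3 := by omega
    rintro ⟨A, f, hf⟩
    have hd : Nat.card (center (SpecialLinearGroup (Fin 2) F)) = 2 := by
      rw [card_center_SL2, h3]
      rfl
    have hG := card_center_mul_card_PSL2 (F := F)
    rw [hd, h3] at hG
    have hG12 : Nat.card (ProjectiveSpecialLinearGroup (Fin 2) F) = 12 := by omega
    have hA : Nat.card A ≤ 12 := by
      rw [← hG12]
      exact Subgroup.card_le_card_group A
    have hSL : Nat.card SL(2, ZMod p) ≤ Nat.card A := Nat.card_le_card_of_surjective f hf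
    have hcard := card_SL2 (F := ZMod p)
    rw [ZMod.card] at hcard
    have hp3 : 3 ≤ p := by
      have := hp.out.two_le
      omega
    have h24 : 24 ≤ p * (p ^ 2 - 1) := by
      have h9 : 9 ≤ p ^ 2 := by nlinarith
      have h8 : 8 ≤ p ^ 2 - 1 := by omega
      nlinarith
    rw [hcard] at hSL
    omega

end Cfsg.Agent.Helper2.NoInv
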