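import Mathlib
import Cfsg.Agent.S1157
import Cfsg.Agent.Helper2.NoInvA

set_option autoImplicit false

/-!
# The small Ree groups do not involve `SL₂(3)`
-/

namespace Cfsg.Agent.Helper2.NoInv

open Cfsg.Agent.Lead.QuadSL2

/-- the Sylow `2`-subgroups of `²G₂(q)` are abelian, so no `SL₂(3)` is involved -/
theorem not_inv_ree {K : Type*} [Field K] [Fintype K] {m : ℕ} (hm : 1 ≤ m)
    (hK : Fintype.card K = 3 ^ (2 * m + 1)) :
    ¬ Inv 3 ↥(Cfsg.Lie.twistedG2 K (3 ^ m)) := by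
  haveI : Fact (Nat.Prime 3) := ⟨Nat.prime_three⟩
  apply not_inv_of_sylow (by norm_num)
  intro S x hx y hy _ _
  have h1 := (Cfsg.Agent.S1157.result hm hK S).1
  have hx' : x ∈ Subgroup.centralizer ((S : Subgroup ↥(Cfsg.Lie.twistedG2 K (3 ^ m))) :
      Set ↥(Cfsg.Lie.twistedG2 K (3 ^ m))) := by
    rw [h1]; exact hx
  rw [Subgroup.mem_centralizer_iff] at hx'
  exact (hx' y hy).symm

end Cfsg.Agent.Helper2.NoInv
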