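import Mathlib
import Cfsg.Prelude.Def_Transfer
import Cfsg.Agent.Lead.QuadSL2B
import Cfsg.Agent.Helper2.ZasPSLF
import Cfsg.Agent.Helper2.BaerSuzuki

set_option autoImplicit false
set_option linter.style.haveILetI false

/-!
# No quadratic action when `SL₂(p)` is not involved

Let `H` act irreducibly by conjugation on the elementary abelian `p`-subgroup `V`, `p` odd, and
suppose that `H / C_H(V)` does not involve `SL₂(p)`.  Then no subgroup of `H` acts quadratically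
and nontrivially on `V`.
-/

namespace Cfsg.Agent.Helper2.NoInv

open Cfsg.Agent.Lead.QuadSL2 Cfsg.Agent.Helper2.ZasPSL
open scoped commutatorElement

/-- conjugates of a quadratically acting element act quadratically (abstract action) -/
theorem quad_conj {A X : Type*} [Group A] [Group X] (θ : X →* MulAut A) (a g : X)
    (hqa : ∀ v : A, θ a (θ a v * v⁻¹) * (θ a v * v⁻¹)⁻¹ = 1) (v : A) :
    θ (g * a * g⁻¹) (θ (g * a * g⁻¹) v * v⁻¹) * (θ (g * a * g⁻¹) v * v⁻¹)⁻¹ = 1 := by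
  have e1 : ∀ u : A, θ (g * a * g⁻¹) (θ g u) = θ g (θ a u) := by
    intro u
    rw [map_mul, map_mul, MulAut.mul_apply, MulAut.mul_apply, map_inv, MulAut.inv_apply,
      MulEquiv.symm_apply_apply]
  obtain ⟨w, rfl⟩ : ∃ w, θ g w = v := ⟨(θ g).symm v, MulEquiv.apply_symm_apply _ _⟩
  have e2 : θ (g * a * g⁻¹) (θ g w) * (θ g w)⁻¹ = θ g (θ a w * w⁻¹) := by
    rw [e1 w, map_mul, map_inv]
  rw [e2, e1, ← map_inv, ← map_mul, hqa w, map_one]

/-- a finite subgroup all of whose `p'`-elements are trivial is a `p`-group -/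
theorem isPGroup_of_coprime_trivial {X : Type*} [Group X] [Finite X] {p : ℕ} [hp : Fact p.Prime]
    (K : Subgroup X) (h : ∀ d ∈ K, (orderOf d).Coprime p → d = 1) : IsPGroup p K := by
  rintro ⟨x, hx⟩
  obtain ⟨k, m, hm, hkm⟩ :=
    Nat.exists_eq_pow_mul_and_not_dvd (orderOf_pos x).ne' p hp.out.ne_one
  refine ⟨k, Subtype.ext ?_⟩
  show x ^ p ^ k = 1
  apply h _ (K.pow_mem hx _)
  have h1 : orderOf (x ^ p ^ k) ∣ m := by
    apply orderOf_dvd_of_pow_eq_one
    rw [← pow_mul, ← hkm, pow_orderOf_eq_one]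
  have h2 : Nat.Coprime m p := ((Nat.Prime.coprime_iff_not_dvd hp.out).2 hm).symm
  exact Nat.Coprime.coprime_dvd_left h1 h2

variable {G : Type*} [Group G]

set_option maxHeartbeats 1000000 in
theorem no_quadratic [Finite G] {p : ℕ} [hp : Fact p.Prime] (hp2 : p ≠ 2) (V H : Subgroup G)
    (hV : Cfsg.IsElementaryAbelian p V) (hHV : H ≤ Subgroup.normalizer (V : Set G))
    (hirr : ∀ U : Subgroup G, U ≤ V → H ≤ Subgroup.normalizer (U : Set G) → U = ⊥ ∨ U = V)
    [hn : ((Subgroup.centralizer (V : Set G)).subgroupOf H).Normal]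
    (hnoinv : ¬ Inv p (↥H ⧸ (Subgroup.centralizer (V : Set G)).subgroupOf H))
    (A : Subgroup G) (hA : A ≤ H) (hquad : ⁅⁅V, A⁆, A⁆ = ⊥) : ⁅V, A⁆ = ⊥ := by
  classical
  by_contra hne
  -- an element of `A` acting nontrivially
  obtain ⟨a, haA, haC⟩ : ∃ a ∈ A, a ∉ Subgroup.centralizer (V : Set G) := by
    by_contra hall
    push Not at hall
    apply hne
    rw [Subgroup.commutator_eq_bot_iff_le_centralizer]
    intro v hv
    rw [Subgroup.mem_centralizer_iff]
    intro x hx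
    have h1 := hall x hx
    rw [Subgroup.mem_centralizer_iff] at h1
    exact (h1 v hv).symm
  have haH : a ∈ H := hA haA
  -- the action
  have hnrm : ∀ h ∈ H, ∀ x ∈ V, h * x * h⁻¹ ∈ V := fun h hh x hx =>
    (Subgroup.mem_normalizer_iff.1 (hHV hh) x).1 hx
  obtain ⟨θ0, hθ0⟩ : ∃ θ0 : ↥H →* MulAut ↥V, θ0 = conjAct V H hnrm := ⟨_, rfl⟩
  have hθ0a : ∀ (h : ↥H) (x : ↥V), ((θ0 h x : ↥V) : G) = (h : G) * x * (h : G)⁻¹ := by
    intro h x; rw [hθ0]; rfl
  have hker : ∀ h : ↥H, h ∈ (Subgroup.centralizer (V : Set G)).subgroupOf H ↔ θ0 h = 1 := by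
    intro h
    rw [Subgroup.mem_subgroupOf, Subgroup.mem_centralizer_iff]
    constructor
    · intro hc
      apply MulEquiv.ext
      intro v
      apply Subtype.ext
      rw [hθ0a, MulAut.one_apply, ← hc v v.2]
      group
    · intro h1 v hv
      have h2 := congrArg (fun f : MulAut ↥V => ((f ⟨v, hv⟩ : ↥V) : G)) h1
      simp only [hθ0a, MulAut.one_apply] at h2
      calc v * (h : G) = ((h : G) * v * (h : G)⁻¹) * (h : G) := by rw [h2]
        _ = (h : G) * v := by group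
  obtain ⟨θ, hθmk⟩ : ∃ θ : (↥H ⧸ (Subgroup.centralizer (V : Set G)).subgroupOf H) →* MulAut ↥V,
      ∀ h : ↥H, θ (QuotientGroup.mk h) = θ0 h :=
    ⟨QuotientGroup.lift _ θ0 (fun h hh => (hker h).1 hh), fun h => rfl⟩
  have hθinj : ∀ x, θ x = 1 → x = 1 := by
    intro x hx
    obtain ⟨h, rfl⟩ := QuotientGroup.mk_surjective x
    rw [hθmk] at hx
    exact (QuotientGroup.eq_one_iff h).2 ((hker h).2 hx)
  -- `V` as a commutative group
  letI : CommGroup ↥V := { (inferInstance : Group ↥V) with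
    mul_comm := fun u v => hV.1.is_comm.comm u v }
  have hVp : ∀ v : ↥V, v ^ p = 1 := fun v => Subtype.ext (hV.2 v v.2)
  -- the quadratic condition, elementwise
  have hq_el : ∀ v ∈ V, a * (a * v * a⁻¹ * v⁻¹) * a⁻¹ * (a * v * a⁻¹ * v⁻¹)⁻¹ = 1 := by
    intro v hv
    have h1 : ⁅a, v⁆ ∈ ⁅V, A⁆ := by
      rw [Subgroup.commutator_comm]
      exact Subgroup.commutator_mem_commutator haA hv
    have h2 : ⁅a, ⁅a, v⁆⁆ ∈ ⁅⁅V, A⁆, A⁆ := by
      rw [Subgroup.commutator_comm]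
      exact Subgroup.commutator_mem_commutator haA h1
    rw [hquad, Subgroup.mem_bot] at h2
    rw [commutatorElement_def, commutatorElement_def] at h2
    exact h2
  set ā : ↥H ⧸ (Subgroup.centralizer (V : Set G)).subgroupOf H :=
    QuotientGroup.mk (⟨a, haH⟩ : ↥H) with hā
  have hqa : ∀ v : ↥V, θ ā (θ ā v * v⁻¹) * (θ ā v * v⁻¹)⁻¹ = 1 := by
    intro v
    apply Subtype.ext
    rw [hā, hθmk]
    simp only [Subgroup.coe_mul, Subgroup.coe_inv, hθ0a, Subgroup.coe_one]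
    exact hq_el v v.2
  -- pairs of conjugates generate `p`-groups
  have hpair : ∀ g : ↥H ⧸ (Subgroup.centralizer (V : Set G)).subgroupOf H,
      IsPGroup p (Subgroup.closure {ā, g * ā * g⁻¹}) := by
    intro g
    apply isPGroup_of_coprime_trivial
    intro d hd hdp
    apply hθinj
    exact eqOneQuadInv hp2 hVp θ ā (g * ā * g⁻¹) hqa (quad_conj θ ā g hqa)
      (fun h => hnoinv (Inv.of_subgroup _ h)) d hd hdp
  -- Baer–Suzuki
  obtain ⟨Z, hZ⟩ : ∃ Z : Subgroup (↥H ⧸ (Subgroup.centralizer (V : Set G)).subgroupOf H),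
      Z = Subgroup.zpowers ā := ⟨_, rfl⟩
  have hsub : ∀ g, Z ⊔ Cfsg.Agent.Helper2.cj g Z ≤ Subgroup.closure {ā, g * ā * g⁻¹} := by
    intro g
    apply sup_le
    · rw [hZ, Subgroup.zpowers_le]
      exact Subgroup.subset_closure (by simp)
    · have e1 : Cfsg.Agent.Helper2.cj g Z = Subgroup.zpowers (g * ā * g⁻¹) := by
        show Z.map (MulAut.conj g).toMonoidHom = _
        rw [hZ, MonoidHom.map_zpowers]
        rfl
      rw [e1, Subgroup.zpowers_le]
      exact Subgroup.subset_closure (by simp)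
  have hpg : ∀ g, IsPGroup p ↥(Z ⊔ Cfsg.Agent.Helper2.cj g Z) := fun g =>
    (hpair g).to_le (hsub g)
  have hZp : IsPGroup p Z := (hpg 1).to_le le_sup_left
  obtain ⟨N, hNn, hNp, hZN⟩ := Cfsg.Agent.Helper2.baer_suzuki Z hZp hpg
  have hāN : ā ∈ N := hZN (hZ ▸ Subgroup.mem_zpowers ā)
  -- the fixed points of `N` on `V`
  let U : Subgroup G :=
    { carrier := {v | v ∈ V ∧ ∀ h : ↥H, (QuotientGroup.mk h :
          ↥H ⧸ (Subgroup.centralizer (V : Set G)).subgroupOf H) ∈ N →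
          (h : G) * v * (h : G)⁻¹ = v}
      one_mem' := ⟨V.one_mem, fun h _ => by group⟩
      mul_mem' := by
        rintro x y ⟨hx, hx'⟩ ⟨hy, hy'⟩
        refine ⟨V.mul_mem hx hy, fun h hh => ?_⟩
        calc (h : G) * (x * y) * (h : G)⁻¹
            = ((h : G) * x * (h : G)⁻¹) * ((h : G) * y * (h : G)⁻¹) := by group
          _ = x * y := by rw [hx' h hh, hy' h hh]
      inv_mem' := by
        rintro x ⟨hx, hx'⟩
        refine ⟨V.inv_mem hx, fun h hh => ?_⟩
        calc (h : G) * x⁻¹ * (h : G)⁻¹ = ((h : G) * x * (h : G)⁻¹)⁻¹ := by group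
          _ = x⁻¹ := by rw [hx' h hh] }
  have hUV : U ≤ V := fun v hv => hv.1
  have hconjU : ∀ g ∈ H, ∀ v ∈ U, g * v * g⁻¹ ∈ U := by
    rintro g hg v ⟨hv, hv'⟩
    refine ⟨hnrm g hg v hv, fun h hh => ?_⟩
    have h1 : (QuotientGroup.mk ((⟨g, hg⟩ : ↥H)⁻¹ * h * ⟨g, hg⟩) :
        ↥H ⧸ (Subgroup.centralizer (V : Set G)).subgroupOf H) ∈ N := by
      rw [QuotientGroup.mk_mul, QuotientGroup.mk_mul, QuotientGroup.mk_inv]
      have := hNn.conj_mem _ hh (QuotientGroup.mk (⟨g, hg⟩ : ↥H))⁻¹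
      rwa [inv_inv] at this
    have h2 := hv' _ h1
    simp only [Subgroup.coe_mul, Subgroup.coe_inv] at h2
    calc (h : G) * (g * v * g⁻¹) * (h : G)⁻¹
        = g * ((g⁻¹ * (h : G) * g) * v * (g⁻¹ * (h : G) * g)⁻¹) * g⁻¹ := by group
      _ = g * v * g⁻¹ := by rw [h2]
  have hUn : H ≤ Subgroup.normalizer (U : Set G) := by
    intro g hg
    rw [Subgroup.mem_normalizer_iff]
    intro v
    constructor
    · exact hconjU g hg v
    · intro hv
      have h1 := hconjU g⁻¹ (H.inv_mem hg) _ hv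
      rw [inv_inv] at h1
      have h2 : g⁻¹ * (g * v * g⁻¹) * g = v := by group
      rwa [h2] at h1
  -- `U` is nontrivial
  have hVnt : Nontrivial ↥V := by
    by_contra hnt
    rw [not_nontrivial_iff_subsingleton] at hnt
    apply haC
    rw [Subgroup.mem_centralizer_iff]
    intro v hv
    have : (⟨v, hv⟩ : ↥V) = 1 := Subsingleton.elim _ _
    have hv1 : v = 1 := congrArg Subtype.val this
    rw [hv1, one_mul, mul_one]
  have hVpg : IsPGroup p ↥V := fun v => ⟨1, by rw [pow_one]; exact hVp v⟩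
  have hpV : p ∣ Nat.card ↥V := by
    obtain ⟨n, hn0, hn⟩ := hVpg.nontrivial_iff_card.mp hVnt
    rw [hn]
    exact dvd_pow_self p hn0.ne'
  letI : MulAction ↥N ↥V := MulAction.compHom ↥V (θ.comp N.subtype)
  have hsmul : ∀ (n : ↥N) (v : ↥V), n • v = θ (n : ↥H ⧸ _) v := fun _ _ => rfl
  have h1fix : (1 : ↥V) ∈ MulAction.fixedPoints ↥N ↥V := by
    intro n
    rw [hsmul, map_one]
  obtain ⟨b, hbfix, hb1⟩ := hNp.exists_fixed_point_of_prime_dvd_card_of_fixed_point ↥V hpV h1fix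
  have hbU : (b : G) ∈ U := by
    refine ⟨b.2, fun h hh => ?_⟩
    have h2 := hbfix ⟨_, hh⟩
    rw [hsmul, hθmk] at h2
    have h3 := congrArg (fun x : ↥V => (x : G)) h2
    simp only [hθ0a] at h3
    exact h3
  have hUne : U ≠ ⊥ := by
    intro h
    rw [h, Subgroup.mem_bot] at hbU
    exact hb1 (Subtype.ext hbU.symm)
  have hUeq : U = V := (hirr U hUV hUn).resolve_left hUne
  -- so `a` centralizes `V`
  apply haC
  rw [Subgroup.mem_centralizer_iff]
  intro v hv
  have hvU : v ∈ U := by rw [hUeq]; exact hv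
  have h2 := hvU.2 ⟨a, haH⟩ hāN
  simp only at h2
  calc v * a = (a * v * a⁻¹) * a := by rw [h2]
    _ = a * v := by group

end Cfsg.Agent.Helper2.NoInv
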