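import Mathlib
import Cfsg.Agent.Helper2.CIT3

set_option autoImplicit false

namespace Cfsg.Agent.Helper2.NormPrime

open Cfsg.Agent.Helper2

variable {G : Type*} [Group G] [Finite G]

/-- If `P` has prime order `p`, `σ ∈ P` is non-trivial and every non-trivial element of `P` is
conjugate to `σ`, then `|N(P)| = |C(σ)| * (p - 1)`. -/
theorem card_normalizer_of_prime_of_conj {p : ℕ} (hp : p.Prime)
    (P : Subgroup G) (hP : Nat.card P = p) (σ : G) (hσP : σ ∈ P) (hσ1 : σ ≠ 1)
    (hconj : ∀ y ∈ P, y ≠ 1 → ∃ c : G, c * σ * c⁻¹ = y) :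
    Nat.card (Subgroup.normalizer (P : Set G)) =
      Nat.card (Subgroup.centralizer ({σ} : Set G)) * (p - 1) := by
  -- P = zpowers σ
  have hoσ : orderOf σ = p := by
    have h1 : orderOf σ ∣ p := by
      have h2 : orderOf (⟨σ, hσP⟩ : P) ∣ Nat.card P := orderOf_dvd_natCard _
      rw [hP, ← Subgroup.orderOf_coe] at h2
      exact h2
    rcases (Nat.dvd_prime hp).mp h1 with h | h
    · exact absurd (orderOf_eq_one_iff.mp h) hσ1
    · exact h
  have hPz : Subgroup.zpowers σ = P := by
    apply Subgroup.eq_of_le_of_card_ge (Subgroup.zpowers_le.mpr hσP)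
    rw [Nat.card_zpowers, hoσ, hP]
  have hPmem : ∀ d ∈ P, ∃ k : ℤ, σ ^ k = d := by
    intro d hd
    rw [← hPz] at hd
    exact Subgroup.mem_zpowers_iff.mp hd
  -- centralizer of σ normalizes P
  have hCN : Subgroup.centralizer ({σ} : Set G) ≤ Subgroup.normalizer (P : Set G) := by
    intro c hc
    apply CIT.mem_normalizer_of_forall_conj_mem
    intro d hd
    obtain ⟨k, rfl⟩ := hPmem d hd
    have h1 : σ * c = c * σ := Subgroup.mem_centralizer_iff.mp hc σ rfl
    have h2 : Commute c σ := h1.symm
    have h3 : Commute c (σ ^ k) := h2.zpow_right k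
    have h4 : c * σ ^ k * c⁻¹ = σ ^ k := by rw [h3.eq]; group
    rw [h4]; exact hd
  set N := Subgroup.normalizer (P : Set G) with hN
  letI act : MulAction ↥N G :=
    MulAction.compHom G ((MulAut.conj : G →* MulAut G).comp N.subtype)
  have hsmul : ∀ (g : ↥N) (y : G), g • y = (g : G) * y * (g : G)⁻¹ := fun g y => rfl
  have h1 := MulAction.index_stabilizer ↥N σ
  have h2 := Subgroup.card_mul_index (MulAction.stabilizer ↥N σ)
  -- the stabilizer
  have hstab : MulAction.stabilizer ↥N σ = (Subgroup.centralizer ({σ} : Set G)).subgroupOf N := by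
    ext g
    rw [MulAction.mem_stabilizer_iff, hsmul, Subgroup.mem_subgroupOf, Subgroup.mem_centralizer_iff]
    constructor
    · intro h y hy
      rw [Set.mem_singleton_iff] at hy
      rw [hy]
      calc σ * (g : G) = (g : G) * σ * (g : G)⁻¹ * (g : G) := by rw [h]
        _ = (g : G) * σ := by group
    · intro h
      have := h σ rfl
      rw [← this]; group
  have hstabcard : Nat.card (MulAction.stabilizer ↥N σ) =
      Nat.card (Subgroup.centralizer ({σ} : Set G)) := by
    rw [hstab]
    exact Nat.card_congr (Subgroup.subgroupOfEquivOfLe hCN).toEquiv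
  -- the orbit
  have horb : MulAction.orbit ↥N σ = (P : Set G) \ {1} := by
    ext y
    rw [MulAction.mem_orbit_iff]
    constructor
    · rintro ⟨g, rfl⟩
      rw [hsmul]
      refine ⟨(Subgroup.mem_normalizer_iff.mp g.2 σ).mp hσP, ?_⟩
      rw [Set.mem_singleton_iff]
      intro h
      apply hσ1
      have : σ = (g : G)⁻¹ * ((g : G) * σ * (g : G)⁻¹) * (g : G) := by group
      rw [this, h]; group
    · rintro ⟨hyP, hy1⟩
      rw [Set.mem_singleton_iff] at hy1
      obtain ⟨c, hc⟩ := hconj y hyP hy1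
      have hcN : c ∈ N := by
        apply CIT.mem_normalizer_of_forall_conj_mem
        intro d hd
        obtain ⟨k, rfl⟩ := hPmem d hd
        have : c * σ ^ k * c⁻¹ = (c * σ * c⁻¹) ^ k := by rw [conj_zpow]
        rw [this, hc]
        exact P.zpow_mem hyP k
      exact ⟨⟨c, hcN⟩, by rw [hsmul]; exact hc⟩
  have horbcard : (MulAction.orbit ↥N σ).ncard = p - 1 := by
    rw [horb, Set.ncard_sdiff_singleton_of_mem (show (1 : G) ∈ (P : Set G) from P.one_mem)]
    have : (P : Set G).ncard = Nat.card P := (Nat.card_coe_set_eq (P : Set G)).symm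
    rw [this, hP]
  rw [← h2, hstabcard, h1, horbcard]

end Cfsg.Agent.Helper2.NormPrime
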