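import Mathlib
import Cfsg.Agent.Helper2.BaerCC

set_option autoImplicit false

/-!
The `Ω`-lemma: a `p'`-group of automorphisms of a `p`-group `Q` fixing every `x` with `x ^ p = 1`
(`p` odd), resp. `x ^ 4 = 1` (`p = 2`), acts trivially.
-/

namespace Cfsg.Agent.Helper2.BaerC

open scoped commutatorElement

universe u v

/-- the exponent bound: `p` for odd `p`, `4` for `p = 2` -/
def omegaExp (p : ℕ) : ℕ := if p = 2 then 4 else p

theorem omega_key {K : Type v} [Group K] [Finite K] {p : ℕ} [hp : Fact p.Prime]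
    (hK : (Nat.card K).Coprime p) :
    ∀ n : ℕ, ∀ (Q : Type u) [Group Q] [Finite Q] [MulDistribMulAction K Q], Nat.card Q = n →
      IsPGroup p Q →
      (∀ x : Q, x ^ omegaExp p = 1 → ∀ k : K, k • x = x) →
      ∀ (k : K) (x : Q), k • x = x := by
  intro n
  induction n using Nat.strong_induction_on with
  | _ n ih =>
  intro Q _ _ _ hn hQ hyp
  have hsub : ∀ R : Subgroup Q, (∀ h : K, ∀ x ∈ R, h • x ∈ R) → R ≠ ⊤ →
      ∀ k : K, ∀ x ∈ R, k • x = x := by
    intro R hR hne k x hx
    letI := subAction R hR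
    have hlt : Nat.card R < n := by
      rw [← hn]
      apply lt_of_le_of_ne (Subgroup.card_le_card_group R)
      intro h
      exact hne (Subgroup.eq_top_of_card_eq R h)
    have := ih (Nat.card R) hlt R rfl (hQ.to_subgroup R) (by
      intro y hy k'
      apply Subtype.ext
      apply hyp y.1 _ k'
      have := congrArg Subtype.val hy
      rwa [Subgroup.coe_pow] at this) k ⟨x, hx⟩
    exact congrArg Subtype.val this
  by_contra hcon
  push Not at hcon
  obtain ⟨k0, x0, hkx0⟩ := hcon
  haveI : Nontrivial Q := ⟨⟨k0 • x0, x0, hkx0⟩⟩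
  let gens : Set Q := {y | ∃ k : K, ∃ x : Q, y = (k • x) * x⁻¹}
  let C : Subgroup Q := Subgroup.closure gens
  have hCinv : ∀ h : K, ∀ y ∈ C, h • y ∈ C := by
    intro h y hy
    induction hy using Subgroup.closure_induction with
    | mem y hy =>
      obtain ⟨k, x, rfl⟩ := hy
      apply Subgroup.subset_closure
      refine ⟨h * k * h⁻¹, h • x, ?_⟩
      rw [smul_mul', smul_inv', ← mul_smul, ← mul_smul]
      congr 2
      group
    | one => rw [smul_one]; exact C.one_mem
    | mul a b _ _ ha hb => rw [smul_mul']; exact C.mul_mem ha hb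
    | inv a _ ha => rw [smul_inv']; exact C.inv_mem ha
  have hfixsub : ∀ k : K, ∀ S : Set Q, (∀ y ∈ S, k • y = y) → ∀ y ∈ Subgroup.closure S, k • y = y := by
    intro k S hS y hy
    induction hy using Subgroup.closure_induction with
    | mem y hy => exact hS y hy
    | one => exact smul_one k
    | mul a b _ _ ha hb => rw [smul_mul', ha, hb]
    | inv a _ ha => rw [smul_inv', ha]
  have hCtop : C = ⊤ := by
    by_contra hne
    have hfix := hsub C hCinv hne
    apply hkx0
    obtain ⟨y, hy⟩ : ∃ y, y = (k0 • x0) * x0⁻¹ := ⟨_, rfl⟩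
    have hyC : y ∈ C := by rw [hy]; exact Subgroup.subset_closure ⟨k0, x0, rfl⟩
    have hky : k0 • y = y := hfix k0 y hyC
    have hkx : k0 • x0 = y * x0 := by rw [hy]; group
    have hpow : ∀ j : ℕ, (k0 ^ j) • x0 = y ^ j * x0 := by
      intro j
      induction j with
      | zero => simp
      | succ j ihj =>
        rw [pow_succ', mul_smul, ihj, smul_mul', smul_pow', hky, hkx, pow_succ, mul_assoc]
    have hk1 : k0 ^ Nat.card K = 1 := pow_card_eq_one'
    have h3 := hpow (Nat.card K)
    rw [hk1, one_smul] at h3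
    have h4 : y ^ Nat.card K = 1 := by
      have := congrArg (· * x0⁻¹) h3
      simp only [mul_inv_cancel, mul_inv_cancel_right] at this
      exact this.symm
    obtain ⟨j, hj⟩ := hQ y
    have h5 : orderOf y ∣ Nat.gcd (Nat.card K) (p ^ j) :=
      Nat.dvd_gcd (orderOf_dvd_of_pow_eq_one h4) (orderOf_dvd_of_pow_eq_one hj)
    rw [Nat.Coprime.gcd_eq_one (Nat.Coprime.pow_right j hK), Nat.dvd_one, orderOf_eq_one_iff] at h5
    rw [hkx, h5, one_mul]
  have hDne : commutator Q ≠ ⊤ := by
    haveI : Group.IsNilpotent Q := hQ.isNilpotent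
    exact (Group.IsSolvable.commutator_lt_top_of_nontrivial Q).ne
  have hDfix := hsub (commutator Q) (fun h x hx => smul_mem_of_characteristic _ h hx) hDne
  have hDcen : ∀ d ∈ commutator Q, ∀ y : Q, d * y = y * d := by
    intro d hd y
    have hy : y ∈ C := by rw [hCtop]; trivial
    induction hy using Subgroup.closure_induction with
    | mem y hy =>
      obtain ⟨k, x, rfl⟩ := hy
      have hd' : x⁻¹ * d * x ∈ commutator Q := by
        have := (inferInstance : (commutator Q).Normal).conj_mem d hd x⁻¹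
        rwa [inv_inv] at this
      have h1 : k • (d * x) = d * (k • x) := by rw [smul_mul', hDfix k d hd]
      have h2 : k • (d * x) = (k • x) * (x⁻¹ * d * x) := by
        have : d * x = x * (x⁻¹ * d * x) := by group
        rw [this, smul_mul', hDfix k _ hd']
      have h3 : d * (k • x) = (k • x) * (x⁻¹ * d * x) := h1.symm.trans h2
      calc d * ((k • x) * x⁻¹) = (d * (k • x)) * x⁻¹ := by rw [mul_assoc]
        _ = (k • x) * (x⁻¹ * d * x) * x⁻¹ := by rw [h3]
        _ = (k • x) * x⁻¹ * d := by group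
    | one => rw [mul_one, one_mul]
    | mul a b _ _ ha hb => rw [← mul_assoc, ha, mul_assoc, hb, mul_assoc]
    | inv a _ ha =>
      have := congrArg (fun t => a⁻¹ * t * a⁻¹) ha
      simp only [mul_assoc, mul_inv_cancel, mul_one, inv_mul_cancel_left] at this
      exact this.symm
  have h2 : ⁅commutator Q, (⊤ : Subgroup Q)⁆ = ⊥ := by
    rw [Subgroup.commutator_eq_bot_iff_le_centralizer]
    intro d hd
    rw [Subgroup.mem_centralizer_iff]
    intro y _
    exact (hDcen d hd y).symm
  have hΦne : frattini Q ≠ ⊤ := by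
    intro h
    have h1 : (⊥ : Subgroup Q) ⊔ frattini Q = ⊤ := by rw [h, bot_sup_eq]
    have h2 := frattini_nongenerating h1
    exact bot_ne_top h2
  have hΦfix := hsub (frattini Q) (fun h x hx => smul_mem_of_characteristic _ h hx) hΦne
  have hpowfix : ∀ (k : K) (x : Q), k • (x ^ p) = x ^ p := fun k x =>
    hΦfix k _ (Cfsg.Agent.Helper1.IsPGroup.pow_mem_frattini hQ x)
  -- generators have order dividing `omegaExp p`
  have hgen : ∀ y ∈ gens, y ^ omegaExp p = 1 := by
    rintro y ⟨k, x, rfl⟩
    obtain ⟨x', hx'⟩ : ∃ x', x' = k • x := ⟨_, rfl⟩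
    rw [← hx']
    have hx'p : x' ^ p = x ^ p := by rw [hx', ← smul_pow', hpowfix k]
    have hcen : ∀ z, Commute ⁅x⁻¹, x'⁆ z :=
      Cfsg.Agent.Helper1.commute_commutator_of_class_two h2 x⁻¹ x'
    have hc : ⁅x⁻¹, x'⁆ ^ p = 1 := by
      rw [← Cfsg.Agent.Helper1.commutator_pow_left_of_central hcen, inv_pow, ← hx'p,
        commutatorElement_eq_one_iff_commute]
      exact ((Commute.refl x').pow_left p).inv_left
    unfold omegaExp
    by_cases hp2 : p = 2
    · rw [if_pos hp2]
      have hyx : x⁻¹ * x' = ⁅x⁻¹, x'⁆ * x' * x⁻¹ := by simp [commutatorElement_def]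
      rw [Cfsg.Agent.Helper1.mul_pow_of_central hcen hyx 4]
      have h4 : x' ^ 4 = x ^ 4 := by
        have e : (4 : ℕ) = p * 2 := by rw [hp2]
        rw [e, pow_mul, pow_mul, hx'p]
      have h6 : ⁅x⁻¹, x'⁆ ^ (Nat.choose 4 2) = 1 := by
        have e : Nat.choose 4 2 = p * 3 := by rw [hp2]; rfl
        rw [e, pow_mul, hc, one_pow]
      rw [h4, h6, mul_one, inv_pow, mul_inv_cancel]
    · rw [if_neg hp2]
      rw [Cfsg.Agent.Helper1.mul_pow_prime_of_class_two hp2 h2 x' x⁻¹ hc, hx'p, inv_pow,
        mul_inv_cancel]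
  have hall : ∀ y ∈ C, k0 • y = y :=
    hfixsub k0 gens (fun y hy => hyp y (hgen y hy) k0)
  exact hkx0 (hall x0 (by rw [hCtop]; trivial))

end Cfsg.Agent.Helper2.BaerC
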