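import Mathlib

set_option autoImplicit false

namespace Cfsg.Agent.Helper2.OrbitMod

open MulAction

/-- If a group acts on a finite set with a fixed point `x₀` and every other orbit has size
divisible by `m`, then the size of the set is `1` modulo `m`. -/
theorem card_modEq_one_of_orbits {M X : Type*} [Group M] [MulAction M X] [Finite X] (m : ℕ)
    (x₀ : X) (h0 : ∀ g : M, g • x₀ = x₀)
    (h : ∀ x : X, x ≠ x₀ → m ∣ Nat.card (orbit M x)) : Nat.card X ≡ 1 [MOD m] := by
  classical
  have : Fintype (orbitRel.Quotient M X) := Fintype.ofFinite _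
  have hcard : Nat.card X = ∑ ω : orbitRel.Quotient M X, Nat.card ω.orbit := by
    rw [Nat.card_congr (selfEquivSigmaOrbits' M X), Nat.card_sigma]
  let ω₀ : orbitRel.Quotient M X := Quotient.mk'' x₀
  have h1 : Nat.card ω₀.orbit = 1 := by
    have : ω₀.orbit = {x₀} := by
      show orbitRel.Quotient.orbit (Quotient.mk'' x₀) = {x₀}
      rw [orbitRel.Quotient.orbit_mk]
      ext y
      constructor
      · rintro ⟨g, rfl⟩
        exact h0 g
      · intro hy
        rw [Set.mem_singleton_iff] at hy
        subst hy
        exact mem_orbit_self _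
    rw [this]
    simp
  have h2 : ∀ ω ∈ (Finset.univ : Finset (orbitRel.Quotient M X)).erase ω₀,
      m ∣ Nat.card ω.orbit := by
    intro ω hω
    rw [Finset.mem_erase] at hω
    induction ω using Quotient.inductionOn' with
    | h x =>
      rw [orbitRel.Quotient.orbit_mk]
      apply h
      rintro rfl
      exact hω.1 rfl
  rw [hcard, ← Finset.add_sum_erase _ _ (Finset.mem_univ ω₀), h1]
  obtain ⟨c, hc⟩ := Finset.dvd_sum h2
  rw [hc]
  show (1 + m * c) % m = 1 % m
  rw [Nat.add_mul_mod_self_left]

end Cfsg.Agent.Helper2.OrbitMod
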