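import Mathlib
import Cfsg.Agent.Helper2.SimpleSmall
import Cfsg.Agent.Helper2.Ord360A
import Cfsg.Agent.S0144
import Cfsg.Agent.S0675
import Cfsg.Agent.S0732
import Cfsg.Agent.S0985
import Cfsg.Agent.S0989
import Cfsg.Agent.S0990
import Cfsg.Agent.S0991
import Cfsg.Agent.S4304

/-!
# More tools for excluding orders of simple groups (helper2, for S0496)
-/

set_option autoImplicit false

namespace Cfsg.Agent.Helper2.SimpleSmall2

open Subgroup

theorem not_sq_dvd_factorial {p d : ℕ} (hp : p.Prime) (hd : d = p ∨ d = p + 1) :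
    ¬ p ^ 2 ∣ d.factorial := by
  have hk : ¬ p ∣ (p - 1).factorial := by
    rw [hp.dvd_factorial]; have := hp.pos; omega
  have hfac : p.factorial = p * (p - 1).factorial := (Nat.mul_factorial_pred hp.ne_zero).symm
  rcases hd with rfl | rfl
  · rw [hfac, pow_two]
    intro h
    exact hk (Nat.dvd_of_mul_dvd_mul_left hp.pos h)
  · rw [Nat.factorial_succ, hfac, pow_two]
    intro h
    have h' : p * p ∣ p * ((p + 1) * (p - 1).factorial) := by
      have : (p + 1) * (p * (p - 1).factorial) = p * ((p + 1) * (p - 1).factorial) := by ring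
      rwa [this] at h
    have h2 := Nat.dvd_of_mul_dvd_mul_left hp.pos h'
    rcases (hp.dvd_mul).mp h2 with h3 | h3
    · have : p ∣ 1 := (Nat.dvd_add_right (dvd_refl p)).mp h3
      exact hp.one_lt.ne' (Nat.dvd_one.mp this)
    · exact hk h3

/-- If the number of Sylow `p`-subgroups (of order `p`, `p` odd) of a nonabelian simple group is
`p` or `p + 1`, then twice the order of the Sylow normalizer divides `p (p - 1)`. -/
theorem two_mul_card_normalizer_dvd {G : Type*} [Group G] [Finite G] [IsSimpleGroup G]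
    (hG : ¬ IsMulCommutative G) {p : ℕ} [hp : Fact p.Prime] (hp2 : p ≠ 2) (P : Sylow p G)
    (hP : Nat.card P = p)
    (hd : Nat.card (Sylow p G) = p ∨ Nat.card (Sylow p G) = p + 1) :
    2 * Nat.card (normalizer ((P : Subgroup G) : Set G)) ∣ p * (p - 1) := by
  classical
  set H : Subgroup G := normalizer ((P : Subgroup G) : Set G) with hH
  have hidx : H.index = Nat.card (Sylow p G) := (Sylow.card_eq_index_normalizer P).symm
  have hHtop : H ≠ ⊤ := by
    intro h
    rw [h, Subgroup.index_top] at hidx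
    have := hp.out.two_le
    rcases hd with h' | h' <;> omega
  obtain ⟨f, hf⟩ := Cfsg.Agent.S0991.result hG H hHtop
  have hcardα : Fintype.card (Fin H.index) = p ∨ Fintype.card (Fin H.index) = p + 1 := by
    rw [Fintype.card_fin, hidx]; exact hd
  have hφ : Function.Injective ((alternatingGroup (Fin H.index)).subtype.comp f) :=
    (Subgroup.subtype_injective _).comp hf
  set Q : Subgroup (Equiv.Perm (Fin H.index)) :=
    (P : Subgroup G).map ((alternatingGroup (Fin H.index)).subtype.comp f) with hQ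
  have hQcard : Nat.card Q = p := by
    rw [hQ, Subgroup.card_map_of_injective hφ]; exact hP
  have hQp : IsPGroup p Q := IsPGroup.of_card (n := 1) (by rw [hQcard, pow_one])
  obtain ⟨P', hP'⟩ := hQp.exists_le_sylow
  have hP'card : Nat.card P' = p := by
    obtain ⟨k, hk⟩ := IsPGroup.iff_card.mp P'.isPGroup'
    have hdvd : p ^ k ∣ (Fintype.card (Fin H.index)).factorial := by
      have := Subgroup.card_subgroup_dvd_card (P' : Subgroup (Equiv.Perm (Fin H.index)))
      rw [Nat.card_eq_fintype_card (α := Equiv.Perm (Fin H.index)), Fintype.card_perm] at this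
      rw [← hk]; exact this
    have hk2 : k < 2 := by
      by_contra hcon
      push Not at hcon
      exact not_sq_dvd_factorial hp.out hcardα ((pow_dvd_pow p hcon).trans hdvd)
    have hk1 : k ≠ 0 := by
      rintro rfl
      have h1 := Subgroup.card_dvd_of_le hP'
      rw [hQcard] at h1
      have : Nat.card (P' : Subgroup (Equiv.Perm (Fin H.index))) = 1 := by rw [hk, pow_zero]
      rw [this] at h1
      exact hp.out.one_lt.ne' (Nat.dvd_one.mp h1)
    have : k = 1 := by omega
    rw [hk, this, pow_one]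
  have hQP' : Q = (P' : Subgroup (Equiv.Perm (Fin H.index))) :=
    Subgroup.eq_of_le_of_card_ge hP' (by rw [hQcard, hP'card])
  have h89 := Cfsg.Agent.S0989.result p hcardα P'
  have h2le : 2 ≤ Fintype.card (Fin H.index) := by
    have := hp.out.two_le
    rcases hcardα with h | h <;> omega
  obtain ⟨-, h90⟩ := Cfsg.Agent.S0990.result h2le p hp2 P'
  rw [h89] at h90
  have hsub : (P' : Subgroup (Equiv.Perm (Fin H.index))).subgroupOf
      (alternatingGroup (Fin H.index)) = (P : Subgroup G).map f := by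
    rw [← hQP', hQ, ← Subgroup.map_map]
    exact Subgroup.comap_map_eq_self_of_injective (Subgroup.subtype_injective _) _
  rw [hsub] at h90
  have hle : H.map f ≤ normalizer (((P : Subgroup G).map f :
      Subgroup (alternatingGroup (Fin H.index))) : Set (alternatingGroup (Fin H.index))) :=
    Subgroup.le_normalizer_map f
  have hcard := Subgroup.card_dvd_of_le hle
  rw [Subgroup.card_map_of_injective hf] at hcard
  rw [← h90]
  exact Nat.mul_dvd_mul_left 2 hcard

/-- a subgroup of index `p` in a group of order `p ^ a` is normal -/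
theorem normal_of_index_eq_prime {T : Type*} [Group T] [Finite T] {p a : ℕ} (hp : p.Prime)
    (hT : Nat.card T = p ^ a) (D : Subgroup T) (hD : D.index = p) : D.Normal := by
  apply Subgroup.normal_of_index_eq_minFac_card
  rw [hD, hT]
  have ha : a ≠ 0 := by
    rintro rfl
    rw [pow_zero] at hT
    have := D.index_dvd_card
    rw [hD, hT] at this
    exact hp.one_lt.ne' (Nat.dvd_one.mp this)
  rw [hp.pow_minFac ha]

/-- two Sylow subgroups with intersection of index `p` in the first: the intersection has index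
`p` in the second too, and both normalize it -/
theorem le_normalizer_inf_of_relIndex {G : Type*} [Group G] [Finite G] {p a : ℕ}
    [hp : Fact p.Prime] (P R : Sylow p G) (hPc : Nat.card P = p ^ a) (hRc : Nat.card R = p ^ a)
    (h : ((P : Subgroup G) ⊓ (R : Subgroup G)).relIndex (P : Subgroup G) = p) :
    (P : Subgroup G) ≤ normalizer ((((P : Subgroup G) ⊓ (R : Subgroup G) : Subgroup G)) : Set G) ∧
    (R : Subgroup G) ≤ normalizer ((((P : Subgroup G) ⊓ (R : Subgroup G) : Subgroup G)) : Set G) ∧
    Nat.card ((P : Subgroup G) ⊓ (R : Subgroup G) : Subgroup G) * p = p ^ a := by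
  set D : Subgroup G := (P : Subgroup G) ⊓ (R : Subgroup G) with hD
  have hDP : D ≤ (P : Subgroup G) := inf_le_left
  have hDR : D ≤ (R : Subgroup G) := inf_le_right
  have hcardD : Nat.card D * p = p ^ a := by
    have := Subgroup.card_mul_index (D.subgroupOf (P : Subgroup G))
    rw [hPc, ← Subgroup.relIndex, h] at this
    rw [← this]
    congr 1
    exact (Nat.card_congr (Subgroup.subgroupOfEquivOfLe hDP).toEquiv).symm
  have hrelR : D.relIndex (R : Subgroup G) = p := by
    have := Subgroup.card_mul_index (D.subgroupOf (R : Subgroup G))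
    rw [hRc, ← Subgroup.relIndex,
      Nat.card_congr (Subgroup.subgroupOfEquivOfLe hDR).toEquiv, ← hcardD] at this
    have hpos : 0 < Nat.card D := Nat.card_pos
    exact Nat.eq_of_mul_eq_mul_left hpos this
  refine ⟨?_, ?_, hcardD⟩
  · have : (D.subgroupOf (P : Subgroup G)).Normal :=
      normal_of_index_eq_prime hp.out hPc _ h
    exact (Subgroup.normal_subgroupOf_iff_le_normalizer hDP).mp this
  · have : (D.subgroupOf (R : Subgroup G)).Normal :=
      normal_of_index_eq_prime hp.out hRc _ hrelR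
    exact (Subgroup.normal_subgroupOf_iff_le_normalizer hDR).mp this

/-- If `n_p ≢ 1 (mod p^2)` in a simple group of order `p^a m`, `a ≥ 2`, then there is
a proper subgroup of order `p^a k` with more than one Sylow `p`-subgroup. -/
theorem exists_subgroup_of_not_modEq {G : Type*} [Group G] [Finite G] [IsSimpleGroup G]
    {p a m : ℕ} [hp : Fact p.Prime] (hcard : Nat.card G = p ^ a * m) (hpm : ¬ p ∣ m)
    (ha : 2 ≤ a) (h : ¬ Nat.card (Sylow p G) ≡ 1 [MOD p ^ 2]) :
    ∃ (M : Subgroup G) (k e : ℕ), M ≠ ⊤ ∧ Nat.card M = p ^ a * k ∧ M.index * k = m ∧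
      1 < M.index ∧ p ^ a * m ∣ (M.index).factorial ∧ e ∣ k ∧ e % p = 1 ∧ 1 < e := by
  classical
  obtain ⟨P, R, hPR, hidx⟩ := Cfsg.Agent.S0985.result p 2 h
  have hPc : Nat.card P = p ^ a := SylowExact.card_sylow_of_exact_pow hcard hpm P
  have hRc : Nat.card R = p ^ a := SylowExact.card_sylow_of_exact_pow hcard hpm R
  set D : Subgroup G := (P : Subgroup G) ⊓ (R : Subgroup G) with hD
  have hDP : D ≤ (P : Subgroup G) := inf_le_left
  have hDR : D ≤ (R : Subgroup G) := inf_le_right
  have hrel : (R : Subgroup G).relIndex (P : Subgroup G) = D.relIndex (P : Subgroup G) := by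
    rw [hD, Subgroup.inf_relIndex_left]
  have hne : D.relIndex (P : Subgroup G) ≠ 1 := by
    intro h1
    have hle : (P : Subgroup G) ≤ D := Subgroup.relIndex_eq_one.mp h1
    have hPR' : (P : Subgroup G) ≤ (R : Subgroup G) := hle.trans hDR
    apply hPR
    apply Sylow.ext
    exact Subgroup.eq_of_le_of_card_ge hPR' (by rw [hPc, hRc])
  have hdvd : D.relIndex (P : Subgroup G) ∣ p ^ a := by
    rw [← hPc]; exact Subgroup.relIndex_dvd_card _ _
  have hle : D.relIndex (P : Subgroup G) ≤ p := by
    rw [← hrel]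
    have h2 : ((R : Subgroup G).subgroupOf (P : Subgroup G)).index ≤ p := by simpa using hidx
    exact h2
  have hrelP : D.relIndex (P : Subgroup G) = p := by
    obtain ⟨i, hi, hi2⟩ := (Nat.dvd_prime_pow hp.out).mp hdvd
    rw [hi2] at hle hne ⊢
    rcases i with _ | _ | i
    · simp at hne
    · simp
    · exfalso
      have : p ^ 1 < p ^ (i + 1 + 1) := Nat.pow_lt_pow_right hp.out.one_lt (by omega)
      rw [pow_one] at this
      omega
  obtain ⟨hPM, hRM, hDc⟩ := le_normalizer_inf_of_relIndex P R hPc hRc hrelP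
  set M : Subgroup G := normalizer ((D : Subgroup G) : Set G) with hM
  have hp1 : 1 < p := hp.out.one_lt
  have hDcard1 : 1 < Nat.card D := by
    by_contra hcon
    push Not at hcon
    have hD1 : Nat.card D = 1 := le_antisymm hcon Nat.card_pos
    rw [hD1, one_mul] at hDc
    have : p ^ 1 < p ^ a := Nat.pow_lt_pow_right hp1 (by omega)
    rw [pow_one] at this
    omega
  have hMtop : M ≠ ⊤ := by
    intro htop
    have hDn : D.Normal := Subgroup.normalizer_eq_top_iff.mp htop
    rcases hDn.eq_bot_or_eq_top with h0 | h0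
    · rw [h0, Subgroup.card_bot] at hDcard1
      omega
    · have hPtop : (P : Subgroup G) = ⊤ := top_le_iff.mp (h0 ▸ hDP)
      have hRtop : (R : Subgroup G) = ⊤ := top_le_iff.mp (h0 ▸ hDR)
      exact hPR (Sylow.ext (hPtop.trans hRtop.symm))
  have hcardM : p ^ a ∣ Nat.card M := by
    rw [← hPc]; exact Subgroup.card_dvd_of_le hPM
  obtain ⟨k, hk⟩ := hcardM
  have hjk : M.index * k = m := by
    have h1 := M.card_mul_index
    rw [hk, hcard] at h1
    have hpa : 0 < p ^ a := pow_pos hp.out.pos a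
    have : p ^ a * (M.index * k) = p ^ a * m := by rw [← h1]; ring
    exact Nat.eq_of_mul_eq_mul_left hpa this
  have hj1 : 1 < M.index := by
    have h0 : M.index ≠ 0 := Subgroup.index_ne_zero_of_finite
    have h1 : M.index ≠ 1 := fun h => hMtop (Subgroup.index_eq_one.mp h)
    omega
  have hfact := SmallOrder.card_dvd_factorial_index M hMtop
  rw [hcard] at hfact
  refine ⟨M, k, Nat.card (Sylow p M), hMtop, hk, hjk, hj1, hfact, ?_, ?_, ?_⟩
  · have h1 := Sylow.card_dvd_index (P.subtype hPM)
    have h2 : ((P.subtype hPM : Sylow p M) : Subgroup M).index = k := by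
      have h3 := Subgroup.card_mul_index ((P.subtype hPM : Sylow p M) : Subgroup M)
      rw [Sylow.coe_subtype,
        Nat.card_congr (Subgroup.subgroupOfEquivOfLe hPM).toEquiv, hPc, hk] at h3
      exact Nat.eq_of_mul_eq_mul_left (pow_pos hp.out.pos a) h3
    rwa [h2] at h1
  · have := card_sylow_modEq_one p M
    rw [Nat.ModEq, Nat.mod_eq_of_lt hp1] at this
    exact this
  · by_contra hcon
    push Not at hcon
    have h1 : Nat.card (Sylow p M) = 1 := le_antisymm hcon Nat.card_pos
    have hsub : Subsingleton (Sylow p M) := (Nat.card_eq_one_iff_unique.mp h1).1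
    exact hPR (Sylow.subtype_injective (Subsingleton.elim (P.subtype hPM) (R.subtype hRM)))

theorem exists_index_of_not_modEq {G : Type*} [Group G] [Finite G] [IsSimpleGroup G]
    {p a m : ℕ} [hp : Fact p.Prime] (hcard : Nat.card G = p ^ a * m) (hpm : ¬ p ∣ m)
    (ha : 2 ≤ a) (h : ¬ Nat.card (Sylow p G) ≡ 1 [MOD p ^ 2]) :
    ∃ j k : ℕ, j * k = m ∧ 1 < j ∧ p ^ a * m ∣ j.factorial ∧
      ∃ e, e ∣ k ∧ e % p = 1 ∧ 1 < e := by
  obtain ⟨M, k, e, -, -, h1, h2, h3, h4, h5, h6⟩ := exists_subgroup_of_not_modEq hcard hpm ha h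
  exact ⟨M.index, k, h1, h2, h3, e, h4, h5, h6⟩

variable {G : Type*} [Group G] [Finite G] [IsSimpleGroup G]

omit [Finite G] [IsSimpleGroup G] in
theorem exists_ne_comm (hG : ¬ IsMulCommutative G) : ∃ x y : G, x * y ≠ y * x := by
  by_contra hcon
  push Not at hcon
  exact hG ⟨⟨hcon⟩⟩

omit [Finite G] in
theorem not_isSolvable (hG : ¬ IsMulCommutative G) : ¬ Group.IsSolvable G := by
  intro hs
  apply hG
  exact ⟨⟨IsSimpleGroup.comm_iff_isSolvable.mpr hs⟩⟩

theorem false_of_prime_pow (hG : ¬ IsMulCommutative G) (p a : ℕ) (hp : p.Prime)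
    (hcard : Nat.card G = p ^ a) : False := by
  have hc := SimpleSmall.isCyclic_of_prime_pow p a hp hcard
  obtain ⟨g, hg⟩ := hc.exists_generator
  apply hG
  refine ⟨⟨fun x y => ?_⟩⟩
  obtain ⟨i, rfl⟩ := Subgroup.mem_zpowers_iff.mp (hg x)
  obtain ⟨j, rfl⟩ := Subgroup.mem_zpowers_iff.mp (hg y)
  rw [← zpow_add, ← zpow_add, add_comm]

theorem false_of_two_primes (hG : ¬ IsMulCommutative G) (p q a b : ℕ) (hp : p.Prime)
    (hq : q.Prime) (hcard : Nat.card G = p ^ a * q ^ b) : False :=
  not_isSolvable hG (Cfsg.Agent.S0144.result p q a b hp hq hcard)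

/-- The number of Sylow `p`-subgroups of a non-cyclic simple group passes several tests. -/
theorem sylow_count2 (p a m : ℕ) [hp : Fact p.Prime]
    (hcard : Nat.card G = p ^ a * m) (ha : 0 < a) (hpm : ¬ p ∣ m) (hm : 1 < m) :
    ∃ d, d = Nat.card (Sylow p G) ∧ d ∣ m ∧ d % p = 1 ∧ d ≠ 1 ∧ p ^ a * m ∣ d.factorial ∧
      (a = 1 → ¬ Nat.Coprime (p ^ a * m / d) (p - 1)) := by
  let P : Sylow p G := default
  have hPcard : Nat.card P = p ^ a := SylowExact.card_sylow_of_exact_pow hcard hpm P
  have hpa : 1 < p ^ a := Nat.one_lt_pow ha.ne' hp.out.one_lt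
  have hidxP : (P : Subgroup G).index = m := by
    have h1 := (P : Subgroup G).card_mul_index
    rw [hPcard, hcard] at h1
    exact Nat.eq_of_mul_eq_mul_left (by omega) h1
  have hne1 : Nat.card (Sylow p G) ≠ 1 := by
    apply SmallOrder.card_sylow_ne_one P
    · rw [hPcard]; omega
    · rw [hPcard, hcard]
      intro h
      have : p ^ a * 1 = p ^ a * m := by rw [mul_one]; exact h
      have := Nat.eq_of_mul_eq_mul_left (by omega) this
      omega
  have hidxN : (Subgroup.normalizer ((P : Subgroup G) : Set G)).index = Nat.card (Sylow p G) :=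
    (Sylow.card_eq_index_normalizer P).symm
  have hNtop : Subgroup.normalizer ((P : Subgroup G) : Set G) ≠ ⊤ := by
    intro htop
    rw [htop, Subgroup.index_top] at hidxN
    exact hne1 hidxN.symm
  have hfact := SmallOrder.card_dvd_factorial_index _ hNtop
  rw [hidxN, hcard] at hfact
  refine ⟨Nat.card (Sylow p G), rfl, hidxP ▸ Sylow.card_dvd_index P, ?_, hne1, hfact, ?_⟩
  · have := card_sylow_modEq_one p G
    rw [Nat.ModEq, Nat.mod_eq_of_lt hp.out.one_lt] at this
    exact this
  · intro ha1 hcop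
    subst ha1
    rw [pow_one] at hPcard hcard
    have hNS := SmallOrder.card_normalizer_mul_card_sylow P
    have hN : Nat.card (Subgroup.normalizer ((P : Subgroup G) : Set G)) =
        p ^ 1 * m / Nat.card (Sylow p G) := by
      rw [pow_one, ← hcard, ← hNS]
      exact (Nat.mul_div_cancel _ Nat.card_pos).symm
    rw [← hN] at hcop
    obtain ⟨K, hKn, hKi⟩ := SmallOrder.exists_normal_index_of_prime_sylow P hPcard hcop
    apply SmallOrder.false_of_normal_index K
    · rw [hKi]; exact hp.out.one_lt.ne'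
    · rw [hKi, hcard]
      intro h
      have : p * 1 = p * m := by rw [mul_one]; exact h
      have := Nat.eq_of_mul_eq_mul_left hp.out.pos this
      omega

/-- self-normalizing Sylow subgroup of order `p^2` -/
theorem false_of_sq_self_normalizing (p m : ℕ) [hp : Fact p.Prime]
    (hcard : Nat.card G = p ^ 2 * m) (hpm : ¬ p ∣ m) (hm : 1 < m)
    (hd : m = Nat.card (Sylow p G)) : False := by
  let P : Sylow p G := default
  have hPcard : Nat.card P = p ^ 2 := SylowExact.card_sylow_of_exact_pow hcard hpm P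
  have hNS := SmallOrder.card_normalizer_mul_card_sylow P
  rw [← hd, hcard] at hNS
  have hN : Nat.card (Subgroup.normalizer ((P : Subgroup G) : Set G)) = p ^ 2 :=
    Nat.eq_of_mul_eq_mul_right (by omega) hNS
  obtain ⟨Q, hQn, hQi, -⟩ := Ord360.exists_normal_index_of_self_normalizing P hPcard hN
  have hp1 := hp.out.one_lt
  have hpp : 1 < p ^ 2 := Nat.one_lt_pow (by norm_num) hp1
  apply SmallOrder.false_of_normal_index Q
  · rw [hQi]; omega
  · rw [hQi, hcard]
    intro h
    have : p ^ 2 * 1 = p ^ 2 * m := by rw [mul_one]; exact h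
    have := Nat.eq_of_mul_eq_mul_left (by omega) this
    omega

section perm

/-- the image of `G` in the permutations of its Sylow `p`-subgroups -/
noncomputable abbrev sylowPermRange (p : ℕ) [Fact p.Prime] : Subgroup (Equiv.Perm (Sylow p G)) :=
  (MulAction.toPermHom G (Sylow p G)).range

theorem toPermHom_sylow_injective (p a m : ℕ) [hp : Fact p.Prime]
    (hcard : Nat.card G = p ^ a * m) (ha : 0 < a) (hpm : ¬ p ∣ m) (hm : 1 < m) :
    Function.Injective (MulAction.toPermHom G (Sylow p G)) := by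
  rw [← MonoidHom.ker_eq_bot_iff]
  rcases (MonoidHom.normal_ker (MulAction.toPermHom G (Sylow p G))).eq_bot_or_eq_top with h | h
  · exact h
  · exfalso
    obtain ⟨d, hd, -, -, hd1, -, -⟩ := sylow_count2 (G := G) p a m hcard ha hpm hm
    apply hd1
    rw [hd]
    apply Nat.card_eq_one_iff_unique.mpr
    refine ⟨⟨fun P Q => ?_⟩, ⟨default⟩⟩
    obtain ⟨g, rfl⟩ := MulAction.exists_smul_eq G P Q
    have hg : g ∈ (MulAction.toPermHom G (Sylow p G)).ker := by rw [h]; exact Subgroup.mem_top g
    have := congrArg (fun σ : Equiv.Perm (Sylow p G) => σ P) (MonoidHom.mem_ker.mp hg)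
    simpa using this.symm

theorem card_sylowPermRange (p a m : ℕ) [hp : Fact p.Prime]
    (hcard : Nat.card G = p ^ a * m) (ha : 0 < a) (hpm : ¬ p ∣ m) (hm : 1 < m) :
    Nat.card (sylowPermRange (G := G) p) = Nat.card G := by
  have hinj := toPermHom_sylow_injective (G := G) p a m hcard ha hpm hm
  exact (Nat.card_congr (MonoidHom.ofInjective hinj).toEquiv).symm

instance (p : ℕ) [Fact p.Prime] :
    MulAction.IsPretransitive (sylowPermRange (G := G) p) (Sylow p G) := by
  refine ⟨fun P Q => ?_⟩
  obtain ⟨g, rfl⟩ := MulAction.exists_smul_eq G P Q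
  exact ⟨⟨MulAction.toPermHom G (Sylow p G) g, ⟨g, rfl⟩⟩, rfl⟩

/-- prime number of Sylow subgroups: doubly transitive, so `q (q - 1)` divides the order -/
theorem prime_card_sylow (hG : ¬ IsMulCommutative G) (p a m q : ℕ) [hp : Fact p.Prime]
    (hcard : Nat.card G = p ^ a * m) (ha : 0 < a) (hpm : ¬ p ∣ m) (hm : 1 < m)
    (hq : q.Prime) (hd : q = Nat.card (Sylow p G)) : q * (q - 1) ∣ p ^ a * m := by
  classical
  haveI : Fintype (Sylow p G) := Fintype.ofFinite _
  have hα : Fintype.card (Sylow p G) = q := by rw [hd, Nat.card_eq_fintype_card]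
  have hinj := toPermHom_sylow_injective (G := G) p a m hcard ha hpm hm
  rcases Cfsg.Agent.S0675.result (hα ▸ hq) (sylowPermRange (G := G) p) with hs | h2
  · exfalso
    apply not_isSolvable hG
    haveI := hs
    exact Group.isSolvable_of_isSolvable_injective
      (f := (MonoidHom.ofInjective hinj).toMonoidHom) (MonoidHom.ofInjective hinj).injective
  · have h2le : 2 ≤ Fintype.card (Sylow p G) := by rw [hα]; exact hq.two_le
    have hne : Nonempty (Fin 2 ↪ Sylow p G) := by
      rw [← Fintype.card_pos_iff, Fintype.card_embedding_eq, Fintype.card_fin]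
      exact Nat.descFactorial_pos.mpr h2le
    obtain ⟨x⟩ := hne
    have h1 := @MulAction.index_stabilizer_of_transitive (sylowPermRange (G := G) p)
      (Fin 2 ↪ Sylow p G) _ _ x h2
    have h3 := Subgroup.index_dvd_card (MulAction.stabilizer (sylowPermRange (G := G) p) x)
    rw [h1, Nat.card_eq_fintype_card (α := Fin 2 ↪ Sylow p G), Fintype.card_embedding_eq,
      Fintype.card_fin, hα, card_sylowPermRange (G := G) p a m hcard ha hpm hm, hcard] at h3
    have : q.descFactorial 2 = q * (q - 1) := by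
      rw [show (2 : ℕ) = 1 + 1 from rfl, Nat.descFactorial_succ, Nat.descFactorial_one, mul_comm]
    rwa [this] at h3

end perm

/-- all the Sylow-number tests together -/
theorem sylow_count3 (hG : ¬ IsMulCommutative G) (p a m : ℕ) [hp : Fact p.Prime]
    (hcard : Nat.card G = p ^ a * m) (ha : 0 < a) (hpm : ¬ p ∣ m) (hm : 1 < m) :
    ∃ d, d = Nat.card (Sylow p G) ∧ d ∣ m ∧ d % p = 1 ∧ d ≠ 1 ∧ p ^ a * m ∣ d.factorial ∧
      (a = 1 → ¬ Nat.Coprime (p ^ a * m / d) (p - 1)) ∧
      (a = 1 → p ≠ 2 → (d = p ∨ d = p + 1) → 2 * (p ^ a * m / d) ∣ p * (p - 1)) ∧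
      (2 ≤ a → d % p ^ 2 ≠ 1 → ∃ j < m + 1, ∃ k < m + 1, j * k = m ∧ 1 < j ∧
        p ^ a * m ∣ j.factorial ∧ ∃ e < k + 1, e ∣ k ∧ e % p = 1 ∧ 1 < e) ∧
      (p = 7 → d ≠ 15) ∧ (a = 2 → d ≠ m) := by
  obtain ⟨d, hd, h1, h2, h3, h4, h5⟩ := sylow_count2 (G := G) p a m hcard ha hpm hm
  refine ⟨d, hd, h1, h2, h3, h4, h5, ?_, ?_, ?_, ?_⟩
  · intro ha1 hp2 hdp
    subst ha1
    let P : Sylow p G := default
    have hPcard : Nat.card P = p := by
      have := SylowExact.card_sylow_of_exact_pow hcard hpm P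
      rwa [pow_one] at this
    have hNS := SmallOrder.card_normalizer_mul_card_sylow P
    have hN : Nat.card (Subgroup.normalizer ((P : Subgroup G) : Set G)) = p ^ 1 * m / d := by
      rw [← hcard, ← hNS, hd]
      exact (Nat.mul_div_cancel _ Nat.card_pos).symm
    rw [← hN]
    exact two_mul_card_normalizer_dvd hG hp2 P hPcard (hd ▸ hdp)
  · intro ha2 hmod
    have hp1 := hp.out.one_lt
    have hpp : 1 < p ^ 2 := Nat.one_lt_pow (by norm_num) hp1
    have hne : ¬ Nat.card (Sylow p G) ≡ 1 [MOD p ^ 2] := by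
      rw [Nat.ModEq, Nat.mod_eq_of_lt hpp, ← hd]
      exact hmod
    obtain ⟨j, k, hjk, hj, hf, e, he1, he2, he3⟩ :=
      exists_index_of_not_modEq (G := G) hcard hpm ha2 hne
    have hmpos : 0 < m := by omega
    have hjpos : 0 < j := by omega
    have hkpos : 0 < k := by
      rcases Nat.eq_zero_or_pos k with h0 | h0
      · rw [h0, mul_zero] at hjk; omega
      · exact h0
    have hjm : j ≤ m := by rw [← hjk]; exact Nat.le_mul_of_pos_right j hkpos
    have hkm : k ≤ m := by rw [← hjk]; exact Nat.le_mul_of_pos_left k hjpos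
    have hek : e ≤ k := Nat.le_of_dvd hkpos he1
    exact ⟨j, by omega, k, by omega, hjk, hj, hf, e, by omega, he1, he2, he3⟩
  · rintro rfl h15
    exact Cfsg.Agent.S4304.result (G := G) (hd ▸ h15)
  · rintro rfl hdm
    exact false_of_sq_self_normalizing (G := G) p m hcard hpm hm (hdm ▸ hd)

/-- `p + 1` Sylow `p`-subgroups and `|G| = (p + 1) p e` with `e < p` -/
theorem card_sylow_eq_succ (p e : ℕ) [hp : Fact p.Prime]
    (hcard : Nat.card G = (p + 1) * p * e) (he : e < p) (he0 : 0 < e)
    (hd : p + 1 = Nat.card (Sylow p G)) :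
    e = p - 1 ∨ 2 * e = p - 1 ∨ ∃ q < p + 1, q.Prime ∧ p + 1 = 2 ^ q ∧ (e = 1 ∨ e = q) := by
  classical
  haveI : Fintype (Sylow p G) := Fintype.ofFinite _
  have hα : Fintype.card (Sylow p G) = p + 1 := by rw [hd, Nat.card_eq_fintype_card]
  have hp1 := hp.out.one_lt
  have hpm : ¬ p ∣ (p + 1) * e := by
    intro h
    rcases (hp.out.dvd_mul).mp h with h | h
    · have : p ∣ 1 := (Nat.dvd_add_right (dvd_refl p)).mp h
      exact hp1.ne' (Nat.dvd_one.mp this)
    · exact absurd (Nat.le_of_dvd he0 h) (by omega)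
  have hcard' : Nat.card G = p ^ 1 * ((p + 1) * e) := by rw [hcard]; ring
  have hm : 1 < (p + 1) * e := by nlinarith
  have hcr := card_sylowPermRange (G := G) p 1 ((p + 1) * e) hcard' (by norm_num) hpm hm
  rw [hcard] at hcr
  rcases Cfsg.Agent.S0732.result hp.out hα (sylowPermRange (G := G) p) hcr he with
    ⟨h, -⟩ | ⟨h, -⟩ | ⟨q, hq, hq2, hq3, -⟩
  · exact Or.inl h
  · exact Or.inr (Or.inl h)
  · refine Or.inr (Or.inr ⟨q, ?_, hq, hq2, hq3⟩)
    rw [hq2]
    exact Nat.lt_two_pow_self

end Cfsg.Agent.Helper2.SimpleSmall2
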