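import Mathlib
import Cfsg.Agent.Helper2.SimpleSmall2
import Cfsg.Agent.S0111

/-!
# Involution centralizers and Thompson transfer (helper2, for S0496)
-/

set_option autoImplicit false

namespace Cfsg.Agent.Helper2.SimpleSmall2

open Subgroup

/-- A group of order 16 containing an element whose centralizer has order at most 4
has an abelian subgroup of index 2. -/
theorem exists_abelian_index_two {S : Type*} [Group S] (hS : Nat.card S = 16) (t : S)
    (ht : Nat.card (centralizer ({t} : Set S)) ≤ 4) :
    ∃ M : Subgroup S, M.index = 2 ∧ ∀ a ∈ M, ∀ b ∈ M, a * b = b * a := by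
  have hfin : Finite S := Nat.finite_of_card_ne_zero (by rw [hS]; norm_num)
  have h2 : Fact (Nat.Prime 2) := ⟨Nat.prime_two⟩
  have hP : IsPGroup 2 S := IsPGroup.of_card (n := 4) (by rw [hS]; norm_num)
  have hnt : Nontrivial S := by
    rw [← Finite.one_lt_card_iff_nontrivial, hS]; norm_num
  have hcn : Nontrivial (center S) := hP.center_nontrivial
  have h2dvd : 2 ∣ Nat.card (center S) := by
    obtain ⟨k, hk⟩ := IsPGroup.iff_card.mp (hP.to_subgroup (center S))
    have h1 : 1 < Nat.card (center S) := Finite.one_lt_card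
    rw [hk] at h1 ⊢
    rcases k with _ | k
    · simp at h1
    · exact Dvd.intro_left (2 ^ k) rfl
  obtain ⟨z', hz'⟩ := exists_prime_orderOf_dvd_card' 2 h2dvd
  obtain ⟨z, hzmem⟩ := z'
  have hzc : ∀ s : S, s * z = z * s := fun s => mem_center_iff.mp hzmem s
  have hzo : orderOf z = 2 := by
    rw [← hz']; exact (Subgroup.orderOf_mk z hzmem).symm
  have hz2 : z * z = 1 := by rw [← pow_two, ← hzo, pow_orderOf_eq_one]
  set Z0 : Subgroup S := zpowers z with hZ0
  have hZ0mem : ∀ x ∈ Z0, x = 1 ∨ x = z := by
    intro x hx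
    obtain ⟨i, rfl⟩ := mem_zpowers_iff.mp hx
    rcases Int.emod_two_eq_zero_or_one i with h | h
    · left
      have : (orderOf z : ℤ) ∣ i := by rw [hzo]; exact Int.dvd_of_emod_eq_zero h
      exact orderOf_dvd_iff_zpow_eq_one.mp this
    · right
      rw [← zpow_mod_orderOf, hzo]
      simp [h]
  have hcommc : ∀ c ∈ Z0, ∀ s : S, Commute c s := by
    intro c hc s
    rcases hZ0mem c hc with rfl | rfl
    · exact Commute.one_left s
    · exact (hzc s).symm
  have hZ0n : Z0.Normal := by
    refine ⟨fun n hn g => ?_⟩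
    have hc : g * n = n * g := ((hcommc n hn g).eq).symm
    rw [hc, mul_inv_cancel_right]
    exact hn
  have hZ0c : Nat.card Z0 = 2 := by rw [hZ0, Nat.card_zpowers, hzo]
  have hQc : Nat.card (S ⧸ Z0) = 8 := by
    have := Subgroup.card_eq_card_quotient_mul_card_subgroup Z0
    rw [hS, hZ0c] at this
    omega
  have hex : ∃ q : S ⧸ Z0, q ^ 2 ≠ 1 := by
    by_contra hcon
    push Not at hcon
    have hcomm : ∀ a b : S ⧸ Z0, a * b = b * a := fun a b =>
      Commute.of_orderOf_dvd_two (fun g => orderOf_dvd_of_pow_eq_one (hcon g)) a b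
    have hconj : ∀ s : S, s * t * s⁻¹ = t ∨ s * t * s⁻¹ = z * t := by
      intro s
      have h1 := hcomm (s : S ⧸ Z0) (t : S ⧸ Z0)
      rw [← QuotientGroup.mk_mul, ← QuotientGroup.mk_mul, QuotientGroup.eq] at h1
      rcases hZ0mem _ h1 with h | h
      · left
        have e1 : t * s = s * t := by
          have := eq_mul_of_inv_mul_eq h
          rwa [mul_one] at this
        rw [← e1, mul_inv_cancel_right]
      · right
        have e1 : t * s = s * t * z := eq_mul_of_inv_mul_eq h
        have e2 : s * t * s⁻¹ * z = t := by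
          calc s * t * s⁻¹ * z = s * t * z * s⁻¹ := by
                rw [mul_assoc (s * t) s⁻¹ z, hzc s⁻¹, ← mul_assoc]
            _ = t * s * s⁻¹ := by rw [e1]
            _ = t := mul_inv_cancel_right t s
        calc s * t * s⁻¹ = s * t * s⁻¹ * z * z := by rw [mul_assoc _ z z, hz2, mul_one]
          _ = t * z := by rw [e2]
          _ = z * t := hzc t
    have hidx : (centralizer ({t} : Set S)).index ∣ 2 := by
      rw [Subgroup.index_dvd_two_iff]
      by_cases hall : ∀ s : S, s ∈ centralizer ({t} : Set S)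
      · exact ⟨1, fun b => Or.inr (hall b)⟩
      · push Not at hall
        obtain ⟨a, ha⟩ := hall
        refine ⟨a, fun b => ?_⟩
        by_cases hb : b ∈ centralizer ({t} : Set S)
        · exact Or.inr hb
        · left
          rw [mem_centralizer_singleton_iff] at ha hb ⊢
          have ha' : a * t * a⁻¹ = z * t := by
            rcases hconj a with h | h
            · exact absurd (by have := congrArg (fun x => x * a) h; simpa using this) ha
            · exact h
          have hb' : b * t * b⁻¹ = z * t := by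
            rcases hconj b with h | h
            · exact absurd (by have := congrArg (fun x => x * b) h; simpa using this) hb
            · exact h
          have e : b * a * t * (b * a)⁻¹ = t := by
            calc b * a * t * (b * a)⁻¹ = b * (a * t * a⁻¹) * b⁻¹ := by group
              _ = b * (z * t) * b⁻¹ := by rw [ha']
              _ = z * (b * t * b⁻¹) := by
                rw [← mul_assoc b z t, hzc b]; group
              _ = z * (z * t) := by rw [hb']
              _ = t := by rw [← mul_assoc, hz2, one_mul]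
          calc b * a * t = b * a * t * (b * a)⁻¹ * (b * a) := by group
            _ = t * (b * a) := by rw [e]
    have hmul := Subgroup.card_mul_index (centralizer ({t} : Set S))
    have hi2 : (centralizer ({t} : Set S)).index ≤ 2 := Nat.le_of_dvd (by norm_num) hidx
    rw [hS] at hmul
    nlinarith
  obtain ⟨q0, hq0⟩ := hex
  obtain ⟨q, hq2, hq4⟩ : ∃ q : S ⧸ Z0, q ^ 2 ≠ 1 ∧ q ^ 4 = 1 := by
    by_cases h4 : q0 ^ 4 = 1
    · exact ⟨q0, hq0, h4⟩
    · refine ⟨q0 ^ 2, ?_, ?_⟩
      · rw [← pow_mul]; exact h4
      · rw [← pow_mul]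
        have := pow_card_eq_one' (G := S ⧸ Z0) (x := q0)
        rwa [hQc] at this
  have hqo : orderOf q = 4 := by
    have h1 : orderOf q ∣ 4 := orderOf_dvd_of_pow_eq_one hq4
    have h2 : ¬ orderOf q ∣ 2 := fun h => hq2 (orderOf_dvd_iff_pow_eq_one.mp h)
    have hle : orderOf q ≤ 4 := Nat.le_of_dvd (by norm_num) h1
    have key : ∀ o ≤ 4, o ∣ 4 → ¬ o ∣ 2 → o = 4 := by decide
    exact key _ hle h1 h2
  obtain ⟨a0, rfl⟩ := QuotientGroup.mk_surjective q
  refine ⟨(zpowers (a0 : S ⧸ Z0)).comap (QuotientGroup.mk' Z0), ?_, ?_⟩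
  · rw [Subgroup.index_comap_of_surjective _ (QuotientGroup.mk'_surjective Z0)]
    have := Subgroup.card_mul_index (zpowers (a0 : S ⧸ Z0))
    rw [Nat.card_zpowers, hqo, hQc] at this
    omega
  · intro a ha b hb
    rw [Subgroup.mem_comap, mem_zpowers_iff] at ha hb
    obtain ⟨i, hi⟩ := ha
    obtain ⟨j, hj⟩ := hb
    have ha' : (a0 ^ i)⁻¹ * a ∈ Z0 := by
      rw [← QuotientGroup.eq, QuotientGroup.mk_zpow]; exact hi
    have hb' : (a0 ^ j)⁻¹ * b ∈ Z0 := by
      rw [← QuotientGroup.eq, QuotientGroup.mk_zpow]; exact hj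
    have hca : a = a0 ^ i * ((a0 ^ i)⁻¹ * a) := by group
    have hcb : b = a0 ^ j * ((a0 ^ j)⁻¹ * b) := by group
    have hxy : Commute (a0 ^ i) (a0 ^ j) := (Commute.refl a0).zpow_zpow i j
    have : Commute a b := by
      rw [hca, hcb]
      apply Commute.mul_left
      · exact hxy.mul_right (hcommc _ hb' (a0 ^ i)).symm
      · exact hcommc _ ha' _
    exact this.eq

/-- **Thompson transfer kill.** In a nonabelian simple group whose Sylow 2-subgroups have order
16, the order of the centralizer of an involution is divisible by 8. -/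
theorem false_of_centralizer_involution {G : Type*} [Group G] [Finite G] [IsSimpleGroup G]
    (m : ℕ) (hcard : Nat.card G = 2 ^ 4 * m) (hm : ¬ 2 ∣ m)
    (t : G) (ht : orderOf t = 2) (hC : ¬ 8 ∣ Nat.card (centralizer ({t} : Set G))) : False := by
  have h2 : Fact (Nat.Prime 2) := ⟨Nat.prime_two⟩
  have htp : IsPGroup 2 (zpowers t) :=
    IsPGroup.of_card (n := 1) (by rw [Nat.card_zpowers, ht, pow_one])
  obtain ⟨S, hS⟩ := htp.exists_le_sylow
  have htS : t ∈ (S : Subgroup G) := hS (mem_zpowers t)
  have hSc : Nat.card S = 2 ^ 4 := SylowExact.card_sylow_of_exact_pow hcard hm S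
  have hCS : Nat.card (centralizer ({(⟨t, htS⟩ : (S : Subgroup G))} :
      Set (S : Subgroup G))) ≤ 4 := by
    set K := (centralizer ({(⟨t, htS⟩ : (S : Subgroup G))} :
      Set (S : Subgroup G))).map (S : Subgroup G).subtype with hK
    have hKc : Nat.card K = Nat.card (centralizer ({(⟨t, htS⟩ : (S : Subgroup G))} :
        Set (S : Subgroup G))) :=
      Subgroup.card_map_of_injective (subtype_injective _)
    have hKle : K ≤ centralizer ({t} : Set G) := by
      rintro _ ⟨x, hx, rfl⟩
      rw [SetLike.mem_coe, mem_centralizer_singleton_iff] at hx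
      rw [mem_centralizer_singleton_iff]
      exact congrArg Subtype.val hx
    have hKdvd : Nat.card K ∣ Nat.card (centralizer ({t} : Set G)) :=
      Subgroup.card_dvd_of_le hKle
    have hKS : Nat.card K ∣ 2 ^ 4 := by
      rw [← hSc]; exact Subgroup.card_dvd_of_le (map_subtype_le _)
    obtain ⟨k, hk, hk2⟩ := (Nat.dvd_prime_pow Nat.prime_two).mp hKS
    rw [← hKc, hk2]
    by_contra hcon
    push Not at hcon
    have hk3 : 3 ≤ k := by
      by_contra h'
      push Not at h'
      interval_cases k <;> omega
    exact hC ((pow_dvd_pow 2 hk3).trans (hk2 ▸ hKdvd))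
  obtain ⟨M', hM'i, hM'c⟩ := exists_abelian_index_two (S := (S : Subgroup G))
    (by rw [hSc]; norm_num) ⟨t, htS⟩ hCS
  set M : Subgroup G := M'.map (S : Subgroup G).subtype with hM
  have hMS : M ≤ (S : Subgroup G) := map_subtype_le M'
  have hsub : M.subgroupOf (S : Subgroup G) = M' :=
    Subgroup.comap_map_eq_self_of_injective (subtype_injective _) M'
  have hrel : M.relIndex (S : Subgroup G) = 2 := by
    rw [Subgroup.relIndex, hsub]; exact hM'i
  have hMc : Nat.card M = 8 := by
    rw [hM, Subgroup.card_map_of_injective (subtype_injective _)]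
    have := Subgroup.card_mul_index M'
    rw [hM'i, hSc] at this
    omega
  have hMab : ∀ a ∈ M, ∀ b ∈ M, a * b = b * a := by
    rintro _ ⟨a, ha, rfl⟩ _ ⟨b, hb, rfl⟩
    exact congrArg Subtype.val (hM'c a ha b hb)
  have htM : t ∉ M := by
    intro htM
    apply hC
    rw [← hMc]
    apply Subgroup.card_dvd_of_le
    intro x hx
    rw [mem_centralizer_singleton_iff]
    exact hMab x hx t htM
  rcases Cfsg.Agent.S0111.result S M hMS hrel t ht htS htM with ⟨N, hNn, hNi, -⟩ | ⟨g, hg⟩
  · rcases hNn.eq_bot_or_eq_top with h | h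
    · rw [h, index_bot, hcard] at hNi; omega
    · rw [h, index_top] at hNi; omega
  · have hle : M.map (MulAut.conj g⁻¹).toMonoidHom ≤ centralizer ({t} : Set G) := by
      rintro _ ⟨x, hx, rfl⟩
      rw [mem_centralizer_singleton_iff]
      simp only [MulEquiv.coe_toMonoidHom, MulAut.conj_apply, inv_inv]
      have hxc := hMab x hx (g * t * g⁻¹) hg
      calc g⁻¹ * x * g * t = g⁻¹ * (x * (g * t * g⁻¹)) * g := by group
        _ = g⁻¹ * ((g * t * g⁻¹) * x) * g := by rw [hxc]
        _ = t * (g⁻¹ * x * g) := by group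
    have hc8 : Nat.card (M.map (MulAut.conj g⁻¹).toMonoidHom) = 8 := by
      rw [Subgroup.card_map_of_injective (MulAut.conj g⁻¹).injective, hMc]
    exact hC (hc8 ▸ Subgroup.card_dvd_of_le hle)

/-- Burnside's transfer theorem in a simple group: a proper nontrivial Sylow subgroup is not
central in its normalizer. -/
theorem false_of_normalizer_le_centralizer {G : Type*} [Group G] [Finite G] [IsSimpleGroup G]
    {p : ℕ} [hp : Fact p.Prime] (P : Sylow p G) (hP1 : Nat.card P ≠ 1)
    (hP2 : Nat.card P ≠ Nat.card G)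
    (hle : normalizer ((P : Subgroup G) : Set G) ≤ centralizer ((P : Subgroup G) : Set G)) :
    False := by
  have hcomp := MonoidHom.ker_transferSylow_isComplement' P hle
  have hidx : (MonoidHom.transferSylow P hle).ker.index = Nat.card P :=
    hcomp.symm.index_eq_card
  have : (MonoidHom.transferSylow P hle).ker.Normal := MonoidHom.normal_ker _
  exact SmallOrder.false_of_normal_index (MonoidHom.transferSylow P hle).ker
    (by rw [hidx]; exact hP1) (by rw [hidx]; exact hP2)

/-- Sylow counting inside a subgroup `K` containing the Sylow subgroup `P` of `G`. -/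
theorem card_sylow_subgroup_mul {G : Type*} [Group G] [Finite G] {p : ℕ} [hp : Fact p.Prime]
    (P : Sylow p G) (K : Subgroup G) (hPK : (P : Subgroup G) ≤ K) :
    Nat.card (Sylow p K) * Nat.card (normalizer ((P : Subgroup G) : Set G) ⊓ K : Subgroup G) =
      Nat.card K := by
  have h1 := Sylow.card_eq_index_normalizer (P.subtype hPK)
  have h2 := Subgroup.card_mul_index
    (normalizer (((P.subtype hPK : Sylow p K) : Subgroup K) : Set K))
  have h3 : normalizer (((P.subtype hPK : Sylow p K) : Subgroup K) : Set K) =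
      (normalizer ((P : Subgroup G) : Set G)).subgroupOf K := by
    rw [Sylow.coe_subtype]
    exact (Subgroup.subgroupOf_normalizer_eq hPK).symm
  have h4 : Nat.card ((normalizer ((P : Subgroup G) : Set G)).subgroupOf K) =
      Nat.card (normalizer ((P : Subgroup G) : Set G) ⊓ K : Subgroup G) := by
    rw [← Subgroup.inf_subgroupOf_right]
    exact Nat.card_congr (Subgroup.subgroupOfEquivOfLe inf_le_right).toEquiv
  rw [h1, ← h4, ← h3, mul_comm]
  exact h2

end Cfsg.Agent.Helper2.SimpleSmall2
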