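import Mathlib
import Cfsg.Agent.Helper2.SimpleSmall3

/-!
# No simple group of order 1008 (helper2, for S0496)

There are 36 Sylow 7-subgroups, with normalizer of order 28 and centralizer of order 14. The
involution `t` centralizing a Sylow 7-subgroup `P` has `C(t) = N(P)` of order 28, against the
Thompson transfer lemma.
-/

set_option autoImplicit false
set_option maxRecDepth 8192
set_option synthInstance.maxSize 2048

namespace Cfsg.Agent.Helper2.SimpleSmall2

open Subgroup

/-- In a group with a central subgroup of odd order and index 2, any two involutions are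
equal. -/
theorem involution_unique_of_index_two {C : Type*} [Group C] [Finite C] (P : Subgroup C)
    (hPi : P.index = 2) (hodd : Odd (Nat.card P)) (hPc : P ≤ center C) (u t : C)
    (hu : orderOf u = 2) (ht : orderOf t = 2) : u = t := by
  have hu2 : u * u = 1 := by rw [← pow_two, ← hu, pow_orderOf_eq_one]
  have ht2 : t * t = 1 := by rw [← pow_two, ← ht, pow_orderOf_eq_one]
  have hnot : ∀ v : C, orderOf v = 2 → v ∉ P := by
    intro v hv hvP
    have := Subgroup.orderOf_dvd_natCard P hvP
    rw [hv] at this
    exact (Nat.not_even_iff_odd.mpr hodd) (even_iff_two_dvd.mpr this)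
  have hw : u * t ∈ P :=
    (mul_mem_iff_of_index_two hPi).mpr
      ⟨fun h => absurd h (hnot u hu), fun h => absurd h (hnot t ht)⟩
  have hwc : ∀ s, s * (u * t) = (u * t) * s := mem_center_iff.mp (hPc hw)
  have hw2 : (u * t) * (u * t) = 1 := by
    calc (u * t) * (u * t) = u * (t * (u * t)) := by group
      _ = u * ((u * t) * t) := by rw [hwc t]
      _ = (u * u) * (t * t) := by group
      _ = 1 := by rw [hu2, ht2, one_mul]
  have hwo : orderOf (u * t) ∣ 2 := orderOf_dvd_of_pow_eq_one (by rw [pow_two]; exact hw2)
  have hwo' : orderOf (u * t) ∣ Nat.card P := Subgroup.orderOf_dvd_natCard P hw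
  have h1 : orderOf (u * t) = 1 := by
    rcases (Nat.dvd_prime Nat.prime_two).mp hwo with h | h
    · exact h
    · rw [h] at hwo'
      exact absurd (even_iff_two_dvd.mpr hwo') (Nat.not_even_iff_odd.mpr hodd)
  have hut : u * t = 1 := orderOf_eq_one_iff.mp h1
  calc u = u * (t * t) := by rw [ht2, mul_one]
    _ = (u * t) * t := by group
    _ = t := by rw [hut, one_mul]

/-- A Sylow subgroup `P` of prime order `p` whose centralizer has order `2 p`: the involution
`t` of `C(P)` is centralized by `N(P)`. -/
theorem normalizer_le_centralizer_involution {G : Type*} [Group G] [Finite G] {p : ℕ}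
    [hp : Fact p.Prime] (hp2 : p ≠ 2) (P : Subgroup G) (hP : Nat.card P = p)
    (hC : Nat.card (centralizer (P : Set G)) = 2 * p) (t : G)
    (htC : t ∈ centralizer (P : Set G)) (ht : orderOf t = 2) :
    normalizer (P : Set G) ≤ centralizer ({t} : Set G) := by
  have hPcyc : IsCyclic P := isCyclic_of_prime_card hP
  have hPle : P ≤ centralizer (P : Set G) := Subgroup.le_centralizer P
  have hpodd : Odd p := hp.out.odd_of_ne_two hp2
  -- the subgroup `P` inside `C(P)`
  set P' : Subgroup (centralizer (P : Set G)) := P.subgroupOf (centralizer (P : Set G)) with hP'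
  have hP'c : Nat.card P' = p := by
    rw [hP', Nat.card_congr (Subgroup.subgroupOfEquivOfLe hPle).toEquiv, hP]
  have hP'i : P'.index = 2 := by
    have := Subgroup.card_mul_index P'
    rw [hP'c, hC] at this
    have hp0 := hp.out.pos
    nlinarith
  have hP'cen : P' ≤ center (centralizer (P : Set G)) := by
    intro x hx
    rw [mem_center_iff]
    intro y
    have hxP : (x : G) ∈ P := mem_subgroupOf.mp hx
    have := y.2
    rw [mem_centralizer_iff] at this
    exact Subtype.ext (this x hxP).symm
  intro n hn
  rw [mem_centralizer_singleton_iff]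
  -- `n t n⁻¹` is an involution of `C(P)`
  have hconjC : n * t * n⁻¹ ∈ centralizer (P : Set G) := by
    rw [mem_centralizer_iff]
    intro x hx
    have hx' : n⁻¹ * x * n ∈ P := by
      have := (mem_normalizer_iff'' (H := P) |>.mp hn) x
      exact this.mp hx
    have hc := mem_centralizer_iff.mp htC _ hx'
    calc x * (n * t * n⁻¹) = n * ((n⁻¹ * x * n) * t) * n⁻¹ := by group
      _ = n * (t * (n⁻¹ * x * n)) * n⁻¹ := by rw [hc]
      _ = n * t * n⁻¹ * x := by group
  have hconjo : orderOf (n * t * n⁻¹) = 2 := by
    have := orderOf_injective (MulAut.conj n).toMonoidHom (MulAut.conj n).injective t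
    simpa [MulAut.conj_apply] using this.trans ht
  have := involution_unique_of_index_two P' hP'i (by rw [hP'c]; exact hpodd) hP'cen
    ⟨n * t * n⁻¹, hconjC⟩ ⟨t, htC⟩
    (by rw [← hconjo]; exact (Subgroup.orderOf_mk _ hconjC))
    (by rw [← ht]; exact (Subgroup.orderOf_mk _ htC))
  have h1 : n * t * n⁻¹ = t := congrArg Subtype.val this
  calc n * t = n * t * n⁻¹ * n := by group
    _ = t * n := by rw [h1]

theorem no_simple_1008 {G : Type*} [Group G] [Finite G] [IsSimpleGroup G]
    (hG : ¬ IsMulCommutative G) (h : Nat.card G = 1008) : False := by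
  have h7 : Fact (Nat.Prime 7) := ⟨by norm_num⟩
  have hcard7 : Nat.card G = 7 ^ 1 * 144 := h.trans (by norm_num)
  obtain ⟨d, hd, h1, h2, h3, h4, h5, h6, -⟩ :=
    sylow_count3 (G := G) hG 7 1 144 hcard7 (by norm_num) (by norm_num) (by norm_num)
  have hle : d ≤ 144 := Nat.le_of_dvd (by norm_num) h1
  have hd36 : d = 36 := by
    have h4' : d ≤ 20 → 7 ^ 1 * 144 ∣ d.factorial := fun _ => h4
    have key : ∀ d ≤ 144, (d ∣ 144 ∧ d % 7 = 1 ∧ d ≠ 1 ∧
        (d ≤ 20 → 7 ^ 1 * 144 ∣ d.factorial) ∧
        (1 = 1 → ¬ Nat.Coprime (7 ^ 1 * 144 / d) (7 - 1)) ∧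
        (1 = 1 → 7 ≠ 2 → (d = 7 ∨ d = 7 + 1) → 2 * (7 ^ 1 * 144 / d) ∣ 7 * (7 - 1))) →
        d = 36 := by decide
    exact key d hle ⟨h1, h2, h3, h4', h5, h6⟩
  subst hd36
  let P : Sylow 7 G := default
  have hPc : Nat.card P = 7 := by
    have := SylowExact.card_sylow_of_exact_pow hcard7 (by norm_num) P
    rwa [pow_one] at this
  have hNS := SmallOrder.card_normalizer_mul_card_sylow P
  rw [← hd, h] at hNS
  have hNc : Nat.card (normalizer ((P : Subgroup G) : Set G)) = 28 := by omega
  have hPcyc : IsCyclic (P : Subgroup G) := isCyclic_of_prime_card hPc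
  have hrel := SmallOrder.relIndex_centralizer_normalizer_dvd (P : Subgroup G) hPcyc
  rw [hPc, Nat.totient_prime (by norm_num)] at hrel
  have hmul : Nat.card ((centralizer ((P : Subgroup G) : Set G)).subgroupOf
      (normalizer ((P : Subgroup G) : Set G))) *
      (centralizer ((P : Subgroup G) : Set G)).relIndex
        (normalizer ((P : Subgroup G) : Set G)) = 28 := by
    rw [← hNc]; exact Subgroup.card_mul_index _
  have hCc : Nat.card ((centralizer ((P : Subgroup G) : Set G)).subgroupOf
      (normalizer ((P : Subgroup G) : Set G))) =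
      Nat.card (centralizer ((P : Subgroup G) : Set G)) :=
    Nat.card_congr (Subgroup.subgroupOfEquivOfLe (centralizer_le_normalizer _)).toEquiv
  rw [hCc] at hmul
  have hrel1 : (centralizer ((P : Subgroup G) : Set G)).relIndex
      (normalizer ((P : Subgroup G) : Set G)) ≠ 1 := by
    intro h1
    exact false_of_normalizer_le_centralizer P (by rw [hPc]; norm_num)
      (by rw [hPc, h]; norm_num) (Subgroup.relIndex_eq_one.mp h1)
  have hCcard : Nat.card (centralizer ((P : Subgroup G) : Set G)) = 14 := by
    have key : ∀ r ≤ 6, ∀ c ≤ 28, r ∣ 6 → c * r = 28 → r ≠ 1 → c = 14 := by decide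
    exact key _ (Nat.le_of_dvd (by norm_num) hrel) _
      (Nat.le_of_dvd (by norm_num) (Dvd.intro _ hmul)) hrel hmul hrel1
  -- the involution
  have h2 : Fact (Nat.Prime 2) := ⟨Nat.prime_two⟩
  obtain ⟨t', ht'⟩ := exists_prime_orderOf_dvd_card' 2
    (show 2 ∣ Nat.card (centralizer ((P : Subgroup G) : Set G)) by rw [hCcard]; norm_num)
  obtain ⟨t, htC⟩ := t'
  have hto : orderOf t = 2 := by rw [← ht']; exact (Subgroup.orderOf_mk t htC).symm
  have hNle := normalizer_le_centralizer_involution (p := 7) (by norm_num) (P : Subgroup G) hPc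
    (by rw [hCcard]) t htC hto
  -- the order of `C(t)`
  have hPle : (P : Subgroup G) ≤ centralizer ({t} : Set G) := le_normalizer.trans hNle
  have hcount := card_sylow_subgroup_mul P (centralizer ({t} : Set G)) hPle
  rw [inf_of_le_left hNle, hNc] at hcount
  have hmod := card_sylow_modEq_one 7 (centralizer ({t} : Set G))
  have hdvd : Nat.card (centralizer ({t} : Set G)) ∣ 1008 := by
    rw [← h]; exact Subgroup.card_subgroup_dvd_card _
  have hc : Nat.card (centralizer ({t} : Set G)) = 28 ∨
      Nat.card (centralizer ({t} : Set G)) = 1008 := by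
    have key : ∀ s ≤ 36, ∀ c ≤ 1008, s * 28 = c → c ∣ 1008 → s % 7 = 1 % 7 →
        c = 28 ∨ c = 1008 := by decide
    have hcle : Nat.card (centralizer ({t} : Set G)) ≤ 1008 := Nat.le_of_dvd (by norm_num) hdvd
    have hsle : Nat.card (Sylow 7 (centralizer ({t} : Set G))) ≤ 36 := by
      have : Nat.card (Sylow 7 (centralizer ({t} : Set G))) * 28 ≤ 1008 := hcount ▸ hcle
      omega
    exact key _ hsle _ hcle hcount hdvd hmod
  rcases hc with hc | hc
  · apply false_of_centralizer_involution (G := G) 63 (h.trans (by norm_num)) (by norm_num)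
      t hto
    rw [hc]; norm_num
  · -- `t` is central
    have htop : centralizer ({t} : Set G) = ⊤ :=
      Subgroup.eq_top_of_card_eq _ (by rw [hc, h])
    have htc : t ∈ center G := by
      rw [mem_center_iff]
      intro g
      have : g ∈ centralizer ({t} : Set G) := by rw [htop]; exact mem_top g
      exact mem_centralizer_singleton_iff.mp this
    rcases (inferInstance : (center G).Normal).eq_bot_or_eq_top with h0 | h0
    · rw [h0, mem_bot] at htc
      rw [htc, orderOf_one] at hto
      omega
    · apply hG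
      refine ⟨⟨fun a b => ?_⟩⟩
      have : a ∈ center G := by rw [h0]; exact mem_top a
      exact (mem_center_iff.mp this b).symm

end Cfsg.Agent.Helper2.SimpleSmall2
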