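import Mathlib
import Cfsg.Agent.Helper2.SimpleSmall2
import Cfsg.Agent.Helper4.SylowCoprime
import Cfsg.Agent.S0071

/-!
# No simple group of order 1040 (helper2, for S0496)
-/

set_option autoImplicit false

namespace Cfsg.Agent.Helper2.SimpleSmall2

open Subgroup

/-- an element of order dividing `r` normalizing `Q` centralizes it, when no proper divisor of
`|Q|` is congruent to `|Q|` mod `r` -/
theorem mem_centralizer_of_pow_eq_one {G : Type*} [Group G] [Finite G] {r : ℕ}
    [hr : Fact r.Prime] (Q : Subgroup G) (x : G) (hx : x ∈ normalizer (Q : Set G))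
    (hxr : x ^ r = 1)
    (hQ : ∀ e, e ∣ Nat.card Q → Nat.card Q ≡ e [MOD r] → e = Nat.card Q) :
    x ∈ centralizer (Q : Set G) := by
  have hX : IsPGroup r (zpowers x) := by
    rintro ⟨g, hg⟩
    obtain ⟨i, rfl⟩ := mem_zpowers_iff.mp hg
    refine ⟨1, Subtype.ext ?_⟩
    change (x ^ i) ^ (r ^ 1) = 1
    rw [pow_one, ← zpow_natCast, ← zpow_mul, mul_comm, zpow_mul, zpow_natCast, hxr, one_zpow]
  have hXN : zpowers x ≤ normalizer (Q : Set G) := (zpowers_le).mpr hx
  have h := Cfsg.Agent.Helper4.card_modEq_card_inf_centralizer (zpowers x) Q hX hXN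
  have hdvd : Nat.card (Q ⊓ centralizer ((zpowers x : Subgroup G) : Set G) : Subgroup G) ∣
      Nat.card Q := Subgroup.card_dvd_of_le inf_le_left
  have heq := hQ _ hdvd h
  have hQC : Q ⊓ centralizer ((zpowers x : Subgroup G) : Set G) = Q :=
    Subgroup.eq_of_le_of_card_ge inf_le_left (by rw [heq])
  rw [mem_centralizer_iff]
  intro q hq
  have hq' : q ∈ centralizer ((zpowers x : Subgroup G) : Set G) := by
    rw [← hQC] at hq; exact hq.2
  exact (mem_centralizer_iff.mp hq' x (mem_zpowers x)).symm

theorem no_simple_1040 {G : Type*} [Group G] [Finite G] [IsSimpleGroup G]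
    (hG : ¬ IsMulCommutative G) (h : Nat.card G = 1040) : False := by
  have : Fact (Nat.Prime 2) := ⟨Nat.prime_two⟩
  have h5 : Fact (Nat.Prime 5) := ⟨by norm_num⟩
  have h13 : Fact (Nat.Prime 13) := ⟨by norm_num⟩
  have hcard : Nat.card G = 2 ^ 4 * 65 := h.trans (by norm_num)
  obtain ⟨d, hd, h1, h2, h3, h4, -⟩ :=
    sylow_count2 (G := G) 2 4 65 hcard (by norm_num) (by norm_num) (by norm_num)
  have hle : d ≤ 65 := Nat.le_of_dvd (by norm_num) h1
  have hd' : d = 13 ∨ d = 65 := by
    have h4' : d ≤ 20 → 2 ^ 4 * 65 ∣ d.factorial := fun _ => h4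
    clear h4 hd
    interval_cases d <;> revert h1 h2 h3 h4' <;> decide
  rcases hd' with rfl | rfl
  · have := prime_card_sylow hG 2 4 65 13 hcard (by norm_num) (by norm_num) (by norm_num)
      (by norm_num) hd
    revert this; decide
  · let P : Sylow 2 G := default
    have hPc : Nat.card P = 2 ^ 4 := SylowExact.card_sylow_of_exact_pow hcard (by norm_num) P
    have hNS := SmallOrder.card_normalizer_mul_card_sylow P
    rw [← hd, h] at hNS
    have hNc : Nat.card (normalizer ((P : Subgroup G) : Set G)) = 16 := by omega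
    have hNP : normalizer ((P : Subgroup G) : Set G) = (P : Subgroup G) :=
      (Subgroup.eq_of_le_of_card_ge le_normalizer (by rw [hNc, hPc]; norm_num)).symm
    have key13 : ∀ c ≤ 16, c ∣ 16 → ∀ e ≤ c, e ∣ c → c % 13 = e % 13 → e = c := by decide
    have key5 : ∀ c < 16, c ∣ 16 → ∀ e ≤ c, e ∣ c → c % 5 = e % 5 → e = c := by
      decide
    have hfrob : ∀ Q : Subgroup G, Q ≤ (P : Subgroup G) → ∀ g ∈ normalizer (Q : Set G),
        Nat.Coprime (orderOf g) 2 → g ∈ centralizer (Q : Set G) := by
      intro Q hQP g hg hcop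
      have hQdvd : Nat.card Q ∣ 16 := by
        have := Subgroup.card_dvd_of_le hQP
        rw [hPc] at this
        exact this
      have hQle : Nat.card Q ≤ 16 := Nat.le_of_dvd (by norm_num) hQdvd
      have ho : orderOf g ∣ 65 := by
        have h1 : orderOf g ∣ 2 ^ 4 * 65 := by rw [← hcard]; exact orderOf_dvd_natCard g
        exact (Nat.Coprime.pow_right 4 hcop).dvd_of_dvd_mul_left h1
      have hg65 : g ^ 65 = 1 := orderOf_dvd_iff_pow_eq_one.mp ho
      have hx1 : (g ^ 13) ^ 5 = 1 := by rw [← pow_mul]; exact hg65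
      have hx2 : (g ^ 5) ^ 13 = 1 := by rw [← pow_mul]; exact hg65
      have hn1 : g ^ 13 ∈ normalizer (Q : Set G) := pow_mem hg 13
      have hn2 : g ^ 5 ∈ normalizer (Q : Set G) := pow_mem hg 5
      have hc2 : g ^ 5 ∈ centralizer (Q : Set G) := by
        apply mem_centralizer_of_pow_eq_one (r := 13) Q _ hn2 hx2
        intro e he hmod
        exact key13 _ hQle hQdvd _ (Nat.le_of_dvd Nat.card_pos he) he hmod
      have hc1 : g ^ 13 ∈ centralizer (Q : Set G) := by
        by_cases hQ16 : Nat.card Q = 16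
        · have hQeq : Q = (P : Subgroup G) :=
            Subgroup.eq_of_le_of_card_ge hQP (by rw [hQ16, hPc]; norm_num)
          have hmem : g ^ 13 ∈ (P : Subgroup G) := by
            rw [← hNP, ← hQeq]; exact hn1
          have ho2 : orderOf (g ^ 13) ∣ 16 := by
            have := Subgroup.orderOf_dvd_natCard (P : Subgroup G) hmem
            rw [hPc] at this
            exact this
          have ho5 : orderOf (g ^ 13) ∣ 5 := orderOf_dvd_of_pow_eq_one hx1
          have h1 : orderOf (g ^ 13) = 1 := by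
            have := Nat.dvd_gcd ho2 ho5
            simpa using this
          rw [orderOf_eq_one_iff.mp h1]
          exact one_mem _
        · apply mem_centralizer_of_pow_eq_one (r := 5) Q _ hn1 hx1
          intro e he hmod
          exact key5 _ (lt_of_le_of_ne hQle hQ16) hQdvd _ (Nat.le_of_dvd Nat.card_pos he) he hmod
      have hgeq : g = (g ^ 13) ^ 2 * (g ^ 5) ^ 8 := by
        rw [← pow_mul, ← pow_mul, ← pow_add]
        calc g = g ^ 65 * g := by rw [hg65, one_mul]
          _ = g ^ (13 * 2 + 5 * 8) := by rw [← pow_succ]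
      rw [hgeq]
      exact mul_mem (pow_mem hc1 2) (pow_mem hc2 8)
    obtain ⟨N, hNn, hNcompl⟩ := (Cfsg.Agent.S0071.result P).mpr hfrob
    have hcardN : Nat.card N * Nat.card (P : Subgroup G) = Nat.card G := hNcompl.card_mul_card
    rw [hPc, h] at hcardN
    have hN65 : Nat.card N = 65 := by omega
    rcases hNn.eq_bot_or_eq_top with h0 | h0
    · rw [h0, Subgroup.card_bot] at hN65; omega
    · rw [h0, Subgroup.card_top, h] at hN65; omega

end Cfsg.Agent.Helper2.SimpleSmall2
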