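import Mathlib
import Cfsg.Agent.Helper2.SimpleSmall2

/-!
# No simple group of order 1080 (helper2, for S0496)

The group would have a subgroup of index `10` and an element of order `15`, whose fifth power
would lie in every conjugate of that subgroup.
-/

set_option autoImplicit false
set_option maxRecDepth 8192
set_option synthInstance.maxSize 2048

namespace Cfsg.Agent.Helper2.SimpleSmall2

open Subgroup

/-- a subgroup of prime order `p` whose centralizer has order divisible by another prime `q`
gives an element of order `p q` -/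
theorem exists_orderOf_eq_mul_of_dvd_card_centralizer {G : Type*} [Group G] [Finite G]
    {p q : ℕ} [hp : Fact p.Prime] [hq : Fact q.Prime] (hpq : p ≠ q) (P : Subgroup G)
    (hP : Nat.card P = p) (hdvd : q ∣ Nat.card (centralizer (P : Set G))) :
    ∃ x : G, orderOf x = p * q := by
  obtain ⟨y, hy⟩ := exists_prime_orderOf_dvd_card' q hdvd
  have hPc : IsCyclic P := isCyclic_of_prime_card hP
  obtain ⟨z, hz⟩ := hPc.exists_generator
  have hzo : orderOf z = p := by rw [orderOf_eq_card_of_forall_mem_zpowers hz, hP]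
  refine ⟨(z : G) * (y : G), ?_⟩
  have hcomm : Commute (z : G) (y : G) := by
    have := y.2
    rw [mem_centralizer_iff] at this
    exact this z z.2
  have hcop : Nat.Coprime (orderOf (z : G)) (orderOf (y : G)) := by
    rw [Subgroup.orderOf_coe, Subgroup.orderOf_coe, hzo, hy]
    exact (Nat.coprime_primes hp.out hq.out).mpr hpq
  rw [hcomm.orderOf_mul_eq_mul_orderOf_of_coprime hcop, Subgroup.orderOf_coe,
    Subgroup.orderOf_coe, hzo, hy]

/-- an element `x` of order `15` and a subgroup `H` of index `10` and order `108`: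
`x ^ 5 ∈ H` -/
theorem pow_five_mem_of_index_ten {G : Type*} [Group G] [Finite G] (H : Subgroup G) (x : G)
    (hx : orderOf x = 15) (hHi : H.index = 10) (hHc : Nat.card H = 108) : x ^ 5 ∈ H := by
  have hXc : Nat.card (zpowers x) = 15 := by rw [Nat.card_zpowers, hx]
  have h1 : H.relIndex (zpowers x) ≤ 10 := by
    have h0 : H.relIndex ⊤ ≠ 0 := by rw [relIndex_top_right, hHi]; norm_num
    have := Subgroup.relIndex_le_of_le_right (H := H) (le_top : zpowers x ≤ ⊤) h0
    rwa [relIndex_top_right, hHi] at this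
  have h2 : Nat.card (H.subgroupOf (zpowers x)) * H.relIndex (zpowers x) = 15 := by
    rw [← hXc]; exact Subgroup.card_mul_index _
  have h3 : Nat.card (H.subgroupOf (zpowers x)) ∣ 108 := by
    rw [← hHc]
    have e : Nat.card (H.subgroupOf (zpowers x)) = Nat.card (H ⊓ zpowers x : Subgroup G) := by
      rw [← Subgroup.inf_subgroupOf_right]
      exact Nat.card_congr (Subgroup.subgroupOfEquivOfLe inf_le_right).toEquiv
    rw [e]; exact Subgroup.card_dvd_of_le inf_le_left
  have h4 : H.relIndex (zpowers x) = 5 := by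
    have key : ∀ i ≤ 10, ∀ c ≤ 15, c * i = 15 → c ∣ 108 → i = 5 := by decide
    have hc15 : Nat.card (H.subgroupOf (zpowers x)) ≤ 15 :=
      Nat.le_of_dvd (by norm_num) (Dvd.intro _ h2)
    exact key _ h1 _ hc15 h2 h3
  have h5 := Subgroup.pow_index_mem (H.subgroupOf (zpowers x)) (⟨x, mem_zpowers x⟩ : zpowers x)
  have h6 : (H.subgroupOf (zpowers x)).index = 5 := h4
  rw [h6] at h5
  exact h5

theorem no_simple_1080 {G : Type*} [Group G] [Finite G] [IsSimpleGroup G]
    (_hG : ¬ IsMulCommutative G) (h : Nat.card G = 1080) : False := by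
  have h3 : Fact (Nat.Prime 3) := ⟨by norm_num⟩
  have h5 : Fact (Nat.Prime 5) := ⟨by norm_num⟩
  -- a subgroup of index 10
  obtain ⟨H, hHi⟩ : ∃ H : Subgroup G, H.index = 10 := by
    have hcard : Nat.card G = 3 ^ 3 * 40 := h.trans (by norm_num)
    obtain ⟨d, hd, h1, h2, h3', h4, -⟩ :=
      sylow_count2 (G := G) 3 3 40 hcard (by norm_num) (by norm_num) (by norm_num)
    have hle : d ≤ 40 := Nat.le_of_dvd (by norm_num) h1
    have hd' : d = 10 ∨ d = 40 := by
      have h4' : d ≤ 20 → 3 ^ 3 * 40 ∣ d.factorial := fun _ => h4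
      have key : ∀ d ≤ 40, (d ∣ 40 ∧ d % 3 = 1 ∧ d ≠ 1 ∧
          (d ≤ 20 → 3 ^ 3 * 40 ∣ d.factorial)) → d = 10 ∨ d = 40 := by decide
      exact key d hle ⟨h1, h2, h3', h4'⟩
    rcases hd' with rfl | rfl
    · exact ⟨normalizer (((default : Sylow 3 G) : Subgroup G) : Set G),
        (Sylow.card_eq_index_normalizer (default : Sylow 3 G)).symm.trans hd.symm⟩
    · have hne : ¬ Nat.card (Sylow 3 G) ≡ 1 [MOD 3 ^ 2] := by
        rw [← hd]; decide
      obtain ⟨M, k, e, -, -, hjk, hj1, hfact, hek, he3, he1⟩ :=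
        exists_subgroup_of_not_modEq hcard (by norm_num) (by norm_num) hne
      refine ⟨M, ?_⟩
      have hkpos : 0 < k := by
        rcases Nat.eq_zero_or_pos k with h0 | h0
        · rw [h0, mul_zero] at hjk; omega
        · exact h0
      have hj40 : M.index ≤ 40 := by
        rw [← hjk]; exact Nat.le_mul_of_pos_right _ hkpos
      have hk40 : k ≤ 40 := by
        rw [← hjk]; exact Nat.le_mul_of_pos_left _ (by omega)
      have hek' : e ≤ k := Nat.le_of_dvd hkpos hek
      have hfact' : M.index ≤ 20 → 3 ^ 3 * 40 ∣ (M.index).factorial := fun _ => hfact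
      have key : ∀ j ≤ 40, ∀ k ≤ 40, (j * k = 40 ∧ 1 < j ∧
          (j ≤ 20 → 3 ^ 3 * 40 ∣ j.factorial) ∧
          (∃ e ≤ k, e ∣ k ∧ e % 3 = 1 ∧ 1 < e)) → j = 10 := by decide
      exact key _ hj40 _ hk40 ⟨hjk, hj1, hfact', ⟨e, hek', hek, he3, he1⟩⟩
  have hHc : Nat.card H = 108 := by
    have := H.card_mul_index
    rw [hHi, h] at this
    omega
  have hHtop : H ≠ ⊤ := by
    intro ht
    rw [ht, index_top] at hHi
    omega
  -- an element of order 15
  obtain ⟨x, hx⟩ : ∃ x : G, orderOf x = 15 := by
    have hcard : Nat.card G = 5 ^ 1 * 216 := h.trans (by norm_num)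
    obtain ⟨d, hd, h1, h2, h3', h4, h5'⟩ :=
      sylow_count2 (G := G) 5 1 216 hcard (by norm_num) (by norm_num) (by norm_num)
    have hle : d ≤ 216 := Nat.le_of_dvd (by norm_num) h1
    have hd' : d = 36 := by
      have h4' : d ≤ 20 → 5 ^ 1 * 216 ∣ d.factorial := fun _ => h4
      have key : ∀ d ≤ 216, (d ∣ 216 ∧ d % 5 = 1 ∧ d ≠ 1 ∧
          (d ≤ 20 → 5 ^ 1 * 216 ∣ d.factorial) ∧
          (1 = 1 → ¬ Nat.Coprime (5 ^ 1 * 216 / d) (5 - 1))) → d = 36 := by decide
      exact key d hle ⟨h1, h2, h3', h4', h5'⟩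
    subst hd'
    let P : Sylow 5 G := default
    have hPc : Nat.card P = 5 := by
      have := SylowExact.card_sylow_of_exact_pow hcard (by norm_num) P
      rwa [pow_one] at this
    have hNS := SmallOrder.card_normalizer_mul_card_sylow P
    rw [← hd, h] at hNS
    have hNc : Nat.card (normalizer ((P : Subgroup G) : Set G)) = 30 := by omega
    have hPcyc : IsCyclic (P : Subgroup G) := isCyclic_of_prime_card hPc
    have hrel := SmallOrder.relIndex_centralizer_normalizer_dvd (P : Subgroup G) hPcyc
    rw [hPc, Nat.totient_prime (by norm_num)] at hrel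
    have hmul : Nat.card ((centralizer ((P : Subgroup G) : Set G)).subgroupOf
        (normalizer ((P : Subgroup G) : Set G))) *
        (centralizer ((P : Subgroup G) : Set G)).relIndex
          (normalizer ((P : Subgroup G) : Set G)) = 30 := by
      rw [← hNc]; exact Subgroup.card_mul_index _
    have hCc : Nat.card ((centralizer ((P : Subgroup G) : Set G)).subgroupOf
        (normalizer ((P : Subgroup G) : Set G))) =
        Nat.card (centralizer ((P : Subgroup G) : Set G)) :=
      Nat.card_congr (Subgroup.subgroupOfEquivOfLe (centralizer_le_normalizer _)).toEquiv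
    rw [hCc] at hmul
    have h3dvd : 3 ∣ Nat.card (centralizer ((P : Subgroup G) : Set G)) := by
      have key : ∀ r ≤ 4, ∀ c ≤ 30, r ∣ 4 → c * r = 30 → 3 ∣ c := by decide
      have hr4 : (centralizer ((P : Subgroup G) : Set G)).relIndex
          (normalizer ((P : Subgroup G) : Set G)) ≤ 4 := Nat.le_of_dvd (by norm_num) hrel
      have hc30 : Nat.card (centralizer ((P : Subgroup G) : Set G)) ≤ 30 :=
        Nat.le_of_dvd (by norm_num) (Dvd.intro _ hmul)
      exact key _ hr4 _ hc30 hrel hmul
    have := exists_orderOf_eq_mul_of_dvd_card_centralizer (p := 5) (q := 3) (by norm_num)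
      (P : Subgroup G) hPc h3dvd
    simpa using this
  -- `x ^ 5` lies in the normal core of `H`
  have hcore : x ^ 5 ∈ H.normalCore := by
    change ∀ b : G, b * x ^ 5 * b⁻¹ ∈ H
    intro b
    have hconj : b * x ^ 5 * b⁻¹ = (b * x * b⁻¹) ^ 5 := (conj_pow).symm
    rw [hconj]
    apply pow_five_mem_of_index_ten H _ _ hHi hHc
    have := orderOf_injective (MulAut.conj b).toMonoidHom (MulAut.conj b).injective x
    simpa [MulAut.conj_apply] using this.trans hx
  have hcn : (H.normalCore).Normal := Subgroup.normalCore_normal H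
  rcases hcn.eq_bot_or_eq_top with h0 | h0
  · rw [h0, Subgroup.mem_bot] at hcore
    have := orderOf_dvd_of_pow_eq_one hcore
    rw [hx] at this
    omega
  · apply hHtop
    exact top_le_iff.mp (h0 ▸ Subgroup.normalCore_le H)

end Cfsg.Agent.Helper2.SimpleSmall2
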