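import Mathlib

set_option autoImplicit false

/-! A faithful action on the cosets of a core-free subgroup, commuting with a central element
acting without fixed points, gives an embedding into the centralizer of a fixed-point-free
permutation of the same prime order. -/

namespace Cfsg.Agent.Helper2.Ord162

open Subgroup

theorem cycleType_of_fpf {n p : ℕ} [hp : Fact p.Prime] (c : Equiv.Perm (Fin n))
    (hco : orderOf c = p) (hcf : ∀ i, c i ≠ i) :
    p ∣ n ∧ c.cycleType = Multiset.replicate (n / p) p := by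
  obtain ⟨k, hk⟩ := Equiv.Perm.cycleType_prime_order (σ := c) (by rw [hco]; exact hp.out)
  have hsum := Equiv.Perm.sum_cycleType c
  have hsupp : c.support = Finset.univ := by
    ext i
    simp [Equiv.Perm.mem_support, hcf i]
  rw [hsupp, Finset.card_univ, Fintype.card_fin, hk, Multiset.sum_replicate, hco,
    smul_eq_mul] at hsum
  have hp0 : 0 < p := hp.out.pos
  refine ⟨⟨k + 1, by rw [← hsum, mul_comm]⟩, ?_⟩
  rw [hk, hco, ← hsum, Nat.mul_div_cancel _ hp0]

theorem exists_embedding {G : Type*} [Group G] [Finite G] {n p : ℕ} [hp : Fact p.Prime]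
    (H : Subgroup G) (hidx : H.index = n) (hcore : H.normalCore = ⊥)
    (z : G) (hzc : z ∈ center G) (hzo : orderOf z = p) (hzH : z ∉ H)
    (c : Equiv.Perm (Fin n)) (hco : orderOf c = p) (hcf : ∀ i, c i ≠ i) :
    ∃ Φ : G →* Equiv.Perm (Fin n), Function.Injective Φ ∧ ∀ x, Φ x ∈ centralizer {c} := by
  classical
  have hfin : Nat.card (G ⧸ H) = n := hidx
  let e : (G ⧸ H) ≃ Fin n := Finite.equivFinOfCardEq hfin
  let φ : G →* Equiv.Perm (G ⧸ H) := MulAction.toPermHom G (G ⧸ H)
  have hφ : Function.Injective φ := by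
    rw [← MonoidHom.ker_eq_bot_iff, ← Subgroup.normalCore_eq_ker, hcore]
  let φ' : G →* Equiv.Perm (Fin n) := (e.permCongrHom).toMonoidHom.comp φ
  have hφ' : Function.Injective φ' := by
    intro a b hab
    exact hφ (e.permCongrHom.injective hab)
  have hσo : orderOf (φ' z) = p := by
    rw [orderOf_injective φ' hφ' z, hzo]
  have hσf : ∀ i, φ' z i ≠ i := by
    intro i hi
    have h1 : φ' z i = e (z • e.symm i) := rfl
    rw [h1] at hi
    have h2 : z • e.symm i = e.symm i := by
      apply e.injective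
      rw [hi, Equiv.apply_symm_apply]
    obtain ⟨g, hg⟩ := QuotientGroup.mk_surjective (e.symm i)
    rw [← hg, MulAction.Quotient.smul_mk, QuotientGroup.eq, smul_eq_mul] at h2
    have h3 : (z * g)⁻¹ * g = z⁻¹ := by
      have := Subgroup.mem_center_iff.mp hzc g
      rw [← this]
      group
    rw [h3] at h2
    exact hzH (by simpa using H.inv_mem h2)
  obtain ⟨-, h1⟩ := cycleType_of_fpf (φ' z) hσo hσf
  obtain ⟨-, h2⟩ := cycleType_of_fpf c hco hcf
  have hconj : IsConj (φ' z) c := by
    rw [Equiv.Perm.isConj_iff_cycleType_eq, h1, h2]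
  obtain ⟨π, hπ⟩ := isConj_iff.mp hconj
  refine ⟨(MulAut.conj π).toMonoidHom.comp φ', ?_, ?_⟩
  · intro a b hab
    exact hφ' ((MulAut.conj π).injective hab)
  · intro x
    rw [Subgroup.mem_centralizer_iff]
    intro y hy
    rw [Set.mem_singleton_iff] at hy
    subst hy
    have hz : ((MulAut.conj π).toMonoidHom.comp φ') z = π * φ' z * π⁻¹ := rfl
    rw [← hπ, ← hz, ← map_mul, ← map_mul, Subgroup.mem_center_iff.mp hzc x]

end Cfsg.Agent.Helper2.Ord162
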