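import Mathlib
import Cfsg.Agent.Helper2.Ord162A

set_option autoImplicit false

namespace Cfsg.Agent.Helper2.Ord162

open Subgroup

/-- the product of three disjoint 3-cycles in `Sym(9)` -/
abbrev c9 : Equiv.Perm (Fin 9) :=
  Equiv.swap (0 : Fin 9) 1 * Equiv.swap 1 2 * Equiv.swap 3 4 * Equiv.swap 4 5 *
    Equiv.swap 6 7 * Equiv.swap 7 8

theorem c9_fpf : ∀ i, c9 i ≠ i := by decide

theorem c9_order : orderOf c9 = 3 := by
  haveI : Fact (Nat.Prime 3) := ⟨by norm_num⟩
  apply orderOf_eq_prime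
  · decide
  · decide

theorem card_centralizer_c9 : Nat.card (centralizer ({c9} : Set (Equiv.Perm (Fin 9)))) = 162 := by
  haveI : Fact (Nat.Prime 3) := ⟨by norm_num⟩
  obtain ⟨-, h⟩ := cycleType_of_fpf c9 c9_order c9_fpf
  rw [Equiv.Perm.nat_card_centralizer, h]
  decide

end Cfsg.Agent.Helper2.Ord162
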