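import Mathlib
import Cfsg.Agent.Helper2.SylowExact2
import Cfsg.Agent.Helper1.KWCondB
import Cfsg.Agent.Helper1.Coprime

set_option autoImplicit false
set_option linter.style.haveILetI false

namespace Cfsg.Agent.Helper2.Ord162

open Subgroup

theorem aux_dual {V : Type*} [AddCommGroup V] {p : ℕ} [Fact p.Prime] [Module (ZMod p) V] (v : V)
    (hv : v ≠ 0) : ∃ φ : V →+ ZMod p, φ v ≠ 0 := by
  obtain ⟨φ, hφ⟩ := Module.Projective.exists_dual_ne_zero (ZMod p) hv
  exact ⟨φ.toAddMonoidHom, hφ⟩

/-- In an abelian group of exponent `p` every nontrivial element is detected by a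
homomorphism to a group of order `p`. -/
theorem exists_hom_ne_one {A : Type*} [Group A] {p : ℕ} [hp : Fact p.Prime]
    (hcomm : ∀ a b : A, a * b = b * a) (hexp : ∀ a : A, a ^ p = 1) (z : A) (hz : z ≠ 1) :
    ∃ f : A →* Multiplicative (ZMod p), f z ≠ 1 := by
  letI : CommGroup A := { (inferInstance : Group A) with mul_comm := hcomm }
  letI inst : Module (ZMod p) (Additive A) := AddCommGroup.zmodModule (n := p) (by
    intro x
    exact hexp (Additive.toMul x))
  have hne : (Additive.ofMul z : Additive A) ≠ 0 := fun h0 => hz h0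
  obtain ⟨φ, hφ⟩ := aux_dual (p := p) (Additive.ofMul z : Additive A) hne
  refine ⟨AddMonoidHom.toMultiplicativeRight φ, ?_⟩
  intro h1
  apply hφ
  exact h1

theorem sq_eq_one_zmod3 : ∀ x : Multiplicative (ZMod 3), x * x = 1 → x = 1 := by decide

/-- A subgroup of order `9` in `J`, invariant under an involution `t`, avoiding a central
element `z` of order 3. -/
theorem exists_invariant_complement {G : Type*} [Group G] [Finite G] (J : Subgroup G)
    [hJn : J.Normal] (hJcomm : IsMulCommutative J) (hJexp : ∀ a ∈ J, a ^ 3 = 1)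
    (hJcard : Nat.card J = 27) (z t : G) (hzJ : z ∈ J) (hz1 : z ≠ 1) (hzt : t * z * t⁻¹ = z)
    (ht : t * t = 1) :
    ∃ W : Subgroup G, W ≤ J ∧ Nat.card W = 9 ∧ z ∉ W ∧ ∀ w ∈ W, t * w * t⁻¹ ∈ W := by
  haveI : Fact (Nat.Prime 3) := ⟨by norm_num⟩
  obtain ⟨f, hf⟩ := exists_hom_ne_one (A := J) (p := 3) (fun a b => mul_comm' a b)
    (fun a => Subtype.ext (by simpa using hJexp a a.2)) ⟨z, hzJ⟩
    (fun h => hz1 (congrArg Subtype.val h))
  let c : J →* J := (MulAut.conjNormal t : MulAut J).toMonoidHom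
  have hc : ∀ j : J, ((c j : J) : G) = t * j * t⁻¹ := fun j => MulAut.conjNormal_apply t j
  have hcc : ∀ j : J, c (c j) = j := by
    intro j
    apply Subtype.ext
    rw [hc, hc]
    have hti : t⁻¹ = t := inv_eq_of_mul_eq_one_left ht
    rw [hti]
    calc t * (t * (j : G) * t) * t = (t * t) * (j : G) * (t * t) := by group
      _ = (j : G) := by rw [ht, one_mul, mul_one]
  let f' : J →* Multiplicative (ZMod 3) := f * f.comp c
  have hf' : ∀ j : J, f' j = f j * f (c j) := fun j => rfl
  have hinv : ∀ j : J, f' (c j) = f' j := by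
    intro j
    rw [hf', hf', hcc, mul_comm]
  have hcz : c ⟨z, hzJ⟩ = ⟨z, hzJ⟩ := by
    apply Subtype.ext
    rw [hc]
    exact hzt
  have hfz : f' ⟨z, hzJ⟩ ≠ 1 := by
    rw [hf', hcz]
    intro h
    exact hf (sq_eq_one_zmod3 _ h)
  have hker : Nat.card f'.ker = 9 := by
    have h1 := f'.ker.card_mul_index
    rw [Subgroup.index_ker, hJcard] at h1
    have h2 : Nat.card f'.range ∣ 3 := by
      have := Subgroup.card_subgroup_dvd_card f'.range
      rwa [Nat.card_eq_fintype_card (α := Multiplicative (ZMod 3))] at this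
    have h3 : Nat.card f'.range ≠ 1 := by
      intro h
      rw [Subgroup.card_eq_one] at h
      have : f' ⟨z, hzJ⟩ ∈ f'.range := ⟨_, rfl⟩
      rw [h, Subgroup.mem_bot] at this
      exact hfz this
    have h4 : Nat.card f'.range = 3 := by
      rcases (Nat.dvd_prime (by norm_num : Nat.Prime 3)).mp h2 with h | h
      · exact absurd h h3
      · exact h
    rw [h4] at h1
    omega
  refine ⟨f'.ker.map J.subtype, ?_, ?_, ?_, ?_⟩
  · rintro _ ⟨j, -, rfl⟩
    exact j.2
  · rw [Subgroup.card_map_of_injective J.subtype_injective, hker]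
  · rintro ⟨j, hj, hjz⟩
    have : j = ⟨z, hzJ⟩ := Subtype.ext hjz
    have hj' : f' j = 1 := MonoidHom.mem_ker.mp hj
    rw [this] at hj'
    exact hfz hj'
  · rintro _ ⟨j, hj, rfl⟩
    refine ⟨c j, ?_, ?_⟩
    · have hj' : f' j = 1 := MonoidHom.mem_ker.mp hj
      exact MonoidHom.mem_ker.mpr (by rw [hinv, hj'])
    · exact hc j

end Cfsg.Agent.Helper2.Ord162
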