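import Mathlib
import Cfsg.Agent.Helper2.Ord162C

set_option autoImplicit false
set_option linter.style.haveILetI false

namespace Cfsg.Agent.Helper2.Ord162

open Subgroup

theorem exists_subgroup {G : Type*} [Group G] [Finite G] (hG : Nat.card G = 162)
    (S : Sylow 3 G) (T : Sylow 2 G) (J : Subgroup G) [hJn : J.Normal]
    (hJcomm : IsMulCommutative J)
    (hJexp : ∀ a ∈ J, a ^ 3 = 1) (hJcard : Nat.card J = 27)
    (Z : Subgroup G) (hZ : Z = (S : Subgroup G) ⊓ centralizer ((S : Subgroup G) : Set G))
    (hZcard : Nat.card Z = 3)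
    (hZT : Z ≤ centralizer ((T : Subgroup G) : Set G))
    (hST : (S : Subgroup G) ⊓ centralizer ((T : Subgroup G) : Set G) ≠ S) :
    ∃ (H : Subgroup G) (z : G), H.index = 9 ∧ H.normalCore = ⊥ ∧ z ∈ center G ∧
      orderOf z = 3 ∧ z ∉ H := by
  haveI : Fact (Nat.Prime 3) := ⟨by norm_num⟩
  haveI : Fact (Nat.Prime 2) := ⟨by norm_num⟩
  have hS : Nat.card S = 81 := by
    simpa using SylowExact.card_sylow_of_exact_pow (s := 3) (k := 4) (m := 2)
      (by rw [hG]; norm_num) (by norm_num) S
  have hT : Nat.card T = 2 := by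
    simpa using SylowExact.card_sylow_of_exact_pow (s := 2) (k := 1) (m := 81)
      (by rw [hG]; norm_num) (by norm_num) T
  have hSidx : (S : Subgroup G).index = 2 := by
    have := (S : Subgroup G).card_mul_index
    rw [hS, hG] at this
    omega
  haveI hSn : (S : Subgroup G).Normal := Subgroup.normal_of_index_eq_two hSidx
  -- S ⊔ T = ⊤
  have hSTtop : (S : Subgroup G) ⊔ T = ⊤ := by
    apply Subgroup.eq_top_of_card_eq
    have h1 : 81 ∣ Nat.card ((S : Subgroup G) ⊔ T : Subgroup G) := by
      have := Subgroup.card_dvd_of_le (le_sup_left : (S : Subgroup G) ≤ (S : Subgroup G) ⊔ T)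
      rwa [hS] at this
    have h2 : 2 ∣ Nat.card ((S : Subgroup G) ⊔ T : Subgroup G) := by
      have := Subgroup.card_dvd_of_le (le_sup_right : (T : Subgroup G) ≤ (S : Subgroup G) ⊔ T)
      rwa [hT] at this
    have h3 : Nat.card ((S : Subgroup G) ⊔ T : Subgroup G) ∣ 162 := by
      have := Subgroup.card_subgroup_dvd_card ((S : Subgroup G) ⊔ T)
      rwa [hG] at this
    have h4 := Nat.le_of_dvd (by norm_num) h3
    have hpos : 0 < Nat.card ((S : Subgroup G) ⊔ T : Subgroup G) := Nat.card_pos
    rw [hG]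
    omega
  -- generator of Z
  obtain ⟨z0, hz0⟩ := exists_prime_orderOf_dvd_card' (G := Z) 3 (by rw [hZcard])
  have hzo : orderOf (z0 : G) = 3 := by rw [Subgroup.orderOf_coe]; exact hz0
  obtain ⟨z, hzdef⟩ : ∃ z : G, z = (z0 : G) := ⟨_, rfl⟩
  rw [← hzdef] at hzo
  have hzZ : z ∈ Z := hzdef ▸ z0.2
  have hz1 : z ≠ 1 := by
    intro h
    rw [h, orderOf_one] at hzo
    omega
  have hzS : z ∈ (S : Subgroup G) := by rw [hZ] at hzZ; exact hzZ.1
  have hzCS : z ∈ centralizer ((S : Subgroup G) : Set G) := by rw [hZ] at hzZ; exact hzZ.2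
  have hzCT : z ∈ centralizer ((T : Subgroup G) : Set G) := hZT hzZ
  have hzc : z ∈ center G := by
    have h1 : (S : Subgroup G) ≤ centralizer {z} := by
      intro s hs
      rw [mem_centralizer_iff]
      intro y hy
      rw [Set.mem_singleton_iff] at hy
      subst hy
      exact (mem_centralizer_iff.mp hzCS s hs).symm
    have h2 : (T : Subgroup G) ≤ centralizer {z} := by
      intro s hs
      rw [mem_centralizer_iff]
      intro y hy
      rw [Set.mem_singleton_iff] at hy
      subst hy
      exact (mem_centralizer_iff.mp hzCT s hs).symm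
    have h3 : (⊤ : Subgroup G) ≤ centralizer {z} := hSTtop ▸ sup_le h1 h2
    rw [mem_center_iff]
    intro g
    exact (mem_centralizer_iff.mp (h3 (mem_top g)) z rfl).symm
  -- every element of Z is a power of z
  have hZpow : ∀ x ∈ Z, x ∈ zpowers z := by
    intro x hx
    have h := mem_zpowers_of_prime_card (G := Z) (p := 3) hZcard (g := ⟨z, hzZ⟩) (g' := ⟨x, hx⟩)
      (fun h => hz1 (congrArg Subtype.val h))
    obtain ⟨k, hk⟩ := h
    exact ⟨k, by simpa using congrArg Subtype.val hk⟩
  have hJS : J ≤ S := (IsPGroup.of_card (n := 3) (by rw [hJcard]; norm_num)).le_sylow_of_normal S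
  have hZS : Z ≤ S := hZ ▸ inf_le_left
  have hJab : ∀ a ∈ J, ∀ b ∈ J, a * b = b * a := by
    intro a ha b hb
    exact congrArg Subtype.val (mul_comm' (⟨a, ha⟩ : J) ⟨b, hb⟩)
  have hzJ : z ∈ J := by
    by_contra hzJ
    have hle : J ⊔ Z ≤ S := sup_le hJS hZS
    have hK : J ⊔ Z = S := by
      apply Subgroup.eq_of_le_of_card_ge hle
      have h1 : 27 ∣ Nat.card (J ⊔ Z : Subgroup G) := hJcard ▸ Subgroup.card_dvd_of_le le_sup_left
      have h2 : Nat.card (J ⊔ Z : Subgroup G) ∣ 81 := hS ▸ Subgroup.card_dvd_of_le hle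
      have h3 : Nat.card (J ⊔ Z : Subgroup G) ≠ 27 := by
        intro h
        have : J = J ⊔ Z := Subgroup.eq_of_le_of_card_ge le_sup_left (by rw [h, hJcard])
        exact hzJ (this ▸ (le_sup_right : Z ≤ J ⊔ Z) hzZ)
      obtain ⟨m, hm⟩ := h1
      rw [hm] at h2 h3 ⊢
      rw [hS]
      have hm3 : m ∣ 3 := (Nat.mul_dvd_mul_iff_left (by norm_num : 0 < 27)).mp (by simpa using h2)
      have := Nat.le_of_dvd (by norm_num) hm3
      interval_cases m
      · simp at hm3
      · simp at h3
      · simp at hm3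
      · norm_num
    have hJZ : J ≤ Z := by
      intro j hj
      rw [hZ]
      refine ⟨hJS hj, ?_⟩
      have h1 : J ≤ centralizer {j} := by
        intro a ha
        rw [mem_centralizer_iff]
        intro y hy
        rw [Set.mem_singleton_iff] at hy
        subst hy
        exact hJab y hj a ha
      have h2 : Z ≤ centralizer {j} := by
        intro a ha
        rw [mem_centralizer_iff]
        intro y hy
        rw [Set.mem_singleton_iff] at hy
        subst hy
        have haC : a ∈ centralizer ((S : Subgroup G) : Set G) := by rw [hZ] at ha; exact ha.2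
        exact mem_centralizer_iff.mp haC y (hJS hj)
      have h3 : (S : Subgroup G) ≤ centralizer {j} := hK ▸ sup_le h1 h2
      show j ∈ centralizer ((S : Subgroup G) : Set G)
      rw [mem_centralizer_iff]
      intro s hs
      exact (mem_centralizer_iff.mp (h3 hs) j rfl).symm
    have := Subgroup.card_le_of_le hJZ
    omega
  -- the involution
  obtain ⟨t0, ht0⟩ := exists_prime_orderOf_dvd_card' (G := T) 2 (by rw [hT])
  have hto : orderOf (t0 : G) = 2 := by rw [Subgroup.orderOf_coe]; exact ht0
  obtain ⟨t, htdef⟩ : ∃ t : G, t = (t0 : G) := ⟨_, rfl⟩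
  rw [← htdef] at hto
  have htT : t ∈ (T : Subgroup G) := htdef ▸ t0.2
  have ht2 : t * t = 1 := by rw [← pow_two, ← hto, pow_orderOf_eq_one]
  have hti : t⁻¹ = t := inv_eq_of_mul_eq_one_left ht2
  have hTz : (T : Subgroup G) = zpowers t := by
    symm
    apply Subgroup.eq_of_le_of_card_ge (zpowers_le.mpr htT)
    rw [Nat.card_zpowers, hto, hT]
  have hzt : t * z * t⁻¹ = z := by
    rw [mem_center_iff.mp hzc t]
    group
  obtain ⟨W, hWJ, hWcard, hzW, hWt⟩ :=
    exists_invariant_complement J hJcomm hJexp hJcard z t hzJ hz1 hzt ht2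
  have htN : t ∈ normalizer (W : Set G) := by
    rw [mem_normalizer_iff]
    intro h
    refine ⟨hWt h, fun hh => ?_⟩
    have := hWt _ hh
    rw [hti] at this
    have h2 : t * (t * h * t) * t = h := by
      calc t * (t * h * t) * t = (t * t) * h * (t * t) := by group
        _ = h := by rw [ht2, one_mul, mul_one]
    rwa [h2] at this
  have hTN : (T : Subgroup G) ≤ normalizer (W : Set G) := by
    rw [hTz]
    exact zpowers_le.mpr htN
  have hdisj : (T : Subgroup G) ⊓ W = ⊥ :=
    Subgroup.inf_eq_bot_of_coprime (H := (T : Subgroup G)) (K := W)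
      (by rw [hT, hWcard]; norm_num)
  have hHcard : Nat.card (W ⊔ T : Subgroup G) = 18 := by
    rw [Cfsg.Agent.Helper1.card_sup_of_le_normalizer hTN hdisj, hT, hWcard]
  have hzH : z ∉ W ⊔ (T : Subgroup G) := by
    intro hz
    obtain ⟨w, hw, x, hx, hzwx⟩ := Cfsg.Agent.Helper1.mem_sup_of_le_normalizer hTN hz
    have hxJ : x ∈ J := by
      have : x = w⁻¹ * z := by rw [hzwx]; group
      rw [this]
      exact J.mul_mem (J.inv_mem (hWJ hw)) hzJ
    have hx3 : x ^ 3 = 1 := hJexp x hxJ
    have hx2 : x ^ 2 = 1 := by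
      have := pow_card_eq_one' (G := T) (x := ⟨x, hx⟩)
      rw [hT] at this
      exact congrArg Subtype.val this
    have hx1 : x = 1 := by
      calc x = x ^ 3 * (x ^ 2)⁻¹ := by group
        _ = 1 := by rw [hx3, hx2]; simp
    rw [hx1, mul_one] at hzwx
    exact hzW (hzwx ▸ hw)
  refine ⟨W ⊔ T, z, ?_, ?_, hzc, hzo, hzH⟩
  · have := (W ⊔ T : Subgroup G).card_mul_index
    rw [hHcard, hG] at this
    omega
  · by_contra hne
    set N := (W ⊔ (T : Subgroup G)).normalCore with hNdef
    have hNle : N ≤ W ⊔ T := Subgroup.normalCore_le _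
    haveI hNn : N.Normal := Subgroup.normalCore_normal _
    apply hzH
    apply hNle
    by_cases hd : Disjoint N (S : Subgroup G)
    · exfalso
      -- N is a 2-group
      have hN2 : IsPGroup 2 N := by
        intro x
        refine ⟨1, ?_⟩
        have h1 : ((x : G)) ^ 2 ∈ (S : Subgroup G) := Subgroup.sq_mem_of_index_two hSidx _
        have h2 : ((x : G)) ^ 2 ∈ N := N.pow_mem x.2 2
        have h3 : ((x : G)) ^ 2 ∈ N ⊓ (S : Subgroup G) := ⟨h2, h1⟩
        rw [hd.eq_bot, Subgroup.mem_bot] at h3
        apply Subtype.ext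
        simpa using h3
      have hNT : N ≤ T := hN2.le_sylow_of_normal T
      have hNc : Nat.card N = 2 := by
        have h1 : Nat.card N ∣ 2 := hT ▸ Subgroup.card_dvd_of_le hNT
        rcases (Nat.dvd_prime (by norm_num : Nat.Prime 2)).mp h1 with h | h
        · exact absurd (Subgroup.card_eq_one.mp h) hne
        · exact h
      have hNeq : N = T := Subgroup.eq_of_le_of_card_ge hNT (by rw [hNc, hT])
      have hTn : (T : Subgroup G).Normal := hNeq ▸ hNn
      have hdisjST : Disjoint (S : Subgroup G) (T : Subgroup G) := by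
        rw [disjoint_iff]
        exact Subgroup.inf_eq_bot_of_coprime (H := (S : Subgroup G)) (K := (T : Subgroup G))
          (by rw [hS, hT]; norm_num)
      apply hST
      rw [inf_eq_left]
      intro s hs
      rw [mem_centralizer_iff]
      intro x hx
      exact (Subgroup.commute_of_normal_of_disjoint _ _ hSn hTn hdisjST s x hs hx).eq.symm
    · have hMne : N.subgroupOf (S : Subgroup G) ≠ ⊥ := by
        rw [Ne, Subgroup.subgroupOf_eq_bot]
        exact hd
      obtain ⟨b, hbM, hb1, hbc⟩ := Cfsg.Agent.Helper1.KWCond.normal_inf_center_ne_bot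
        (p := 3) S.isPGroup' (N.subgroupOf (S : Subgroup G)) hMne
      have hbN : (b : G) ∈ N := hbM
      have hbZ : (b : G) ∈ Z := by
        rw [hZ]
        refine ⟨b.2, ?_⟩
        show (b : G) ∈ centralizer ((S : Subgroup G) : Set G)
        rw [mem_centralizer_iff]
        intro s hs
        exact congrArg Subtype.val (hbc ⟨s, hs⟩)
      have hb1' : (⟨(b : G), hbZ⟩ : Z) ≠ 1 := by
        intro h
        apply hb1
        apply Subtype.ext
        have := congrArg Subtype.val h
        simpa using this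
      have h := mem_zpowers_of_prime_card (G := Z) (p := 3) hZcard (g := ⟨(b : G), hbZ⟩)
        (g' := ⟨z, hzZ⟩) hb1'
      obtain ⟨k, hk⟩ := h
      have hk' : (b : G) ^ k = z := by simpa using congrArg Subtype.val hk
      rw [← hk']
      exact N.zpow_mem hbN k

end Cfsg.Agent.Helper2.Ord162
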