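import Mathlib
import Cfsg.Agent.Helper8.Ord19Defs

set_option autoImplicit false
set_option linter.unusedVariables false

/-! S4274 (helper8's project), stub (1) `pairs` (helper2): double counting of commuting pairs of
Sylow `r`- and Sylow `s`-subgroups of prime order. -/

namespace Cfsg.Agent.Helper8.Ord19

universe u
variable {G : Type u} [Group G] [Finite G]

omit [Finite G] in
/-- conjugation preserves the commuting relation between Sylow subgroups -/
theorem h2_smul_le_centralizer {r s : ℕ} (g : G) (R : Sylow r G) (S : Sylow s G)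
    (h : (S : Subgroup G) ≤ Subgroup.centralizer ((R : Subgroup G) : Set G)) :
    ((g • S : Sylow s G) : Subgroup G) ≤
      Subgroup.centralizer (((g • R : Sylow r G) : Subgroup G) : Set G) := by
  intro x hx
  rw [Sylow.coe_subgroup_smul, Subgroup.mem_smul_pointwise_iff_exists] at hx
  obtain ⟨x', hx', rfl⟩ := hx
  rw [Subgroup.mem_centralizer_iff]
  intro z hz
  rw [SetLike.mem_coe, Sylow.coe_subgroup_smul, Subgroup.mem_smul_pointwise_iff_exists] at hz
  obtain ⟨z', hz', rfl⟩ := hz
  have hc : z' * x' = x' * z' := (Subgroup.mem_centralizer_iff.mp (h hx')) z' hz'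
  simp only [MulAut.smul_def, MulAut.conj_apply]
  calc g * z' * g⁻¹ * (g * x' * g⁻¹) = g * (z' * x') * g⁻¹ := by group
    _ = g * (x' * z') * g⁻¹ := by rw [hc]
    _ = g * x' * g⁻¹ * (g * z' * g⁻¹) := by group

omit [Finite G] in
theorem h2_card_conj {r s : ℕ} (g : G) (R : Sylow r G) :
    Nat.card {S : Sylow s G // (S : Subgroup G) ≤
      Subgroup.centralizer (((g • R : Sylow r G) : Subgroup G) : Set G)} =
    Nat.card {S : Sylow s G // (S : Subgroup G) ≤
      Subgroup.centralizer ((R : Subgroup G) : Set G)} := by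
  refine Nat.card_congr ⟨fun S => ⟨g⁻¹ • S.1, ?_⟩,
    fun S => ⟨g • S.1, h2_smul_le_centralizer g R S.1 S.2⟩, ?_, ?_⟩
  · have := h2_smul_le_centralizer g⁻¹ (g • R) S.1 S.2
    rwa [inv_smul_smul] at this
  · intro S; ext1; exact smul_inv_smul g S.1
  · intro S; ext1; exact inv_smul_smul g S.1

theorem h2_count (s : ℕ) [Fact s.Prime] (hs : (Nat.card G).factorization s = 1)
    (C : Subgroup G) :
    (¬ s ∣ Nat.card C ∧ Nat.card {S : Sylow s G // (S : Subgroup G) ≤ C} = 0) ∨
    (s ∣ Nat.card C ∧ Nat.card {S : Sylow s G // (S : Subgroup G) ≤ C} % s = 1 ∧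
      Nat.card {S : Sylow s G // (S : Subgroup G) ≤ C} ∣ Nat.card C / s) := by
  have hsp : s.Prime := Fact.out
  have hcardS : ∀ S : Sylow s G, Nat.card S = s := fun S => by
    rw [Sylow.card_eq_multiplicity, hs, pow_one]
  by_cases hdvd : s ∣ Nat.card C
  · right
    refine ⟨hdvd, ?_⟩
    have hC0 : Nat.card C ≠ 0 := Nat.card_pos.ne'
    have hfac : (Nat.card C).factorization s = 1 := by
      have h1 : 0 < (Nat.card C).factorization s := hsp.factorization_pos_of_dvd hC0 hdvd
      have h2 : (Nat.card C).factorization s ≤ (Nat.card G).factorization s :=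
        (Nat.factorization_le_iff_dvd hC0 Nat.card_pos.ne').mpr
          (Subgroup.card_subgroup_dvd_card C) s
      omega
    have hcardQ : ∀ Q : Sylow s C, Nat.card Q = s := fun Q => by
      rw [Sylow.card_eq_multiplicity, hfac, pow_one]
    have e : Nat.card {S : Sylow s G // (S : Subgroup G) ≤ C} = Nat.card (Sylow s C) := by
      refine Nat.card_congr (Equiv.ofBijective (fun S => S.1.subtype S.2) ⟨?_, ?_⟩)
      · intro S T hST
        exact Subtype.ext (Sylow.subtype_injective hST)
      · intro Q
        have hcard : Nat.card ((Q : Subgroup C).map C.subtype) =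
            s ^ (Nat.card G).factorization s := by
          rw [hs, pow_one, Subgroup.card_map_of_injective Subtype.coe_injective]
          exact hcardQ Q
        refine ⟨⟨Sylow.ofCard ((Q : Subgroup C).map C.subtype) hcard, ?_⟩, ?_⟩
        · rw [Sylow.coe_ofCard]; exact Subgroup.map_subtype_le _
        · apply Sylow.ext
          rw [Sylow.coe_subtype]
          show (((Sylow.ofCard ((Q : Subgroup C).map C.subtype) hcard : Sylow s G) :
            Subgroup G)).comap C.subtype = Q
          rw [Sylow.coe_ofCard]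
          exact Subgroup.comap_map_eq_self_of_injective Subtype.coe_injective _
    rw [e]
    constructor
    · have h1 := card_sylow_modEq_one s C
      have h2 : 1 % s = 1 := Nat.mod_eq_of_lt hsp.one_lt
      rw [Nat.ModEq, h2] at h1
      exact h1
    · have Q : Sylow s C := default
      have h1 := Sylow.card_dvd_index Q
      have h2 : (Q : Subgroup C).index = Nat.card C / s := by
        have := (Q : Subgroup C).index_mul_card
        rw [hcardQ Q] at this
        exact (Nat.div_eq_of_eq_mul_left hsp.pos this.symm).symm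
      rwa [h2] at h1
  · left
    refine ⟨hdvd, ?_⟩
    rw [Nat.card_eq_zero]
    left
    constructor
    rintro ⟨S, hS⟩
    apply hdvd
    have := Subgroup.card_dvd_of_le hS
    rwa [hcardS S] at this

theorem h2_card_filter {α : Type*} [Fintype α] (P : α → Prop) [DecidablePred P] :
    (Finset.univ.filter P).card = Nat.card {a // P a} := by
  rw [Nat.card_eq_fintype_card, Fintype.card_subtype]

theorem pairs (r s : ℕ) [Fact r.Prime] [Fact s.Prime] (hrs : r ≠ s)
    (hr : (Nat.card G).factorization r = 1) (hs : (Nat.card G).factorization s = 1) :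
    (¬ s ∣ cZ G r ∧ ¬ r ∣ cZ G s) ∨
      ∃ x y, s ∣ cZ G r ∧ r ∣ cZ G s ∧ x % s = 1 ∧ x ∣ cZ G r / s ∧ y % r = 1 ∧ y ∣ cZ G s / r ∧
        nS G r * x = nS G s * y := by
  classical
  have : Fintype (Sylow r G) := Fintype.ofFinite _
  have : Fintype (Sylow s G) := Fintype.ofFinite _
  obtain ⟨X, hXdef⟩ : ∃ X : Sylow r G → ℕ, ∀ R, X R = Nat.card {S : Sylow s G //
      (S : Subgroup G) ≤ Subgroup.centralizer ((R : Subgroup G) : Set G)} := ⟨_, fun _ => rfl⟩
  obtain ⟨Y, hYdef⟩ : ∃ Y : Sylow s G → ℕ, ∀ S, Y S = Nat.card {R : Sylow r G //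
      (R : Subgroup G) ≤ Subgroup.centralizer ((S : Subgroup G) : Set G)} := ⟨_, fun _ => rfl⟩
  have hX : ∀ R, X R = X default := by
    intro R
    obtain ⟨g, rfl⟩ := MulAction.exists_smul_eq G (default : Sylow r G) R
    rw [hXdef, hXdef]
    exact h2_card_conj g default
  have hY : ∀ S, Y S = Y default := by
    intro S
    obtain ⟨g, rfl⟩ := MulAction.exists_smul_eq G (default : Sylow s G) S
    rw [hYdef, hYdef]
    exact h2_card_conj g default
  have hdc : ∑ R : Sylow r G, X R = ∑ S : Sylow s G, Y S := by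
    have h1 : ∀ R : Sylow r G, X R = ∑ S : Sylow s G,
        if (S : Subgroup G) ≤ Subgroup.centralizer ((R : Subgroup G) : Set G) then 1 else 0 := by
      intro R
      rw [hXdef, ← Finset.card_filter, h2_card_filter]
    have h2 : ∀ S : Sylow s G, Y S = ∑ R : Sylow r G,
        if (S : Subgroup G) ≤ Subgroup.centralizer ((R : Subgroup G) : Set G) then 1 else 0 := by
      intro S
      rw [hYdef, ← Finset.card_filter, h2_card_filter]
      refine Nat.card_congr (Equiv.subtypeEquivRight fun R => ?_)
      exact Subgroup.le_centralizer_iff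
    simp_rw [h1, h2]
    exact Finset.sum_comm
  rw [Finset.sum_congr rfl (fun R _ => hX R), Finset.sum_congr rfl (fun S _ => hY S)] at hdc
  simp only [Finset.sum_const, Finset.card_univ, smul_eq_mul] at hdc
  have hnr : nS G r = Fintype.card (Sylow r G) := Nat.card_eq_fintype_card
  have hns : nS G s = Fintype.card (Sylow s G) := Nat.card_eq_fintype_card
  rw [← hnr, ← hns] at hdc
  have hnr0 : 0 < nS G r := Nat.card_pos
  have hns0 : 0 < nS G s := Nat.card_pos
  have hcr : cZ G r = Nat.card (Subgroup.centralizer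
    (((default : Sylow r G) : Subgroup G) : Set G)) := rfl
  have hcs : cZ G s = Nat.card (Subgroup.centralizer
    (((default : Sylow s G) : Subgroup G) : Set G)) := rfl
  have cX := h2_count s hs (Subgroup.centralizer (((default : Sylow r G) : Subgroup G) : Set G))
  have cY := h2_count r hr (Subgroup.centralizer (((default : Sylow s G) : Subgroup G) : Set G))
  rw [← hXdef, ← hcr] at cX
  rw [← hYdef, ← hcs] at cY
  rcases cX with ⟨hx1, hx2⟩ | ⟨hx1, hx2, hx3⟩
  · left
    refine ⟨hx1, ?_⟩
    rw [hx2, Nat.mul_zero] at hdc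
    have hy0 : Y default = 0 := by
      rcases Nat.mul_eq_zero.mp hdc.symm with h | h
      · omega
      · exact h
    rcases cY with ⟨hy1, _⟩ | ⟨_, hy2, _⟩
    · exact hy1
    · rw [hy0, Nat.zero_mod] at hy2
      exact absurd hy2 (by norm_num)
  · right
    have hx0 : X default ≠ 0 := by
      intro h0
      rw [h0, Nat.zero_mod] at hx2
      exact absurd hx2 (by norm_num)
    rcases cY with ⟨_, hy2⟩ | ⟨hy1, hy2, hy3⟩
    · rw [hy2, Nat.mul_zero] at hdc
      rcases Nat.mul_eq_zero.mp hdc with h | h
      · omega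
      · exact absurd h hx0
    · exact ⟨X default, Y default, hx1, hy1, hx2, hx3, hy2, hy3, hdc⟩

end Cfsg.Agent.Helper8.Ord19
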