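import Mathlib
import Cfsg.Agent.Helper2.SignArg

set_option autoImplicit false

/-! General lemmas on the conjugation action on Sylow subgroups of prime order, used to show
that no simple group has order `2016`. -/

namespace Cfsg.Agent.Helper2.Ord2016A

open Subgroup MulAction

variable {G : Type*} [Group G] [Finite G] {p : ℕ} [hp : Fact p.Prime]

/-- An element of `C_G(P)` of order prime to `p` which moves a Sylow subgroup `Q ≠ P` inside its
`P`-orbit fixes `Q`. -/
theorem smul_eq_self_of_commute (P Q : Sylow p G) (hP : Nat.card P = p) (hPQ : P ≠ Q) (g : G)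
    (hg : g ∈ centralizer ((P : Subgroup G) : Set G)) (hcop : (orderOf g).Coprime p) (s : G)
    (hs : s ∈ (P : Subgroup G)) (h : g • Q = s • Q) : g • Q = Q := by
  have hcomm : Commute g s := (mem_centralizer_iff.mp hg s hs).symm
  have hpow : ∀ k : ℕ, g ^ k • Q = s ^ k • Q := by
    intro k
    induction k with
    | zero => simp
    | succ k ih =>
      rw [pow_succ, mul_smul, h, ← mul_smul, (hcomm.pow_left k).eq, mul_smul, ih, ← mul_smul,
        ← pow_succ']
  have h1 := hpow (orderOf g)
  rw [pow_orderOf_eq_one, one_smul] at h1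
  have h2 : s ^ orderOf g = 1 :=
    SignArg.eq_one_of_mem_of_smul_eq P Q hP hPQ _ (pow_mem hs _) h1.symm
  have h3 : s ^ p = 1 := by
    have := pow_card_eq_one' (G := (P : Subgroup G)) (x := ⟨s, hs⟩)
    rw [hP] at this
    exact congrArg Subtype.val this
  have h4 : orderOf s ∣ Nat.gcd (orderOf g) p :=
    Nat.dvd_gcd (orderOf_dvd_of_pow_eq_one h2) (orderOf_dvd_of_pow_eq_one h3)
  rw [hcop] at h4
  have h5 : s = 1 := orderOf_eq_one_iff.mp (Nat.dvd_one.mp h4)
  rw [h, h5, one_smul]

/-- In a simple group with more than one Sylow `p`-subgroup, only the identity normalizes all of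
them. -/
theorem eq_one_of_forall_smul_eq [IsSimpleGroup G] (hn : Nat.card (Sylow p G) ≠ 1) (g : G)
    (h : ∀ Q : Sylow p G, g • Q = Q) : g = 1 := by
  have hg : g ∈ (MulAction.toPermHom G (Sylow p G)).ker := by
    rw [MonoidHom.mem_ker]
    apply Equiv.ext
    intro Q
    exact h Q
  rcases (MonoidHom.normal_ker (MulAction.toPermHom G (Sylow p G))).eq_bot_or_eq_top with h1 | h1
  · rw [h1] at hg
    exact Subgroup.mem_bot.mp hg
  · exfalso
    apply hn
    rw [Nat.card_eq_one_iff_unique]
    refine ⟨⟨fun Q₁ Q₂ => ?_⟩, ⟨default⟩⟩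
    obtain ⟨x, hx⟩ := MulAction.exists_smul_eq G Q₁ Q₂
    have hx' : x ∈ (MulAction.toPermHom G (Sylow p G)).ker := by rw [h1]; exact mem_top x
    rw [MonoidHom.mem_ker] at hx'
    have := congrArg (fun σ : Equiv.Perm (Sylow p G) => σ Q₁) hx'
    simp only [MulAction.toPermHom_apply, MulAction.toPerm_apply, Equiv.Perm.coe_one, id_eq] at this
    rw [← hx, this]

/-- The fixed points of an element of `C_G(P)` on the Sylow `p`-subgroups, as a `P`-set. -/
def fixSub (P : Sylow p G) (t : G) (ht : t ∈ centralizer ((P : Subgroup G) : Set G)) :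
    SubMulAction (P : Subgroup G) (Sylow p G) where
  carrier := {Q | t • Q = Q}
  smul_mem' := by
    intro s Q hQ
    have hcomm : (s : G) * t = t * (s : G) := mem_centralizer_iff.mp ht s s.2
    show t • (s • Q) = s • Q
    rw [Subgroup.smul_def, smul_smul, ← hcomm, ← smul_smul, show t • Q = Q from hQ]

/-- An element of `C_G(P)` fixes `1 (mod p)` Sylow `p`-subgroups. -/
theorem card_fixed_modEq [Fintype (Sylow p G)] [DecidableEq (Sylow p G)] (P : Sylow p G) (t : G)
    (ht : t ∈ centralizer ((P : Subgroup G) : Set G)) :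
    (Finset.univ.filter (fun Q : Sylow p G => t • Q = Q)).card ≡ 1 [MOD p] := by
  have h1 := P.2.card_modEq_card_fixedPoints (fixSub P t ht)
  have h2 : Nat.card (fixedPoints (P : Subgroup G) (fixSub P t ht)) = 1 := by
    rw [Nat.card_eq_one_iff_unique]
    have hPfix : t • P = P := Sylow.smul_eq_iff_mem_normalizer.mpr
      (Subgroup.centralizer_le_normalizer _ ht)
    refine ⟨⟨?_⟩, ⟨⟨⟨P, hPfix⟩, ?_⟩⟩⟩
    · rintro ⟨⟨Q₁, hQ₁⟩, h₁⟩ ⟨⟨Q₂, hQ₂⟩, h₂⟩
      have e1 : Q₁ ∈ fixedPoints (P : Subgroup G) (Sylow p G) := by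
        intro s
        exact congrArg Subtype.val (h₁ s)
      have e2 : Q₂ ∈ fixedPoints (P : Subgroup G) (Sylow p G) := by
        intro s
        exact congrArg Subtype.val (h₂ s)
      rw [P.2.sylow_mem_fixedPoints_iff] at e1 e2
      have f1 : Q₁ = P := Sylow.ext (P.3 Q₁.2 e1)
      have f2 : Q₂ = P := Sylow.ext (P.3 Q₂.2 e2)
      apply Subtype.ext
      apply Subtype.ext
      show Q₁ = Q₂
      rw [f1, f2]
    · intro s
      apply Subtype.ext
      show (s : G) • P = P
      exact Sylow.smul_eq_iff_mem_normalizer.mpr (le_normalizer s.2)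
  rw [h2] at h1
  have h3 : Nat.card (fixSub P t ht) =
      (Finset.univ.filter (fun Q : Sylow p G => t • Q = Q)).card := by
    rw [← Fintype.card_subtype]
    rw [← Nat.card_eq_fintype_card]
    rfl
  rw [← h3]
  exact h1


section Sign

variable {G : Type*} [Group G] [Finite G]

/-- In a simple group of order greater than `2`, an involution acting on a finite set moves a
multiple of `4` points. -/
theorem card_eq_fixed_add_four_mul [IsSimpleGroup G] (hG : 2 < Nat.card G) {X : Type*}
    [Fintype X] [DecidableEq X] [MulAction G X] (t : G) (ht : orderOf t = 2) :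
    ∃ k, Fintype.card X = (Finset.univ.filter (fun x : X => t • x = x)).card + 4 * k := by
  let ψ : G →* ℤˣ := Equiv.Perm.sign.comp (MulAction.toPermHom G X)
  have hker : ψ.ker = ⊤ := by
    rcases (MonoidHom.normal_ker ψ).eq_bot_or_eq_top with h | h
    · exfalso
      have hinj : Function.Injective ψ := (MonoidHom.ker_eq_bot_iff ψ).mp h
      have := Nat.card_le_card_of_injective ψ hinj
      rw [Nat.card_eq_fintype_card (α := ℤˣ), Fintype.card_units_int] at this
      omega
    · exact h
  have hψt : ψ t = 1 := by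
    have : t ∈ ψ.ker := by rw [hker]; exact Subgroup.mem_top t
    exact MonoidHom.mem_ker.mp this
  set τ : Equiv.Perm X := MulAction.toPermHom G X t with hτ
  have hτ2 : τ ^ 2 = 1 := by
    rw [hτ, ← map_pow, ← ht, pow_orderOf_eq_one, map_one]
  have hfix : Fintype.card (Function.fixedPoints τ) =
      (Finset.univ.filter (fun x : X => t • x = x)).card := by
    rw [Fintype.card_subtype]
    rfl
  haveI : Fact (Nat.Prime 2) := ⟨Nat.prime_two⟩
  have hmod := Equiv.Perm.card_compl_support_modEq (p := 2) (n := 1) (σ := τ)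
    (by rw [pow_one]; exact hτ2)
  rw [Finset.card_compl, ← Equiv.Perm.sum_cycleType, ← Equiv.Perm.card_fixedPoints, hfix] at hmod
  have hle : (Finset.univ.filter (fun x : X => t • x = x)).card ≤ Fintype.card X := by
    rw [← Finset.card_univ]
    exact Finset.card_le_card (Finset.filter_subset _ _)
  have hsign : Equiv.Perm.sign τ = 1 := hψt
  rw [Equiv.Perm.sign_of_pow_two_eq_one hτ2, hfix] at hsign
  have heven : Even ((Fintype.card X - (Finset.univ.filter (fun x : X => t • x = x)).card) / 2) := by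
    by_contra hodd
    rw [Nat.not_even_iff_odd] at hodd
    rw [hodd.neg_one_pow] at hsign
    exact absurd hsign (by decide)
  obtain ⟨m, hm⟩ := heven
  have hmod' : (Finset.univ.filter (fun x : X => t • x = x)).card % 2 = Fintype.card X % 2 := hmod
  refine ⟨m, ?_⟩
  omega

end Sign

section Orbit

variable {G : Type*} [Group G] [Finite G] {p : ℕ} [hp : Fact p.Prime]

/-- `P` is transitive on a `P`-invariant set of `p` Sylow subgroups different from `P`. -/
theorem exists_smul_eq_of_card (P : Sylow p G) (hP : Nat.card P = p) (A : Finset (Sylow p G))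
    (hPA : P ∉ A) (hA : A.card = p)
    (hinv : ∀ s ∈ (P : Subgroup G), ∀ Q ∈ A, s • Q ∈ A) (Q₁ Q₂ : Sylow p G) (h₁ : Q₁ ∈ A)
    (h₂ : Q₂ ∈ A) : ∃ s ∈ (P : Subgroup G), s • Q₁ = Q₂ := by
  let φ : ↥(P : Subgroup G) → {Q // Q ∈ A} := fun s => ⟨(s : G) • Q₁, hinv s s.2 Q₁ h₁⟩
  have hinj : Function.Injective φ := by
    intro s s' h
    have h1 : (s : G) • Q₁ = (s' : G) • Q₁ := congrArg Subtype.val h
    have h2 : ((s' : G)⁻¹ * (s : G)) • Q₁ = Q₁ := by
      rw [mul_smul, h1, inv_smul_smul]
    have hne : P ≠ Q₁ := by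
      rintro rfl
      exact hPA h₁
    have h3 := SignArg.eq_one_of_mem_of_smul_eq P Q₁ hP hne _
      ((P : Subgroup G).mul_mem ((P : Subgroup G).inv_mem s'.2) s.2) h2
    apply Subtype.ext
    rw [inv_mul_eq_one] at h3
    exact h3.symm
  have hcard : Nat.card {Q // Q ∈ A} ≤ Nat.card (P : Subgroup G) := by
    rw [hP, Nat.card_eq_fintype_card, Fintype.card_coe, hA]
  have hbij := hinj.bijective_of_nat_card_le hcard
  obtain ⟨s, hs⟩ := hbij.2 ⟨Q₂, h₂⟩
  exact ⟨s, s.2, congrArg Subtype.val hs⟩

end Orbit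


section Cent

variable {G : Type*} [Group G] [Finite G] {p : ℕ} [hp : Fact p.Prime]

/-- If `|C_G(P)| = 4p` with `|P| = p`, then fourth powers and commutators of elements of `C_G(P)`
lie in `P`. -/
theorem quot_facts (P : Sylow p G) (hP : Nat.card P = p)
    (hC : Nat.card (centralizer ((P : Subgroup G) : Set G)) = 4 * p) :
    (∀ c ∈ centralizer ((P : Subgroup G) : Set G), c ^ 4 ∈ (P : Subgroup G)) ∧
    (∀ t ∈ centralizer ((P : Subgroup G) : Set G), ∀ u ∈ centralizer ((P : Subgroup G) : Set G),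
      (t * u)⁻¹ * (u * t) ∈ (P : Subgroup G)) := by
  have hfp : Fact (Nat.card (P : Subgroup G)).Prime := by rw [hP]; exact hp
  haveI : IsCyclic (P : Subgroup G) := isCyclic_of_prime_card rfl
  have hPC : (P : Subgroup G) ≤ centralizer ((P : Subgroup G) : Set G) :=
    Subgroup.le_centralizer (P : Subgroup G)
  haveI hnorm : ((P : Subgroup G).subgroupOf (centralizer ((P : Subgroup G) : Set G))).Normal := by
    constructor
    intro n hn g
    rw [mem_subgroupOf] at hn ⊢
    have hcomm := mem_centralizer_iff.mp g.2 (n : G) hn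
    have : ((g * n * g⁻¹ : centralizer ((P : Subgroup G) : Set G)) : G) = (n : G) := by
      rw [Subgroup.coe_mul, Subgroup.coe_mul, Subgroup.coe_inv, ← hcomm, mul_inv_cancel_right]
    rw [this]
    exact hn
  have hcardP' :
      Nat.card ((P : Subgroup G).subgroupOf (centralizer ((P : Subgroup G) : Set G))) = p := by
    rw [Nat.card_congr (Subgroup.subgroupOfEquivOfLe hPC).toEquiv, hP]
  have hidx :
      ((P : Subgroup G).subgroupOf (centralizer ((P : Subgroup G) : Set G))).index = 4 := by
    have := ((P : Subgroup G).subgroupOf (centralizer ((P : Subgroup G) : Set G))).card_mul_index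
    rw [hcardP', hC, mul_comm 4 p] at this
    exact Nat.eq_of_mul_eq_mul_left hp.out.pos this
  have hcardQ : Nat.card (↥(centralizer ((P : Subgroup G) : Set G)) ⧸
      (P : Subgroup G).subgroupOf (centralizer ((P : Subgroup G) : Set G))) = 2 ^ 2 := hidx
  constructor
  · intro c hc
    have h1 := pow_card_eq_one' (G := ↥(centralizer ((P : Subgroup G) : Set G)) ⧸
      (P : Subgroup G).subgroupOf (centralizer ((P : Subgroup G) : Set G)))
      (x := ((⟨c, hc⟩ : centralizer ((P : Subgroup G) : Set G)) : _ ⧸ _))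
    rw [hcardQ, ← QuotientGroup.mk_pow, QuotientGroup.eq_one_iff, mem_subgroupOf] at h1
    exact h1
  · intro t ht u hu
    haveI : Fact (Nat.Prime 2) := ⟨Nat.prime_two⟩
    have h1 := IsPGroup.commutative_of_card_eq_prime_sq hcardQ
      ((⟨t, ht⟩ : centralizer ((P : Subgroup G) : Set G)) : _ ⧸ _)
      ((⟨u, hu⟩ : centralizer ((P : Subgroup G) : Set G)) : _ ⧸ _)
    rw [← QuotientGroup.mk_mul, ← QuotientGroup.mk_mul, QuotientGroup.eq, mem_subgroupOf] at h1
    exact h1

/-- If `|C_G(P)| = 4p` with `|P| = p` odd, an involution of `C_G(P)` is central in `C_G(P)`. -/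
theorem commute_of_invol (P : Sylow p G) (hP : Nat.card P = p) (hp2 : p ≠ 2)
    (hC : Nat.card (centralizer ((P : Subgroup G) : Set G)) = 4 * p) (t u : G)
    (ht : t ∈ centralizer ((P : Subgroup G) : Set G))
    (hu : u ∈ centralizer ((P : Subgroup G) : Set G)) (ht2 : t * t = 1) : t * u = u * t := by
  have hs := (quot_facts P hP hC).2 t ht u hu
  obtain ⟨s, hsdef⟩ : ∃ s, s = (t * u)⁻¹ * (u * t) := ⟨_, rfl⟩
  rw [← hsdef] at hs
  have hcomm : s * t = t * s := mem_centralizer_iff.mp ht s hs
  have e1 : s * (t * s * t⁻¹) = u⁻¹ * t⁻¹ * u * (t * t) * u⁻¹ * (t * t)⁻¹ * t * u := by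
    rw [hsdef]; group
  rw [ht2] at e1
  have e2 : u⁻¹ * t⁻¹ * u * 1 * u⁻¹ * 1⁻¹ * t * u = 1 := by group
  rw [e2, ← hcomm, mul_inv_cancel_right] at e1
  have h3 : s ^ p = 1 := by
    have := pow_card_eq_one' (G := (P : Subgroup G)) (x := ⟨s, hs⟩)
    rw [hP] at this
    exact congrArg Subtype.val this
  have h4 : orderOf s ∣ Nat.gcd 2 p :=
    Nat.dvd_gcd (orderOf_dvd_of_pow_eq_one (by rw [pow_two]; exact e1))
      (orderOf_dvd_of_pow_eq_one h3)
  have hcop : Nat.Coprime 2 p :=
    (Nat.coprime_primes Nat.prime_two hp.out).mpr (Ne.symm hp2)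
  rw [hcop] at h4
  have h5 : s = 1 := orderOf_eq_one_iff.mp (Nat.dvd_one.mp h4)
  rw [h5] at hsdef
  have := hsdef.symm
  rw [inv_mul_eq_one] at this
  exact this

end Cent

end Cfsg.Agent.Helper2.Ord2016A
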