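import Mathlib

set_option autoImplicit false

/-! A transitive permutation group of degree `36` has no point stabilizer with orbits of sizes
`1, 7, 28`: the orbital graph of valency `7` would be strongly regular with parameters
`(36, 7, 6, 0)` or `(36, 7, 2, 1)`, and both have non-integral eigenvalue multiplicities. -/

namespace Cfsg.Agent.Helper2.Ord2016C

open Matrix

/-- If `E * E = c • E` for a rational matrix `E` with `c ≠ 0`, then `trace E` is a natural
multiple of `c`. -/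
theorem trace_of_mul_self_eq_smul {X : Type*} [Fintype X] [DecidableEq X] (E : Matrix X X ℚ)
    (c : ℚ) (hc : c ≠ 0) (h : E * E = c • E) : ∃ n : ℕ, E.trace = c * n := by
  set Q : Matrix X X ℚ := c⁻¹ • E with hQdef
  have hQ : Q * Q = Q := by
    rw [hQdef, smul_mul_assoc, mul_smul_comm, h, smul_smul, smul_smul]
    congr 1
    field_simp
  have hf : IsIdempotentElem (Matrix.toLin' Q) := by
    unfold IsIdempotentElem
    rw [Module.End.mul_eq_comp, ← Matrix.toLin'_mul, hQ]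
  have htr := LinearMap.IsProj.trace (LinearMap.IsIdempotentElem.isProj_range _ hf)
  rw [Matrix.trace_toLin'_eq] at htr
  refine ⟨Module.finrank ℚ (LinearMap.range (Matrix.toLin' Q)), ?_⟩
  rw [← htr, hQdef, Matrix.trace_smul, smul_eq_mul, ← mul_assoc, mul_inv_cancel₀ hc, one_mul]


section Graph

variable {G X : Type*} [Group G] [MulAction G X] [Fintype X] [DecidableEq X]

/-- The orbital graph: `y` is adjacent to `x` when `(r x)⁻¹ • y ∈ A`. -/
def Adj (A : Finset X) (r : X → G) (x y : X) : Prop := (r x)⁻¹ • y ∈ A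

instance (A : Finset X) (r : X → G) (x y : X) : Decidable (Adj A r x y) := by
  unfold Adj; infer_instance

variable (x₀ : X) (A : Finset X) (r : X → G)

theorem adj_iff (hr : ∀ x, r x • x₀ = x)
    (hinv : ∀ g : G, g • x₀ = x₀ → ∀ a ∈ A, g • a ∈ A) {x y : X} (g : G) (hg : g • x₀ = x) :
    Adj A r x y ↔ g⁻¹ • y ∈ A := by
  unfold Adj
  have h1 : ((r x)⁻¹ * g) • x₀ = x₀ := by rw [mul_smul, hg, inv_smul_eq_iff, hr]
  have h2 : (g⁻¹ * r x) • x₀ = x₀ := by rw [mul_smul, hr, inv_smul_eq_iff, hg]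
  constructor
  · intro h
    have := hinv _ h2 _ h
    rwa [mul_smul, smul_inv_smul] at this
  · intro h
    have := hinv _ h1 _ h
    rwa [mul_smul, smul_inv_smul] at this

theorem adj_smul (hr : ∀ x, r x • x₀ = x)
    (hinv : ∀ g : G, g • x₀ = x₀ → ∀ a ∈ A, g • a ∈ A) (h : G) (x y : X) :
    Adj A r (h • x) (h • y) ↔ Adj A r x y := by
  rw [adj_iff x₀ A r hr hinv (h * r x) (by rw [mul_smul, hr])]
  unfold Adj
  rw [_root_.mul_inv_rev, mul_smul, inv_smul_smul]

theorem not_adj_self (hr : ∀ x, r x • x₀ = x) (hx₀ : x₀ ∉ A) (x : X) : ¬ Adj A r x x := by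
  unfold Adj
  have : (r x)⁻¹ • x = x₀ := by rw [inv_smul_eq_iff, hr]
  rw [this]
  exact hx₀

theorem card_out (x : X) :
    (Finset.univ.filter (fun y => Adj A r x y)).card = A.card := by
  have : Finset.univ.filter (fun y => Adj A r x y) = A.image (fun a => r x • a) := by
    ext y
    simp only [Finset.mem_filter, Finset.mem_univ, true_and, Finset.mem_image]
    unfold Adj
    constructor
    · intro h
      exact ⟨_, h, smul_inv_smul _ _⟩
    · rintro ⟨a, ha, rfl⟩
      rwa [inv_smul_smul]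
  rw [this, Finset.card_image_of_injective _ (MulAction.injective (r x))]

theorem card_in_eq (hr : ∀ x, r x • x₀ = x)
    (hinv : ∀ g : G, g • x₀ = x₀ → ∀ a ∈ A, g • a ∈ A) (y : X) :
    (Finset.univ.filter (fun x => Adj A r x y)).card =
      (Finset.univ.filter (fun x => Adj A r x x₀)).card := by
  apply Finset.card_equiv (MulAction.toPerm (r y)⁻¹)
  intro x
  simp only [Finset.mem_filter, Finset.mem_univ, true_and, MulAction.toPerm_apply]
  have h1 : (r y)⁻¹ • y = x₀ := by rw [inv_smul_eq_iff, hr]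
  rw [← adj_smul x₀ A r hr hinv (r y)⁻¹ x y, h1]

theorem card_in (hr : ∀ x, r x • x₀ = x)
    (hinv : ∀ g : G, g • x₀ = x₀ → ∀ a ∈ A, g • a ∈ A) (hX : 0 < Fintype.card X) (y : X) :
    (Finset.univ.filter (fun x => Adj A r x y)).card = A.card := by
  have h1 : ∑ y : X, (Finset.univ.filter (fun x => Adj A r x y)).card =
      ∑ x : X, (Finset.univ.filter (fun y => Adj A r x y)).card := by
    simp only [Finset.card_filter]
    exact Finset.sum_comm
  simp only [card_out, card_in_eq x₀ A r hr hinv, Finset.sum_const, Finset.card_univ,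
    smul_eq_mul] at h1
  rw [card_in_eq x₀ A r hr hinv]
  exact Nat.eq_of_mul_eq_mul_left hX h1

end Graph


section Graph2

variable {G X : Type*} [Group G] [MulAction G X] [Fintype X] [DecidableEq X]
  (x₀ : X) (A : Finset X) (r : X → G)

/-- The in-neighbourhood of the base point is `A`. -/
theorem in_eq (hr : ∀ x, r x • x₀ = x)
    (hinv : ∀ g : G, g • x₀ = x₀ → ∀ a ∈ A, g • a ∈ A) (hx₀ : x₀ ∉ A)
    (hX : Fintype.card X = 36) (hA : A.card = 7)
    (htrB : ∀ a, a ∉ A → a ≠ x₀ → ∀ b, b ∉ A → b ≠ x₀ → ∃ g : G, g • x₀ = x₀ ∧ g • a = b) :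
    Finset.univ.filter (fun x => Adj A r x x₀) = A := by
  have hc : (Finset.univ.filter (fun x => Adj A r x x₀)).card = 7 := by
    rw [card_in x₀ A r hr hinv (by omega), hA]
  apply Finset.eq_of_subset_of_card_le
  · intro x hx
    rw [Finset.mem_filter] at hx
    by_contra hxA
    have hxx : x ≠ x₀ := by
      rintro rfl
      exact not_adj_self x A r hr hx₀ x hx.2
    have hsub : (insert x₀ A)ᶜ ⊆ Finset.univ.filter (fun x => Adj A r x x₀) := by
      intro b hb
      rw [Finset.mem_compl, Finset.mem_insert, not_or] at hb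
      obtain ⟨g, hg0, hg⟩ := htrB x hxA hxx b hb.2 hb.1
      rw [Finset.mem_filter]
      refine ⟨Finset.mem_univ _, ?_⟩
      rw [← hg]
      have h2 := (adj_smul x₀ A r hr hinv g x x₀).mpr hx.2
      rwa [hg0] at h2
    have h1 := Finset.card_le_card hsub
    rw [Finset.card_compl, hX, Finset.card_insert_of_notMem hx₀, hA, hc] at h1
    omega
  · rw [hc, hA]

/-- The orbital graph is undirected. -/
theorem adj_symm (hr : ∀ x, r x • x₀ = x)
    (hinv : ∀ g : G, g • x₀ = x₀ → ∀ a ∈ A, g • a ∈ A) (hx₀ : x₀ ∉ A)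
    (hX : Fintype.card X = 36) (hA : A.card = 7)
    (htrB : ∀ a, a ∉ A → a ≠ x₀ → ∀ b, b ∉ A → b ≠ x₀ → ∃ g : G, g • x₀ = x₀ ∧ g • a = b)
    (x y : X) : Adj A r x y ↔ Adj A r y x := by
  have h1 : Adj A r x y ↔ (r x)⁻¹ • y ∈ Finset.univ.filter (fun x => Adj A r x x₀) := by
    rw [in_eq x₀ A r hr hinv hx₀ hX hA htrB]
    rfl
  rw [h1, Finset.mem_filter, ← adj_smul x₀ A r hr hinv (r x), smul_inv_smul, hr]
  simp

/-- Number of common neighbours. -/
def cn (A : Finset X) (r : X → G) (x y : X) : ℕ :=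
  (Finset.univ.filter (fun z => Adj A r x z ∧ Adj A r z y)).card

theorem cn_smul (hr : ∀ x, r x • x₀ = x)
    (hinv : ∀ g : G, g • x₀ = x₀ → ∀ a ∈ A, g • a ∈ A) (h : G) (x y : X) :
    cn A r (h • x) (h • y) = cn A r x y := by
  unfold cn
  symm
  apply Finset.card_equiv (MulAction.toPerm h)
  intro z
  simp only [Finset.mem_filter, Finset.mem_univ, true_and, MulAction.toPerm_apply]
  rw [adj_smul x₀ A r hr hinv, adj_smul x₀ A r hr hinv]

theorem cn_self (hr : ∀ x, r x • x₀ = x)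
    (hinv : ∀ g : G, g • x₀ = x₀ → ∀ a ∈ A, g • a ∈ A) (hx₀ : x₀ ∉ A)
    (hX : Fintype.card X = 36) (hA : A.card = 7)
    (htrB : ∀ a, a ∉ A → a ≠ x₀ → ∀ b, b ∉ A → b ≠ x₀ → ∃ g : G, g • x₀ = x₀ ∧ g • a = b)
    (x : X) : cn A r x x = 7 := by
  unfold cn
  rw [← hA, ← card_out A r x]
  congr 1
  ext z
  simp only [Finset.mem_filter, Finset.mem_univ, true_and]
  rw [adj_symm x₀ A r hr hinv hx₀ hX hA htrB z x]
  simp

theorem cn_adj (hr : ∀ x, r x • x₀ = x)
    (hinv : ∀ g : G, g • x₀ = x₀ → ∀ a ∈ A, g • a ∈ A)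
    (htrA : ∀ a ∈ A, ∀ b ∈ A, ∃ g : G, g • x₀ = x₀ ∧ g • a = b)
    (a₀ : X) (ha₀ : a₀ ∈ A) (x y : X) (hxy : Adj A r x y) : cn A r x y = cn A r x₀ a₀ := by
  obtain ⟨g, hg0, hg⟩ := htrA a₀ ha₀ _ hxy
  have h1 : cn A r x y = cn A r ((r x) • x₀) ((r x) • ((r x)⁻¹ • y)) := by
    rw [hr, smul_inv_smul]
  rw [h1, cn_smul x₀ A r hr hinv, ← hg]
  have h2 := cn_smul x₀ A r hr hinv g x₀ a₀
  rwa [hg0] at h2

theorem cn_nonadj (hr : ∀ x, r x • x₀ = x)
    (hinv : ∀ g : G, g • x₀ = x₀ → ∀ a ∈ A, g • a ∈ A)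
    (htrB : ∀ a, a ∉ A → a ≠ x₀ → ∀ b, b ∉ A → b ≠ x₀ → ∃ g : G, g • x₀ = x₀ ∧ g • a = b)
    (b₀ : X) (hb₀ : b₀ ∉ A) (hb₀' : b₀ ≠ x₀) (x y : X) (hxy : ¬ Adj A r x y) (hne : x ≠ y) :
    cn A r x y = cn A r x₀ b₀ := by
  have hy : (r x)⁻¹ • y ≠ x₀ := by
    intro h
    apply hne
    rw [inv_smul_eq_iff, hr] at h
    exact h.symm
  obtain ⟨g, hg0, hg⟩ := htrB b₀ hb₀ hb₀' _ hxy hy
  have h1 : cn A r x y = cn A r ((r x) • x₀) ((r x) • ((r x)⁻¹ • y)) := by
    rw [hr, smul_inv_smul]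
  rw [h1, cn_smul x₀ A r hr hinv, ← hg]
  have h2 := cn_smul x₀ A r hr hinv g x₀ b₀
  rwa [hg0] at h2

end Graph2


section Final

variable {G X : Type*} [Group G] [MulAction G X] [Fintype X] [DecidableEq X]

/-- A transitive group of degree `36` has no point stabilizer with orbits of sizes `1, 7, 28`. -/
theorem no_rank_three [MulAction.IsPretransitive G X] (hX : Fintype.card X = 36) (x₀ : X)
    (A : Finset X) (hx₀ : x₀ ∉ A) (hA : A.card = 7)
    (hinv : ∀ g : G, g • x₀ = x₀ → ∀ a ∈ A, g • a ∈ A)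
    (htrA : ∀ a ∈ A, ∀ b ∈ A, ∃ g : G, g • x₀ = x₀ ∧ g • a = b)
    (htrB : ∀ a, a ∉ A → a ≠ x₀ → ∀ b, b ∉ A → b ≠ x₀ → ∃ g : G, g • x₀ = x₀ ∧ g • a = b) :
    False := by
  have hex : ∀ x : X, ∃ g : G, g • x₀ = x := fun x => MulAction.exists_smul_eq G x₀ x
  choose r hr using hex
  obtain ⟨a₀, ha₀⟩ : A.Nonempty := by rw [← Finset.card_pos]; omega
  obtain ⟨b₀, hb₀⟩ : ((insert x₀ A)ᶜ).Nonempty := by
    rw [← Finset.card_pos, Finset.card_compl, hX, Finset.card_insert_of_notMem hx₀, hA]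
    norm_num
  rw [Finset.mem_compl, Finset.mem_insert, not_or] at hb₀
  obtain ⟨lam, hlam⟩ : ∃ l, l = cn A r x₀ a₀ := ⟨_, rfl⟩
  obtain ⟨mu, hmu⟩ : ∃ l, l = cn A r x₀ b₀ := ⟨_, rfl⟩
  let M : Matrix X X ℚ := Matrix.of fun x y => if Adj A r x y then 1 else 0
  let J : Matrix X X ℚ := Matrix.of fun _ _ => 1
  have hMM : M * M = (7:ℚ) • (1 : Matrix X X ℚ) + (lam:ℚ) • M + (mu:ℚ) • (J - 1 - M) := by
    ext x y
    simp only [Matrix.mul_apply, M, J, Matrix.of_apply, Matrix.add_apply, Matrix.smul_apply,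
      Matrix.sub_apply, Matrix.one_apply, smul_eq_mul]
    have h1 : ∑ z, (if Adj A r x z then (1:ℚ) else 0) * (if Adj A r z y then 1 else 0) =
        (cn A r x y : ℚ) := by
      unfold cn
      rw [Finset.card_filter]
      push_cast
      apply Finset.sum_congr rfl
      intro z _
      by_cases h1 : Adj A r x z <;> by_cases h2 : Adj A r z y <;> simp [h1, h2]
    rw [h1]
    by_cases hxy : x = y
    · subst hxy
      rw [cn_self x₀ A r hr hinv hx₀ hX hA htrB, if_neg (not_adj_self x₀ A r hr hx₀ x)]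
      simp
    · by_cases hadj : Adj A r x y
      · rw [cn_adj x₀ A r hr hinv htrA a₀ ha₀ x y hadj, if_pos hadj, if_neg hxy, ← hlam]
        simp
      · rw [cn_nonadj x₀ A r hr hinv htrB b₀ hb₀.2 hb₀.1 x y hadj hxy, if_neg hadj, if_neg hxy,
          ← hmu]
        simp
  have hMJ : M * J = (7:ℚ) • J := by
    ext x y
    simp only [Matrix.mul_apply, M, J, Matrix.of_apply, Matrix.smul_apply, smul_eq_mul, mul_one]
    rw [← Finset.natCast_card_filter, card_out, hA]
    norm_num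
  have hJM : J * M = (7:ℚ) • J := by
    ext x y
    simp only [Matrix.mul_apply, M, J, Matrix.of_apply, Matrix.smul_apply, smul_eq_mul, mul_one,
      one_mul]
    rw [← Finset.natCast_card_filter, card_in x₀ A r hr hinv (by omega), hA]
    norm_num
  have hJJ : J * J = (36:ℚ) • J := by
    ext x y
    simp only [Matrix.mul_apply, J, Matrix.of_apply, Matrix.smul_apply, smul_eq_mul, mul_one,
      Finset.sum_const, Finset.card_univ, hX]
    norm_num
  have htrM : M.trace = 0 := by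
    simp only [Matrix.trace, Matrix.diag_apply, M, Matrix.of_apply]
    apply Finset.sum_eq_zero
    intro x _
    rw [if_neg (not_adj_self x₀ A r hr hx₀ x)]
  have htrJ : J.trace = 36 := by
    simp only [Matrix.trace, Matrix.diag_apply, J, Matrix.of_apply, Finset.sum_const,
      Finset.card_univ, hX]
    norm_num
  have htr1 : (1 : Matrix X X ℚ).trace = 36 := by
    rw [Matrix.trace_one, hX]
    norm_num
  have h49 : M * M * J = (49:ℚ) • J := by
    rw [Matrix.mul_assoc, hMJ, Matrix.mul_smul, hMJ, smul_smul]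
    norm_num
  have h49' : M * M * J = ((7:ℚ) + 7 * lam + 28 * mu) • J := by
    rw [hMM]
    simp only [add_mul, sub_mul, smul_mul_assoc, one_mul, hMJ, hJJ]
    module
  have key := congrFun (congrFun (h49.symm.trans h49') x₀) x₀
  simp only [J, Matrix.smul_apply, Matrix.of_apply, smul_eq_mul, mul_one] at key
  have hlm : lam + 4 * mu = 6 := by
    have : (lam:ℚ) + 4 * mu = 6 := by linarith
    exact_mod_cast this
  obtain ⟨h1, h2⟩ | ⟨h1, h2⟩ : (lam = 6 ∧ mu = 0) ∨ (lam = 2 ∧ mu = 1) := by omega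
  · rw [h1, h2] at hMM
    push_cast at hMM
    have hE : (M + 1) * (M + 1) = (8:ℚ) • (M + 1) := by
      simp only [add_mul, mul_add, one_mul, mul_one, hMM]
      module
    obtain ⟨n, hn⟩ := trace_of_mul_self_eq_smul (M + 1) 8 (by norm_num) hE
    rw [Matrix.trace_add, htrM, htr1] at hn
    have : (36:ℕ) = 8 * n := by
      have : ((36:ℕ):ℚ) = ((8 * n : ℕ) : ℚ) := by push_cast; linarith
      exact_mod_cast this
    omega
  · rw [h1, h2] at hMM
    push_cast at hMM
    have hE : ((8:ℚ) • (1 : Matrix X X ℚ) + (4:ℚ) • M - J) *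
        ((8:ℚ) • (1 : Matrix X X ℚ) + (4:ℚ) • M - J) =
        (20:ℚ) • ((8:ℚ) • (1 : Matrix X X ℚ) + (4:ℚ) • M - J) := by
      simp only [add_mul, mul_add, sub_mul, mul_sub, smul_mul_assoc, mul_smul_comm, one_mul,
        mul_one, hMM, hMJ, hJM, hJJ]
      module
    obtain ⟨n, hn⟩ := trace_of_mul_self_eq_smul _ 20 (by norm_num) hE
    rw [Matrix.trace_sub, Matrix.trace_add, Matrix.trace_smul, Matrix.trace_smul, htrM, htr1,
      htrJ] at hn
    have : (252:ℕ) = 20 * n := by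
      have : ((252:ℕ):ℚ) = ((20 * n : ℕ) : ℚ) := by
        push_cast
        simp only [smul_eq_mul] at hn
        linarith
      exact_mod_cast this
    omega

end Final

end Cfsg.Agent.Helper2.Ord2016C
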