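import Mathlib
import Cfsg.Agent.Helper2.Ord2016A
import Cfsg.Agent.Helper2.Ord2016C

set_option autoImplicit false

/-! A simple group of order `2016` does not have `36` Sylow `7`-subgroups. -/

namespace Cfsg.Agent.Helper2.Ord2016B

open Subgroup MulAction

variable {G : Type*} [Group G] [Finite G] [IsSimpleGroup G] [hp : Fact (Nat.Prime 7)]

/-- An involution of `C_G(P)` fixes exactly eight Sylow `7`-subgroups. -/
theorem card_fixed_eq_eight [Fintype (Sylow 7 G)] [DecidableEq (Sylow 7 G)]
    (hG : Nat.card G = 2016) (P : Sylow 7 G) (hn : Nat.card (Sylow 7 G) = 36) (t : G)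
    (ht : t ∈ centralizer ((P : Subgroup G) : Set G)) (ht2 : orderOf t = 2) :
    (Finset.univ.filter (fun Q : Sylow 7 G => t • Q = Q)).card = 8 := by
  have h1 := Ord2016A.card_fixed_modEq P t ht
  obtain ⟨k, hk⟩ := Ord2016A.card_eq_fixed_add_four_mul (G := G) (by omega) (X := Sylow 7 G) t ht2
  rw [← Nat.card_eq_fintype_card, hn] at hk
  have hne : (Finset.univ.filter (fun Q : Sylow 7 G => t • Q = Q)).card ≠ 36 := by
    intro h36
    have huniv : Finset.univ.filter (fun Q : Sylow 7 G => t • Q = Q) = Finset.univ := by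
      apply Finset.eq_univ_of_card
      rw [h36, ← Nat.card_eq_fintype_card, hn]
    have hall : ∀ Q : Sylow 7 G, t • Q = Q := by
      intro Q
      have : Q ∈ Finset.univ.filter (fun Q : Sylow 7 G => t • Q = Q) := by
        rw [huniv]; exact Finset.mem_univ Q
      exact (Finset.mem_filter.mp this).2
    have h1t := Ord2016A.eq_one_of_forall_smul_eq (p := 7) (by rw [hn]; norm_num) t hall
    rw [h1t, orderOf_one] at ht2
    omega
  unfold Nat.ModEq at h1
  omega


/-- `|C_G(P)|` when `|N_G(P) : C_G(P)| = k`. -/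
theorem card_centralizer_mul (P : Sylow 7 G) :
    Nat.card (centralizer ((P : Subgroup G) : Set G)) *
      (centralizer ((P : Subgroup G) : Set G)).relIndex (normalizer ((P : Subgroup G) : Set G)) =
      Nat.card (normalizer ((P : Subgroup G) : Set G)) := by
  have h := ((centralizer ((P : Subgroup G) : Set G)).subgroupOf
    (normalizer ((P : Subgroup G) : Set G))).card_mul_index
  rw [Nat.card_congr (Subgroup.subgroupOfEquivOfLe
    (centralizer_le_normalizer ((P : Subgroup G) : Set G))).toEquiv] at h
  exact h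

/-- A simple group of order `2016` does not have `36` Sylow `7`-subgroups. -/
theorem false_of_card_sylow_36 (hG : Nat.card G = 2016) (P : Sylow 7 G) (hP : Nat.card P = 7)
    (hn : Nat.card (Sylow 7 G) = 36) : False := by
  classical
  have : Fintype (Sylow 7 G) := Fintype.ofFinite _
  have hN : Nat.card (normalizer ((P : Subgroup G) : Set G)) = 56 := by
    have := SmallOrder.card_normalizer_mul_card_sylow P
    rw [hn, hG] at this
    omega
  have hfp : Fact (Nat.card (P : Subgroup G)).Prime := by rw [hP]; exact hp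
  have hPc : IsCyclic (P : Subgroup G) := isCyclic_of_prime_card rfl
  have hr1 := SmallOrder.relIndex_centralizer_normalizer_dvd (P : Subgroup G) hPc
  rw [hP, Nat.totient_prime hp.out] at hr1
  have hr2 := card_centralizer_mul P
  rw [hN] at hr2
  -- the centralizer has order 28
  have hC : Nat.card (centralizer ((P : Subgroup G) : Set G)) = 4 * 7 := by
    have hr3 : (centralizer ((P : Subgroup G) : Set G)).relIndex
        (normalizer ((P : Subgroup G) : Set G)) ∣ 56 := ⟨_, by rw [← hr2, mul_comm]⟩
    have hr4 : (centralizer ((P : Subgroup G) : Set G)).relIndex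
        (normalizer ((P : Subgroup G) : Set G)) ∣ 2 := by
      have := Nat.dvd_gcd hr1 hr3
      norm_num at this
      exact this
    have hr5 : (centralizer ((P : Subgroup G) : Set G)).relIndex
        (normalizer ((P : Subgroup G) : Set G)) = 1 ∨ (centralizer ((P : Subgroup G) : Set G)).relIndex
        (normalizer ((P : Subgroup G) : Set G)) = 2 := by
      have := Nat.le_of_dvd (by norm_num) hr4
      have h0 : (centralizer ((P : Subgroup G) : Set G)).relIndex
        (normalizer ((P : Subgroup G) : Set G)) ≠ 0 := by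
        intro h0
        rw [h0] at hr4
        omega
      omega
    rcases hr5 with h1 | h2
    · exfalso
      have hle : normalizer ((P : Subgroup G) : Set G) ≤ centralizer ((P : Subgroup G) : Set G) :=
        Subgroup.relIndex_eq_one.mp h1
      have hcomp := MonoidHom.ker_transferSylow_isComplement' P hle
      haveI : (MonoidHom.transferSylow P hle).ker.Normal := MonoidHom.normal_ker _
      apply SmallOrder.false_of_normal_index (MonoidHom.transferSylow P hle).ker
      · rw [hcomp.symm.index_eq_card, hP]; norm_num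
      · rw [hcomp.symm.index_eq_card, hP, hG]; norm_num
    · rw [h2] at hr2
      omega
  -- an involution in the centralizer
  haveI : Fact (Nat.Prime 2) := ⟨Nat.prime_two⟩
  obtain ⟨⟨t₀, ht₀C⟩, ht₀⟩ := exists_prime_orderOf_dvd_card' (G := centralizer ((P : Subgroup G) : Set G)) 2
    (by rw [hC]; norm_num)
  rw [Subgroup.orderOf_mk] at ht₀
  have hCN := centralizer_le_normalizer ((P : Subgroup G) : Set G)
  have hfixP : ∀ g ∈ normalizer ((P : Subgroup G) : Set G), g • P = P := fun g hg =>
    Sylow.smul_eq_iff_mem_normalizer.mpr hg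
  have hne_of : ∀ g ∈ normalizer ((P : Subgroup G) : Set G), ∀ Q : Sylow 7 G, Q ≠ P → g • Q ≠ P := by
    intro g hg Q hQ h
    apply hQ
    have h2 := hfixP g hg
    rw [← h2] at h
    exact MulAction.injective g h
  have hcard₀ := card_fixed_eq_eight hG P hn t₀ ht₀C ht₀
  have hP₀ : P ∈ Finset.univ.filter (fun Q : Sylow 7 G => t₀ • Q = Q) :=
    Finset.mem_filter.mpr ⟨Finset.mem_univ _, hfixP t₀ (hCN ht₀C)⟩
  obtain ⟨A, hAdef⟩ : ∃ A, A = (Finset.univ.filter (fun Q : Sylow 7 G => t₀ • Q = Q)).erase P :=
    ⟨_, rfl⟩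
  have hA : A.card = 7 := by
    rw [hAdef, Finset.card_erase_of_mem hP₀, hcard₀]
  have hPA : P ∉ A := by
    rw [hAdef]
    exact Finset.notMem_erase _ _
  have hmemA : ∀ Q, Q ∈ A ↔ Q ≠ P ∧ t₀ • Q = Q := by
    intro Q
    rw [hAdef, Finset.mem_erase, Finset.mem_filter]
    simp
  -- `A` is `P`-invariant
  have hinvP : ∀ s ∈ (P : Subgroup G), ∀ Q ∈ A, s • Q ∈ A := by
    intro s hs Q hQ
    rw [hmemA] at hQ ⊢
    refine ⟨hne_of s (le_normalizer hs) Q hQ.1, ?_⟩
    have hcomm : s * t₀ = t₀ * s := mem_centralizer_iff.mp ht₀C s hs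
    rw [smul_smul, ← hcomm, ← smul_smul, hQ.2]
  have hcop : Nat.Coprime 2 7 := by norm_num
  -- every involution of the centralizer has the same fixed points
  have hFix : ∀ u ∈ centralizer ((P : Subgroup G) : Set G), orderOf u = 2 →
      ∀ Q : Sylow 7 G, u • Q = Q → Q = P ∨ Q ∈ A := by
    intro u hu hu2
    have hu2' : u * u = 1 := by rw [← pow_two, ← hu2, pow_orderOf_eq_one]
    have hcomm : u * t₀ = t₀ * u :=
      Ord2016A.commute_of_invol P hP (by norm_num) hC u t₀ hu ht₀C hu2'
    have hsub : insert P A ⊆ Finset.univ.filter (fun Q : Sylow 7 G => u • Q = Q) := by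
      intro Q hQ
      rw [Finset.mem_filter]
      refine ⟨Finset.mem_univ _, ?_⟩
      rw [Finset.mem_insert] at hQ
      rcases hQ with rfl | hQ
      · exact hfixP u (hCN hu)
      · have hQ' := (hmemA Q).mp hQ
        have huQ : u • Q ∈ A := by
          rw [hmemA]
          refine ⟨hne_of u (hCN hu) Q hQ'.1, ?_⟩
          rw [smul_smul, ← hcomm, ← smul_smul, hQ'.2]
        obtain ⟨s, hs, hsQ⟩ := Ord2016A.exists_smul_eq_of_card P hP A hPA hA hinvP Q (u • Q) hQ huQ
        exact Ord2016A.smul_eq_self_of_commute P Q hP (Ne.symm hQ'.1) u hu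
          (by rw [hu2]; exact hcop) s hs hsQ.symm
    have heq := Finset.eq_of_subset_of_card_le hsub (by
      rw [card_fixed_eq_eight hG P hn u hu hu2, Finset.card_insert_of_notMem hPA, hA])
    intro Q hQ
    have : Q ∈ insert P A := by
      rw [heq, Finset.mem_filter]
      exact ⟨Finset.mem_univ _, hQ⟩
    rwa [Finset.mem_insert] at this
  -- `A` is invariant under the normalizer
  have hinvN : ∀ g : G, g • P = P → ∀ Q ∈ A, g • Q ∈ A := by
    intro g hg Q hQ
    have hgN : g ∈ normalizer ((P : Subgroup G) : Set G) := Sylow.smul_eq_iff_mem_normalizer.mp hg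
    have hQ' := (hmemA Q).mp hQ
    have huC : g * t₀ * g⁻¹ ∈ centralizer ((P : Subgroup G) : Set G) :=
      (Subgroup.normal_subgroupOf_iff hCN).mp
        (normal_subgroupOf_centralizer_normalizer ((P : Subgroup G) : Set G)) t₀ g ht₀C hgN
    have hu2 : orderOf (g * t₀ * g⁻¹) = 2 := by
      have := orderOf_injective (MulAut.conj g).toMonoidHom (MulAut.conj g).injective t₀
      rw [ht₀] at this
      simpa using this
    have hfix : (g * t₀ * g⁻¹) • (g • Q) = g • Q := by
      rw [smul_smul, inv_mul_cancel_right, mul_smul, hQ'.2]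
    rcases hFix _ huC hu2 _ hfix with h | h
    · exact absurd h (hne_of g hgN Q hQ'.1)
    · exact h
  have htrA : ∀ a ∈ A, ∀ b ∈ A, ∃ g : G, g • P = P ∧ g • a = b := by
    intro a ha b hb
    obtain ⟨s, hs, hsab⟩ := Ord2016A.exists_smul_eq_of_card P hP A hPA hA hinvP a b ha hb
    exact ⟨s, hfixP s (le_normalizer hs), hsab⟩
  -- the centralizer acts freely off `A ∪ {P}`
  have hfree : ∀ c ∈ centralizer ((P : Subgroup G) : Set G), ∀ Q : Sylow 7 G, Q ∉ A → Q ≠ P →
      c • Q = Q → c = 1 := by
    intro c hc Q hQA hQP hcQ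
    have hinvol : ∀ d ∈ centralizer ((P : Subgroup G) : Set G), d • Q = Q → d * d = 1 → d = 1 := by
      intro d hd hdQ hdd
      by_contra hd1
      have hd2 : orderOf d = 2 := orderOf_eq_prime (by rw [pow_two]; exact hdd) hd1
      rcases hFix d hd hd2 Q hdQ with h | h
      · exact hQP h
      · exact hQA h
    have h4 : c ^ 4 = 1 := by
      apply SignArg.eq_one_of_mem_of_smul_eq P Q hP (Ne.symm hQP) _
        ((Ord2016A.quot_facts P hP hC).1 c hc)
      have : ∀ k : ℕ, c ^ k • Q = Q := by
        intro k
        induction k with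
        | zero => simp
        | succ k ih => rw [pow_succ, mul_smul, hcQ, ih]
      exact this 4
    have h2 : c * c = 1 := by
      apply hinvol (c * c) (mul_mem hc hc)
      · rw [mul_smul, hcQ, hcQ]
      · rw [← h4]
        simp only [pow_succ, pow_zero, one_mul, mul_assoc]
    exact hinvol c hc hcQ h2
  have hcompl : ((insert P A)ᶜ).card = 28 := by
    rw [Finset.card_compl, ← Nat.card_eq_fintype_card, hn, Finset.card_insert_of_notMem hPA, hA]
  have htrB : ∀ a, a ∉ A → a ≠ P → ∀ b, b ∉ A → b ≠ P → ∃ g : G, g • P = P ∧ g • a = b := by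
    intro a haA haP b hbA hbP
    have hwd : ∀ c : centralizer ((P : Subgroup G) : Set G), (c : G) • a ∈ (insert P A)ᶜ := by
      intro c
      rw [Finset.mem_compl, Finset.mem_insert, not_or]
      refine ⟨hne_of c (hCN c.2) a haP, ?_⟩
      intro h
      apply haA
      have := hinvN (c : G)⁻¹ (hfixP _ (inv_mem (hCN c.2))) _ h
      rwa [inv_smul_smul] at this
    let φ : ↥(centralizer ((P : Subgroup G) : Set G)) → {Q // Q ∈ (insert P A)ᶜ} :=
      fun c => ⟨(c : G) • a, hwd c⟩
    have hinj : Function.Injective φ := by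
      intro c c' h
      have h1 : (c : G) • a = (c' : G) • a := congrArg Subtype.val h
      have h2 : ((c' : G)⁻¹ * (c : G)) • a = a := by
        rw [mul_smul, h1, inv_smul_smul]
      have h3 := hfree _ (mul_mem (inv_mem c'.2) c.2) a haA haP h2
      apply Subtype.ext
      rw [inv_mul_eq_one] at h3
      exact h3.symm
    have hcard : Nat.card {Q // Q ∈ (insert P A)ᶜ} ≤
        Nat.card (centralizer ((P : Subgroup G) : Set G)) := by
      rw [hC, Nat.card_eq_fintype_card, Fintype.card_coe, hcompl]
    have hbij := hinj.bijective_of_nat_card_le hcard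
    have hb : b ∈ (insert P A)ᶜ := by
      rw [Finset.mem_compl, Finset.mem_insert, not_or]
      exact ⟨hbP, hbA⟩
    obtain ⟨c, hc⟩ := hbij.2 ⟨b, hb⟩
    exact ⟨c, hfixP _ (hCN c.2), congrArg Subtype.val hc⟩
  exact Ord2016C.no_rank_three (G := G) (by rw [← Nat.card_eq_fintype_card, hn]) P A hPA hA
    hinvN htrA htrB


/-- A simple group of order `2016` does not have `8` Sylow `7`-subgroups. -/
theorem false_of_card_sylow_8 (hG : Nat.card G = 2016) (P : Sylow 7 G) (hP : Nat.card P = 7)
    (hn : Nat.card (Sylow 7 G) = 8) : False := by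
  have hN : Nat.card (normalizer ((P : Subgroup G) : Set G)) = 252 := by
    have := SmallOrder.card_normalizer_mul_card_sylow P
    rw [hn, hG] at this
    omega
  have hfp : Fact (Nat.card (P : Subgroup G)).Prime := by rw [hP]; exact hp
  have hPc : IsCyclic (P : Subgroup G) := isCyclic_of_prime_card rfl
  have hr1 := SmallOrder.relIndex_centralizer_normalizer_dvd (P : Subgroup G) hPc
  rw [hP, Nat.totient_prime hp.out] at hr1
  have hr2 := card_centralizer_mul P
  rw [hN] at hr2
  have h3 : 3 ∣ Nat.card (centralizer ((P : Subgroup G) : Set G)) := by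
    have h6 : (centralizer ((P : Subgroup G) : Set G)).relIndex
        (normalizer ((P : Subgroup G) : Set G)) ∈ Nat.divisors 6 :=
      Nat.mem_divisors.mpr ⟨hr1, by norm_num⟩
    generalize (centralizer ((P : Subgroup G) : Set G)).relIndex
        (normalizer ((P : Subgroup G) : Set G)) = r at *
    simp only [Nat.divisors_ofNat, Finset.mem_insert, Finset.mem_singleton] at h6
    rcases h6 with rfl | rfl | rfl | rfl <;> omega
  haveI : Fact (Nat.Prime 3) := ⟨by norm_num⟩
  obtain ⟨⟨g, hgC⟩, hg⟩ :=
    exists_prime_orderOf_dvd_card' (G := centralizer ((P : Subgroup G) : Set G)) 3 h3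
  rw [Subgroup.orderOf_mk] at hg
  have hgN := centralizer_le_normalizer ((P : Subgroup G) : Set G) hgC
  have hgP : g • P = P := Sylow.smul_eq_iff_mem_normalizer.mpr hgN
  have hall : ∀ Q : Sylow 7 G, g • Q = Q := by
    intro Q
    by_cases hQ : Q = P
    · rw [hQ]; exact hgP
    · have hgQ : g • Q ≠ P := by
        intro h
        apply hQ
        rw [← hgP] at h
        exact MulAction.injective g h
      obtain ⟨s, hs, hsQ⟩ := SignArg.exists_smul_eq P hP (by rw [hn]) Q (g • Q) hQ hgQ
      exact Ord2016A.smul_eq_self_of_commute P Q hP (Ne.symm hQ) g hgC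
        (by rw [hg]; norm_num) s hs hsQ.symm
  have h1 := Ord2016A.eq_one_of_forall_smul_eq (p := 7) (by rw [hn]; norm_num) g hall
  rw [h1, orderOf_one] at hg
  omega

/-- A simple group of order `2016` does not have `288` Sylow `7`-subgroups. -/
theorem false_of_card_sylow_288 (hG : Nat.card G = 2016) (P : Sylow 7 G) (hP : Nat.card P = 7)
    (hn : Nat.card (Sylow 7 G) = 288) : False := by
  have hN : Nat.card (normalizer ((P : Subgroup G) : Set G)) = 7 := by
    have := SmallOrder.card_normalizer_mul_card_sylow P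
    rw [hn, hG] at this
    omega
  obtain ⟨K, hK, hidx⟩ := SmallOrder.exists_normal_index_of_prime_sylow P hP
    (by rw [hN]; norm_num)
  apply SmallOrder.false_of_normal_index K
  · rw [hidx]; norm_num
  · rw [hidx, hG]; norm_num

end Cfsg.Agent.Helper2.Ord2016B
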