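import Mathlib
import Cfsg.Agent.Helper2.Ord2016A
import Cfsg.Agent.Helper2.Ord2016B
import Cfsg.Agent.Helper2.SmallOrder
import Cfsg.Agent.Helper2.SylowExact2

set_option autoImplicit false

/-! A simple group of order `4032` does not have `36` Sylow `7`-subgroups.

`|N_G(P)| = 112`, `|C_G(P)| = 56`; let `T` be a subgroup of order `8` of `C_G(P)`.  Every
nonidentity element of `T` fixes exactly `8` Sylow `7`-subgroups (the number is `≡ 1 (mod 7)`,
even, and at most the number of fixed points of its involution power, which is `8` by the even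
permutation count).  Burnside's orbit counting lemma gives `36 + 7 * 8 = 8 * #orbits`. -/

namespace Cfsg.Agent.Helper2.Ord4032

open Subgroup MulAction

variable {G : Type*} [Group G] [Finite G] [IsSimpleGroup G]

/-- An involution of `C_G(P)` fixes exactly eight Sylow `7`-subgroups (when there are `36`). -/
theorem card_fixed_invol [hp : Fact (Nat.Prime 7)] [Fintype (Sylow 7 G)]
    [DecidableEq (Sylow 7 G)]
    (hG : 2 < Nat.card G) (P : Sylow 7 G) (hn : Nat.card (Sylow 7 G) = 36) (t : G)
    (ht : t ∈ centralizer ((P : Subgroup G) : Set G)) (ht2 : orderOf t = 2) :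
    (Finset.univ.filter (fun Q : Sylow 7 G => t • Q = Q)).card = 8 := by
  have h1 := Ord2016A.card_fixed_modEq P t ht
  obtain ⟨k, hk⟩ := Ord2016A.card_eq_fixed_add_four_mul (G := G) hG (X := Sylow 7 G) t ht2
  rw [← Nat.card_eq_fintype_card, hn] at hk
  have hne : (Finset.univ.filter (fun Q : Sylow 7 G => t • Q = Q)).card ≠ 36 := by
    intro h36
    have huniv : Finset.univ.filter (fun Q : Sylow 7 G => t • Q = Q) = Finset.univ := by
      apply Finset.eq_univ_of_card
      rw [h36, ← Nat.card_eq_fintype_card, hn]
    have hall : ∀ Q : Sylow 7 G, t • Q = Q := by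
      intro Q
      have : Q ∈ Finset.univ.filter (fun Q : Sylow 7 G => t • Q = Q) := by
        rw [huniv]; exact Finset.mem_univ Q
      exact (Finset.mem_filter.mp this).2
    have h1t := Ord2016A.eq_one_of_forall_smul_eq (p := 7) (by rw [hn]; norm_num) t hall
    rw [h1t, orderOf_one] at ht2
    omega
  unfold Nat.ModEq at h1
  omega

/-- A nonidentity element `u` of `C_G(P)` with `u ^ 8 = 1` fixes exactly eight Sylow
`7`-subgroups (when there are `36`). -/
theorem card_fixed_two_elt [hp : Fact (Nat.Prime 7)] [Fintype (Sylow 7 G)]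
    [DecidableEq (Sylow 7 G)]
    (hG : 2 < Nat.card G) (P : Sylow 7 G) (hn : Nat.card (Sylow 7 G) = 36) (u : G)
    (hu : u ∈ centralizer ((P : Subgroup G) : Set G)) (hu8 : u ^ 8 = 1) (hu1 : u ≠ 1) :
    (Finset.univ.filter (fun Q : Sylow 7 G => u • Q = Q)).card = 8 := by
  -- an involution power of `u`
  obtain ⟨k, hk2⟩ : ∃ k : ℕ, orderOf (u ^ k) = 2 := by
    by_cases h2 : u ^ 2 = 1
    · exact ⟨1, by rw [pow_one]; exact orderOf_eq_prime h2 hu1⟩
    · by_cases h4 : u ^ 4 = 1
      · refine ⟨2, orderOf_eq_prime ?_ h2⟩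
        rw [← pow_mul]; exact h4
      · refine ⟨4, orderOf_eq_prime ?_ h4⟩
        rw [← pow_mul]; exact hu8
  have hkC : u ^ k ∈ centralizer ((P : Subgroup G) : Set G) := pow_mem hu k
  have h8 := card_fixed_invol hG P hn (u ^ k) hkC hk2
  have hsub : Finset.univ.filter (fun Q : Sylow 7 G => u • Q = Q) ⊆
      Finset.univ.filter (fun Q : Sylow 7 G => u ^ k • Q = Q) := by
    intro Q hQ
    rw [Finset.mem_filter] at hQ ⊢
    refine ⟨Finset.mem_univ _, ?_⟩
    have : Q ∈ MulAction.fixedBy (Sylow 7 G) ((u : G) ^ (k : ℤ)) :=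
      MulAction.mem_fixedBy_zpow (g := u) hQ.2 (k : ℤ)
    rw [zpow_natCast] at this
    exact this
  have hle := Finset.card_le_card hsub
  rw [h8] at hle
  have h1 := Ord2016A.card_fixed_modEq P u hu
  -- parity
  have hpg : IsPGroup 2 (zpowers u) := by
    intro g
    refine ⟨3, ?_⟩
    obtain ⟨j, hj⟩ := mem_zpowers_iff.mp g.2
    apply Subtype.ext
    show ((g : G)) ^ 2 ^ 3 = 1
    rw [← hj, ← zpow_natCast, ← zpow_mul, mul_comm, zpow_mul, zpow_natCast]
    norm_num
    rw [hu8, one_zpow]
  have : Fact (Nat.Prime 2) := ⟨Nat.prime_two⟩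
  have hpar := hpg.card_modEq_card_fixedPoints (Sylow 7 G)
  have hfix : Nat.card (fixedPoints (zpowers u) (Sylow 7 G)) =
      (Finset.univ.filter (fun Q : Sylow 7 G => u • Q = Q)).card := by
    apply Nat.subtype_card
    intro Q
    rw [Finset.mem_filter]
    constructor
    · rintro ⟨-, hQ⟩
      rintro ⟨g, hg⟩
      obtain ⟨j, rfl⟩ := mem_zpowers_iff.mp hg
      exact MulAction.mem_fixedBy_zpow (g := u) hQ j
    · intro hQ
      exact ⟨Finset.mem_univ _, hQ ⟨u, mem_zpowers u⟩⟩
  rw [hfix, hn] at hpar
  unfold Nat.ModEq at h1 hpar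
  omega

/-- A simple group of order `4032` does not have `36` Sylow `7`-subgroups. -/
theorem n7_ne_36 {G : Type*} [Group G] [Finite G] [IsSimpleGroup G] (h : Nat.card G = 4032) :
    Nat.card (Sylow 7 G) ≠ 36 := by
  classical
  intro hn
  have hp : Fact (Nat.Prime 7) := ⟨by norm_num⟩
  haveI : Fintype (Sylow 7 G) := Fintype.ofFinite _
  let P : Sylow 7 G := default
  have hP : Nat.card P = 7 := by
    have := SylowExact.card_sylow_of_exact_pow (s := 7) (k := 1) (m := 576)
      (by rw [h]; norm_num) (by norm_num) P
    simpa using this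
  have hN : Nat.card (normalizer ((P : Subgroup G) : Set G)) = 112 := by
    have := SmallOrder.card_normalizer_mul_card_sylow P
    rw [hn, h] at this
    omega
  have hfp : Fact (Nat.card (P : Subgroup G)).Prime := by rw [hP]; exact hp
  have hPc : IsCyclic (P : Subgroup G) := isCyclic_of_prime_card rfl
  have hr1 := SmallOrder.relIndex_centralizer_normalizer_dvd (P : Subgroup G) hPc
  rw [hP, Nat.totient_prime hp.out] at hr1
  have hr2 := Ord2016B.card_centralizer_mul P
  rw [hN] at hr2
  -- the centralizer has order 56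
  have hC : Nat.card (centralizer ((P : Subgroup G) : Set G)) = 56 := by
    have hr3 : (centralizer ((P : Subgroup G) : Set G)).relIndex
        (normalizer ((P : Subgroup G) : Set G)) ∣ 112 := ⟨_, by rw [← hr2, mul_comm]⟩
    have hr4 : (centralizer ((P : Subgroup G) : Set G)).relIndex
        (normalizer ((P : Subgroup G) : Set G)) ∣ 2 := by
      have := Nat.dvd_gcd hr1 hr3
      norm_num at this
      exact this
    have hr5 : (centralizer ((P : Subgroup G) : Set G)).relIndex
        (normalizer ((P : Subgroup G) : Set G)) = 1 ∨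
        (centralizer ((P : Subgroup G) : Set G)).relIndex
        (normalizer ((P : Subgroup G) : Set G)) = 2 := by
      have := Nat.le_of_dvd (by norm_num) hr4
      have h0 : (centralizer ((P : Subgroup G) : Set G)).relIndex
        (normalizer ((P : Subgroup G) : Set G)) ≠ 0 := by
        intro h0
        rw [h0] at hr4
        omega
      omega
    rcases hr5 with h1 | h2
    · exfalso
      have hle : normalizer ((P : Subgroup G) : Set G) ≤ centralizer ((P : Subgroup G) : Set G) :=
        Subgroup.relIndex_eq_one.mp h1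
      have hcomp := MonoidHom.ker_transferSylow_isComplement' P hle
      have : (MonoidHom.transferSylow P hle).ker.Normal := MonoidHom.normal_ker _
      apply SmallOrder.false_of_normal_index (MonoidHom.transferSylow P hle).ker
      · rw [hcomp.symm.index_eq_card, hP]; norm_num
      · rw [hcomp.symm.index_eq_card, hP, h]; norm_num
    · rw [h2] at hr2
      omega
  -- a subgroup of order 8 of the centralizer
  have : Fact (Nat.Prime 2) := ⟨Nat.prime_two⟩
  obtain ⟨K, hK⟩ := Sylow.exists_subgroup_card_pow_prime 2 (n := 3)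
    (G := centralizer ((P : Subgroup G) : Set G)) (by rw [hC]; norm_num)
  obtain ⟨T, hTdef⟩ : ∃ T : Subgroup G,
      T = K.map (centralizer ((P : Subgroup G) : Set G)).subtype := ⟨_, rfl⟩
  have hTcard : Nat.card T = 8 := by
    rw [hTdef, Subgroup.card_map_of_injective (Subgroup.subtype_injective _), hK]
    norm_num
  have hTle : T ≤ centralizer ((P : Subgroup G) : Set G) := by
    rw [hTdef]; exact Subgroup.map_subtype_le K
  haveI : Fintype T := Fintype.ofFinite _
  have hG2 : 2 < Nat.card G := by rw [h]; norm_num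
  -- Burnside's lemma
  have hB := MulAction.sum_card_fixedBy_eq_card_orbits_mul_card_group T (Sylow 7 G)
  have hterm : ∀ g : T, Fintype.card (MulAction.fixedBy (Sylow 7 G) g) =
      if g = 1 then 36 else 8 := by
    intro g
    have e1 : Fintype.card (MulAction.fixedBy (Sylow 7 G) g) =
        (Finset.univ.filter (fun Q : Sylow 7 G => (g : G) • Q = Q)).card := by
      rw [← Nat.card_eq_fintype_card]
      apply Nat.subtype_card
      intro Q
      rw [Finset.mem_filter]
      constructor
      · rintro ⟨-, hQ⟩
        exact hQ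
      · intro hQ
        exact ⟨Finset.mem_univ _, hQ⟩
    rw [e1]
    by_cases hg1 : g = 1
    · rw [if_pos hg1, hg1]
      have : Finset.univ.filter (fun Q : Sylow 7 G => ((1 : T) : G) • Q = Q) = Finset.univ := by
        apply Finset.filter_true_of_mem
        intro Q _
        rw [Subgroup.coe_one, one_smul]
      rw [this, Finset.card_univ, ← Nat.card_eq_fintype_card, hn]
    · rw [if_neg hg1]
      apply card_fixed_two_elt hG2 P hn (g : G) (hTle g.2)
      · have := pow_card_eq_one' (G := T) (x := g)
        rw [hTcard] at this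
        exact_mod_cast congrArg Subtype.val this
      · intro h1
        apply hg1
        exact Subtype.ext h1
  rw [Finset.sum_congr rfl (fun g _ => hterm g)] at hB
  rw [← Finset.add_sum_erase Finset.univ _ (Finset.mem_univ (1 : T)), if_pos rfl] at hB
  have hrest : ∑ x ∈ Finset.univ.erase (1 : T), (if x = 1 then 36 else 8) = 7 * 8 := by
    rw [Finset.sum_congr rfl (g := fun _ => 8)]
    · rw [Finset.sum_const, Finset.card_erase_of_mem (Finset.mem_univ _), Finset.card_univ,
        ← Nat.card_eq_fintype_card, hTcard]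
      rfl
    · intro x hx
      rw [if_neg (Finset.ne_of_mem_erase hx)]
  rw [hrest, ← Nat.card_eq_fintype_card (α := T), hTcard] at hB
  omega

end Cfsg.Agent.Helper2.Ord4032
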