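import Mathlib

set_option autoImplicit false

/-!
Groups of order 64 with a fixed-point-free automorphism of order 3: basic facts.
-/

namespace Cfsg.Agent.Helper2.Ord64

variable {T : Type*} [Group T]

/-- the standing hypotheses -/
structure FP (ρ : MulAut T) : Prop where
  card : Nat.card T = 64
  na : ∃ a b : T, a * b ≠ b * a
  cube : ∀ y : T, ρ (ρ (ρ y)) = y
  fpf : ∀ y : T, ρ y = y → y = 1

variable {ρ : MulAut T}

theorem FP.finite (h : FP ρ) : Finite T :=
  Nat.finite_of_card_ne_zero (by rw [h.card]; norm_num)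

theorem FP.inj_aux (h : FP ρ) {y w : T} (e : y⁻¹ * ρ y = w⁻¹ * ρ w) : y = w := by
  have h1 : ρ y = y * (w⁻¹ * ρ w) := by rw [← e]; group
  have h2 : ρ (y * w⁻¹) = y * w⁻¹ := by
    rw [map_mul, map_inv, h1]; group
  have := h.fpf _ h2
  exact mul_inv_eq_one.mp this

theorem FP.prod3 (h : FP ρ) (y : T) : y * ρ y * ρ (ρ y) = 1 := by
  haveI := h.finite
  have hs : Function.Surjective (fun w : T => w⁻¹ * ρ w) :=
    Finite.injective_iff_surjective.mp (fun a b e => h.inj_aux e)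
  obtain ⟨w, rfl⟩ := hs y
  simp only [map_mul, map_inv, h.cube]
  group

theorem FP.rho2 (h : FP ρ) (y : T) : ρ (ρ y) = (y * ρ y)⁻¹ := by
  have := h.prod3 y
  exact eq_inv_of_mul_eq_one_right this

theorem FP.comm_rho (h : FP ρ) (y : T) : y * ρ y = ρ y * y := by
  have h1 := h.rho2 y
  have h2 := h.prod3 y⁻¹
  simp only [map_inv] at h2
  have h3 : ρ (ρ y) = (ρ y * y)⁻¹ := by
    have : (ρ (ρ y))⁻¹ = ρ y * y := by
      have e : y⁻¹ * (ρ y)⁻¹ * (ρ (ρ y))⁻¹ = 1 := h2
      calc (ρ (ρ y))⁻¹ = (y⁻¹ * (ρ y)⁻¹)⁻¹ * (y⁻¹ * (ρ y)⁻¹ * (ρ (ρ y))⁻¹) := by group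
        _ = ρ y * y := by rw [e]; group
    rw [← this, inv_inv]
  rw [h1] at h3
  exact inv_injective h3

theorem FP.rho_inj (h : FP ρ) {y w : T} (e : ρ y = ρ w) : y = w := ρ.injective e

theorem FP.rho_ne_one (h : FP ρ) {y : T} (hy : y ≠ 1) : ρ y ≠ 1 := by
  intro e
  apply hy
  have : ρ y = ρ 1 := by rw [e, map_one]
  exact ρ.injective this

/-- `ρ`-invariant subgroups -/
def Inv (ρ : MulAut T) (H : Subgroup T) : Prop := ∀ y ∈ H, ρ y ∈ H

theorem Inv.iff (h : FP ρ) {H : Subgroup T} (hH : Inv ρ H) (y : T) : ρ y ∈ H ↔ y ∈ H := by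
  constructor
  · intro hy
    have := hH _ (hH _ hy)
    rwa [h.cube] at this
  · exact hH y

theorem card_mod3 (h : FP ρ) {H : Subgroup T} (hH : Inv ρ H) : Nat.card H % 3 = 1 := by
  classical
  haveI := h.finite
  haveI : Fintype H := Fintype.ofFinite H
  haveI : Fact (Nat.Prime 3) := ⟨by norm_num⟩
  let f : Function.End H := fun y => ⟨ρ y, hH y y.2⟩
  have hf : f ^ 3 ^ 1 = 1 := by
    funext y
    apply Subtype.ext
    show ρ (ρ (ρ (y : T))) = y
    exact h.cube y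
  have key := Equiv.Perm.card_fixedPoints_modEq (p := 3) (n := 1) hf
  have hfix : Fintype.card (Function.fixedPoints f) = 1 := by
    rw [Fintype.card_eq_one_iff]
    refine ⟨⟨1, ?_⟩, ?_⟩
    · show f 1 = 1
      apply Subtype.ext
      show ρ (1 : T) = 1
      exact map_one ρ
    · rintro ⟨y, hy⟩
      apply Subtype.ext
      apply Subtype.ext
      have : f y = y := hy
      have h2 : ρ (y : T) = y := congrArg Subtype.val this
      exact h.fpf _ h2
  rw [hfix] at key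
  rw [Nat.card_eq_fintype_card]
  exact key

theorem card_inv (h : FP ρ) {H : Subgroup T} (hH : Inv ρ H) :
    Nat.card H = 1 ∨ Nat.card H = 4 ∨ Nat.card H = 16 ∨ Nat.card H = 64 := by
  have h3 := card_mod3 h hH
  have hd : Nat.card H ∣ 64 := by
    rw [← h.card]; exact Subgroup.card_subgroup_dvd_card H
  have : (64 : ℕ) = 2 ^ 6 := by norm_num
  rw [this] at hd
  obtain ⟨k, hk, hk2⟩ := (Nat.dvd_prime_pow Nat.prime_two).mp hd
  rw [hk2] at h3 ⊢
  interval_cases k <;> simp_all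

theorem inv_top : Inv ρ (⊤ : Subgroup T) := fun _ _ => Subgroup.mem_top _

theorem inv_inf {H K : Subgroup T} (hH : Inv ρ H) (hK : Inv ρ K) : Inv ρ (H ⊓ K) :=
  fun y hy => ⟨hH y hy.1, hK y hy.2⟩

theorem aut_mem_center (φ : MulAut T) {z : T} (hz : z ∈ Subgroup.center T) :
    φ z ∈ Subgroup.center T := by
  rw [Subgroup.mem_center_iff] at hz ⊢
  intro g
  have := hz (φ.symm g)
  have e := congrArg φ this
  simpa using e

theorem inv_center : Inv ρ (Subgroup.center T) := fun _ hy => aut_mem_center ρ hy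

theorem inv_centralizer (h : FP ρ) {H : Subgroup T} (hH : Inv ρ H) :
    Inv ρ (Subgroup.centralizer (H : Set T)) := by
  intro y hy
  rw [Subgroup.mem_centralizer_iff] at hy ⊢
  intro m hm
  have hm2 : ρ (ρ m) ∈ H := hH _ (hH _ hm)
  have := hy _ hm2
  have e := congrArg ρ this
  simpa [h.cube] using e

theorem inv_normalizer (h : FP ρ) {H : Subgroup T} (hH : Inv ρ H) :
    Inv ρ (Subgroup.normalizer (H : Set T)) := by
  intro g hg
  rw [Subgroup.mem_normalizer_iff] at hg ⊢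
  intro m
  have h1 : m ∈ H ↔ ρ (ρ m) ∈ H := by
    rw [Inv.iff h hH, Inv.iff h hH]
  have h2 := hg (ρ (ρ m))
  have h3 : ρ (g * ρ (ρ m) * g⁻¹) = ρ g * m * (ρ g)⁻¹ := by
    simp [h.cube]
  rw [h1, h2, ← h3, Inv.iff h hH]

/-- the centralizer of `a` and `ρ a` -/
def M (ρ : MulAut T) (a : T) : Subgroup T := Subgroup.centralizer ({a, ρ a} : Set T)

theorem mem_M {a y : T} : y ∈ M ρ a ↔ a * y = y * a ∧ ρ a * y = y * ρ a := by
  unfold M
  rw [Subgroup.mem_centralizer_iff]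
  constructor
  · intro hy
    exact ⟨hy a (by simp), hy (ρ a) (by simp)⟩
  · rintro ⟨h1, h2⟩ m hm
    rcases hm with rfl | hm
    · exact h1
    · rw [Set.mem_singleton_iff] at hm
      rw [hm]; exact h2

theorem inv_M (h : FP ρ) (a : T) : Inv ρ (M ρ a) := by
  intro y hy
  rw [mem_M] at hy ⊢
  obtain ⟨h1, h2⟩ := hy
  constructor
  · -- a = ρ (ρρa), ρρa = (a ρa)⁻¹ commutes with y
    have h3 : ρ (ρ a) * y = y * ρ (ρ a) := by
      rw [h.rho2 a]
      have : (a * ρ a) * y = y * (a * ρ a) := by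
        rw [mul_assoc, h2, ← mul_assoc, h1, mul_assoc]
      calc (a * ρ a)⁻¹ * y = (a * ρ a)⁻¹ * (y * (a * ρ a)) * (a * ρ a)⁻¹ := by group
        _ = (a * ρ a)⁻¹ * ((a * ρ a) * y) * (a * ρ a)⁻¹ := by rw [this]
        _ = y * (a * ρ a)⁻¹ := by group
    have e := congrArg ρ h3
    simpa [h.cube] using e
  · have e := congrArg ρ h1
    simpa using e

theorem self_mem_M (h : FP ρ) (a : T) : a ∈ M ρ a := by
  rw [mem_M]; exact ⟨rfl, (h.comm_rho a).symm⟩

theorem rho_mem_M (h : FP ρ) (a : T) : ρ a ∈ M ρ a := inv_M h a _ (self_mem_M h a)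

theorem center_le_M (a : T) : Subgroup.center T ≤ M ρ a := by
  intro z hz
  rw [Subgroup.mem_center_iff] at hz
  rw [mem_M]
  exact ⟨hz a, hz (ρ a)⟩

theorem M_ne_top {a : T} (ha : a ∉ Subgroup.center T) : M ρ a ≠ ⊤ := by
  intro e
  apply ha
  rw [Subgroup.mem_center_iff]
  intro g
  have : g ∈ M ρ a := by rw [e]; exact Subgroup.mem_top _
  rw [mem_M] at this
  exact this.1.symm

end Cfsg.Agent.Helper2.Ord64
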