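import Mathlib
import Cfsg.Agent.Helper2.Ord64A

set_option autoImplicit false

/-!
Groups of order 64 with a fixed-point-free automorphism of order 3: centre, class two.
-/

namespace Cfsg.Agent.Helper2.Ord64

variable {T : Type*} [Group T] {ρ : MulAut T}

theorem isPGroup (h : FP ρ) : IsPGroup 2 T :=
  IsPGroup.of_card (n := 6) (by rw [h.card]; norm_num)

theorem center_ne_top (h : FP ρ) : Subgroup.center T ≠ ⊤ := by
  intro e
  obtain ⟨a, b, hab⟩ := h.na
  apply hab
  have : b ∈ Subgroup.center T := by rw [e]; exact Subgroup.mem_top _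
  rw [Subgroup.mem_center_iff] at this
  exact this a

theorem exists_not_center (h : FP ρ) : ∃ a : T, a ∉ Subgroup.center T := by
  by_contra hc
  push Not at hc
  exact center_ne_top h (by rw [eq_top_iff]; intro a _; exact hc a)

theorem card_lt_of_mem {H K : Subgroup T} [Finite T] (hle : H ≤ K) {a : T} (haK : a ∈ K)
    (haH : a ∉ H) : Nat.card H < Nat.card K := by
  by_contra hc
  push Not at hc
  have := Subgroup.eq_of_le_of_card_ge hle hc
  exact haH (this ▸ haK)

theorem card_center (h : FP ρ) : Nat.card (Subgroup.center T) = 4 := by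
  have := h.finite
  have : Fact (Nat.Prime 2) := ⟨Nat.prime_two⟩
  haveI : Nontrivial T := by
    obtain ⟨a, b, hab⟩ := h.na
    exact ⟨a * b, b * a, hab⟩
  rcases card_inv h (inv_center (ρ := ρ)) with h1 | h1 | h1 | h1
  · exfalso
    have hnt := IsPGroup.center_nontrivial (isPGroup h)
    have := Finite.one_lt_card_iff_nontrivial.mpr hnt
    omega
  · exact h1
  · exfalso
    obtain ⟨a, ha⟩ := exists_not_center h
    have hlt := card_lt_of_mem (center_le_M (ρ := ρ) a) (self_mem_M h a) ha
    rcases card_inv h (inv_M h a) with h2 | h2 | h2 | h2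
    · omega
    · omega
    · omega
    · apply M_ne_top (ρ := ρ) ha
      apply Subgroup.eq_top_of_card_eq
      rw [h2, h.card]
  · exfalso
    apply center_ne_top h
    apply Subgroup.eq_top_of_card_eq
    rw [h1, h.card]

theorem card_M (h : FP ρ) {a : T} (ha : a ∉ Subgroup.center T) : Nat.card (M ρ a) = 16 := by
  have := h.finite
  have hlt := card_lt_of_mem (center_le_M (ρ := ρ) a) (self_mem_M h a) ha
  rw [card_center h] at hlt
  rcases card_inv h (inv_M h a) with h2 | h2 | h2 | h2
  · omega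
  · omega
  · exact h2
  · exfalso
    apply M_ne_top (ρ := ρ) ha
    apply Subgroup.eq_top_of_card_eq
    rw [h2, h.card]

theorem M_comm (h : FP ρ) {a : T} (ha : a ∉ Subgroup.center T) {u v : T} (hu : u ∈ M ρ a)
    (hv : v ∈ M ρ a) : u * v = v * u := by
  have := h.finite
  let ZZ : Subgroup T := M ρ a ⊓ Subgroup.centralizer (M ρ a : Set T)
  have hinv : Inv ρ ZZ := inv_inf (inv_M h a) (inv_centralizer h (inv_M h a))
  have hZle : Subgroup.center T ≤ ZZ := by
    intro z hz
    refine ⟨center_le_M a hz, Subgroup.mem_centralizer_iff.mpr ?_⟩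
    intro m _
    rw [Subgroup.mem_center_iff] at hz
    exact hz m
  have haZZ : a ∈ ZZ := by
    refine ⟨self_mem_M h a, Subgroup.mem_centralizer_iff.mpr ?_⟩
    intro m hm
    have hm' : m ∈ M ρ a := hm
    rw [mem_M] at hm'
    exact hm'.1.symm
  have hlt := card_lt_of_mem hZle haZZ ha
  rw [card_center h] at hlt
  have hle : ZZ ≤ M ρ a := inf_le_left
  have hcle := Subgroup.card_le_of_le hle
  rw [card_M h ha] at hcle
  have h16 : Nat.card ZZ = 16 := by
    rcases card_inv h hinv with h2 | h2 | h2 | h2 <;> omega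
  have heq : ZZ = M ρ a := Subgroup.eq_of_le_of_card_ge hle (by rw [h16, card_M h ha])
  have hu' : u ∈ ZZ := heq ▸ hu
  have hu2 : u ∈ Subgroup.centralizer (M ρ a : Set T) := hu'.2
  rw [Subgroup.mem_centralizer_iff] at hu2
  exact (hu2 v hv).symm

theorem M_normal (h : FP ρ) {a : T} (ha : a ∉ Subgroup.center T) : (M ρ a).Normal := by
  have := h.finite
  have : Fact (Nat.Prime 2) := ⟨Nat.prime_two⟩
  haveI : Group.IsNilpotent T := (isPGroup h).isNilpotent
  have hlt : M ρ a < Subgroup.normalizer (M ρ a : Set T) :=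
    normalizerCondition_of_isNilpotent _ (lt_top_iff_ne_top.mpr (M_ne_top ha))
  have hc : Nat.card (M ρ a) < Nat.card (Subgroup.normalizer (M ρ a : Set T)) := by
    obtain ⟨g, hg1, hg2⟩ := SetLike.exists_of_lt hlt
    exact card_lt_of_mem hlt.le hg1 hg2
  rw [card_M h ha] at hc
  have : Subgroup.normalizer (M ρ a : Set T) = ⊤ := by
    apply Subgroup.eq_top_of_card_eq
    rcases card_inv h (inv_normalizer h (inv_M h a)) with h2 | h2 | h2 | h2
    · omega
    · omega
    · omega
    · rw [h2, h.card]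
  exact Subgroup.normalizer_eq_top_iff.mp this

/-- the commutator -/
def cm (u v : T) : T := u * v * u⁻¹ * v⁻¹

theorem cm_mem_M (h : FP ρ) {a : T} (ha : a ∉ Subgroup.center T) (u v : T) : cm u v ∈ M ρ a := by
  have := h.finite
  have : Fact (Nat.Prime 2) := ⟨Nat.prime_two⟩
  haveI := M_normal h ha
  have hq : Nat.card (T ⧸ M ρ a) = 2 ^ 2 := by
    have := Subgroup.card_eq_card_quotient_mul_card_subgroup (M ρ a)
    rw [h.card, card_M h ha] at this
    omega
  have hcomm := IsPGroup.commutative_of_card_eq_prime_sq hq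
  have := hcomm (u : T ⧸ M ρ a) (v : T ⧸ M ρ a)
  rw [← QuotientGroup.mk_mul, ← QuotientGroup.mk_mul, QuotientGroup.eq] at this
  have e : cm u v = (v * u) * ((u * v)⁻¹ * (v * u))⁻¹ * (v * u)⁻¹ := by unfold cm; group
  rw [e]
  exact (M_normal h ha).conj_mem _ ((M ρ a).inv_mem this) (v * u)

theorem cm_mem (h : FP ρ) (u v : T) : cm u v ∈ Subgroup.center T := by
  have := h.finite
  obtain ⟨a, ha⟩ := exists_not_center h
  have hMa : M ρ a ≠ ⊤ := M_ne_top ha
  obtain ⟨b, hb⟩ : ∃ b : T, b ∉ M ρ a := by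
    by_contra hc
    push Not at hc
    exact hMa (by rw [eq_top_iff]; intro y _; exact hc y)
  have hbZ : b ∉ Subgroup.center T := fun hbz => hb (center_le_M a hbz)
  let I : Subgroup T := M ρ a ⊓ M ρ b
  have hinv : Inv ρ I := inv_inf (inv_M h a) (inv_M h b)
  have hZI : Subgroup.center T ≤ I := le_inf (center_le_M a) (center_le_M b)
  have hIa : I ≤ M ρ a := inf_le_left
  have hcI : Nat.card I ≠ 16 := by
    intro h16
    have heq : I = M ρ a := Subgroup.eq_of_le_of_card_ge hIa (by rw [h16, card_M h ha])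
    have hab : M ρ a ≤ M ρ b := by rw [← heq]; exact inf_le_right
    have heq2 : M ρ a = M ρ b :=
      Subgroup.eq_of_le_of_card_ge hab (by rw [card_M h ha, card_M h hbZ])
    exact hb (heq2 ▸ self_mem_M h b)
  have hcle := Subgroup.card_le_of_le hIa
  rw [card_M h ha] at hcle
  have hcge := Subgroup.card_le_of_le hZI
  rw [card_center h] at hcge
  have h4 : Nat.card I = 4 := by
    rcases card_inv h hinv with h2 | h2 | h2 | h2 <;> omega
  have heq : Subgroup.center T = I :=
    Subgroup.eq_of_le_of_card_ge hZI (by rw [h4, card_center h])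
  rw [heq]
  exact ⟨cm_mem_M h ha u v, cm_mem_M h hbZ u v⟩

theorem center_comm {z : T} (hz : z ∈ Subgroup.center T) (g : T) : g * z = z * g := by
  rw [Subgroup.mem_center_iff] at hz
  exact hz g

/-- enumeration of the centre -/
theorem center_eq (h : FP ρ) {z : T} (hz : z ∈ Subgroup.center T) (hz1 : z ≠ 1) {w : T}
    (hw : w ∈ Subgroup.center T) : w = 1 ∨ w = z ∨ w = ρ z ∨ w = ρ (ρ z) := by
  have := h.finite
  have h1 : ρ z ≠ z := fun e => hz1 (h.fpf z e)
  have h2 : ρ (ρ z) ≠ ρ z := fun e => h1 (ρ.injective e)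
  have h3 : ρ (ρ z) ≠ z := by
    intro e
    apply h1
    have := congrArg ρ e
    rw [h.cube] at this
    exact this.symm
  have h4 : ρ z ≠ 1 := h.rho_ne_one hz1
  have h5 : ρ (ρ z) ≠ 1 := h.rho_ne_one h4
  let S : Set T := {1, z, ρ z, ρ (ρ z)}
  have hS : S.ncard = 4 := by
    have e : S = insert 1 (insert z (insert (ρ z) {ρ (ρ z)})) := rfl
    rw [e, Set.ncard_insert_of_notMem, Set.ncard_insert_of_notMem, Set.ncard_insert_of_notMem,
      Set.ncard_singleton]
    · simp only [Set.mem_singleton_iff]; exact fun e => h2 e.symm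
    · simp only [Set.mem_insert_iff, Set.mem_singleton_iff, not_or]
      exact ⟨fun e => h1 e.symm, fun e => h3 e.symm⟩
    · simp only [Set.mem_insert_iff, Set.mem_singleton_iff, not_or]
      exact ⟨fun e => hz1 e.symm, fun e => h4 e.symm, fun e => h5 e.symm⟩
  have hsub : S ⊆ (Subgroup.center T : Set T) := by
    intro y hy
    rcases hy with rfl | rfl | rfl | hy
    · exact Subgroup.one_mem _
    · exact hz
    · exact inv_center _ hz
    · rw [Set.mem_singleton_iff] at hy
      rw [hy]; exact inv_center _ (inv_center _ hz)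
  have hc : (Subgroup.center T : Set T).ncard = 4 := by
    rw [← card_center h]; rfl
  have heq : S = (Subgroup.center T : Set T) :=
    Set.eq_of_subset_of_ncard_le hsub (by rw [hc, hS]) (Set.toFinite _)
  have : w ∈ S := by rw [heq]; exact hw
  rcases this with rfl | rfl | rfl | hy
  · left; rfl
  · right; left; rfl
  · right; right; left; rfl
  · right; right; right; exact hy

theorem center_sq (h : FP ρ) {z : T} (hz : z ∈ Subgroup.center T) : z * z = 1 := by
  have := h.finite
  by_cases hz1 : z = 1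
  · rw [hz1, mul_one]
  have h4 : z ^ 4 = 1 := by
    have := pow_card_eq_one' (G := Subgroup.center T) (x := ⟨z, hz⟩)
    rw [card_center h] at this
    exact congrArg Subtype.val this
  have hzz : z * z ∈ Subgroup.center T := Subgroup.mul_mem _ hz hz
  have h44 : z ^ 4 = (z * z) * (z * z) := by
    simp only [pow_succ, pow_zero, one_mul, mul_assoc]
  rcases center_eq h hz hz1 hzz with e | e | e | e
  · exact e
  · exfalso; apply hz1
    calc z = z⁻¹ * (z * z) := by group
      _ = z⁻¹ * z := by rw [e]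
      _ = 1 := by group
  · exfalso
    -- ρρz = ρ(z²) = (ρz)² = z⁴ = 1
    have : ρ (ρ z) = 1 := by
      rw [← e, map_mul, ← e, ← h44, h4]
    exact h.rho_ne_one (h.rho_ne_one hz1) this
  · exfalso
    have e1 : ρ z * ρ z = z := by
      have := congrArg ρ e
      rw [map_mul, h.cube] at this
      exact this
    have : ρ z = 1 := by
      have e2 : ρ (ρ z) * ρ (ρ z) = ρ z := by
        have := congrArg ρ e1
        rw [map_mul] at this
        exact this
      rw [← e2, ← e, ← h44, h4]
    exact h.rho_ne_one hz1 this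

theorem center_inv (h : FP ρ) {z : T} (hz : z ∈ Subgroup.center T) : z⁻¹ = z :=
  inv_eq_of_mul_eq_one_right (center_sq h hz)

theorem center_prod (h : FP ρ) {z : T} (hz : z ∈ Subgroup.center T) : z * ρ z = ρ (ρ z) := by
  have := h.rho2 z
  rw [this, center_inv h (Subgroup.mul_mem _ hz (inv_center _ hz))]

/-! ### commutator calculus -/

theorem cm_mul_left (h : FP ρ) (u v w : T) : cm (u * v) w = cm u w * cm v w := by
  have e : cm (u * v) w = u * cm v w * u⁻¹ * cm u w := by unfold cm; group
  rw [e, center_comm (cm_mem h v w) u, mul_assoc _ u, mul_inv_cancel, mul_one,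
    ← center_comm (cm_mem h v w)]

theorem cm_mul_right (h : FP ρ) (u v w : T) : cm u (v * w) = cm u v * cm u w := by
  have e : cm u (v * w) = cm u v * (v * cm u w * v⁻¹) := by unfold cm; group
  rw [e, center_comm (cm_mem h u w) v, mul_assoc _ v, mul_inv_cancel, mul_one]

theorem cm_sq (h : FP ρ) (u v : T) : cm u v * cm u v = 1 := center_sq h (cm_mem h u v)

theorem cm_symm (h : FP ρ) (u v : T) : cm v u = cm u v := by
  have e : cm v u = (cm u v)⁻¹ := by unfold cm; group
  rw [e, center_inv h (cm_mem h u v)]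

theorem cm_one_left (u : T) : cm 1 u = 1 := by unfold cm; group
theorem cm_one_right (u : T) : cm u 1 = 1 := by unfold cm; group

theorem cm_rho (u v : T) : cm (ρ u) (ρ v) = ρ (cm u v) := by
  unfold cm; simp

theorem cm_aut (φ : MulAut T) (u v : T) : cm (φ u) (φ v) = φ (cm u v) := by
  unfold cm; simp

theorem cm_self_rho (h : FP ρ) (u : T) : cm u (ρ u) = 1 := by
  unfold cm
  rw [h.comm_rho u]; group

theorem cm_inv_left (h : FP ρ) (u v : T) : cm u⁻¹ v = cm u v := by
  have := cm_mul_left h u⁻¹ u v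
  rw [inv_mul_cancel, cm_one_left] at this
  calc cm u⁻¹ v = cm u⁻¹ v * (cm u v * cm u v) := by rw [cm_sq h, mul_one]
    _ = (cm u⁻¹ v * cm u v) * cm u v := by group
    _ = cm u v := by rw [← this, one_mul]

theorem cm_inv_right (h : FP ρ) (u v : T) : cm u v⁻¹ = cm u v := by
  rw [← cm_symm h, cm_inv_left h, cm_symm h]

theorem cm_eq_one_iff {u v : T} : cm u v = 1 ↔ u * v = v * u := by
  unfold cm
  constructor
  · intro e
    calc u * v = (u * v * u⁻¹ * v⁻¹) * (v * u) := by group
      _ = v * u := by rw [e, one_mul]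
  · intro e
    rw [e]; group

theorem cm_rho_swap (h : FP ρ) (u v : T) : cm u (ρ v) = cm (ρ u) v := by
  have e := cm_self_rho h (u * v)
  rw [map_mul, cm_mul_left h, cm_mul_right h, cm_mul_right h, cm_self_rho h, cm_self_rho h,
    one_mul, mul_one] at e
  -- cm u (ρ v) * cm v (ρ u) = 1
  have e2 : cm u (ρ v) = (cm v (ρ u))⁻¹ := eq_inv_of_mul_eq_one_left e
  rw [e2, center_inv h (cm_mem h _ _), cm_symm h]

theorem cm_rho_left (h : FP ρ) (u v : T) : cm (ρ u) v = ρ (ρ (cm u v)) := by
  -- ρ z = cm (ρu) (ρv) = cm u (ρρv) = cm u (v ρv) = z z'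
  have e1 : ρ (cm u v) = cm u v * cm (ρ u) v := by
    rw [← cm_rho, ← cm_rho_swap h u (ρ v), h.rho2 v, cm_inv_right h, cm_mul_right h,
      cm_rho_swap h u v]
  have hz := cm_mem h u v
  have e2 : cm (ρ u) v = cm u v * ρ (cm u v) := by
    rw [e1, ← mul_assoc, cm_sq h, one_mul]
  rw [e2, center_prod h hz]

theorem cm_rho_right (h : FP ρ) (u v : T) : cm u (ρ v) = ρ (ρ (cm u v)) := by
  rw [cm_rho_swap h, cm_rho_left h]

theorem sq_mem_center (h : FP ρ) (u : T) : u * u ∈ Subgroup.center T := by
  rw [Subgroup.mem_center_iff]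
  intro g
  have : cm (u * u) g = 1 := by rw [cm_mul_left h, cm_sq h]
  exact (cm_eq_one_iff.mp this).symm

theorem mul_sq (h : FP ρ) (g k : T) : (g * k) * (g * k) = cm k g * (g * g) * (k * k) := by
  have e : (g * k) * (g * k) = g * cm k g * g * k * k := by unfold cm; group
  rw [e, center_comm (cm_mem h k g) g]; group

theorem mem_M_iff_cm (h : FP ρ) {a y : T} : y ∈ M ρ a ↔ cm a y = 1 := by
  rw [mem_M, ← cm_eq_one_iff, ← cm_eq_one_iff]
  constructor
  · exact fun hy => hy.1
  · intro hy
    refine ⟨hy, ?_⟩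
    rw [cm_rho_left h, hy, map_one, map_one]

end Cfsg.Agent.Helper2.Ord64
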