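import Mathlib
import Cfsg.Agent.Helper2.Ord64B

set_option autoImplicit false

/-!
Groups of order 64 with a fixed-point-free automorphism of order 3 inverted by an involutory
automorphism: the fixed points of the involution and non-central involutions.
-/

namespace Cfsg.Agent.Helper2.Ord64

variable {T : Type*} [Group T] {ρ x : MulAut T}

/-- the hypotheses on the involutory automorphism -/
structure XP (ρ x : MulAut T) : Prop where
  sq : ∀ y : T, x (x y) = y
  inv : ∀ y : T, x (ρ y) = ρ (ρ (x y))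

/-- the central fixed point -/
structure Z0 (ρ x : MulAut T) (z0 : T) : Prop where
  mem : z0 ∈ Subgroup.center T
  ne : z0 ≠ 1
  fix : x z0 = z0
  uniq : ∀ z ∈ Subgroup.center T, x z = z → z = 1 ∨ z = z0

theorem exists_center_ne_one (h : FP ρ) : ∃ z ∈ Subgroup.center T, z ≠ 1 := by
  by_contra hc
  push Not at hc
  have : Subgroup.center T = ⊥ := by
    rw [eq_bot_iff]; intro z hz; rw [Subgroup.mem_bot]; exact hc z hz
  have h4 := card_center h
  rw [this, Subgroup.card_bot] at h4
  omega

theorem exists_z0 (h : FP ρ) (hx : XP ρ x) : ∃ z0 : T, Z0 ρ x z0 := by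
  have hnt : ∃ w ∈ Subgroup.center T, x w ≠ w := by
    by_contra hc
    push Not at hc
    obtain ⟨z, hz, hz1⟩ := exists_center_ne_one h
    have h1 := hc (ρ z) (inv_center _ hz)
    rw [hx.inv, hc z hz] at h1
    have := ρ.injective h1
    exact hz1 (h.fpf z this)
  obtain ⟨w, hw, hxw⟩ := hnt
  have hxwZ : x w ∈ Subgroup.center T := aut_mem_center x hw
  have hz0 : w * x w ∈ Subgroup.center T := Subgroup.mul_mem _ hw hxwZ
  have hz01 : w * x w ≠ 1 := by
    intro e
    apply hxw
    have : x w = w⁻¹ := eq_inv_of_mul_eq_one_right e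
    rw [this, center_inv h hw]
  have hfix : x (w * x w) = w * x w := by
    rw [map_mul, hx.sq]; exact center_comm hw (x w)
  refine ⟨w * x w, hz0, hz01, hfix, ?_⟩
  intro z hz hxz
  by_contra hc
  push Not at hc
  rcases center_eq h hz0 hz01 hz with e | e | e | e
  · exact hc.1 e
  · exact hc.2 e
  · rw [e, hx.inv, hfix] at hxz
    have := ρ.injective hxz
    exact hz01 (h.fpf _ this)
  · rw [e, hx.inv, hx.inv, hfix, h.cube] at hxz
    have := ρ.injective hxz
    exact hz01 (h.fpf _ this.symm)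

/-- the homomorphism `y ↦ y * x y` modulo the centre -/
noncomputable def kap (h : FP ρ) (x : MulAut T) : T →* T ⧸ Subgroup.center T :=
  MonoidHom.mk' (fun y => ((y : T) : T ⧸ Subgroup.center T) * ((x y : T) : T ⧸ Subgroup.center T))
    (by
      intro a b
      have hc : ((b : T) : T ⧸ Subgroup.center T) * ((x a : T) : T ⧸ Subgroup.center T) =
          ((x a : T) : T ⧸ Subgroup.center T) * ((b : T) : T ⧸ Subgroup.center T) := by
        rw [← QuotientGroup.mk_mul, ← QuotientGroup.mk_mul, QuotientGroup.eq]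
        have e : (b * x a)⁻¹ * (x a * b) = cm (x a)⁻¹ b⁻¹ := by unfold cm; group
        rw [e]; exact cm_mem h _ _
      simp only [map_mul, QuotientGroup.mk_mul]
      calc ((a : T) : T ⧸ Subgroup.center T) * b * (↑(x a) * ↑(x b))
          = ↑a * (↑b * ↑(x a)) * ↑(x b) := by group
        _ = ↑a * (↑(x a) * ↑b) * ↑(x b) := by rw [hc]
        _ = ↑a * ↑(x a) * (↑b * ↑(x b)) := by group)

theorem kap_apply (h : FP ρ) (y : T) :
    kap h x y = ((y * x y : T) : T ⧸ Subgroup.center T) := by
  rw [QuotientGroup.mk_mul]; rfl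

/-- the kernel of `kap` -/
noncomputable def K (h : FP ρ) (x : MulAut T) : Subgroup T := (kap h x).ker

theorem mem_K (h : FP ρ) {y : T} : y ∈ K h x ↔ y * x y ∈ Subgroup.center T := by
  unfold K
  rw [MonoidHom.mem_ker, kap_apply, QuotientGroup.eq_one_iff]

theorem center_le_K (h : FP ρ) : Subgroup.center T ≤ K h x := by
  intro z hz
  rw [mem_K]
  exact Subgroup.mul_mem _ hz (aut_mem_center x hz)

theorem mem_center_of_cube (h : FP ρ) {y : T} (hy : y * y * y ∈ Subgroup.center T) :
    y ∈ Subgroup.center T := by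
  have : y = (y * y * y) * (y * y)⁻¹ := by group
  rw [this]
  exact Subgroup.mul_mem _ hy (Subgroup.inv_mem _ (sq_mem_center h y))

theorem central_rearr {c d : T} (hc : c ∈ Subgroup.center T) (hd : d ∈ Subgroup.center T)
    (y : T) : y * (c * y) * (d * (c * y)) = (c * d * c) * (y * y * y) := by
  have h1 : ∀ g, g * c = c * g := center_comm hc
  have h2 : ∀ g, g * d = d * g := center_comm hd
  calc y * (c * y) * (d * (c * y)) = (y * c) * y * d * c * y := by group
    _ = (c * y) * y * d * c * y := by rw [h1 y]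
    _ = c * (y * y * d) * c * y := by group
    _ = c * (d * (y * y)) * c * y := by rw [h2 (y * y)]
    _ = c * d * ((y * y) * c) * y := by group
    _ = c * d * (c * (y * y)) * y := by rw [h1 (y * y)]
    _ = (c * d * c) * (y * y * y) := by group

theorem K_inf (h : FP ρ) (hx : XP ρ x) :
    K h x ⊓ (K h x).comap ρ.toMonoidHom = Subgroup.center T := by
  apply le_antisymm
  · rintro y ⟨hy1', hy2⟩
    have hy1 : y ∈ K h x := hy1'
    have hy2' : ρ y ∈ K h x := hy2
    rw [mem_K] at hy1 hy2'
    rw [hx.inv] at hy2'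
    -- x y = y⁻¹ * z1
    have hxy : x y = y⁻¹ * (y * x y) := by group
    rw [hxy, map_mul, map_mul, map_inv, map_inv] at hy2'
    have hz1 : ρ (ρ (y * x y)) ∈ Subgroup.center T := inv_center _ (inv_center _ hy1)
    have h3 : ρ y * (ρ (ρ y))⁻¹ ∈ Subgroup.center T := by
      have := Subgroup.mul_mem _ hy2' (Subgroup.inv_mem _ hz1)
      have e : ρ y * ((ρ (ρ y))⁻¹ * ρ (ρ (y * x y))) * (ρ (ρ (y * x y)))⁻¹ =
          ρ y * (ρ (ρ y))⁻¹ := by group
      rwa [e] at this
    have h4 : y * (ρ y)⁻¹ ∈ Subgroup.center T := by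
      rw [← Inv.iff h (inv_center (ρ := ρ))]
      rw [map_mul, map_inv]; exact h3
    -- ρ y = c * y with c central
    set c := (y * (ρ y)⁻¹)⁻¹ with hc
    have hcZ : c ∈ Subgroup.center T := Subgroup.inv_mem _ h4
    have e1 : ρ y = c * y := by rw [hc]; group
    have e2 : ρ (ρ y) = ρ c * (c * y) := by rw [← e1, ← map_mul, ← e1]
    have hρc : ρ c ∈ Subgroup.center T := inv_center _ hcZ
    have hp := h.prod3 y
    rw [e2, e1] at hp
    -- y * (c * y) * (ρ c * (c * y)) = 1
    have e3 := central_rearr hcZ hρc y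
    rw [e3] at hp
    have : y * y * y = (c * ρ c * c)⁻¹ := eq_inv_of_mul_eq_one_right hp
    apply mem_center_of_cube h
    rw [this]
    exact Subgroup.inv_mem _ (Subgroup.mul_mem _ (Subgroup.mul_mem _ hcZ hρc) hcZ)
  · intro z hz
    refine ⟨center_le_K h hz, Subgroup.mem_comap.mpr ?_⟩
    exact center_le_K h (inv_center _ hz)

theorem index_center (h : FP ρ) : (Subgroup.center T).index = 16 := by
  have := Subgroup.card_mul_index (Subgroup.center T)
  rw [card_center h, h.card] at this
  omega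

theorem self_mul_mem_K (h : FP ρ) (hx : XP ρ x) (y : T) : y * x y ∈ K h x := by
  rw [mem_K, map_mul, hx.sq]
  have e : y * x y * (x y * y) = y * (x y * x y) * y := by group
  rw [e, center_comm (sq_mem_center h (x y)) y]
  have e2 : x y * x y * y * y = (x y * x y) * (y * y) := by group
  rw [e2]
  exact Subgroup.mul_mem _ (sq_mem_center h _) (sq_mem_center h _)

theorem index_K (h : FP ρ) (hx : XP ρ x) : (K h x).index = 4 := by
  have := h.finite
  have h1 := Subgroup.index_inf_le (H := K h x) (K := (K h x).comap ρ.toMonoidHom)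
  rw [K_inf h hx, index_center h,
    Subgroup.index_comap_of_surjective (K h x) (f := ρ.toMonoidHom) ρ.surjective] at h1
  -- upper bound
  have h2 : (K h x).index = Nat.card (kap h x).range := Subgroup.index_ker _
  have hle : (kap h x).range ≤ (K h x).map (QuotientGroup.mk' (Subgroup.center T)) := by
    rintro q ⟨y, rfl⟩
    rw [kap_apply]
    exact ⟨y * x y, self_mul_mem_K h hx y, rfl⟩
  have h3 := Subgroup.card_le_of_le hle
  have h4 : ((K h x).map (QuotientGroup.mk' (Subgroup.center T))).index = (K h x).index := by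
    apply Subgroup.index_map_eq _ (QuotientGroup.mk'_surjective _)
    rw [QuotientGroup.ker_mk']
    exact center_le_K h
  have h5 := Subgroup.card_mul_index ((K h x).map (QuotientGroup.mk' (Subgroup.center T)))
  rw [h4] at h5
  have h6 : Nat.card (T ⧸ Subgroup.center T) = 16 := by
    rw [← Subgroup.index_eq_card, index_center h]
  rw [h6] at h5
  rw [← h2] at h3
  nlinarith

theorem card_K (h : FP ρ) (hx : XP ρ x) : Nat.card (K h x) = 16 := by
  have := Subgroup.card_mul_index (K h x)
  rw [index_K h hx, h.card] at this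
  omega

theorem lift_K (h : FP ρ) (hx : XP ρ x) {z0 : T} (hz : Z0 ρ x z0) {y : T} (hy : y ∈ K h x) :
    ∃ z ∈ Subgroup.center T, x (y * z) = y * z := by
  rw [mem_K] at hy
  set c := y⁻¹ * x y with hc
  have hcZ : c ∈ Subgroup.center T := by
    have e : c = (y * y)⁻¹ * (y * x y) := by rw [hc]; group
    rw [e]
    exact Subgroup.mul_mem _ (Subgroup.inv_mem _ (sq_mem_center h y)) hy
  have hxy : x y = y * c := by rw [hc]; group
  have hxc : x c = c := by
    have e := hx.sq y
    rw [hxy, map_mul, hxy] at e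
    -- y * c * x c = y
    have e2 : c * x c = 1 := by
      calc c * x c = y⁻¹ * (y * c * x c) := by group
        _ = y⁻¹ * y := by rw [e]
        _ = 1 := by group
    have : x c = c⁻¹ := eq_inv_of_mul_eq_one_right e2
    rw [this, center_inv h hcZ]
  rcases hz.uniq c hcZ hxc with e | e
  · refine ⟨1, Subgroup.one_mem _, ?_⟩
    rw [mul_one, hxy, e, mul_one]
  · refine ⟨ρ z0, inv_center _ hz.mem, ?_⟩
    rw [map_mul, hxy, e, hx.inv, hz.fix, ← center_prod h hz.mem]
    have := center_sq h hz.mem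
    calc y * z0 * (z0 * ρ z0) = y * (z0 * z0) * ρ z0 := by group
      _ = y * ρ z0 := by rw [this, mul_one]

variable {C : Subgroup T}

theorem C_le_K (h : FP ρ) (hC : ∀ y : T, y ∈ C ↔ x y = y) : C ≤ K h x := by
  intro u hu
  rw [mem_K, (hC u).mp hu]
  exact sq_mem_center h u

theorem card_C (h : FP ρ) (hx : XP ρ x) {z0 : T} (hz : Z0 ρ x z0)
    (hC : ∀ y : T, y ∈ C ↔ x y = y) : Nat.card C = 8 := by
  have := h.finite
  let π : C →* T ⧸ Subgroup.center T := (QuotientGroup.mk' (Subgroup.center T)).comp C.subtype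
  have hker : ∀ u : C, u ∈ π.ker ↔ (u : T) ∈ Subgroup.center T := by
    intro u
    rw [MonoidHom.mem_ker]
    show ((u : T) : T ⧸ Subgroup.center T) = 1 ↔ _
    rw [QuotientGroup.eq_one_iff]
  have hrange : π.range = (K h x).map (QuotientGroup.mk' (Subgroup.center T)) := by
    apply le_antisymm
    · rintro q ⟨u, rfl⟩
      exact ⟨u, C_le_K h hC u.2, rfl⟩
    · rintro q ⟨y, hy, rfl⟩
      obtain ⟨z, hzZ, hfix⟩ := lift_K h hx hz hy
      refine ⟨⟨y * z, (hC _).mpr hfix⟩, ?_⟩
      show ((y * z : T) : T ⧸ Subgroup.center T) = ((y : T) : T ⧸ Subgroup.center T)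
      rw [QuotientGroup.eq]
      have e : (y * z)⁻¹ * y = z⁻¹ := by group
      rw [e]; exact Subgroup.inv_mem _ hzZ
  have hcr : Nat.card π.range = 4 := by
    rw [hrange]
    have h4 : ((K h x).map (QuotientGroup.mk' (Subgroup.center T))).index = (K h x).index := by
      apply Subgroup.index_map_eq _ (QuotientGroup.mk'_surjective _)
      rw [QuotientGroup.ker_mk']
      exact center_le_K h
    have h5 := Subgroup.card_mul_index ((K h x).map (QuotientGroup.mk' (Subgroup.center T)))
    rw [h4, index_K h hx] at h5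
    have h6 : Nat.card (T ⧸ Subgroup.center T) = 16 := by
      rw [← Subgroup.index_eq_card, index_center h]
    rw [h6] at h5
    omega
  have hck : Nat.card π.ker = 2 := by
    rw [Nat.card_eq_two_iff' (1 : π.ker)]
    have hz0C : z0 ∈ C := (hC z0).mpr hz.fix
    refine ⟨⟨⟨z0, hz0C⟩, (hker _).mpr hz.mem⟩, ?_, ?_⟩
    · intro e
      apply hz.ne
      have := congrArg (fun u : π.ker => ((u : C) : T)) e
      exact this
    · rintro ⟨u, hu⟩ hu1
      have huZ := (hker u).mp hu
      have hux := (hC u).mp u.2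
      rcases hz.uniq _ huZ hux with e | e
      · exfalso; apply hu1
        apply Subtype.ext; apply Subtype.ext; exact e
      · apply Subtype.ext; apply Subtype.ext; exact e
  have h1 := Subgroup.card_mul_index π.ker
  rw [Subgroup.index_ker, hcr, hck] at h1
  omega

theorem exists_noncomm (h : FP ρ) (hx : XP ρ x) {z0 : T} (hz : Z0 ρ x z0)
    (hC : ∀ y : T, y ∈ C ↔ x y = y) : ∃ u1 ∈ C, ∃ u2 ∈ C, cm u1 u2 = z0 := by
  have := h.finite
  have key : ∃ u1 ∈ C, ∃ u2 ∈ C, cm u1 u2 ≠ 1 := by
    by_contra hc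
    push Not at hc
    -- some element of C outside the centre
    have h8 := card_C h hx hz hC
    obtain ⟨u1, hu1, hu1Z⟩ : ∃ u1 ∈ C, u1 ∉ Subgroup.center T := by
      by_contra hcc
      push Not at hcc
      have hle : C ≤ Subgroup.center T := hcc
      have := Subgroup.card_le_of_le hle
      rw [h8, card_center h] at this
      omega
    have hCM : C ≤ M ρ u1 := by
      intro u hu
      rw [mem_M_iff_cm h]
      exact hc u1 hu1 u hu
    have hKM : K h x ≤ M ρ u1 := by
      intro y hy
      obtain ⟨z, hzZ, hfix⟩ := lift_K h hx hz hy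
      have h1 : y * z ∈ M ρ u1 := hCM ((hC _).mpr hfix)
      have h2 : z ∈ M ρ u1 := center_le_M u1 hzZ
      have e : y = (y * z) * z⁻¹ := by group
      rw [e]
      exact Subgroup.mul_mem _ h1 (Subgroup.inv_mem _ h2)
    have heq : K h x = M ρ u1 :=
      Subgroup.eq_of_le_of_card_ge hKM (by rw [card_K h hx, card_M h hu1Z])
    have hinv : K h x ≤ (K h x).comap ρ.toMonoidHom := by
      intro y hy
      rw [Subgroup.mem_comap]
      show ρ y ∈ K h x
      rw [heq] at hy ⊢
      exact inv_M h u1 y hy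
    have := K_inf h hx (x := x)
    rw [inf_eq_left.mpr hinv] at this
    have h16 := card_K h hx (x := x)
    rw [this, card_center h] at h16
    omega
  obtain ⟨u1, hu1, u2, hu2, hne⟩ := key
  refine ⟨u1, hu1, u2, hu2, ?_⟩
  have hfix : x (cm u1 u2) = cm u1 u2 := by
    rw [← cm_aut, (hC u1).mp hu1, (hC u2).mp hu2]
  rcases hz.uniq _ (cm_mem h u1 u2) hfix with e | e
  · exact absurd e hne
  · exact e

theorem sq_C (h : FP ρ) {z0 : T} (hz : Z0 ρ x z0)
    (hC : ∀ y : T, y ∈ C ↔ x y = y) {u : T} (hu : u ∈ C) : u * u = 1 ∨ u * u = z0 := by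
  apply hz.uniq _ (sq_mem_center h u)
  rw [map_mul, (hC u).mp hu]

theorem not_center_of_cm {u v : T} (hne : cm u v ≠ 1) : u ∉ Subgroup.center T := by
  intro hu
  apply hne
  rw [cm_eq_one_iff]
  exact (center_comm hu v).symm

/-- a non-central involution -/
theorem exists_invol (h : FP ρ) (hx : XP ρ x) (hC : ∀ y : T, y ∈ C ↔ x y = y) :
    ∃ a : T, a * a = 1 ∧ a ∉ Subgroup.center T := by
  obtain ⟨z0, hz⟩ := exists_z0 h hx
  obtain ⟨u1, hu1, u2, hu2, hcm⟩ := exists_noncomm h hx hz hC
  have hne : cm u1 u2 ≠ 1 := by rw [hcm]; exact hz.ne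
  have hne' : cm u2 u1 ≠ 1 := by rw [cm_symm h]; exact hne
  rcases sq_C h hz hC hu1 with e1 | e1
  · exact ⟨u1, e1, not_center_of_cm hne⟩
  rcases sq_C h hz hC hu2 with e2 | e2
  · exact ⟨u2, e2, not_center_of_cm hne'⟩
  refine ⟨ρ u1 * u2, ?_, ?_⟩
  · rw [mul_sq h, cm_rho_right h, cm_symm h, hcm, ← map_mul, e1, e2]
    have hp := h.prod3 z0
    have hb := inv_center (ρ := ρ) _ hz.mem
    rw [center_comm hb (ρ (ρ z0)), center_comm hz.mem (ρ z0 * ρ (ρ z0)), ← mul_assoc]
    exact hp
  · intro hZ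
    have h1 : cm u1 (ρ u1 * u2) = 1 := by
      rw [cm_eq_one_iff]; exact center_comm hZ u1
    rw [cm_mul_right h, cm_self_rho h, one_mul] at h1
    exact hne h1

/-- a second involution -/
theorem exists_invol2 (h : FP ρ) {a : T} (ha : a * a = 1) (haZ : a ∉ Subgroup.center T) :
    ∃ b : T, b * b = 1 ∧ b ∉ M ρ a := by
  obtain ⟨b0, hb0⟩ : ∃ b : T, b ∉ M ρ a := by
    by_contra hc
    push Not at hc
    exact M_ne_top (ρ := ρ) haZ (by rw [eq_top_iff]; intro y _; exact hc y)
  have hzne : cm a b0 ≠ 1 := fun e => hb0 ((mem_M_iff_cm h).mpr e)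
  have hz := cm_mem h a b0
  have hρa : ρ a * ρ a = 1 := by rw [← map_mul, ha, map_one]
  have hρρa : ρ (ρ a) * ρ (ρ a) = 1 := by rw [← map_mul, hρa, map_one]
  have hnot : ∀ g ∈ M ρ a, b0 * g ∉ M ρ a := by
    intro g hg hbg
    apply hb0
    have e : b0 = (b0 * g) * g⁻¹ := by group
    rw [e]
    exact Subgroup.mul_mem _ hbg (Subgroup.inv_mem _ hg)
  rcases center_eq h hz hzne (sq_mem_center h b0) with e | e | e | e
  · exact ⟨b0, e, hb0⟩
  · refine ⟨b0 * a, ?_, hnot a (self_mem_M h a)⟩
    rw [mul_sq h, e, ha, mul_one, cm_sq h]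
  · refine ⟨b0 * ρ (ρ a), ?_, hnot _ (inv_M h a _ (rho_mem_M h a))⟩
    rw [mul_sq h, e, hρρa, mul_one, cm_rho_left h, cm_rho_left h, h.cube, ← map_mul, cm_sq h,
      map_one]
  · refine ⟨b0 * ρ a, ?_, hnot _ (rho_mem_M h a)⟩
    rw [mul_sq h, e, hρa, mul_one, cm_rho_left h, ← map_mul, ← map_mul, cm_sq h, map_one, map_one]

end Cfsg.Agent.Helper2.Ord64
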