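import Mathlib

set_option autoImplicit false

/-!
The Heisenberg group over a commutative ring, and its image in `PSL(3, F)` for the field with four
elements as a Sylow 2-subgroup.
-/

namespace Cfsg.Agent.Helper2.Ord64

/-- the Heisenberg group -/
@[ext] structure Heis (R : Type*) where
  /-- entry -/
  a : R
  /-- entry -/
  b : R
  /-- entry -/
  c : R

namespace Heis

variable {R : Type*} [CommRing R]

instance : Mul (Heis R) := ⟨fun g k => ⟨g.a + k.a, g.b + k.b, g.c + k.c + g.a * k.b⟩⟩
instance : One (Heis R) := ⟨⟨0, 0, 0⟩⟩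
instance : Inv (Heis R) := ⟨fun g => ⟨-g.a, -g.b, -g.c + g.a * g.b⟩⟩

@[simp] theorem mul_a (g k : Heis R) : (g * k).a = g.a + k.a := rfl
@[simp] theorem mul_b (g k : Heis R) : (g * k).b = g.b + k.b := rfl
@[simp] theorem mul_c (g k : Heis R) : (g * k).c = g.c + k.c + g.a * k.b := rfl
@[simp] theorem one_a : (1 : Heis R).a = 0 := rfl
@[simp] theorem one_b : (1 : Heis R).b = 0 := rfl
@[simp] theorem one_c : (1 : Heis R).c = 0 := rfl
@[simp] theorem inv_a (g : Heis R) : (g⁻¹).a = -g.a := rfl
@[simp] theorem inv_b (g : Heis R) : (g⁻¹).b = -g.b := rfl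
@[simp] theorem inv_c (g : Heis R) : (g⁻¹).c = -g.c + g.a * g.b := rfl

instance : Group (Heis R) where
  mul_assoc := by intro x y z; ext <;> simp <;> ring
  one_mul := by intro x; ext <;> simp
  mul_one := by intro x; ext <;> simp
  inv_mul_cancel := by intro x; ext <;> simp

/-- the matrix -/
def toMat (g : Heis R) : Matrix (Fin 3) (Fin 3) R := !![1, g.a, g.c; 0, 1, g.b; 0, 0, 1]

theorem toMat_det (g : Heis R) : (toMat g).det = 1 := by
  rw [Matrix.det_fin_three]; simp [toMat]

theorem toMat_mul (g k : Heis R) : toMat (g * k) = toMat g * toMat k := by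
  ext i j
  fin_cases i <;> fin_cases j <;> simp [toMat, Matrix.mul_apply, Fin.sum_univ_three] <;> ring

/-- into the special linear group -/
def toSL : Heis R →* Matrix.SpecialLinearGroup (Fin 3) R where
  toFun g := ⟨toMat g, toMat_det g⟩
  map_one' := by
    apply Subtype.ext
    ext i j
    fin_cases i <;> fin_cases j <;> simp [toMat]
  map_mul' := by
    intro g k
    apply Subtype.ext
    exact toMat_mul g k

/-- into the projective special linear group -/
def toPSL : Heis R →* Matrix.ProjectiveSpecialLinearGroup (Fin 3) R :=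
  (QuotientGroup.mk' (Subgroup.center (Matrix.SpecialLinearGroup (Fin 3) R))).comp toSL

theorem toPSL_injective : Function.Injective (toPSL (R := R)) := by
  rw [injective_iff_map_eq_one]
  intro g hg
  have h1 : toSL g ∈ Subgroup.center (Matrix.SpecialLinearGroup (Fin 3) R) := by
    rw [← QuotientGroup.eq_one_iff]; exact hg
  rw [Matrix.SpecialLinearGroup.mem_center_iff] at h1
  obtain ⟨r, -, hr⟩ := h1
  have e : ∀ i j, (Matrix.scalar (Fin 3) r) i j = toMat g i j := by
    intro i j
    have := congrArg (fun A : Matrix (Fin 3) (Fin 3) R => A i j) hr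
    exact this
  have e01 := e 0 1
  have e02 := e 0 2
  have e12 := e 1 2
  simp [toMat, Matrix.scalar_apply] at e01 e02 e12
  ext
  · exact e01.symm
  · exact e12.symm
  · exact e02.symm

/-- as a product -/
def equivProd : Heis R ≃ R × R × R where
  toFun g := (g.a, g.b, g.c)
  invFun t := ⟨t.1, t.2.1, t.2.2⟩
  left_inv _ := rfl
  right_inv _ := rfl

theorem card_eq {F : Type*} [Field F] [Fintype F] (hF : Fintype.card F = 4) :
    Nat.card (Heis F) = 64 := by
  rw [Nat.card_congr (equivProd (R := F)), Nat.card_prod, Nat.card_prod,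
    Nat.card_eq_fintype_card, hF]

theorem exists_sylow {F : Type*} [Field F] [Fintype F] (hF : Fintype.card F = 4) :
    ∃ S : Sylow 2 (Matrix.ProjectiveSpecialLinearGroup (Fin 3) F),
      Nonempty (Heis F ≃* ↥(S : Subgroup (Matrix.ProjectiveSpecialLinearGroup (Fin 3) F))) := by
  classical
  have : Fact (Nat.Prime 2) := ⟨Nat.prime_two⟩
  let e := MonoidHom.ofInjective (toPSL_injective (R := F))
  have hcU : Nat.card (toPSL (R := F)).range = 64 := by
    rw [← Nat.card_congr e.toEquiv, card_eq hF]
  have hU : IsPGroup 2 (toPSL (R := F)).range :=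
    IsPGroup.of_card (n := 6) (by rw [hcU]; norm_num)
  obtain ⟨S, hUS⟩ := hU.exists_le_sylow
  obtain ⟨k, hk⟩ := IsPGroup.iff_card.mp S.isPGroup'
  have hGL : Nat.card (GL (Fin 3) F) = 181440 := by
    rw [Matrix.card_GL_field, hF, Fin.prod_univ_three]
    norm_num
  have hd1 : Nat.card (Matrix.SpecialLinearGroup (Fin 3) F) ∣ 181440 := by
    rw [← hGL]
    exact Subgroup.card_dvd_of_injective Matrix.SpecialLinearGroup.toGL
      Matrix.SpecialLinearGroup.toGL_injective
  have hd2 : Nat.card (Matrix.ProjectiveSpecialLinearGroup (Fin 3) F) ∣ 181440 :=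
    (Subgroup.card_quotient_dvd_card _).trans hd1
  have hd3 : 2 ^ k ∣ 181440 := by
    rw [← hk]
    exact (Subgroup.card_subgroup_dvd_card _).trans hd2
  have hk6 : k ≤ 6 := by
    by_contra hc
    push Not at hc
    have : 2 ^ 7 ∣ 181440 := (pow_dvd_pow 2 hc).trans hd3
    norm_num at this
  have hS : Nat.card (S : Subgroup (Matrix.ProjectiveSpecialLinearGroup (Fin 3) F)) ≤ 64 := by
    rw [hk]
    calc 2 ^ k ≤ 2 ^ 6 := Nat.pow_le_pow_right (by norm_num) hk6
      _ = 64 := by norm_num
  have hfin : Finite (Matrix.ProjectiveSpecialLinearGroup (Fin 3) F) := inferInstance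
  have heq : (toPSL (R := F)).range = (S : Subgroup (Matrix.ProjectiveSpecialLinearGroup (Fin 3) F)) :=
    Subgroup.eq_of_le_of_card_ge hUS (by rw [hcU]; exact hS)
  exact ⟨S, ⟨e.trans (MulEquiv.subgroupCongr heq)⟩⟩

end Heis

end Cfsg.Agent.Helper2.Ord64
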