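import Mathlib
import Cfsg.Agent.Helper7.F4Mat
import Cfsg.Agent.Helper2.Ord64C
import Cfsg.Agent.Helper2.Ord64D

set_option autoImplicit false

/-!
Groups of order 64 with a fixed-point-free automorphism of order 3 and two suitable involutions:
the isomorphism with the Heisenberg group over the field with four elements.
-/

namespace Cfsg.Agent.Helper2.Ord64

open Cfsg.Agent.Helper7.F4Mat

variable {T : Type*} [Group T] {ρ : MulAut T}

/-- the orbit of `a` together with the identity, indexed by the field with four elements -/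
def P (ρ : MulAut T) (a : T) : F4 → T
  | F4.z => 1
  | F4.o => a
  | F4.w => ρ a
  | F4.v => ρ (ρ a)

/-- the same with the Frobenius twist -/
def Q (ρ : MulAut T) (c : T) (α : F4) : T := P ρ c (α * α)

theorem invol_rho {a : T} (ha : a * a = 1) : ρ a * ρ a = 1 := by
  rw [← map_mul, ha, map_one]

theorem invol_rr (h : FP ρ) {a : T} (ha : a * a = 1) : ρ (ρ a) = a * ρ a := by
  rw [h.rho2 a]
  have h1 : a⁻¹ = a := inv_eq_of_mul_eq_one_right ha
  have h2 : (ρ a)⁻¹ = ρ a := inv_eq_of_mul_eq_one_right (invol_rho ha)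
  rw [mul_inv_rev, h1, h2, ← h.comm_rho a]

theorem P_add (h : FP ρ) {a : T} (ha : a * a = 1) (α β : F4) :
    P ρ a (α + β) = P ρ a α * P ρ a β := by
  have h1 := invol_rho (ρ := ρ) ha
  have h2 := invol_rr h ha
  have h3 := h.comm_rho a
  have r1 : a * ρ a = ρ (ρ a) := h2.symm
  have r2 : ρ a * a = ρ (ρ a) := by rw [← h3, h2]
  have r3 : a * ρ (ρ a) = ρ a := by rw [h2, ← mul_assoc, ha, one_mul]
  have r4 : ρ (ρ a) * a = ρ a := by rw [h2, h3, mul_assoc, ha, mul_one]
  have r5 : ρ a * ρ (ρ a) = a := by rw [h2, h3, ← mul_assoc, h1, one_mul]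
  have r6 : ρ (ρ a) * ρ a = a := by rw [h2, mul_assoc, h1, mul_one]
  have r7 : ρ (ρ a) * ρ (ρ a) = 1 := invol_rho h1
  cases α <;> cases β <;>
    simp only [P, F4.add_def, F4.add, one_mul, mul_one, ha, h1, r1, r2, r3, r4, r5, r6, r7]

theorem frob_add (α β : F4) : (α + β) * (α + β) = α * α + β * β := by
  revert α β; decide

theorem Q_add (h : FP ρ) {c : T} (hc : c * c = 1) (α β : F4) :
    Q ρ c (α + β) = Q ρ c α * Q ρ c β := by
  unfold Q
  rw [frob_add, P_add h hc]

theorem P_mem_M (h : FP ρ) (a : T) (α : F4) : P ρ a α ∈ M ρ a := by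
  cases α
  · exact Subgroup.one_mem _
  · exact self_mem_M h a
  · exact rho_mem_M h a
  · exact inv_M h a _ (rho_mem_M h a)

theorem P_mem_center {c : T} (hc : c ∈ Subgroup.center T) (α : F4) :
    P ρ c α ∈ Subgroup.center T := by
  cases α
  · exact Subgroup.one_mem _
  · exact hc
  · exact inv_center _ hc
  · exact inv_center _ (inv_center _ hc)

theorem Q_mem_center {c : T} (hc : c ∈ Subgroup.center T) (α : F4) :
    Q ρ c α ∈ Subgroup.center T := P_mem_center hc _

theorem cm_P (h : FP ρ) (a b : T) (α β : F4) :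
    cm (P ρ a α) (P ρ b β) = Q ρ (cm a b) (α * β) := by
  cases α <;> cases β <;>
    simp [P, Q, F4.mul_def, F4.mul, cm_one_left, cm_one_right, cm_rho_left h, cm_rho_right h,
      h.cube]

theorem P_eq_one_of_mem {H : Subgroup T} (h : FP ρ) (hH : Inv ρ H) {b : T} (hb : b ∉ H)
    {β : F4} (hβ : P ρ b β ∈ H) : β = 0 := by
  cases β
  · rfl
  · exact absurd hβ hb
  · exfalso; apply hb
    have : ρ b ∈ H := hβ
    exact (Inv.iff h hH b).mp this
  · exfalso; apply hb
    have : ρ (ρ b) ∈ H := hβ
    exact (Inv.iff h hH b).mp ((Inv.iff h hH _).mp this)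

theorem rearr {p q p' q' c c' d : T} (hc : c ∈ Subgroup.center T)
    (hd : d ∈ Subgroup.center T) (hpq : q * p' = d * p' * q) :
    (p * p') * (q * q') * (c * c' * d) = (p * q * c) * (p' * q' * c') := by
  have hc1 : ∀ g, g * c = c * g := center_comm hc
  have hd1 : ∀ g, g * d = d * g := center_comm hd
  symm
  calc (p * q * c) * (p' * q' * c') = p * q * (c * (p' * q')) * c' := by group
    _ = p * q * ((p' * q') * c) * c' := by rw [← hc1 (p' * q')]
    _ = p * (q * p') * q' * (c * c') := by group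
    _ = p * (d * p' * q) * q' * (c * c') := by rw [hpq]
    _ = (p * d) * (p' * q * q' * (c * c')) := by group
    _ = (d * p) * (p' * q * q' * (c * c')) := by rw [hd1 p]
    _ = d * (p * p' * (q * q') * (c * c')) := by group
    _ = (p * p' * (q * q') * (c * c')) * d := by rw [hd1]
    _ = (p * p') * (q * q') * (c * c' * d) := by group

/-- the isomorphism -/
theorem exists_iso (h : FP ρ) {a b : T} (ha : a * a = 1) (haZ : a ∉ Subgroup.center T)
    (hb : b * b = 1) (hbM : b ∉ M ρ a) : Nonempty (Heis F4 ≃* T) := by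
  have := h.finite
  have hc := cm_mem h a b
  have hc2 := cm_sq h a b
  have hc1 : cm a b ≠ 1 := fun e => hbM ((mem_M_iff_cm h).mpr e)
  let Φ : Heis F4 →* T :=
    { toFun := fun g => P ρ b g.b * P ρ a g.a * Q ρ (cm a b) g.c
      map_one' := by
        show P ρ b 0 * P ρ a 0 * Q ρ (cm a b) 0 = 1
        have e0 : (0 : F4) = F4.z := rfl
        simp [P, Q, e0, F4.mul_def, F4.mul]
      map_mul' := by
        intro g k
        show P ρ b (g.b + k.b) * P ρ a (g.a + k.a) * Q ρ (cm a b) (g.c + k.c + g.a * k.b) = _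
        rw [P_add h hb, P_add h ha, Q_add h hc2, Q_add h hc2]
        apply rearr (Q_mem_center hc _) (Q_mem_center hc _)
        rw [← cm_P h a b]
        unfold cm; group }
  have hinj : Function.Injective Φ := by
    rw [injective_iff_map_eq_one]
    intro g hg
    have hg' : P ρ b g.b * P ρ a g.a * Q ρ (cm a b) g.c = 1 := hg
    have h1 : P ρ b g.b ∈ M ρ a := by
      have e : P ρ b g.b = (P ρ a g.a * Q ρ (cm a b) g.c)⁻¹ := by
        rw [mul_assoc] at hg'
        exact eq_inv_of_mul_eq_one_left hg'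
      rw [e]
      exact Subgroup.inv_mem _ (Subgroup.mul_mem _ (P_mem_M h a _)
        (center_le_M a (Q_mem_center hc _)))
    have hb0 := P_eq_one_of_mem h (inv_M h a) hbM h1
    rw [hb0] at hg'
    have e0 : (0 : F4) = F4.z := rfl
    have hP0 : P ρ b 0 = 1 := by rw [e0]; rfl
    rw [hP0, one_mul] at hg'
    have h2 : P ρ a g.a ∈ Subgroup.center T := by
      have e : P ρ a g.a = (Q ρ (cm a b) g.c)⁻¹ := eq_inv_of_mul_eq_one_left hg'
      rw [e]
      exact Subgroup.inv_mem _ (Q_mem_center hc _)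
    have ha0 := P_eq_one_of_mem h (inv_center (ρ := ρ)) haZ h2
    rw [ha0] at hg'
    have hP0' : P ρ a 0 = 1 := by rw [e0]; rfl
    rw [hP0', one_mul] at hg'
    have hc0 : g.c = 0 := by
      have hQ : P ρ (cm a b) (g.c * g.c) ∈ (⊥ : Subgroup T) := by
        rw [Subgroup.mem_bot]; exact hg'
      have hbot : Inv ρ (⊥ : Subgroup T) := by
        intro y hy
        rw [Subgroup.mem_bot] at hy ⊢
        rw [hy, map_one]
      have hcb : cm a b ∉ (⊥ : Subgroup T) := by
        rw [Subgroup.mem_bot]; exact hc1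
      have := P_eq_one_of_mem h hbot hcb hQ
      revert this
      generalize g.c = γ
      revert γ; decide
    ext
    · exact ha0
    · exact hb0
    · exact hc0
  have hbij : Function.Bijective Φ := by
    rw [Nat.bijective_iff_injective_and_card]
    exact ⟨hinj, by rw [Heis.card_eq F4.card, h.card]⟩
  exact ⟨MulEquiv.ofBijective Φ hbij⟩

end Cfsg.Agent.Helper2.Ord64
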