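import Mathlib
import Cfsg.Agent.Helper2.Ord64E
import Cfsg.Agent.Helper8.Dihedral8
import Cfsg.Agent.S0016

set_option autoImplicit false

/-!
Groups of order 64 with a fixed-point-free automorphism of order 3 inverted by an involutory
automorphism: the fixed points of the involution form a dihedral or quaternion group of order 8,
and the main theorem.
-/

namespace Cfsg.Agent.Helper2.Ord64

open Cfsg.Agent.Helper7.F4Mat

variable {T : Type*} [Group T] {ρ x : MulAut T} {C : Subgroup T}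

theorem uniq_of_invol {E : Type*} [Group E] [Finite E] (e0 : E)
    (hE : ∀ u : E, u * u = 1 → u = 1 ∨ u = e0) (H K : Subgroup E) (hH : Nat.card H = 2)
    (hK : Nat.card K = 2) : H = K := by
  have key : ∀ L : Subgroup E, Nat.card L = 2 → e0 ∈ L ∧ orderOf e0 = 2 := by
    intro L hL
    have hne : L ≠ ⊥ := by
      intro hb
      rw [hb, Subgroup.card_bot] at hL
      omega
    obtain ⟨g, hg, hg1⟩ := (Subgroup.ne_bot_iff_exists_ne_one).mp hne |>.imp
      (fun g hg => hg) |> fun ⟨g, hg⟩ => (⟨g.1, g.2, fun h => hg (Subtype.ext h)⟩ :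
        ∃ g : E, g ∈ L ∧ g ≠ 1)
    have hg2 : g * g = 1 := by
      have := pow_card_eq_one' (G := ↥L) (x := ⟨g, hg⟩)
      rw [hL] at this
      have e := congrArg Subtype.val this
      simpa [pow_two] using e
    rcases hE g hg2 with e | e
    · exact absurd e hg1
    · subst e
      refine ⟨hg, ?_⟩
      apply orderOf_eq_prime
      · rw [pow_two]; exact hg2
      · exact hg1
  obtain ⟨h1, ho⟩ := key H hH
  obtain ⟨h2, -⟩ := key K hK
  have e1 : Subgroup.zpowers e0 = H := by
    apply Subgroup.eq_of_le_of_card_ge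
    · rw [Subgroup.zpowers_le]; exact h1
    · rw [hH, Nat.card_zpowers, ho]
  have e2 : Subgroup.zpowers e0 = K := by
    apply Subgroup.eq_of_le_of_card_ge
    · rw [Subgroup.zpowers_le]; exact h2
    · rw [hK, Nat.card_zpowers, ho]
  rw [← e1, ← e2]

theorem C_structure (h : FP ρ) (hx : XP ρ x) (hC : ∀ y : T, y ∈ C ↔ x y = y) :
    Nonempty (↥C ≃* DihedralGroup 4) ∨ Nonempty (↥C ≃* QuaternionGroup 2) := by
  have := h.finite
  have : Fact (Nat.Prime 2) := ⟨Nat.prime_two⟩
  obtain ⟨z0, hz⟩ := exists_z0 h hx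
  obtain ⟨u1, hu1, u2, hu2, hcm⟩ := exists_noncomm h hx hz hC
  have hne : cm u1 u2 ≠ 1 := by rw [hcm]; exact hz.ne
  have h8 := card_C h hx hz hC
  by_cases hcase : ∃ u ∈ C, u * u = 1 ∧ ∃ t ∈ C, t * u * t⁻¹ ≠ u
  · left
    obtain ⟨u, hu, huu, t, ht, htu⟩ := hcase
    apply Cfsg.Agent.Helper8.Dihedral8.exists_mulEquiv h8 (⟨u, hu⟩ : C) (⟨t, ht⟩ : C)
    · apply Subtype.ext; exact huu
    · intro e
      apply htu
      exact congrArg Subtype.val e
  · right
    push Not at hcase
    have hz0C : z0 ∈ C := (hC z0).mpr hz.fix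
    have hinv : ∀ u : C, u * u = 1 → u = 1 ∨ u = ⟨z0, hz0C⟩ := by
      intro u huu
      have huu' : (u : T) * u = 1 := congrArg Subtype.val huu
      have hcen : ∀ t ∈ C, t * (u : T) = u * t := by
        intro t ht
        have := hcase u u.2 huu' t ht
        calc t * (u : T) = (t * u * t⁻¹) * t := by group
          _ = u * t := by rw [this]
      have huZ : (u : T) ∈ Subgroup.center T := by
        by_contra huZ
        apply hne
        have m1 : u1 ∈ M ρ (u : T) := by
          rw [mem_M_iff_cm h, cm_eq_one_iff]; exact (hcen u1 hu1).symm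
        have m2 : u2 ∈ M ρ (u : T) := by
          rw [mem_M_iff_cm h, cm_eq_one_iff]; exact (hcen u2 hu2).symm
        rw [cm_eq_one_iff]
        exact M_comm h huZ m1 m2
      rcases hz.uniq _ huZ ((hC u).mp u.2) with e | e
      · left; apply Subtype.ext; exact e
      · right; apply Subtype.ext; exact e
    have huniq := uniq_of_invol (⟨z0, hz0C⟩ : C) hinv
    have hp : IsPGroup 2 C := IsPGroup.of_card (n := 3) (by rw [h8]; norm_num)
    rcases Cfsg.Agent.S0016.result 2 hp huniq with hcyc | ⟨-, n, ⟨φ⟩⟩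
    · exfalso
      apply hne
      rw [cm_eq_one_iff]
      obtain ⟨g, hg⟩ := hcyc.exists_generator
      obtain ⟨i, hi⟩ := Subgroup.mem_zpowers_iff.mp (hg ⟨u1, hu1⟩)
      obtain ⟨j, hj⟩ := Subgroup.mem_zpowers_iff.mp (hg ⟨u2, hu2⟩)
      have : (⟨u1, hu1⟩ : C) * ⟨u2, hu2⟩ = ⟨u2, hu2⟩ * ⟨u1, hu1⟩ := by
        rw [← hi, ← hj, ← zpow_add, ← zpow_add, add_comm]
      exact congrArg Subtype.val this
    · have hn : n = 1 := by
        have h1 := Nat.card_congr φ.toEquiv
        rw [h8, Nat.card_eq_fintype_card, QuaternionGroup.card] at h1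
        have h2 : 2 ^ n = 2 ^ 1 := by omega
        exact Nat.pow_right_injective (le_refl 2) h2
      subst hn
      exact ⟨φ⟩

theorem main (h : FP ρ) (hx : XP ρ x) (hC : ∀ y : T, y ∈ C ↔ x y = y) :
    (∃ S : Sylow 2 (Matrix.ProjectiveSpecialLinearGroup (Fin 3) F4),
        Nonempty (T ≃* ↥(S : Subgroup (Matrix.ProjectiveSpecialLinearGroup (Fin 3) F4)))) ∧
      (Nonempty (↥C ≃* DihedralGroup 4) ∨ Nonempty (↥C ≃* QuaternionGroup 2)) := by
  refine ⟨?_, C_structure h hx hC⟩
  obtain ⟨a, ha, haZ⟩ := exists_invol h hx hC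
  obtain ⟨b, hb, hbM⟩ := exists_invol2 h ha haZ
  obtain ⟨e⟩ := exists_iso h ha haZ hb hbM
  obtain ⟨S, ⟨e2⟩⟩ := Heis.exists_sylow F4.card
  exact ⟨S, ⟨e.symm.trans e2⟩⟩

end Cfsg.Agent.Helper2.Ord64
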