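import Mathlib
import Cfsg.Agent.Helper2.SimpleSmall3
import Cfsg.Agent.Helper2.Ord1040
import Cfsg.Agent.S0071

/-!
# No simple group of order 756 (helper2, for S0496)

The Sylow 3-subgroups are self-normalizing; no element of order 7 commutes with an element of
order 3; no 2-element inverts an element of order 3. Frobenius' criterion then gives a normal
3-complement.
-/

set_option autoImplicit false
set_option maxRecDepth 8192
set_option synthInstance.maxSize 2048

namespace Cfsg.Agent.Helper2.SimpleSmall2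

open Subgroup

/-- normalizers grow in `p`-groups -/
theorem exists_mem_normalizer_not_mem {G : Type*} [Group G] [Finite G] {p : ℕ}
    [hp : Fact p.Prime] (P : Sylow p G) (D : Subgroup G) (hDP : D ≤ (P : Subgroup G))
    (hne : D ≠ (P : Subgroup G)) :
    ∃ y ∈ (P : Subgroup G), y ∈ normalizer (D : Set G) ∧ y ∉ D := by
  have hnil : Group.IsNilpotent (P : Subgroup G) := P.isPGroup'.isNilpotent
  have hnc : NormalizerCondition (P : Subgroup G) := Group.normalizerCondition_of_isNilpotent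
  have hlt : D.subgroupOf (P : Subgroup G) < ⊤ := by
    rw [lt_top_iff_ne_top]
    intro h
    rw [Subgroup.subgroupOf_eq_top] at h
    exact hne (le_antisymm hDP h)
  have h2 := hnc _ hlt
  obtain ⟨y, hy1, hy2⟩ := SetLike.exists_of_lt h2
  refine ⟨(y : G), y.2, ?_, ?_⟩
  · have : y ∈ (normalizer (D : Set G)).subgroupOf (P : Subgroup G) := by
      rw [Subgroup.subgroupOf_normalizer_eq hDP]; exact hy1
    exact Subgroup.mem_subgroupOf.mp this
  · intro h
    exact hy2 (Subgroup.mem_subgroupOf.mpr h)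

section ord756

variable {G : Type*} [Group G] [Finite G] [IsSimpleGroup G]

theorem ord756_sylow3 (h : Nat.card G = 756) [Fact (Nat.Prime 3)] (P : Sylow 3 G) :
    Nat.card P = 27 ∧ normalizer ((P : Subgroup G) : Set G) = (P : Subgroup G) := by
  have hcard : Nat.card G = 3 ^ 3 * 28 := h.trans (by norm_num)
  obtain ⟨d, hd, h1, h2, h3, h4, -⟩ :=
    sylow_count2 (G := G) 3 3 28 hcard (by norm_num) (by norm_num) (by norm_num)
  have hle : d ≤ 28 := Nat.le_of_dvd (by norm_num) h1
  have hd28 : d = 28 := by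
    have h4' : d ≤ 20 → 3 ^ 3 * 28 ∣ d.factorial := fun _ => h4
    have key : ∀ d ≤ 28, (d ∣ 28 ∧ d % 3 = 1 ∧ d ≠ 1 ∧
        (d ≤ 20 → 3 ^ 3 * 28 ∣ d.factorial)) → d = 28 := by decide
    exact key d hle ⟨h1, h2, h3, h4'⟩
  subst hd28
  have hPc : Nat.card P = 27 := by
    have := SylowExact.card_sylow_of_exact_pow hcard (by norm_num) P
    rw [this]; norm_num
  have hNS := SmallOrder.card_normalizer_mul_card_sylow P
  rw [← hd, h] at hNS
  have hNc : Nat.card (normalizer ((P : Subgroup G) : Set G)) = 27 := by omega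
  exact ⟨hPc, (Subgroup.eq_of_le_of_card_ge le_normalizer (by rw [hNc, hPc])).symm⟩

theorem ord756_sylow7 (h : Nat.card G = 756) [Fact (Nat.Prime 7)]
    (P : Sylow 7 G) :
    Nat.card P = 7 ∧ Nat.card (centralizer ((P : Subgroup G) : Set G)) = 7 := by
  have hcard : Nat.card G = 7 ^ 1 * 108 := h.trans (by norm_num)
  obtain ⟨d, hd, h1, h2, h3, h4, h5⟩ :=
    sylow_count2 (G := G) 7 1 108 hcard (by norm_num) (by norm_num) (by norm_num)
  have hle : d ≤ 108 := Nat.le_of_dvd (by norm_num) h1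
  have hd36 : d = 36 := by
    have h4' : d ≤ 20 → 7 ^ 1 * 108 ∣ d.factorial := fun _ => h4
    have key : ∀ d ≤ 108, (d ∣ 108 ∧ d % 7 = 1 ∧ d ≠ 1 ∧
        (d ≤ 20 → 7 ^ 1 * 108 ∣ d.factorial) ∧
        (1 = 1 → ¬ Nat.Coprime (7 ^ 1 * 108 / d) (7 - 1))) → d = 36 := by decide
    exact key d hle ⟨h1, h2, h3, h4', h5⟩
  subst hd36
  have hPc : Nat.card P = 7 := by
    have := SylowExact.card_sylow_of_exact_pow hcard (by norm_num) P
    rwa [pow_one] at this
  have hNS := SmallOrder.card_normalizer_mul_card_sylow P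
  rw [← hd, h] at hNS
  have hNc : Nat.card (normalizer ((P : Subgroup G) : Set G)) = 21 := by omega
  have hPcyc : IsCyclic (P : Subgroup G) := isCyclic_of_prime_card hPc
  have hrel := SmallOrder.relIndex_centralizer_normalizer_dvd (P : Subgroup G) hPcyc
  rw [hPc, Nat.totient_prime (by norm_num)] at hrel
  have hmul : Nat.card ((centralizer ((P : Subgroup G) : Set G)).subgroupOf
      (normalizer ((P : Subgroup G) : Set G))) *
      (centralizer ((P : Subgroup G) : Set G)).relIndex
        (normalizer ((P : Subgroup G) : Set G)) = 21 := by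
    rw [← hNc]; exact Subgroup.card_mul_index _
  have hCc : Nat.card ((centralizer ((P : Subgroup G) : Set G)).subgroupOf
      (normalizer ((P : Subgroup G) : Set G))) =
      Nat.card (centralizer ((P : Subgroup G) : Set G)) :=
    Nat.card_congr (Subgroup.subgroupOfEquivOfLe (centralizer_le_normalizer _)).toEquiv
  rw [hCc] at hmul
  have hrel1 : (centralizer ((P : Subgroup G) : Set G)).relIndex
      (normalizer ((P : Subgroup G) : Set G)) ≠ 1 := by
    intro h1
    exact false_of_normalizer_le_centralizer P (by rw [hPc]; norm_num)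
      (by rw [hPc, h]; norm_num) (Subgroup.relIndex_eq_one.mp h1)
  refine ⟨hPc, ?_⟩
  have key : ∀ r ≤ 6, ∀ c ≤ 21, r ∣ 6 → c * r = 21 → r ≠ 1 → c = 7 := by decide
  exact key _ (Nat.le_of_dvd (by norm_num) hrel) _
    (Nat.le_of_dvd (by norm_num) (Dvd.intro _ hmul)) hrel hmul hrel1

/-- no element of order 7 commutes with an element of order 3 -/
theorem ord756_not_commute (h : Nat.card G = 756) (x q : G)
    (hx : orderOf x = 7) (hq : orderOf q = 3) (hc : Commute x q) : False := by
  have h7 : Fact (Nat.Prime 7) := ⟨by norm_num⟩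
  have hxp : IsPGroup 7 (zpowers x) :=
    IsPGroup.of_card (n := 1) (by rw [Nat.card_zpowers, hx, pow_one])
  obtain ⟨P, hP⟩ := hxp.exists_le_sylow
  obtain ⟨hPc, hCc⟩ := ord756_sylow7 h P
  have hPeq : zpowers x = (P : Subgroup G) :=
    Subgroup.eq_of_le_of_card_ge hP (by rw [hPc, Nat.card_zpowers, hx])
  have hqC : q ∈ centralizer ((P : Subgroup G) : Set G) := by
    rw [← hPeq, mem_centralizer_iff]
    intro y hy
    obtain ⟨i, rfl⟩ := mem_zpowers_iff.mp hy
    exact (hc.zpow_left i).eq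
  have := Subgroup.orderOf_dvd_natCard _ hqC
  rw [hq, hCc] at this
  omega

/-- a proper subgroup containing a Sylow 3-subgroup is that Sylow subgroup -/
theorem ord756_card_of_sylow3_le (h : Nat.card G = 756) [Fact (Nat.Prime 3)] (P : Sylow 3 G)
    (K : Subgroup G) (hPK : (P : Subgroup G) ≤ K) (hK : K ≠ ⊤) : Nat.card K = 27 := by
  obtain ⟨hPc, hNP⟩ := ord756_sylow3 h P
  have hcount := card_sylow_subgroup_mul P K hPK
  rw [hNP, inf_of_le_left hPK, hPc] at hcount
  have hmod := card_sylow_modEq_one 3 K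
  have hfact := SmallOrder.card_dvd_factorial_index K hK
  have hidx := K.card_mul_index
  rw [h] at hfact hidx
  rw [← hcount] at hidx ⊢
  have hfact' : K.index ≤ 20 → 756 ∣ (K.index).factorial := fun _ => hfact
  have key : ∀ s ≤ 28, ∀ j ≤ 28, s * 27 * j = 756 → s % 3 = 1 % 3 →
      (j ≤ 20 → 756 ∣ j.factorial) → s * 27 = 27 := by decide
  have hs : Nat.card (Sylow 3 K) ≤ 28 := by
    have : 0 < K.index := Nat.pos_of_ne_zero Subgroup.index_ne_zero_of_finite
    nlinarith
  have hj : K.index ≤ 28 := by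
    have : 0 < Nat.card (Sylow 3 K) := Nat.card_pos
    nlinarith
  exact key _ hs _ hj hidx hmod hfact'

end ord756

/-- strict inclusion of finite subgroups gives strict inequality of orders -/
theorem card_lt_card_of_lt_subgroup {G : Type*} [Group G] [Finite G] {H K : Subgroup G}
    (h : H < K) : Nat.card H < Nat.card K := by
  rcases (Subgroup.card_le_of_le h.le).lt_or_eq with h1 | h1
  · exact h1
  · exact absurd (Subgroup.eq_of_le_of_card_ge h.le h1.ge) h.ne

/-- an element normalizing a `3`-group `Q` and not centralizing it, whose square centralizes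
`Q`, inverts an element of order 3 -/
theorem exists_inverted_of_not_mem_centralizer {G : Type*} [Group G] [Finite G]
    (Q : Subgroup G) (hQ : IsPGroup 3 Q) (w : G) (hwN : w ∈ normalizer (Q : Set G))
    (hw2 : w ^ 2 ∈ centralizer (Q : Set G)) (hwC : w ∉ centralizer (Q : Set G)) :
    ∃ q : G, orderOf q = 3 ∧ w * q * w⁻¹ = q⁻¹ := by
  rw [mem_centralizer_iff] at hwC
  push Not at hwC
  obtain ⟨x, hxQ, hxw⟩ := hwC
  have hxQ' : x ∈ Q := hxQ
  have hconjQ : w * x * w⁻¹ ∈ Q := (mem_normalizer_iff.mp hwN x).mp hxQ'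
  set q1 : G := x⁻¹ * (w * x * w⁻¹) with hq1
  have hq1Q : q1 ∈ Q := Q.mul_mem (Q.inv_mem hxQ') hconjQ
  have hq1ne : q1 ≠ 1 := by
    intro h1
    apply hxw
    have : w * x * w⁻¹ = x := by
      have := congrArg (fun y => x * y) h1
      simpa [hq1, mul_assoc] using this
    calc x * w = w * x * w⁻¹ * w := by rw [this]
      _ = w * x := by group
  have hw2x : w ^ 2 * x = x * w ^ 2 := ((mem_centralizer_iff.mp hw2) x hxQ').symm
  have hinv1 : w * q1 * w⁻¹ = q1⁻¹ := by
    have e1 : w * (w * x * w⁻¹) * w⁻¹ = x := by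
      calc w * (w * x * w⁻¹) * w⁻¹ = w ^ 2 * x * (w ^ 2)⁻¹ := by
            rw [pow_two, mul_inv_rev]; simp only [mul_assoc]
        _ = x * w ^ 2 * (w ^ 2)⁻¹ := by rw [hw2x]
        _ = x := by rw [mul_assoc, mul_inv_cancel, mul_one]
    calc w * q1 * w⁻¹ = (w * x * w⁻¹)⁻¹ * (w * (w * x * w⁻¹) * w⁻¹) := by rw [hq1]; group
      _ = (w * x * w⁻¹)⁻¹ * x := by rw [e1]
      _ = q1⁻¹ := by rw [hq1]; group
  -- a power of `q1` of order 3
  obtain ⟨k, hk⟩ := (IsPGroup.iff_orderOf.mp hQ) ⟨q1, hq1Q⟩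
  have hk' : orderOf q1 = 3 ^ k := by
    rw [← hk]; exact (Subgroup.orderOf_mk q1 hq1Q).symm
  have hk0 : k ≠ 0 := by
    rintro rfl
    rw [pow_zero, orderOf_eq_one_iff] at hk'
    exact hq1ne hk'
  obtain ⟨j, rfl⟩ := Nat.exists_eq_succ_of_ne_zero hk0
  refine ⟨q1 ^ (3 ^ j), ?_, ?_⟩
  · rw [orderOf_pow_of_dvd (pow_ne_zero j (by norm_num)) (by rw [hk']; exact pow_dvd_pow 3 (Nat.le_succ j)),
      hk', pow_succ, Nat.mul_div_cancel_left _ (pow_pos (by norm_num) j)]
  · rw [← inv_pow, ← hinv1]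
    exact (conj_pow).symm

section ord756

variable {G : Type*} [Group G] [Finite G] [IsSimpleGroup G]

/-- no `2`-element inverts an element of order 3 -/
theorem ord756_no_inversion (h : Nat.card G = 756) (q w : G) (hq : orderOf q = 3)
    (hw : w ^ 4 = 1) (hinv : w * q * w⁻¹ = q⁻¹) : False := by
  have h3 : Fact (Nat.Prime 3) := ⟨by norm_num⟩
  have h7 : Fact (Nat.Prime 7) := ⟨by norm_num⟩
  have hq3 : q ^ 3 = 1 := by rw [← hq]; exact pow_orderOf_eq_one q
  have hq1 : q ≠ 1 := by
    intro h1; rw [h1, orderOf_one] at hq; omega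
  have hqinv : q⁻¹ ≠ q := by
    intro h1
    have : q ^ 2 = 1 := by
      rw [pow_two]; nth_rewrite 1 [← h1]; exact inv_mul_cancel q
    have := orderOf_dvd_of_pow_eq_one this
    rw [hq] at this; omega
  set D : Subgroup G := zpowers q with hD
  have hDc : Nat.card D = 3 := by rw [hD, Nat.card_zpowers, hq]
  have hDp : IsPGroup 3 D := IsPGroup.of_card (n := 1) (by rw [hDc, pow_one])
  -- `w` normalizes but does not centralize `D`
  have hconj_zpow : ∀ i : ℤ, w * q ^ i * w⁻¹ = q ^ (-i) := by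
    intro i
    have : w * q ^ i * w⁻¹ = (w * q * w⁻¹) ^ i := (conj_zpow).symm
    rw [this, hinv, inv_zpow, zpow_neg]
  have hwN : w ∈ normalizer (D : Set G) := by
    rw [mem_normalizer_iff]
    intro x
    constructor
    · intro hx
      obtain ⟨i, rfl⟩ := mem_zpowers_iff.mp hx
      rw [hconj_zpow]; exact zpow_mem (mem_zpowers q) _
    · intro hx
      obtain ⟨i, hi⟩ := mem_zpowers_iff.mp hx
      have : x = w⁻¹ * (w * x * w⁻¹) * w := by group
      rw [this, ← hi]
      have h2 : w⁻¹ * q ^ i * w = q ^ (-i) := by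
        have := hconj_zpow (-i)
        rw [neg_neg] at this
        rw [← this]; group
      rw [h2]; exact zpow_mem (mem_zpowers q) _
  have hwC : w ∉ centralizer (D : Set G) := by
    intro hc
    have := (mem_centralizer_iff.mp hc) q (mem_zpowers q)
    apply hqinv
    rw [← hinv, ← this]; group
  -- the centralizer `C` of `D`
  set C : Subgroup G := centralizer (D : Set G) with hC
  set N : Subgroup G := normalizer (D : Set G) with hN
  have hCN : C ≤ N := centralizer_le_normalizer _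
  have hDcyc : IsCyclic D := isCyclic_of_prime_card hDc
  have hrel := SmallOrder.relIndex_centralizer_normalizer_dvd D hDcyc
  rw [hDc, Nat.totient_prime (by norm_num)] at hrel
  have hrel2 : C.relIndex N = 2 := by
    rcases (Nat.dvd_prime Nat.prime_two).mp hrel with h1 | h2
    · exact absurd ((Subgroup.relIndex_eq_one.mp h1) hwN) hwC
    · exact h2
  have hCcard : Nat.card C * 2 = Nat.card N := by
    have := Subgroup.card_mul_index (C.subgroupOf N)
    rw [Nat.card_congr (Subgroup.subgroupOfEquivOfLe hCN).toEquiv] at this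
    rw [← this]; congr 1; exact hrel2.symm
  have hC378 : Nat.card C ∣ 378 := by
    have h1 : Nat.card N ∣ 756 := by rw [← h]; exact Subgroup.card_subgroup_dvd_card N
    rw [← hCcard] at h1
    exact Nat.dvd_of_mul_dvd_mul_right (by norm_num : 0 < 2) (by simpa using h1)
  have hC7 : ¬ 7 ∣ Nat.card C := by
    intro h7dvd
    obtain ⟨x, hx⟩ := exists_prime_orderOf_dvd_card' 7 h7dvd
    have hxo : orderOf (x : G) = 7 := by rw [Subgroup.orderOf_coe]; exact hx
    have hcomm : Commute (x : G) q := by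
      have := (mem_centralizer_iff.mp x.2) q (mem_zpowers q)
      exact this.symm
    exact ord756_not_commute h _ _ hxo hq hcomm
  -- the unique Sylow 3-subgroup of `C`
  have hsub : Subsingleton (Sylow 3 C) := by
    rw [← Nat.card_eq_one_iff_unique.trans ⟨fun h => h.1, fun h => ⟨h, ⟨default⟩⟩⟩]
    have T0 : Sylow 3 C := default
    have h1 := Sylow.card_dvd_index T0
    have h2 : ¬ 3 ∣ (T0 : Subgroup C).index := Sylow.not_dvd_index T0
    have h3' : (T0 : Subgroup C).index ∣ Nat.card C := Subgroup.index_dvd_card _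
    have hmod := card_sylow_modEq_one 3 C
    have key : ∀ i ≤ 378, i ∣ 378 → ¬ 3 ∣ i → ¬ 7 ∣ i → ∀ s ≤ i, s ∣ i → s % 3 = 1 % 3 →
        s = 1 := by decide
    have hi378 : (T0 : Subgroup C).index ∣ 378 := h3'.trans hC378
    have hipos : 0 < (T0 : Subgroup C).index :=
      Nat.pos_of_ne_zero Subgroup.index_ne_zero_of_finite
    exact key _ (Nat.le_of_dvd (by norm_num) hi378) hi378 h2
      (fun h7' => hC7 (h7'.trans h3')) _ (Nat.le_of_dvd hipos h1) h1 hmod
  let T' : Sylow 3 C := default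
  set T : Subgroup G := (T' : Subgroup C).map C.subtype with hT
  have hTp : IsPGroup 3 T := by
    rw [hT]; exact T'.isPGroup'.map _
  have hTC : T ≤ C := map_subtype_le _
  -- every 3-element of `C` lies in `T`
  have hmemT : ∀ c ∈ C, (∃ k : ℕ, c ^ 3 ^ k = 1) → c ∈ T := by
    intro c hcC ⟨k, hk⟩
    have hp : IsPGroup 3 (zpowers (⟨c, hcC⟩ : C)) := by
      rintro ⟨y, hy⟩
      obtain ⟨i, rfl⟩ := mem_zpowers_iff.mp hy
      refine ⟨k, Subtype.ext ?_⟩
      apply Subtype.ext
      simp only [SubgroupClass.coe_zpow, SubgroupClass.coe_pow, OneMemClass.coe_one]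
      rw [← zpow_natCast, ← zpow_mul, mul_comm, zpow_mul, zpow_natCast, hk, one_zpow]
    obtain ⟨R, hR⟩ := hp.exists_le_sylow
    have hRT : R = T' := Subsingleton.elim _ _
    have : (⟨c, hcC⟩ : C) ∈ (T' : Subgroup C) := hRT ▸ hR (mem_zpowers _)
    exact ⟨⟨c, hcC⟩, this, rfl⟩
  have hT3 : ∀ t ∈ T, ∃ k : ℕ, t ^ 3 ^ k = 1 := by
    intro t ht
    obtain ⟨k, hk⟩ := hTp ⟨t, ht⟩
    exact ⟨k, congrArg Subtype.val hk⟩
  -- `N` normalizes `T`
  have hconjC : ∀ n ∈ N, ∀ c ∈ C, n * c * n⁻¹ ∈ C := by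
    intro n hn c hc
    rw [hC, mem_centralizer_iff]
    intro d hd
    have hd' : n⁻¹ * d * n ∈ D := by
      have := (mem_normalizer_iff''.mp hn) d
      exact this.mp hd
    have hcomm := (mem_centralizer_iff.mp hc) _ hd'
    calc d * (n * c * n⁻¹) = n * ((n⁻¹ * d * n) * c) * n⁻¹ := by group
      _ = n * (c * (n⁻¹ * d * n)) * n⁻¹ := by rw [hcomm]
      _ = n * c * n⁻¹ * d := by group
  have hNT : N ≤ normalizer (T : Set G) := by
    have hfwd : ∀ n ∈ N, ∀ t ∈ T, n * t * n⁻¹ ∈ T := by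
      intro n hn t ht
      apply hmemT _ (hconjC n hn t (hTC ht))
      obtain ⟨k, hk⟩ := hT3 t ht
      refine ⟨k, ?_⟩
      have hcp : (n * t * n⁻¹) ^ 3 ^ k = n * t ^ 3 ^ k * n⁻¹ := conj_pow
      rw [hcp, hk, mul_one, mul_inv_cancel]
    intro n hn
    rw [mem_normalizer_iff]
    intro t
    constructor
    · exact hfwd n hn t
    · intro ht
      have := hfwd n⁻¹ (N.inv_mem hn) _ ht
      have e : n⁻¹ * (n * t * n⁻¹) * n⁻¹⁻¹ = t := by group
      rwa [e] at this
  -- `T` properly contains `D`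
  have hqC : q ∈ C := by
    rw [hC, mem_centralizer_iff]
    intro d hd
    obtain ⟨i, rfl⟩ := mem_zpowers_iff.mp hd
    exact ((Commute.refl q).zpow_left i).eq
  have hqT : q ∈ T := hmemT q hqC ⟨1, by rw [pow_one]; exact hq3⟩
  have hDT : D ≤ T := by rw [hD, zpowers_le]; exact hqT
  obtain ⟨P', hP'⟩ := hDp.exists_le_sylow
  obtain ⟨hP'c, hP'N⟩ := ord756_sylow3 h P'
  have hDP' : D ≠ (P' : Subgroup G) := by
    intro heq
    have := congrArg (fun K : Subgroup G => Nat.card K) heq
    simp only [hDc] at this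
    rw [hP'c] at this; omega
  obtain ⟨y, hyP, hyN, hyD⟩ := exists_mem_normalizer_not_mem P' D hP' hDP'
  have hy3 : ∃ k : ℕ, y ^ 3 ^ k = 1 := by
    obtain ⟨k, hk⟩ := P'.isPGroup' ⟨y, hyP⟩
    exact ⟨k, congrArg Subtype.val hk⟩
  have hyC : y ∈ C := by
    -- `y q y⁻¹` is `q` or `q⁻¹`
    have hmem : y * q * y⁻¹ ∈ D := (mem_normalizer_iff.mp hyN q).mp (mem_zpowers q)
    obtain ⟨i, hi⟩ := mem_zpowers_iff.mp hmem
    -- centralizer of `q` contains `y ^ 2`
    have hy2 : y ^ 2 * q = q * y ^ 2 := by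
      -- `y q y⁻¹ = q ^ i` and then `y² q y⁻² = q ^ (i*i)`, `i*i ≡ 1 mod 3` unless `3 ∣ i`
      have h1 : y * q * y⁻¹ = q ^ i := hi.symm
      have h2 : y ^ 2 * q * (y ^ 2)⁻¹ = q ^ (i * i) := by
        calc y ^ 2 * q * (y ^ 2)⁻¹ = y * (y * q * y⁻¹) * y⁻¹ := by
              rw [pow_two, mul_inv_rev]; simp only [mul_assoc]
          _ = y * q ^ i * y⁻¹ := by rw [h1]
          _ = (y * q * y⁻¹) ^ i := (conj_zpow).symm
          _ = (q ^ i) ^ i := by rw [h1]
          _ = q ^ (i * i) := (zpow_mul q i i).symm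
      have h3i : ¬ (3 : ℤ) ∣ i := by
        intro hdvd
        have : q ^ i = 1 := by
          apply orderOf_dvd_iff_zpow_eq_one.mp
          rw [hq]; exact_mod_cast hdvd
        rw [this] at h1
        have : q = 1 := by
          have := congrArg (fun z => y⁻¹ * z * y) h1
          simpa [mul_assoc] using this
        exact hq1 this
      have hii : q ^ (i * i) = q := by
        have : (i * i) % 3 = 1 := by
          have h0 : i % 3 = 0 ∨ i % 3 = 1 ∨ i % 3 = 2 := by omega
          rcases h0 with h0 | h0 | h0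
          · exact absurd (Int.dvd_of_emod_eq_zero h0) h3i
          · rw [Int.mul_emod, h0]; norm_num
          · rw [Int.mul_emod, h0]; norm_num
        rw [← zpow_mod_orderOf, hq]
        have : (i * i) % ((3 : ℕ) : ℤ) = 1 := by exact_mod_cast this
        rw [this, zpow_one]
      rw [hii] at h2
      calc y ^ 2 * q = y ^ 2 * q * (y ^ 2)⁻¹ * y ^ 2 := by group
        _ = q * y ^ 2 := by rw [h2]
    -- `y` is a power of `y ^ 2`
    obtain ⟨k, hk⟩ := hy3
    have hodd : Odd (3 ^ k) := Odd.pow (by decide)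
    obtain ⟨m, hm⟩ := hodd
    have hyy : y = (y ^ 2) ^ (m + 1) := by
      rw [← pow_mul]
      have : 2 * (m + 1) = 3 ^ k + 1 := by omega
      rw [this, pow_succ, hk, one_mul]
    rw [hC, mem_centralizer_iff]
    intro d hd
    obtain ⟨j, rfl⟩ := mem_zpowers_iff.mp hd
    have hc2 : Commute (y ^ 2) q := hy2
    rw [hyy]
    exact (((hc2.pow_left (m + 1)).zpow_right j).eq).symm
  have hyT : y ∈ T := hmemT y hyC hy3
  have hTgt : 9 ∣ Nat.card T := by
    obtain ⟨k, hk⟩ := IsPGroup.iff_card.mp hTp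
    have hlt : Nat.card D < Nat.card T := by
      apply card_lt_card_of_lt_subgroup
      exact lt_of_le_of_ne hDT (fun heq => hyD (heq ▸ hyT))
    rw [hDc, hk] at hlt
    rw [hk]
    have hk2 : 2 ≤ k := by
      by_contra hcon
      push Not at hcon
      interval_cases k <;> omega
    exact pow_dvd_pow 3 hk2
  -- the normalizer `K` of `T` contains a Sylow 3-subgroup
  set K : Subgroup G := normalizer (T : Set G) with hK
  have hwK : w ∈ K := hNT hwN
  have hTcard27 : Nat.card T ∣ 27 := by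
    obtain ⟨P2, hP2⟩ := hTp.exists_le_sylow
    rw [← (ord756_sylow3 h P2).1]
    exact Subgroup.card_dvd_of_le hP2
  have hKtop : K ≠ ⊤ := by
    intro htop
    have hTn : T.Normal := Subgroup.normalizer_eq_top_iff.mp htop
    rcases hTn.eq_bot_or_eq_top with h0 | h0
    · rw [h0, Subgroup.card_bot] at hTgt; omega
    · rw [h0, Subgroup.card_top, h] at hTcard27; omega
  obtain ⟨P2, hP2⟩ := hTp.exists_le_sylow
  obtain ⟨hP2c, -⟩ := ord756_sylow3 h P2
  have hP2K : (P2 : Subgroup G) ≤ K := by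
    by_cases heq : T = (P2 : Subgroup G)
    · rw [← heq]; exact le_normalizer
    · obtain ⟨y2, hy2P, hy2N, hy2T⟩ := exists_mem_normalizer_not_mem P2 T hP2 heq
      -- `K ⊓ P2` strictly contains `T`, so it is `P2`
      have hlt : T < K ⊓ (P2 : Subgroup G) := by
        refine lt_of_le_of_ne (le_inf le_normalizer hP2) ?_
        intro heq2
        exact hy2T (heq2 ▸ (mem_inf.mpr ⟨hy2N, hy2P⟩))
      have hc1 := card_lt_card_of_lt_subgroup hlt
      have hc2 : Nat.card (K ⊓ (P2 : Subgroup G) : Subgroup G) ∣ 27 := by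
        rw [← hP2c]; exact Subgroup.card_dvd_of_le inf_le_right
      have hc3 : Nat.card T ∣ Nat.card (K ⊓ (P2 : Subgroup G) : Subgroup G) :=
        Subgroup.card_dvd_of_le hlt.le
      have key : ∀ a ≤ 27, ∀ b ≤ 27, 9 ∣ a → a ∣ b → b ∣ 27 → a < b → b = 27 := by decide
      have hb : Nat.card (K ⊓ (P2 : Subgroup G) : Subgroup G) = 27 :=
        key _ (Nat.le_of_dvd (by norm_num) hTcard27) _ (Nat.le_of_dvd (by norm_num) hc2)
          hTgt hc3 hc2 hc1
      have : K ⊓ (P2 : Subgroup G) = (P2 : Subgroup G) :=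
        Subgroup.eq_of_le_of_card_ge inf_le_right (by rw [hb, hP2c])
      rw [← this]; exact inf_le_left
  have hKc := ord756_card_of_sylow3_le h P2 K hP2K hKtop
  have hwo : orderOf w ∣ 27 := by
    rw [← hKc]; exact Subgroup.orderOf_dvd_natCard K hwK
  have hwo4 : orderOf w ∣ 4 := orderOf_dvd_of_pow_eq_one hw
  have hw1 : orderOf w = 1 := by
    have := Nat.dvd_gcd hwo hwo4
    simpa using this
  rw [orderOf_eq_one_iff] at hw1
  rw [hw1] at hinv
  apply hqinv
  rw [← hinv]; group

theorem no_simple_756 (_hG : ¬ IsMulCommutative G) (h : Nat.card G = 756) : False := by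
  have h3 : Fact (Nat.Prime 3) := ⟨by norm_num⟩
  have h7 : Fact (Nat.Prime 7) := ⟨by norm_num⟩
  let P : Sylow 3 G := default
  obtain ⟨hPc, hPN⟩ := ord756_sylow3 h P
  have key7 : ∀ c ≤ 27, c ∣ 27 → ∀ e ≤ c, e ∣ c → c % 7 = e % 7 → e = c := by decide
  have hfrob : ∀ Q : Subgroup G, Q ≤ (P : Subgroup G) → ∀ g ∈ normalizer (Q : Set G),
      Nat.Coprime (orderOf g) 3 → g ∈ centralizer (Q : Set G) := by
    intro Q hQP g hg hcop
    have hQp : IsPGroup 3 Q := P.isPGroup'.to_le hQP
    have hQdvd : Nat.card Q ∣ 27 := by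
      rw [← hPc]; exact Subgroup.card_dvd_of_le hQP
    have hQle : Nat.card Q ≤ 27 := Nat.le_of_dvd (by norm_num) hQdvd
    have ho : orderOf g ∣ 28 := by
      have h1 : orderOf g ∣ 3 ^ 3 * 28 := by
        rw [show 3 ^ 3 * 28 = 756 by norm_num, ← h]; exact orderOf_dvd_natCard g
      exact (Nat.Coprime.pow_right 3 hcop).dvd_of_dvd_mul_left h1
    have hg28 : g ^ 28 = 1 := orderOf_dvd_iff_pow_eq_one.mp ho
    have hx1 : (g ^ 4) ^ 7 = 1 := by rw [← pow_mul]; exact hg28
    have hn1 : g ^ 4 ∈ normalizer (Q : Set G) := pow_mem hg 4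
    have hn2 : g ^ 7 ∈ normalizer (Q : Set G) := pow_mem hg 7
    have hn3 : (g ^ 7) ^ 2 ∈ normalizer (Q : Set G) := pow_mem hn2 2
    have hc1 : g ^ 4 ∈ centralizer (Q : Set G) := by
      apply mem_centralizer_of_pow_eq_one (r := 7) Q _ hn1 hx1
      intro e he hmod
      exact key7 _ hQle hQdvd _ (Nat.le_of_dvd Nat.card_pos he) he hmod
    have hw4 : (g ^ 7) ^ 4 = 1 := by rw [← pow_mul]; exact hg28
    -- the square of `g ^ 7` centralizes `Q`
    have hc3 : (g ^ 7) ^ 2 ∈ centralizer (Q : Set G) := by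
      by_contra hcon
      have h22 : ((g ^ 7) ^ 2) ^ 2 ∈ centralizer (Q : Set G) := by
        have e22 : ((g ^ 7) ^ 2) ^ 2 = 1 := by
          rw [← pow_mul, ← pow_mul]; exact hg28
        rw [e22]; exact one_mem _
      obtain ⟨q, hq, hinv⟩ := exists_inverted_of_not_mem_centralizer Q hQp _ hn3 h22 hcon
      have e24 : ((g ^ 7) ^ 2) ^ 4 = 1 := by
        rw [← pow_mul, ← pow_mul, show 7 * 2 * 4 = 28 * 2 by norm_num, pow_mul, hg28, one_pow]
      exact ord756_no_inversion h q _ hq e24 hinv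
    have hc2 : g ^ 7 ∈ centralizer (Q : Set G) := by
      by_contra hcon
      obtain ⟨q, hq, hinv⟩ := exists_inverted_of_not_mem_centralizer Q hQp _ hn2 hc3 hcon
      exact ord756_no_inversion h q _ hq hw4 hinv
    have hgeq : g = (g ^ 7) ^ 3 * (g ^ 4) ^ 2 := by
      rw [← pow_mul, ← pow_mul, ← pow_add]
      calc g = g ^ 28 * g := by rw [hg28, one_mul]
        _ = g ^ (7 * 3 + 4 * 2) := by rw [← pow_succ]
    rw [hgeq]
    exact mul_mem (pow_mem hc2 3) (pow_mem hc1 2)
  obtain ⟨N, hNn, hNcompl⟩ := (Cfsg.Agent.S0071.result P).mpr hfrob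
  have hcardN : Nat.card N * Nat.card (P : Subgroup G) = Nat.card G := hNcompl.card_mul_card
  rw [hPc, h] at hcardN
  have hN28 : Nat.card N = 28 := by omega
  rcases hNn.eq_bot_or_eq_top with h0 | h0
  · rw [h0, Subgroup.card_bot] at hN28; omega
  · rw [h0, Subgroup.card_top, h] at hN28; omega

end ord756

end Cfsg.Agent.Helper2.SimpleSmall2
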