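import Mathlib
import Cfsg.Prelude.Def_Characters
import Cfsg.Agent.Helper6.IndFun
import Cfsg.Agent.Helper6.ClassInner

/-!
# Mackey's formula for the self-intertwining of induction from a point stabiliser of a doubly
transitive group
-/

set_option autoImplicit false
set_option linter.style.haveILetI false
set_option linter.unusedSectionVars false

namespace Cfsg.Agent.Helper2.Sh3Sim

open MulAction Cfsg.Agent.Helper6
open scoped ComplexConjugate

universe u v

variable {G : Type u} {Ω : Type v} [Group G] [MulAction G Ω]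

/-- the extension by zero of a class function of a subgroup is invariant under conjugation by
elements of the subgroup -/
theorem extendByZero_conj (A : Subgroup G) (β : A → ℂ) (hβ : Cfsg.IsClassFunction A β) {k : G}
    (hk : k ∈ A) (y : G) :
    Cfsg.extendByZero A β (k * y * k⁻¹) = Cfsg.extendByZero A β y := by
  by_cases hy : y ∈ A
  · have h1 : k * y * k⁻¹ ∈ A := A.mul_mem (A.mul_mem hk hy) (A.inv_mem hk)
    rw [extendByZero_mem A β h1, extendByZero_mem A β hy]
    exact hβ ⟨y, hy⟩ ⟨k, hk⟩
  · have h1 : k * y * k⁻¹ ∉ A := by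
      intro h
      apply hy
      have : y = k⁻¹ * (k * y * k⁻¹) * k := by group
      rw [this]
      exact A.mul_mem (A.mul_mem (A.inv_mem hk) h) hk
    rw [extendByZero_not_mem A β h1, extendByZero_not_mem A β hy]

theorem sum_twist_eq [Fintype G] {a b : Ω}
    (htr : ∀ c : Ω, c ≠ a → ∃ k : G, k • a = a ∧ k • b = c)
    (s : G) (hsa : s • a = b)
    (α β : stabilizer G a → ℂ) (hα : Cfsg.IsClassFunction _ α) (hβ : Cfsg.IsClassFunction _ β)
    [Fintype (stabilizer G a)] (g : G) (hg : g ∉ stabilizer G a) :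
    ∑ x : stabilizer G a, α x * conj (Cfsg.extendByZero (stabilizer G a) β (g⁻¹ * x * g)) =
    ∑ x : stabilizer G a, α x * conj (Cfsg.extendByZero (stabilizer G a) β (s⁻¹ * x * s)) := by
  have hga : g • a ≠ a := fun h => hg (mem_stabilizer_iff.mpr h)
  obtain ⟨k, hka, hkb⟩ := htr (g • a) hga
  have hk' : (s⁻¹ * k⁻¹ * g) • a = a := by
    rw [mul_smul, mul_smul, ← hkb, inv_smul_smul, ← hsa, inv_smul_smul]
  have hkA : k ∈ stabilizer G a := mem_stabilizer_iff.mpr hka
  have hk'A : (s⁻¹ * k⁻¹ * g) ∈ stabilizer G a := mem_stabilizer_iff.mpr hk'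
  let e : stabilizer G a ≃ stabilizer G a := (MulAut.conj (⟨k, hkA⟩ : stabilizer G a)).toEquiv
  calc ∑ x : stabilizer G a, α x * conj (Cfsg.extendByZero (stabilizer G a) β (g⁻¹ * x * g))
      = ∑ x : stabilizer G a, α (e x) *
          conj (Cfsg.extendByZero (stabilizer G a) β (g⁻¹ * ((e x : stabilizer G a) : G) * g)) :=
        (Equiv.sum_comp e (fun x : stabilizer G a =>
          α x * conj (Cfsg.extendByZero (stabilizer G a) β (g⁻¹ * x * g)))).symm
    _ = ∑ x : stabilizer G a,
          α x * conj (Cfsg.extendByZero (stabilizer G a) β (s⁻¹ * x * s)) := by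
        apply Finset.sum_congr rfl
        intro x _
        have h1 : α (e x) = α x := hα x ⟨k, hkA⟩
        have h2 : g⁻¹ * ((e x : stabilizer G a) : G) * g =
            (s⁻¹ * k⁻¹ * g)⁻¹ * (s⁻¹ * (x : G) * s) * (s⁻¹ * k⁻¹ * g)⁻¹⁻¹ := by
          have : ((e x : stabilizer G a) : G) = k * (x : G) * k⁻¹ := rfl
          rw [this]
          group
        rw [h1, h2, extendByZero_conj _ β hβ ((stabilizer G a).inv_mem hk'A)]

/-- Mackey's formula for a doubly transitive group, in raw form -/
theorem mackey_two [Fintype G] {a b : Ω}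
    (htr : ∀ c : Ω, c ≠ a → ∃ k : G, k • a = a ∧ k • b = c)
    (s : G) (hsa : s • a = b)
    (α β : stabilizer G a → ℂ) (hα : Cfsg.IsClassFunction _ α) (hβ : Cfsg.IsClassFunction _ β)
    [Fintype (stabilizer G a)] :
    Cfsg.classInner (Cfsg.indFun (stabilizer G a) α) (Cfsg.indFun (stabilizer G a) β) =
      Cfsg.classInner α β +
        ((Nat.card G : ℂ) - (Nat.card (stabilizer G a) : ℂ)) /
          ((Nat.card (stabilizer G a) : ℂ) ^ 2) *
        ∑ x : stabilizer G a,
          α x * conj (Cfsg.extendByZero (stabilizer G a) β (s⁻¹ * x * s)) := by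
  classical
  rw [frobenius_reciprocity _ α _ (indFun_isClassFunction _ β), classInner_def, classInner_def]
  set T := ∑ x : stabilizer G a,
    α x * conj (Cfsg.extendByZero (stabilizer G a) β (s⁻¹ * x * s)) with hT
  set S₀ := ∑ x : stabilizer G a, α x * conj (β x) with hS₀
  have hA0 : (Nat.card (stabilizer G a) : ℂ) ≠ 0 := by
    have : 0 < Nat.card (stabilizer G a) := Nat.card_pos
    exact_mod_cast this.ne'
  have h1 : ∀ x : stabilizer G a,
      α x * conj (Cfsg.indFun (stabilizer G a) β (x : G)) =
        (Nat.card (stabilizer G a) : ℂ)⁻¹ *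
          ∑ g : G, α x * conj (Cfsg.extendByZero (stabilizer G a) β (g⁻¹ * x * g)) := by
    intro x
    rw [indFun_apply, map_mul, map_inv₀, Complex.conj_natCast, map_sum, Finset.mul_sum,
      Finset.mul_sum, Finset.mul_sum]
    apply Finset.sum_congr rfl
    intro g _
    ring
  rw [Finset.sum_congr rfl (fun x _ => h1 x), ← Finset.mul_sum, Finset.sum_comm]
  have h2 : ∀ g : G,
      ∑ x : stabilizer G a, α x * conj (Cfsg.extendByZero (stabilizer G a) β (g⁻¹ * x * g)) =
        T + if g ∈ stabilizer G a then S₀ - T else 0 := by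
    intro g
    split_ifs with hg
    · rw [add_sub_cancel, hS₀]
      apply Finset.sum_congr rfl
      intro x _
      have h3 : g⁻¹ * (x : G) * g = g⁻¹ * (x : G) * g⁻¹⁻¹ := by rw [inv_inv]
      rw [h3, extendByZero_conj _ β hβ ((stabilizer G a).inv_mem hg), extendByZero_coe]
    · rw [add_zero]
      exact sum_twist_eq htr s hsa α β hα hβ g hg
  rw [Finset.sum_congr rfl (fun g _ => h2 g), Finset.sum_add_distrib, Finset.sum_const,
    ← Finset.sum_filter, Finset.sum_const, Finset.card_univ, nsmul_eq_mul, nsmul_eq_mul]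
  have hc1 : (Finset.univ.filter (fun g : G => g ∈ stabilizer G a)).card =
      Nat.card (stabilizer G a) := by
    rw [Nat.card_eq_fintype_card, Fintype.card_subtype]
  rw [hc1, ← Nat.card_eq_fintype_card]
  field_simp
  ring

end Cfsg.Agent.Helper2.Sh3Sim
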