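import Mathlib

/-!
# The arithmetic lemma on the degrees of the two constituents
-/

set_option autoImplicit false

namespace Cfsg.Agent.Helper2.Sh3Sim

theorem arith_dvd (a b n : ℤ)
    (h : (1 + a * n) ∣ ((a + b) * n + 2) * ((a + b) * n + 1) * n) :
    (1 + a * n) ∣ b * (b - a) := by
  have cop : IsCoprime (1 + a * n) n := ⟨1, -a, by ring⟩
  have h2 : (1 + a * n) ∣ ((a + b) * n + 2) * ((a + b) * n + 1) := cop.dvd_of_dvd_mul_right h
  have h3 : (1 + a * n) ∣ b * (b - a) * n * n := by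
    have h4 := Dvd.dvd.sub h2 (dvd_mul_right (1 + a * n) ((1 + a * n) + 3 * b * n + 1))
    have h5 : ((a + b) * n + 2) * ((a + b) * n + 1) -
        (1 + a * n) * ((1 + a * n) + 3 * b * n + 1) = b * (b - a) * n * n := by ring
    rw [h5] at h4
    exact h4
  exact cop.dvd_of_dvd_mul_right (cop.dvd_of_dvd_mul_right h3)

theorem arith_main (d n a b : ℕ) (hd : a + b = d) (hdn : d < n) (ha : 1 ≤ a) (hb : 1 ≤ b)
    (hab : a ≠ b)
    (h1 : (d + d * n * a) ∣ (d * n + 2) * (d * n + 1) * (d * n))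
    (h2 : (d + d * n * b) ∣ (d * n + 2) * (d * n + 1) * (d * n)) : False := by
  have hd0 : 0 < d := by omega
  have key : ∀ x y : ℕ, x + y = d → (d + d * n * x) ∣ (d * n + 2) * (d * n + 1) * (d * n) →
      ((1 : ℤ) + x * n) ∣ (y : ℤ) * ((y : ℤ) - x) := by
    intro x y hxy hdvd
    apply arith_dvd
    have h3 : d * (1 + x * n) ∣ d * ((d * n + 2) * (d * n + 1) * n) := by
      have e1 : d * (1 + x * n) = d + d * n * x := by ring
      have e2 : d * ((d * n + 2) * (d * n + 1) * n) = (d * n + 2) * (d * n + 1) * (d * n) := by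
        ring
      rw [e1, e2]
      exact hdvd
    have h4 : (1 + x * n) ∣ (d * n + 2) * (d * n + 1) * n := Nat.dvd_of_mul_dvd_mul_left hd0 h3
    have h5 : ((1 + x * n : ℕ) : ℤ) ∣ (((d * n + 2) * (d * n + 1) * n : ℕ) : ℤ) :=
      Int.natCast_dvd_natCast.mpr h4
    have hd' : (d : ℤ) = (x : ℤ) + y := by exact_mod_cast hxy.symm
    push_cast at h5
    rw [hd'] at h5
    exact h5
  have k1 := key a b hd h1
  have k2 := key b a (by omega) h2
  -- sizes
  have hba : (b : ℤ) * ((b : ℤ) - a) ≠ 0 := by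
    apply mul_ne_zero
    · exact_mod_cast (by omega : b ≠ 0)
    · intro h
      apply hab
      have : (b : ℤ) = a := by linarith
      exact_mod_cast this.symm
  have hab' : (a : ℤ) * ((a : ℤ) - b) ≠ 0 := by
    apply mul_ne_zero
    · exact_mod_cast (by omega : a ≠ 0)
    · intro h
      apply hab
      have : (a : ℤ) = b := by linarith
      exact_mod_cast this
  have l1 := Int.natAbs_le_of_dvd_ne_zero k1 hba
  have l2 := Int.natAbs_le_of_dvd_ne_zero k2 hab'
  rw [Int.natAbs_mul] at l1 l2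
  have e1 : ((1 : ℤ) + a * n).natAbs = 1 + a * n := by
    have : ((1 : ℤ) + a * n) = ((1 + a * n : ℕ) : ℤ) := by push_cast; ring
    rw [this, Int.natAbs_natCast]
  have e2 : ((1 : ℤ) + b * n).natAbs = 1 + b * n := by
    have : ((1 : ℤ) + b * n) = ((1 + b * n : ℕ) : ℤ) := by push_cast; ring
    rw [this, Int.natAbs_natCast]
  rw [e1, Int.natAbs_natCast] at l1
  rw [e2, Int.natAbs_natCast] at l2
  have e3 : ((b : ℤ) - a).natAbs = ((a : ℤ) - b).natAbs := by
    rw [← Int.natAbs_neg]
    congr 1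
    ring
  rw [e3] at l1
  set t := ((a : ℤ) - b).natAbs with ht
  have htn : t < n := by
    have : t ≤ d := by
      rw [ht]
      omega
    omega
  have hprod : (1 + a * n) * (1 + b * n) ≤ (b * t) * (a * t) := Nat.mul_le_mul l1 l2
  have htt : t * t ≤ n * n := Nat.mul_le_mul htn.le htn.le
  nlinarith [Nat.mul_le_mul_left (a * b) htt]

end Cfsg.Agent.Helper2.Sh3Sim
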