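import Mathlib
import Cfsg.Prelude.Def_Characters
import Cfsg.Prelude.Def_Blocks
import Cfsg.Agent.Helper6.IrrCount
import Cfsg.Agent.Helper6.IrrBasis
import Cfsg.Agent.Helper6.BrolineA
import Cfsg.Agent.Helper6.OddReal
import Cfsg.Agent.Helper6.BlockPart

/-!
# An invariant irreducible character of odd degree in a group of even order
-/

set_option autoImplicit false
set_option linter.style.haveILetI false
set_option linter.unusedSectionVars false

namespace Cfsg.Agent.Helper2.Sh3Sim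

open Cfsg.Agent.Helper6
open scoped ComplexConjugate

universe u

theorem zmod_two_mul_self (x : ZMod 2) : x * x = x := by
  fin_cases x <;> rfl

/-- If an automorphism `σ` of a group `E` of even order has inner square, then some non-trivial
irreducible character of odd degree is `σ`-invariant. -/
theorem exists_invariant_odd {E : Type u} [Group E] [Fintype E] (σ : E ≃* E)
    (hσ : ∃ t : E, ∀ x, σ (σ x) = t * x * t⁻¹) (heven : Even (Nat.card E)) :
    ∃ ψ : E → ℂ, Cfsg.IsIrrCharacter E ψ ∧ ψ ≠ (fun _ => (1 : ℂ)) ∧ Odd (Cfsg.charDegree ψ) ∧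
      ∀ x, ψ (σ x) = ψ x := by
  classical
  haveI : Finite (Cfsg.IrrCharacter E) := irr_finite
  haveI : Fintype (Cfsg.IrrCharacter E) := Fintype.ofFinite _
  obtain ⟨t, ht⟩ := hσ
  let ι : Cfsg.IrrCharacter E → Cfsg.IrrCharacter E := fun ψ =>
    ⟨(ψ : E → ℂ) ∘ σ.toMonoidHom, isIrrCharacter_comp_surjective σ.toMonoidHom σ.surjective ψ.2⟩
  have hι_apply : ∀ (ψ : Cfsg.IrrCharacter E) (x : E), (ι ψ : E → ℂ) x = (ψ : E → ℂ) (σ x) :=
    fun ψ x => rfl
  have hιι : ∀ ψ : Cfsg.IrrCharacter E, ι (ι ψ) = ψ := by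
    intro ψ
    apply Subtype.ext
    funext x
    rw [hι_apply, hι_apply, ht]
    exact IsCharacter.isClassFunction (IsIrrCharacter.isCharacter ψ.2) x t
  let dg : Cfsg.IrrCharacter E → ℕ := fun ψ => Cfsg.charDegree (ψ : E → ℂ)
  have hdg : ∀ ψ : Cfsg.IrrCharacter E, dg (ι ψ) = dg ψ := by
    intro ψ
    have h1 : ((dg (ι ψ) : ℕ) : ℂ) = (dg ψ : ℂ) := by
      show (Cfsg.charDegree ((ι ψ : Cfsg.IrrCharacter E) : E → ℂ) : ℂ) =
        (Cfsg.charDegree (ψ : E → ℂ) : ℂ)
      rw [charDegree_cast_of_isCharacter (IsIrrCharacter.isCharacter (ι ψ).2),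
        charDegree_cast_of_isCharacter (IsIrrCharacter.isCharacter ψ.2), hι_apply, map_one]
    exact_mod_cast h1
  -- the sum of squares of degrees
  have hsum : ∑ ψ : Cfsg.IrrCharacter E, dg ψ * dg ψ = Nat.card E := by
    have h := sum_sq_degrees (G := E)
    have h1 : ((∑ ψ : Cfsg.IrrCharacter E, dg ψ * dg ψ : ℕ) : ℂ) = (Nat.card E : ℂ) := by
      rw [← h]
      push_cast
      apply Finset.sum_congr rfl
      intro ψ _
      show (Cfsg.charDegree (ψ : E → ℂ) : ℂ) * (Cfsg.charDegree (ψ : E → ℂ) : ℂ) = _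
      rw [charDegree_cast_of_isCharacter (IsIrrCharacter.isCharacter ψ.2), sq]
    exact_mod_cast h1
  have hsum2 : ∑ ψ : Cfsg.IrrCharacter E, (dg ψ : ZMod 2) = 0 := by
    have h1 : ((∑ ψ : Cfsg.IrrCharacter E, dg ψ * dg ψ : ℕ) : ZMod 2) = 0 := by
      rw [hsum]
      exact (ZMod.natCast_eq_zero_iff_even).mpr heven
    push_cast at h1
    simp_rw [zmod_two_mul_self] at h1
    exact h1
  -- the non-fixed characters contribute zero
  have hinv : ∑ ψ : Cfsg.IrrCharacter E, (if ι ψ = ψ then (0 : ZMod 2) else (dg ψ : ZMod 2)) = 0 := by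
    apply Finset.sum_involution (fun ψ _ => ι ψ)
    · intro ψ _
      by_cases h : ι ψ = ψ
      · rw [if_pos h, if_pos (by rw [h, h]), add_zero]
      · have h' : ¬ ι (ι ψ) = ι ψ := by
          rw [hιι]
          exact fun e => h e.symm
        rw [if_neg h, if_neg h', hdg]
        exact CharTwo.add_self_eq_zero _
    · intro ψ _ hne h
      apply hne
      rw [if_pos h]
    · intro ψ _
      exact Finset.mem_univ _
    · intro ψ _
      exact hιι ψ
  have hfix : ∑ ψ : Cfsg.IrrCharacter E, (if ι ψ = ψ then (dg ψ : ZMod 2) else 0) = 0 := by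
    have h1 : ∀ ψ : Cfsg.IrrCharacter E, (if ι ψ = ψ then (dg ψ : ZMod 2) else 0) =
        (dg ψ : ZMod 2) - (if ι ψ = ψ then (0 : ZMod 2) else (dg ψ : ZMod 2)) := by
      intro ψ
      split_ifs <;> simp
    rw [Finset.sum_congr rfl (fun ψ _ => h1 ψ), Finset.sum_sub_distrib, hsum2, hinv, sub_zero]
  -- the trivial character
  let triv : Cfsg.IrrCharacter E := ⟨fun _ => (1 : ℂ), isIrrCharacter_one⟩
  have htriv_fix : ι triv = triv := by
    apply Subtype.ext
    funext x
    rfl
  have htriv_dg : dg triv = 1 := by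
    have h1 : ((dg triv : ℕ) : ℂ) = 1 := by
      show (Cfsg.charDegree ((triv : Cfsg.IrrCharacter E) : E → ℂ) : ℂ) = 1
      rw [charDegree_cast_of_isCharacter (IsIrrCharacter.isCharacter triv.2)]
    exact_mod_cast h1
  by_contra hcon
  push_neg at hcon
  have hall : ∀ ψ : Cfsg.IrrCharacter E, ψ ≠ triv →
      (if ι ψ = ψ then (dg ψ : ZMod 2) else 0) = 0 := by
    intro ψ hψ
    split_ifs with h
    · by_contra hne
      have hodd : Odd (dg ψ) := by
        rw [← Nat.not_even_iff_odd]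
        intro hev
        exact hne ((ZMod.natCast_eq_zero_iff_even).mpr hev)
      have hne1 : (ψ : E → ℂ) ≠ fun _ => (1 : ℂ) := fun e => hψ (Subtype.ext e)
      obtain ⟨x, hx⟩ := hcon ψ ψ.2 hne1 hodd
      apply hx
      rw [← hι_apply, h]
    · rfl
  rw [← Finset.add_sum_erase Finset.univ _ (Finset.mem_univ triv), if_pos htriv_fix, htriv_dg,
    Finset.sum_eq_zero (fun ψ hψ => hall ψ (Finset.ne_of_mem_erase hψ))] at hfix
  simp at hfix

end Cfsg.Agent.Helper2.Sh3Sim
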