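import Mathlib
import Cfsg.Prelude.Def_Characters
import Cfsg.Agent.Helper6.BrolineA

/-!
# Inflating an irreducible character of a complement of a normal subgroup
-/

set_option autoImplicit false
set_option linter.style.haveILetI false
set_option linter.unusedSectionVars false

namespace Cfsg.Agent.Helper2.Sh3Sim

open Cfsg.Agent.Helper6
open scoped ComplexConjugate

universe u

theorem exists_retraction {A : Type u} [Group A] [Finite A] (N K : Subgroup A) [N.Normal]
    (hcard : Nat.card K * Nat.card N = Nat.card A) (hdisj : Disjoint K N) :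
    ∃ ε : A →* K, (∀ k : K, ε (k : A) = k) ∧ (∀ x ∈ N, ε x = 1) ∧ Function.Surjective ε := by
  have hc : Subgroup.IsComplement' K N := Subgroup.isComplement'_of_card_mul_and_disjoint hcard hdisj
  let q : A ⧸ N ≃* K := hc.QuotientMulEquiv
  let ε : A →* K := q.toMonoidHom.comp (QuotientGroup.mk' N)
  have h1 : ∀ k : K, ε (k : A) = k := by
    intro k
    show q (QuotientGroup.mk (k : A)) = k
    have : (QuotientGroup.mk (k : A) : A ⧸ N) = q.symm k := rfl
    rw [this, MulEquiv.apply_symm_apply]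
  refine ⟨ε, h1, ?_, ?_⟩
  · intro x hx
    show q (QuotientGroup.mk x) = 1
    rw [(QuotientGroup.eq_one_iff x).mpr hx, map_one]
  · intro k
    exact ⟨k, h1 k⟩

/-- inflation of an irreducible character of a complement -/
theorem exists_inflate {A : Type u} [Group A] [Finite A] (N K : Subgroup A) [N.Normal]
    (hcard : Nat.card K * Nat.card N = Nat.card A) (hdisj : Disjoint K N)
    (ψ : K → ℂ) (hψ : Cfsg.IsIrrCharacter K ψ) :
    ∃ φ : A → ℂ, Cfsg.IsIrrCharacter A φ ∧ (∀ k : K, φ (k : A) = ψ k) ∧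
      (∀ n ∈ N, φ n = ψ 1) ∧ φ 1 = ψ 1 := by
  obtain ⟨ε, h1, h2, h3⟩ := exists_retraction N K hcard hdisj
  refine ⟨ψ ∘ ε, isIrrCharacter_comp_surjective ε h3 hψ, ?_, ?_, ?_⟩
  · intro k
    show ψ (ε (k : A)) = ψ k
    rw [h1]
  · intro n hn
    show ψ (ε n) = ψ 1
    rw [h2 n hn]
  · show ψ (ε 1) = ψ 1
    rw [map_one]

end Cfsg.Agent.Helper2.Sh3Sim
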