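import Mathlib
import Cfsg.Prelude.Def_Characters
import Cfsg.Prelude.Def_Blocks
import Cfsg.Agent.Helper6.ZasChE
import Cfsg.Agent.Helper6.DefectZeroBlock
import Cfsg.Agent.Helper6.Codegree
import Cfsg.Agent.Helper6.Induced
import Cfsg.Agent.Helper2.Sh3SimA
import Cfsg.Agent.Helper2.Sh3SimB
import Cfsg.Agent.Helper2.Sh3SimC
import Cfsg.Agent.Helper2.Sh3SimD
import Cfsg.Agent.Helper2.Sh3SimE

/-!
# Zassenhaus groups: an induced character of norm two
-/

set_option autoImplicit false
set_option linter.style.haveILetI false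
set_option linter.unusedSectionVars false

namespace Cfsg.Agent.Helper2.Sh3Sim

open MulAction Cfsg.Agent.Helper6
open scoped ComplexConjugate

universe u v

variable {G : Type u} {Ω : Type v} [Group G] [MulAction G Ω]

section

variable [Fintype G] [Fintype Ω]
  (hZ : Cfsg.IsZassenhausGroup G Ω) {a b : Ω} (hab : a ≠ b)
  (H : Subgroup G) (hHa : H ≤ stabilizer G a) (hHcard : Nat.card H + 1 = Fintype.card Ω)
  (hHfix : ∀ u ∈ H, u ≠ 1 → ∀ c : Ω, u • c = c → c = a)

include hZ hab hHa hHcard hHfix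

/-- Mackey's formula for a Zassenhaus group -/
theorem mackey_zas (s : G) (hsa : s • a = b) (α β : stabilizer G a → ℂ)
    (hα : Cfsg.IsClassFunction _ α) (hβ : Cfsg.IsClassFunction _ β)
    [Fintype (stabilizer G a)] :
    Cfsg.classInner (Cfsg.indFun (stabilizer G a) α) (Cfsg.indFun (stabilizer G a) β) =
      Cfsg.classInner α β +
        (Nat.card ↥(stabilizer G a ⊓ stabilizer G b : Subgroup G) : ℂ)⁻¹ *
        ∑ x : stabilizer G a,
          α x * conj (Cfsg.extendByZero (stabilizer G a) β (s⁻¹ * x * s)) := by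
  classical
  have h2t := hZ.2.1
  rw [is_two_pretransitive_iff] at h2t
  have htr : ∀ c : Ω, c ≠ a → ∃ k : G, k • a = a ∧ k • b = c := by
    intro c hc
    exact h2t hab (Ne.symm hc)
  rw [mackey_two htr s hsa α β hα hβ]
  congr 1
  have hA := zas_card_stabilizer hZ hab H hHa hHcard hHfix
  have hidx := zas_index_stabilizer hZ hab H hHa hHcard hHfix
  have hG : Nat.card G = Nat.card (stabilizer G a) * (Nat.card H + 1) := by
    rw [hHcard, ← hidx, Subgroup.card_mul_index]
  have hH1 : Fintype.card Ω - 1 = Nat.card H := by omega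
  rw [hH1] at hA
  set e := Nat.card ↥(stabilizer G a ⊓ stabilizer G b : Subgroup G) with he
  have he0 : (e : ℂ) ≠ 0 := by
    have : 0 < e := Nat.card_pos
    exact_mod_cast this.ne'
  have hh0 : (Nat.card H : ℂ) ≠ 0 := by
    have : 0 < Nat.card H := Nat.card_pos
    exact_mod_cast this.ne'
  congr 1
  rw [hG, hA]
  push_cast
  field_simp
  ring

/-- an irreducible character of the point stabiliser, trivial on the kernel, of odd degree, whose
induced character has norm two -/
theorem exists_phi (heven : Even (Nat.card ↥(stabilizer G a ⊓ stabilizer G b : Subgroup G)))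
    (s : G) (hsa : s • a = b) (hsb : s • b = a) [Fintype (stabilizer G a)] :
    ∃ φ : stabilizer G a → ℂ, Cfsg.IsIrrCharacter _ φ ∧
      (∀ x : stabilizer G a, (x : G) ∈ H → φ x = φ 1) ∧ (∃ x, φ x ≠ 1) ∧
      Odd (Cfsg.charDegree φ) ∧
      Cfsg.charDegree φ ∣ Nat.card ↥(stabilizer G a ⊓ stabilizer G b : Subgroup G) ∧
      Cfsg.charDegree φ ^ 2 + 1 ≤ Nat.card ↥(stabilizer G a ⊓ stabilizer G b : Subgroup G) ∧
      Cfsg.classInner (Cfsg.indFun (stabilizer G a) φ) (Cfsg.indFun (stabilizer G a) φ) = 2 := by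
  classical
  let N : Subgroup (stabilizer G a) := H.subgroupOf (stabilizer G a)
  let K : Subgroup (stabilizer G a) :=
    (stabilizer G a ⊓ stabilizer G b : Subgroup G).subgroupOf (stabilizer G a)
  haveI : N.Normal := zas_kernel_subgroupOf_normal hZ hab H hHa hHcard hHfix
  haveI : Fintype K := Fintype.ofFinite _
  have hcK : Nat.card K = Nat.card ↥(stabilizer G a ⊓ stabilizer G b : Subgroup G) :=
    Nat.card_congr (Subgroup.subgroupOfEquivOfLe inf_le_left).toEquiv
  have hcN : Nat.card N = Nat.card H :=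
    Nat.card_congr (Subgroup.subgroupOfEquivOfLe hHa).toEquiv
  have hcard : Nat.card K * Nat.card N = Nat.card (stabilizer G a) := by
    rw [hcK, hcN, zas_card_stabilizer hZ hab H hHa hHcard hHfix]
    have : Nat.card H = Fintype.card Ω - 1 := by omega
    rw [this]
    ring
  have hdisj : Disjoint K N := by
    rw [Subgroup.disjoint_def]
    intro x hxK hxN
    rw [Subgroup.mem_subgroupOf] at hxK hxN
    by_contra hx1
    have hx1' : (x : G) ≠ 1 := fun h => hx1 (Subtype.ext h)
    have hxb : (x : G) • b = b := mem_stabilizer_iff.mp (Subgroup.mem_inf.mp hxK).2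
    exact hab (hHfix x hxN hx1' b hxb).symm
  have hsa' : s⁻¹ • b = a := by rw [← hsa, inv_smul_smul]
  have hsb' : s⁻¹ • a = b := by rw [← hsb, inv_smul_smul]
  have memE : ∀ x : G, x ∈ (stabilizer G a ⊓ stabilizer G b : Subgroup G) →
      s⁻¹ * x * s ∈ (stabilizer G a ⊓ stabilizer G b : Subgroup G) := by
    intro x hx
    rw [Subgroup.mem_inf, mem_stabilizer_iff, mem_stabilizer_iff] at hx ⊢
    constructor
    · rw [mul_smul, mul_smul, hsa, hx.2, hsa']
    · rw [mul_smul, mul_smul, hsb, hx.1, hsb']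
  have memE' : ∀ x : G, x ∈ (stabilizer G a ⊓ stabilizer G b : Subgroup G) →
      s * x * s⁻¹ ∈ (stabilizer G a ⊓ stabilizer G b : Subgroup G) := by
    intro x hx
    rw [Subgroup.mem_inf, mem_stabilizer_iff, mem_stabilizer_iff] at hx ⊢
    constructor
    · rw [mul_smul, mul_smul, hsb', hx.2, hsb]
    · rw [mul_smul, mul_smul, hsa', hx.1, hsa]
  let σ : K ≃* K :=
    { toFun := fun x => ⟨⟨s⁻¹ * ((x : stabilizer G a) : G) * s,
          (Subgroup.mem_inf.mp (memE _ (Subgroup.mem_subgroupOf.mp x.2))).1⟩,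
          Subgroup.mem_subgroupOf.mpr (memE _ (Subgroup.mem_subgroupOf.mp x.2))⟩
      invFun := fun x => ⟨⟨s * ((x : stabilizer G a) : G) * s⁻¹,
          (Subgroup.mem_inf.mp (memE' _ (Subgroup.mem_subgroupOf.mp x.2))).1⟩,
          Subgroup.mem_subgroupOf.mpr (memE' _ (Subgroup.mem_subgroupOf.mp x.2))⟩
      left_inv := by
        intro x
        apply Subtype.ext
        apply Subtype.ext
        show s * (s⁻¹ * ((x : stabilizer G a) : G) * s) * s⁻¹ = _
        group
      right_inv := by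
        intro x
        apply Subtype.ext
        apply Subtype.ext
        show s⁻¹ * (s * ((x : stabilizer G a) : G) * s⁻¹) * s = _
        group
      map_mul' := by
        intro x y
        apply Subtype.ext
        apply Subtype.ext
        show s⁻¹ * (((x : stabilizer G a) : G) * ((y : stabilizer G a) : G)) * s =
          (s⁻¹ * ((x : stabilizer G a) : G) * s) * (s⁻¹ * ((y : stabilizer G a) : G) * s)
        group }
  have hσ_coe : ∀ x : K, (((σ x : K) : stabilizer G a) : G) = s⁻¹ * ((x : stabilizer G a) : G) * s :=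
    fun x => rfl
  have htmem : s⁻¹ * s⁻¹ ∈ (stabilizer G a ⊓ stabilizer G b : Subgroup G) := by
    rw [Subgroup.mem_inf, mem_stabilizer_iff, mem_stabilizer_iff]
    constructor
    · rw [mul_smul, hsb', hsa']
    · rw [mul_smul, hsa', hsb']
  let t : K := ⟨⟨s⁻¹ * s⁻¹, (Subgroup.mem_inf.mp htmem).1⟩, Subgroup.mem_subgroupOf.mpr htmem⟩
  have ht : ∀ x : K, σ (σ x) = t * x * t⁻¹ := by
    intro x
    apply Subtype.ext
    apply Subtype.ext
    show s⁻¹ * (s⁻¹ * ((x : stabilizer G a) : G) * s) * s =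
      (s⁻¹ * s⁻¹) * ((x : stabilizer G a) : G) * (s⁻¹ * s⁻¹)⁻¹
    rw [mul_inv_rev, inv_inv]
    simp only [mul_assoc]
  have hevenK : Even (Nat.card K) := by rw [hcK]; exact heven
  obtain ⟨ψ₀, hψ₀, hne, hodd, hinv⟩ := exists_invariant_odd σ ⟨t, ht⟩ hevenK
  obtain ⟨φ, hφ, hφK, hφN, hφ1⟩ := exists_inflate N K hcard hdisj ψ₀ hψ₀
  have hdeg : Cfsg.charDegree φ = Cfsg.charDegree ψ₀ := by
    unfold Cfsg.charDegree
    rw [hφ1]
  have hcf : Cfsg.IsClassFunction _ φ := IsCharacter.isClassFunction (IsIrrCharacter.isCharacter hφ)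
  refine ⟨φ, hφ, ?_, ?_, ?_, ?_, ?_, ?_⟩
  · intro x hx
    rw [hφN x (Subgroup.mem_subgroupOf.mpr hx), hφ1]
  · have : ∃ k : K, ψ₀ k ≠ 1 := by
      by_contra hcon
      push_neg at hcon
      exact hne (funext hcon)
    obtain ⟨k, hk⟩ := this
    exact ⟨k, by rw [hφK]; exact hk⟩
  · rw [hdeg]
    exact hodd
  · rw [hdeg, ← hcK]
    exact charDegree_dvd_card hψ₀
  · rw [hdeg, ← hcK]
    haveI : Finite (Cfsg.IrrCharacter K) := irr_finite
    haveI : Fintype (Cfsg.IrrCharacter K) := Fintype.ofFinite _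
    rw [← sum_sq_charDegree (G := K)]
    let triv : Cfsg.IrrCharacter K := ⟨fun _ => (1 : ℂ), isIrrCharacter_one⟩
    let p0 : Cfsg.IrrCharacter K := ⟨ψ₀, hψ₀⟩
    have hne' : p0 ≠ triv := by
      intro h
      exact hne (congrArg Subtype.val h)
    have h1 : ∑ χ ∈ ({p0, triv} : Finset (Cfsg.IrrCharacter K)),
        Cfsg.charDegree (χ : K → ℂ) ^ 2 ≤
        ∑ χ : Cfsg.IrrCharacter K, Cfsg.charDegree (χ : K → ℂ) ^ 2 :=
      Finset.sum_le_sum_of_subset (Finset.subset_univ _)
    rw [Finset.sum_pair hne'] at h1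
    have h2 : Cfsg.charDegree ((triv : Cfsg.IrrCharacter K) : K → ℂ) = 1 := by
      show Cfsg.charDegree (fun _ : K => (1 : ℂ)) = 1
      simp [Cfsg.charDegree]
    rw [h2] at h1
    exact h1
  · rw [mackey_zas hZ hab H hHa hHcard hHfix s hsa φ φ hcf hcf, classInner_irr_self hφ]
    have hT : ∀ x : stabilizer G a,
        φ x * conj (Cfsg.extendByZero (stabilizer G a) φ (s⁻¹ * x * s)) =
          Cfsg.extendByZero K (fun k => ψ₀ k * conj (ψ₀ k)) x := by
      intro x
      by_cases hx : x ∈ K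
      · rw [extendByZero_mem K _ hx]
        have hmem : s⁻¹ * (x : G) * s ∈ stabilizer G a :=
          (Subgroup.mem_inf.mp (memE _ (Subgroup.mem_subgroupOf.mp hx))).1
        rw [extendByZero_mem _ φ hmem]
        have e1 : φ x = ψ₀ ⟨x, hx⟩ := hφK ⟨x, hx⟩
        have e2 : φ ⟨s⁻¹ * (x : G) * s, hmem⟩ = ψ₀ ⟨x, hx⟩ := by
          rw [← hinv ⟨x, hx⟩, ← hφK (σ ⟨x, hx⟩)]
          rfl
        rw [e1, e2]
      · rw [extendByZero_not_mem K _ hx]
        have hnot : s⁻¹ * (x : G) * s ∉ stabilizer G a := by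
          intro h
          apply hx
          rw [Subgroup.mem_subgroupOf, Subgroup.mem_inf]
          refine ⟨x.2, ?_⟩
          rw [mem_stabilizer_iff] at h ⊢
          rw [mul_smul, mul_smul, hsa] at h
          have h3 := congrArg (fun z => s • z) h
          simp only [smul_inv_smul] at h3
          rw [h3, hsa]
        rw [extendByZero_not_mem _ φ hnot, map_zero, mul_zero]
    rw [Finset.sum_congr rfl (fun x _ => hT x), sum_extendByZero K]
    have hn := classInner_irr_self hψ₀
    rw [classInner_def] at hn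
    have hK0 : (Nat.card K : ℂ) ≠ 0 := by
      have : 0 < Nat.card K := Nat.card_pos
      exact_mod_cast this.ne'
    have hsumK : ∑ k : K, ψ₀ k * conj (ψ₀ k) = (Nat.card K : ℂ) := by
      field_simp at hn
      exact hn
    rw [hsumK, hcK]
    have he0 : (Nat.card ↥(stabilizer G a ⊓ stabilizer G b : Subgroup G) : ℂ) ≠ 0 := by
      rw [← hcK]
      exact hK0
    rw [inv_mul_cancel₀ he0]
    norm_num

end

end Cfsg.Agent.Helper2.Sh3Sim
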