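import Mathlib
import Cfsg.Prelude.Def_Characters
import Cfsg.Prelude.Def_Blocks
import Cfsg.Agent.Helper2.Sh3SimF

/-!
# Zassenhaus groups with `e = h - 1` even: an irreducible character whose kernel contains the
Frobenius kernel of a point stabiliser
-/

set_option autoImplicit false
set_option linter.style.haveILetI false
set_option linter.unusedSectionVars false

namespace Cfsg.Agent.Helper2.Sh3Sim

open MulAction Cfsg.Agent.Helper6
open scoped ComplexConjugate

universe u v

variable {G : Type u} {Ω : Type v} [Group G] [MulAction G Ω]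

/-- an irreducible character of `G` restricting to a non-trivial irreducible character of `A`
that is trivial on `H` -/
theorem kernel_of_restrict_eq [Fintype G] (A : Subgroup G) [Fintype A] (H : Subgroup G)
    (hH : H ≤ A) (φ : A → ℂ) (hφ : Cfsg.IsIrrCharacter A φ)
    (hφH : ∀ x : A, (x : G) ∈ H → φ x = φ 1) (hx0 : ∃ x, φ x ≠ 1)
    (Y : Cfsg.IrrCharacter G) (hres : (fun x : A => (Y : G → ℂ) x) = φ) :
    (∀ u ∈ H, (Y : G → ℂ) u = (Y : G → ℂ) 1) ∧ ∃ g : G, (Y : G → ℂ) g ≠ (Y : G → ℂ) 1 := by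
  classical
  have hval : ∀ x : A, (Y : G → ℂ) x = φ x := fun x => congrFun hres x
  constructor
  · intro u hu
    have h1 := hval ⟨u, hH hu⟩
    have h2 := hval 1
    rw [Subgroup.coe_one] at h2
    rw [h2, ← hφH ⟨u, hH hu⟩ hu]
    exact h1
  · by_contra hcon
    push_neg at hcon
    have hconst : ∀ x : A, φ x = φ 1 := by
      intro x
      rw [← hval x, ← hval 1, hcon (x : G), hcon ((1 : A) : G)]
    obtain ⟨n, hn, hn1⟩ := IsIrrCharacter.apply_one_pos hφ
    have hnorm := classInner_irr_self hφ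
    rw [classInner_def] at hnorm
    simp_rw [hconst, hn1, Complex.conj_natCast] at hnorm
    rw [Finset.sum_const, Finset.card_univ, nsmul_eq_mul, ← Nat.card_eq_fintype_card] at hnorm
    have hA0 : (Nat.card A : ℂ) ≠ 0 := by
      have : 0 < Nat.card A := Nat.card_pos
      exact_mod_cast this.ne'
    rw [inv_mul_cancel_left₀ hA0] at hnorm
    have hnn : n * n = 1 := by exact_mod_cast hnorm
    have hn1' : n = 1 := by nlinarith
    obtain ⟨x0, hx0⟩ := hx0
    apply hx0
    rw [hconst x0, hn1, hn1', Nat.cast_one]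

section

variable [Fintype G] [Fintype Ω]
  (hZ : Cfsg.IsZassenhausGroup G Ω) {a b : Ω} (hab : a ≠ b)
  (H : Subgroup G) (hHa : H ≤ stabilizer G a) (hHcard : Nat.card H + 1 = Fintype.card Ω)
  (hHfix : ∀ u ∈ H, u ≠ 1 → ∀ c : Ω, u • c = c → c = a)
  (hHab : ∀ u ∈ H, ∀ v ∈ H, u * v = v * u)

include hZ hab hHa hHcard hHfix hHab

/-- In a Zassenhaus group with abelian Frobenius kernels whose two-point stabiliser has even order
`|Ω| - 2`, some irreducible character has a proper kernel containing the Frobenius kernel. -/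
theorem exists_kernel_char
    (he2 : Nat.card ↥(stabilizer G a ⊓ stabilizer G b : Subgroup G) + 2 = Fintype.card Ω)
    (heven : Even (Nat.card ↥(stabilizer G a ⊓ stabilizer G b : Subgroup G)))
    (s : G) (hsa : s • a = b) (hsb : s • b = a) :
    ∃ Y : Cfsg.IrrCharacter G, (∀ u ∈ H, (Y : G → ℂ) u = (Y : G → ℂ) 1) ∧
      ∃ g : G, (Y : G → ℂ) g ≠ (Y : G → ℂ) 1 := by
  classical
  haveI : Fintype (stabilizer G a) := Fintype.ofFinite _
  haveI : Finite (Cfsg.IrrCharacter G) := irr_finite
  haveI : Fintype (Cfsg.IrrCharacter G) := Fintype.ofFinite _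
  haveI : Finite (Cfsg.IrrCharacter (stabilizer G a)) := irr_finite
  haveI : Fintype (Cfsg.IrrCharacter (stabilizer G a)) := Fintype.ofFinite _
  obtain ⟨φ, hφ, hφH, hx0, hodd, hde, hd2, hnorm⟩ :=
    exists_phi hZ hab H hHa hHcard hHfix heven s hsa hsb
  set e := Nat.card ↥(stabilizer G a ⊓ stabilizer G b : Subgroup G) with he
  set d := Cfsg.charDegree φ with hd
  have he_pos : 0 < e := Nat.card_pos
  have hφchar := IsIrrCharacter.isCharacter hφ
  have hcf := IsCharacter.isClassFunction hφchar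
  have hφ1 : φ 1 = (d : ℂ) := (charDegree_cast_of_isCharacter hφchar).symm
  have hIndchar : Cfsg.IsCharacter G (Cfsg.indFun (stabilizer G a) φ) :=
    isCharacter_indFun _ φ hφchar
  obtain ⟨X, Y, hXY, hsum, hX1, hY1⟩ := exists_two_irr_of_norm_two hIndchar hnorm
  -- the relevant character `θ`
  have hrel := zas_card_rel_mul hZ hab H hHa hHcard hHfix hHab
  have hne : Nonempty {χ : Cfsg.IrrCharacter (stabilizer G a) //
      (χ : stabilizer G a → ℂ) ∈ zasRel a H} := by
    by_contra hcon
    rw [not_nonempty_iff] at hcon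
    rw [Nat.card_of_isEmpty, zero_mul] at hrel
    omega
  obtain ⟨⟨θ, hθ⟩⟩ := hne
  have hθoff := zasRel_apply_off hZ hab H hHa hHcard hHfix hθ
  have hθ1 : (θ : stabilizer G a → ℂ) 1 = (e : ℂ) :=
    zasRel_apply_one hZ hab H hHa hHcard hHfix hHab hθ
  have hθchar := IsIrrCharacter.isCharacter θ.2
  have hθdeg : Cfsg.charDegree (θ : stabilizer G a → ℂ) = e := by
    have h1 : (Cfsg.charDegree (θ : stabilizer G a → ℂ) : ℂ) = (e : ℂ) := by
      rw [charDegree_cast_of_isCharacter hθchar, hθ1]
    exact_mod_cast h1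
  have hφθ : (⟨φ, hφ⟩ : Cfsg.IrrCharacter (stabilizer G a)) ≠ θ := by
    intro h
    obtain ⟨k, hk, hne⟩ := hθ.2
    apply hne
    rw [← h]
    show φ k = φ 1
    exact hφH k hk
  have hφθ' : (θ : stabilizer G a → ℂ) ≠ φ := fun h => hφθ (Subtype.ext h.symm)
  have hIP := zas_classInner_indFun hZ hab H hHa hHcard hHfix (b := b)
    (θ : stabilizer G a → ℂ) φ hcf hθoff
  have he0 : (e : ℂ) ≠ 0 := by exact_mod_cast he_pos.ne'
  rw [classInner_irr_ne θ.2 hφ hφθ', zero_add, hθ1, hφ1, Complex.conj_natCast, ← he,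
    mul_div_assoc, mul_comm, div_mul_cancel₀ _ he0] at hIP
  -- restrictions
  have key : ∀ χ : Cfsg.IrrCharacter G,
      Cfsg.classInner (Cfsg.indFun (stabilizer G a) φ) (χ : G → ℂ) = 1 →
      ∃ m : ℕ, Cfsg.classInner (Cfsg.indFun (stabilizer G a) (θ : stabilizer G a → ℂ))
          (χ : G → ℂ) = m ∧
        d + m * e ≤ Cfsg.charDegree (χ : G → ℂ) ∧
        (Cfsg.charDegree (χ : G → ℂ) = d →
          (fun x : stabilizer G a => (χ : G → ℂ) x) = φ) := by
    intro χ hχ1
    have hχchar := IsIrrCharacter.isCharacter χ.2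
    have hRchar : Cfsg.IsCharacter (stabilizer G a) (fun x : stabilizer G a => (χ : G → ℂ) x) :=
      IsCharacter.restrict _ hχchar
    have hχcf := IsCharacter.isClassFunction hχchar
    obtain ⟨m, hm⟩ := classInner_char_char_nat hRchar hθchar
    have h1 : Cfsg.classInner (fun x : stabilizer G a => (χ : G → ℂ) x) φ = ((1 : ℕ) : ℂ) := by
      rw [classInner_conj_symm, ← frobenius_reciprocity _ φ _ hχcf, hχ1]
      simp
    have h2 : Cfsg.classInner (Cfsg.indFun (stabilizer G a) (θ : stabilizer G a → ℂ))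
        (χ : G → ℂ) = m := by
      rw [frobenius_reciprocity _ _ _ hχcf, classInner_conj_symm, hm, Complex.conj_natCast]
    have hdegR : Cfsg.charDegree (fun x : stabilizer G a => (χ : G → ℂ) x) =
        Cfsg.charDegree (χ : G → ℂ) := by
      unfold Cfsg.charDegree
      beta_reduce
      rw [Subgroup.coe_one]
    refine ⟨m, h2, ?_, ?_⟩
    · have := degree_ge_two_constituents hRchar ⟨φ, hφ⟩ θ hφθ 1 m h1 hm
      rw [hdegR, hθdeg, one_mul] at this
      exact this
    · intro hdeg
      apply eq_of_degree_eq hRchar ⟨φ, hφ⟩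
      · rw [h1, Nat.cast_one]
      · rw [hdegR, hdeg]
  obtain ⟨mX, hmX, hXge, hXeq⟩ := key X hX1
  obtain ⟨mY, hmY, hYge, hYeq⟩ := key Y hY1
  -- `mX + mY = d`
  have hmsum : mX + mY = d := by
    have h1 : ((mX + mY : ℕ) : ℂ) = (d : ℂ) := by
      rw [← hIP, hsum, classInner_add_right, hmX, hmY]
      push_cast
      ring
    exact_mod_cast h1
  -- degrees
  have hdegsum : Cfsg.charDegree (X : G → ℂ) + Cfsg.charDegree (Y : G → ℂ) =
      Fintype.card Ω * d := by
    have h1 : ((Cfsg.charDegree (X : G → ℂ) + Cfsg.charDegree (Y : G → ℂ) : ℕ) : ℂ) =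
        ((Fintype.card Ω * d : ℕ) : ℂ) := by
      push_cast
      rw [charDegree_cast_of_isCharacter (IsIrrCharacter.isCharacter X.2),
        charDegree_cast_of_isCharacter (IsIrrCharacter.isCharacter Y.2), ← hφ1,
        ← zas_index_stabilizer hZ hab H hHa hHcard hHfix, ← indFun_apply_one, hsum]
      rfl
    exact_mod_cast h1
  have hme : mX * e + mY * e = d * e := by rw [← add_mul, hmsum]
  have hΩd : Fintype.card Ω * d = d * e + 2 * d := by
    rw [← he2]
    ring
  have hXdeg : Cfsg.charDegree (X : G → ℂ) = d + mX * e := by omega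
  have hYdeg : Cfsg.charDegree (Y : G → ℂ) = d + mY * e := by omega
  -- divisibility
  have hGcard : Nat.card G = (e + 2) * (e + 1) * e := by
    have hA := zas_card_stabilizer hZ hab H hHa hHcard hHfix (b := b)
    have hidx := zas_index_stabilizer hZ hab H hHa hHcard hHfix
    rw [← Subgroup.card_mul_index (stabilizer G a), hidx, hA, ← he, ← he2]
    have : e + 2 - 1 = e + 1 := by omega
    rw [this]
    ring
  have hXdvd := charDegree_dvd_card X.2
  have hYdvd := charDegree_dvd_card Y.2
  rw [hXdeg, hGcard] at hXdvd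
  rw [hYdeg, hGcard] at hYdvd
  obtain ⟨n, hn⟩ := hde
  have hdn : d < n := by
    have h1 : d * d < d * n := by
      rw [← hn]
      have : d ^ 2 = d * d := sq d
      omega
    exact Nat.lt_of_mul_lt_mul_left h1
  have hzero : mX = 0 ∨ mY = 0 := by
    by_contra hcon
    push_neg at hcon
    have hne : mX ≠ mY := by
      intro h
      obtain ⟨k, hk⟩ := hodd
      omega
    apply arith_main d n mX mY hmsum hdn (Nat.one_le_iff_ne_zero.mpr hcon.1)
      (Nat.one_le_iff_ne_zero.mpr hcon.2) hne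
    · rw [← hn]
      have : d + e * mX = d + mX * e := by ring
      rw [this]
      exact hXdvd
    · rw [← hn]
      have : d + e * mY = d + mY * e := by ring
      rw [this]
      exact hYdvd
  rcases hzero with h0 | h0
  · rw [h0, zero_mul, add_zero] at hXdeg
    exact ⟨X, kernel_of_restrict_eq _ H hHa φ hφ hφH hx0 X (hXeq hXdeg)⟩
  · rw [h0, zero_mul, add_zero] at hYdeg
    exact ⟨Y, kernel_of_restrict_eq _ H hHa φ hφ hφH hx0 Y (hYeq hYdeg)⟩

end

end Cfsg.Agent.Helper2.Sh3Sim
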