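import Mathlib
import Cfsg.Prelude.Def_Characters
import Cfsg.Prelude.Def_Blocks
import Cfsg.Prelude.Def_LieExceptional
import Cfsg.Agent.Helper2.Sh3SimG
import Cfsg.Agent.Helper2.ZasPSLG
import Cfsg.Agent.Helper6.BlockKernel
import Cfsg.Agent.S0741

/-!
# Zassenhaus groups with two-point stabilisers of even order: the sharply triply transitive case
has a proper normal subgroup containing the Frobenius kernels
-/

set_option autoImplicit false
set_option linter.style.haveILetI false
set_option linter.unusedSectionVars false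

namespace Cfsg.Agent.Helper2.Sh3Sim

open MulAction Cfsg.Agent.Helper6
open scoped ComplexConjugate

universe u v

variable {G : Type u} {Ω : Type v} [Group G] [MulAction G Ω]

theorem four_le_card [Fintype Ω] (hZ : Cfsg.IsZassenhausGroup G Ω) {a b : Ω} (hab : a ≠ b)
    [Finite G]
    (h2 : 2 ≤ Nat.card ↥(stabilizer G a ⊓ stabilizer G b : Subgroup G)) :
    4 ≤ Fintype.card Ω := by
  classical
  haveI : Nontrivial ↥(stabilizer G a ⊓ stabilizer G b : Subgroup G) :=
    (Finite.one_lt_card_iff_nontrivial).mp (by omega)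
  obtain ⟨g, hg1⟩ := exists_ne (1 : ↥(stabilizer G a ⊓ stabilizer G b : Subgroup G))
  have hg := g.2
  rw [Subgroup.mem_inf, mem_stabilizer_iff, mem_stabilizer_iff] at hg
  obtain ⟨hga, hgb⟩ := hg
  haveI := hZ.1
  have hex : ∃ c : Ω, (g : G) • c ≠ c := by
    by_contra hcon
    push_neg at hcon
    apply hg1
    apply Subtype.ext
    apply hZ.1.eq_of_smul_eq_smul (α := Ω)
    intro y
    rw [hcon y, Subgroup.coe_one, one_smul]
  obtain ⟨c, hc⟩ := hex
  have hca : c ≠ a := by
    rintro rfl
    exact hc hga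
  have hcb : c ≠ b := by
    rintro rfl
    exact hc hgb
  have hgca : (g : G) • c ≠ a := by
    intro h
    apply hca
    exact smul_left_cancel (g : G) (h.trans hga.symm)
  have hgcb : (g : G) • c ≠ b := by
    intro h
    apply hcb
    exact smul_left_cancel (g : G) (h.trans hgb.symm)
  have hcard : ({a, b, c, (g : G) • c} : Finset Ω).card = 4 := by
    rw [Finset.card_insert_of_notMem, Finset.card_insert_of_notMem, Finset.card_pair hc.symm]
    · simp only [Finset.mem_insert, Finset.mem_singleton, not_or]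
      exact ⟨Ne.symm hcb, Ne.symm hgcb⟩
    · simp only [Finset.mem_insert, Finset.mem_singleton, not_or]
      exact ⟨hab, Ne.symm hca, Ne.symm hgca⟩
  calc 4 = ({a, b, c, (g : G) • c} : Finset Ω).card := hcard.symm
    _ ≤ Fintype.card Ω := Finset.card_le_univ _

/-- the sharply triply transitive case with `e` even: a proper normal subgroup containing the
elements that fix `a` only -/
theorem exists_normal_of_sharp [Finite G] [Fintype Ω] (hZ : Cfsg.IsZassenhausGroup G Ω)
    {a b : Ω} (hab : a ≠ b)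
    (heven : Even (Nat.card ↥(stabilizer G a ⊓ stabilizer G b : Subgroup G)))
    (he2 : Nat.card ↥(stabilizer G a ⊓ stabilizer G b : Subgroup G) + 2 = Fintype.card Ω) :
    ∃ K : Subgroup G, K.Normal ∧ K ≠ ⊤ ∧
      ∀ u : G, u • a = a → (∀ c : Ω, u • c = c → c = a) → u ∈ K := by
  classical
  haveI : Fintype G := Fintype.ofFinite G
  have hepos : 0 < Nat.card ↥(stabilizer G a ⊓ stabilizer G b : Subgroup G) := Nat.card_pos
  have he2' : 2 ≤ Nat.card ↥(stabilizer G a ⊓ stabilizer G b : Subgroup G) := by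
    obtain ⟨k, hk⟩ := heven
    omega
  have h4 : 4 ≤ Fintype.card Ω := by omega
  have hd' : Fintype.card Ω - 2 ≤ 2 * Nat.card ↥(stabilizer G a ⊓ stabilizer G b) := by omega
  obtain ⟨N, hNa, hNfree, hNtrans, hNnorm, hNcomm, hNcard, -⟩ :=
    Cfsg.Agent.Helper2.ZasPSL.exists_kernel_data hZ hab hd' h4
  have hHa : N ≤ stabilizer G a := fun n hn => mem_stabilizer_iff.mpr (hNa n hn)
  have hHfix : ∀ u ∈ N, u ≠ 1 → ∀ c : Ω, u • c = c → c = a := by
    intro u hu hu1 c hc
    by_contra hca
    exact hu1 (hNfree u hu c hca hc)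
  have h2t := hZ.2.1
  rw [is_two_pretransitive_iff] at h2t
  obtain ⟨s, hsa, hsb⟩ := h2t hab (Ne.symm hab)
  obtain ⟨Y, hYN, g, hYg⟩ := exists_kernel_char hZ hab N hHa hNcard hHfix hNcomm he2 heven s hsa hsb
  refine ⟨kerSub Y, kerSub_normal Y, ?_, ?_⟩
  · intro htop
    apply hYg
    rw [← mem_kerSub, htop]
    trivial
  · intro u hua hufix
    rw [mem_kerSub]
    apply hYN
    rw [zas_mem_kernel_iff hZ hab N hHa hNcard hHfix]
    exact ⟨hua, Or.inr hufix⟩

/-- a simple Zassenhaus group with `e` even has `2 e = |Ω| - 2` -/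
theorem two_mul_eq_of_simple [Finite G] [Fintype Ω] (hZ : Cfsg.IsZassenhausGroup G Ω)
    [IsSimpleGroup G] {a b : Ω} (hab : a ≠ b)
    (heven : Even (Nat.card ↥(stabilizer G a ⊓ stabilizer G b : Subgroup G))) :
    2 * Nat.card ↥(stabilizer G a ⊓ stabilizer G b : Subgroup G) = Fintype.card Ω - 2 := by
  classical
  haveI : Fintype G := Fintype.ofFinite G
  have hepos : 0 < Nat.card ↥(stabilizer G a ⊓ stabilizer G b : Subgroup G) := Nat.card_pos
  have he2' : 2 ≤ Nat.card ↥(stabilizer G a ⊓ stabilizer G b : Subgroup G) := by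
    obtain ⟨k, hk⟩ := heven
    omega
  have h4 : 4 ≤ Fintype.card Ω := four_le_card hZ hab he2'
  have hd' := Cfsg.Agent.S0741.result hZ hab heven
  obtain ⟨N, hNa, hNfree, hNtrans, hNnorm, hNcomm, hNcard, -⟩ :=
    Cfsg.Agent.Helper2.ZasPSL.exists_kernel_data hZ hab hd' h4
  have hHa : N ≤ stabilizer G a := fun n hn => mem_stabilizer_iff.mpr (hNa n hn)
  have hHfix : ∀ u ∈ N, u ≠ 1 → ∀ c : Ω, u • c = c → c = a := by
    intro u hu hu1 c hc
    by_contra hca
    exact hu1 (hNfree u hu c hca hc)
  have hrel := zas_card_rel_mul hZ hab N hHa hNcard hHfix hNcomm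
  set k := Nat.card {χ : Cfsg.IrrCharacter (stabilizer G a) //
    (χ : stabilizer G a → ℂ) ∈ zasRel a N} with hk
  set e := Nat.card ↥(stabilizer G a ⊓ stabilizer G b : Subgroup G) with he
  have hk2 : k ≤ 2 := by
    by_contra hcon
    have h3 : 3 ≤ k := by omega
    have : 3 * e ≤ k * e := Nat.mul_le_mul_right e h3
    omega
  have hk0 : k ≠ 0 := by
    intro h0
    rw [h0, zero_mul] at hrel
    omega
  have hk12 : k = 1 ∨ k = 2 := by omega
  rcases hk12 with h1 | h2
  · exfalso
    rw [h1, one_mul] at hrel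
    have he2 : e + 2 = Fintype.card Ω := by omega
    obtain ⟨K, hKn, hKtop, hKN⟩ := exists_normal_of_sharp hZ hab heven he2
    rcases hKn.eq_bot_or_eq_top with hbot | htop
    · -- `N` is non-trivial
      have hN1 : ∃ u ∈ N, u ≠ 1 := by
        by_contra hcon
        push_neg at hcon
        have hNbot : N = ⊥ := by
          rw [Subgroup.eq_bot_iff_forall]
          exact hcon
        rw [hNbot, Subgroup.card_bot] at hNcard
        omega
      obtain ⟨u, hu, hu1⟩ := hN1
      have : u ∈ K := hKN u (hNa u hu) (hHfix u hu hu1)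
      rw [hbot, Subgroup.mem_bot] at this
      exact hu1 this
    · exact hKtop htop
  · rw [h2] at hrel
    exact hrel

end Cfsg.Agent.Helper2.Sh3Sim
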