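import Mathlib
import Cfsg.Agent.Helper2.ZasPSLG

set_option autoImplicit false

/-!
A Zassenhaus group of degree `n + 1` whose two-point stabiliser has even order `d` with
`2 d ≤ n - 1`: the two-point stabiliser is cyclic and inverted by an involution.
-/

namespace Cfsg.Agent.Helper2.Sh3Sim

open MulAction OnePoint Cfsg.Agent.Helper7.Zass Cfsg.Agent.Helper2.ZasPSL

set_option maxHeartbeats 1600000 in
theorem cyclic_and_inverted {G Ω : Type*} [Group G] [Finite G] [MulAction G Ω] [Fintype Ω]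
    (hZ : Cfsg.IsZassenhausGroup G Ω) {a b : Ω} (hab : a ≠ b)
    (heven : Even (Nat.card ↥(stabilizer G a ⊓ stabilizer G b)))
    (hd : 2 * Nat.card ↥(stabilizer G a ⊓ stabilizer G b) ≤ Fintype.card Ω - 2) :
    IsCyclic ↥(stabilizer G a ⊓ stabilizer G b) ∧
      ∃ v : G, orderOf v = 2 ∧ v • a = b ∧ v • b = a ∧
        ∀ h ∈ stabilizer G a ⊓ stabilizer G b, v * h * v⁻¹ = h⁻¹ := by
  classical
  have hd' := Cfsg.Agent.S0741.result hZ hab heven
  have hZH := zhyp_of hZ
  obtain ⟨s, c₀, hs2, hsa, hsb, hc₀a, hc₀b, hsc, hsH⟩ := exists_invol hZ hab heven hd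
  have hfaith : FaithfulSMul G Ω := hZ.1
  have hp3 := hZ.2.2.1
  set H : Subgroup G := stabilizer G a ⊓ stabilizer G b with hH
  have hmemH : ∀ h : G, h ∈ H ↔ h • a = a ∧ h • b = b := by
    intro h
    rw [hH, Subgroup.mem_inf, mem_stabilizer_iff, mem_stabilizer_iff]
  have hHpos : 0 < Nat.card H := Nat.card_pos
  have hdpos : 2 ≤ Nat.card H := by
    obtain ⟨k, hk⟩ := heven
    omega
  have hΩ : Fintype.card Ω = 2 * Nat.card H + 2 := by omega
  obtain ⟨N, hNa, hNfree, hNtrans, hNnorm, hNcomm, hNcard, hirr⟩ :=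
    exists_kernel_data hZ hab hd' (by omega)
  -- `s` inverts `H`
  have hinvert : ∀ u : G, (∀ h ∈ H, (u * h) * (u * h) = 1) → ∀ h ∈ H, u * h = h⁻¹ * u := by
    intro u hu h hh
    have hu2 : u * u = 1 := by
      have := hu 1 H.one_mem
      rwa [mul_one] at this
    have huinv : u⁻¹ = u := inv_eq_of_mul_eq_one_right hu2
    have e : (u * h)⁻¹ = u * h := inv_eq_of_mul_eq_one_right (hu h hh)
    rw [← e, mul_inv_rev, huinv]
  have hsh := hinvert s hsH
  have hHcomm : ∀ h ∈ H, ∀ k ∈ H, h * k = k * h := by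
    intro h hh k hk
    have e1 := hsh (h * k) (H.mul_mem hh hk)
    have e2 : s * (h * k) = h⁻¹ * k⁻¹ * s := by
      rw [← mul_assoc, hsh h hh, mul_assoc, hsh k hk, mul_assoc]
    have e3 : (h * k)⁻¹ = h⁻¹ * k⁻¹ := mul_right_cancel (e1.symm.trans e2)
    have e4 : (h * k)⁻¹ = (k * h)⁻¹ := by rw [e3, mul_inv_rev]
    exact inv_injective e4
  obtain ⟨K, instF, instFin, pt, χ, hptinj, hptsurj, hpta, hpt0, hpt1, hT, hM, hKcard⟩ :=
    exists_coordinates N H hNa hNfree hNtrans (fun h hh => hNnorm h ((hmemH h).1 hh).1) hNcomm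
      hHcomm (fun h hh => ((hmemH h).1 hh).2) hirr hab hc₀a hc₀b
  have hcardK : Fintype.card K = 2 * Nat.card H + 1 := by omega
  have hHa : ∀ h : ↥H, (h : G) • a = a := fun h => ((hmemH h).1 h.2).1
  have hHb : ∀ h : ↥H, (h : G) • b = b := fun h => ((hmemH h).1 h.2).2
  have hχ0 : ∀ h : ↥H, χ h ≠ 0 := by
    intro h e
    have h1 := hM h 1
    rw [e, zero_mul, hpt0, hpt1] at h1
    have h2 : (h : G) • c₀ = (h : G) • b := by rw [h1, hHb h]
    exact hc₀b (smul_left_cancel _ h2)
  have hχmul : ∀ h k : ↥H, χ (h * k) = χ h * χ k := by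
    intro h k
    have h1 := hM (h * k) 1
    rw [Subgroup.coe_mul, mul_smul, hM k 1, hM h] at h1
    have h2 := hptinj h1
    rw [mul_one, mul_one] at h2
    exact h2.symm
  have hχ1 : χ 1 = 1 := by
    have h1 := hM 1 1
    rw [Subgroup.coe_one, one_smul] at h1
    have h2 := hptinj h1
    rw [mul_one] at h2
    exact h2.symm
  have hχinv : ∀ h : ↥H, χ h⁻¹ = (χ h)⁻¹ := by
    intro h
    have h1 := hχmul h⁻¹ h
    rw [inv_mul_cancel, hχ1] at h1
    exact eq_inv_of_mul_eq_one_left h1.symm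
  have hχinj : Function.Injective χ := by
    intro h k hhk
    apply Subtype.ext
    apply hfaith.eq_of_smul_eq_smul (α := Ω)
    intro y
    by_cases hy : y = a
    · rw [hy, hHa h, hHa k]
    · obtain ⟨x, rfl⟩ := hptsurj y hy
      rw [hM h x, hM k x, hhk]
  constructor
  · let f : ↥H →* K :=
      { toFun := χ
        map_one' := hχ1
        map_mul' := hχmul }
    exact isCyclic_of_injective_ringHom f hχinj
  · refine ⟨s, ?_, hsa, hsb, ?_⟩
    · apply orderOf_eq_prime
      · rw [pow_two]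
        exact hs2
      · rintro rfl
        rw [one_smul] at hsa
        exact hab hsa
    · intro h hh
      rw [hsh h hh, mul_assoc, mul_inv_cancel, mul_one]

end Cfsg.Agent.Helper2.Sh3Sim
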