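import Mathlib
import Cfsg.Agent.Helper2.SimpleSmall3
import Cfsg.Agent.Helper2.Ord1040
import Cfsg.Agent.Helper2.Ord756
import Cfsg.Agent.Helper2.SylowConj
import Cfsg.Agent.Helper8.SylAct
import Cfsg.Agent.S0345
import Cfsg.Agent.S1009

/-!
# No simple group of order 720, part 1 (helper2, for S0496)

Front matter (`n_5 = 36`, `n_3 ∈ {10, 40}`) and the case `n_3 = 10`: the Sylow 3-subgroups are
trivial intersection sets, the action on them is a Zassenhaus group of degree 10, the two-point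
stabilizer is cyclic of order 8 (S0345) and its generator is an odd permutation.
-/

set_option autoImplicit false
set_option maxRecDepth 8192
set_option synthInstance.maxSize 2048

namespace Cfsg.Agent.Helper2.SimpleSmall2

open Subgroup MulAction

section ord720

variable {G : Type*} [Group G] [Finite G] [IsSimpleGroup G]

theorem ord720_sylow5 (hG : ¬ IsMulCommutative G) (h : Nat.card G = 720)
    [Fact (Nat.Prime 5)] : Nat.card (Sylow 5 G) = 36 := by
  obtain ⟨d, hd, h1, h2, h3, h4, h5, h6, -⟩ := sylow_count3 (G := G) hG 5 1 144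
    (h.trans (by norm_num)) (by norm_num) (by norm_num) (by norm_num)
  have hle : d ≤ 144 := Nat.le_of_dvd (by norm_num) h1
  have h4' : d ≤ 20 → 5 ^ 1 * 144 ∣ d.factorial := fun _ => h4
  have key : ∀ d ≤ 144, (d ∣ 144 ∧ d % 5 = 1 ∧ d ≠ 1 ∧ (d ≤ 20 → 5 ^ 1 * 144 ∣ d.factorial) ∧
      (1 = 1 → ¬ Nat.Coprime (5 ^ 1 * 144 / d) (5 - 1)) ∧
      (1 = 1 → 5 ≠ 2 → (d = 5 ∨ d = 5 + 1) → 2 * (5 ^ 1 * 144 / d) ∣ 5 * (5 - 1))) →
      d = 36 := by decide
  rw [← hd]; exact key d hle ⟨h1, h2, h3, h4', h5, h6⟩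

omit [IsSimpleGroup G] in
theorem ord720_card_sylow3 (h : Nat.card G = 720) [Fact (Nat.Prime 3)] (P : Sylow 3 G) :
    Nat.card P = 9 := by
  have := SylowExact.card_sylow_of_exact_pow (h.trans (by norm_num : 720 = 3 ^ 2 * 80))
    (by norm_num) P
  rw [this]; norm_num

theorem ord720_sylow3 (hG : ¬ IsMulCommutative G) (h : Nat.card G = 720)
    [Fact (Nat.Prime 3)] : Nat.card (Sylow 3 G) = 10 ∨ Nat.card (Sylow 3 G) = 40 := by
  have h5 : Fact (Nat.Prime 5) := ⟨by norm_num⟩
  obtain ⟨d, hd, h1, h2, h3, h4, -⟩ := sylow_count3 (G := G) hG 3 2 80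
    (h.trans (by norm_num)) (by norm_num) (by norm_num) (by norm_num)
  have hle : d ≤ 80 := Nat.le_of_dvd (by norm_num) h1
  have h4' : d ≤ 20 → 3 ^ 2 * 80 ∣ d.factorial := fun _ => h4
  have key : ∀ d ≤ 80, (d ∣ 80 ∧ d % 3 = 1 ∧ d ≠ 1 ∧ (d ≤ 20 → 3 ^ 2 * 80 ∣ d.factorial)) →
      d = 10 ∨ d = 16 ∨ d = 40 := by decide
  rcases key d hle ⟨h1, h2, h3, h4'⟩ with h10 | h16 | h40
  · left; rw [← hd]; exact h10
  · exfalso
    let P : Sylow 3 G := default
    have hPc := ord720_card_sylow3 h P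
    have hNS := SmallOrder.card_normalizer_mul_card_sylow P
    rw [← hd, h16, h] at hNS
    have hNc : Nat.card (normalizer ((P : Subgroup G) : Set G)) = 45 := by omega
    obtain ⟨x, hx⟩ := exists_prime_orderOf_dvd_card' (G := normalizer ((P : Subgroup G) : Set G)) 5
      (by rw [hNc]; norm_num)
    have hxo : orderOf (x : G) = 5 := by rw [Subgroup.orderOf_coe]; exact hx
    have hx5 : (x : G) ^ 5 = 1 := by rw [← hxo]; exact pow_orderOf_eq_one _
    have key9 : ∀ e ≤ 9, e ∣ 9 → 9 % 5 = e % 5 → e = 9 := by decide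
    have hxC : (x : G) ∈ centralizer ((P : Subgroup G) : Set G) := by
      apply mem_centralizer_of_pow_eq_one (r := 5) (P : Subgroup G) _ x.2 hx5
      intro e he hmod
      rw [hPc] at he hmod ⊢
      exact key9 e (Nat.le_of_dvd (by norm_num) he) he hmod
    -- the Sylow 5-subgroup generated by `x`
    have hZc : Nat.card (zpowers (x : G)) = 5 := by rw [Nat.card_zpowers, hxo]
    have hZp : IsPGroup 5 (zpowers (x : G)) := IsPGroup.of_card (n := 1) (by rw [hZc, pow_one])
    obtain ⟨Q, hQ⟩ := hZp.exists_le_sylow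
    have hQc : Nat.card Q = 5 := by
      have := SylowExact.card_sylow_of_exact_pow (h.trans (by norm_num : 720 = 5 ^ 1 * 144))
        (by norm_num) Q
      rw [this]; norm_num
    have hQeq : zpowers (x : G) = (Q : Subgroup G) :=
      Subgroup.eq_of_le_of_card_ge hQ (by rw [hQc, hZc])
    have hNQ := SmallOrder.card_normalizer_mul_card_sylow Q
    rw [ord720_sylow5 hG h, h] at hNQ
    have hNQc : Nat.card (normalizer ((Q : Subgroup G) : Set G)) = 20 := by omega
    have hPle : (P : Subgroup G) ≤ normalizer ((Q : Subgroup G) : Set G) := by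
      refine le_trans ?_ (centralizer_le_normalizer _)
      rw [← hQeq, Subgroup.le_centralizer_iff]
      rw [zpowers_le]; exact hxC
    have := Subgroup.card_dvd_of_le hPle
    rw [hPc, hNQc] at this
    omega
  · right; rw [← hd]; exact h40

omit [Finite G] [IsSimpleGroup G] in
/-- the intersection of all Sylow subgroups is normal -/
theorem iInf_sylow_normal (p : ℕ) : (⨅ R : Sylow p G, (R : Subgroup G)).Normal := by
  constructor
  intro n hn g
  rw [Subgroup.mem_iInf] at hn ⊢
  intro R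
  have := hn (g⁻¹ • R)
  rw [Cfsg.Agent.Helper2.mem_smul_sylow_iff] at this
  simpa using this

omit [Finite G] [IsSimpleGroup G] in
/-- the number of points other than a given one -/
theorem card_subtype_ne_add_one {α : Type*} [Finite α] (a : α) :
    Nat.card {b : α // b ≠ a} + 1 = Nat.card α := by
  classical
  rw [← Finite.card_option]
  exact Nat.card_congr (Equiv.optionSubtypeNe a)

/-- with ten Sylow 3-subgroups: they intersect trivially and each one permutes the others
transitively -/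
theorem ord720_TI (h : Nat.card G = 720) [Fact (Nat.Prime 3)]
    (h10 : Nat.card (Sylow 3 G) = 10) :
    (∀ P R : Sylow 3 G, P ≠ R → (P : Subgroup G) ⊓ (R : Subgroup G) = ⊥) ∧
    (∀ P R R' : Sylow 3 G, R ≠ P → R' ≠ P → ∃ x ∈ (P : Subgroup G), x • R = R') := by
  have hab : ∀ P : Sylow 3 G, IsMulCommutative ↥(P : Subgroup G) := fun P =>
    IsPGroup.isMulCommutative_of_card_eq_prime_sq (p := 3)
      ((ord720_card_sylow3 h P).trans (by norm_num))
  obtain ⟨P0, Q0, hPQ⟩ := Cfsg.Agent.S1009.result (G := G) 3 hab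
  have hK : (⨅ R : Sylow 3 G, (R : Subgroup G)) = ⊥ := by
    rcases (iInf_sylow_normal (G := G) 3).eq_bot_or_eq_top with h0 | h0
    · exact h0
    · exfalso
      have hle : (⊤ : Subgroup G) ≤ (P0 : Subgroup G) := by
        rw [← h0]; exact iInf_le _ P0
      have := Subgroup.card_le_of_le hle
      rw [Subgroup.card_top, h, ord720_card_sylow3 h P0] at this
      omega
  rw [hK] at hPQ
  have hne0 : Q0 ≠ P0 := by
    rintro rfl
    rw [inf_idem] at hPQ
    have := ord720_card_sylow3 h Q0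
    rw [hPQ, Subgroup.card_bot] at this
    omega
  -- `P0` acts regularly on the other Sylow subgroups
  have hfix : ∀ x ∈ (P0 : Subgroup G), ∀ R : Sylow 3 G, R ≠ P0 → x • R ≠ P0 := by
    intro x hx R hR hxR
    apply hR
    have hxP : x • P0 = P0 := Sylow.smul_eq_iff_mem_normalizer.mpr (le_normalizer hx)
    rw [← hxP] at hxR
    exact smul_left_cancel x hxR
  let f : ↥(P0 : Subgroup G) → {R : Sylow 3 G // R ≠ P0} :=
    fun x => ⟨(x : G) • Q0, hfix x x.2 Q0 hne0⟩
  have hf : Function.Injective f := by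
    intro x y hxy
    have h1 : (x : G) • Q0 = (y : G) • Q0 := congrArg Subtype.val hxy
    have h2 : ((y : G)⁻¹ * (x : G)) • Q0 = Q0 := by
      rw [mul_smul, h1, inv_smul_smul]
    have h3 : (y : G)⁻¹ * (x : G) ∈ normalizer ((Q0 : Subgroup G) : Set G) :=
      Sylow.smul_eq_iff_mem_normalizer.mp h2
    have h4 : (y : G)⁻¹ * (x : G) ∈ (P0 : Subgroup G) ⊓ normalizer ((Q0 : Subgroup G) : Set G) :=
      ⟨(P0 : Subgroup G).mul_mem ((P0 : Subgroup G).inv_mem y.2) x.2, h3⟩
    have h5 : (P0 : Subgroup G) ⊓ normalizer ((Q0 : Subgroup G) : Set G) =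
        (P0 : Subgroup G) ⊓ (Q0 : Subgroup G) := IsPGroup.inf_normalizer_sylow P0.2 Q0
    rw [h5, hPQ, mem_bot] at h4
    apply Subtype.ext
    have := congrArg (fun z => (y : G) * z) h4
    simpa using this
  have hcard : Nat.card (P0 : Subgroup G) = Nat.card {R : Sylow 3 G // R ≠ P0} := by
    have := card_subtype_ne_add_one P0
    rw [h10] at this
    rw [ord720_card_sylow3 h P0]; omega
  have hbij : Function.Bijective f := (Nat.bijective_iff_injective_and_card f).mpr ⟨hf, hcard⟩
  -- transitivity for `P0`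
  have htr0 : ∀ R R' : Sylow 3 G, R ≠ P0 → R' ≠ P0 → ∃ x ∈ (P0 : Subgroup G), x • R = R' := by
    intro R R' hR hR'
    obtain ⟨x, hx⟩ := hbij.2 ⟨R, hR⟩
    obtain ⟨x', hx'⟩ := hbij.2 ⟨R', hR'⟩
    have e1 : (x : G) • Q0 = R := congrArg Subtype.val hx
    have e2 : (x' : G) • Q0 = R' := congrArg Subtype.val hx'
    refine ⟨(x' : G) * (x : G)⁻¹, (P0 : Subgroup G).mul_mem x'.2 ((P0 : Subgroup G).inv_mem x.2), ?_⟩
    rw [← e1, mul_smul, inv_smul_smul, e2]
  -- transport to an arbitrary Sylow subgroup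
  have htr : ∀ P R R' : Sylow 3 G, R ≠ P → R' ≠ P → ∃ x ∈ (P : Subgroup G), x • R = R' := by
    intro P R R' hR hR'
    obtain ⟨g, hg⟩ := MulAction.exists_smul_eq G P0 P
    have h1 : g⁻¹ • R ≠ P0 := by
      intro h1; apply hR; rw [← hg, ← h1, smul_inv_smul]
    have h2 : g⁻¹ • R' ≠ P0 := by
      intro h1; apply hR'; rw [← hg, ← h1, smul_inv_smul]
    obtain ⟨x0, hx0, hx0R⟩ := htr0 _ _ h1 h2
    refine ⟨g * x0 * g⁻¹, ?_, ?_⟩
    · rw [← hg, Cfsg.Agent.Helper2.mem_smul_sylow_iff]
      have : g⁻¹ * (g * x0 * g⁻¹) * g = x0 := by group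
      rw [this]; exact hx0
    · rw [mul_smul, mul_smul, hx0R, smul_inv_smul]
  refine ⟨?_, htr⟩
  intro P R hPR
  obtain ⟨g, hg⟩ := MulAction.exists_smul_eq G P0 P
  have h1 : g⁻¹ • R ≠ P0 := by
    intro h1; apply hPR; rw [← hg, ← h1, smul_inv_smul]
  obtain ⟨x0, hx0, hx0R⟩ := htr0 Q0 _ hne0 h1
  have hx0P : x0 • P0 = P0 := Sylow.smul_eq_iff_mem_normalizer.mpr (le_normalizer hx0)
  have eP : (g * x0) • P0 = P := by rw [mul_smul, hx0P, hg]
  have eR : (g * x0) • Q0 = R := by rw [mul_smul, hx0R, smul_inv_smul]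
  rw [eq_bot_iff]
  intro y hy
  rw [mem_bot]
  have hyP : (g * x0)⁻¹ * y * (g * x0) ∈ (P0 : Subgroup G) := by
    rw [← Cfsg.Agent.Helper2.mem_smul_sylow_iff, eP]; exact hy.1
  have hyR : (g * x0)⁻¹ * y * (g * x0) ∈ (Q0 : Subgroup G) := by
    rw [← Cfsg.Agent.Helper2.mem_smul_sylow_iff, eR]; exact hy.2
  have h3 : (g * x0)⁻¹ * y * (g * x0) ∈ (P0 : Subgroup G) ⊓ (Q0 : Subgroup G) := ⟨hyP, hyR⟩
  rw [hPQ, mem_bot] at h3
  have := congrArg (fun z => (g * x0) * z * (g * x0)⁻¹) h3
  simpa [mul_assoc] using this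

/-- the two-point stabilizers have order 8 -/
theorem ord720_card_stab2 (h : Nat.card G = 720) [Fact (Nat.Prime 3)]
    (h10 : Nat.card (Sylow 3 G) = 10) (P R : Sylow 3 G) (hPR : R ≠ P) :
    Nat.card (stabilizer G P ⊓ stabilizer G R : Subgroup G) = 8 := by
  obtain ⟨-, htr⟩ := ord720_TI h h10
  have hHN : stabilizer G P = normalizer ((P : Subgroup G) : Set G) :=
    Sylow.stabilizer_eq_normalizer P
  have hHc : Nat.card (stabilizer G P) = 72 := by
    have := SmallOrder.card_normalizer_mul_card_sylow P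
    rw [h10, h, ← hHN] at this
    omega
  have horb : orbit (stabilizer G P) R = {R' : Sylow 3 G | R' ≠ P} := by
    ext R'
    constructor
    · rintro ⟨n, rfl⟩ hn
      apply hPR
      have h1 : (n : G) • R = P := hn
      have h2 : (n : G) • P = P := mem_stabilizer_iff.mp n.2
      exact smul_left_cancel (n : G) (h1.trans h2.symm)
    · intro hR'
      obtain ⟨x, hx, hxR⟩ := htr P R R' hPR hR'
      have hxH : x ∈ stabilizer G P :=
        mem_stabilizer_iff.mpr (Sylow.smul_eq_iff_mem_normalizer.mpr (le_normalizer hx))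
      exact ⟨⟨x, hxH⟩, hxR⟩
  have hidx : (stabilizer (stabilizer G P) R).index = 9 := by
    rw [index_stabilizer, horb, ← Nat.card_coe_set_eq]
    have := card_subtype_ne_add_one P
    rw [h10] at this
    change Nat.card {R' : Sylow 3 G // R' ≠ P} = 9
    omega
  have hSc : Nat.card (stabilizer (stabilizer G P) R) = 8 := by
    have := Subgroup.card_mul_index (stabilizer (stabilizer G P) R)
    rw [hidx, hHc] at this; omega
  have hS : stabilizer (stabilizer G P) R = (stabilizer G R).subgroupOf (stabilizer G P) := by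
    ext x
    rw [mem_stabilizer_iff, mem_subgroupOf, mem_stabilizer_iff]
    rfl
  rw [hS, ← inf_subgroupOf_left] at hSc
  rw [← hSc]
  exact (Nat.card_congr (Subgroup.subgroupOfEquivOfLe inf_le_left).toEquiv).symm

/-- an element fixing three Sylow 3-subgroups is trivial -/
theorem ord720_three_points (h : Nat.card G = 720)
    [Fact (Nat.Prime 3)] (h10 : Nat.card (Sylow 3 G) = 10) (g : G) (R1 R2 R3 : Sylow 3 G)
    (h12 : R1 ≠ R2) (h23 : R2 ≠ R3) (h13 : R1 ≠ R3) (hg1 : g • R1 = R1) (hg2 : g • R2 = R2)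
    (hg3 : g • R3 = R3) : g = 1 := by
  by_contra hne
  obtain ⟨hTI, htr⟩ := ord720_TI h h10
  have hT8 := ord720_card_stab2 h h10 R1 R2 h12.symm
  have hgT : g ∈ (stabilizer G R1 ⊓ stabilizer G R2 : Subgroup G) :=
    ⟨mem_stabilizer_iff.mpr hg1, mem_stabilizer_iff.mpr hg2⟩
  have ho8 : orderOf g ∣ 2 ^ 3 := by
    have := Subgroup.orderOf_dvd_natCard _ hgT
    rw [hT8] at this; exact this
  obtain ⟨k, hk3, hk⟩ := (Nat.dvd_prime_pow Nat.prime_two).mp ho8
  have hk0 : k ≠ 0 := by
    rintro rfl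
    rw [pow_zero, orderOf_eq_one_iff] at hk
    exact hne hk
  obtain ⟨j, rfl⟩ := Nat.exists_eq_succ_of_ne_zero hk0
  set v : G := g ^ (2 ^ j) with hv
  have hvo : orderOf v = 2 := by
    rw [hv, orderOf_pow_of_dvd (pow_ne_zero j (by norm_num))
      (by rw [hk]; exact pow_dvd_pow 2 (Nat.le_succ j)), hk, pow_succ,
      Nat.mul_div_cancel_left _ (pow_pos (by norm_num) j)]
  have hvv : v * v = 1 := by
    rw [← pow_two, ← hvo]; exact pow_orderOf_eq_one v
  have hv1 : v ≠ 1 := by
    intro h1; rw [h1, orderOf_one] at hvo; omega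
  -- the element of `R1` moving `R2` to `R3`
  obtain ⟨x, hx, hxR⟩ := htr R1 R2 R3 h12.symm h13.symm
  have hx1 : x ≠ 1 := by
    rintro rfl
    rw [one_smul] at hxR
    exact h23 hxR
  have hgN : g ∈ normalizer ((R1 : Subgroup G) : Set G) := Sylow.smul_eq_iff_mem_normalizer.mp hg1
  have hy : g * x * g⁻¹ ∈ (R1 : Subgroup G) := (mem_normalizer_iff.mp hgN x).mp hx
  have hg2' : g⁻¹ • R2 = R2 := by
    rw [inv_smul_eq_iff]; exact hg2.symm
  have hyR : (g * x * g⁻¹) • R2 = R3 := by
    rw [mul_smul, mul_smul, hg2', hxR, hg3]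
  have hcomm : g * x = x * g := by
    have h2 : (x⁻¹ * (g * x * g⁻¹)) • R2 = R2 := by
      rw [mul_smul, hyR, ← hxR, inv_smul_smul]
    have h3 : x⁻¹ * (g * x * g⁻¹) ∈ normalizer ((R2 : Subgroup G) : Set G) :=
      Sylow.smul_eq_iff_mem_normalizer.mp h2
    have h4 : x⁻¹ * (g * x * g⁻¹) ∈
        (R1 : Subgroup G) ⊓ normalizer ((R2 : Subgroup G) : Set G) :=
      ⟨(R1 : Subgroup G).mul_mem ((R1 : Subgroup G).inv_mem hx) hy, h3⟩
    have h5 : (R1 : Subgroup G) ⊓ normalizer ((R2 : Subgroup G) : Set G) =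
        (R1 : Subgroup G) ⊓ (R2 : Subgroup G) := IsPGroup.inf_normalizer_sylow R1.2 R2
    rw [h5, hTI R1 R2 h12, mem_bot] at h4
    have h6 : g * x * g⁻¹ = x := by
      have := congrArg (fun z => x * z) h4
      simpa using this
    calc g * x = g * x * g⁻¹ * g := by group
      _ = x * g := by rw [h6]
  have hvx : Commute v x := by
    rw [hv]; exact (Commute.pow_left hcomm (2 ^ j))
  -- fixed points of `x`
  have hfixx : fixedBy (Sylow 3 G) x = {R1} := by
    ext R
    rw [mem_fixedBy, Set.mem_singleton_iff]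
    constructor
    · intro hR
      by_contra hRR
      have h3 : x ∈ normalizer ((R : Subgroup G) : Set G) :=
        Sylow.smul_eq_iff_mem_normalizer.mp hR
      have h4 : x ∈ (R1 : Subgroup G) ⊓ normalizer ((R : Subgroup G) : Set G) := ⟨hx, h3⟩
      have h5 : (R1 : Subgroup G) ⊓ normalizer ((R : Subgroup G) : Set G) =
          (R1 : Subgroup G) ⊓ (R : Subgroup G) := IsPGroup.inf_normalizer_sylow R1.2 R
      rw [h5, hTI R1 R (Ne.symm hRR), mem_bot] at h4
      exact hx1 h4
    · rintro rfl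
      exact Sylow.smul_eq_iff_mem_normalizer.mpr (le_normalizer hx)
  have hvR1 : v • R1 = R1 := by
    have : v ∈ stabilizer G R1 := by
      rw [hv]; exact pow_mem (mem_stabilizer_iff.mpr hg1) _
    exact mem_stabilizer_iff.mp this
  have hxp : IsPGroup 3 (zpowers x) := R1.2.to_le (zpowers_le.mpr hx)
  have hmod := Cfsg.Agent.Helper8.SylAct.card_fixedPoints_modEq_of_commute (Sylow 3 G)
    (zpowers x) (zpowers v) hxp (by
      intro a ha b hb
      obtain ⟨i, rfl⟩ := mem_zpowers_iff.mp ha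
      obtain ⟨i', rfl⟩ := mem_zpowers_iff.mp hb
      exact (((hvx.zpow_left i').zpow_right i).eq).symm)
  rw [Cfsg.Agent.Helper8.SylAct.fixedPoints_zpowers_eq,
    Cfsg.Agent.Helper8.SylAct.fixedPoints_zpowers_eq, hfixx] at hmod
  have hint : fixedBy (Sylow 3 G) v ∩ {R1} = {R1} := by
    rw [Set.inter_eq_right, Set.singleton_subset_iff]
    exact hvR1
  rw [hint] at hmod
  have hmod1 : Nat.card (fixedBy (Sylow 3 G) v) % 3 = 1 := by
    have : Nat.card ↥({R1} : Set (Sylow 3 G)) = 1 := by simp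
    rw [this] at hmod
    exact hmod
  have hG2 : 2 < Nat.card G := by rw [h]; norm_num
  obtain ⟨k', hk'⟩ := Cfsg.Agent.Helper8.SylAct.card_eq_card_fixedBy_add hG2 (Sylow 3 G) v hvv
  rw [h10] at hk'
  have hne10 : Nat.card (fixedBy (Sylow 3 G) v) ≠ 10 := by
    intro h10'
    apply hv1
    have hNtop : normalizer ((R1 : Subgroup G) : Set G) ≠ ⊤ := by
      intro htop
      have := SmallOrder.card_normalizer_mul_card_sylow R1
      rw [htop, Subgroup.card_top, h10, h] at this
      omega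
    apply Cfsg.Agent.Helper8.SylAct.eq_one_of_forall_smul_eq R1 hNtop v
    have huniv : fixedBy (Sylow 3 G) v = Set.univ := by
      apply Set.eq_of_subset_of_ncard_le (Set.subset_univ _)
      rw [Set.ncard_univ, h10, ← Nat.card_coe_set_eq, h10']
    intro R
    have : R ∈ fixedBy (Sylow 3 G) v := by rw [huniv]; trivial
    exact this
  omega

omit [Finite G] in
/-- in a simple group of order more than two every element induces an even permutation -/
theorem sign_toPermHom_eq_one (hG2 : 2 < Nat.card G) (Ω : Type*) [MulAction G Ω] [Fintype Ω]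
    [DecidableEq Ω] (g : G) : Equiv.Perm.sign (MulAction.toPermHom G Ω g) = 1 := by
  have hker : (Equiv.Perm.sign.comp (MulAction.toPermHom G Ω)).ker = ⊤ := by
    rcases (MonoidHom.normal_ker (Equiv.Perm.sign.comp (MulAction.toPermHom G Ω))).eq_bot_or_eq_top
      with h0 | h0
    · exfalso
      have hinj : Function.Injective (Equiv.Perm.sign.comp (MulAction.toPermHom G Ω)) :=
        (MonoidHom.ker_eq_bot_iff _).mp h0
      have := Nat.card_le_card_of_injective _ hinj
      rw [Nat.card_eq_fintype_card (α := ℤˣ), Fintype.card_units_int] at this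
      omega
    · exact h0
  have : g ∈ (Equiv.Perm.sign.comp (MulAction.toPermHom G Ω)).ker := by rw [hker]; trivial
  exact MonoidHom.mem_ker.mp this

omit [IsSimpleGroup G] in
theorem ord720_normalizer_ne_top (h : Nat.card G = 720) [Fact (Nat.Prime 3)]
    (h10 : Nat.card (Sylow 3 G) = 10) (P : Sylow 3 G) :
    normalizer ((P : Subgroup G) : Set G) ≠ ⊤ := by
  intro htop
  have := SmallOrder.card_normalizer_mul_card_sylow P
  rw [htop, Subgroup.card_top, h10, h] at this
  omega

omit [IsSimpleGroup G] in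
theorem ord720_exists_ne (h10 : Nat.card (Sylow 3 G) = 10) (P : Sylow 3 G) :
    ∃ R : Sylow 3 G, R ≠ P := by
  have := card_subtype_ne_add_one P
  rw [h10] at this
  have hpos : 0 < Nat.card {R : Sylow 3 G // R ≠ P} := by omega
  obtain ⟨R⟩ := Finite.card_pos_iff.mp hpos
  exact ⟨R.1, R.2⟩

/-- the action on the ten Sylow 3-subgroups is a Zassenhaus group -/
theorem ord720_isZassenhaus (h : Nat.card G = 720) [Fact (Nat.Prime 3)]
    (h10 : Nat.card (Sylow 3 G) = 10) : Cfsg.IsZassenhausGroup G (Sylow 3 G) := by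
  obtain ⟨hTI, htr⟩ := ord720_TI h h10
  let P0 : Sylow 3 G := default
  have hNtop := ord720_normalizer_ne_top h h10
  refine ⟨⟨?_⟩, ?_, ?_, ?_, ?_⟩
  · intro g1 g2 hh
    have h1 : g2⁻¹ * g1 = 1 :=
      Cfsg.Agent.Helper8.SylAct.eq_one_of_forall_smul_eq P0 (hNtop P0) _
        (fun R => by rw [mul_smul, hh R, inv_smul_smul])
    calc g1 = g2 * (g2⁻¹ * g1) := by group
      _ = g2 := by rw [h1, mul_one]
  · rw [is_two_pretransitive_iff]
    intro a b c d hab hcd
    obtain ⟨g1, hg1⟩ := MulAction.exists_smul_eq G a c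
    have h1 : g1 • b ≠ c := by
      intro h1; apply hab; rw [← hg1] at h1; exact (smul_left_cancel g1 h1).symm
    obtain ⟨x, hx, hxR⟩ := htr c (g1 • b) d h1 hcd.symm
    have hxc : x • c = c := Sylow.smul_eq_iff_mem_normalizer.mpr (le_normalizer hx)
    exact ⟨x * g1, by rw [mul_smul, hg1, hxc], by rw [mul_smul, hxR]⟩
  · intro g a b c hab hbc hac h1 h2 h3
    exact ord720_three_points h h10 g a b c hab hbc hac h1 h2 h3
  · obtain ⟨R, hR⟩ := ord720_exists_ne h10 P0
    have h8 := ord720_card_stab2 h h10 P0 R hR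
    have hne : (stabilizer G P0 ⊓ stabilizer G R : Subgroup G) ≠ ⊥ := by
      intro h0; rw [h0, Subgroup.card_bot] at h8; omega
    obtain ⟨g, hg1⟩ := (Subgroup.ne_bot_iff_exists_ne_one).mp hne
    refine ⟨(g : G), fun h1 => hg1 (Subtype.ext h1), P0, R, Ne.symm hR, ?_, ?_⟩
    · exact mem_stabilizer_iff.mp g.2.1
    · exact mem_stabilizer_iff.mp g.2.2
  · intro N hN htrans
    rcases hN.eq_bot_or_eq_top with rfl | rfl
    · exfalso
      obtain ⟨R, hR⟩ := ord720_exists_ne h10 P0
      obtain ⟨n, hn⟩ := htrans.exists_smul_eq P0 R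
      have hn1 : (n : G) = 1 := Subgroup.mem_bot.mp n.2
      have hn' : (n : G) • P0 = R := hn
      rw [hn1, one_smul] at hn'
      exact hR hn'.symm
    · refine ⟨P0, ?_⟩
      intro h0
      have hPne : (P0 : Subgroup G) ≠ ⊥ := by
        intro hb
        have := ord720_card_sylow3 h P0
        rw [hb, Subgroup.card_bot] at this; omega
      obtain ⟨x, hx1⟩ := (Subgroup.ne_bot_iff_exists_ne_one).mp hPne
      have hmem : (⟨(x : G), Subgroup.mem_top _⟩ : (⊤ : Subgroup G)) ∈
          stabilizer (⊤ : Subgroup G) P0 := by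
        rw [mem_stabilizer_iff]
        exact Sylow.smul_eq_iff_mem_normalizer.mpr (le_normalizer x.2)
      rw [h0, Subgroup.mem_bot] at hmem
      have hx' : (x : G) = 1 := congrArg (fun z : (⊤ : Subgroup G) => (z : G)) hmem
      exact hx1 (Subtype.ext hx')

/-- the case of ten Sylow 3-subgroups -/
theorem ord720_false_of_ten (h : Nat.card G = 720) [Fact (Nat.Prime 3)]
    (h10 : Nat.card (Sylow 3 G) = 10) : False := by
  classical
  have hFin : Fintype (Sylow 3 G) := Fintype.ofFinite _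
  have hZ := ord720_isZassenhaus h h10
  let P : Sylow 3 G := default
  obtain ⟨R, hR⟩ := ord720_exists_ne h10 P
  obtain ⟨hcyc, -⟩ := Cfsg.Agent.S0345.result hZ (a := P) (b := R) (Ne.symm hR)
  have h8 := ord720_card_stab2 h h10 P R hR
  obtain ⟨g0, hg0⟩ := hcyc.exists_generator
  have ho : orderOf g0 = 8 := by rw [orderOf_eq_card_of_forall_mem_zpowers hg0, h8]
  set g : G := (g0 : G) with hg
  have hgo : orderOf g = 8 := by rw [hg, Subgroup.orderOf_coe]; exact ho
  have hgP : g • P = P := mem_stabilizer_iff.mp g0.2.1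
  have hgR : g • R = R := mem_stabilizer_iff.mp g0.2.2
  have hfree : ∀ c : Sylow 3 G, c ≠ P → c ≠ R → ∀ z ∈ zpowers g, z • c = c → z = 1 := by
    intro c hcP hcR z hz hzc
    have hzP : z • P = P :=
      mem_stabilizer_iff.mp ((zpowers_le.mpr (mem_stabilizer_iff.mpr hgP)) hz)
    have hzR : z • R = R :=
      mem_stabilizer_iff.mp ((zpowers_le.mpr (mem_stabilizer_iff.mpr hgR)) hz)
    exact ord720_three_points h h10 z P R c (Ne.symm hR) (Ne.symm hcR) (Ne.symm hcP) hzP hzR hzc
  have horb : ∀ c : Sylow 3 G, c ≠ P → c ≠ R →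
      orbit (zpowers g) c = ({P, R} : Set (Sylow 3 G))ᶜ := by
    intro c hcP hcR
    refine Set.eq_of_subset_of_ncard_le ?_ ?_ (Set.toFinite _)
    · rintro _ ⟨z, rfl⟩ hmem
      have hzP : (z : G) • P = P :=
        mem_stabilizer_iff.mp ((zpowers_le.mpr (mem_stabilizer_iff.mpr hgP)) z.2)
      have hzR : (z : G) • R = R :=
        mem_stabilizer_iff.mp ((zpowers_le.mpr (mem_stabilizer_iff.mpr hgR)) z.2)
      rcases hmem with hm | hm
      · apply hcP
        have hm' : (z : G) • c = P := hm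
        exact smul_left_cancel (z : G) (hm'.trans hzP.symm)
      · apply hcR
        have hm' : (z : G) • c = R := hm
        exact smul_left_cancel (z : G) (hm'.trans hzR.symm)
    · rw [Set.ncard_compl, Set.ncard_pair (Ne.symm hR), h10, ← index_stabilizer]
      have hstab : stabilizer (zpowers g) c = ⊥ := by
        rw [eq_bot_iff]
        intro z hz
        rw [mem_bot]
        have := hfree c hcP hcR (z : G) z.2 (mem_stabilizer_iff.mp hz)
        exact Subtype.ext this
      rw [hstab, Subgroup.index_bot, Nat.card_zpowers, hgo]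
  set σ : Equiv.Perm (Sylow 3 G) := MulAction.toPermHom G (Sylow 3 G) g with hσ
  have hσpow : ∀ (i : ℤ) (c : Sylow 3 G), (σ ^ i) c = (g ^ i) • c := by
    intro i c
    rw [hσ, ← map_zpow]; rfl
  obtain ⟨c, hcP, hcR⟩ : ∃ c : Sylow 3 G, c ≠ P ∧ c ≠ R := by
    have h1 : (({P, R} : Set (Sylow 3 G))ᶜ).ncard = 8 := by
      rw [Set.ncard_compl, Set.ncard_pair (Ne.symm hR), h10]
    have h2 : (({P, R} : Set (Sylow 3 G))ᶜ).Nonempty := by
      apply Set.nonempty_of_ncard_ne_zero
      rw [h1]; norm_num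
    obtain ⟨c, hc⟩ := h2
    refine ⟨c, fun h1 => hc (by rw [h1]; simp), fun h1 => hc (by rw [h1]; simp)⟩
  have hσcyc : σ.IsCycle := by
    refine ⟨c, ?_, ?_⟩
    · intro hfix
      have : g = 1 := hfree c hcP hcR g (mem_zpowers g) hfix
      rw [this, orderOf_one] at hgo; omega
    · intro y hy
      have hyP : y ≠ P := by rintro rfl; exact hy hgP
      have hyR : y ≠ R := by rintro rfl; exact hy hgR
      have hmem : y ∈ orbit (zpowers g) c := by
        rw [horb c hcP hcR]
        simp [hyP, hyR]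
      obtain ⟨z, hz⟩ := hmem
      obtain ⟨i, hi⟩ := mem_zpowers_iff.mp z.2
      refine ⟨i, ?_⟩
      rw [hσpow, hi]; exact hz
  have hinj : Function.Injective (MulAction.toPermHom G (Sylow 3 G)) :=
    (MonoidHom.ker_eq_bot_iff _).mp
      (Cfsg.Agent.Helper8.SylAct.ker_toPermHom_sylow P (ord720_normalizer_ne_top h h10 P))
  have hσo : orderOf σ = 8 := by rw [hσ, orderOf_injective _ hinj, hgo]
  have hsupp : σ.support.card = 8 := by rw [← hσcyc.orderOf, hσo]
  have hsign := hσcyc.sign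
  rw [hsupp] at hsign
  have hs1 := sign_toPermHom_eq_one (by rw [h]; norm_num : 2 < Nat.card G) (Sylow 3 G) g
  rw [← hσ, hsign] at hs1
  revert hs1
  decide

end ord720

end Cfsg.Agent.Helper2.SimpleSmall2
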