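import Mathlib

set_option autoImplicit false

/-!
`PSL(2, 8)` has an element of order 9.
-/

namespace Cfsg.Agent.Helper2.PSL28

variable {F : Type*} [Field F] [Fintype F]

theorem two_eq_zero (hF : Fintype.card F = 8) : (2 : F) = 0 := by
  obtain ⟨p, hp⟩ := CharP.exists F
  haveI := hp
  obtain ⟨n, hpp, hn⟩ := FiniteField.card F p
  rw [hF] at hn
  have hp2 : p = 2 := by
    have h1 : p ∣ 2 ^ 3 := by
      have : (8 : ℕ) = 2 ^ 3 := by norm_num
      rw [← this, hn]
      exact dvd_pow_self p n.ne_zero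
    exact (Nat.prime_dvd_prime_iff_eq hpp Nat.prime_two).mp (hpp.dvd_of_dvd_pow h1)
  subst hp2
  have := CharP.cast_eq_zero F 2
  exact_mod_cast this

theorem exists_t (hF : Fintype.card F = 8) : ∃ t : F, t ^ 3 = t + 1 := by
  have h2 := two_eq_zero hF
  have : ∃ x : F, x ≠ 0 ∧ x ≠ 1 := by
    by_contra hc
    push Not at hc
    have : Fintype.card F ≤ 2 := by
      classical
      calc Fintype.card F = (Finset.univ : Finset F).card := rfl
        _ ≤ ({0, 1} : Finset F).card := Finset.card_le_card (by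
            intro x _
            by_cases hx : x = 0
            · simp [hx]
            · simp [hc x hx])
        _ ≤ 2 := Finset.card_le_two
    omega
  obtain ⟨x, hx0, hx1⟩ := this
  have h7 : x ^ 7 = 1 := by
    have := FiniteField.pow_card_sub_one_eq_one x hx0
    rw [hF] at this
    exact this
  have hprod : (x - 1) * ((x ^ 3 + x + 1) * (x ^ 3 + x ^ 2 + 1)) = 0 := by
    linear_combination h7 + (x ^ 4 - x ^ 3) * h2
  rcases mul_eq_zero.mp hprod with h | h
  · exact absurd (sub_eq_zero.mp h) hx1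
  rcases mul_eq_zero.mp h with h | h
  · refine ⟨x, ?_⟩
    linear_combination h - (x + 1) * h2
  · refine ⟨x + 1, ?_⟩
    linear_combination h + (x ^ 2 + x - 1) * h2

/-- the element of order 9 -/
def M (t : F) : Matrix (Fin 2) (Fin 2) F := !![0, 1; 1, t]
/-- its cube -/
def M3 (t : F) : Matrix (Fin 2) (Fin 2) F := !![t, 1 + t ^ 2; 1 + t ^ 2, 1 + t]

theorem M_det (h2 : (2 : F) = 0) (t : F) : (M t).det = 1 := by
  rw [M, Matrix.det_fin_two_of]; linear_combination (-1) * h2

theorem mat_ext2 (a b c d a' b' c' d' : F) (h1 : a = a') (h2 : b = b') (h3 : c = c') (h4 : d = d') :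
    !![a, b; c, d] = !![a', b'; c', d'] := by
  subst h1 h2 h3 h4; rfl

theorem M_cube (h2 : (2 : F) = 0) {t : F} (ht : t ^ 3 = t + 1) : M t * M t * M t = M3 t := by
  rw [M, M3, Matrix.mul_fin_two, Matrix.mul_fin_two]
  apply mat_ext2
  · ring
  · ring
  · ring
  · linear_combination ht + t * h2

theorem M3_cube (h2 : (2 : F) = 0) {t : F} (ht : t ^ 3 = t + 1) : M3 t * M3 t * M3 t = 1 := by
  rw [M3, Matrix.mul_fin_two, Matrix.mul_fin_two, Matrix.one_fin_two]
  apply mat_ext2
  · linear_combination (10 + t + 3 * t ^ 2) * ht + (5 + 7 * t + 3 * t ^ 2) * h2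
  · linear_combination (4 + 7 * t + t ^ 3) * ht + (3 + 7 * t + 7 * t ^ 2) * h2
  · linear_combination (4 + 7 * t + t ^ 3) * ht + (3 + 7 * t + 7 * t ^ 2) * h2
  · linear_combination (10 + 2 * t + 3 * t ^ 2) * ht + (6 + 9 * t + 6 * t ^ 2) * h2

theorem exists_order9 (hF : Fintype.card F = 8) :
    ∃ g : Matrix.ProjectiveSpecialLinearGroup (Fin 2) F, g ^ 9 = 1 ∧ g ^ 3 ≠ 1 := by
  have h2 := two_eq_zero hF
  obtain ⟨t, ht⟩ := exists_t hF
  let A : Matrix.SpecialLinearGroup (Fin 2) F := ⟨M t, M_det h2 t⟩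
  have hA3 : ((A ^ 3 : Matrix.SpecialLinearGroup (Fin 2) F) : Matrix (Fin 2) (Fin 2) F) = M3 t := by
    rw [Matrix.SpecialLinearGroup.coe_pow, pow_succ, pow_two]
    exact M_cube h2 ht
  have hA9 : A ^ 9 = 1 := by
    apply Subtype.ext
    have : A ^ 9 = (A ^ 3) ^ 3 := by rw [← pow_mul]
    rw [this, Matrix.SpecialLinearGroup.coe_pow, hA3, pow_succ, pow_two]
    exact M3_cube h2 ht
  refine ⟨QuotientGroup.mk A, ?_, ?_⟩
  · rw [← QuotientGroup.mk_pow, hA9]; rfl
  · rw [← QuotientGroup.mk_pow]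
    intro h
    have hc : A ^ 3 ∈ Subgroup.center (Matrix.SpecialLinearGroup (Fin 2) F) :=
      (QuotientGroup.eq_one_iff _).mp h
    rw [Matrix.SpecialLinearGroup.mem_center_iff] at hc
    obtain ⟨r, _, hr⟩ := hc
    have h01 := congrFun (congrFun hr 0) 1
    rw [hA3] at h01
    simp [M3] at h01
    have h1 : (t - 1) ^ 2 = 0 := by linear_combination (-1 : F) * h01 - t * h2
    have h3 : t = 1 := by
      have := pow_eq_zero_iff (two_ne_zero) |>.mp h1
      exact sub_eq_zero.mp this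
    rw [h3] at ht
    have : (1 : F) = 0 := by linear_combination (-1 : F) * ht
    exact one_ne_zero this

end Cfsg.Agent.Helper2.PSL28
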