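import Mathlib
import Cfsg.Agent.Helper2.PSL2InvD

/-!
Helper library (helper2) for S3266, part E: common neighbours in the odd-product graph on
involutions of `PSL(2,F)`, and a pair of non-adjacent involutions.
-/

set_option autoImplicit false

namespace Cfsg.Agent.Helper2.PSL2Inv

open Matrix

variable {F : Type*} [Field F] [Fintype F]

theorem mk_mkJ_mul_trace (a b c a' b' c' : F) (h : a * a + b * c = -1)
    (h' : a' * a' + b' * c' = -1) :
    ((mkJ a b c h * mkJ a' b' c' h' : Matrix.SpecialLinearGroup (Fin 2) F) :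
      Matrix (Fin 2) (Fin 2) F).trace = 2 * a * a' + b * c' + c * b' := by
  rw [Matrix.SpecialLinearGroup.coe_mul, coe_mkJ, coe_mkJ, J_mul_J_trace]

/-- Odd characteristic: two distinct non-adjacent involutions have a common neighbour. -/
theorem exists_common_odd (h2 : (2 : F) ≠ 0) (hcard : 3 < Fintype.card F)
    (x y : Matrix.ProjectiveSpecialLinearGroup (Fin 2) F) (hx : orderOf x = 2)
    (hy : orderOf y = 2) (hnadj : ¬ Odd (orderOf (x * y))) :
    ∃ z : Matrix.ProjectiveSpecialLinearGroup (Fin 2) F, orderOf z = 2 ∧ z ≠ x ∧ z ≠ y ∧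
      Odd (orderOf (x * z)) ∧ Odd (orderOf (y * z)) := by
  obtain ⟨a, b, c, hg, rfl, -⟩ := exists_mkJ_of_orderOf_two x hx
  obtain ⟨a', b', c', hh, rfl, -⟩ := exists_mkJ_of_orderOf_two y hy
  set τ := 2 * a * a' + b * c' + c * b' with hτ
  -- 4 - τ² is a nonzero square
  have hsq : ∃ c0 : F, c0 ≠ 0 ∧ c0 ^ 2 = 4 - τ ^ 2 := by
    by_contra hcon
    push Not at hcon
    apply hnadj
    rw [← QuotientGroup.mk_mul]
    apply odd_orderOf_of_not_sq h2
    rw [mk_mkJ_mul_trace]
    exact hcon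
  obtain ⟨c0, hc0, hc0'⟩ := hsq
  obtain ⟨e, f, d, hd, h4e, h4f, he, hf, hef, hfe⟩ := exists_efd h2 hcard hc0 hc0'
  have hτ4 : τ ^ 2 ≠ 4 := by
    intro h
    apply hc0
    have : c0 ^ 2 = 0 := by rw [hc0', h]; ring
    exact pow_eq_zero_iff (two_ne_zero) |>.mp this
  obtain ⟨p, q, r, hk, hkg, hkh⟩ := lemK a b c a' b' c' e f d hg hh hτ4 hd
  refine ⟨QuotientGroup.mk (mkJ p q r hk), orderOf_mk_mkJ p q r hk (Or.inr (Or.inr h2)),
    ?_, ?_, ?_, ?_⟩
  · intro heq
    obtain ⟨s, hs, hp, hq, hr⟩ := mk_mkJ_eq heq.symm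
    have hs' : (s - 1) * (s + 1) = 0 := by linear_combination hs
    have he' : e = -2 * s := by
      rw [← hkg, hp, hq, hr]; linear_combination (2 * s) * hg
    have hf' : f = s * τ := by
      rw [← hkh, hp, hq, hr, hτ]; ring
    rcases mul_eq_zero.mp hs' with h1 | h1
    · have : s = 1 := by linear_combination h1
      rw [this] at he'
      exact he (by rw [he']; ring)
    · have : s = -1 := by linear_combination h1
      rw [this] at he' hf'
      exact hef (by rw [he']; ring) (by rw [hf']; ring)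
  · intro heq
    obtain ⟨s, hs, hp, hq, hr⟩ := mk_mkJ_eq heq.symm
    have hs' : (s - 1) * (s + 1) = 0 := by linear_combination hs
    have hf' : f = -2 * s := by
      rw [← hkh, hp, hq, hr]; linear_combination (2 * s) * hh
    have he' : e = s * τ := by
      rw [← hkg, hp, hq, hr, hτ]; ring
    rcases mul_eq_zero.mp hs' with h1 | h1
    · have : s = 1 := by linear_combination h1
      rw [this] at hf'
      exact hf (by rw [hf']; ring)
    · have : s = -1 := by linear_combination h1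
      rw [this] at he' hf'
      exact hfe (by rw [hf']; ring) (by rw [he']; ring)
  · rw [← QuotientGroup.mk_mul]
    apply odd_orderOf_of_not_sq h2
    rw [mk_mkJ_mul_trace]
    have : 2 * a * p + b * r + c * q = e := hkg
    rw [this]
    exact h4e
  · rw [← QuotientGroup.mk_mul]
    apply odd_orderOf_of_not_sq h2
    rw [mk_mkJ_mul_trace]
    have : 2 * a' * p + b' * r + c' * q = f := hkh
    rw [this]
    exact h4f

omit [Fintype F] in
theorem exists_avoid (b c b' c' : F) (h : b ≠ 0 ∨ c ≠ 0) (h' : b' ≠ 0 ∨ c' ≠ 0) :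
    ∃ Y Z : F, b * Z + c * Y ≠ 0 ∧ b' * Z + c' * Y ≠ 0 := by
  have h1 : ∃ Y Z : F, b * Z + c * Y ≠ 0 := by
    rcases h with h | h
    · exact ⟨0, 1, by simpa using h⟩
    · exact ⟨1, 0, by simpa using h⟩
  have h2 : ∃ Y Z : F, b' * Z + c' * Y ≠ 0 := by
    rcases h' with h | h
    · exact ⟨0, 1, by simpa using h⟩
    · exact ⟨1, 0, by simpa using h⟩
  obtain ⟨Y1, Z1, hv1⟩ := h1
  obtain ⟨Y2, Z2, hv2⟩ := h2
  by_cases k1 : b' * Z1 + c' * Y1 = 0
  · by_cases k2 : b * Z2 + c * Y2 = 0
    · refine ⟨Y1 + Y2, Z1 + Z2, ?_, ?_⟩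
      · have : b * (Z1 + Z2) + c * (Y1 + Y2) = b * Z1 + c * Y1 := by linear_combination k2
        rw [this]; exact hv1
      · have : b' * (Z1 + Z2) + c' * (Y1 + Y2) = b' * Z2 + c' * Y2 := by linear_combination k1
        rw [this]; exact hv2
    · exact ⟨Y2, Z2, k2, hv2⟩
  · exact ⟨Y1, Z1, hv1, k1⟩

/-- Characteristic two: two distinct involutions always have a common neighbour. -/
theorem exists_common_two (h2 : (2 : F) = 0)
    (x y : Matrix.ProjectiveSpecialLinearGroup (Fin 2) F) (hx : orderOf x = 2)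
    (hy : orderOf y = 2) :
    ∃ z : Matrix.ProjectiveSpecialLinearGroup (Fin 2) F, orderOf z = 2 ∧ z ≠ x ∧ z ≠ y ∧
      Odd (orderOf (x * z)) ∧ Odd (orderOf (y * z)) := by
  obtain ⟨a, b, c, hg, rfl, hne⟩ := exists_mkJ_of_orderOf_two x hx
  obtain ⟨a', b', c', hh, rfl, hne'⟩ := exists_mkJ_of_orderOf_two y hy
  have hbc : b ≠ 0 ∨ c ≠ 0 := by
    rcases hne with h | h | h
    · exact Or.inl h
    · exact Or.inr h
    · exact absurd h2 h
  have hbc' : b' ≠ 0 ∨ c' ≠ 0 := by
    rcases hne' with h | h | h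
    · exact Or.inl h
    · exact Or.inr h
    · exact absurd h2 h
  obtain ⟨Y, Z, hv1, hv2⟩ := exists_avoid b c b' c' hbc hbc'
  haveI : CharP F 2 := CharTwo.of_one_ne_zero_of_two_eq_zero one_ne_zero h2
  have hchar : ringChar F = 2 := ringChar.eq F 2
  obtain ⟨X, hX⟩ := FiniteField.isSquare_of_char_two hchar (-1 - Y * Z)
  have hk : X * X + Y * Z = -1 := by linear_combination -hX
  have hYZ : Y ≠ 0 ∨ Z ≠ 0 := by
    by_contra hcon
    push Not at hcon
    apply hv1
    rw [hcon.1, hcon.2]; ring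
  have key : ∀ (a b c : F) (hg : a * a + b * c = -1), b * Z + c * Y ≠ 0 →
      (QuotientGroup.mk (mkJ X Y Z hk) : Matrix.ProjectiveSpecialLinearGroup (Fin 2) F) ≠
        QuotientGroup.mk (mkJ a b c hg) ∧
      Odd (orderOf ((QuotientGroup.mk (mkJ a b c hg) :
        Matrix.ProjectiveSpecialLinearGroup (Fin 2) F) * QuotientGroup.mk (mkJ X Y Z hk))) := by
    intro a b c hg hv
    constructor
    · intro heq
      obtain ⟨s, hs, hp, hq, hr⟩ := mk_mkJ_eq heq
      apply hv
      rw [hq, hr]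
      linear_combination (s * Y * Z) * h2
    · rw [← QuotientGroup.mk_mul]
      apply odd_orderOf_of_trace_ne_zero h2
      rw [mk_mkJ_mul_trace, h2, zero_mul, zero_mul, zero_add]
      exact hv
  refine ⟨QuotientGroup.mk (mkJ X Y Z hk), orderOf_mk_mkJ X Y Z hk ?_, (key a b c hg hv1).1,
    (key a' b' c' hh hv2).1, (key a b c hg hv1).2, (key a' b' c' hh hv2).2⟩
  rcases hYZ with h | h
  · exact Or.inl h
  · exact Or.inr (Or.inl h)

/-- Two distinct involutions of `PSL(2,F)`, `|F| ≥ 4`, whose product does not have odd order have a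
common neighbour in the odd-product graph. -/
theorem exists_common (hcard : 4 ≤ Fintype.card F)
    (x y : Matrix.ProjectiveSpecialLinearGroup (Fin 2) F) (hx : orderOf x = 2)
    (hy : orderOf y = 2) (hnadj : ¬ Odd (orderOf (x * y))) :
    ∃ z : Matrix.ProjectiveSpecialLinearGroup (Fin 2) F, orderOf z = 2 ∧ z ≠ x ∧ z ≠ y ∧
      Odd (orderOf (x * z)) ∧ Odd (orderOf (y * z)) := by
  by_cases h2 : (2 : F) = 0
  · exact exists_common_two h2 x y hx hy
  · exact exists_common_odd h2 (by omega) x y hx hy hnadj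

end Cfsg.Agent.Helper2.PSL2Inv
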