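import Mathlib
import Cfsg.Agent.Helper2.PSL2InvE

/-!
Helper library (helper2) for S3266, part F: all involutions of `PSL(2,F)` are conjugate, and a
pair of involutions whose products (both orders) have order 2.
-/

set_option autoImplicit false

namespace Cfsg.Agent.Helper2.PSL2Inv

open Matrix

variable {F : Type*} [Field F] [Fintype F]

theorem mul_self_of_orderOf_two {G : Type*} [Group G] (x : G) (hx : orderOf x = 2) : x * x = 1 := by
  have := pow_orderOf_eq_one x
  rwa [hx, pow_two] at this

/-- All involutions of `PSL(2,F)`, `|F| ≥ 4`, are conjugate. -/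
theorem isConj_of_involutions (hcard : 4 ≤ Fintype.card F)
    (x y : Matrix.ProjectiveSpecialLinearGroup (Fin 2) F) (hx : orderOf x = 2)
    (hy : orderOf y = 2) : IsConj x y := by
  by_cases hodd : Odd (orderOf (x * y))
  · exact isConj_of_odd_orderOf_mul x y (mul_self_of_orderOf_two x hx)
      (mul_self_of_orderOf_two y hy) hodd
  · obtain ⟨z, hz, -, -, h1, h2⟩ := exists_common hcard x y hx hy hodd
    have c1 := isConj_of_odd_orderOf_mul x z (mul_self_of_orderOf_two x hx)
      (mul_self_of_orderOf_two z hz) h1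
    have c2 := isConj_of_odd_orderOf_mul y z (mul_self_of_orderOf_two y hy)
      (mul_self_of_orderOf_two z hz) h2
    exact c1.trans c2.symm

omit [Fintype F] in
theorem mkJ_mul_odd (A B : F) (h : A * A + B * B = -1) :
    mkJ (0 : F) 1 (-1) (by ring) * mkJ A B B h = mkJ B (-A) (-A) (by linear_combination h) ∧
    mkJ A B B h * mkJ (0 : F) 1 (-1) (by ring) = mkJ (-B) A A (by linear_combination h) := by
  constructor
  · apply Subtype.ext
    rw [Matrix.SpecialLinearGroup.coe_mul, coe_mkJ, coe_mkJ, coe_mkJ]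
    ext i j
    fin_cases i <;> fin_cases j <;> simp [Matrix.mul_apply, Fin.sum_univ_two]
  · apply Subtype.ext
    rw [Matrix.SpecialLinearGroup.coe_mul, coe_mkJ, coe_mkJ, coe_mkJ]
    ext i j
    fin_cases i <;> fin_cases j <;> simp [Matrix.mul_apply, Fin.sum_univ_two]

omit [Fintype F] in
theorem mkJ_mul_two (h2 : (2 : F) = 0) (c : F) :
    mkJ (1 : F) 1 0 (by linear_combination h2) * mkJ (1 : F) c 0 (by linear_combination h2) =
      mkJ 1 (c - 1) 0 (by linear_combination h2) ∧
    mkJ (1 : F) c 0 (by linear_combination h2) * mkJ (1 : F) 1 0 (by linear_combination h2) =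
      mkJ 1 (1 - c) 0 (by linear_combination h2) := by
  constructor
  · apply Subtype.ext
    rw [Matrix.SpecialLinearGroup.coe_mul, coe_mkJ, coe_mkJ, coe_mkJ]
    ext i j
    fin_cases i <;> fin_cases j <;> simp [Matrix.mul_apply, Fin.sum_univ_two]
    · ring
    · linear_combination h2
  · apply Subtype.ext
    rw [Matrix.SpecialLinearGroup.coe_mul, coe_mkJ, coe_mkJ, coe_mkJ]
    ext i j
    fin_cases i <;> fin_cases j <;> simp [Matrix.mul_apply, Fin.sum_univ_two]
    · ring
    · linear_combination h2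

/-- There are two involutions of `PSL(2,F)` whose products have order 2. -/
theorem exists_witness (hcard : 4 ≤ Fintype.card F) :
    ∃ x y : Matrix.ProjectiveSpecialLinearGroup (Fin 2) F, orderOf x = 2 ∧ orderOf y = 2 ∧
      orderOf (x * y) = 2 ∧ orderOf (y * x) = 2 := by
  by_cases h2 : (2 : F) = 0
  · -- characteristic 2
    have : ∃ c : F, c ≠ 0 ∧ c ≠ 1 := by
      classical
      by_contra hcon
      push Not at hcon
      have hsub : (Finset.univ : Finset F) ⊆ {0, 1} := by
        intro t _
        by_cases h0 : t = 0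
        · simp [h0]
        · simp [hcon t h0]
      have := Finset.card_le_card hsub
      have h3 : ({0, 1} : Finset F).card ≤ 2 := Finset.card_le_two
      rw [Finset.card_univ] at this
      omega
    obtain ⟨c, hc0, hc1⟩ := this
    obtain ⟨e1, e2⟩ := mkJ_mul_two h2 c
    refine ⟨QuotientGroup.mk (mkJ (1 : F) 1 0 (by linear_combination h2)),
      QuotientGroup.mk (mkJ (1 : F) c 0 (by linear_combination h2)),
      orderOf_mk_mkJ _ _ _ _ (Or.inl one_ne_zero), orderOf_mk_mkJ _ _ _ _ (Or.inl hc0), ?_, ?_⟩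
    · rw [← QuotientGroup.mk_mul, e1]
      exact orderOf_mk_mkJ _ _ _ _ (Or.inl (sub_ne_zero.mpr hc1))
    · rw [← QuotientGroup.mk_mul, e2]
      exact orderOf_mk_mkJ _ _ _ _ (Or.inl (sub_ne_zero.mpr (Ne.symm hc1)))
  · -- odd characteristic
    obtain ⟨p, hp⟩ := CharP.exists F
    haveI := hp
    haveI : NeZero p := ⟨CharP.char_ne_zero_of_finite F p⟩
    obtain ⟨A, B, hAB⟩ := CharP.sq_add_sq F p (-1)
    have hAB' : (A : F) * A + (B : F) * B = -1 := by
      have : ((-1 : ℤ) : F) = -1 := by simp
      rw [this] at hAB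
      linear_combination hAB
    obtain ⟨e1, e2⟩ := mkJ_mul_odd (A : F) (B : F) hAB'
    refine ⟨QuotientGroup.mk (mkJ (0 : F) 1 (-1) (by ring)),
      QuotientGroup.mk (mkJ (A : F) B B hAB'),
      orderOf_mk_mkJ _ _ _ _ (Or.inr (Or.inr h2)), orderOf_mk_mkJ _ _ _ _ (Or.inr (Or.inr h2)),
      ?_, ?_⟩
    · rw [← QuotientGroup.mk_mul, e1]
      exact orderOf_mk_mkJ _ _ _ _ (Or.inr (Or.inr h2))
    · rw [← QuotientGroup.mk_mul, e2]
      exact orderOf_mk_mkJ _ _ _ _ (Or.inr (Or.inr h2))

end Cfsg.Agent.Helper2.PSL2Inv
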