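import Mathlib
import Cfsg.Prelude.Def_Local

set_option autoImplicit false
namespace Cfsg.Agent.Helper2
variable {G : Type*} [Group G]

/-- A chain `1 ≤ A ≤ B ≤ G` of normal subgroups with `p'`, `p`, `p'` factors shows `p`-solvability. -/
theorem isPSolvable_of_chain3 {p : ℕ} (A B : Subgroup G) (hA : A.Normal) (hB : B.Normal) (hAB : A ≤ B)
    (h1 : (Nat.card A).Coprime p) (h2 : ∃ m : ℕ, A.relIndex B = p ^ m) (h3 : B.index.Coprime p) :
    Cfsg.IsPSolvable p G := by
  refine ⟨3, ![⊥, A, B, ⊤], rfl, rfl, ?_, ?_, ?_⟩
  · rw [Fin.monotone_iff_le_succ]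
    intro i
    fin_cases i
    · exact bot_le
    · exact hAB
    · exact le_top
  · intro i
    fin_cases i
    · exact Subgroup.normal_bot
    · exact hA
    · exact hB
    · exact Subgroup.normal_top
  · intro i
    fin_cases i
    · right
      change ((⊥ : Subgroup G).relIndex A).Coprime p
      rw [Subgroup.relIndex_bot_left]; exact h1
    · left
      exact h2
    · right
      change (B.relIndex ⊤).Coprime p
      rw [Subgroup.relIndex_top_right]; exact h3

end Cfsg.Agent.Helper2
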