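import Mathlib
import Cfsg.Agent.Helper2.Invol

set_option autoImplicit false

namespace Cfsg.Agent.Helper2

variable {G : Type*} [Group G]

/-- If `x = u * v` is a product of two involutions then `u` inverts `x`. -/
theorem conj_of_pair {u v x : G} (hu : orderOf u = 2) (hv : orderOf v = 2) (h : u * v = x) :
    u * x * u⁻¹ = x⁻¹ := by
  have huu := mul_self_of_orderOf_two hu
  have hvv := mul_self_of_orderOf_two hv
  rw [← h, inv_mul_invol huu hvv, inv_eq_self_of_orderOf_two hu, ← mul_assoc, huu, one_mul]

/-- second component of a pair of involutions with product `x` -/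
theorem snd_of_pair {u v x : G} (hu : orderOf u = 2) (h : u * v = x) : v = u * x := by
  rw [← h, ← mul_assoc, mul_self_of_orderOf_two hu, one_mul]

/-- if the involution `t` inverts `x` then `(t * x)^2 = 1` -/
theorem mul_self_of_inverts {t x : G} (ht : orderOf t = 2) (h : t * x * t⁻¹ = x⁻¹) :
    (t * x) * (t * x) = 1 := by
  rw [inv_eq_self_of_orderOf_two ht] at h
  calc t * x * (t * x) = (t * x * t) * x := by group
    _ = 1 := by rw [h, inv_mul_cancel]

/-- The pairs of involutions with product `x` inject (via the first component) into the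
elements inverting `x`. -/
theorem pairs_fst_injective (x : G) :
    Function.Injective (fun p : {p : G × G // orderOf p.1 = 2 ∧ orderOf p.2 = 2 ∧ p.1 * p.2 = x} =>
      (p.1.1 : G)) := by
  intro p q hpq
  simp only at hpq
  apply Subtype.ext
  apply Prod.ext hpq
  rw [snd_of_pair p.2.1 p.2.2.2, snd_of_pair q.2.1 q.2.2.2, hpq]

end Cfsg.Agent.Helper2
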