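import Mathlib
import Cfsg.Prelude.Def_Perm

set_option autoImplicit false

/-! The space of equivariant maps between permutation modules has dimension the number of orbits
on the product. -/

namespace Cfsg.Agent.Helper2.PermHom

open MulAction

variable {G : Type*} [Group G] {K : Type*} [Field K] {Ω₁ Ω₂ : Type*} [Fintype Ω₁] [Fintype Ω₂]
  [MulAction G Ω₁] [MulAction G Ω₂]

/-- The linear map with matrix constant on orbits. -/
noncomputable def lin (c : orbitRel.Quotient G (Ω₁ × Ω₂) → K) : (Ω₁ → K) →ₗ[K] (Ω₂ → K) where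
  toFun v b := ∑ a, c (Quotient.mk (orbitRel G (Ω₁ × Ω₂)) (a, b)) * v a
  map_add' v w := by
    funext b
    simp only [Pi.add_apply, mul_add, Finset.sum_add_distrib]
  map_smul' r v := by
    funext b
    simp only [Pi.smul_apply, smul_eq_mul, RingHom.id_apply, Finset.mul_sum]
    apply Finset.sum_congr rfl
    intro a _
    ring

theorem lin_apply (c : orbitRel.Quotient G (Ω₁ × Ω₂) → K) (v : Ω₁ → K) (b : Ω₂) :
    lin c v b = ∑ a, c (Quotient.mk (orbitRel G (Ω₁ × Ω₂)) (a, b)) * v a := rfl

/-- `lin` as a linear map. -/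
noncomputable def Ψ : (orbitRel.Quotient G (Ω₁ × Ω₂) → K) →ₗ[K]
    ((Ω₁ → K) →ₗ[K] (Ω₂ → K)) where
  toFun := lin
  map_add' c d := by
    apply LinearMap.ext; intro v; funext b
    simp only [LinearMap.add_apply, Pi.add_apply, lin_apply, add_mul, Finset.sum_add_distrib]
  map_smul' r c := by
    apply LinearMap.ext; intro v; funext b
    simp only [LinearMap.smul_apply, Pi.smul_apply, smul_eq_mul, RingHom.id_apply, lin_apply,
      Finset.mul_sum, mul_assoc]

theorem Ψ_apply (c : orbitRel.Quotient G (Ω₁ × Ω₂) → K) : Ψ c = lin c := rfl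

theorem mk_smul (g : G) (a : Ω₁) (b : Ω₂) :
    Quotient.mk (orbitRel G (Ω₁ × Ω₂)) (g • a, g • b) =
      Quotient.mk (orbitRel G (Ω₁ × Ω₂)) (a, b) := by
  apply Quotient.sound
  exact ⟨g, rfl⟩

theorem Ψ_injective : Function.Injective (Ψ (G := G) (K := K) (Ω₁ := Ω₁) (Ω₂ := Ω₂)) := by
  classical
  rw [← LinearMap.ker_eq_bot, LinearMap.ker_eq_bot']
  intro c hc
  funext q
  induction q using Quotient.inductionOn with
  | h p =>
    obtain ⟨a, b⟩ := p
    have h1 : lin c (fun j => if a = j then 1 else 0) b = 0 := by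
      rw [← Ψ_apply, hc]; rfl
    rw [lin_apply] at h1
    simpa using h1

theorem permRep_apply {Ω : Type*} [MulAction G Ω] (g : G) (v : Ω → K) (x : Ω) :
    Cfsg.permRep K G Ω g v x = v (g⁻¹ • x) := rfl

theorem lin_mem_invariants (c : orbitRel.Quotient G (Ω₁ × Ω₂) → K) :
    lin c ∈ ((Cfsg.permRep K G Ω₁).linHom (Cfsg.permRep K G Ω₂)).invariants := by
  rw [Representation.mem_invariants]
  intro g
  rw [Representation.linHom_apply]
  apply LinearMap.ext; intro v; funext b
  rw [LinearMap.comp_apply, LinearMap.comp_apply, permRep_apply, lin_apply, lin_apply]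
  apply Fintype.sum_equiv (MulAction.toPerm g)
  intro a
  rw [permRep_apply, inv_inv, MulAction.toPerm_apply]
  congr 2
  have := mk_smul (G := G) g a (g⁻¹ • b)
  rw [smul_inv_smul] at this
  exact this.symm

theorem invariants_le_range :
    ((Cfsg.permRep K G Ω₁).linHom (Cfsg.permRep K G Ω₂)).invariants ≤
      LinearMap.range (Ψ (G := G) (K := K) (Ω₁ := Ω₁) (Ω₂ := Ω₂)) := by
  classical
  intro f hf
  rw [Representation.mem_invariants] at hf
  have key : ∀ (g : G) (a : Ω₁) (b : Ω₂),
      f (fun j => if g • a = j then 1 else 0) (g • b) = f (fun j => if a = j then 1 else 0) b := by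
    intro g a b
    have h1 := hf g
    rw [Representation.linHom_apply] at h1
    have h2 : (Cfsg.permRep K G Ω₁) g⁻¹ (fun j => if g • a = j then 1 else 0) =
        (fun j => if a = j then (1 : K) else 0) := by
      funext x
      rw [permRep_apply, inv_inv]
      by_cases hax : a = x
      · rw [if_pos hax, if_pos (by rw [hax])]
      · rw [if_neg hax, if_neg (fun h => hax (MulAction.injective g h))]
    have h3 : ((Cfsg.permRep K G Ω₂) g ∘ₗ f ∘ₗ (Cfsg.permRep K G Ω₁) g⁻¹)
        (fun j => if g • a = j then 1 else 0) (g • b) =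
        f (fun j => if g • a = j then 1 else 0) (g • b) := by rw [h1]
    rw [LinearMap.comp_apply, LinearMap.comp_apply, permRep_apply, h2, inv_smul_smul] at h3
    exact h3.symm
  let c : orbitRel.Quotient G (Ω₁ × Ω₂) → K :=
    Quotient.lift (fun p : Ω₁ × Ω₂ => f (fun j => if p.1 = j then 1 else 0) p.2) (by
      rintro ⟨a', b'⟩ ⟨a, b⟩ ⟨g, hg⟩
      have h1 : g • a = a' := congrArg Prod.fst hg
      have h2 : g • b = b' := congrArg Prod.snd hg
      show f (fun j => if a' = j then 1 else 0) b' = f (fun j => if a = j then 1 else 0) b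
      rw [← h1, ← h2]
      exact key g a b)
  refine ⟨c, ?_⟩
  apply LinearMap.ext; intro v; funext b
  rw [Ψ_apply, lin_apply, LinearMap.pi_apply_eq_sum_univ f v, Finset.sum_apply]
  apply Finset.sum_congr rfl
  intro a _
  rw [Pi.smul_apply, smul_eq_mul, mul_comm]
  rfl

theorem range_Ψ : LinearMap.range (Ψ (G := G) (K := K) (Ω₁ := Ω₁) (Ω₂ := Ω₂)) =
    ((Cfsg.permRep K G Ω₁).linHom (Cfsg.permRep K G Ω₂)).invariants := by
  apply le_antisymm
  · rintro _ ⟨c, rfl⟩
    exact lin_mem_invariants c
  · exact invariants_le_range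

theorem finrank_invariants :
    Module.finrank K ((Cfsg.permRep K G Ω₁).linHom (Cfsg.permRep K G Ω₂)).invariants =
      Nat.card (orbitRel.Quotient G (Ω₁ × Ω₂)) := by
  classical
  haveI : Fintype (orbitRel.Quotient G (Ω₁ × Ω₂)) := Fintype.ofFinite _
  rw [← range_Ψ, LinearMap.finrank_range_of_inj Ψ_injective, Module.finrank_fintype_fun_eq_card,
    Nat.card_eq_fintype_card]

end Cfsg.Agent.Helper2.PermHom
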