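import Mathlib

set_option autoImplicit false

namespace Cfsg.Agent.Helper2.Phi10

open Finset

/-- `Φ₁₀(2t)` is never a perfect square. -/
theorem not_sq (t r : ℕ) (ht : 1 ≤ t)
    (h : r ^ 2 + (2 * t) ^ 3 + 2 * t = (2 * t) ^ 4 + (2 * t) ^ 2 + 1) : False := by
  have hT : (1 : ℤ) ≤ (t : ℤ) := by exact_mod_cast ht
  have hR0 : (0 : ℤ) ≤ (r : ℤ) := by positivity
  have hR : (r : ℤ) ^ 2 = 16 * (t : ℤ) ^ 4 - 8 * (t : ℤ) ^ 3 + 4 * (t : ℤ) ^ 2 - 2 * (t : ℤ) + 1 := by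
    have h' : ((r ^ 2 + (2 * t) ^ 3 + 2 * t : ℕ) : ℤ) = (((2 * t) ^ 4 + (2 * t) ^ 2 + 1 : ℕ) : ℤ) := by
      rw [h]
    push_cast at h'
    linarith [h']
  have hu0 : (0 : ℤ) ≤ 4 * (t : ℤ) ^ 2 - (t : ℤ) := by nlinarith
  rcases le_or_gt ((r : ℤ)) (4 * (t : ℤ) ^ 2 - (t : ℤ)) with hle | hgt
  · have h1 := mul_self_le_mul_self hR0 hle
    nlinarith [sq_nonneg ((t : ℤ) - 1), sq_nonneg (t : ℤ)]
  · have hge : 4 * (t : ℤ) ^ 2 - (t : ℤ) + 1 ≤ (r : ℤ) := by omega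
    have h1 := mul_self_le_mul_self (by linarith) hge
    nlinarith [sq_nonneg (t : ℤ)]

/-- the geometric sum of an odd number of odd terms is odd -/
theorem geom_sum_odd (x m : ℕ) (hx : Even x) (hm : Odd m) :
    Odd (∑ i ∈ range m, (x + 1) ^ i) := by
  rw [Nat.odd_iff, Finset.sum_nat_mod]
  have h1 : ∀ i ∈ range m, (x + 1) ^ i % 2 = 1 := by
    intro i _
    have : Odd ((x + 1) ^ i) := (hx.add_one).pow
    exact Nat.odd_iff.mp this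
  rw [Finset.sum_congr rfl h1]
  simp
  exact Nat.odd_iff.mp hm

end Cfsg.Agent.Helper2.Phi10
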