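import Mathlib
import Cfsg.Agent.Helper2.BrTIG

/-!
# Permutation groups of prime degree: a subgroup of order `p`
Elementary facts on a subgroup `K` of order `p` in a group acting faithfully on `p` points.
-/

set_option autoImplicit false
set_option linter.style.haveILetI false

namespace Cfsg.Agent.Helper2.PrimeTwo

open MulAction

universe u v

variable {G : Type u} [Group G] {Ω : Type v} [MulAction G Ω] [FaithfulSMul G Ω] [Fintype Ω]
variable {p : ℕ} [hp : Fact p.Prime]

/-- a subgroup of order `p` acts regularly on `p` points -/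
theorem regular_of_card (K : Subgroup G) (hK : Nat.card K = p) (hΩ : Fintype.card Ω = p) :
    (∀ k ∈ K, k ≠ 1 → ∀ a : Ω, k • a ≠ a) ∧ ∀ a b : Ω, ∃ k ∈ K, k • a = b := by
  classical
  haveI : Finite K := Nat.finite_of_card_ne_zero (by rw [hK]; exact hp.out.ne_zero)
  haveI : Fintype K := Fintype.ofFinite K
  have hdiv : ∀ a : Ω, Nat.card (orbit K a) = 1 ∨ Nat.card (orbit K a) = p := by
    intro a
    have h1 : Nat.card (orbit K a) ∣ Nat.card K := by
      have := card_orbit_mul_card_stabilizer_eq_card_group K a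
      rw [← Nat.card_eq_fintype_card, ← Nat.card_eq_fintype_card, ← Nat.card_eq_fintype_card] at this
      exact Dvd.intro _ this
    rw [hK] at h1
    exact (Nat.dvd_prime hp.out).mp h1
  -- some point is moved
  obtain ⟨k₀, hk₀⟩ : ∃ k : K, k ≠ 1 := by
    have h1 : 1 < Nat.card K := by rw [hK]; exact hp.out.one_lt
    haveI : Nontrivial K := (Finite.one_lt_card_iff_nontrivial).mp h1
    exact exists_ne 1
  obtain ⟨a₀, ha₀⟩ : ∃ a : Ω, (k₀ : G) • a ≠ a := by
    by_contra h
    push Not at h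
    apply hk₀
    apply Subtype.ext
    apply FaithfulSMul.eq_of_smul_eq_smul (α := Ω)
    intro a
    rw [h a, Subgroup.coe_one, one_smul]
  have horb : Nat.card (orbit K a₀) = p := by
    rcases hdiv a₀ with h | h
    · exfalso
      rw [Nat.card_eq_one_iff_unique] at h
      obtain ⟨hs, -⟩ := h
      have h1 : (⟨k₀ • a₀, mem_orbit a₀ k₀⟩ : orbit K a₀) = ⟨a₀, mem_orbit_self a₀⟩ :=
        Subsingleton.elim _ _
      exact ha₀ (congrArg Subtype.val h1)
    · exact h
  have hall : ∀ b : Ω, b ∈ orbit K a₀ := by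
    have h1 : (orbit K a₀) = Set.univ := by
      rw [Set.eq_univ_iff_ncard, ← Nat.card_coe_set_eq, horb, Nat.card_eq_fintype_card, hΩ]
    intro b
    rw [h1]
    exact Set.mem_univ b
  have htrans : ∀ a b : Ω, ∃ k ∈ K, k • a = b := by
    intro a b
    obtain ⟨k₁, hk₁⟩ := hall a
    obtain ⟨k₂, hk₂⟩ := hall b
    refine ⟨(k₂ * k₁⁻¹ : K), (k₂ * k₁⁻¹ : K).2, ?_⟩
    have e1 : ((k₂ * k₁⁻¹ : K) : G) • a = (k₂ * k₁⁻¹ : K) • a := rfl
    rw [e1, ← hk₁, ← hk₂, mul_smul, inv_smul_smul]
  refine ⟨?_, htrans⟩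
  intro k hk hk1 a ha
  -- orbit of a is everything, so stabilizer trivial
  have horba : Nat.card (orbit K a) = p := by
    rcases hdiv a with h | h
    · exfalso
      rw [Nat.card_eq_one_iff_unique] at h
      obtain ⟨hs, -⟩ := h
      obtain ⟨b, hb⟩ : ∃ b : Ω, b ≠ a := by
        have h1 : 1 < Fintype.card Ω := by rw [hΩ]; exact hp.out.one_lt
        obtain ⟨x, y, hxy⟩ := Fintype.one_lt_card_iff.mp h1
        by_cases hx : x = a
        · exact ⟨y, fun h => hxy (hx.trans h.symm)⟩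
        · exact ⟨x, hx⟩
      obtain ⟨k', hk', hk'b⟩ := htrans a b
      have h1 : (⟨b, ⟨⟨k', hk'⟩, hk'b⟩⟩ : orbit K a) = ⟨a, mem_orbit_self a⟩ :=
        Subsingleton.elim _ _
      exact hb (congrArg Subtype.val h1)
    · exact h
  have hstab : Nat.card (stabilizer K a) = 1 := by
    have := card_orbit_mul_card_stabilizer_eq_card_group K a
    rw [← Nat.card_eq_fintype_card, ← Nat.card_eq_fintype_card, ← Nat.card_eq_fintype_card,
      horba, hK] at this
    have hp0 : 0 < p := hp.out.pos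
    nlinarith
  rw [Nat.card_eq_one_iff_unique] at hstab
  obtain ⟨hs, -⟩ := hstab
  have h1 : (⟨⟨k, hk⟩, by rw [mem_stabilizer_iff]; exact ha⟩ : stabilizer K a) = 1 :=
    Subsingleton.elim _ _
  apply hk1
  have h2 := congrArg (fun x : stabilizer K a => ((x : K) : G)) h1
  simpa using h2


/-- a subgroup of order `p` is self-centralizing -/
theorem centralizer_le (K : Subgroup G) (hK : Nat.card K = p) (hΩ : Fintype.card Ω = p) :
    Subgroup.centralizer (K : Set G) ≤ K := by
  classical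
  obtain ⟨hreg, htrans⟩ := regular_of_card K hK hΩ
  intro c hc
  have hne : Nonempty Ω := by
    rw [← Fintype.card_pos_iff, hΩ]
    exact hp.out.pos
  obtain ⟨a⟩ := hne
  obtain ⟨k, hk, hka⟩ := htrans a (c • a)
  have hd : k⁻¹ * c = 1 := by
    apply FaithfulSMul.eq_of_smul_eq_smul (α := Ω)
    intro b
    obtain ⟨k', hk', rfl⟩ := htrans a b
    rw [one_smul, ← mul_smul]
    have h1 : k⁻¹ * c * k' = k' * (k⁻¹ * c) := by
      have h2 : k' * c = c * k' := (Subgroup.mem_centralizer_iff.mp hc) k' hk'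
      have h3 : k' * k⁻¹ = k⁻¹ * k' := BrTI.prime_ab K hK k' hk' k⁻¹ (K.inv_mem hk)
      calc k⁻¹ * c * k' = k⁻¹ * (c * k') := by group
        _ = k⁻¹ * (k' * c) := by rw [h2]
        _ = (k⁻¹ * k') * c := by group
        _ = (k' * k⁻¹) * c := by rw [h3]
        _ = k' * (k⁻¹ * c) := by group
    rw [h1, mul_smul, mul_smul, ← hka, inv_smul_smul]
  have : c = k := by
    have h1 : k * (k⁻¹ * c) = k * 1 := by rw [hd]
    rw [mul_one, mul_inv_cancel_left] at h1
    exact h1
  rw [this]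
  exact hk

/-- an involution normalizing `K` inverts it -/
theorem involution_inverts (hp2 : p ≠ 2) (K : Subgroup G) (hK : Nat.card K = p)
    (hΩ : Fintype.card Ω = p) (y : G) (hyN : y ∈ Subgroup.normalizer (K : Set G))
    (hy2 : y * y = 1) (hy1 : y ≠ 1) : ∀ k ∈ K, y * k * y⁻¹ = k⁻¹ := by
  classical
  have hyinv : y⁻¹ = y := inv_eq_of_mul_eq_one_left hy2
  have hyK : y ∉ K := by
    intro hy
    have h1 : orderOf y = 2 := orderOf_eq_prime (by rw [pow_two]; exact hy2) hy1
    have h2 : orderOf (⟨y, hy⟩ : K) ∣ Nat.card K := orderOf_dvd_natCard _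
    rw [Subgroup.orderOf_mk, h1, hK] at h2
    exact hp2 ((Nat.prime_dvd_prime_iff_eq Nat.prime_two hp.out).mp h2).symm
  have hyC : y ∉ Subgroup.centralizer (K : Set G) := fun h => hyK (centralizer_le K hK hΩ h)
  intro k hk
  have hσ : ∀ x ∈ K, y * x * y⁻¹ ∈ K := fun x hx => (Subgroup.mem_normalizer_iff.mp hyN x).mp hx
  set c := k * (y * k * y⁻¹) with hc
  have hcK : c ∈ K := K.mul_mem hk (hσ k hk)
  have hyc : y * c * y⁻¹ = c := by
    rw [hc]
    have h1 : y * (k * (y * k * y⁻¹)) * y⁻¹ = (y * k * y⁻¹) * (y * (y * k * y⁻¹) * y⁻¹) := by group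
    rw [h1]
    have h2 : y * (y * k * y⁻¹) * y⁻¹ = k := by
      rw [hyinv]
      calc y * (y * k * y) * y = (y * y) * k * (y * y) := by group
        _ = k := by rw [hy2]; group
    rw [h2]
    exact BrTI.prime_ab K hK _ (hσ k hk) _ hk
  by_cases hc1 : c = 1
  · have : y * k * y⁻¹ = k⁻¹ := by
      have h1 : k⁻¹ * c = k⁻¹ * 1 := by rw [hc1]
      rw [hc, inv_mul_cancel_left, mul_one] at h1
      exact h1
    exact this
  · exfalso
    apply hyC
    rw [Subgroup.mem_centralizer_iff]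
    intro x hx
    obtain ⟨i, rfl⟩ := Subgroup.mem_zpowers_iff.mp (BrTI.mem_zpowers_of_prime K hK c hcK hc1 x hx)
    have h1 : Commute c y := by
      show c * y = y * c
      have : y * c = (y * c * y⁻¹) * y := by group
      rw [this, hyc]
    exact (h1.zpow_left i).eq

/-- an involution normalizing `K` has at most one fixed point -/
theorem involution_fixed_unique (hp2 : p ≠ 2) (K : Subgroup G) (hK : Nat.card K = p)
    (hΩ : Fintype.card Ω = p) (y : G) (hyN : y ∈ Subgroup.normalizer (K : Set G))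
    (hy2 : y * y = 1) (hy1 : y ≠ 1) (a b : Ω) (ha : y • a = a) (hb : y • b = b) : a = b := by
  classical
  obtain ⟨hreg, htrans⟩ := regular_of_card K hK hΩ
  have hinv := involution_inverts hp2 K hK hΩ y hyN hy2 hy1
  obtain ⟨k, hk, rfl⟩ := htrans a b
  have h1 : y • k • a = k⁻¹ • a := by
    have h2 : y * k = k⁻¹ * y := by
      have := hinv k hk
      calc y * k = (y * k * y⁻¹) * y := by group
        _ = k⁻¹ * y := by rw [this]
    rw [← mul_smul, h2, mul_smul, ha]
  rw [hb] at h1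
  have h3 : (k * k) • a = a := by
    rw [mul_smul, h1, smul_inv_smul]
  by_cases hkk : k * k = 1
  · -- then `k = 1` since `p` is odd
    have hk1 : k = 1 := by
      by_contra hne
      have h4 : orderOf k = 2 := orderOf_eq_prime (by rw [pow_two]; exact hkk) hne
      have h5 : orderOf (⟨k, hk⟩ : K) ∣ Nat.card K := orderOf_dvd_natCard _
      rw [Subgroup.orderOf_mk, h4, hK] at h5
      exact hp2 ((Nat.prime_dvd_prime_iff_eq Nat.prime_two hp.out).mp h5).symm
    rw [hk1, one_smul]
  · exact absurd h3 (hreg (k * k) (K.mul_mem hk hk) hkk a)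

/-- an involution with two fixed points: no product of two of its conjugates is conjugate to a
nonidentity element of `K` -/
theorem no_product (hp2 : p ≠ 2) (K : Subgroup G) (hK : Nat.card K = p)
    (hΩ : Fintype.card Ω = p) (z : G) (hz2 : z * z = 1) (hz1 : z ≠ 1) (a b : Ω) (hab : a ≠ b)
    (ha : z • a = a) (hb : z • b = b) (k : G) (hk : k ∈ K) (hk1 : k ≠ 1) (x y : G)
    (hx : IsConj z x) (hy : IsConj z y) : ¬ IsConj k (x * y) := by
  classical
  intro hxy
  obtain ⟨g, hg⟩ := isConj_iff.mp hxy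
  obtain ⟨u, hu⟩ := isConj_iff.mp hx
  obtain ⟨v, hv⟩ := isConj_iff.mp hy
  -- `x' = g⁻¹ x g` is an involution with `x' y' = k`
  set x' := g⁻¹ * x * g with hx'
  set y' := g⁻¹ * y * g with hy'
  have hxy' : x' * y' = k := by
    rw [hx', hy']
    have : g⁻¹ * x * g * (g⁻¹ * y * g) = g⁻¹ * (x * y) * g := by group
    rw [this, ← hg]
    group
  have hx2 : x' * x' = 1 := by
    rw [hx', ← hu]
    have : g⁻¹ * (u * z * u⁻¹) * g * (g⁻¹ * (u * z * u⁻¹) * g) = g⁻¹ * u * (z * z) * u⁻¹ * g := by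
      group
    rw [this, hz2]
    group
  have hy2 : y' * y' = 1 := by
    rw [hy', ← hv]
    have : g⁻¹ * (v * z * v⁻¹) * g * (g⁻¹ * (v * z * v⁻¹) * g) = g⁻¹ * v * (z * z) * v⁻¹ * g := by
      group
    rw [this, hz2]
    group
  have hx1 : x' ≠ 1 := by
    intro h
    apply hz1
    rw [hx', ← hu] at h
    have : z = u⁻¹ * g * (g⁻¹ * (u * z * u⁻¹) * g) * g⁻¹ * u := by group
    rw [this, h]
    group
  have hxinv : x'⁻¹ = x' := inv_eq_of_mul_eq_one_left hx2
  have hyinv : y'⁻¹ = y' := inv_eq_of_mul_eq_one_left hy2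
  -- `x'` inverts `k`
  have hinvk : x' * k * x'⁻¹ = k⁻¹ := by
    rw [← hxy', hxinv, mul_inv_rev, hxinv, hyinv]
    calc x' * (x' * y') * x' = (x' * x') * y' * x' := by group
      _ = y' * x' := by rw [hx2, one_mul]
  -- hence `x'` normalizes `K`
  have hxN : x' ∈ Subgroup.normalizer (K : Set G) := by
    rw [Subgroup.mem_normalizer_iff]
    intro h
    constructor
    · intro hh
      obtain ⟨i, rfl⟩ := Subgroup.mem_zpowers_iff.mp (BrTI.mem_zpowers_of_prime K hK k hk hk1 h hh)
      rw [BrTI.conj_zpow, hinvk]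
      exact K.zpow_mem (K.inv_mem hk) i
    · intro hh
      have h1 : x' * (x' * h * x'⁻¹) * x'⁻¹ = h := by
        rw [hxinv]
        calc x' * (x' * h * x') * x' = (x' * x') * h * (x' * x') := by group
          _ = h := by rw [hx2]; group
      obtain ⟨i, hi⟩ := Subgroup.mem_zpowers_iff.mp
        (BrTI.mem_zpowers_of_prime K hK k hk hk1 _ hh)
      rw [← h1, ← hi, BrTI.conj_zpow, hinvk]
      exact K.zpow_mem (K.inv_mem hk) i
  -- `x'` has two fixed points
  have hfa : x' • ((g⁻¹ * u) • a) = (g⁻¹ * u) • a := by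
    rw [hx', ← hu, ← mul_smul]
    have : g⁻¹ * (u * z * u⁻¹) * g * (g⁻¹ * u) = (g⁻¹ * u) * z := by group
    rw [this, mul_smul, ha]
  have hfb : x' • ((g⁻¹ * u) • b) = (g⁻¹ * u) • b := by
    rw [hx', ← hu, ← mul_smul]
    have : g⁻¹ * (u * z * u⁻¹) * g * (g⁻¹ * u) = (g⁻¹ * u) * z := by group
    rw [this, mul_smul, hb]
  have := involution_fixed_unique hp2 K hK hΩ x' hxN hx2 hx1 _ _ hfa hfb
  exact hab (MulAction.injective (g⁻¹ * u) this)

end Cfsg.Agent.Helper2.PrimeTwo
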