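import Mathlib
import Cfsg.Agent.Helper2.BrTIM2
import Cfsg.Agent.Helper2.PrimeTwoB
import Cfsg.Agent.S0157

/-!
# Permutation groups of prime degree with Sylow normalizer of order `2p`: the character table
on the elements of order `p`
-/

set_option autoImplicit false
set_option linter.style.haveILetI false

namespace Cfsg.Agent.Helper2.PrimeTwo

open MulAction Cfsg.Agent.Helper6 Cfsg.Agent.Helper2.BrTI
open scoped ComplexConjugate

universe u v

/-- the hypotheses -/
structure Hyp (G : Type u) [Group G] [Fintype G] (Ω : Type v) [MulAction G Ω] [Fintype Ω]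
    (p : ℕ) (K : Subgroup G) : Prop where
  faithful : FaithfulSMul G Ω
  prime : p.Prime
  big : 7 < p
  cardΩ : Fintype.card Ω = p
  cardK : Nat.card K = p
  cardN : Nat.card (Subgroup.normalizer (K : Set G)) = 2 * p
  trans3 : IsMultiplyPretransitive G Ω 3

variable {G : Type u} [Group G] [Fintype G] {Ω : Type v} [MulAction G Ω] [Fintype Ω]
variable {p : ℕ} {K : Subgroup G}

local notation "NK" => Subgroup.normalizer (K : Set G)

/-- the number of fixed points, as a complex number -/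
noncomputable def pi (G : Type u) [Group G] (Ω : Type v) [MulAction G Ω] : G → ℂ :=
  fun g => (Nat.card (fixedBy Ω g) : ℂ)

/-- the number of fixed points minus one -/
noncomputable def theta (G : Type u) [Group G] (Ω : Type v) [MulAction G Ω] : G → ℂ :=
  fun g => (Nat.card (fixedBy Ω g) : ℂ) - 1

namespace Hyp

variable (h : Hyp G Ω p K)
include h

theorem two_lt : 2 < p := by have := h.big; omega

theorem ne_two : p ≠ 2 := by have := h.big; omega

theorem trans2 : IsMultiplyPretransitive G Ω 2 := by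
  haveI := h.trans3
  exact isMultiplyPretransitive_of_le (G := G) (α := Ω) (m := 2) (n := 3) (by norm_num)
    (by rw [Nat.card_eq_fintype_card, h.cardΩ]; have := h.big; omega)

theorem trans1 : IsPretransitive G Ω := by
  haveI := h.trans3
  have h1 : IsMultiplyPretransitive G Ω 1 :=
    isMultiplyPretransitive_of_le (G := G) (α := Ω) (m := 1) (n := 3) (by norm_num)
    (by rw [Nat.card_eq_fintype_card, h.cardΩ]; have := h.big; omega)
  exact (is_one_pretransitive_iff (G := G) (α := Ω)).mp h1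

theorem theta_irr : Cfsg.IsIrrCharacter G (theta G Ω) := by
  haveI := h.trans1
  exact (Cfsg.Agent.S0157.result (G := G) Ω
    (by rw [Nat.card_eq_fintype_card, h.cardΩ]; have := h.big; omega)).mpr h.trans2

theorem fixedBy_empty (k : G) (hk : k ∈ K) (hk1 : k ≠ 1) : Nat.card (fixedBy Ω k) = 0 := by
  haveI := h.faithful
  haveI : Fact p.Prime := ⟨h.prime⟩
  obtain ⟨hreg, -⟩ := regular_of_card K h.cardK h.cardΩ
  rw [Nat.card_eq_zero]
  left
  constructor
  intro a
  exact hreg k hk hk1 a.1 a.2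

theorem theta_apply (k : G) (hk : k ∈ K) (hk1 : k ≠ 1) : theta G Ω k = -1 := by
  unfold theta
  rw [h.fixedBy_empty k hk hk1]
  simp

theorem pi_apply (k : G) (hk : k ∈ K) (hk1 : k ≠ 1) : pi G Ω k = 0 := by
  unfold pi
  rw [h.fixedBy_empty k hk hk1]
  simp

theorem centralizer_le : Subgroup.centralizer (K : Set G) ≤ K := by
  haveI := h.faithful
  haveI : Fact p.Prime := ⟨h.prime⟩
  exact PrimeTwo.centralizer_le K h.cardK h.cardΩ

theorem index_eq : (K.subgroupOf NK).index = 2 := by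
  have h1 := Subgroup.card_mul_index (K.subgroupOf NK)
  rw [card_subgroupOf_normalizer, h.cardK, h.cardN] at h1
  have hp0 : 0 < p := h.prime.pos
  nlinarith

theorem exists_data : Nonempty (Data K) := by
  haveI : Fact p.Prime := ⟨h.prime⟩
  exact BrTI.exists_data K h.cardK h.centralizer_le (by rw [h.index_eq]; have := h.big; omega)


theorem pi_eq : pi G Ω = theta G Ω + fun _ => 1 := by
  ext g
  simp [pi, theta]

theorem theta_one : theta G Ω 1 = (p : ℂ) - 1 := by
  unfold theta
  have h1 : Nat.card (fixedBy Ω (1 : G)) = p := by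
    rw [← h.cardΩ, ← Nat.card_eq_fintype_card]
    apply Nat.card_congr
    exact
      { toFun := fun a => a.1
        invFun := fun a => ⟨a, by rw [mem_fixedBy, one_smul]⟩
        left_inv := fun a => rfl
        right_inv := fun a => rfl }
  rw [h1]

theorem theta_ne_one : theta G Ω ≠ fun _ => (1 : ℂ) := by
  intro h1
  have h2 := congrFun h1 1
  rw [h.theta_one] at h2
  have h3 : (p : ℂ) = 2 := by linear_combination h2
  have h4 : p = 2 := by exact_mod_cast h3
  exact h.ne_two h4

set_option maxHeartbeats 1600000 in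
/-- the values of the irreducible characters on the elements of order `p` -/
theorem exists_table [Fintype ↥NK] [Fintype (Cfsg.IrrCharacter ↥NK)]
    [Fintype (Rel K)] [Fintype (Cfsg.IrrCharacter G)] :
    ∃ Λ : Rel K → Cfsg.IrrCharacter G, Function.Injective Λ ∧
      (∀ η, (Λ η : G → ℂ) ≠ fun _ => 1) ∧ (∀ η, (Λ η : G → ℂ) ≠ theta G Ω) ∧
      (∀ η (k : ↥NK), (k : G) ∈ K → k ≠ 1 → (Λ η : G → ℂ) k = -(η.1 : ↥NK → ℂ) k) ∧
      (∀ η, (Λ η : G → ℂ) 1 = (p : ℂ) - 2) ∧
      (∀ χ : Cfsg.IrrCharacter G, (χ : G → ℂ) ≠ (fun _ => 1) → (χ : G → ℂ) ≠ theta G Ω →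
        (∀ η, Λ η ≠ χ) → ∀ k : ↥NK, (k : G) ∈ K → k ≠ 1 → (χ : G → ℂ) k = 0) := by
  classical
  obtain ⟨D⟩ := h.exists_data
  obtain ⟨εz, c, hεz, hεzC, hexc, hc_exc, hc_non, hsq, hlin⟩ :=
    D.main2 2 h.index_eq (by rw [h.cardK]; have := h.big; omega)
  set triv : Cfsg.IrrCharacter G := ⟨fun _ => 1, isIrrCharacter_one⟩ with htriv
  set θi : Cfsg.IrrCharacter G := ⟨theta G Ω, h.theta_irr⟩ with hθi
  have hp0 : 0 < p := h.prime.pos
  -- a nonidentity element of `K`
  obtain ⟨k₀, hk₀K, hk₀1⟩ : ∃ k₀ : ↥NK, (k₀ : G) ∈ K ∧ k₀ ≠ 1 := by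
    have h1 : 1 < Nat.card (K.subgroupOf NK) := by
      rw [card_subgroupOf_normalizer, h.cardK]; exact h.prime.one_lt
    haveI : Nontrivial (K.subgroupOf NK) := (Finite.one_lt_card_iff_nontrivial).mp h1
    obtain ⟨k, hk⟩ := exists_ne (1 : K.subgroupOf NK)
    exact ⟨k.1, Subgroup.mem_subgroupOf.mp k.2, fun h => hk (Subtype.ext h)⟩
  have hk₀1' : (k₀ : G) ≠ 1 := fun h => hk₀1 (Subtype.ext h)
  obtain ⟨hs1, hs2, hcard⟩ := nside K D.hC D.hab k₀ hk₀K hk₀1
  rw [h.index_eq, h.cardK] at hcard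
  -- two distinct relevant characters
  obtain ⟨η₀, η₁, hη01⟩ : ∃ η₀ η₁ : Rel K, η₀ ≠ η₁ := by
    have h1 : 1 < Nat.card (Rel K) := by have := h.big; omega
    haveI : Nontrivial (Rel K) := (Finite.one_lt_card_iff_nontrivial).mp h1
    exact exists_pair_ne _
  have htriv_non : ∀ η : Rel K, D.f η ≠ triv := by
    intro η
    by_cases h1 : η = η₀
    · rw [h1]; exact D.triv_not_exc η₀ η₁ hη01
    · exact D.triv_not_exc η η₀ h1
  -- the class function `pi`
  have hpicf : Cfsg.IsClassFunction G (pi G Ω) := by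
    rw [h.pi_eq]
    intro g x
    simp only [Pi.add_apply]
    rw [IsCharacter.isClassFunction (IsIrrCharacter.isCharacter h.theta_irr) g x]
  -- `theta` is not exceptional
  have hθ_non : ∀ η : Rel K, D.f η ≠ θi := by
    intro η hη
    obtain ⟨ξ, hξ⟩ : ∃ ξ : Rel K, ξ ≠ η := by
      by_cases h1 : η = η₀
      · exact ⟨η₁, fun h2 => hη01 (h1.symm ▸ h2.symm)⟩
      · exact ⟨η₀, fun h2 => h1 h2.symm⟩
    have h1 := D.hind η ξ
    have h2 : Cfsg.classInner (Cfsg.indFun NK ((η.1 : ↥NK → ℂ) - (ξ.1 : ↥NK → ℂ))) (pi G Ω) =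
        Cfsg.classInner (D.ε • ((D.f η : G → ℂ) - (D.f ξ : G → ℂ))) (pi G Ω) := by rw [h1]
    rw [frobenius_reciprocity _ _ _ hpicf] at h2
    have hzero : Cfsg.classInner ((η.1 : ↥NK → ℂ) - (ξ.1 : ↥NK → ℂ))
        (fun n : ↥NK => pi G Ω (n : G)) = 0 := by
      rw [classInner_def]
      rw [Finset.sum_eq_zero, mul_zero]
      intro n _
      have hη' := rel_data K D.hC D.hab _ η.1.2 η.2
      have hξ' := rel_data K D.hC D.hab _ ξ.1.2 ξ.2
      by_cases hnK : (n : G) ∈ K
      · by_cases hn1 : n = 1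
        · subst hn1
          simp only [Pi.sub_apply]
          rw [hη'.2, hξ'.2, sub_self, zero_mul]
        · have hn1' : (n : G) ≠ 1 := fun h => hn1 (Subtype.ext h)
          rw [h.pi_apply (n : G) hnK hn1', map_zero, mul_zero]
      · simp only [Pi.sub_apply]
        rw [hη'.1 n hnK, hξ'.1 n hnK, sub_self, zero_mul]
    rw [hzero] at h2
    have hfξ_ne_θ : (D.f ξ : G → ℂ) ≠ theta G Ω := by
      intro h3
      apply hξ
      apply D.hf
      rw [hη]
      exact Subtype.ext h3
    have hfξ_ne_1 : (D.f ξ : G → ℂ) ≠ fun _ => (1 : ℂ) := by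
      intro h3
      exact htriv_non ξ (Subtype.ext h3)
    have hfη : (D.f η : G → ℂ) = theta G Ω := congrArg Subtype.val hη
    rw [hfη, h.pi_eq, classInner_smul_left, classInner_sub_left, classInner_add_right,
      classInner_add_right, classInner_irr_self h.theta_irr,
      classInner_irr_ne h.theta_irr isIrrCharacter_one h.theta_ne_one,
      classInner_irr_ne (D.f ξ).2 h.theta_irr hfξ_ne_θ,
      classInner_irr_ne (D.f ξ).2 isIrrCharacter_one hfξ_ne_1] at h2
    rcases D.hε with h5 | h5 <;> rw [h5] at h2 <;> norm_num at h2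
  -- the constants
  have hctriv : c triv = 1 := by
    have h1 := hc_non triv (fun η => htriv_non η) k₀ hk₀K hk₀1
    have h2 : ((1 : ℤ) : ℂ) = (c triv : ℂ) := by
      rw [← h1]
      simp [htriv]
    exact_mod_cast h2.symm
  have hcθ : c θi = -1 := by
    have h1 := hc_non θi hθ_non k₀ hk₀K hk₀1
    have h2 : ((-1 : ℤ) : ℂ) = (c θi : ℂ) := by
      rw [← h1]
      show _ = theta G Ω (k₀ : G)
      rw [h.theta_apply _ hk₀K hk₀1']
      simp
    exact_mod_cast h2.symm
  have hne_tθ : triv ≠ θi := by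
    intro h1
    exact h.theta_ne_one (congrArg Subtype.val h1).symm
  have hc0 : ∀ χ : Cfsg.IrrCharacter G, χ ≠ triv → χ ≠ θi → c χ = 0 := by
    intro χ h1 h2
    by_contra h3
    have h4 : ∑ χ' ∈ ({triv, θi, χ} : Finset (Cfsg.IrrCharacter G)), c χ' ^ 2 ≤
        ∑ χ', c χ' ^ 2 :=
      Finset.sum_le_sum_of_subset_of_nonneg (Finset.subset_univ _) (fun i _ _ => sq_nonneg _)
    rw [Finset.sum_insert (by
        rw [Finset.mem_insert, Finset.mem_singleton]
        rintro (h5 | h5)
        · exact hne_tθ h5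
        · exact h1 h5.symm),
      Finset.sum_insert (by
        rw [Finset.mem_singleton]
        exact fun h5 => h2 h5.symm), Finset.sum_singleton, hctriv, hcθ, hsq] at h4
    have h5 : 0 < c χ ^ 2 := by positivity
    push_cast at h4
    linarith
  -- the degree equation
  have hdegθ : (Cfsg.charDegree (θi : G → ℂ) : ℤ) = (p : ℤ) - 1 := by
    have h1 := charDegree_cast_of_isCharacter (IsIrrCharacter.isCharacter θi.2)
    have h2 : (θi : G → ℂ) 1 = theta G Ω 1 := rfl
    rw [h2, h.theta_one] at h1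
    have h3 : ((Cfsg.charDegree (θi : G → ℂ) : ℤ) : ℂ) = (((p : ℤ) - 1 : ℤ) : ℂ) := by
      push_cast
      exact h1
    exact_mod_cast h3
  have hdegtriv : (Cfsg.charDegree (triv : G → ℂ) : ℤ) = 1 := by
    have h1 := charDegree_cast_of_isCharacter (IsIrrCharacter.isCharacter triv.2)
    have h2 : (triv : G → ℂ) 1 = 1 := rfl
    rw [h2] at h1
    exact_mod_cast h1
  have hsum : ∑ χ, c χ * (Cfsg.charDegree (χ : G → ℂ) : ℤ) = 2 - (p : ℤ) := by
    rw [Finset.sum_eq_add triv θi hne_tθ (by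
      intro χ _ hχ
      rw [hc0 χ hχ.1 hχ.2, zero_mul]) (fun h1 => absurd (Finset.mem_univ _) h1)
      (fun h1 => absurd (Finset.mem_univ _) h1), hctriv, hcθ, hdegθ, hdegtriv]
    ring
  have hdegpos : ∀ η : Rel K, (0 : ℤ) < (Cfsg.charDegree (D.f η : G → ℂ) : ℤ) := by
    intro η
    obtain ⟨n, hn, hn1⟩ := IsIrrCharacter.apply_one_pos (D.f η).2
    have h1 := charDegree_cast_of_isCharacter (IsIrrCharacter.isCharacter (D.f η).2)
    rw [hn1] at h1
    have h2 : Cfsg.charDegree (D.f η : G → ℂ) = n := by exact_mod_cast h1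
    rw [h2]
    exact_mod_cast hn
  have hεm : εz = -1 := by
    rcases hεz with h1 | h1
    · exfalso
      have h2 := hlin η₀
      rw [hsum, h1, one_mul] at h2
      have h3 := hdegpos η₀
      have h4 : (7 : ℤ) < p := by exact_mod_cast h.big
      linarith
    · exact h1
  have hεC : D.ε = -1 := by
    rw [← hεzC, hεm]
    simp
  have hdegΛ : ∀ η : Rel K, (D.f η : G → ℂ) 1 = (p : ℂ) - 2 := by
    intro η
    have h2 := hlin η
    rw [hsum, hεm] at h2
    have h3 : (Cfsg.charDegree (D.f η : G → ℂ) : ℤ) = (p : ℤ) - 2 := by linarith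
    rw [← charDegree_cast_of_isCharacter (IsIrrCharacter.isCharacter (D.f η).2)]
    have h4 : ((Cfsg.charDegree (D.f η : G → ℂ) : ℤ) : ℂ) = (((p : ℤ) - 2 : ℤ) : ℂ) := by
      rw [h3]
    push_cast at h4
    exact h4
  refine ⟨D.f, D.hf, fun η h1 => htriv_non η (Subtype.ext h1),
    fun η h1 => hθ_non η (Subtype.ext h1), ?_, hdegΛ, ?_⟩
  · intro η k hk hk1
    rw [hexc η k hk hk1, hεC]
    ring
  · intro χ h1 h2 h3 k hk hk1
    rw [hc_non χ h3 k hk hk1, hc0 χ (fun h4 => h1 (congrArg Subtype.val h4))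
      (fun h4 => h2 (congrArg Subtype.val h4))]
    simp

end Hyp

end Cfsg.Agent.Helper2.PrimeTwo
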