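import Mathlib
import Cfsg.Agent.Helper2.PrimeTwoC
import Cfsg.Agent.Helper6.TIFrob

/-!
# Permutation groups of prime degree with Sylow normalizer of order `2p`: the exceptional
characters off the elements of order `p`
-/

set_option autoImplicit false
set_option linter.style.haveILetI false

namespace Cfsg.Agent.Helper2.PrimeTwo

open MulAction Cfsg.Agent.Helper6 Cfsg.Agent.Helper2.BrTI
open scoped ComplexConjugate

universe u v

/-- the table -/
structure Tab (G : Type u) [Group G] [Fintype G] (Ω : Type v) [MulAction G Ω] [Fintype Ω]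
    (p : ℕ) (K : Subgroup G) : Type u where
  hyp : Hyp G Ω p K
  Λ : Rel K → Cfsg.IrrCharacter G
  inj : Function.Injective Λ
  ne_one : ∀ η, (Λ η : G → ℂ) ≠ fun _ => 1
  ne_theta : ∀ η, (Λ η : G → ℂ) ≠ theta G Ω
  val : ∀ η (k : ↥(Subgroup.normalizer (K : Set G))), (k : G) ∈ K → k ≠ 1 →
    (Λ η : G → ℂ) k = -(η.1 : ↥(Subgroup.normalizer (K : Set G)) → ℂ) k
  deg : ∀ η, (Λ η : G → ℂ) 1 = (p : ℂ) - 2
  rest : ∀ χ : Cfsg.IrrCharacter G, (χ : G → ℂ) ≠ (fun _ => 1) → (χ : G → ℂ) ≠ theta G Ω →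
    (∀ η, Λ η ≠ χ) → ∀ k : ↥(Subgroup.normalizer (K : Set G)), (k : G) ∈ K → k ≠ 1 →
      (χ : G → ℂ) k = 0

variable {G : Type u} [Group G] [Fintype G] {Ω : Type v} [MulAction G Ω] [Fintype Ω]
variable {p : ℕ} {K : Subgroup G}

local notation "NK" => Subgroup.normalizer (K : Set G)

theorem Hyp.exists_tab (h : Hyp G Ω p K) : Nonempty (Tab G Ω p K) := by
  classical
  haveI : Fintype ↥NK := Fintype.ofFinite _
  haveI : Finite (Cfsg.IrrCharacter ↥NK) := irr_finite
  haveI : Fintype (Cfsg.IrrCharacter ↥NK) := Fintype.ofFinite _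
  haveI : Fintype (Rel K) := Fintype.ofFinite _
  haveI : Finite (Cfsg.IrrCharacter G) := irr_finite
  haveI : Fintype (Cfsg.IrrCharacter G) := Fintype.ofFinite _
  obtain ⟨Λ, h1, h2, h3, h4, h5, h6⟩ := h.exists_table
  exact ⟨⟨h, Λ, h1, h2, h3, h4, h5, h6⟩⟩

variable (K) in
/-- the indicator function of `K` on its normalizer -/
noncomputable def indK : ↥NK → ℂ := by
  classical exact fun n => if (n : G) ∈ K then 1 else 0

theorem indK_mem {n : ↥NK} (hn : (n : G) ∈ K) : indK K n = 1 := by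
  classical
  unfold indK
  rw [if_pos hn]

theorem indK_not_mem {n : ↥NK} (hn : (n : G) ∉ K) : indK K n = 0 := by
  classical
  unfold indK
  rw [if_neg hn]

theorem indK_isClassFunction : Cfsg.IsClassFunction ↥NK (indK K) := by
  classical
  intro n m
  have hiff : ((m * n * m⁻¹ : ↥NK) : G) ∈ K ↔ (n : G) ∈ K := by
    have := (Subgroup.mem_normalizer_iff.mp m.2) (n : G)
    rw [this]
    rfl
  by_cases hn : (n : G) ∈ K
  · rw [indK_mem hn, indK_mem (hiff.mpr hn)]
  · rw [indK_not_mem hn, indK_not_mem (fun h => hn (hiff.mp h))]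

/-- the function `2 · 1_K - η` on the normalizer -/
noncomputable def phi (η : Rel K) : ↥NK → ℂ := fun n => 2 * indK K n - (η.1 : ↥NK → ℂ) n

namespace Tab

variable (T : Tab G Ω p K)

/-- the difference `Λ η - θ + 1` -/
noncomputable def Delta (η : Rel K) : G → ℂ := fun g => (T.Λ η : G → ℂ) g - theta G Ω g + 1

include T

theorem hC : ∀ k ∈ K, k ≠ 1 → Subgroup.centralizer ({k} : Set G) ≤ K := by
  haveI : Fact p.Prime := ⟨T.hyp.prime⟩
  exact prime_cent K T.hyp.cardK T.hyp.centralizer_le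

theorem hab : ∀ a ∈ K, ∀ b ∈ K, a * b = b * a := by
  haveI : Fact p.Prime := ⟨T.hyp.prime⟩
  exact prime_ab K T.hyp.cardK

theorem hTI : ∀ g : G, g ∉ NK → ∀ k ∈ K, g * k * g⁻¹ ∈ K → k = 1 := by
  haveI : Fact p.Prime := ⟨T.hyp.prime⟩
  exact prime_TI K T.hyp.cardK

theorem eta_off (η : Rel K) (n : ↥NK) (hn : (n : G) ∉ K) : (η.1 : ↥NK → ℂ) n = 0 :=
  (rel_data K T.hC T.hab _ η.1.2 η.2).1 n hn

theorem eta_one (η : Rel K) : (η.1 : ↥NK → ℂ) 1 = 2 := by
  rw [(rel_data K T.hC T.hab _ η.1.2 η.2).2, T.hyp.index_eq]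
  norm_num

theorem phi_off (η : Rel K) (n : ↥NK) (hn : (n : G) ∉ K) : phi η n = 0 := by
  unfold phi
  rw [indK_not_mem hn, T.eta_off η n hn]
  ring

theorem phi_one (η : Rel K) : phi η 1 = 0 := by
  unfold phi
  rw [indK_mem (by simpa using K.one_mem), T.eta_one]
  ring

theorem phi_isClassFunction (η : Rel K) : Cfsg.IsClassFunction ↥NK (phi η) := by
  intro n m
  unfold phi
  rw [indK_isClassFunction n m,
    IsCharacter.isClassFunction (IsIrrCharacter.isCharacter η.1.2) n m]

theorem Delta_eq_phi (η : Rel K) (n : ↥NK) (hn : (n : G) ∈ K) : T.Delta η (n : G) = phi η n := by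
  unfold Delta phi
  rw [indK_mem hn]
  by_cases hn1 : n = 1
  · subst hn1
    rw [Subgroup.coe_one, T.deg, T.hyp.theta_one, T.eta_one]
    ring
  · have hn1' : (n : G) ≠ 1 := fun h => hn1 (Subtype.ext h)
    rw [T.val η n hn hn1, T.hyp.theta_apply _ hn hn1']
    ring

theorem Delta_isClassFunction (η : Rel K) : Cfsg.IsClassFunction G (T.Delta η) := by
  intro g x
  unfold Delta
  rw [IsCharacter.isClassFunction (IsIrrCharacter.isCharacter (T.Λ η).2) g x,
    IsCharacter.isClassFunction (IsIrrCharacter.isCharacter T.hyp.theta_irr) g x]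


theorem classInner_indK_indK [Fintype ↥NK] : Cfsg.classInner (indK K) (indK K) = 1 / 2 := by
  classical
  rw [classInner_def]
  have h1 : ∀ n : ↥NK, indK K n * conj (indK K n) = if n ∈ K.subgroupOf NK then 1 else 0 := by
    intro n
    by_cases hn : (n : G) ∈ K
    · rw [indK_mem hn, if_pos (Subgroup.mem_subgroupOf.mpr hn)]
      simp
    · rw [indK_not_mem hn, if_neg (fun h => hn (Subgroup.mem_subgroupOf.mp h))]
      simp
  rw [Finset.sum_congr rfl (fun n _ => h1 n), Finset.sum_boole]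
  have h2 : (Finset.univ.filter (fun n : ↥NK => n ∈ K.subgroupOf NK)).card = p := by
    rw [← T.hyp.cardK, ← card_subgroupOf_normalizer, Nat.card_eq_fintype_card,
      Fintype.card_subtype]
  rw [h2, T.hyp.cardN]
  have hp0 : (p : ℂ) ≠ 0 := by
    have := T.hyp.prime.pos
    exact_mod_cast this.ne'
  push_cast
  field_simp

theorem classInner_eta_indK [Fintype ↥NK] (η : Rel K) : Cfsg.classInner (η.1 : ↥NK → ℂ) (indK K) = 0 := by
  have h1 : Cfsg.classInner (η.1 : ↥NK → ℂ) (indK K) =
      Cfsg.classInner (η.1 : ↥NK → ℂ) (fun _ => (1 : ℂ)) := by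
    rw [classInner_def, classInner_def]
    congr 1
    apply Finset.sum_congr rfl
    intro n _
    by_cases hn : (n : G) ∈ K
    · rw [indK_mem hn]
    · rw [T.eta_off η n hn, zero_mul, zero_mul]
  rw [h1]
  apply classInner_irr_ne η.1.2 isIrrCharacter_one
  intro h2
  have h3 := congrFun h2 1
  rw [T.eta_one] at h3
  norm_num at h3

theorem phi_norm [Fintype ↥NK] (η : Rel K) : Cfsg.classInner (phi η) (phi η) = 3 := by
  have h1 : phi η = (2 : ℂ) • indK K - (η.1 : ↥NK → ℂ) := by
    ext n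
    simp [phi]
  have h2 := T.classInner_eta_indK η
  have h3 : Cfsg.classInner (indK K) (η.1 : ↥NK → ℂ) = 0 := by
    rw [classInner_conj_symm (η.1 : ↥NK → ℂ) (indK K), h2, map_zero]
  rw [h1, classInner_sub_left, classInner_sub_right, classInner_sub_right, classInner_smul_left,
    classInner_smul_left, classInner_smul_right, classInner_smul_right, T.classInner_indK_indK,
    h2, h3, classInner_irr_self η.1.2]
  have : (starRingEnd ℂ) 2 = 2 := map_ofNat _ 2
  rw [this]
  norm_num

/-- `Delta η` is induced from `phi η` -/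
theorem Delta_eq_indFun [Fintype ↥NK] (η : Rel K) : T.Delta η = Cfsg.indFun NK (phi η) := by
  have hX := T.phi_norm η
  have hcf := T.Delta_isClassFunction η
  -- `⟨ind φ, Δ⟩ = 3`
  have h1 : Cfsg.classInner (Cfsg.indFun NK (phi η)) (T.Delta η) = 3 := by
    rw [frobenius_reciprocity _ _ _ hcf, ← hX, classInner_def, classInner_def]
    congr 1
    apply Finset.sum_congr rfl
    intro n _
    by_cases hn : (n : G) ∈ K
    · rw [T.Delta_eq_phi η n hn]
    · rw [T.phi_off η n hn, zero_mul, zero_mul]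
  -- `⟨ind φ, ind φ⟩ = 3`
  have h2 : Cfsg.classInner (Cfsg.indFun NK (phi η)) (Cfsg.indFun NK (phi η)) = 3 := by
    rw [frobenius_reciprocity _ _ _ (indFun_isClassFunction _ _), ← hX]
    congr 1
    ext n
    exact tifrob_indFun_restrict K T.hTI T.hC (phi η) (T.phi_isClassFunction η)
      (T.phi_off η) (T.phi_one η) n
  -- `⟨Δ, Δ⟩ = 3`
  have h3 : Cfsg.classInner (T.Delta η) (T.Delta η) = 3 := by
    have e1 : T.Delta η = (T.Λ η : G → ℂ) - theta G Ω + fun _ => (1 : ℂ) := by
      ext g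
      simp [Delta]
    have hΛ := (T.Λ η).2
    have hθ := T.hyp.theta_irr
    have h1' := isIrrCharacter_one (G := G)
    rw [e1]
    simp only [classInner_add_left, classInner_add_right, classInner_sub_left,
      classInner_sub_right]
    rw [classInner_irr_self hΛ, classInner_irr_self hθ, classInner_irr_self h1',
      classInner_irr_ne hΛ hθ (T.ne_theta η), classInner_irr_ne hθ hΛ (fun h => T.ne_theta η h.symm),
      classInner_irr_ne hΛ h1' (T.ne_one η), classInner_irr_ne h1' hΛ (fun h => T.ne_one η h.symm),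
      classInner_irr_ne hθ h1' T.hyp.theta_ne_one,
      classInner_irr_ne h1' hθ (fun h => T.hyp.theta_ne_one h.symm)]
    norm_num
  have h4 : Cfsg.classInner (T.Delta η) (Cfsg.indFun NK (phi η)) = 3 := by
    rw [classInner_conj_symm (Cfsg.indFun NK (phi η)) (T.Delta η), h1]
    exact map_ofNat _ 3
  have h5 : Cfsg.classInner (T.Delta η - Cfsg.indFun NK (phi η))
      (T.Delta η - Cfsg.indFun NK (phi η)) = 0 := by
    rw [classInner_sub_left, classInner_sub_right, classInner_sub_right, h1, h2, h3, h4]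
    norm_num
  have h6 := classInner_self_eq_zero h5
  exact sub_eq_zero.mp h6

/-- the exceptional characters on elements with a fixed point -/
theorem Lambda_apply (η : Rel K) (g : G) (a : Ω) (ha : g • a = a) :
    (T.Λ η : G → ℂ) g = pi G Ω g - 2 := by
  haveI : Fintype ↥NK := Fintype.ofFinite _
  haveI := T.hyp.faithful
  haveI : Fact p.Prime := ⟨T.hyp.prime⟩
  obtain ⟨hreg, -⟩ := regular_of_card K T.hyp.cardK T.hyp.cardΩ
  have h1 : T.Delta η g = 0 := by
    rw [T.Delta_eq_indFun η, indFun_apply]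
    rw [Finset.sum_eq_zero, mul_zero]
    intro x _
    by_cases hx : x⁻¹ * g * x ∈ NK
    · rw [extendByZero_mem _ _ hx]
      by_cases hxK : x⁻¹ * g * x ∈ K
      · by_cases hx1 : x⁻¹ * g * x = 1
        · have : (⟨x⁻¹ * g * x, hx⟩ : ↥NK) = 1 := Subtype.ext hx1
          rw [this, T.phi_one]
        · exfalso
          apply hreg _ hxK hx1 (x⁻¹ • a)
          rw [← mul_smul]
          have : x⁻¹ * g * x * x⁻¹ = x⁻¹ * g := by group
          rw [this, mul_smul, ha]
      · exact T.phi_off η ⟨_, hx⟩ hxK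
    · exact extendByZero_not_mem _ _ hx
  unfold Delta at h1
  have h2 : pi G Ω g = theta G Ω g + 1 := by
    simp [pi, theta]
  rw [h2]
  linear_combination h1

end Tab

end Cfsg.Agent.Helper2.PrimeTwo
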