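import Mathlib
import Cfsg.Agent.Helper2.PrimeTwoD
import Cfsg.Agent.Helper6.ZasChM

/-!
# Permutation groups of prime degree with Sylow normalizer of order `2p`: involutions
Every involution has at most one fixed point.
-/

set_option autoImplicit false
set_option linter.style.haveILetI false

namespace Cfsg.Agent.Helper2.PrimeTwo

open MulAction Cfsg.Agent.Helper6 Cfsg.Agent.Helper2.BrTI
open scoped ComplexConjugate

universe u v

variable {G : Type u} [Group G] [Fintype G] {Ω : Type v} [MulAction G Ω] [Fintype Ω]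
variable {p : ℕ} {K : Subgroup G}

local notation "NK" => Subgroup.normalizer (K : Set G)

namespace Tab

variable (T : Tab G Ω p K)
include T

/-- splitting a sum over the irreducible characters along the table -/
theorem sum_split [Fintype (Rel K)] [Fintype (Cfsg.IrrCharacter G)]
    (F : Cfsg.IrrCharacter G → ℂ)
    (hF : ∀ χ : Cfsg.IrrCharacter G, (χ : G → ℂ) ≠ (fun _ => 1) → (χ : G → ℂ) ≠ theta G Ω →
      (∀ η, T.Λ η ≠ χ) → F χ = 0) :
    ∑ χ, F χ = F ⟨fun _ => 1, isIrrCharacter_one⟩ + F ⟨theta G Ω, T.hyp.theta_irr⟩ +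
      ∑ η : Rel K, F (T.Λ η) := by
  classical
  set triv : Cfsg.IrrCharacter G := ⟨fun _ => 1, isIrrCharacter_one⟩ with htriv
  set θi : Cfsg.IrrCharacter G := ⟨theta G Ω, T.hyp.theta_irr⟩ with hθi
  set S : Finset (Cfsg.IrrCharacter G) := Finset.univ.image T.Λ with hS
  rw [← Finset.sum_add_sum_compl S F, hS, Finset.sum_image (fun a _ b _ h => T.inj h), ← hS,
    add_comm]
  congr 1
  have hne : triv ≠ θi := fun h => T.hyp.theta_ne_one (congrArg Subtype.val h).symm
  have htS : triv ∈ Sᶜ := by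
    rw [Finset.mem_compl, hS, Finset.mem_image]
    rintro ⟨η, -, h⟩
    exact T.ne_one η (congrArg Subtype.val h)
  have hθS : θi ∈ Sᶜ := by
    rw [Finset.mem_compl, hS, Finset.mem_image]
    rintro ⟨η, -, h⟩
    exact T.ne_theta η (congrArg Subtype.val h)
  apply Finset.sum_eq_add triv θi hne
  · intro χ hχ hχ2
    apply hF χ
    · intro h
      exact hχ2.1 (Subtype.ext h)
    · intro h
      exact hχ2.2 (Subtype.ext h)
    · intro η h
      rw [Finset.mem_compl, hS, Finset.mem_image] at hχ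
      exact hχ ⟨η, Finset.mem_univ _, h⟩
  · intro h; exact absurd htS h
  · intro h; exact absurd hθS h

/-- the number of relevant characters -/
theorem card_rel : 2 * Nat.card (Rel K) + 1 = p := by
  classical
  haveI : Fintype ↥NK := Fintype.ofFinite _
  haveI : Finite (Cfsg.IrrCharacter ↥NK) := irr_finite
  haveI : Fintype (Cfsg.IrrCharacter ↥NK) := Fintype.ofFinite _
  haveI : Fintype (Rel K) := Fintype.ofFinite _
  obtain ⟨k₀, hk₀K, hk₀1⟩ : ∃ k₀ : ↥NK, (k₀ : G) ∈ K ∧ k₀ ≠ 1 := by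
    have h1 : 1 < Nat.card (K.subgroupOf NK) := by
      rw [card_subgroupOf_normalizer, T.hyp.cardK]; exact T.hyp.prime.one_lt
    haveI : Nontrivial (K.subgroupOf NK) := (Finite.one_lt_card_iff_nontrivial).mp h1
    obtain ⟨k, hk⟩ := exists_ne (1 : K.subgroupOf NK)
    exact ⟨k.1, Subgroup.mem_subgroupOf.mp k.2, fun h => hk (Subtype.ext h)⟩
  obtain ⟨-, -, hcard⟩ := nside K T.hC T.hab k₀ hk₀K hk₀1
  rw [T.hyp.index_eq, T.hyp.cardK] at hcard
  omega

/-- the sum of the relevant characters at a nonidentity element of `K` -/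
theorem sum_rel [Fintype (Rel K)] (k : ↥NK) (hk : (k : G) ∈ K) (hk1 : k ≠ 1) :
    ∑ η : Rel K, (η.1 : ↥NK → ℂ) k = -1 := by
  classical
  haveI : Fintype ↥NK := Fintype.ofFinite _
  haveI : Finite (Cfsg.IrrCharacter ↥NK) := irr_finite
  haveI : Fintype (Cfsg.IrrCharacter ↥NK) := Fintype.ofFinite _
  have h := (nside K T.hC T.hab k hk hk1).1
  convert h using 2

/-- every involution has at most one fixed point -/
theorem involution_fixed (z : G) (hz2 : z * z = 1) (hz1 : z ≠ 1) (a b : Ω) (ha : z • a = a)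
    (hb : z • b = b) : a = b := by
  classical
  by_contra hab
  haveI := T.hyp.faithful
  haveI : Fact p.Prime := ⟨T.hyp.prime⟩
  haveI : Fintype ↥NK := Fintype.ofFinite _
  haveI : Finite (Cfsg.IrrCharacter ↥NK) := irr_finite
  haveI : Fintype (Rel K) := Fintype.ofFinite _
  haveI : Finite (Cfsg.IrrCharacter G) := irr_finite
  haveI : Fintype (Cfsg.IrrCharacter G) := Fintype.ofFinite _
  obtain ⟨k, hkK, hk1⟩ : ∃ k : ↥NK, (k : G) ∈ K ∧ k ≠ 1 := by
    have h1 : 1 < Nat.card (K.subgroupOf NK) := by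
      rw [card_subgroupOf_normalizer, T.hyp.cardK]; exact T.hyp.prime.one_lt
    haveI : Nontrivial (K.subgroupOf NK) := (Finite.one_lt_card_iff_nontrivial).mp h1
    obtain ⟨k, hk⟩ := exists_ne (1 : K.subgroupOf NK)
    exact ⟨k.1, Subgroup.mem_subgroupOf.mp k.2, fun h => hk (Subtype.ext h)⟩
  have hk1' : (k : G) ≠ 1 := fun h => hk1 (Subtype.ext h)
  have hzero := sum_irr_sq_mul_conj_eq_zero z (k : G)
    (fun x y hx hy => no_product T.hyp.ne_two K T.hyp.cardK T.hyp.cardΩ z hz2 hz1 a b hab ha hb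
      (k : G) hkK hk1' x y hx hy)
  rw [T.sum_split _ (by
    intro χ h1 h2 h3
    rw [T.rest χ h1 h2 h3 k hkK hk1, map_zero, mul_zero, zero_div])] at hzero
  simp only at hzero
  have hΛ : ∀ η : Rel K, (T.Λ η : G → ℂ) z * (T.Λ η : G → ℂ) z *
      conj ((T.Λ η : G → ℂ) (k : G)) / (T.Λ η : G → ℂ) 1 =
      (pi G Ω z - 2) ^ 2 / ((p : ℂ) - 2) * (-conj ((η.1 : ↥NK → ℂ) k)) := by
    intro η
    rw [T.Lambda_apply η z a ha, T.val η k hkK hk1, T.deg η, map_neg]
    ring
  rw [Finset.sum_congr rfl (fun η _ => hΛ η), ← Finset.mul_sum, Finset.sum_neg_distrib,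
    ← map_sum, T.sum_rel k hkK hk1, T.hyp.theta_apply _ hkK hk1', T.hyp.theta_one] at hzero
  have hθz : theta G Ω z = pi G Ω z - 1 := by simp [pi, theta]
  rw [hθz] at hzero
  have hp7 : (7 : ℝ) < p := by exact_mod_cast T.hyp.big
  have hp1 : (p : ℂ) - 1 ≠ 0 := by
    intro h
    have h2 : (p : ℂ) = 1 := by linear_combination h
    have h3 : p = 1 := by exact_mod_cast h2
    have := T.hyp.big
    omega
  have hp2 : (p : ℂ) - 2 ≠ 0 := by
    intro h
    have h2 : (p : ℂ) = 2 := by linear_combination h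
    have h3 : p = 2 := by exact_mod_cast h2
    exact T.hyp.ne_two h3
  have hsq : (pi G Ω z - p) ^ 2 = 0 := by
    have h1 : (1 : ℂ) * 1 * conj (1 : ℂ) / 1 +
        (pi G Ω z - 1) * (pi G Ω z - 1) * conj (-1 : ℂ) / ((p : ℂ) - 1) +
        (pi G Ω z - 2) ^ 2 / ((p : ℂ) - 2) * -conj (-1 : ℂ) = 0 := hzero
    simp only [map_one, map_neg] at h1
    field_simp at h1
    linear_combination h1
  have hf : pi G Ω z = p := by
    have := pow_eq_zero_iff (two_ne_zero) |>.mp hsq
    linear_combination this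
  have hcard : Nat.card (fixedBy Ω z) = Fintype.card Ω := by
    rw [T.hyp.cardΩ]
    unfold pi at hf
    exact_mod_cast hf
  apply hz1
  apply FaithfulSMul.eq_of_smul_eq_smul (α := Ω)
  intro c
  rw [one_smul]
  have huniv : (fixedBy Ω z) = Set.univ := by
    rw [Set.eq_univ_iff_ncard, ← Nat.card_coe_set_eq, hcard, Nat.card_eq_fintype_card]
  have : c ∈ fixedBy Ω z := by rw [huniv]; exact Set.mem_univ c
  exact this

end Tab

end Cfsg.Agent.Helper2.PrimeTwo
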