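import Mathlib
import Cfsg.Agent.Helper2.PrimeTwoE
import Cfsg.Agent.Helper4.PermCharOrbits
import Cfsg.Agent.Helper6.ZasChE

/-!
# Permutation groups of prime degree with Sylow normalizer of order `2p`: counting orbits
-/

set_option autoImplicit false
set_option linter.style.haveILetI false

namespace Cfsg.Agent.Helper2.PrimeTwo

open MulAction Cfsg.Agent.Helper6 Cfsg.Agent.Helper2.BrTI
open scoped ComplexConjugate

universe u v

variable {G : Type u} [Group G] {Ω : Type v} [MulAction G Ω]

/-- the embeddings fixed by `g` are the embeddings into the fixed points of `g` -/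
theorem card_fixedBy_emb [Fintype Ω] (g : G) (k : ℕ) :
    Nat.card (fixedBy (Fin k ↪ Ω) g) = (Nat.card (fixedBy Ω g)).descFactorial k := by
  classical
  rw [Nat.card_eq_fintype_card (α := fixedBy Ω g), ← Fintype.card_fin k,
    ← Fintype.card_embedding_eq, Fintype.card_fin, ← Nat.card_eq_fintype_card]
  apply Nat.card_congr
  exact
    { toFun := fun f => ⟨fun i => ⟨f.1 i, by
          have h1 : g • f.1 = f.1 := f.2
          have h2 := DFunLike.congr_fun h1 i
          rwa [Function.Embedding.smul_apply] at h2⟩,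
        fun i j hij => f.1.injective (congrArg Subtype.val hij)⟩
      invFun := fun f => ⟨⟨fun i => (f i).1, fun i j hij => f.injective (Subtype.ext hij)⟩, by
          rw [mem_fixedBy]
          ext i
          rw [Function.Embedding.smul_apply]
          exact (f i).2⟩
      left_inv := fun f => by
        apply Subtype.ext
        ext i
        rfl
      right_inv := fun f => by
        ext i
        rfl }

theorem cast_descFactorial_three (n : ℕ) :
    ((n.descFactorial 3 : ℕ) : ℂ) = (n : ℂ) * ((n : ℂ) - 1) * ((n : ℂ) - 2) := by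
  rcases n with _ | _ | n
  · simp
  · simp [Nat.descFactorial]
  · simp only [Nat.descFactorial_succ, Nat.descFactorial_zero]
    have h1 : n + 1 + 1 - 2 = n := by omega
    have h2 : n + 1 + 1 - 1 = n + 1 := by omega
    have h3 : n + 1 + 1 - 0 = n + 2 := by omega
    rw [h1, h2, h3]
    push_cast
    ring

theorem cast_descFactorial_two (n : ℕ) :
    ((n.descFactorial 2 : ℕ) : ℂ) = (n : ℂ) * ((n : ℂ) - 1) := by
  rcases n with _ | n
  · simp
  · simp only [Nat.descFactorial_succ, Nat.descFactorial_zero]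
    have h2 : n + 1 - 1 = n := by omega
    have h3 : n + 1 - 0 = n + 1 := by omega
    rw [h2, h3]
    push_cast
    ring

theorem cast_descFactorial_one (n : ℕ) : ((n.descFactorial 1 : ℕ) : ℂ) = (n : ℂ) := by
  simp

/-- Burnside's lemma for a multiply transitive action -/
theorem sum_descFactorial [Fintype G] [Fintype Ω] (k : ℕ) [IsMultiplyPretransitive G Ω k]
    (hk : k ≤ Fintype.card Ω) :
    ∑ g : G, (((Nat.card (fixedBy Ω g)).descFactorial k : ℕ) : ℂ) = (Nat.card G : ℂ) := by
  classical
  have h1 := Cfsg.Agent.Helper4.classInner_one_permChar (K := G) (Fin k ↪ Ω)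
  have h2 : Nat.card (orbitRel.Quotient G (Fin k ↪ Ω)) = 1 := by
    haveI : Nonempty (Fin k ↪ Ω) := by
      rw [Function.Embedding.nonempty_iff_card_le, Fintype.card_fin]
      exact hk
    haveI : IsPretransitive G (Fin k ↪ Ω) := inferInstance
    rw [Nat.card_eq_one_iff_unique]
    refine ⟨?_, ⟨Quotient.mk'' (Classical.arbitrary _)⟩⟩
    constructor
    intro x y
    induction x using Quotient.inductionOn' with
    | _ x =>
      induction y using Quotient.inductionOn' with
      | _ y =>
        rw [Quotient.eq'']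
        exact MulAction.exists_smul_eq G y x
  rw [h2, classInner_def] at h1
  have hG : (Nat.card G : ℂ) ≠ 0 := by
    have : 0 < Nat.card G := Nat.card_pos
    exact_mod_cast this.ne'
  have h3 : ∑ g : G, (1 : ℂ) * conj ((Nat.card (fixedBy (Fin k ↪ Ω) g) : ℂ)) =
      ∑ g : G, (((Nat.card (fixedBy Ω g)).descFactorial k : ℕ) : ℂ) := by
    apply Finset.sum_congr rfl
    intro g _
    rw [one_mul, Complex.conj_natCast, card_fixedBy_emb]
  rw [h3] at h1
  have h4 : ∑ g : G, (((Nat.card (fixedBy Ω g)).descFactorial k : ℕ) : ℂ) =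
      (Nat.card G : ℂ) * ((Nat.card G : ℂ)⁻¹ *
        ∑ g : G, (((Nat.card (fixedBy Ω g)).descFactorial k : ℕ) : ℂ)) := by
    field_simp
  rw [h4, h1]
  simp


section sums

variable [Fintype G] [Fintype Ω] {p : ℕ} {K : Subgroup G}

local notation "NK" => Subgroup.normalizer (K : Set G)

/-- the square of `theta` -/
noncomputable def theta2 (G : Type u) [Group G] (Ω : Type v) [MulAction G Ω] : G → ℂ :=
  fun g => theta G Ω g * theta G Ω g

theorem conj_pi (g : G) : conj (pi G Ω g) = pi G Ω g := by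
  unfold pi
  rw [Complex.conj_natCast]

theorem conj_theta (g : G) : conj (theta G Ω g) = theta G Ω g := by
  unfold theta
  rw [map_sub, Complex.conj_natCast, map_one]

theorem theta_eq_pi (g : G) : theta G Ω g = pi G Ω g - 1 := rfl

theorem conj_theta2 (g : G) : conj (theta2 G Ω g) = theta2 G Ω g := by
  unfold theta2
  rw [map_mul, conj_theta]

namespace Hyp

variable (h : Hyp G Ω p K)
include h

theorem sum_pi1 : ∑ g : G, pi G Ω g = (Nat.card G : ℂ) := by
  haveI : IsMultiplyPretransitive G Ω 1 :=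
    (is_one_pretransitive_iff (G := G) (α := Ω)).mpr h.trans1
  have h1 := sum_descFactorial (G := G) (Ω := Ω) 1 (by rw [h.cardΩ]; have := h.big; omega)
  rw [← h1]
  apply Finset.sum_congr rfl
  intro g _
  rw [cast_descFactorial_one]
  rfl

theorem sum_pi2 : ∑ g : G, pi G Ω g * (pi G Ω g - 1) = (Nat.card G : ℂ) := by
  haveI := h.trans2
  have h1 := sum_descFactorial (G := G) (Ω := Ω) 2 (by rw [h.cardΩ]; have := h.big; omega)
  rw [← h1]
  apply Finset.sum_congr rfl
  intro g _
  rw [cast_descFactorial_two]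
  rfl

theorem sum_pi3 : ∑ g : G, pi G Ω g * (pi G Ω g - 1) * (pi G Ω g - 2) = (Nat.card G : ℂ) := by
  haveI := h.trans3
  have h1 := sum_descFactorial (G := G) (Ω := Ω) 3 (by rw [h.cardΩ]; have := h.big; omega)
  rw [← h1]
  apply Finset.sum_congr rfl
  intro g _
  rw [cast_descFactorial_three]
  rfl

theorem card_ne_zero : (Nat.card G : ℂ) ≠ 0 := by
  have : 0 < Nat.card G := Nat.card_pos
  exact_mod_cast this.ne'

theorem classInner_theta2_one : Cfsg.classInner (theta2 G Ω) (fun _ => (1 : ℂ)) = 1 := by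
  rw [classInner_def]
  have h1 : ∑ g : G, theta2 G Ω g * conj ((fun _ => (1 : ℂ)) g) =
      ∑ g : G, pi G Ω g * (pi G Ω g - 1) - ∑ g : G, pi G Ω g + ∑ _g : G, (1 : ℂ) := by
    rw [← Finset.sum_sub_distrib, ← Finset.sum_add_distrib]
    apply Finset.sum_congr rfl
    intro g _
    simp only [theta2, theta_eq_pi, map_one]
    ring
  rw [h1, h.sum_pi1, h.sum_pi2, Finset.sum_const, Finset.card_univ, nsmul_eq_mul, mul_one,
    ← Nat.card_eq_fintype_card]
  have := h.card_ne_zero
  field_simp
  ring

theorem classInner_theta2_theta : Cfsg.classInner (theta2 G Ω) (theta G Ω) = 1 := by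
  rw [classInner_def]
  have h1 : ∑ g : G, theta2 G Ω g * conj (theta G Ω g) =
      ∑ g : G, pi G Ω g * (pi G Ω g - 1) * (pi G Ω g - 2) + ∑ g : G, pi G Ω g -
        ∑ _g : G, (1 : ℂ) := by
    rw [← Finset.sum_add_distrib, ← Finset.sum_sub_distrib]
    apply Finset.sum_congr rfl
    intro g _
    rw [conj_theta]
    simp only [theta2, theta_eq_pi]
    ring
  rw [h1, h.sum_pi1, h.sum_pi3, Finset.sum_const, Finset.card_univ, nsmul_eq_mul, mul_one,
    ← Nat.card_eq_fintype_card]
  have := h.card_ne_zero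
  field_simp
  ring

/-- the norm of `theta2` in terms of the fixed point counts -/
theorem classInner_theta2_self : Cfsg.classInner (theta2 G Ω) (theta2 G Ω) =
    (Nat.card G : ℂ)⁻¹ *
      ∑ g : G, pi G Ω g * (pi G Ω g - 1) * (pi G Ω g - 2) * conj (pi G Ω g) := by
  rw [classInner_def]
  congr 1
  have h1 : ∑ g : G, theta2 G Ω g * conj (theta2 G Ω g) =
      ∑ g : G, pi G Ω g * (pi G Ω g - 1) * (pi G Ω g - 2) * conj (pi G Ω g) +
        (-(∑ g : G, pi G Ω g * (pi G Ω g - 1) * (pi G Ω g - 2)) +
          ∑ g : G, pi G Ω g * (pi G Ω g - 1) - ∑ g : G, pi G Ω g + ∑ _g : G, (1 : ℂ)) := by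
    rw [← Finset.sum_neg_distrib, ← Finset.sum_add_distrib, ← Finset.sum_sub_distrib,
      ← Finset.sum_add_distrib, ← Finset.sum_add_distrib]
    apply Finset.sum_congr rfl
    intro g _
    rw [conj_theta2, conj_pi]
    simp only [theta2, theta_eq_pi]
    ring
  rw [h1, h.sum_pi1, h.sum_pi2, h.sum_pi3, Finset.sum_const, Finset.card_univ, nsmul_eq_mul,
    mul_one, ← Nat.card_eq_fintype_card]
  ring

end Hyp


theorem theta2_isClassFunction (h : Hyp G Ω p K) : Cfsg.IsClassFunction G (theta2 G Ω) := by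
  intro g x
  unfold theta2
  rw [IsCharacter.isClassFunction (IsIrrCharacter.isCharacter h.theta_irr) g x]

theorem pi_isClassFunction (h : Hyp G Ω p K) : Cfsg.IsClassFunction G (pi G Ω) := by
  intro g x
  rw [theta_eq_pi_add, theta_eq_pi_add]
  rw [IsCharacter.isClassFunction (IsIrrCharacter.isCharacter h.theta_irr) g x]
where
  theta_eq_pi_add (g : G) : pi G Ω g = theta G Ω g + 1 := by simp [pi, theta]

namespace Tab

variable (T : Tab G Ω p K)
include T

theorem classInner_eta_one [Fintype ↥NK] (η : Rel K) :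
    Cfsg.classInner (η.1 : ↥NK → ℂ) (fun _ => (1 : ℂ)) = 0 := by
  apply classInner_irr_ne η.1.2 isIrrCharacter_one
  intro h2
  have h3 := congrFun h2 1
  rw [T.eta_one] at h3
  norm_num at h3

theorem classInner_indK_one [Fintype ↥NK] :
    Cfsg.classInner (indK K) (fun _ : ↥NK => (1 : ℂ)) = 1 / 2 := by
  rw [← T.classInner_indK_indK, classInner_def, classInner_def]
  congr 1
  apply Finset.sum_congr rfl
  intro n _
  by_cases hn : (n : G) ∈ K
  · rw [indK_mem hn]
  · rw [indK_not_mem hn, zero_mul, zero_mul]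

theorem classInner_phi_one [Fintype ↥NK] (η : Rel K) :
    Cfsg.classInner (phi η) (fun _ : ↥NK => (1 : ℂ)) = 1 := by
  have h1 : phi η = (2 : ℂ) • indK K - (η.1 : ↥NK → ℂ) := by
    ext n
    simp [phi]
  rw [h1, classInner_sub_left, classInner_smul_left, T.classInner_indK_one,
    T.classInner_eta_one]
  norm_num

theorem classInner_theta2_Lambda (η : Rel K) :
    Cfsg.classInner (theta2 G Ω) (T.Λ η : G → ℂ) = 1 := by
  haveI : Fintype ↥NK := Fintype.ofFinite _
  have e1 : (T.Λ η : G → ℂ) = theta G Ω - (fun _ => (1 : ℂ)) + T.Delta η := by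
    ext g
    simp [Delta]
  have h1 : Cfsg.classInner (Cfsg.indFun NK (phi η)) (theta2 G Ω) = 1 := by
    rw [frobenius_reciprocity _ _ _ (theta2_isClassFunction T.hyp), ← T.classInner_phi_one η,
      classInner_def, classInner_def]
    congr 1
    apply Finset.sum_congr rfl
    intro n _
    by_cases hn : (n : G) ∈ K
    · by_cases hn1 : n = 1
      · rw [hn1, T.phi_one, zero_mul, zero_mul]
      · have hn1' : (n : G) ≠ 1 := fun h => hn1 (Subtype.ext h)
        unfold theta2
        rw [T.hyp.theta_apply _ hn hn1']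
        norm_num
    · rw [T.phi_off η n hn, zero_mul, zero_mul]
  have h2 : Cfsg.classInner (theta2 G Ω) (T.Delta η) = 1 := by
    rw [T.Delta_eq_indFun η, classInner_conj_symm (Cfsg.indFun NK (phi η)) (theta2 G Ω), h1,
      map_one]
  rw [e1, classInner_add_right, classInner_sub_right, T.hyp.classInner_theta2_theta,
    T.hyp.classInner_theta2_one, h2]
  ring

/-- the number of orbits of a three point stabilizer is the norm of `theta2` -/
theorem card_orbits_eq (x₀ : Fin 3 ↪ Ω) :
    (Nat.card (orbitRel.Quotient (stabilizer G x₀) Ω) : ℂ) =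
      Cfsg.classInner (theta2 G Ω) (theta2 G Ω) := by
  classical
  haveI : Fintype ↥(stabilizer G x₀) := Fintype.ofFinite _
  haveI := T.hyp.trans3
  haveI : IsPretransitive G (Fin 3 ↪ Ω) := inferInstance
  rw [← Cfsg.Agent.Helper4.classInner_one_permChar (K := ↥(stabilizer G x₀)) Ω]
  have h1 : (fun t : ↥(stabilizer G x₀) => (Nat.card (fixedBy Ω t) : ℂ)) =
      fun t : ↥(stabilizer G x₀) => pi G Ω (t : G) := by
    ext t
    unfold pi
    congr 1
  rw [h1, ← frobenius_reciprocity _ _ _ (pi_isClassFunction T.hyp),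
    ← permChar_eq_indFun (Fin 3 ↪ Ω) x₀, T.hyp.classInner_theta2_self, classInner_def]
  congr 1
  apply Finset.sum_congr rfl
  intro g _
  rw [card_fixedBy_emb, cast_descFactorial_three]
  rfl


/-- a three point stabilizer has many orbits -/
theorem card_orbits_ge (x₀ : Fin 3 ↪ Ω) :
    2 + Nat.card (Rel K) ≤ Nat.card (orbitRel.Quotient (stabilizer G x₀) Ω) := by
  classical
  haveI : Fintype ↥NK := Fintype.ofFinite _
  haveI : Finite (Cfsg.IrrCharacter ↥NK) := irr_finite
  haveI : Fintype (Rel K) := Fintype.ofFinite _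
  haveI : Finite (Cfsg.IrrCharacter G) := irr_finite
  haveI : Fintype (Cfsg.IrrCharacter G) := Fintype.ofFinite _
  have h1 := T.card_orbits_eq x₀
  rw [classInner_self_eq_sum_irr _ (theta2_isClassFunction T.hyp)] at h1
  set c : Cfsg.IrrCharacter G → ℂ := fun Ξ => Cfsg.classInner (theta2 G Ω) (Ξ : G → ℂ) with hc
  have h2 : ∀ Ξ : Cfsg.IrrCharacter G, c Ξ * conj (c Ξ) = ((Complex.normSq (c Ξ) : ℝ) : ℂ) :=
    fun Ξ => Complex.mul_conj (c Ξ)
  rw [Finset.sum_congr rfl (fun Ξ _ => h2 Ξ), ← Complex.ofReal_sum] at h1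
  have h3 : ((Nat.card (orbitRel.Quotient (stabilizer G x₀) Ω) : ℕ) : ℝ) =
      ∑ Ξ : Cfsg.IrrCharacter G, Complex.normSq (c Ξ) := by
    have : (((Nat.card (orbitRel.Quotient (stabilizer G x₀) Ω) : ℕ) : ℝ) : ℂ) =
        ((∑ Ξ : Cfsg.IrrCharacter G, Complex.normSq (c Ξ) : ℝ) : ℂ) := by
      rw [← h1]
      simp
    exact_mod_cast this
  set triv : Cfsg.IrrCharacter G := ⟨fun _ => 1, isIrrCharacter_one⟩ with htriv
  set θi : Cfsg.IrrCharacter G := ⟨theta G Ω, T.hyp.theta_irr⟩ with hθi
  set S : Finset (Cfsg.IrrCharacter G) := Finset.univ.image T.Λ with hS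
  have hne : triv ≠ θi := fun h => T.hyp.theta_ne_one (congrArg Subtype.val h).symm
  have htS : triv ∉ S := by
    rw [hS, Finset.mem_image]
    rintro ⟨η, -, h⟩
    exact T.ne_one η (congrArg Subtype.val h)
  have hθS : θi ∉ S := by
    rw [hS, Finset.mem_image]
    rintro ⟨η, -, h⟩
    exact T.ne_theta η (congrArg Subtype.val h)
  have h4 : ∑ Ξ ∈ insert triv (insert θi S), Complex.normSq (c Ξ) ≤
      ∑ Ξ : Cfsg.IrrCharacter G, Complex.normSq (c Ξ) :=
    Finset.sum_le_sum_of_subset_of_nonneg (Finset.subset_univ _)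
      (fun i _ _ => Complex.normSq_nonneg _)
  have hct : c triv = 1 := T.hyp.classInner_theta2_one
  have hcθ : c θi = 1 := T.hyp.classInner_theta2_theta
  have hcΛ : ∀ η : Rel K, c (T.Λ η) = 1 := fun η => T.classInner_theta2_Lambda η
  rw [Finset.sum_insert (by
      rw [Finset.mem_insert]
      rintro (h5 | h5)
      · exact hne h5
      · exact htS h5), Finset.sum_insert hθS, hS,
    Finset.sum_image (fun a _ b _ h => T.inj h), hct, hcθ,
    Finset.sum_congr rfl (fun η _ => by rw [hcΛ η]), ← h3] at h4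
  simp only [map_one, Finset.sum_const, Finset.card_univ, nsmul_eq_mul, mul_one] at h4
  rw [← Nat.card_eq_fintype_card] at h4
  have h5 : ((2 + Nat.card (Rel K) : ℕ) : ℝ) ≤
      ((Nat.card (orbitRel.Quotient (stabilizer G x₀) Ω) : ℕ) : ℝ) := by
    push_cast
    linarith
  exact_mod_cast h5

end Tab

end sums

end Cfsg.Agent.Helper2.PrimeTwo
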