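import Mathlib
import Cfsg.Agent.Helper2.PrimeTwoF
import Cfsg.Agent.Helper2.CentAlgE

/-!
# Permutation groups of prime degree with Sylow normalizer of order `2p`: three point stabilizers
-/

set_option autoImplicit false
set_option linter.style.haveILetI false

namespace Cfsg.Agent.Helper2.PrimeTwo

open MulAction Cfsg.Agent.Helper6 Cfsg.Agent.Helper2.BrTI
open scoped ComplexConjugate

universe u v

variable {G : Type u} [Group G] {Ω : Type v} [MulAction G Ω]

/-- the pointwise stabilizer of three points -/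
def T3 (G : Type u) [Group G] {Ω : Type v} [MulAction G Ω] (a b c : Ω) : Subgroup G :=
  stabilizer G a ⊓ stabilizer G b ⊓ stabilizer G c

theorem mem_T3 {a b c : Ω} {g : G} : g ∈ T3 G a b c ↔ g • a = a ∧ g • b = b ∧ g • c = c := by
  unfold T3
  rw [Subgroup.mem_inf, Subgroup.mem_inf, mem_stabilizer_iff, mem_stabilizer_iff,
    mem_stabilizer_iff, and_assoc]

/-- the embedding of three distinct points -/
def emb3 (a b c : Ω) (hab : a ≠ b) (hac : a ≠ c) (hbc : b ≠ c) : Fin 3 ↪ Ω :=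
  ⟨![a, b, c], by
    intro i j h
    fin_cases i <;> fin_cases j <;> simp_all⟩

theorem stabilizer_emb3 (a b c : Ω) (hab : a ≠ b) (hac : a ≠ c) (hbc : b ≠ c) :
    stabilizer G (emb3 a b c hab hac hbc) = T3 G a b c := by
  ext g
  rw [mem_stabilizer_iff, mem_T3, DFunLike.ext_iff]
  simp only [Function.Embedding.smul_apply]
  rw [Fin.forall_fin_succ, Fin.forall_fin_succ, Fin.forall_fin_succ]
  have e0 : (emb3 a b c hab hac hbc) 0 = a := rfl
  have e1 : (emb3 a b c hab hac hbc) (Fin.succ 0) = b := rfl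
  have e2 : (emb3 a b c hab hac hbc) (Fin.succ (Fin.succ 0)) = c := rfl
  rw [e0, e1, e2]
  simp

/-- conjugating three point stabilizers -/
theorem T3_conj (a b c : Ω) (g : G) :
    T3 G (g • a) (g • b) (g • c) = (T3 G a b c).map (MulAut.conj g).toMonoidHom := by
  ext x
  rw [mem_T3, Subgroup.mem_map]
  constructor
  · rintro ⟨h1, h2, h3⟩
    refine ⟨g⁻¹ * x * g, ?_, ?_⟩
    · rw [mem_T3]
      refine ⟨?_, ?_, ?_⟩
      · rw [mul_smul, mul_smul, h1, inv_smul_smul]
      · rw [mul_smul, mul_smul, h2, inv_smul_smul]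
      · rw [mul_smul, mul_smul, h3, inv_smul_smul]
    · simp [MulAut.conj_apply]
      group
  · rintro ⟨y, hy, rfl⟩
    rw [mem_T3] at hy
    simp only [MulEquiv.coe_toMonoidHom, MulAut.conj_apply]
    refine ⟨?_, ?_, ?_⟩
    · rw [mul_smul, mul_smul, inv_smul_smul, hy.1]
    · rw [mul_smul, mul_smul, inv_smul_smul, hy.2.1]
    · rw [mul_smul, mul_smul, inv_smul_smul, hy.2.2]

theorem card_T3_conj (a b c : Ω) (g : G) :
    Nat.card (T3 G (g • a) (g • b) (g • c)) = Nat.card (T3 G a b c) := by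
  rw [T3_conj]
  exact Nat.card_congr
    ((T3 G a b c).equivMapOfInjective _ (MulAut.conj g).injective).toEquiv.symm


section fix

variable [Fintype Ω]

variable (G) in
/-- the fixed points of a three point stabilizer -/
noncomputable def Fix3 (a b c : Ω) : Finset Ω := by
  classical exact Finset.univ.filter (fun x => ∀ g ∈ T3 G a b c, g • x = x)

theorem mem_Fix3 {a b c x : Ω} : x ∈ Fix3 G a b c ↔ ∀ g ∈ T3 G a b c, g • x = x := by
  classical
  unfold Fix3
  rw [Finset.mem_filter]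
  exact ⟨fun h => h.2, fun h => ⟨Finset.mem_univ _, h⟩⟩

theorem left_mem_Fix3 (a b c : Ω) : a ∈ Fix3 G a b c :=
  mem_Fix3.mpr (fun _ hg => (mem_T3.mp hg).1)

theorem mid_mem_Fix3 (a b c : Ω) : b ∈ Fix3 G a b c :=
  mem_Fix3.mpr (fun _ hg => (mem_T3.mp hg).2.1)

theorem right_mem_Fix3 (a b c : Ω) : c ∈ Fix3 G a b c :=
  mem_Fix3.mpr (fun _ hg => (mem_T3.mp hg).2.2)

theorem Fix3_conj (a b c : Ω) (g : G) [DecidableEq Ω] :
    Fix3 G (g • a) (g • b) (g • c) = (Fix3 G a b c).image (fun x => g • x) := by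
  ext x
  rw [Finset.mem_image, mem_Fix3]
  constructor
  · intro h
    refine ⟨g⁻¹ • x, ?_, smul_inv_smul g x⟩
    rw [mem_Fix3]
    intro t ht
    have h1 : g * t * g⁻¹ ∈ T3 G (g • a) (g • b) (g • c) := by
      rw [T3_conj, Subgroup.mem_map]
      exact ⟨t, ht, by simp [MulAut.conj_apply]⟩
    have h2 := h _ h1
    rw [mul_smul, mul_smul] at h2
    have h3 := congrArg (fun y => g⁻¹ • y) h2
    simpa using h3
  · rintro ⟨y, hy, rfl⟩ t ht
    rw [T3_conj, Subgroup.mem_map] at ht
    obtain ⟨s, hs, rfl⟩ := ht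
    rw [mem_Fix3] at hy
    simp only [MulEquiv.coe_toMonoidHom, MulAut.conj_apply]
    rw [mul_smul, mul_smul, inv_smul_smul, hy s hs]

theorem card_Fix3_conj (a b c : Ω) (g : G) :
    (Fix3 G (g • a) (g • b) (g • c)).card = (Fix3 G a b c).card := by
  classical
  rw [Fix3_conj, Finset.card_image_of_injective _ (MulAction.injective g)]

variable [Finite G]

/-- three-transitivity on points -/
theorem exists_smul_three (h3 : IsMultiplyPretransitive G Ω 3) {a b c a' b' c' : Ω}
    (hab : a ≠ b) (hac : a ≠ c) (hbc : b ≠ c) (hab' : a' ≠ b') (hac' : a' ≠ c') (hbc' : b' ≠ c') :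
    ∃ g : G, g • a = a' ∧ g • b = b' ∧ g • c = c' := by
  haveI : IsPretransitive G (Fin 3 ↪ Ω) := h3
  obtain ⟨g, hg⟩ := exists_smul_eq G (emb3 a b c hab hac hbc) (emb3 a' b' c' hab' hac' hbc')
  refine ⟨g, ?_, ?_, ?_⟩
  · have := DFunLike.congr_fun hg 0
    rwa [Function.Embedding.smul_apply] at this
  · have := DFunLike.congr_fun hg 1
    rwa [Function.Embedding.smul_apply] at this
  · have := DFunLike.congr_fun hg 2
    rwa [Function.Embedding.smul_apply] at this

theorem card_T3_eq (h3 : IsMultiplyPretransitive G Ω 3) {a b c a' b' c' : Ω}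
    (hab : a ≠ b) (hac : a ≠ c) (hbc : b ≠ c) (hab' : a' ≠ b') (hac' : a' ≠ c') (hbc' : b' ≠ c') :
    Nat.card (T3 G a' b' c') = Nat.card (T3 G a b c) := by
  obtain ⟨g, rfl, rfl, rfl⟩ := exists_smul_three h3 hab hac hbc hab' hac' hbc'
  exact card_T3_conj a b c g

theorem card_Fix3_eq (h3 : IsMultiplyPretransitive G Ω 3) {a b c a' b' c' : Ω}
    (hab : a ≠ b) (hac : a ≠ c) (hbc : b ≠ c) (hab' : a' ≠ b') (hac' : a' ≠ c') (hbc' : b' ≠ c') :
    (Fix3 G a' b' c').card = (Fix3 G a b c).card := by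
  obtain ⟨g, rfl, rfl, rfl⟩ := exists_smul_three h3 hab hac hbc hab' hac' hbc'
  exact card_Fix3_conj a b c g

/-- the three point stabilizer is determined by any two further fixed points -/
theorem T3_eq_of_mem (h3 : IsMultiplyPretransitive G Ω 3) {a b c x y : Ω}
    (hab : a ≠ b) (hac : a ≠ c) (hbc : b ≠ c) (hx : x ∈ Fix3 G a b c) (hy : y ∈ Fix3 G a b c)
    (hax : a ≠ x) (hay : a ≠ y) (hxy : x ≠ y) : T3 G a x y = T3 G a b c := by
  symm
  apply Subgroup.eq_of_le_of_card_ge
  · intro g hg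
    rw [mem_T3]
    exact ⟨(mem_T3.mp hg).1, mem_Fix3.mp hx g hg, mem_Fix3.mp hy g hg⟩
  · exact (card_T3_eq h3 hab hac hbc hax hay hxy).le

/-- Fisher's inequality -/
theorem fisher (h3 : IsMultiplyPretransitive G Ω 3) {a b c d : Ω}
    (hab : a ≠ b) (hac : a ≠ c) (hbc : b ≠ c) (hd : d ∉ Fix3 G a b c) :
    ((Fix3 G a b c).card - 1) * ((Fix3 G a b c).card - 2) ≤ Fintype.card Ω - 2 := by
  classical
  set B := Fix3 G a b c with hB
  have haB : a ∈ B := left_mem_Fix3 a b c
  have had : a ≠ d := fun h => hd (h ▸ haB)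
  set C : Ω → Finset Ω := fun e => ((Fix3 G a d e).erase a).erase d with hC
  have hcardC : ∀ e ∈ B.erase a, (C e).card = B.card - 2 := by
    intro e he
    have hea : e ≠ a := (Finset.mem_erase.mp he).1
    have heB : e ∈ B := (Finset.mem_erase.mp he).2
    have hde : d ≠ e := fun h => hd (h ▸ heB)
    have h1 : (Fix3 G a d e).card = B.card := card_Fix3_eq h3 hab hac hbc had hea.symm hde
    have h2 : d ∈ (Fix3 G a d e).erase a :=
      Finset.mem_erase.mpr ⟨had.symm, mid_mem_Fix3 a d e⟩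
    rw [hC]
    simp only
    rw [Finset.card_erase_of_mem h2, Finset.card_erase_of_mem (left_mem_Fix3 a d e), h1]
    omega
  have hdisj : ∀ e ∈ B.erase a, ∀ e' ∈ B.erase a, e ≠ e' → Disjoint (C e) (C e') := by
    intro e he e' he' hee'
    rw [Finset.disjoint_left]
    intro z hz hz'
    have hea : e ≠ a := (Finset.mem_erase.mp he).1
    have heB : e ∈ B := (Finset.mem_erase.mp he).2
    have hde : d ≠ e := fun h => hd (h ▸ heB)
    have hea' : e' ≠ a := (Finset.mem_erase.mp he').1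
    have heB' : e' ∈ B := (Finset.mem_erase.mp he').2
    have hde' : d ≠ e' := fun h => hd (h ▸ heB')
    rw [hC] at hz hz'
    simp only [Finset.mem_erase] at hz hz'
    obtain ⟨hzd, hza, hzF⟩ := hz
    obtain ⟨-, -, hzF'⟩ := hz'
    have k1 : T3 G a d z = T3 G a d e :=
      T3_eq_of_mem h3 had hea.symm hde (mid_mem_Fix3 a d e) hzF had (Ne.symm hza) (Ne.symm hzd)
    have k2 : T3 G a d z = T3 G a d e' :=
      T3_eq_of_mem h3 had hea'.symm hde' (mid_mem_Fix3 a d e') hzF' had (Ne.symm hza)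
        (Ne.symm hzd)
    have k3 : T3 G a e e' = T3 G a b c :=
      T3_eq_of_mem h3 hab hac hbc heB heB' hea.symm hea'.symm hee'
    have k4 : T3 G a d e ≤ T3 G a b c := by
      rw [← k3]
      intro g hg
      have hg' : g ∈ T3 G a d e' := by rw [← k2, k1]; exact hg
      rw [mem_T3]
      exact ⟨(mem_T3.mp hg).1, (mem_T3.mp hg).2.2, (mem_T3.mp hg').2.2⟩
    have k5 : T3 G a d e = T3 G a b c :=
      Subgroup.eq_of_le_of_card_ge k4 (card_T3_eq h3 had hea.symm hde hab hac hbc).le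
    apply hd
    rw [hB, mem_Fix3, ← k5]
    intro g hg
    exact (mem_T3.mp hg).2.1
  have hsub : (B.erase a).biUnion C ⊆ (Finset.univ.erase a).erase d := by
    intro z hz
    rw [Finset.mem_biUnion] at hz
    obtain ⟨e, -, hze⟩ := hz
    rw [hC] at hze
    simp only [Finset.mem_erase] at hze
    simp only [Finset.mem_erase, Finset.mem_univ, and_true]
    exact ⟨hze.1, hze.2.1⟩
  have hcard := Finset.card_le_card hsub
  rw [Finset.card_biUnion hdisj, Finset.sum_congr rfl hcardC, Finset.sum_const, smul_eq_mul,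
    Finset.card_erase_of_mem haB,
    Finset.card_erase_of_mem (Finset.mem_erase.mpr ⟨had.symm, Finset.mem_univ _⟩),
    Finset.card_erase_of_mem (Finset.mem_univ _), Finset.card_univ] at hcard
  omega

end fix

end Cfsg.Agent.Helper2.PrimeTwo
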