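import Mathlib
import Cfsg.Agent.Helper2.PrimeTwoG

/-!
# Permutation groups of prime degree with Sylow normalizer of order `2p`: sharp triple
transitivity
-/

set_option autoImplicit false
set_option linter.style.haveILetI false

namespace Cfsg.Agent.Helper2.PrimeTwo

open MulAction Cfsg.Agent.Helper6 Cfsg.Agent.Helper2.BrTI
open scoped ComplexConjugate

universe u v

variable {G : Type u} [Group G] [Fintype G] {Ω : Type v} [MulAction G Ω] [Fintype Ω]
variable {p : ℕ} {K : Subgroup G}

local notation "NK" => Subgroup.normalizer (K : Set G)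

namespace Tab

variable (T : Tab G Ω p K)
include T

/-- three point stabilizers have odd order -/
theorem T3_odd {a b c : Ω} (hab : a ≠ b) : ¬ 2 ∣ Nat.card (T3 G a b c) := by
  intro h2
  haveI : Fact (Nat.Prime 2) := ⟨Nat.prime_two⟩
  obtain ⟨z, hz⟩ := exists_prime_orderOf_dvd_card' (G := ↥(T3 G a b c)) 2 h2
  have hz2 : (z : G) * (z : G) = 1 := by
    have h1 : z ^ 2 = 1 := by rw [← hz]; exact pow_orderOf_eq_one z
    have h3 := congrArg (fun x : ↥(T3 G a b c) => (x : G)) h1
    simpa [pow_two] using h3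
  have hz1 : (z : G) ≠ 1 := by
    intro h1
    have h3 : z = 1 := Subtype.ext h1
    rw [h3, orderOf_one] at hz
    norm_num at hz
  have hm := mem_T3.mp z.2
  exact hab (T.involution_fixed (z : G) hz2 hz1 a b hm.1 hm.2.1)

/-- a bound for the number of orbits of a three point stabilizer -/
theorem orbits_le {a b c : Ω} (hab : a ≠ b) :
    3 * Nat.card (orbitRel.Quotient (T3 G a b c) Ω) ≤
      Fintype.card Ω + 2 * (Fix3 G a b c).card := by
  classical
  have hodd := T.T3_odd (c := c) hab
  have h1 := Cfsg.Agent.Helper2.CentAlg.sum_inv_card_orbit (H := ↥(T3 G a b c)) (X := Ω)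
  have hdvd : ∀ x : Ω, Nat.card (orbit (T3 G a b c) x) ∣ Nat.card (T3 G a b c) := by
    intro x
    have := card_orbit_mul_card_stabilizer_eq_card_group (T3 G a b c) x
    rw [← Nat.card_eq_fintype_card, ← Nat.card_eq_fintype_card, ← Nat.card_eq_fintype_card]
      at this
    exact Dvd.intro _ this
  have hpos : ∀ x : Ω, 0 < Nat.card (orbit (T3 G a b c) x) := by
    intro x
    rw [Nat.card_pos_iff]
    exact ⟨⟨⟨x, mem_orbit_self x⟩⟩, inferInstance⟩
  have hbig : ∀ x : Ω, x ∉ Fix3 G a b c → 3 ≤ Nat.card (orbit (T3 G a b c) x) := by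
    intro x hx
    rw [mem_Fix3] at hx
    push Not at hx
    obtain ⟨g, hg, hgx⟩ := hx
    have h2 : 1 < Nat.card (orbit (T3 G a b c) x) := by
      rw [Nat.card_eq_fintype_card, Fintype.one_lt_card_iff]
      refine ⟨⟨x, mem_orbit_self x⟩, ⟨g • x, ⟨⟨g, hg⟩, rfl⟩⟩, ?_⟩
      intro h3
      exact hgx (congrArg Subtype.val h3).symm
    have h3 : ¬ 2 ∣ Nat.card (orbit (T3 G a b c) x) := fun h => hodd (h.trans (hdvd x))
    omega
  have h2 : ∀ x : Ω, (1 / (Nat.card (orbit (T3 G a b c) x) : ℚ)) ≤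
      if x ∈ Fix3 G a b c then 1 else 1 / 3 := by
    intro x
    split_ifs with hx
    · rw [div_le_one (by exact_mod_cast hpos x)]
      exact_mod_cast hpos x
    · apply one_div_le_one_div_of_le (by norm_num)
      exact_mod_cast hbig x hx
  have h3 := Finset.sum_le_sum (fun x (_ : x ∈ Finset.univ) => h2 x)
  rw [h1, Finset.sum_ite, Finset.sum_const, Finset.sum_const, nsmul_eq_mul, nsmul_eq_mul,
    mul_one] at h3
  have h4 : (Finset.univ.filter (fun x => x ∈ Fix3 G a b c)).card = (Fix3 G a b c).card := by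
    congr 1
    ext x
    simp
  have h5 : (Finset.univ.filter (fun x => x ∉ Fix3 G a b c)).card =
      Fintype.card Ω - (Fix3 G a b c).card := by
    rw [Finset.filter_not, Finset.card_sdiff_of_subset (Finset.filter_subset _ _), h4,
      Finset.card_univ]
  have h6 : (Fix3 G a b c).card ≤ Fintype.card Ω := Finset.card_le_univ _
  rw [h4, h5, Nat.cast_sub h6] at h3
  have h7 : (3 * Nat.card (orbitRel.Quotient (T3 G a b c) Ω) : ℚ) ≤
      (Fintype.card Ω : ℚ) + 2 * ((Fix3 G a b c).card : ℚ) := by linarith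
  exact_mod_cast h7

/-- three point stabilizers are trivial -/
theorem T3_eq_bot {a b c : Ω} (hab : a ≠ b) (hac : a ≠ c) (hbc : b ≠ c) : T3 G a b c = ⊥ := by
  classical
  haveI := T.hyp.faithful
  have h1 := T.card_orbits_ge (emb3 a b c hab hac hbc)
  rw [stabilizer_emb3] at h1
  have h2 := T.orbits_le (c := c) hab
  have h3 := T.card_rel
  rw [T.hyp.cardΩ] at h2
  have h4 : p + 9 ≤ 4 * (Fix3 G a b c).card := by omega
  by_cases hall : ∀ d : Ω, d ∈ Fix3 G a b c
  · rw [eq_bot_iff]
    intro g hg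
    rw [Subgroup.mem_bot]
    apply FaithfulSMul.eq_of_smul_eq_smul (α := Ω)
    intro d
    rw [one_smul]
    exact mem_Fix3.mp (hall d) g hg
  · exfalso
    push Not at hall
    obtain ⟨d, hd⟩ := hall
    have h5 := fisher T.hyp.trans3 hab hac hbc hd
    rw [T.hyp.cardΩ] at h5
    set f := (Fix3 G a b c).card with hf
    have h6 : 4 ≤ f := by have := T.hyp.big; omega
    obtain ⟨m, hm⟩ : ∃ m, f = m + 2 := ⟨f - 2, by omega⟩
    rw [hm] at h5 h4
    have h7 : m + 2 - 1 = m + 1 := by omega
    have h8 : m + 2 - 2 = m := by omega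
    rw [h7, h8] at h5
    have h9 : (m + 1) * m + 2 ≤ p := by have := T.hyp.big; omega
    nlinarith [sq_nonneg (2 * (m : ℤ) - 3)]

/-- an element with three fixed points is the identity -/
theorem eq_one_of_three_fixed (g : G) (hg : 3 ≤ Nat.card (fixedBy Ω g)) : g = 1 := by
  classical
  have h1 : Nat.card (fixedBy Ω g) = (Finset.univ.filter (fun x : Ω => g • x = x)).card := by
    rw [Nat.card_eq_fintype_card, Fintype.card_subtype]
    congr 1
  rw [h1] at hg
  have hg' : 2 < (Finset.univ.filter (fun x : Ω => g • x = x)).card := by omega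
  obtain ⟨a, ha, b, hb, c, hc, hab, hac, hbc⟩ := Finset.two_lt_card.mp hg'
  rw [Finset.mem_filter] at ha hb hc
  have h2 : g ∈ T3 G a b c := mem_T3.mpr ⟨ha.2, hb.2, hc.2⟩
  rw [T.T3_eq_bot hab hac hbc] at h2
  exact Subgroup.mem_bot.mp h2

end Tab

/-- the main theorem on abstract actions -/
theorem Hyp.eq_one_of_three_fixed (h : Hyp G Ω p K) (g : G)
    (hg : 3 ≤ Nat.card (fixedBy Ω g)) : g = 1 := by
  obtain ⟨T⟩ := h.exists_tab
  exact T.eq_one_of_three_fixed g hg

end Cfsg.Agent.Helper2.PrimeTwo
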