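import Mathlib
import Cfsg.Agent.Helper2.PrimeTwoH

/-!
# Permutation groups of prime degree with Sylow normalizer of order `2p`: small degrees
-/

set_option autoImplicit false
set_option linter.style.haveILetI false

namespace Cfsg.Agent.Helper2.PrimeTwo

open MulAction

universe u v

variable {G : Type u} [Group G] [Finite G] {Ω : Type v} [MulAction G Ω] [Fintype Ω]

/-- the order of a triply transitive group -/
theorem card_eq_mul_stab (h3 : IsMultiplyPretransitive G Ω 3) (x : Fin 3 ↪ Ω) :
    Nat.card G = (Fintype.card Ω).descFactorial 3 * Nat.card (stabilizer G x) := by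
  classical
  haveI : IsPretransitive G (Fin 3 ↪ Ω) := h3
  have h1 := index_stabilizer_of_transitive G x
  have h2 := Subgroup.card_mul_index (stabilizer G x)
  rw [h1, Nat.card_eq_fintype_card (α := Fin 3 ↪ Ω), Fintype.card_embedding_eq,
    Fintype.card_fin] at h2
  rw [← h2, mul_comm]

/-- a triply transitive group of the least possible order is sharply triply transitive -/
theorem eq_one_of_card (h3 : IsMultiplyPretransitive G Ω 3)
    (hcard : Nat.card G = (Fintype.card Ω).descFactorial 3) (hΩ : 3 ≤ Fintype.card Ω) (g : G)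
    (hg : 3 ≤ Nat.card (fixedBy Ω g)) : g = 1 := by
  classical
  have h1 : Nat.card (fixedBy Ω g) = (Finset.univ.filter (fun x : Ω => g • x = x)).card := by
    rw [Nat.card_eq_fintype_card, Fintype.card_subtype]
    congr 1
  rw [h1] at hg
  have hg' : 2 < (Finset.univ.filter (fun x : Ω => g • x = x)).card := by omega
  obtain ⟨a, ha, b, hb, c, hc, hab, hac, hbc⟩ := Finset.two_lt_card.mp hg'
  rw [Finset.mem_filter] at ha hb hc
  have h2 : g ∈ T3 G a b c := mem_T3.mpr ⟨ha.2, hb.2, hc.2⟩
  rw [← stabilizer_emb3 a b c hab hac hbc] at h2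
  have h3' := card_eq_mul_stab h3 (emb3 a b c hab hac hbc)
  have hpos : 0 < (Fintype.card Ω).descFactorial 3 := Nat.descFactorial_pos.mpr hΩ
  have h4 : Nat.card (stabilizer G (emb3 a b c hab hac hbc)) = 1 := by
    rw [hcard] at h3'
    nlinarith
  rw [Nat.card_eq_one_iff_unique] at h4
  obtain ⟨hs, -⟩ := h4
  have h5 : (⟨g, h2⟩ : stabilizer G (emb3 a b c hab hac hbc)) = 1 := Subsingleton.elim _ _
  exact congrArg Subtype.val h5

/-- a simple permutation group of order greater than two consists of even permutations -/
theorem card_dvd_alternating {α : Type*} [Fintype α] [DecidableEq α]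
    (H : Subgroup (Equiv.Perm α)) [IsSimpleGroup H] (h2 : 2 < Nat.card H) :
    Nat.card H ∣ Nat.card (alternatingGroup α) := by
  classical
  set φ : H →* ℤˣ := Equiv.Perm.sign.comp H.subtype with hφ
  rcases (φ.normal_ker).eq_bot_or_eq_top with h | h
  · exfalso
    have hinj : Function.Injective φ := (MonoidHom.ker_eq_bot_iff φ).mp h
    have h3 := Nat.card_le_card_of_injective φ hinj
    have h4 : Nat.card ℤˣ = 2 := by
      rw [Nat.card_eq_fintype_card]
      rfl
    omega
  · have hle : H ≤ alternatingGroup α := by
      intro g hg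
      rw [Equiv.Perm.mem_alternatingGroup]
      have h3 : (⟨g, hg⟩ : H) ∈ φ.ker := by rw [h]; exact Subgroup.mem_top _
      rw [MonoidHom.mem_ker] at h3
      exact h3
    exact Subgroup.card_dvd_of_le hle

end Cfsg.Agent.Helper2.PrimeTwo
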