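import Mathlib
import Cfsg.Agent.Helper2.QuatGen
import Cfsg.Agent.Helper3.S4Pres

set_option autoImplicit false

/-!
The automorphism group of the quaternion group of order eight: it has order `24`, is isomorphic
to the symmetric group of degree four, and two explicit automorphisms `dl` (of order three) and
`tu` (an outer involution inverting `dl`).
-/

namespace Cfsg.Agent.Helper2.Q8Aut

open QuaternionGroup

/-- the quaternion group of order eight -/
abbrev Q := QuaternionGroup 2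

/-- a function on `Q` given by its values -/
def mkFun (u v : Fin 4 → Q) : Q → Q
  | a m => u m
  | xa m => v m

/-- the automorphism with given table (and given inverse table) -/
def autOf (u v u' v' : Fin 4 → Q)
    (hmul : ∀ x y : Q, mkFun u v (x * y) = mkFun u v x * mkFun u v y)
    (hl : ∀ x : Q, mkFun u' v' (mkFun u v x) = x)
    (hr : ∀ x : Q, mkFun u v (mkFun u' v' x) = x) : MulAut Q where
  toFun := mkFun u v
  invFun := mkFun u' v'
  left_inv := hl
  right_inv := hr
  map_mul' := hmul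

/-- the automorphism `i ↦ j ↦ k ↦ i` of order three -/
def dl : MulAut Q :=
  autOf ![a 0, xa 0, a 2, xa 2] ![xa 3, a 3, xa 1, a 1]
    ![a 0, xa 3, a 2, xa 1] ![a 1, xa 2, a 3, xa 0] (by decide) (by decide) (by decide)

/-- the involutory automorphism `i ↦ j⁻¹`, `j ↦ i⁻¹` -/
def tu : MulAut Q :=
  autOf ![a 0, xa 2, a 2, xa 0] ![a 3, xa 3, a 1, xa 1]
    ![a 0, xa 2, a 2, xa 0] ![a 3, xa 3, a 1, xa 1] (by decide) (by decide) (by decide)

/-- second Coxeter generator -/
def cb : MulAut Q :=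
  autOf ![a 0, a 3, a 2, a 1] ![xa 1, xa 0, xa 3, xa 2]
    ![a 0, a 3, a 2, a 1] ![xa 1, xa 0, xa 3, xa 2] (by decide) (by decide) (by decide)

/-- third Coxeter generator -/
def cc : MulAut Q :=
  autOf ![a 0, xa 0, a 2, xa 2] ![a 1, xa 3, a 3, xa 1]
    ![a 0, xa 0, a 2, xa 2] ![a 1, xa 3, a 3, xa 1] (by decide) (by decide) (by decide)

theorem dl_apply : ∀ q : Q, dl (dl (dl q)) = q := by decide

theorem tu_apply : ∀ q : Q, tu (tu q) = q := by decide

theorem tu_dl_apply : ∀ q : Q, tu (dl (tu (dl q))) = q := by decide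

theorem dl_a : dl (a 1) = xa 0 := rfl

theorem dl_xa : dl (xa 0) = a 1 * xa 0 := by decide

theorem tu_a : tu (a 1) = (xa 0)⁻¹ := by decide

theorem tu_xa : tu (xa 0) = (a 1)⁻¹ := by decide

theorem mul_tu_ne : ∀ q : Q, q * tu q ≠ a 2 := by decide

theorem center_cases : ∀ q : Q, (∀ x : Q, q * x = x * q) → q = 1 ∨ q = a 2 := by decide

theorem a_two_central : ∀ x : Q, a 2 * x = x * a 2 := by decide

theorem invol_cases : ∀ q : Q, q * q = 1 → q = 1 ∨ q = a 2 := by decide

theorem a_two_sq : (a 2 : Q) * a 2 = 1 := by decide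

theorem a_two_ne : (a 2 : Q) ≠ 1 := by decide

theorem a_one_sq : (a 1 : Q) * a 1 = a 2 := by decide

theorem not_comm : (a 1 : Q) * xa 0 ≠ xa 0 * a 1 := by decide

theorem elts2 (q : Q) : ∃ m : ℕ, q = a 1 ^ m ∨ q = xa 0 * a 1 ^ m :=
  Cfsg.Agent.Helper2.QuatGen.elts 2 q

/-- an automorphism is determined by the images of the generators -/
theorem aut_ext (α β : MulAut Q) (h1 : α (a 1) = β (a 1)) (h2 : α (xa 0) = β (xa 0)) :
    α = β := by
  ext q
  obtain ⟨m, rfl | rfl⟩ := elts2 q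
  · rw [map_pow, map_pow, h1]
  · rw [map_mul, map_mul, map_pow, map_pow, h1, h2]

/-- every automorphism fixes the central involution -/
theorem aut_a_two (α : MulAut Q) : α (a 2) = a 2 := by
  have h1 : α (a 2) * α (a 2) = 1 := by rw [← map_mul, a_two_sq, map_one]
  rcases invol_cases _ h1 with h | h
  · exfalso
    rw [← map_one α] at h
    exact a_two_ne (α.injective h)
  · exact h

/-- admissible images of the pair of generators -/
def Adm : Finset (Q × Q) :=
  Finset.univ.filter (fun p => p.1 * p.1 ≠ 1 ∧ p.2 * p.2 ≠ 1 ∧ p.2 ≠ p.1 ∧ p.2 ≠ p.1⁻¹)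

theorem card_Adm : Adm.card = 24 := by decide

theorem gen_facts : (a 1 : Q) * a 1 ≠ 1 ∧ (xa 0 : Q) * xa 0 ≠ 1 ∧ (xa 0 : Q) ≠ a 1 ∧
    (xa 0 : Q) ≠ (a 1)⁻¹ := by decide

/-- the pair of images of the generators -/
def pairOf (α : MulAut Q) : Adm :=
  ⟨(α (a 1), α (xa 0)), by
    simp only [Adm, Finset.mem_filter, Finset.mem_univ, true_and]
    obtain ⟨h1, h2, h3, h4⟩ := gen_facts
    refine ⟨?_, ?_, ?_, ?_⟩
    · rw [← map_mul, ← map_one α]; exact fun h => h1 (α.injective h)
    · rw [← map_mul, ← map_one α]; exact fun h => h2 (α.injective h)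
    · exact fun h => h3 (α.injective h)
    · rw [← map_inv]; exact fun h => h4 (α.injective h)⟩

theorem pairOf_injective : Function.Injective pairOf := by
  intro α β h
  have h' : (α (a 1), α (xa 0)) = (β (a 1), β (xa 0)) := congrArg Subtype.val h
  exact aut_ext α β (congrArg Prod.fst h') (congrArg Prod.snd h')

instance : Finite (MulAut Q) := Finite.of_injective pairOf pairOf_injective

theorem card_mulAut_le : Nat.card (MulAut Q) ≤ 24 := by
  have h1 := Nat.card_le_card_of_injective pairOf pairOf_injective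
  have h2 : Nat.card Adm = 24 := by
    rw [Nat.card_eq_fintype_card, Fintype.card_coe, card_Adm]
  rwa [h2] at h1

theorem tu_sq : tu ^ 2 = 1 := by
  rw [pow_two]; apply aut_ext <;> rfl

theorem cb_sq : cb ^ 2 = 1 := by
  rw [pow_two]; apply aut_ext <;> rfl

theorem cc_sq : cc ^ 2 = 1 := by
  rw [pow_two]; apply aut_ext <;> rfl

theorem tu_cb : (tu * cb) ^ 3 = 1 := by
  rw [pow_three]; apply aut_ext <;> rfl

theorem cb_cc : (cb * cc) ^ 3 = 1 := by
  rw [pow_three]; apply aut_ext <;> rfl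

theorem tu_cc : (tu * cc) ^ 2 = 1 := by
  rw [pow_two]; apply aut_ext <;> rfl

theorem tu_cc_ne : tu * cc ≠ 1 := by
  intro h
  have h1 : (tu * cc) (a 1) = a 1 := by rw [h]; rfl
  revert h1
  decide

/-- `Aut(Q₈) ≅ S₄` -/
theorem exists_equiv : ∃ ψ : Equiv.Perm (Fin 4) ≃* MulAut Q, ψ (Equiv.swap 0 1) = tu := by
  obtain ⟨φ, h1, h2, h3⟩ := Cfsg.Agent.Helper3.S4Pres.exists_hom tu cb cc tu_sq cb_sq cc_sq
    tu_cb cb_cc tu_cc
  have hinj : Function.Injective φ := by
    apply Cfsg.Agent.Helper3.S4Pres.injective_of_ne_one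
    rw [map_mul, h1, h3]
    exact tu_cc_ne
  have hA : Nat.card (Equiv.Perm (Fin 4)) = 24 := by
    rw [Nat.card_eq_fintype_card, Fintype.card_perm, Fintype.card_fin]
    rfl
  have hle : Nat.card (MulAut Q) ≤ Nat.card (Equiv.Perm (Fin 4)) := by
    rw [hA]; exact card_mulAut_le
  have hbij : Function.Bijective φ := Function.Injective.bijective_of_nat_card_le hinj hle
  exact ⟨MulEquiv.ofBijective φ hbij, h1⟩

theorem card_mulAut : Nat.card (MulAut Q) = 24 := by
  obtain ⟨ψ, -⟩ := exists_equiv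
  rw [← Nat.card_congr ψ.toEquiv, Nat.card_eq_fintype_card, Fintype.card_perm, Fintype.card_fin]
  rfl

theorem dl_cube : dl ^ 3 = 1 := by
  rw [pow_three]; apply aut_ext <;> rfl

theorem tu_mul_self : tu * tu = 1 := by
  apply aut_ext <;> rfl

theorem tu_dl : tu * dl * tu * dl = 1 := by
  apply aut_ext <;> rfl

theorem rel1 : (a 1 : Q) * (a 1 * (a 1 * a 1)) = 1 := by decide

theorem rel2 : (xa 0 : Q) * (xa 0 * (xa 0 * xa 0)) = 1 := by decide

theorem rel3 : (a 1 : Q) * (a 1 * (xa 0 * xa 0)) = 1 := by decide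

theorem rel4 : (xa 0 : Q) * (a 1 * (xa 0 * (xa 0 * (xa 0 * a 1)))) = 1 := by decide

theorem rel7 : (a 1 * xa 0 : Q) * (xa 0 * (xa 0 * (xa 0 * (a 1 * (a 1 * a 1))))) = 1 := by decide

theorem rel10 : ((xa 0)⁻¹ : Q) * xa 0 = 1 := by decide

theorem rel11 : ((a 1)⁻¹ : Q) * a 1 = 1 := by decide

theorem mul_tu_ne' : ∀ q : Q, q * tu q * a 2 ≠ 1 := by decide

theorem conj_ne_tu : ∀ q : Q, q * a 1 * q⁻¹ ≠ tu (a 1) := by decide

end Cfsg.Agent.Helper2.Q8Aut
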