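import Mathlib
import Cfsg.Agent.Helper2.QD7

set_option autoImplicit false

namespace Cfsg.Agent.Helper2.QD

variable {S : Type*} [Group S]

namespace QDat

variable (d : QDat S) [Finite S]

theorem orderOf_a_odd (j : ZMod (2 ^ d.n)) : orderOf (d.a (2 * j + 1)) = 2 ^ d.n := by
  have h1 : orderOf (d.a (2 * j + 1)) ∣ 2 ^ d.n := by
    apply orderOf_dvd_of_pow_eq_one
    rw [a_pow, ZMod.natCast_self, zero_mul, a_zero]
  obtain ⟨k, hk, hko⟩ := (Nat.dvd_prime_pow Nat.prime_two).mp h1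
  rcases Nat.lt_or_ge k d.n with hlt | hge
  · exfalso
    have h2 : (d.a (2 * j + 1)) ^ (2 ^ (d.n - 1)) = 1 := by
      apply orderOf_dvd_iff_pow_eq_one.mp
      rw [hko]
      exact Nat.pow_dvd_pow 2 (by omega)
    rw [a_pow, show ((2 ^ (d.n - 1) : ℕ) : ZMod (2 ^ d.n)) = d.h from rfl, d.h_mul_odd,
      a_eq_one_iff] at h2
    exact d.h_ne_zero h2
  · have : k = d.n := le_antisymm hk hge
    rw [hko, this]

theorem zpowers_a_odd (j : ZMod (2 ^ d.n)) :
    Subgroup.zpowers (d.a (2 * j + 1)) = Subgroup.zpowers d.x := by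
  apply Subgroup.eq_of_le_of_card_ge (Subgroup.zpowers_le.mpr (d.a_mem _))
  rw [Nat.card_zpowers, Nat.card_zpowers, d.orderOf_a_odd, d.hx]

/-- a normal subgroup not contained in `⟨x⟩` contains `⟨x²⟩`. -/
theorem D_le_of_normal (N : Subgroup S) [N.Normal] (i : ZMod (2 ^ d.n)) (hi : d.b i ∈ N) :
    d.D ≤ N := by
  intro s hs
  obtain ⟨c, rfl⟩ := (d.mem_D_iff s).mp hs
  have h1 : d.b (i + 2 * c) ∈ N := by
    rw [← d.b_even_conj i c]
    exact Subgroup.Normal.conj_mem inferInstance _ hi _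
  have h2 : d.a (2 * c) = d.b (i + 2 * c) * (d.b i)⁻¹ := by
    rw [b_inv, b_mul_b]
    congr 1
    have := d.E_sq
    linear_combination (i) * this
  rw [h2]
  exact N.mul_mem h1 (N.inv_mem hi)

theorem index_eq_two_of_D_le (N : Subgroup S) (hN : N ≠ ⊤) (hD : d.D ≤ N)
    (hle : ¬ N ≤ Subgroup.zpowers d.x) : N.index = 2 := by
  have h1 := d.card_eq_two_mul_inf N hle
  have h2 : Nat.card d.D ≤ Nat.card (Subgroup.zpowers d.x ⊓ N : Subgroup S) :=
    Subgroup.card_le_of_le (le_inf d.D_le_zpowers hD)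
  rw [d.card_D] at h2
  have h3 := N.card_mul_index
  rw [d.card] at h3
  have hn := d.hn
  have e : 2 ^ (d.n + 1) = 2 * (2 * 2 ^ (d.n - 1)) := by
    rw [← pow_succ', ← pow_succ']; congr 1; omega
  rw [e] at h3
  have h4 : N.index ≠ 1 := fun h => hN (Subgroup.index_eq_one.mp h)
  have h5 : N.index ≠ 0 := Subgroup.index_ne_zero_of_finite
  have hpos : 0 < 2 ^ (d.n - 1) := by positivity
  by_contra h6
  have h7 : 3 ≤ N.index := by omega
  have : 2 * (2 * 2 ^ (d.n - 1)) ≥ (2 * 2 ^ (d.n - 1)) * 3 := by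
    calc 2 * (2 * 2 ^ (d.n - 1)) = Nat.card N * N.index := h3.symm
      _ ≥ (2 * 2 ^ (d.n - 1)) * 3 := Nat.mul_le_mul (by omega) h7
  omega

end QDat

end Cfsg.Agent.Helper2.QD
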