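import Mathlib
import Cfsg.Agent.Helper2.QD8

set_option autoImplicit false

namespace Cfsg.Agent.Helper2.QD

variable {S : Type*} [Group S]

namespace QDat

variable (d : QDat S) [Finite S]

/-- the dihedral maximal subgroup `⟨x², y⟩` -/
def Om : Subgroup S where
  carrier := {s | ∃ j, s = d.a (2 * j) ∨ s = d.b (2 * j)}
  one_mem' := ⟨0, Or.inl (by rw [mul_zero, a_zero])⟩
  mul_mem' := by
    rintro s t ⟨j, rfl | rfl⟩ ⟨k, rfl | rfl⟩
    · exact ⟨j + k, Or.inl (by rw [← a_add]; congr 1; ring)⟩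
    · exact ⟨j + k, Or.inr (by rw [a_mul_b]; congr 1; ring)⟩
    · exact ⟨j + d.E * k, Or.inr (by rw [b_mul_a]; congr 1; ring)⟩
    · exact ⟨j + d.E * k, Or.inl (by rw [b_mul_b]; congr 1; ring)⟩
  inv_mem' := by
    rintro s ⟨j, rfl | rfl⟩
    · exact ⟨-j, Or.inl (by rw [a_inv]; congr 1; ring)⟩
    · exact ⟨-(d.E * j), Or.inr (by rw [b_inv]; congr 1; ring)⟩

theorem mem_Om_iff (s : S) : s ∈ d.Om ↔ ∃ j, s = d.a (2 * j) ∨ s = d.b (2 * j) := Iff.rfl

/-- the generalized quaternion maximal subgroup `⟨x², x y⟩` -/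
def Qm : Subgroup S where
  carrier := {s | ∃ j, s = d.a (2 * j) ∨ s = d.b (2 * j + 1)}
  one_mem' := ⟨0, Or.inl (by rw [mul_zero, a_zero])⟩
  mul_mem' := by
    rintro s t ⟨j, rfl | rfl⟩ ⟨k, rfl | rfl⟩
    · exact ⟨j + k, Or.inl (by rw [← a_add]; congr 1; ring)⟩
    · exact ⟨j + k, Or.inr (by rw [a_mul_b]; congr 1; ring)⟩
    · exact ⟨j + d.E * k, Or.inr (by rw [b_mul_a]; congr 1; ring)⟩
    · refine ⟨j + d.E * k + d.q, Or.inl ?_⟩
      rw [b_mul_b]; congr 1
      have h1 := d.one_add_E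
      have h2 := d.two_q
      linear_combination h1 - h2
  inv_mem' := by
    rintro s ⟨j, rfl | rfl⟩
    · exact ⟨-j, Or.inl (by rw [a_inv]; congr 1; ring)⟩
    · refine ⟨-(d.E * j) - d.q, Or.inr ?_⟩
      rw [b_inv]; congr 1
      have h1 := d.one_add_E
      have h2 := d.two_q
      linear_combination (-1 : ZMod (2 ^ d.n)) * h1 + h2

theorem mem_Qm_iff (s : S) : s ∈ d.Qm ↔ ∃ j, s = d.a (2 * j) ∨ s = d.b (2 * j + 1) := Iff.rfl

theorem D_le_Om : d.D ≤ d.Om := by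
  intro s hs
  obtain ⟨j, rfl⟩ := (d.mem_D_iff s).mp hs
  exact ⟨j, Or.inl rfl⟩

theorem D_le_Qm : d.D ≤ d.Qm := by
  intro s hs
  obtain ⟨j, rfl⟩ := (d.mem_D_iff s).mp hs
  exact ⟨j, Or.inl rfl⟩

theorem zpowers_inf_Om : Subgroup.zpowers d.x ⊓ d.Om = d.D := by
  apply le_antisymm
  · rintro s ⟨h1, j, rfl | rfl⟩
    · exact d.a_even_mem_D j
    · exact absurd h1 (d.b_not_mem _)
  · exact le_inf d.D_le_zpowers d.D_le_Om

theorem zpowers_inf_Qm : Subgroup.zpowers d.x ⊓ d.Qm = d.D := by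
  apply le_antisymm
  · rintro s ⟨h1, j, rfl | rfl⟩
    · exact d.a_even_mem_D j
    · exact absurd h1 (d.b_not_mem _)
  · exact le_inf d.D_le_zpowers d.D_le_Qm

theorem Om_not_le : ¬ d.Om ≤ Subgroup.zpowers d.x := fun h =>
  d.b_not_mem (2 * 0) (h ⟨0, Or.inr rfl⟩)

theorem Qm_not_le : ¬ d.Qm ≤ Subgroup.zpowers d.x := fun h =>
  d.b_not_mem (2 * 0 + 1) (h ⟨0, Or.inr rfl⟩)

theorem two_pow_eq : 2 ^ d.n = 2 * 2 ^ (d.n - 1) := by
  have hn := d.hn
  rw [← pow_succ']; congr 1; omega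

theorem card_Om : Nat.card d.Om = 2 ^ d.n := by
  rw [d.card_eq_two_mul_inf _ d.Om_not_le, d.zpowers_inf_Om, d.card_D, d.two_pow_eq]

theorem card_Qm : Nat.card d.Qm = 2 ^ d.n := by
  rw [d.card_eq_two_mul_inf _ d.Qm_not_le, d.zpowers_inf_Qm, d.card_D, d.two_pow_eq]

theorem index_of_card (K : Subgroup S) (hK : Nat.card K = 2 ^ d.n) : K.index = 2 := by
  have h1 := K.card_mul_index
  rw [hK, d.card, pow_succ] at h1
  exact Nat.eq_of_mul_eq_mul_left (by positivity) h1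

theorem index_Om : d.Om.index = 2 := d.index_of_card _ d.card_Om

theorem index_Qm : d.Qm.index = 2 := d.index_of_card _ d.card_Qm

theorem isPGroup (d : QDat S) : IsPGroup 2 S := IsPGroup.of_card d.card

/-- the centre -/
theorem center_eq : Subgroup.center S = Subgroup.zpowers d.z := by
  ext s
  rw [Subgroup.mem_center_iff]
  constructor
  · intro hs
    rcases d.nf' s with ⟨i, rfl⟩ | ⟨i, rfl⟩
    · have h1 := hs (d.b 0)
      rw [b_mul_a, a_mul_b] at h1
      have h2 := d.b_inj h1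
      have h3 : (1 - d.E) * i = 0 := by linear_combination (-1 : ZMod (2 ^ d.n)) * h2
      rcases (d.one_sub_E_mul_eq_zero_iff i).mp h3 with rfl | rfl
      · rw [a_zero]; exact Subgroup.one_mem _
      · exact Subgroup.mem_zpowers _
    · exfalso
      have h1 := hs (d.a 1)
      rw [a_mul_b, b_mul_a] at h1
      have h2 := d.b_inj h1
      apply d.E_ne_one
      linear_combination (-1 : ZMod (2 ^ d.n)) * h2
  · intro hs g
    obtain ⟨k, rfl⟩ := Subgroup.mem_zpowers_iff.mp hs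
    have : Commute d.z g := d.z_central g
    exact ((this.zpow_left k).eq).symm

theorem card_center (d : QDat S) : Nat.card (Subgroup.center S) = 2 := by
  rw [d.center_eq, Nat.card_zpowers, d.orderOf_z]

end QDat

end Cfsg.Agent.Helper2.QD
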