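import Mathlib
import Cfsg.Agent.Helper2.QD9
import Cfsg.Agent.Helper2.QuatIso
import Cfsg.Agent.Helper2.DihedralIso
import Cfsg.Agent.Helper1.PGroup

set_option autoImplicit false

namespace Cfsg.Agent.Helper2.QD

variable {S : Type*} [Group S]

namespace QDat

variable (d : QDat S) [Finite S]

theorem b_sq_one (j : ZMod (2 ^ d.n)) : d.b (2 * j) * d.b (2 * j) = 1 := by
  have := d.orderOf_b_even j
  have h2 := pow_orderOf_eq_one (d.b (2 * j))
  rwa [this, pow_two] at h2

theorem b_ne_one (i : ZMod (2 ^ d.n)) : d.b i ≠ 1 := fun h => d.b_ne_a i 0 (by rw [h, d.a_zero])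

theorem orderOf_a_two : orderOf (d.a 2) = 2 ^ (d.n - 1) := by
  rw [← Nat.card_zpowers]; exact d.card_D

theorem Om_eq_closure : d.Om = Subgroup.closure ({d.b 2, d.b 0} : Set S) := by
  have hprod : d.b 2 * d.b 0 = d.a 2 := by rw [d.b_mul_b, mul_zero, add_zero]
  apply le_antisymm
  · have ha2 : d.a 2 ∈ Subgroup.closure ({d.b 2, d.b 0} : Set S) := by
      rw [← hprod]
      exact Subgroup.mul_mem _ (Subgroup.subset_closure (by simp)) (Subgroup.subset_closure (by simp))
    have haj : ∀ j, d.a (2 * j) ∈ Subgroup.closure ({d.b 2, d.b 0} : Set S) := by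
      intro j
      rw [d.a_even_eq_pow]
      exact Subgroup.pow_mem _ ha2 _
    rintro s ⟨j, rfl | rfl⟩
    · exact haj j
    · have : d.b (2 * j) = d.a (2 * j) * d.b 0 := by rw [d.a_mul_b, add_zero]
      rw [this]
      exact Subgroup.mul_mem _ (haj j) (Subgroup.subset_closure (by simp))
  · rw [Subgroup.closure_le]
    intro s hs
    simp only [Set.mem_insert_iff, Set.mem_singleton_iff] at hs
    rcases hs with rfl | rfl
    · exact ⟨1, Or.inr (by rw [mul_one])⟩
    · exact ⟨0, Or.inr (by rw [mul_zero])⟩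

theorem Om_equiv_dihedral : Nonempty (d.Om ≃* DihedralGroup (2 ^ (d.n - 1))) := by
  have hb2 : d.b 2 * d.b 2 = 1 := by have := d.b_sq_one 1; rwa [mul_one] at this
  have hb0 : d.b 0 * d.b 0 = 1 := by have := d.b_sq_one 0; rwa [mul_zero] at this
  have hprod : d.b 2 * d.b 0 = d.a 2 := by rw [d.b_mul_b, mul_zero, add_zero]
  have hord : orderOf (d.b 2 * d.b 0) = 2 ^ (d.n - 1) := by rw [hprod, d.orderOf_a_two]
  obtain ⟨e⟩ := Cfsg.Agent.Helper2.closure_pair_invol_equiv_dihedral hb2 hb0 (d.b_ne_one 2)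
    (d.b_ne_one 0)
  rw [hord] at e
  exact ⟨(MulEquiv.subgroupCongr d.Om_eq_closure).trans e⟩

theorem q_cast : ((2 ^ (d.n - 2) : ℕ) : ZMod (2 ^ d.n)) = d.q := rfl

theorem Qm_equiv_quaternion : Nonempty (d.Qm ≃* QuaternionGroup (2 ^ (d.n - 2))) := by
  have hn := d.hn
  haveI : NeZero (2 ^ (d.n - 2)) := ⟨by positivity⟩
  have hk2 : 2 * 2 ^ (d.n - 2) = 2 ^ (d.n - 1) := by rw [← pow_succ']; congr 1; omega
  have hA : orderOf (d.a 2) = 2 * 2 ^ (d.n - 2) := by rw [d.orderOf_a_two, hk2]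
  have hB : d.b 1 * d.b 1 = (d.a 2) ^ (2 ^ (d.n - 2)) := by
    rw [d.b_sq, mul_one, d.a_pow, d.q_cast, mul_comm, d.two_q]
  have hrel : d.b 1 * d.a 2 * (d.b 1)⁻¹ = (d.a 2)⁻¹ := by
    rw [d.conj_b_a, d.a_inv]
    congr 1
    rw [d.E_eq]
    have := d.two_h
    linear_combination this
  have hBn : d.b 1 ∉ Subgroup.zpowers (d.a 2) := fun h => d.b_not_mem 1 (d.D_le_zpowers h)
  set f := QuatIso.quatHom (d.a 2) (d.b 1) (2 ^ (d.n - 2)) hA hB hrel with hf
  have hinj : Function.Injective f := QuatIso.quatHom_injective _ _ _ hA hB hrel hBn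
  have hb1 : d.b 1 ∈ d.Qm := ⟨0, Or.inr (by rw [mul_zero, zero_add])⟩
  have hle : f.range ≤ d.Qm := by
    rintro _ ⟨s, rfl⟩
    change QuatIso.quatFun _ _ _ s ∈ d.Qm
    rcases s with i | i
    · rw [QuatIso.quatFun_a]
      apply d.D_le_Qm
      exact Subgroup.pow_mem _ (Subgroup.mem_zpowers _) _
    · rw [QuatIso.quatFun_xa]
      apply Subgroup.mul_mem _ hb1
      apply d.D_le_Qm
      exact Subgroup.pow_mem _ (Subgroup.mem_zpowers _) _
  have hcard : Nat.card f.range = 2 ^ d.n := by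
    rw [← Nat.card_congr (MonoidHom.ofInjective hinj).toEquiv, Nat.card_eq_fintype_card,
      QuaternionGroup.card]
    have : 4 * 2 ^ (d.n - 2) = 2 ^ d.n := by
      rw [show (4 : ℕ) = 2 ^ 2 from rfl, ← pow_add]; congr 1; omega
    exact this
  have heq : f.range = d.Qm := by
    apply Subgroup.eq_of_le_of_card_ge hle
    rw [hcard, d.card_Qm]
  exact ⟨((MonoidHom.ofInjective hinj).trans (MulEquiv.subgroupCongr heq)).symm⟩

/-- classification of maximal subgroups -/
theorem coatom_cases (M : Subgroup S) (hM : IsCoatom M) :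
    M = Subgroup.zpowers d.x ∨ M = d.Qm ∨ M = d.Om := by
  haveI : Fact (Nat.Prime 2) := ⟨Nat.prime_two⟩
  have hidx : M.index = 2 := Cfsg.Agent.Helper1.IsPGroup.coatom_index d.isPGroup hM
  have hMcard : Nat.card M = 2 ^ d.n := by
    have h1 := M.card_mul_index
    rw [hidx, d.card, pow_succ] at h1
    exact Nat.eq_of_mul_eq_mul_right (by norm_num) h1
  have hD : d.D ≤ M := by
    unfold D
    rw [Subgroup.zpowers_le, d.a_two]
    exact Cfsg.Agent.Helper1.IsPGroup.pow_mem_coatom d.isPGroup hM d.x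
  by_cases hle : M ≤ Subgroup.zpowers d.x
  · left
    apply Subgroup.eq_of_le_of_card_ge hle
    rw [hMcard, Nat.card_zpowers, d.hx]
  · right
    obtain ⟨s, hsM, hsx⟩ := SetLike.not_le_iff_exists.mp hle
    rcases d.nf' s with ⟨i, rfl⟩ | ⟨i, rfl⟩
    · exact absurd (d.a_mem i) hsx
    · rcases d.even_or_odd i with ⟨j, rfl⟩ | ⟨j, rfl⟩
      · right
        symm
        apply Subgroup.eq_of_le_of_card_ge
        · rintro t ⟨k, rfl | rfl⟩
          · exact hD (d.a_even_mem_D k)
          · have : d.b (2 * k) = d.a (2 * (k - j)) * d.b (2 * j) := by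
              rw [d.a_mul_b]; congr 1; ring
            rw [this]
            exact M.mul_mem (hD (d.a_even_mem_D _)) hsM
        · rw [hMcard, d.card_Om]
      · left
        symm
        apply Subgroup.eq_of_le_of_card_ge
        · rintro t ⟨k, rfl | rfl⟩
          · exact hD (d.a_even_mem_D k)
          · have : d.b (2 * k + 1) = d.a (2 * (k - j)) * d.b (2 * j + 1) := by
              rw [d.a_mul_b]; congr 1; ring
            rw [this]
            exact M.mul_mem (hD (d.a_even_mem_D _)) hsM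
        · rw [hMcard, d.card_Qm]

end QDat

end Cfsg.Agent.Helper2.QD
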