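import Mathlib
import Cfsg.Agent.Helper2.QD9

set_option autoImplicit false

namespace Cfsg.Agent.Helper2.QD

variable {S : Type*} [Group S]

namespace QDat

variable (d : QDat S) [Finite S]

theorem a_comm_b_iff (k i : ZMod (2 ^ d.n)) :
    d.a k * d.b i = d.b i * d.a k ↔ k = 0 ∨ k = d.h := by
  rw [a_mul_b, b_mul_a, ← d.one_sub_E_mul_eq_zero_iff]
  constructor
  · intro h
    have := d.b_inj h
    linear_combination this
  · intro h
    congr 1
    linear_combination h

theorem b_comm_b_iff (k i : ZMod (2 ^ d.n)) :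
    d.b k * d.b i = d.b i * d.b k ↔ k = i ∨ k = i + d.h := by
  rw [b_mul_b, b_mul_b]
  have key : (1 - d.E) * (k - i) = 0 ↔ k = i ∨ k = i + d.h := by
    rw [d.one_sub_E_mul_eq_zero_iff, sub_eq_zero, sub_eq_iff_eq_add']
  rw [← key]
  constructor
  · intro h
    have := d.a_inj h
    linear_combination this
  · intro h
    congr 1
    linear_combination h

theorem mem_centralizer_b_iff (i : ZMod (2 ^ d.n)) (s : S) :
    s ∈ Subgroup.centralizer ({d.b i} : Set S) ↔
      s = 1 ∨ s = d.z ∨ s = d.b i ∨ s = d.b (i + d.h) := by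
  rw [Subgroup.mem_centralizer_iff]
  constructor
  · intro h
    have h1 := h (d.b i) rfl
    rcases d.nf' s with ⟨k, rfl⟩ | ⟨k, rfl⟩
    · rcases (d.a_comm_b_iff k i).mp h1.symm with rfl | rfl
      · left; exact d.a_zero
      · right; left; rfl
    · rcases (d.b_comm_b_iff k i).mp h1.symm with rfl | rfl
      · right; right; left; rfl
      · right; right; right; rfl
  · rintro (rfl | rfl | rfl | rfl) t ht
    · rw [Set.mem_singleton_iff] at ht; rw [ht]; simp
    · rw [Set.mem_singleton_iff] at ht; rw [ht]; exact (d.z_central _).symm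
    · rw [Set.mem_singleton_iff] at ht; rw [ht]
    · rw [Set.mem_singleton_iff] at ht; rw [ht]
      exact ((d.b_comm_b_iff (i + d.h) i).mpr (Or.inr rfl)).symm

theorem zpowers_inf_centralizer_b (i : ZMod (2 ^ d.n)) :
    Subgroup.zpowers d.x ⊓ Subgroup.centralizer ({d.b i} : Set S) = Subgroup.zpowers d.z := by
  apply le_antisymm
  · rintro s ⟨h1, h2⟩
    rcases (d.mem_centralizer_b_iff i s).mp h2 with rfl | rfl | rfl | rfl
    · exact Subgroup.one_mem _
    · exact Subgroup.mem_zpowers _
    · exact absurd h1 (d.b_not_mem _)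
    · exact absurd h1 (d.b_not_mem _)
  · rw [Subgroup.zpowers_le]
    refine ⟨d.a_mem _, ?_⟩
    exact (d.mem_centralizer_b_iff i d.z).mpr (Or.inr (Or.inl rfl))

theorem card_centralizer_b (i : ZMod (2 ^ d.n)) :
    Nat.card (Subgroup.centralizer ({d.b i} : Set S)) = 4 := by
  have hnle : ¬ Subgroup.centralizer ({d.b i} : Set S) ≤ Subgroup.zpowers d.x := by
    intro h
    exact d.b_not_mem i (h ((d.mem_centralizer_b_iff i _).mpr (Or.inr (Or.inr (Or.inl rfl)))))
  rw [d.card_eq_two_mul_inf _ hnle, d.zpowers_inf_centralizer_b, Nat.card_zpowers, d.orderOf_z]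

/-- a Klein four-subgroup contains some `b (2j)` -/
theorem klein_exists_b (T : Subgroup S) (hT : IsKleinFour T) : ∃ j, d.b (2 * j) ∈ T := by
  have hexp : ∀ t ∈ T, t * t = 1 := by
    intro t ht
    have h2 := hT.exponent_two
    have h3 : (⟨t, ht⟩ : T) ^ 2 = 1 := by
      rw [← h2]; exact Monoid.pow_exponent_eq_one _
    have h4 := congrArg Subtype.val h3
    simpa [pow_two] using h4
  by_cases hle : T ≤ Subgroup.zpowers d.x
  · exfalso
    have h1 : T ≤ Subgroup.zpowers d.z := by
      intro t ht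
      obtain ⟨i, rfl⟩ := (d.mem_zpowers_iff t).mp (hle ht)
      have h2 := hexp _ ht
      rw [← a_add, ← two_mul, a_eq_one_iff, d.two_mul_eq_zero_iff] at h2
      rcases h2 with rfl | rfl
      · rw [a_zero]; exact Subgroup.one_mem _
      · exact Subgroup.mem_zpowers _
    have h2 := Subgroup.card_le_of_le h1
    rw [Nat.card_zpowers, d.orderOf_z, hT.card_four] at h2
    omega
  · obtain ⟨t, htT, htx⟩ := SetLike.not_le_iff_exists.mp hle
    rcases d.nf' t with ⟨i, rfl⟩ | ⟨i, rfl⟩
    · exact absurd (d.a_mem i) htx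
    · rcases d.even_or_odd i with ⟨j, rfl⟩ | ⟨j, rfl⟩
      · exact ⟨j, htT⟩
      · exfalso
        have h2 := hexp _ htT
        rw [d.b_odd_sq] at h2
        exact d.z_ne_one h2

/-- a Klein four-subgroup is the centralizer of any of its non-rotations -/
theorem klein_eq_centralizer (T : Subgroup S) (hT : IsKleinFour T) (j : ZMod (2 ^ d.n))
    (hj : d.b (2 * j) ∈ T) : T = Subgroup.centralizer ({d.b (2 * j)} : Set S) := by
  have hcomm := hT.isMulCommutative
  apply Subgroup.eq_of_le_of_card_ge
  · intro t ht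
    rw [Subgroup.mem_centralizer_iff]
    intro s hs
    rw [Set.mem_singleton_iff] at hs
    rw [hs]
    have := hcomm.is_comm.comm (⟨d.b (2 * j), hj⟩ : T) ⟨t, ht⟩
    exact congrArg Subtype.val this
  · rw [d.card_centralizer_b, hT.card_four]

end QDat

end Cfsg.Agent.Helper2.QD
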