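import Mathlib
import Cfsg.Agent.Helper2.QD11

set_option autoImplicit false

namespace Cfsg.Agent.Helper2.Q8sub

open QuaternionGroup

variable {S : Type*} [Group S]

theorem quat_invol : ∀ s : QuaternionGroup 2, s * s = 1 → s = 1 ∨ s = a 2 := by decide

theorem quat_noncomm : (a 1 : QuaternionGroup 2) * xa 0 ≠ xa 0 * a 1 := by decide

theorem card (Q : Subgroup S) (e : Q ≃* QuaternionGroup 2) : Nat.card Q = 8 := by
  rw [Nat.card_congr e.toEquiv, Nat.card_eq_fintype_card, QuaternionGroup.card]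

theorem invol_unique (Q : Subgroup S) (e : Q ≃* QuaternionGroup 2) (s t : S) (hs : s ∈ Q)
    (ht : t ∈ Q) (hs2 : s * s = 1) (ht2 : t * t = 1) (hs1 : s ≠ 1) (ht1 : t ≠ 1) : s = t := by
  have h1 : e ⟨s, hs⟩ * e ⟨s, hs⟩ = 1 := by
    rw [← map_mul]
    have : (⟨s, hs⟩ : Q) * ⟨s, hs⟩ = 1 := Subtype.ext hs2
    rw [this, map_one]
  have h2 : e ⟨t, ht⟩ * e ⟨t, ht⟩ = 1 := by
    rw [← map_mul]
    have : (⟨t, ht⟩ : Q) * ⟨t, ht⟩ = 1 := Subtype.ext ht2
    rw [this, map_one]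
  have h3 : e ⟨s, hs⟩ ≠ 1 := by
    intro h
    apply hs1
    have := e.injective (h.trans (map_one e).symm)
    exact congrArg Subtype.val this
  have h4 : e ⟨t, ht⟩ ≠ 1 := by
    intro h
    apply ht1
    have := e.injective (h.trans (map_one e).symm)
    exact congrArg Subtype.val this
  have h5 : e ⟨s, hs⟩ = a 2 := (quat_invol _ h1).resolve_left h3
  have h6 : e ⟨t, ht⟩ = a 2 := (quat_invol _ h2).resolve_left h4
  have := e.injective (h5.trans h6.symm)
  exact congrArg Subtype.val this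

theorem nonabelian (Q : Subgroup S) (e : Q ≃* QuaternionGroup 2) :
    ∃ s ∈ Q, ∃ t ∈ Q, s * t ≠ t * s := by
  refine ⟨(e.symm (a 1) : S), (e.symm (a 1)).2, (e.symm (xa 0) : S), (e.symm (xa 0)).2, ?_⟩
  intro h
  apply quat_noncomm
  have h1 : e.symm (a 1) * e.symm (xa 0) = e.symm (xa 0) * e.symm (a 1) := Subtype.ext h
  rw [← map_mul, ← map_mul] at h1
  exact e.symm.injective h1

end Cfsg.Agent.Helper2.Q8sub

namespace Cfsg.Agent.Helper2.QD

variable {S : Type*} [Group S]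

namespace QDat

variable (d : QDat S) [Finite S]

theorem b_sq_one' (j : ZMod (2 ^ d.n)) : d.b (2 * j) * d.b (2 * j) = 1 := by
  have := d.orderOf_b_even j
  have h2 := pow_orderOf_eq_one (d.b (2 * j))
  rwa [this, pow_two] at h2

theorem b_ne_one' (i : ZMod (2 ^ d.n)) : d.b i ≠ 1 := fun h => d.b_ne_a i 0 (by rw [h, d.a_zero])

theorem q_ne_zero : d.q ≠ 0 := by
  intro h
  apply d.h_ne_zero
  rw [← d.two_q, h, mul_zero]

theorem q_ne_h : d.q ≠ d.h := by
  intro h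
  apply d.h_ne_zero
  have h1 := d.two_q
  rw [h, d.two_h] at h1
  exact h1.symm

theorem orderOf_a_q : orderOf (d.a d.q) = 4 := (d.orderOf_a_eq_four_iff _).mpr (Or.inl rfl)

theorem four_mul_eq_zero (k : ZMod (2 ^ d.n)) (h : 2 * (2 * k) = 0) :
    k = 0 ∨ k = d.h ∨ k = d.q ∨ k = d.q + d.h := by
  rcases (d.two_mul_eq_zero_iff _).mp h with h1 | h1
  · rcases (d.two_mul_eq_zero_iff _).mp h1 with h2 | h2
    · exact Or.inl h2
    · exact Or.inr (Or.inl h2)
  · have h3 : 2 * (k - d.q) = 0 := by rw [mul_sub, h1, d.two_q, sub_self]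
    rcases (d.two_mul_eq_zero_iff _).mp h3 with h2 | h2
    · exact Or.inr (Or.inr (Or.inl (sub_eq_zero.mp h2)))
    · right; right; right
      rw [← h2]; ring

/-- structure of a quaternion subgroup of order 8 -/
theorem q8_struct (Q : Subgroup S) (e : Q ≃* QuaternionGroup 2) :
    d.a d.q ∈ Q ∧ ∃ j, d.b (2 * j + 1) ∈ Q := by
  have hcard := Q8sub.card Q e
  have hnle : ¬ Q ≤ Subgroup.zpowers d.x := by
    intro hle
    obtain ⟨s, hs, t, ht, hst⟩ := Q8sub.nonabelian Q e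
    obtain ⟨i, rfl⟩ := (d.mem_zpowers_iff s).mp (hle hs)
    obtain ⟨j, rfl⟩ := (d.mem_zpowers_iff t).mp (hle ht)
    apply hst
    rw [← a_add, ← a_add, add_comm]
  have hinf : Nat.card (Subgroup.zpowers d.x ⊓ Q : Subgroup S) = 4 := by
    have := d.card_eq_two_mul_inf Q hnle
    omega
  -- z ∈ Q
  haveI : Fact (Nat.Prime 2) := ⟨Nat.prime_two⟩
  have hz : d.z ∈ Q := by
    obtain ⟨g, hg⟩ := exists_prime_orderOf_dvd_card' 2
      (show 2 ∣ Nat.card (Subgroup.zpowers d.x ⊓ Q : Subgroup S) by rw [hinf]; norm_num)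
    have hgo : orderOf (g : S) = 2 := by rw [Subgroup.orderOf_coe]; exact hg
    obtain ⟨i, hi⟩ := (d.mem_zpowers_iff _).mp g.2.1
    rw [hi, d.orderOf_a_eq_two_iff] at hgo
    have : d.z = (g : S) := by rw [hi, hgo]; rfl
    rw [this]; exact g.2.2
  -- some b i in Q, with i odd
  obtain ⟨s, hsQ, hsx⟩ := SetLike.not_le_iff_exists.mp hnle
  have hb : ∃ j, d.b (2 * j + 1) ∈ Q := by
    rcases d.nf' s with ⟨i, rfl⟩ | ⟨i, rfl⟩
    · exact absurd (d.a_mem i) hsx
    · rcases d.even_or_odd i with ⟨j, rfl⟩ | ⟨j, rfl⟩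
      · exfalso
        have h1 := Q8sub.invol_unique Q e _ _ hsQ hz (d.b_sq_one' j) d.z_sq (d.b_ne_one' _)
          d.z_ne_one
        exact d.b_ne_a _ _ h1
      · exact ⟨j, hsQ⟩
  refine ⟨?_, hb⟩
  -- an element of order 4 in Q ∩ ⟨x⟩
  have hnle2 : ¬ (Subgroup.zpowers d.x ⊓ Q : Subgroup S) ≤ Subgroup.zpowers d.z := by
    intro hle
    have := Subgroup.card_le_of_le hle
    rw [hinf, Nat.card_zpowers, d.orderOf_z] at this
    omega
  obtain ⟨g, hg, hgz⟩ := SetLike.not_le_iff_exists.mp hnle2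
  obtain ⟨k, rfl⟩ := (d.mem_zpowers_iff g).mp hg.1
  have hg4 : (d.a k) ^ 4 = 1 := by
    have h1 : (⟨d.a k, hg⟩ : (Subgroup.zpowers d.x ⊓ Q : Subgroup S)) ^ 4 = 1 := by
      rw [← hinf]; exact pow_card_eq_one'
    exact congrArg Subtype.val h1
  rw [a_pow, a_eq_one_iff] at hg4
  have hg4' : 2 * (2 * k) = 0 := by
    have : ((4 : ℕ) : ZMod (2 ^ d.n)) * k = 2 * (2 * k) := by push_cast; ring
    rw [← this]; exact hg4
  rcases d.four_mul_eq_zero k hg4' with rfl | rfl | rfl | rfl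
  · exfalso; apply hgz; rw [a_zero]; exact Subgroup.one_mem _
  · exfalso; apply hgz; exact Subgroup.mem_zpowers _
  · exact hg.2
  · have h1 : d.a d.q = (d.a (d.q + d.h))⁻¹ := by
      rw [a_inv]; congr 1
      have := d.neg_q
      linear_combination (-1 : ZMod (2 ^ d.n)) * this
    rw [h1]
    exact Q.inv_mem hg.2

end QDat

end Cfsg.Agent.Helper2.QD
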