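import Mathlib

set_option autoImplicit false

namespace Cfsg.Agent.Helper2.SylowInt

open Subgroup

variable {G : Type*} [Group G]

/-- Normalizers grow in finite `p`-groups. -/
theorem exists_mem_normalizer_not_mem [Finite G] {p : ℕ} [Fact p.Prime] (P : Subgroup G)
    (hP : IsPGroup p P) (D : Subgroup G) (hDP : D ≤ P) (hne : D ≠ P) :
    ∃ x ∈ P, x ∈ normalizer (D : Set G) ∧ x ∉ D := by
  have hnil : Group.IsNilpotent P := hP.isNilpotent
  have hlt : D.subgroupOf P < ⊤ := by
    rw [lt_top_iff_ne_top]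
    intro h
    rw [Subgroup.subgroupOf_eq_top] at h
    exact hne (le_antisymm hDP h)
  have h1 := normalizerCondition_of_isNilpotent (G := ↥P) (D.subgroupOf P) hlt
  obtain ⟨x, hx, hxn⟩ := SetLike.exists_of_lt h1
  rw [← Subgroup.subgroupOf_normalizer_eq hDP] at hx
  exact ⟨x.1, x.2, Subgroup.mem_subgroupOf.mp hx, fun h => hxn (Subgroup.mem_subgroupOf.mpr h)⟩

/-- A normal `p`-subgroup lies in every Sylow `p`-subgroup. -/
theorem normal_le_sylow [Finite G] {p : ℕ} [Fact p.Prime] (K : Subgroup G) [K.Normal]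
    (hK : IsPGroup p K) (S : Sylow p G) : K ≤ (S : Subgroup G) := by
  have h1 : IsPGroup p ((S : Subgroup G) ⊔ K : Subgroup G) := S.isPGroup'.to_sup_of_normal_right hK
  have h2 := S.is_maximal' h1 le_sup_left
  rw [← h2]
  exact le_sup_right

/-- A `p`-subgroup inside `N` lies in a Sylow `p`-subgroup of `N`. -/
theorem exists_sylow_ge [Finite G] {p : ℕ} [Fact p.Prime] (N H : Subgroup G)
    (hH : IsPGroup p H) : ∃ S : Sylow p N, H.subgroupOf N ≤ (S : Subgroup N) := by
  have h1 : IsPGroup p (H.subgroupOf N) := hH.comap_subtype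
  exact h1.exists_le_sylow

/-- All Sylow `p`-subgroups have the same order. -/
theorem card_sylow_eq [Finite G] {p : ℕ} [Fact p.Prime] (S T : Sylow p G) :
    Nat.card (S : Subgroup G) = Nat.card (T : Subgroup G) := by
  rw [Sylow.card_eq_multiplicity, Sylow.card_eq_multiplicity]

/-- A `p`-subgroup is at most as large as a Sylow `p`-subgroup. -/
theorem card_le_card_sylow [Finite G] {p : ℕ} [Fact p.Prime] (H : Subgroup G) (hH : IsPGroup p H)
    (S : Sylow p G) : Nat.card H ≤ Nat.card (S : Subgroup G) := by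
  obtain ⟨T, hT⟩ := hH.exists_le_sylow
  rw [card_sylow_eq S T]
  exact Subgroup.card_le_of_le hT

end Cfsg.Agent.Helper2.SylowInt
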