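import Mathlib
import Cfsg.Agent.Helper2.QD12
import Cfsg.Agent.Helper2.SylowInt

set_option autoImplicit false

namespace Cfsg.Agent.Helper2.QD

variable {S : Type*} [Group S]

namespace QDat

variable (d : QDat S) [Finite S]

theorem q8_eq_sup (Q : Subgroup S) (e : Q ≃* QuaternionGroup 2) (j : ZMod (2 ^ d.n))
    (hj : d.b (2 * j + 1) ∈ Q) :
    Q = Subgroup.zpowers (d.a d.q) ⊔ Subgroup.zpowers (d.b (2 * j + 1)) := by
  have haq := (d.q8_struct Q e).1
  symm
  apply Subgroup.eq_of_le_of_card_ge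
  · exact sup_le (Subgroup.zpowers_le.mpr haq) (Subgroup.zpowers_le.mpr hj)
  · set K := Subgroup.zpowers (d.a d.q) ⊔ Subgroup.zpowers (d.b (2 * j + 1)) with hK
    have hnle : ¬ K ≤ Subgroup.zpowers d.x := by
      intro h
      exact d.b_not_mem _ (h (le_sup_right (a := Subgroup.zpowers (d.a d.q))
        (Subgroup.mem_zpowers (d.b (2 * j + 1)))))
    have h1 := d.card_eq_two_mul_inf K hnle
    have h2 : Nat.card (Subgroup.zpowers (d.a d.q)) ≤
        Nat.card (Subgroup.zpowers d.x ⊓ K : Subgroup S) :=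
      Subgroup.card_le_of_le (le_inf (Subgroup.zpowers_le.mpr (d.a_mem _)) le_sup_left)
    rw [Nat.card_zpowers, d.orderOf_a_q] at h2
    rw [Q8sub.card Q e]
    omega

theorem q8_centralizer (Q : Subgroup S) (e : Q ≃* QuaternionGroup 2) :
    Subgroup.centralizer (Q : Set S) = Subgroup.zpowers d.z := by
  obtain ⟨haq, j, hj⟩ := d.q8_struct Q e
  apply le_antisymm
  · intro s hs
    have h1 : s ∈ Subgroup.centralizer ({d.b (2 * j + 1)} : Set S) :=
      Subgroup.centralizer_le (Set.singleton_subset_iff.mpr hj) hs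
    have h2 : d.a d.q * s = s * d.a d.q := Subgroup.mem_centralizer_iff.mp hs _ haq
    have hno : ∀ i, d.a d.q * d.b i ≠ d.b i * d.a d.q := by
      intro i h
      rcases (d.a_comm_b_iff d.q i).mp h with h3 | h3
      · exact d.q_ne_zero h3
      · exact d.q_ne_h h3
    rcases (d.mem_centralizer_b_iff _ s).mp h1 with rfl | rfl | rfl | rfl
    · exact Subgroup.one_mem _
    · exact Subgroup.mem_zpowers _
    · exact absurd h2 (hno _)
    · exact absurd h2 (hno _)
  · rw [Subgroup.zpowers_le, Subgroup.mem_centralizer_iff]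
    intro t _
    exact (d.z_central t).symm

theorem z_mem_q8 (Q : Subgroup S) (e : Q ≃* QuaternionGroup 2) : d.z ∈ Q := by
  have haq := (d.q8_struct Q e).1
  have : d.z = d.a d.q * d.a d.q := by
    unfold z; rw [← a_add, ← two_mul, d.two_q]
  rw [this]
  exact Q.mul_mem haq haq

theorem q8_center_map (Q : Subgroup S) (e : Q ≃* QuaternionGroup 2) :
    (Subgroup.center Q).map Q.subtype = Subgroup.zpowers d.z := by
  apply le_antisymm
  · rw [← d.q8_centralizer Q e]
    rintro _ ⟨s, hs, rfl⟩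
    rw [Subgroup.mem_centralizer_iff]
    intro t ht
    have := Subgroup.mem_center_iff.mp hs ⟨t, ht⟩
    exact congrArg Subtype.val this
  · rw [Subgroup.zpowers_le]
    refine ⟨⟨d.z, d.z_mem_q8 Q e⟩, ?_, rfl⟩
    rw [SetLike.mem_coe, Subgroup.mem_center_iff]
    intro g
    apply Subtype.ext
    exact (d.z_central g.1).symm

theorem eight_mul_eq_zero_of (k : ZMod (2 ^ d.n)) (h : 4 * ((1 - d.E) * k) = 0) : 8 * k = 0 := by
  rw [d.one_sub_E] at h
  calc 8 * k = ((1 - d.q) * d.u) * (8 * k) := by rw [d.one_sub_q_mul_u, one_mul]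
    _ = d.u * (4 * (2 * (1 - d.q) * k)) := by ring
    _ = 0 := by rw [h, mul_zero]

theorem q8_relIndex (d : QDat S) (Q : Subgroup S) (e : Q ≃* QuaternionGroup 2) :
    Q.relIndex (Subgroup.normalizer (Q : Set S)) = 2 := by
  obtain ⟨haq, j, hj⟩ := d.q8_struct Q e
  have hcard := Q8sub.card Q e
  set N := Subgroup.normalizer (Q : Set S) with hN
  have hQN : Q ≤ N := Subgroup.le_normalizer
  have hnle : ¬ N ≤ Subgroup.zpowers d.x := fun h => d.b_not_mem _ (h (hQN hj))
  have h1 := d.card_eq_two_mul_inf N hnle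
  -- the intersection with ⟨x⟩ has exponent dividing 8
  have hexp : ∀ g ∈ (Subgroup.zpowers d.x ⊓ N : Subgroup S), g ^ 8 = 1 := by
    rintro g ⟨hgx, hgN⟩
    obtain ⟨k, rfl⟩ := (d.mem_zpowers_iff g).mp hgx
    have h2 : d.a k * d.b (2 * j + 1) * (d.a k)⁻¹ ∈ Q :=
      (Subgroup.mem_normalizer_iff.mp hgN _).mp hj
    rw [d.conj_a_b] at h2
    have h3 : d.a ((1 - d.E) * k) ∈ Q := by
      have : d.a ((1 - d.E) * k) = d.b (2 * j + 1 + (1 - d.E) * k) * (d.b (2 * j + 1))⁻¹ := by
        rw [b_inv, b_mul_b]; congr 1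
        have := d.E_sq
        linear_combination (2 * j + 1) * this
      rw [this]
      exact Q.mul_mem h2 (Q.inv_mem hj)
    -- it lies in Q ∩ ⟨x⟩ of order 4
    have hnleQ : ¬ Q ≤ Subgroup.zpowers d.x := fun h => d.b_not_mem _ (h hj)
    have hinf : Nat.card (Subgroup.zpowers d.x ⊓ Q : Subgroup S) = 4 := by
      have := d.card_eq_two_mul_inf Q hnleQ
      omega
    have h4 : (d.a ((1 - d.E) * k)) ^ 4 = 1 := by
      have h5 : (⟨d.a ((1 - d.E) * k), ⟨d.a_mem _, h3⟩⟩ :
          (Subgroup.zpowers d.x ⊓ Q : Subgroup S)) ^ 4 = 1 := by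
        rw [← hinf]; exact pow_card_eq_one'
      exact congrArg Subtype.val h5
    rw [a_pow, a_eq_one_iff] at h4
    have h6 : (4 : ZMod (2 ^ d.n)) * ((1 - d.E) * k) = 0 := by
      have : ((4 : ℕ) : ZMod (2 ^ d.n)) = 4 := by norm_num
      rw [← this]; exact h4
    have h7 := d.eight_mul_eq_zero_of k h6
    rw [a_pow, a_eq_one_iff]
    have : ((8 : ℕ) : ZMod (2 ^ d.n)) = 8 := by norm_num
    rw [this]; exact h7
  -- the intersection is cyclic, so of order dividing 8
  have hKle : (Subgroup.zpowers d.x ⊓ N : Subgroup S) ≤ Subgroup.zpowers d.x := inf_le_left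
  haveI hcyc : IsCyclic (Subgroup.zpowers d.x ⊓ N : Subgroup S) := by
    have e' := Subgroup.subgroupOfEquivOfLe hKle
    exact isCyclic_of_surjective e' e'.surjective
  obtain ⟨g, hg⟩ := IsCyclic.exists_generator (α := (Subgroup.zpowers d.x ⊓ N : Subgroup S))
  have h8 : Nat.card (Subgroup.zpowers d.x ⊓ N : Subgroup S) ∣ 8 := by
    rw [← orderOf_eq_card_of_forall_mem_zpowers hg]
    apply orderOf_dvd_of_pow_eq_one
    apply Subtype.ext
    exact hexp g.1 g.2
  have h9 := Nat.le_of_dvd (by norm_num) h8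
  -- relIndex
  have h10 := Subgroup.relIndex_mul_relIndex ⊥ Q N bot_le hQN
  rw [Subgroup.relIndex_bot_left, Subgroup.relIndex_bot_left, hcard] at h10
  have h11 : Q.relIndex N ≠ 1 := by
    intro h
    have hle := Subgroup.relIndex_eq_one.mp h
    haveI : Fact (Nat.Prime 2) := ⟨Nat.prime_two⟩
    obtain ⟨x, _, hxN, hxT⟩ := SylowInt.exists_mem_normalizer_not_mem (⊤ : Subgroup S)
      (d.isPGroup.to_subgroup ⊤) Q le_top (by
        intro htop
        rw [htop, Subgroup.card_top, d.card] at hcard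
        have hn := d.hn
        have h8 : 2 ^ 4 ≤ 2 ^ (d.n + 1) := Nat.pow_le_pow_right (by norm_num) (by omega)
        omega)
    exact hxT (hle hxN)
  have h12 : Q.relIndex N ≠ 0 := by
    intro h; rw [h, mul_zero] at h10
    have := Nat.card_pos (α := N)
    omega
  have h13 : Q.relIndex N ≤ 2 := by
    by_contra hgt
    push Not at hgt
    have : 8 * 3 ≤ 8 * Q.relIndex N := Nat.mul_le_mul_left 8 hgt
    omega
  omega

end QDat

end Cfsg.Agent.Helper2.QD
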