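import Mathlib
import Cfsg.Agent.Helper2.QD13
import Cfsg.Agent.Helper2.QD10
import Cfsg.Agent.Helper2.QDF1

set_option autoImplicit false

/-! Quasidihedral data on a subgroup `S` of `G`, with the elements viewed in `G`. -/

namespace Cfsg.Agent.Helper2.QDF

open Cfsg.Agent.Helper2.QD

variable {G : Type*} [Group G] [Finite G] {S : Subgroup G} (d : QDat ↥S)

/-- rotation `x^i` in `G` -/
def A (i : ZMod (2 ^ d.n)) : G := ((d.a i : ↥S) : G)
/-- `x^i y` in `G` -/
def B (i : ZMod (2 ^ d.n)) : G := ((d.b i : ↥S) : G)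
/-- the central involution of `S` in `G` -/
def Z : G := ((d.z : ↥S) : G)

theorem A_mem (i : ZMod (2 ^ d.n)) : A d i ∈ S := (d.a i).2
theorem B_mem (i : ZMod (2 ^ d.n)) : B d i ∈ S := (d.b i).2
theorem Z_mem : Z d ∈ S := (d.z).2

theorem Z_eq : Z d = A d d.h := rfl

theorem A_mul_A (i j : ZMod (2 ^ d.n)) : A d i * A d j = A d (i + j) := by
  unfold A; rw [← Subgroup.coe_mul, ← d.a_add]

theorem A_mul_B (i j : ZMod (2 ^ d.n)) : A d i * B d j = B d (i + j) := by
  unfold A B; rw [← Subgroup.coe_mul, d.a_mul_b]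

theorem B_mul_A (i j : ZMod (2 ^ d.n)) : B d i * A d j = B d (i + d.E * j) := by
  unfold A B; rw [← Subgroup.coe_mul, d.b_mul_a]

theorem B_mul_B (i j : ZMod (2 ^ d.n)) : B d i * B d j = A d (i + d.E * j) := by
  unfold A B; rw [← Subgroup.coe_mul, d.b_mul_b]

theorem A_inv (i : ZMod (2 ^ d.n)) : (A d i)⁻¹ = A d (-i) := by
  unfold A; rw [← Subgroup.coe_inv, d.a_inv]

theorem B_inv (i : ZMod (2 ^ d.n)) : (B d i)⁻¹ = B d (-(d.E * i)) := by
  unfold B; rw [← Subgroup.coe_inv, d.b_inv]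

theorem A_zero : A d 0 = 1 := by
  unfold A; rw [d.a_zero]; rfl

theorem A_inj {i j : ZMod (2 ^ d.n)} (h : A d i = A d j) : i = j :=
  d.a_inj (Subtype.ext h)

theorem B_inj {i j : ZMod (2 ^ d.n)} (h : B d i = B d j) : i = j :=
  d.b_inj (Subtype.ext h)

theorem B_ne_A (i j : ZMod (2 ^ d.n)) : B d i ≠ A d j := fun h =>
  d.b_ne_a i j (Subtype.ext h)

theorem nf (s : G) (hs : s ∈ S) : (∃ i, s = A d i) ∨ (∃ i, s = B d i) := by
  rcases d.nf' ⟨s, hs⟩ with ⟨i, hi⟩ | ⟨i, hi⟩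
  · left; exact ⟨i, congrArg Subtype.val hi⟩
  · right; exact ⟨i, congrArg Subtype.val hi⟩

theorem conj_A_A (k i : ZMod (2 ^ d.n)) : A d k * A d i * (A d k)⁻¹ = A d i := by
  rw [A_inv, A_mul_A, A_mul_A]; congr 1; ring

theorem conj_B_A (k i : ZMod (2 ^ d.n)) : B d k * A d i * (B d k)⁻¹ = A d (d.E * i) := by
  unfold A B; rw [← Subgroup.coe_inv, ← Subgroup.coe_mul, ← Subgroup.coe_mul, d.conj_b_a]

theorem conj_A_B (k i : ZMod (2 ^ d.n)) :
    A d k * B d i * (A d k)⁻¹ = B d (i + (1 - d.E) * k) := by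
  unfold A B; rw [← Subgroup.coe_inv, ← Subgroup.coe_mul, ← Subgroup.coe_mul, d.conj_a_b]

theorem conj_B_B (k i : ZMod (2 ^ d.n)) :
    B d k * B d i * (B d k)⁻¹ = B d (d.E * i + (1 - d.E) * k) := by
  unfold B; rw [← Subgroup.coe_inv, ← Subgroup.coe_mul, ← Subgroup.coe_mul, d.conj_b_b]

theorem orderOf_A (i : ZMod (2 ^ d.n)) : orderOf (A d i) = orderOf (d.a i) :=
  Subgroup.orderOf_coe _

theorem orderOf_B (i : ZMod (2 ^ d.n)) : orderOf (B d i) = orderOf (d.b i) :=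
  Subgroup.orderOf_coe _

theorem Z_central (s : G) (hs : s ∈ S) : Z d * s = s * Z d := by
  have := congrArg Subtype.val (d.z_central ⟨s, hs⟩)
  rw [Subgroup.coe_mul, Subgroup.coe_mul] at this
  exact this

theorem Z_sq : Z d * Z d = 1 := by
  have := congrArg Subtype.val d.z_sq
  rw [Subgroup.coe_mul] at this
  exact this

theorem Z_ne_one : Z d ≠ 1 := fun h => d.z_ne_one (Subtype.ext h)

theorem orderOf_Z : orderOf (Z d) = 2 := (Subgroup.orderOf_coe _).trans d.orderOf_z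

theorem Z_mul_B (i : ZMod (2 ^ d.n)) : Z d * B d i = B d (i + d.h) := by
  rw [Z_eq, A_mul_B, add_comm]

theorem orderOf_B_even (j : ZMod (2 ^ d.n)) : orderOf (B d (2 * j)) = 2 :=
  (orderOf_B d _).trans (d.orderOf_b_even j)

theorem orderOf_B_odd (j : ZMod (2 ^ d.n)) : orderOf (B d (2 * j + 1)) = 4 :=
  (orderOf_B d _).trans (d.orderOf_b_odd j)

theorem orderOf_A_q : orderOf (A d d.q) = 4 := (orderOf_A d _).trans d.orderOf_a_q

/-- involutions of `S` -/
theorem invol_cases (s : G) (hs : s ∈ S) (ho : orderOf s = 2) :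
    s = Z d ∨ ∃ j, s = B d (2 * j) := by
  have h1 : orderOf (⟨s, hs⟩ : ↥S) = 2 := (Subgroup.orderOf_mk s hs).trans ho
  rcases (d.orderOf_eq_two_iff _).mp h1 with h | ⟨j, h⟩
  · left; exact congrArg Subtype.val h
  · right; exact ⟨j, congrArg Subtype.val h⟩

/-- elements of order four of `S` -/
theorem order_four_cases (s : G) (hs : s ∈ S) (ho : orderOf s = 4) :
    s = A d d.q ∨ s = A d (d.q + d.h) ∨ ∃ j, s = B d (2 * j + 1) := by
  rcases nf d s hs with ⟨i, rfl⟩ | ⟨i, rfl⟩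
  · rw [orderOf_A, d.orderOf_a_eq_four_iff] at ho
    rcases ho with rfl | rfl
    · left; rfl
    · right; left; rfl
  · rcases d.even_or_odd i with ⟨j, rfl⟩ | ⟨j, rfl⟩
    · rw [orderOf_B_even] at ho; omega
    · right; right; exact ⟨j, rfl⟩

theorem isConj_B_even (j : ZMod (2 ^ d.n)) : ∃ s ∈ S, s * B d (2 * j) * s⁻¹ = B d 0 := by
  obtain ⟨c, hc⟩ := isConj_iff.mp (d.isConj_b_even j)
  refine ⟨c, c.2, ?_⟩
  have := congrArg Subtype.val hc
  rw [Subgroup.coe_mul, Subgroup.coe_mul, Subgroup.coe_inv] at this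
  exact this

theorem isConj_B_odd (j : ZMod (2 ^ d.n)) : ∃ s ∈ S, s * B d (2 * j + 1) * s⁻¹ = B d 1 := by
  obtain ⟨c, hc⟩ := isConj_iff.mp (d.isConj_b_odd j)
  refine ⟨c, c.2, ?_⟩
  have := congrArg Subtype.val hc
  rw [Subgroup.coe_mul, Subgroup.coe_mul, Subgroup.coe_inv] at this
  exact this

theorem A_neg_q : A d (d.q + d.h) = (A d d.q)⁻¹ := by
  rw [A_inv, d.neg_q]

/-- `B 0` inverts `A q` -/
theorem conj_B_A_q (k : ZMod (2 ^ d.n)) : B d k * A d d.q * (B d k)⁻¹ = (A d d.q)⁻¹ := by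
  rw [conj_B_A, d.E_mul_q, A_inv]

/-- every element of `S` conjugates `A q` to itself or its inverse -/
theorem S_le_invNorm_A_q : S ≤ invNorm (A d d.q) := by
  intro s hs
  rw [mem_invNorm]
  rcases nf d s hs with ⟨i, rfl⟩ | ⟨i, rfl⟩
  · left; exact conj_A_A d i d.q
  · right; exact conj_B_A_q d i

/-- `(1 - E) q = h` -/
theorem one_sub_E_mul_q : (1 - d.E) * d.q = d.h := by
  rw [sub_mul, one_mul, d.E_mul_q, sub_neg_eq_add, ← two_mul, d.two_q]

/-- `A q` conjugates `B i` to `Z * B i` -/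
theorem conj_A_q_B (i : ZMod (2 ^ d.n)) : A d d.q * B d i * (A d d.q)⁻¹ = Z d * B d i := by
  rw [conj_A_B, one_sub_E_mul_q, Z_mul_B]

theorem conj_A_q_Z : A d d.q * Z d * (A d d.q)⁻¹ = Z d := by
  rw [Z_eq]; exact conj_A_A d _ _

/-- structure of a Klein four-subgroup of `S` -/
theorem klein_struct (T : Subgroup G) (hT : IsKleinFour T) (hTS : T ≤ S) :
    ∃ j, ∀ x : G, x ∈ T ↔ x = 1 ∨ x = Z d ∨ x = B d (2 * j) ∨ x = Z d * B d (2 * j) := by
  have hT' : IsKleinFour (T.subgroupOf S) :=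
    isKleinFour_of_mulEquiv (Subgroup.subgroupOfEquivOfLe hTS).symm hT
  obtain ⟨j, hj⟩ := d.klein_exists_b _ hT'
  have heq := d.klein_eq_centralizer _ hT' j hj
  refine ⟨j, fun x => ?_⟩
  constructor
  · intro hx
    have h1 : (⟨x, hTS hx⟩ : ↥S) ∈ T.subgroupOf S := by
      rw [Subgroup.mem_subgroupOf]; exact hx
    rw [heq, d.mem_centralizer_b_iff] at h1
    rcases h1 with h | h | h | h
    · left; exact congrArg Subtype.val h
    · right; left; exact congrArg Subtype.val h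
    · right; right; left; exact congrArg Subtype.val h
    · right; right; right
      rw [Z_mul_B]; exact congrArg Subtype.val h
  · intro hx
    have key : ∀ s : ↥S, s ∈ Subgroup.centralizer ({d.b (2 * j)} : Set ↥S) → (s : G) ∈ T := by
      intro s hs
      rw [← heq, Subgroup.mem_subgroupOf] at hs
      exact hs
    rcases hx with rfl | rfl | rfl | rfl
    · exact T.one_mem
    · exact key d.z ((d.mem_centralizer_b_iff _ _).mpr (Or.inr (Or.inl rfl)))
    · exact key (d.b (2 * j)) ((d.mem_centralizer_b_iff _ _).mpr (Or.inr (Or.inr (Or.inl rfl))))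
    · rw [Z_mul_B]
      exact key (d.b (2 * j + d.h))
        ((d.mem_centralizer_b_iff _ _).mpr (Or.inr (Or.inr (Or.inr rfl))))

end Cfsg.Agent.Helper2.QDF
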