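import Mathlib
import Cfsg.Agent.Helper2.QDF2
import Cfsg.Agent.Helper2.OddAut

set_option autoImplicit false

/-! Fusion of involutions in a group with quasidihedral Sylow 2-subgroups, controlled by the
automizer of a Klein four-subgroup. -/

namespace Cfsg.Agent.Helper2.QDF

open Cfsg.Agent.Helper2.QD

variable {G : Type*} [Group G] [Finite G]

theorem B_ne_one (S : Subgroup G) (d : QDat ↥S) (i : ZMod (2 ^ d.n)) : B d i ≠ 1 := by
  intro h
  apply B_ne_A d i 0
  rw [h, A_zero]

/-- automizer of order six: the central involution is fused to a non-central one -/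
theorem F1_fusion (S : Sylow 2 G) (d : QDat ↥(S : Subgroup G)) (T : Subgroup G)
    (hT : IsKleinFour T) (hTS : T ≤ S)
    (h₁ : (Subgroup.centralizer (T : Set G)).relIndex (Subgroup.normalizer (T : Set G)) = 6) :
    ∃ g : G, g * Z d * g⁻¹ = B d 0 := by
  classical
  obtain ⟨j, hmemU⟩ := klein_struct d T hT hTS
  have hz1 : Z d ≠ 1 := Z_ne_one d
  have hu1 : B d (2 * j) ≠ 1 := B_ne_one _ d _
  have hzu : Z d ≠ B d (2 * j) := by
    rw [Z_eq]; exact (B_ne_A d _ _).symm
  suffices hsuff : ∃ g : G, g * Z d * g⁻¹ = B d (2 * j) by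
    obtain ⟨g, hg⟩ := hsuff
    obtain ⟨s, -, hs⟩ := isConj_B_even d j
    refine ⟨s * g, ?_⟩
    rw [← hs, ← hg]; group
  have h3 : 3 ∣ (Subgroup.centralizer (T : Set G)).relIndex (Subgroup.normalizer (T : Set G)) := by
    rw [h₁]; exact ⟨2, rfl⟩
  have hker : (T.normalizerMonoidHom).ker.index =
      (Subgroup.centralizer (T : Set G)).relIndex (Subgroup.normalizer (T : Set G)) := by
    rw [Subgroup.normalizerMonoidHom_ker T]
    rfl
  have h3' : 3 ∣ Nat.card (T.normalizerMonoidHom).range := by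
    rw [← Subgroup.index_ker, hker]; exact h3
  haveI : Fact (Nat.Prime 3) := ⟨Nat.prime_three⟩
  haveI : Finite T := inferInstance
  obtain ⟨σ', hσ'⟩ := exists_prime_orderOf_dvd_card' 3 h3'
  obtain ⟨σ, hσσ'⟩ : ∃ σ : MulAut T, σ = (σ' : MulAut T) := ⟨_, rfl⟩
  obtain ⟨⟨g, hg⟩, hgσ'⟩ := σ'.2
  have hgσ : T.normalizerMonoidHom ⟨g, hg⟩ = σ := by rw [hσσ']; exact hgσ'
  have hσ : orderOf σ = 3 := by
    rw [hσσ', Subgroup.orderOf_coe]; exact hσ'
  have hact : ∀ x : T, ((σ x : T) : G) = g * x * g⁻¹ := by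
    intro x
    rw [← hgσ]
    exact Subgroup.normalizerMonoidHom_apply_apply_coe T ⟨g, hg⟩ x
  -- fixed points
  have hmod := Cfsg.Agent.Helper2.OddAut.card_modEq_fixSub σ 3 hσ
  have hcU : Nat.card T = 4 := hT.card_four
  have hfix1 : Nat.card (Cfsg.Agent.Helper2.OddAut.fixSub σ) = 1 := by
    have hdvd : Nat.card (Cfsg.Agent.Helper2.OddAut.fixSub σ) ∣ 4 := by
      rw [← hcU]; exact Subgroup.card_subgroup_dvd_card _
    have hne : Nat.card (Cfsg.Agent.Helper2.OddAut.fixSub σ) ≠ 4 := by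
      intro h4
      have htop : Cfsg.Agent.Helper2.OddAut.fixSub σ = ⊤ := by
        rw [← Subgroup.card_eq_iff_eq_top, h4, hcU]
      have hσ1 : σ = 1 := by
        by_contra hne1
        exact Cfsg.Agent.Helper2.OddAut.fixSub_ne_top σ hne1 htop
      rw [hσ1, orderOf_one] at hσ
      omega
    rw [hcU] at hmod
    have hm : 4 % 3 = Nat.card (Cfsg.Agent.Helper2.OddAut.fixSub σ) % 3 := hmod
    generalize Nat.card (Cfsg.Agent.Helper2.OddAut.fixSub σ) = nn at hdvd hne hm ⊢
    have h22 : nn ∣ 2 ^ 2 := hdvd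
    obtain ⟨j, hj2, rfl⟩ := (Nat.dvd_prime_pow Nat.prime_two).mp h22
    interval_cases j
    · rfl
    · omega
    · omega
  have hnofix : ∀ x : T, σ x = x → x = 1 := by
    intro x hx
    have hxm : x ∈ Cfsg.Agent.Helper2.OddAut.fixSub σ := hx
    have hbot : Cfsg.Agent.Helper2.OddAut.fixSub σ = ⊥ := Subgroup.card_eq_one.mp hfix1
    rw [hbot, Subgroup.mem_bot] at hxm
    exact hxm
  have hzU : Z d ∈ T := by rw [hmemU]; right; left; rfl
  have huU : B d (2 * j) ∈ T := by rw [hmemU]; right; right; left; rfl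
  have hσz : ((σ ⟨Z d, hzU⟩ : T) : G) ∈ T := (σ ⟨Z d, hzU⟩).2
  rw [hmemU, hact] at hσz
  have hgz1 : g * Z d * g⁻¹ ≠ 1 := by
    intro h
    apply hz1
    calc Z d = g⁻¹ * (g * Z d * g⁻¹) * g := by group
      _ = 1 := by rw [h]; group
  have hgzz : g * Z d * g⁻¹ ≠ Z d := by
    intro h
    have : σ ⟨Z d, hzU⟩ = ⟨Z d, hzU⟩ := Subtype.ext (by rw [hact]; exact h)
    have := hnofix _ this
    exact hz1 (congrArg Subtype.val this)
  rcases hσz with h | h | h | h
  · exact absurd h hgz1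
  · exact absurd h hgzz
  · exact ⟨g, h⟩
  · -- g z g⁻¹ = z u, then g u g⁻¹ = z
    have hσu : ((σ ⟨B d (2 * j), huU⟩ : T) : G) ∈ T := (σ ⟨B d (2 * j), huU⟩).2
    rw [hmemU, hact] at hσu
    change g * Z d * g⁻¹ = Z d * B d (2 * j) at h
    rcases hσu with h' | h' | h' | h'
    · exfalso
      apply hu1
      change g * B d (2 * j) * g⁻¹ = 1 at h'
      calc B d (2 * j) = g⁻¹ * (g * B d (2 * j) * g⁻¹) * g := by group
        _ = 1 := by rw [h']; group
    · change g * B d (2 * j) * g⁻¹ = Z d at h'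
      refine ⟨g⁻¹, ?_⟩
      rw [← h']; group
    · exfalso
      have : σ ⟨B d (2 * j), huU⟩ = ⟨B d (2 * j), huU⟩ := Subtype.ext (by rw [hact]; exact h')
      have := hnofix _ this
      exact hu1 (congrArg Subtype.val this)
    · exfalso
      change g * B d (2 * j) * g⁻¹ = Z d * B d (2 * j) at h'
      apply hzu
      have : g * Z d * g⁻¹ = g * B d (2 * j) * g⁻¹ := by rw [h, h']
      exact conj_cancel this

theorem conj_eq_of_mem_centralizer {x t : G} {T : Set G} (hx : x ∈ Subgroup.centralizer T)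
    (ht : t ∈ T) : x * t * x⁻¹ = t := by
  have := Subgroup.mem_centralizer_iff.mp hx t ht
  rw [← this]; group

/-- automizer of order two: the central involution is not fused to a non-central one -/
theorem F1_nofusion (S : Sylow 2 G) (d : QDat ↥(S : Subgroup G)) (T : Subgroup G)
    (hT : IsKleinFour T) (hTS : T ≤ S)
    (h₁ : (Subgroup.centralizer (T : Set G)).relIndex (Subgroup.normalizer (T : Set G)) = 2) :
    ∀ g : G, g * Z d * g⁻¹ ≠ B d 0 := by
  classical
  haveI : Fact (Nat.Prime 2) := ⟨Nat.prime_two⟩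
  intro g₀ hg₀
  obtain ⟨j, hmem⟩ := klein_struct d T hT hTS
  have hz1 : Z d ≠ 1 := Z_ne_one d
  have hzu : Z d ≠ B d (2 * j) := by
    rw [Z_eq]; exact (B_ne_A d _ _).symm
  have hzz := Z_sq d
  have huS : B d (2 * j) ∈ (S : Subgroup G) := B_mem d _
  have hzuc : Z d * B d (2 * j) = B d (2 * j) * Z d := Z_central d _ huS
  have huu : B d (2 * j) * B d (2 * j) = 1 := by
    have := pow_orderOf_eq_one (B d (2 * j))
    rw [orderOf_B_even, pow_two] at this
    exact this
  obtain ⟨g, hg⟩ : ∃ g : G, g * Z d * g⁻¹ = B d (2 * j) := by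
    obtain ⟨s, -, hs⟩ := isConj_B_even d j
    refine ⟨s⁻¹ * g₀, ?_⟩
    calc s⁻¹ * g₀ * Z d * (s⁻¹ * g₀)⁻¹ = s⁻¹ * (g₀ * Z d * g₀⁻¹) * s := by group
      _ = s⁻¹ * (s * B d (2 * j) * s⁻¹) * s := by rw [hg₀, hs]
      _ = B d (2 * j) := by group
  set u := B d (2 * j) with hu
  set z := Z d with hz
  have hzT : z ∈ T := by rw [hmem]; right; left; rfl
  have huT : u ∈ T := by rw [hmem]; right; right; left; rfl
  set M := Subgroup.centralizer ({u} : Set G) with hM
  have hSM : ∀ s ∈ (S : Subgroup G), g * s * g⁻¹ ∈ M := by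
    intro s hs
    rw [hM, Subgroup.mem_centralizer_iff]
    intro c hc
    rw [Set.mem_singleton_iff] at hc
    rw [hc, ← hg]
    have := Z_central d s hs
    calc g * z * g⁻¹ * (g * s * g⁻¹) = g * (z * s) * g⁻¹ := by group
      _ = g * (s * z) * g⁻¹ := by rw [this]
      _ = g * s * g⁻¹ * (g * z * g⁻¹) := by group
  have hTM : T ≤ M := by
    intro t ht
    rw [hM, Subgroup.mem_centralizer_iff]
    intro c hc
    rw [Set.mem_singleton_iff] at hc
    rw [hc]
    rcases (hmem t).mp ht with rfl | rfl | rfl | rfl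
    · rw [mul_one, one_mul]
    · exact hzuc.symm
    · rfl
    · rw [← mul_assoc, ← hzuc, mul_assoc]
  obtain ⟨m, hmM, hk⟩ := exists_conj_into S g M T hSM hTM (S.isPGroup'.to_le hTS)
  set k := g⁻¹ * m with hkdef
  have hku : k * u * k⁻¹ = z := by
    have hmu : m * u * m⁻¹ = u := conj_eq_of_mem_centralizer hmM (Set.mem_singleton u)
    calc k * u * k⁻¹ = g⁻¹ * (m * u * m⁻¹) * g := by rw [hkdef]; group
      _ = g⁻¹ * (g * z * g⁻¹) * g := by rw [hmu, hg]
      _ = z := by group
  -- the image of z under k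
  set w := k * z * k⁻¹ with hw
  have hwS : w ∈ (S : Subgroup G) := hk z hzT
  have hwo : orderOf w = 2 := by rw [hw, orderOf_conj']; exact orderOf_Z d
  have hwz : w ≠ z := by
    intro h
    rw [← hku] at h
    exact hzu (conj_cancel h)
  obtain ⟨j', hj'⟩ : ∃ j', w = B d (2 * j') := by
    rcases invol_cases d w hwS hwo with h | h
    · exact absurd h hwz
    · exact h
  set c := A d d.q with hc
  have hcw : c * w * c⁻¹ = z * w := by rw [hj']; exact conj_A_q_B d _
  have hcz : c * z * c⁻¹ = z := conj_A_q_Z d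
  have hcu : c * u * c⁻¹ = z * u := conj_A_q_B d _
  set s' := k⁻¹ * c * k with hs'
  have hs'u : s' * u * s'⁻¹ = u := by
    calc s' * u * s'⁻¹ = k⁻¹ * (c * (k * u * k⁻¹) * c⁻¹) * k := by rw [hs']; group
      _ = k⁻¹ * z * k := by rw [hku, hcz]
      _ = k⁻¹ * (k * u * k⁻¹) * k := by rw [hku]
      _ = u := by group
  have hs'z : s' * z * s'⁻¹ = u * z := by
    calc s' * z * s'⁻¹ = k⁻¹ * (c * (k * z * k⁻¹) * c⁻¹) * k := by rw [hs']; group
      _ = k⁻¹ * (z * w) * k := by rw [← hw, hcw]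
      _ = k⁻¹ * (k * u * k⁻¹ * (k * z * k⁻¹)) * k := by rw [hku]
      _ = u * z := by group
  have hconj_mul : ∀ x a b : G, x * (a * b) * x⁻¹ = (x * a * x⁻¹) * (x * b * x⁻¹) := by
    intro x a b; group
  have hs'N : s' ∈ Subgroup.normalizer (T : Set G) := by
    apply Subgroup.mem_normalizer_fintype
    intro t ht
    rw [SetLike.mem_coe] at ht ⊢
    rcases (hmem t).mp ht with rfl | rfl | rfl | rfl
    · rw [mul_one, mul_inv_cancel]; exact T.one_mem
    · rw [hs'z]; exact T.mul_mem huT hzT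
    · rw [hs'u]; exact huT
    · rw [hconj_mul, hs'z, hs'u]; exact T.mul_mem (T.mul_mem huT hzT) huT
  have hcN : c ∈ Subgroup.normalizer (T : Set G) := by
    apply Subgroup.mem_normalizer_fintype
    intro t ht
    rw [SetLike.mem_coe] at ht ⊢
    rcases (hmem t).mp ht with rfl | rfl | rfl | rfl
    · rw [mul_one, mul_inv_cancel]; exact T.one_mem
    · rw [hcz]; exact hzT
    · rw [hcu]; exact T.mul_mem hzT huT
    · rw [hconj_mul, hcz, hcu]; exact T.mul_mem hzT (T.mul_mem hzT huT)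
  have hs'C : s' ∉ Subgroup.centralizer (T : Set G) := by
    intro h
    have h1 := conj_eq_of_mem_centralizer h (SetLike.mem_coe.mpr hzT)
    rw [hs'z] at h1
    have : u = 1 := by
      calc u = u * z * z := by rw [mul_assoc, hzz, mul_one]
        _ = 1 := by rw [h1, hzz]
    exact B_ne_one _ d _ this
  have hcC : c ∉ Subgroup.centralizer (T : Set G) := by
    intro h
    have h1 := conj_eq_of_mem_centralizer h (SetLike.mem_coe.mpr huT)
    rw [hcu] at h1
    have : z = 1 := by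
      calc z = z * u * u := by rw [mul_assoc, huu, mul_one]
        _ = 1 := by rw [h1, huu]
    exact hz1 this
  have hprod := mul_mem_of_relIndex_two h₁ hcN hs'N hcC hs'C
  have h1 := conj_eq_of_mem_centralizer hprod (SetLike.mem_coe.mpr hzT)
  have h2 : c * s' * z * (c * s')⁻¹ = u := by
    calc c * s' * z * (c * s')⁻¹ = c * (s' * z * s'⁻¹) * c⁻¹ := by group
      _ = (c * u * c⁻¹) * (c * z * c⁻¹) := by rw [hs'z, hconj_mul]
      _ = z * u * z := by rw [hcu, hcz]
      _ = u := by rw [hzuc, mul_assoc, hzz, mul_one]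
  rw [h2] at h1
  exact hzu h1.symm

end Cfsg.Agent.Helper2.QDF
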