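import Mathlib
import Cfsg.Agent.Helper2.QDF3

set_option autoImplicit false

/-! Fusion of elements of order four in a group with quasidihedral Sylow 2-subgroups, controlled
by the automizer of a quaternion subgroup of order eight. -/

namespace Cfsg.Agent.Helper2.QDF

open Cfsg.Agent.Helper2.QD

variable {G : Type*} [Group G] [Finite G]

theorem quat_conj_cases : ∀ s t : QuaternionGroup 2, s * t * s⁻¹ = t ∨ s * t * s⁻¹ = t⁻¹ := by
  decide

/-- in a quaternion group of order eight every element is conjugated to itself or its inverse -/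
theorem quat_le_invNorm (Q : Subgroup G) (eQ : Q ≃* QuaternionGroup 2) (t : G) (ht : t ∈ Q) :
    Q ≤ invNorm t := by
  intro s hs
  rw [mem_invNorm]
  have h1 := quat_conj_cases (eQ ⟨s, hs⟩) (eQ ⟨t, ht⟩)
  rw [← map_inv, ← map_mul, ← map_mul, ← map_inv] at h1
  rcases h1 with h | h
  · left
    have := congrArg Subtype.val (eQ.injective h)
    simpa using this
  · right
    have := congrArg Subtype.val (eQ.injective h)
    simpa using this

theorem quat_sup_le_invNorm (Q : Subgroup G) (eQ : Q ≃* QuaternionGroup 2) (t : G) (ht : t ∈ Q) :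
    Q ⊔ Subgroup.centralizer (Q : Set G) ≤ invNorm t := by
  apply sup_le (quat_le_invNorm Q eQ t ht)
  intro c hc
  rw [mem_invNorm]
  left
  exact conj_eq_of_mem_centralizer hc (SetLike.mem_coe.mpr ht)

section

variable {S : Subgroup G} (d : QDat ↥S)

/-- a quarter of `q` -/
def qq : ZMod (2 ^ d.n) := ((2 ^ (d.n - 3) : ℕ) : ZMod (2 ^ d.n))

theorem two_qq : 2 * qq d = d.q := by
  unfold qq QDat.q
  have hn := d.hn
  have : 2 ^ (d.n - 2) = 2 * 2 ^ (d.n - 3) := by
    rw [← pow_succ']; congr 1; omega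
  rw [this]; push_cast; ring

theorem q_sq_cases : d.q * d.q = 0 ∨ d.q * d.q = d.h := by
  apply (d.two_mul_eq_zero_iff _).mp
  rw [← mul_assoc, d.two_q, d.h_mul_q]

/-- the twist `(1 - E) * qq` is `q` or `q + h` -/
theorem r_cases : (1 - d.E) * qq d = d.q ∨ (1 - d.E) * qq d = d.q + d.h := by
  have h1 : (1 - d.E) * qq d = d.q - d.q * d.q := by
    rw [d.one_sub_E, ← two_qq d]; ring
  rw [h1]
  rcases q_sq_cases d with h | h
  · left; rw [h, sub_zero]
  · right; rw [h, sub_eq_add_neg, d.neg_h]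

theorem r_ne_zero : (1 - d.E) * qq d ≠ 0 := by
  rcases r_cases d with h | h
  · rw [h]; exact d.q_ne_zero
  · rw [h]
    intro h0
    apply d.q_ne_h
    have := d.neg_h
    linear_combination h0 + this

theorem r_ne_h : (1 - d.E) * qq d ≠ d.h := by
  rcases r_cases d with h | h
  · rw [h]; exact d.q_ne_h
  · rw [h]
    intro h0
    apply d.q_ne_zero
    linear_combination h0

/-- `A qq` conjugates `B i` to `(A q)^{±1} * B i` -/
theorem conj_qq_B (i : ZMod (2 ^ d.n)) :
    A d (qq d) * B d i * (A d (qq d))⁻¹ = A d d.q * B d i ∨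
      A d (qq d) * B d i * (A d (qq d))⁻¹ = (A d d.q)⁻¹ * B d i := by
  rw [conj_A_B]
  rcases r_cases d with h | h
  · left; rw [h, A_mul_B, add_comm]
  · right; rw [h, ← A_neg_q, A_mul_B, add_comm]

theorem quat_struct (Q : Subgroup G) (hQS : Q ≤ S) (eQ : Q ≃* QuaternionGroup 2) :
    A d d.q ∈ Q ∧ ∃ j, B d (2 * j + 1) ∈ Q := by
  have e' : Q.subgroupOf S ≃* QuaternionGroup 2 := (Subgroup.subgroupOfEquivOfLe hQS).trans eQ
  obtain ⟨h1, j, h2⟩ := d.q8_struct _ e'
  exact ⟨Subgroup.mem_subgroupOf.mp h1, j, Subgroup.mem_subgroupOf.mp h2⟩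

/-- `A qq` normalizes every quaternion subgroup of order eight of `S` -/
theorem qq_mem_normalizer (Q : Subgroup G) (hQS : Q ≤ S) (eQ : Q ≃* QuaternionGroup 2) :
    A d (qq d) ∈ Subgroup.normalizer (Q : Set G) := by
  obtain ⟨hw, -⟩ := quat_struct d Q hQS eQ
  apply Subgroup.mem_normalizer_fintype
  intro t ht
  rw [SetLike.mem_coe] at ht ⊢
  rcases nf d t (hQS ht) with ⟨i, rfl⟩ | ⟨i, rfl⟩
  · rw [conj_A_A]; exact ht
  · rcases conj_qq_B d i with h | h
    · rw [h]; exact Q.mul_mem hw ht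
    · rw [h]; exact Q.mul_mem (Q.inv_mem hw) ht

theorem B_odd_inv (j : ZMod (2 ^ d.n)) : (B d (2 * j + 1))⁻¹ = B d (2 * j + 1 + d.h) := by
  rw [← Z_mul_B]
  symm
  apply eq_inv_of_mul_eq_one_left
  have h1 : B d (2 * j + 1) * B d (2 * j + 1) = Z d := by
    have := congrArg Subtype.val (d.b_odd_sq j)
    rw [Subgroup.coe_mul] at this
    exact this
  rw [mul_assoc, h1, Z_sq]

/-- `A qq` does not normalize the cyclic subgroups generated by the `B i` with `i` odd -/
theorem qq_not_mem_invNorm (j : ZMod (2 ^ d.n)) : A d (qq d) ∉ invNorm (B d (2 * j + 1)) := by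
  rw [mem_invNorm, conj_A_B, B_odd_inv]
  rintro (h | h)
  · have := B_inj d h
    apply r_ne_zero d
    linear_combination this
  · have := B_inj d h
    apply r_ne_h d
    linear_combination this

end

/-- automizer index six: the elements of order four are fused -/
theorem F2_fusion (S : Sylow 2 G) (d : QDat ↥(S : Subgroup G)) (Q : Subgroup G)
    (hQS : Q ≤ S) (eQ : Q ≃* QuaternionGroup 2)
    (h₂ : (Q ⊔ Subgroup.centralizer (Q : Set G)).relIndex (Subgroup.normalizer (Q : Set G)) = 6) :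
    ∃ g : G, g * A d d.q * g⁻¹ = B d 1 := by
  classical
  obtain ⟨hwQ, -⟩ := quat_struct d Q hQS eQ
  have hle1 : Subgroup.centralizer (Q : Set G) ≤ Q ⊔ Subgroup.centralizer (Q : Set G) := le_sup_right
  have hle2 : Q ⊔ Subgroup.centralizer (Q : Set G) ≤ Subgroup.normalizer (Q : Set G) :=
    sup_le Subgroup.le_normalizer (Subgroup.centralizer_le_normalizer _)
  have hmul := Subgroup.relIndex_mul_relIndex _ _ _ hle1 hle2
  have h3 : 3 ∣ (Subgroup.centralizer (Q : Set G)).relIndex (Subgroup.normalizer (Q : Set G)) := by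
    rw [← hmul, h₂]
    exact Dvd.dvd.mul_left ⟨2, rfl⟩ _
  have hker : (Q.normalizerMonoidHom).ker.index =
      (Subgroup.centralizer (Q : Set G)).relIndex (Subgroup.normalizer (Q : Set G)) := by
    rw [Subgroup.normalizerMonoidHom_ker Q]
    rfl
  have h3' : 3 ∣ Nat.card (Q.normalizerMonoidHom).range := by
    rw [← Subgroup.index_ker, hker]; exact h3
  haveI : Fact (Nat.Prime 3) := ⟨Nat.prime_three⟩
  haveI : Finite Q := inferInstance
  obtain ⟨σ', hσ'⟩ := exists_prime_orderOf_dvd_card' 3 h3'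
  obtain ⟨σ, hσσ'⟩ : ∃ σ : MulAut Q, σ = (σ' : MulAut Q) := ⟨_, rfl⟩
  obtain ⟨⟨g, hg⟩, hgσ'⟩ := σ'.2
  have hgσ : Q.normalizerMonoidHom ⟨g, hg⟩ = σ := by rw [hσσ']; exact hgσ'
  have hσ : orderOf σ = 3 := by
    rw [hσσ', Subgroup.orderOf_coe]; exact hσ'
  have hact : ∀ x : Q, ((σ x : Q) : G) = g * x * g⁻¹ := by
    intro x
    rw [← hgσ]
    exact Subgroup.normalizerMonoidHom_apply_apply_coe Q ⟨g, hg⟩ x
  have hmod := Cfsg.Agent.Helper2.OddAut.card_modEq_fixSub σ 3 hσ
  have hcQ : Nat.card Q = 8 := by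
    rw [Nat.card_congr eQ.toEquiv, Nat.card_eq_fintype_card, QuaternionGroup.card]
  have hfix2 : Nat.card (Cfsg.Agent.Helper2.OddAut.fixSub σ) = 2 := by
    have hdvd : Nat.card (Cfsg.Agent.Helper2.OddAut.fixSub σ) ∣ 8 := by
      rw [← hcQ]; exact Subgroup.card_subgroup_dvd_card _
    have hne : Nat.card (Cfsg.Agent.Helper2.OddAut.fixSub σ) ≠ 8 := by
      intro h8
      have htop : Cfsg.Agent.Helper2.OddAut.fixSub σ = ⊤ := by
        rw [← Subgroup.card_eq_iff_eq_top, h8, hcQ]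
      have hσ1 : σ = 1 := by
        by_contra hne1
        exact Cfsg.Agent.Helper2.OddAut.fixSub_ne_top σ hne1 htop
      rw [hσ1, orderOf_one] at hσ
      omega
    rw [hcQ] at hmod
    have hm : 8 % 3 = Nat.card (Cfsg.Agent.Helper2.OddAut.fixSub σ) % 3 := hmod
    generalize Nat.card (Cfsg.Agent.Helper2.OddAut.fixSub σ) = nn at hdvd hne hm ⊢
    have h22 : nn ∣ 2 ^ 3 := hdvd
    obtain ⟨j, hj2, rfl⟩ := (Nat.dvd_prime_pow Nat.prime_two).mp h22
    interval_cases j
    · omega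
    · rfl
    · omega
    · omega
  set w' : Q := ⟨A d d.q, hwQ⟩ with hw'
  have hw'o : orderOf w' = 4 := by
    rw [← Subgroup.orderOf_coe]; exact orderOf_A_q d
  have hnofix : σ w' ≠ w' := by
    intro h
    have hmem : w' ∈ Cfsg.Agent.Helper2.OddAut.fixSub σ := h
    have h1 : orderOf (⟨w', hmem⟩ : Cfsg.Agent.Helper2.OddAut.fixSub σ) ∣
        Nat.card (Cfsg.Agent.Helper2.OddAut.fixSub σ) := orderOf_dvd_natCard _
    rw [Subgroup.orderOf_mk, hw'o, hfix2] at h1
    omega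
  have hnoinv : σ w' ≠ w'⁻¹ := by
    intro h
    apply hnofix
    have h2 : σ (σ w') = w' := by rw [h, map_inv, h, inv_inv]
    have h3 : (σ ^ 3) w' = w' := by
      rw [← hσ, pow_orderOf_eq_one]; rfl
    have h4 : (σ ^ 3) w' = σ (σ (σ w')) := rfl
    rw [h4, h2] at h3
    exact h3
  set t := g * A d d.q * g⁻¹ with ht
  have htQ : t ∈ Q := by
    have := (σ w').2
    rw [hact] at this
    exact this
  have hto : orderOf t = 4 := by rw [ht, orderOf_conj']; exact orderOf_A_q d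
  have ht1 : t ≠ A d d.q := by
    intro h
    apply hnofix
    apply Subtype.ext
    rw [hact]; exact h
  have ht2 : t ≠ A d (d.q + d.h) := by
    intro h
    apply hnoinv
    apply Subtype.ext
    rw [hact, Subgroup.coe_inv]
    rw [A_neg_q] at h
    exact h
  rcases order_four_cases d t (hQS htQ) hto with h | h | ⟨j, hj⟩
  · exact absurd h ht1
  · exact absurd h ht2
  · obtain ⟨s, -, hs⟩ := isConj_B_odd d j
    refine ⟨s * g, ?_⟩
    rw [← hs, ← hj, ht]; group

/-- automizer index two: the elements of order four are not fused -/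
theorem F2_nofusion (S : Sylow 2 G) (d : QDat ↥(S : Subgroup G)) (Q : Subgroup G)
    (hQS : Q ≤ S) (eQ : Q ≃* QuaternionGroup 2)
    (h₂ : (Q ⊔ Subgroup.centralizer (Q : Set G)).relIndex (Subgroup.normalizer (Q : Set G)) = 2) :
    ∀ g : G, g * A d d.q * g⁻¹ ≠ B d 1 := by
  classical
  haveI : Fact (Nat.Prime 2) := ⟨Nat.prime_two⟩
  intro g₀ hg₀
  obtain ⟨hwQ, j, hvQ⟩ := quat_struct d Q hQS eQ
  obtain ⟨g, hg⟩ : ∃ g : G, g * A d d.q * g⁻¹ = B d (2 * j + 1) := by
    obtain ⟨s, -, hs⟩ := isConj_B_odd d j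
    refine ⟨s⁻¹ * g₀, ?_⟩
    calc s⁻¹ * g₀ * A d d.q * (s⁻¹ * g₀)⁻¹ = s⁻¹ * (g₀ * A d d.q * g₀⁻¹) * s := by group
      _ = s⁻¹ * (s * B d (2 * j + 1) * s⁻¹) * s := by rw [hg₀, hs]
      _ = B d (2 * j + 1) := by group
  set w := A d d.q with hw
  set v := B d (2 * j + 1) with hv
  have hwv : w ≠ v := (B_ne_A d _ _).symm
  have hwv' : w ≠ v⁻¹ := by rw [hv, B_inv]; exact (B_ne_A d _ _).symm
  have hconj_inv : ∀ x a : G, x * a⁻¹ * x⁻¹ = (x * a * x⁻¹)⁻¹ := by intro x a; group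
  set M := invNorm v with hM
  have hSM : ∀ s ∈ (S : Subgroup G), g * s * g⁻¹ ∈ M := by
    intro s hs
    rw [hM, mem_invNorm]
    have h1 : g * s * g⁻¹ * v * (g * s * g⁻¹)⁻¹ = g * (s * w * s⁻¹) * g⁻¹ := by
      rw [← hg]; group
    rw [h1]
    rcases (mem_invNorm.mp (S_le_invNorm_A_q d hs)) with h | h
    · left; rw [h, hg]
    · right; rw [h, hconj_inv, hg]
  have hQM : Q ≤ M := quat_le_invNorm Q eQ v hvQ
  obtain ⟨m, hmM, hk⟩ := exists_conj_into S g M Q hSM hQM (S.isPGroup'.to_le hQS)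
  set k := g⁻¹ * m with hkdef
  have hgv : g⁻¹ * v * g = w := by rw [← hg]; group
  have hkv : k * v * k⁻¹ = w ∨ k * v * k⁻¹ = w⁻¹ := by
    have e1 : k * v * k⁻¹ = g⁻¹ * (m * v * m⁻¹) * g := by rw [hkdef]; group
    rw [e1]
    rcases mem_invNorm.mp hmM with h | h
    · left; rw [h, hgv]
    · right
      rw [h]
      calc g⁻¹ * v⁻¹ * g = (g⁻¹ * v * g)⁻¹ := by group
        _ = w⁻¹ := by rw [hgv]
  -- the conjugate quaternion group
  set Q' := Q.map (MulAut.conj k).toMonoidHom with hQ'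
  have hQ'S : Q' ≤ (S : Subgroup G) := by
    rintro _ ⟨t, ht, rfl⟩
    exact hk t ht
  have eQ' : Q' ≃* QuaternionGroup 2 :=
    (Subgroup.equivMapOfInjective Q (MulAut.conj k).toMonoidHom (MulAut.conj k).injective).symm.trans eQ
  set t' := k * w * k⁻¹ with ht'
  have ht'Q : t' ∈ Q' := ⟨w, hwQ, rfl⟩
  have ht'o : orderOf t' = 4 := by rw [ht', orderOf_conj']; exact orderOf_A_q d
  have ht'1 : t' ≠ w := by
    intro h
    rcases hkv with h' | h'
    · rw [← h'] at h
      exact hwv (conj_cancel h)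
    · have : k * v⁻¹ * k⁻¹ = w := by rw [hconj_inv, h', inv_inv]
      rw [← this] at h
      exact hwv' (conj_cancel h)
  have ht'2 : t' ≠ A d (d.q + d.h) := by
    rw [A_neg_q]
    intro h
    rcases hkv with h' | h'
    · have : k * v⁻¹ * k⁻¹ = w⁻¹ := by rw [hconj_inv, h']
      rw [← this] at h
      exact hwv' (conj_cancel h)
    · rw [← h'] at h
      exact hwv (conj_cancel h)
  obtain ⟨j', hj'⟩ : ∃ j', t' = B d (2 * j' + 1) := by
    rcases order_four_cases d t' (hQ'S ht'Q) ht'o with h | h | h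
    · exact absurd h ht'1
    · exact absurd h ht'2
    · exact h
  set c := A d (qq d) with hc
  have hcN' : c ∈ Subgroup.normalizer (Q' : Set G) := qq_mem_normalizer d Q' hQ'S eQ'
  have hct' : c ∉ invNorm t' := by rw [hj']; exact qq_not_mem_invNorm d j'
  set s' := k⁻¹ * c * k with hs'
  have hs'N : s' ∈ Subgroup.normalizer (Q : Set G) := by
    apply Subgroup.mem_normalizer_fintype
    intro t ht
    rw [SetLike.mem_coe] at ht ⊢
    have h1 : k * t * k⁻¹ ∈ Q' := ⟨t, ht, rfl⟩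
    have h2 : c * (k * t * k⁻¹) * c⁻¹ ∈ Q' := (Subgroup.mem_normalizer_iff.mp hcN' _).mp h1
    obtain ⟨t₂, ht₂, ht₂'⟩ := h2
    change k * t₂ * k⁻¹ = c * (k * t * k⁻¹) * c⁻¹ at ht₂'
    have : s' * t * s'⁻¹ = t₂ := by
      calc s' * t * s'⁻¹ = k⁻¹ * (c * (k * t * k⁻¹) * c⁻¹) * k := by rw [hs']; group
        _ = k⁻¹ * (k * t₂ * k⁻¹) * k := by rw [ht₂']
        _ = t₂ := by group
    rw [this]; exact ht₂
  have hs'w : s' ∉ invNorm w := by
    intro h
    apply hct'
    rw [mem_invNorm] at h ⊢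
    have e1 : c * t' * c⁻¹ = k * (s' * w * s'⁻¹) * k⁻¹ := by rw [hs', ht']; group
    rw [e1]
    rcases h with h | h
    · left; rw [h]
    · right; rw [h, hconj_inv]
  have hcN : c ∈ Subgroup.normalizer (Q : Set G) := qq_mem_normalizer d Q hQS eQ
  have hcv : c ∉ invNorm v := qq_not_mem_invNorm d j
  have hcw : c ∈ invNorm w := by
    rw [mem_invNorm]; left; exact conj_A_A d _ _
  have hHw := quat_sup_le_invNorm Q eQ w hwQ
  have hHv := quat_sup_le_invNorm Q eQ v hvQ
  have hprod := mul_mem_of_relIndex_two h₂ hs'N hcN (fun h => hs'w (hHw h)) (fun h => hcv (hHv h))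
  have h1 : s' * c ∈ invNorm w := hHw hprod
  apply hs'w
  have : s' = s' * c * c⁻¹ := by group
  rw [this]
  exact (invNorm w).mul_mem h1 ((invNorm w).inv_mem hcw)

end Cfsg.Agent.Helper2.QDF
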