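import Mathlib
import Cfsg.Agent.Helper2.QDF4
import Cfsg.Agent.Helper2.ClassCount

set_option autoImplicit false

/-! Conjugacy classes of involutions and elements of order four, subgroups of index two and
transfer, for groups with quasidihedral Sylow 2-subgroups. -/

namespace Cfsg.Agent.Helper2.QDF

open Cfsg.Agent.Helper2.QD

variable {G : Type*} [Group G] [Finite G]

section pre

variable {S : Subgroup G} (d : QDat ↥S)

theorem A_neg_q_conj : B d 0 * A d (d.q + d.h) * (B d 0)⁻¹ = A d d.q := by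
  rw [A_neg_q]
  calc B d 0 * (A d d.q)⁻¹ * (B d 0)⁻¹ = (B d 0 * A d d.q * (B d 0)⁻¹)⁻¹ := by group
    _ = A d d.q := by rw [conj_B_A_q, inv_inv]

theorem orderOf_B_one : orderOf (B d 1) = 4 := by
  have := orderOf_B_odd d 0
  rwa [mul_zero, zero_add] at this

end pre

section classes

variable (S : Sylow 2 G) (d : QDat ↥(S : Subgroup G))

theorem invol_conj (t : G) (ht : orderOf t = 2) : IsConj t (Z d) ∨ IsConj t (B d 0) := by
  haveI : Fact (Nat.Prime 2) := ⟨Nat.prime_two⟩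
  obtain ⟨g, hg⟩ := exists_conj_mem_sylow S t 1 (by rw [ht, pow_one])
  have ho : orderOf (g * t * g⁻¹) = 2 := by rw [orderOf_conj']; exact ht
  rcases invol_cases d _ hg ho with h | ⟨j, h⟩
  · left; exact isConj_iff.mpr ⟨g, h⟩
  · right
    obtain ⟨s, -, hs⟩ := isConj_B_even d j
    refine isConj_iff.mpr ⟨s * g, ?_⟩
    rw [← hs, ← h]; group

theorem four_conj (t : G) (ht : orderOf t = 4) : IsConj t (A d d.q) ∨ IsConj t (B d 1) := by
  haveI : Fact (Nat.Prime 2) := ⟨Nat.prime_two⟩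
  obtain ⟨g, hg⟩ := exists_conj_mem_sylow S t 2 (by rw [ht]; norm_num)
  have ho : orderOf (g * t * g⁻¹) = 4 := by rw [orderOf_conj']; exact ht
  rcases order_four_cases d _ hg ho with h | h | ⟨j, h⟩
  · left; exact isConj_iff.mpr ⟨g, h⟩
  · left
    refine isConj_iff.mpr ⟨B d 0 * g, ?_⟩
    rw [← A_neg_q_conj d, ← h]; group
  · right
    obtain ⟨s, -, hs⟩ := isConj_B_odd d j
    refine isConj_iff.mpr ⟨s * g, ?_⟩
    rw [← hs, ← h]; group

theorem card_invol_classes_one (h : ∃ g : G, g * Z d * g⁻¹ = B d 0) :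
    Nat.card {C : ConjClasses G // ∃ t : G, orderOf t = 2 ∧ ConjClasses.mk t = C} = 1 := by
  apply card_classes_eq_one (fun t => orderOf t = 2) (B d 0)
  · have := orderOf_B_even d 0
    rwa [mul_zero] at this
  · intro t ht
    rcases invol_conj S d t ht with h1 | h1
    · exact h1.trans (isConj_iff.mpr h)
    · exact h1

theorem card_invol_classes_two (h : ∀ g : G, g * Z d * g⁻¹ ≠ B d 0) :
    Nat.card {C : ConjClasses G // ∃ t : G, orderOf t = 2 ∧ ConjClasses.mk t = C} = 2 := by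
  apply Cfsg.Agent.Helper2.ClassCount.card_eq_two (fun t => orderOf t = 2) (Z d) (B d 0)
  · exact orderOf_Z d
  · have := orderOf_B_even d 0
    rwa [mul_zero] at this
  · intro hc
    obtain ⟨g, hg⟩ := isConj_iff.mp hc
    exact h g hg
  · exact invol_conj S d

theorem card_four_classes_one (h : ∃ g : G, g * A d d.q * g⁻¹ = B d 1) :
    Nat.card {C : ConjClasses G // ∃ t : G, orderOf t = 4 ∧ ConjClasses.mk t = C} = 1 := by
  apply card_classes_eq_one (fun t => orderOf t = 4) (B d 1)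
  · exact orderOf_B_one d
  · intro t ht
    rcases four_conj S d t ht with h1 | h1
    · exact h1.trans (isConj_iff.mpr h)
    · exact h1

theorem card_four_classes_two (h : ∀ g : G, g * A d d.q * g⁻¹ ≠ B d 1) :
    Nat.card {C : ConjClasses G // ∃ t : G, orderOf t = 4 ∧ ConjClasses.mk t = C} = 2 := by
  apply Cfsg.Agent.Helper2.ClassCount.card_eq_two (fun t => orderOf t = 4) (A d d.q) (B d 1)
  · exact orderOf_A_q d
  · exact orderOf_B_one d
  · intro hc
    obtain ⟨g, hg⟩ := isConj_iff.mp hc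
    exact h g hg
  · exact four_conj S d

end classes

section indextwo

variable {S : Subgroup G} (d : QDat ↥S)

theorem sq_mem_of_index_two {K : Subgroup G} (hK : K.index = 2) (g : G) : g * g ∈ K :=
  (Subgroup.mul_mem_iff_of_index_two hK).mpr Iff.rfl

theorem A_even_mem {K : Subgroup G} (hK : K.index = 2) (j : ZMod (2 ^ d.n)) :
    A d (2 * j) ∈ K := by
  have : A d (2 * j) = A d j * A d j := by rw [A_mul_A, two_mul]
  rw [this]; exact sq_mem_of_index_two hK _

theorem A_q_mem {K : Subgroup G} (hK : K.index = 2) : A d d.q ∈ K := by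
  rw [← two_qq d]; exact A_even_mem d hK _

theorem Z_mem_of_index_two {K : Subgroup G} (hK : K.index = 2) : Z d ∈ K := by
  rw [Z_eq, ← d.two_q]; exact A_even_mem d hK _

theorem A_eq_B_mul_B (i : ZMod (2 ^ d.n)) : A d i = B d i * B d 0 := by
  rw [B_mul_B, mul_zero, add_zero]

theorem S_le_of_B_mem (H : Subgroup G) (h : ∀ i, B d i ∈ H) : S ≤ H := by
  intro s hs
  rcases nf d s hs with ⟨i, rfl⟩ | ⟨i, rfl⟩
  · rw [A_eq_B_mul_B]; exact H.mul_mem (h i) (h 0)
  · exact h i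

theorem B_even_mem_iff {K : Subgroup G} [K.Normal] (j : ZMod (2 ^ d.n)) :
    B d (2 * j) ∈ K ↔ B d 0 ∈ K := by
  obtain ⟨s, -, hs⟩ := isConj_B_even d j
  constructor
  · intro h
    rw [← hs]; exact ‹K.Normal›.conj_mem _ h s
  · intro h
    have : B d (2 * j) = s⁻¹ * B d 0 * s⁻¹⁻¹ := by rw [← hs]; group
    rw [this]; exact ‹K.Normal›.conj_mem _ h s⁻¹

theorem B_odd_mem_iff {K : Subgroup G} [K.Normal] (j : ZMod (2 ^ d.n)) :
    B d (2 * j + 1) ∈ K ↔ B d 1 ∈ K := by
  obtain ⟨s, -, hs⟩ := isConj_B_odd d j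
  constructor
  · intro h
    rw [← hs]; exact ‹K.Normal›.conj_mem _ h s
  · intro h
    have : B d (2 * j + 1) = s⁻¹ * B d 1 * s⁻¹⁻¹ := by rw [← hs]; group
    rw [this]; exact ‹K.Normal›.conj_mem _ h s⁻¹

/-- the dihedral maximal subgroup, in `G` -/
def Om' : Subgroup G := d.Om.map S.subtype
/-- the quaternion maximal subgroup, in `G` -/
def Qm' : Subgroup G := d.Qm.map S.subtype

theorem mem_Om' (s : G) : s ∈ Om' d ↔ ∃ j, s = A d (2 * j) ∨ s = B d (2 * j) := by
  constructor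
  · rintro ⟨t, ht, rfl⟩
    obtain ⟨j, hj | hj⟩ := (d.mem_Om_iff t).mp ht
    · exact ⟨j, Or.inl (congrArg Subtype.val hj)⟩
    · exact ⟨j, Or.inr (congrArg Subtype.val hj)⟩
  · rintro ⟨j, rfl | rfl⟩
    · exact ⟨d.a (2 * j), (d.mem_Om_iff _).mpr ⟨j, Or.inl rfl⟩, rfl⟩
    · exact ⟨d.b (2 * j), (d.mem_Om_iff _).mpr ⟨j, Or.inr rfl⟩, rfl⟩

theorem mem_Qm' (s : G) : s ∈ Qm' d ↔ ∃ j, s = A d (2 * j) ∨ s = B d (2 * j + 1) := by
  constructor
  · rintro ⟨t, ht, rfl⟩
    obtain ⟨j, hj | hj⟩ := (d.mem_Qm_iff t).mp ht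
    · exact ⟨j, Or.inl (congrArg Subtype.val hj)⟩
    · exact ⟨j, Or.inr (congrArg Subtype.val hj)⟩
  · rintro ⟨j, rfl | rfl⟩
    · exact ⟨d.a (2 * j), (d.mem_Qm_iff _).mpr ⟨j, Or.inl rfl⟩, rfl⟩
    · exact ⟨d.b (2 * j + 1), (d.mem_Qm_iff _).mpr ⟨j, Or.inr rfl⟩, rfl⟩

theorem relIndex_map_subtype (M : Subgroup ↥S) : (M.map S.subtype).relIndex S = M.index := by
  rw [Subgroup.relIndex]
  congr 1
  ext t
  rw [Subgroup.mem_subgroupOf]
  constructor
  · rintro ⟨t', ht', htt'⟩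
    have : t' = t := Subtype.ext htt'
    rw [← this]; exact ht'
  · intro ht
    exact ⟨t, ht, rfl⟩

theorem relIndex_Om' : (Om' d).relIndex S = 2 := by
  unfold Om'; rw [relIndex_map_subtype, d.index_Om]

theorem relIndex_Qm' : (Qm' d).relIndex S = 2 := by
  unfold Qm'; rw [relIndex_map_subtype, d.index_Qm]

theorem B_even_not_mem_Qm' (j : ZMod (2 ^ d.n)) : B d (2 * j) ∉ Qm' d := by
  rw [mem_Qm']
  rintro ⟨j', h | h⟩
  · exact B_ne_A d _ _ h
  · exact d.even_ne_odd _ _ (B_inj d h)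

theorem B_odd_not_mem_Om' (j : ZMod (2 ^ d.n)) : B d (2 * j + 1) ∉ Om' d := by
  rw [mem_Om']
  rintro ⟨j', h | h⟩
  · exact B_ne_A d _ _ h
  · exact d.even_ne_odd _ _ (B_inj d h).symm

end indextwo

section transfer

variable (S : Sylow 2 G) (d : QDat ↥(S : Subgroup G))

/-- first transfer: if `Z` is not fused to `B 0`, some normal subgroup of index two avoids `B 0` -/
theorem transfer_one (h : ∀ g : G, g * Z d * g⁻¹ ≠ B d 0) :
    ∃ K : Subgroup G, K.Normal ∧ K.index = 2 ∧ B d 0 ∉ K := by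
  have ho : orderOf (B d 0) = 2 := by
    have := orderOf_B_even d 0
    rwa [mul_zero] at this
  rcases thompson_transfer_classical S (Qm' d) (relIndex_Qm' d) (B d 0) ho with hK | ⟨g, hg⟩
  · exact hK
  · exfalso
    have hgS : g * B d 0 * g⁻¹ ∈ (S : Subgroup G) := by
      obtain ⟨t, -, ht⟩ := hg
      rw [← ht]; exact t.2
    have hgo : orderOf (g * B d 0 * g⁻¹) = 2 := by rw [orderOf_conj']; exact ho
    rcases invol_cases d _ hgS hgo with h1 | ⟨j, h1⟩
    · apply h g⁻¹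
      rw [← h1]; group
    · rw [h1] at hg
      exact B_even_not_mem_Qm' d j hg

/-- second transfer: if `A q` is not fused to `B 1`, some normal subgroup of index two
avoids `B 1` -/
theorem transfer_two (h : ∀ g : G, g * A d d.q * g⁻¹ ≠ B d 1) :
    ∃ K : Subgroup G, K.Normal ∧ K.index = 2 ∧ B d 1 ∉ K := by
  have ho : orderOf (B d 1) = 2 ^ 2 := by rw [orderOf_B_one]; norm_num
  apply transfer_normal S (Om' d) (relIndex_Om' d) 2 ?_ (B d 1) ho ?_
  · intro y hyS hyM
    change 2 ^ 1 < orderOf y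
    rw [pow_one]
    rcases nf d y hyS with ⟨i, rfl⟩ | ⟨i, rfl⟩
    · rcases d.even_or_odd i with ⟨j, rfl⟩ | ⟨j, rfl⟩
      · exfalso; apply hyM; rw [mem_Om']; exact ⟨j, Or.inl rfl⟩
      · rw [orderOf_A, d.orderOf_a_odd]
        have hn := d.hn
        calc 2 < 2 ^ 3 := by norm_num
          _ ≤ 2 ^ d.n := Nat.pow_le_pow_right (by norm_num) hn
    · rcases d.even_or_odd i with ⟨j, rfl⟩ | ⟨j, rfl⟩
      · exfalso; apply hyM; rw [mem_Om']; exact ⟨j, Or.inr rfl⟩
      · rw [orderOf_B_odd]; norm_num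
  · intro g hg
    have hgS : g * B d 1 * g⁻¹ ∈ (S : Subgroup G) := by
      obtain ⟨t, -, ht⟩ := hg
      rw [← ht]; exact t.2
    have hgo : orderOf (g * B d 1 * g⁻¹) = 4 := by rw [orderOf_conj']; exact orderOf_B_one d
    rcases order_four_cases d _ hgS hgo with h1 | h1 | ⟨j, h1⟩
    · apply h g⁻¹
      rw [← h1]; group
    · apply h (g⁻¹ * (B d 0)⁻¹)
      have := A_neg_q_conj d
      rw [← h1] at this
      rw [← this]; group
    · rw [h1] at hg
      exact B_odd_not_mem_Om' d j hg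

end transfer

end Cfsg.Agent.Helper2.QDF
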