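import Mathlib
import Cfsg.Agent.Helper2.QDF5
import Cfsg.Prelude.Def_Transfer

set_option autoImplicit false

/-! Sylow 2-subgroups of a normal subgroup of index two in a group with quasidihedral Sylow
2-subgroups. -/

namespace Cfsg.Agent.Helper2.QDF

open Cfsg.Agent.Helper2.QD

variable {G : Type*} [Group G] [Finite G]

section sylow

variable (S : Sylow 2 G) (K : Subgroup G) [K.Normal]

theorem card_inf_normal :
    Nat.card ↥((S : Subgroup G) ⊓ K) = 2 ^ (Nat.card K).factorization 2 := by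
  apply Cfsg.Agent.Lead.card_inf_eq_ppart_of_normal (N := ⊤) le_top le_top
  · rw [Subgroup.normalizer_eq_top]
  · exact S.isPGroup'
  · rw [Subgroup.card_top]; exact S.card_eq_multiplicity

theorem card_subgroupOf_inf :
    Nat.card (((S : Subgroup G) ⊓ K).subgroupOf K) = 2 ^ (Nat.card K).factorization 2 := by
  rw [Cfsg.Agent.Lead.card_subgroupOf_of_le inf_le_right]; exact card_inf_normal S K

/-- the Sylow subgroup `S ∩ K` of `K` -/
noncomputable def sylowInf : Sylow 2 ↥K := Sylow.ofCard _ (card_subgroupOf_inf S K)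

theorem coe_sylowInf :
    ((sylowInf S K : Sylow 2 ↥K) : Subgroup ↥K) = ((S : Subgroup G) ⊓ K).subgroupOf K := rfl

theorem no_index_two (H : Subgroup ↥K)
    (h : ∀ x : ↥K, (x : G) ∈ (S : Subgroup G) → x ∈ H) : H.index ≠ 2 := by
  intro hH
  have hle : ((sylowInf S K : Sylow 2 ↥K) : Subgroup ↥K) ≤ H := by
    intro x hx
    rw [coe_sylowInf, Subgroup.mem_subgroupOf] at hx
    exact h x hx.1
  have h6 := Subgroup.index_dvd_of_le hle
  rw [hH] at h6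
  exact (sylowInf S K).not_dvd_index h6

theorem sylow_equiv_inf (P : Sylow 2 ↥K) :
    Nonempty (↥(P : Subgroup ↥K) ≃* ↥((S : Subgroup G) ⊓ K)) :=
  ⟨(Sylow.equiv P (sylowInf S K)).trans (Subgroup.subgroupOfEquivOfLe inf_le_right)⟩

end sylow

section data

variable (S : Sylow 2 G) (d : QDat ↥(S : Subgroup G)) (K : Subgroup G) [K.Normal]

theorem A_odd_not_mem (hK : K.index = 2) (h : ¬ (B d 1 ∈ K ↔ B d 0 ∈ K)) (j : ZMod (2 ^ d.n)) :
    A d (2 * j + 1) ∉ K := by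
  intro hmem
  apply h
  have h1 : A d (2 * j + 1) = A d (2 * j) * (B d 1 * B d 0) := by
    rw [← A_eq_B_mul_B, A_mul_A]
  rw [h1] at hmem
  have h2 : B d 1 * B d 0 ∈ K := (Subgroup.mul_mem_cancel_left K (A_even_mem d hK j)).mp hmem
  exact (Subgroup.mul_mem_iff_of_index_two hK).mp h2

theorem inf_eq_Om' (hK : K.index = 2) (hB0 : B d 0 ∈ K) (hB1 : B d 1 ∉ K) :
    (S : Subgroup G) ⊓ K = Om' d := by
  ext s
  rw [mem_Om']
  constructor
  · rintro ⟨hsS, hsK⟩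
    rcases nf d s hsS with ⟨i, rfl⟩ | ⟨i, rfl⟩
    · rcases d.even_or_odd i with ⟨j, rfl⟩ | ⟨j, rfl⟩
      · exact ⟨j, Or.inl rfl⟩
      · exfalso
        exact A_odd_not_mem S d K hK (fun h => hB1 (h.mpr hB0)) j hsK
    · rcases d.even_or_odd i with ⟨j, rfl⟩ | ⟨j, rfl⟩
      · exact ⟨j, Or.inr rfl⟩
      · exfalso
        exact hB1 ((B_odd_mem_iff d j).mp hsK)
  · rintro ⟨j, rfl | rfl⟩
    · exact ⟨A_mem d _, A_even_mem d hK j⟩
    · exact ⟨B_mem d _, (B_even_mem_iff d j).mpr hB0⟩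

theorem inf_eq_Qm' (hK : K.index = 2) (hB0 : B d 0 ∉ K) (hB1 : B d 1 ∈ K) :
    (S : Subgroup G) ⊓ K = Qm' d := by
  ext s
  rw [mem_Qm']
  constructor
  · rintro ⟨hsS, hsK⟩
    rcases nf d s hsS with ⟨i, rfl⟩ | ⟨i, rfl⟩
    · rcases d.even_or_odd i with ⟨j, rfl⟩ | ⟨j, rfl⟩
      · exact ⟨j, Or.inl rfl⟩
      · exfalso
        exact A_odd_not_mem S d K hK (fun h => hB0 (h.mp hB1)) j hsK
    · rcases d.even_or_odd i with ⟨j, rfl⟩ | ⟨j, rfl⟩
      · exfalso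
        exact hB0 ((B_even_mem_iff d j).mp hsK)
      · exact ⟨j, Or.inr rfl⟩
  · rintro ⟨j, rfl | rfl⟩
    · exact ⟨A_mem d _, A_even_mem d hK j⟩
    · exact ⟨B_mem d _, (B_odd_mem_iff d j).mpr hB1⟩

theorem sylow_dihedral (hK : K.index = 2) (hB0 : B d 0 ∈ K) (hB1 : B d 1 ∉ K)
    (P : Sylow 2 ↥K) :
    Nonempty (↥(P : Subgroup ↥K) ≃* DihedralGroup (2 ^ (d.n - 1))) := by
  obtain ⟨e1⟩ := sylow_equiv_inf S K P
  obtain ⟨e2⟩ := d.Om_equiv_dihedral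
  have e3 : ↥((S : Subgroup G) ⊓ K) ≃* ↥(Om' d) :=
    MulEquiv.subgroupCongr (inf_eq_Om' S d K hK hB0 hB1)
  have e4 : ↥(Om' d) ≃* ↥d.Om :=
    (Subgroup.equivMapOfInjective d.Om (S : Subgroup G).subtype
      (S : Subgroup G).subtype_injective).symm
  exact ⟨((e1.trans e3).trans e4).trans e2⟩

theorem sylow_quaternion (hK : K.index = 2) (hB0 : B d 0 ∉ K) (hB1 : B d 1 ∈ K)
    (P : Sylow 2 ↥K) :
    Nonempty (↥(P : Subgroup ↥K) ≃* QuaternionGroup (2 ^ (d.n - 2))) := by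
  obtain ⟨e1⟩ := sylow_equiv_inf S K P
  obtain ⟨e2⟩ := d.Qm_equiv_quaternion
  have e3 : ↥((S : Subgroup G) ⊓ K) ≃* ↥(Qm' d) :=
    MulEquiv.subgroupCongr (inf_eq_Qm' S d K hK hB0 hB1)
  have e4 : ↥(Qm' d) ≃* ↥d.Qm :=
    (Subgroup.equivMapOfInjective d.Qm (S : Subgroup G).subtype
      (S : Subgroup G).subtype_injective).symm
  exact ⟨((e1.trans e3).trans e4).trans e2⟩

/-- all involutions are conjugate to `Z` under `K` -/
theorem invol_conj_in (hK : K.index = 2) (hB1 : B d 1 ∉ K)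
    (hfus : ∃ g : G, g * Z d * g⁻¹ = B d 0) (t : G) (ht : orderOf t = 2) :
    ∃ k ∈ K, k * Z d * k⁻¹ = t := by
  obtain ⟨g, hg⟩ : ∃ g : G, g * Z d * g⁻¹ = t := by
    have h1 : IsConj (Z d) t := by
      rcases invol_conj S d t ht with h | h
      · exact h.symm
      · exact (isConj_iff.mpr hfus).trans h.symm
    exact isConj_iff.mp h1
  by_cases hgK : g ∈ K
  · exact ⟨g, hgK, hg⟩
  · refine ⟨g * B d 1, mul_mem_of_index_two hK hgK hB1, ?_⟩
    have h1 : B d 1 * Z d * (B d 1)⁻¹ = Z d := by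
      rw [← Z_central d _ (B_mem d 1)]; group
    calc g * B d 1 * Z d * (g * B d 1)⁻¹ = g * (B d 1 * Z d * (B d 1)⁻¹) * g⁻¹ := by group
      _ = t := by rw [h1, hg]

/-- all elements of order four are conjugate to `A q` under `K` -/
theorem four_conj_in (hK : K.index = 2) (hB0 : B d 0 ∉ K) (hB1 : B d 1 ∈ K)
    (hfus : ∃ g : G, g * A d d.q * g⁻¹ = B d 1) (t : G) (ht : orderOf t = 4) :
    ∃ k ∈ K, k * A d d.q * k⁻¹ = t := by
  obtain ⟨g, hg⟩ : ∃ g : G, g * A d d.q * g⁻¹ = t := by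
    have h1 : IsConj (A d d.q) t := by
      rcases four_conj S d t ht with h | h
      · exact h.symm
      · exact (isConj_iff.mpr hfus).trans h.symm
    exact isConj_iff.mp h1
  by_cases hgK : g ∈ K
  · exact ⟨g, hgK, hg⟩
  · refine ⟨g * B d 0 * B d 1, K.mul_mem (mul_mem_of_index_two hK hgK hB0) hB1, ?_⟩
    have h1 : B d 1 * A d d.q * (B d 1)⁻¹ = (A d d.q)⁻¹ := conj_B_A_q d 1
    have h2 : B d 0 * (A d d.q)⁻¹ * (B d 0)⁻¹ = A d d.q := by
      calc B d 0 * (A d d.q)⁻¹ * (B d 0)⁻¹ = (B d 0 * A d d.q * (B d 0)⁻¹)⁻¹ := by group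
        _ = A d d.q := by rw [conj_B_A_q, inv_inv]
    calc g * B d 0 * B d 1 * A d d.q * (g * B d 0 * B d 1)⁻¹
        = g * (B d 0 * (B d 1 * A d d.q * (B d 1)⁻¹) * (B d 0)⁻¹) * g⁻¹ := by group
      _ = t := by rw [h1, h2, hg]

/-- `K` has no subgroup of index two, dihedral case -/
theorem no_index_two_dihedral (hK : K.index = 2) (hB1 : B d 1 ∉ K)
    (hfus : ∃ g : G, g * Z d * g⁻¹ = B d 0) (H : Subgroup ↥K) : H.index ≠ 2 := by
  intro hH
  haveI : H.Normal := Subgroup.normal_of_index_eq_two hH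
  have hZK : Z d ∈ K := Z_mem_of_index_two d hK
  have hB0 : B d 0 ∈ K := by
    obtain ⟨g, hg⟩ := hfus
    rw [← hg]; exact ‹K.Normal›.conj_mem _ hZK g
  have hAqK : A d d.q ∈ K := A_q_mem d hK
  have hZH : (⟨Z d, hZK⟩ : ↥K) ∈ H := by
    have h1 : (⟨Z d, hZK⟩ : ↥K) = ⟨A d d.q, hAqK⟩ * ⟨A d d.q, hAqK⟩ := by
      apply Subtype.ext
      rw [Subgroup.coe_mul]
      change Z d = A d d.q * A d d.q
      rw [A_mul_A, ← two_mul, d.two_q, Z_eq]
    rw [h1]; exact sq_mem_of_index_two hH _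
  have hinv : ∀ (t : G) (htK : t ∈ K), orderOf t = 2 → (⟨t, htK⟩ : ↥K) ∈ H := by
    intro t htK ht
    obtain ⟨k, hk, hkt⟩ := invol_conj_in S d K hK hB1 hfus t ht
    have h1 : (⟨t, htK⟩ : ↥K) = ⟨k, hk⟩ * ⟨Z d, hZK⟩ * ⟨k, hk⟩⁻¹ := by
      apply Subtype.ext
      rw [Subgroup.coe_mul, Subgroup.coe_mul, Subgroup.coe_inv]
      exact hkt.symm
    rw [h1]; exact ‹H.Normal›.conj_mem _ hZH _
  apply no_index_two S K H ?_ hH
  intro x hxS
  have hx : (x : G) ∈ (S : Subgroup G) ⊓ K := ⟨hxS, x.2⟩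
  rw [inf_eq_Om' S d K hK hB0 hB1, mem_Om'] at hx
  obtain ⟨j, hj | hj⟩ := hx
  · have hBj : B d (2 * j) ∈ K := (B_even_mem_iff d j).mpr hB0
    have h1 : x = ⟨B d (2 * j), hBj⟩ * ⟨B d 0, hB0⟩ := by
      apply Subtype.ext
      rw [Subgroup.coe_mul, hj, A_eq_B_mul_B]
    rw [h1]
    refine H.mul_mem (hinv _ hBj (orderOf_B_even d j)) (hinv _ hB0 ?_)
    have := orderOf_B_even d 0
    rwa [mul_zero] at this
  · have hBj : B d (2 * j) ∈ K := (B_even_mem_iff d j).mpr hB0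
    have h1 : x = ⟨B d (2 * j), hBj⟩ := Subtype.ext hj
    rw [h1]
    exact hinv _ hBj (orderOf_B_even d j)

theorem A_even_eq_B_mul_B (j : ZMod (2 ^ d.n)) :
    A d (2 * j) = B d (2 * (j + d.q) + 1) * B d 1 := by
  rw [B_mul_B]
  congr 1
  have h1 := d.E_eq
  have h2 := d.two_q
  have h3 := d.two_h
  linear_combination (-1 : ZMod (2 ^ d.n)) * h1 - h2 - h3

/-- `K` has no subgroup of index two, quaternion case -/
theorem no_index_two_quaternion (hK : K.index = 2) (hB0 : B d 0 ∉ K)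
    (hfus : ∃ g : G, g * A d d.q * g⁻¹ = B d 1) (H : Subgroup ↥K) : H.index ≠ 2 := by
  intro hH
  haveI : H.Normal := Subgroup.normal_of_index_eq_two hH
  have hAqK : A d d.q ∈ K := A_q_mem d hK
  have hB1 : B d 1 ∈ K := by
    obtain ⟨g, hg⟩ := hfus
    rw [← hg]; exact ‹K.Normal›.conj_mem _ hAqK g
  -- some element of order four lies in H
  obtain ⟨t₀, ht₀K, ht₀o, ht₀H⟩ : ∃ (t₀ : G) (ht₀K : t₀ ∈ K), orderOf t₀ = 4 ∧
      (⟨t₀, ht₀K⟩ : ↥K) ∈ H := by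
    by_cases h1 : (⟨A d d.q, hAqK⟩ : ↥K) ∈ H
    · exact ⟨_, hAqK, orderOf_A_q d, h1⟩
    · by_cases h2 : (⟨B d 1, hB1⟩ : ↥K) ∈ H
      · exact ⟨_, hB1, orderOf_B_one d, h2⟩
      · have h3 := mul_mem_of_index_two hH h1 h2
        refine ⟨A d d.q * B d 1, K.mul_mem hAqK hB1, ?_, h3⟩
        rw [A_mul_B, ← two_qq d]
        exact orderOf_B_odd d _
  have hwH : (⟨A d d.q, hAqK⟩ : ↥K) ∈ H := by
    obtain ⟨k, hk, hkt⟩ := four_conj_in S d K hK hB0 hB1 hfus t₀ ht₀o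
    have h1 : (⟨A d d.q, hAqK⟩ : ↥K) = ⟨k, hk⟩⁻¹ * ⟨t₀, ht₀K⟩ * ⟨k, hk⟩⁻¹⁻¹ := by
      apply Subtype.ext
      simp only [Subgroup.coe_mul, Subgroup.coe_inv]
      rw [← hkt]; group
    rw [h1]; exact ‹H.Normal›.conj_mem _ ht₀H _
  have hfour : ∀ (t : G) (htK : t ∈ K), orderOf t = 4 → (⟨t, htK⟩ : ↥K) ∈ H := by
    intro t htK ht
    obtain ⟨k, hk, hkt⟩ := four_conj_in S d K hK hB0 hB1 hfus t ht
    have h1 : (⟨t, htK⟩ : ↥K) = ⟨k, hk⟩ * ⟨A d d.q, hAqK⟩ * ⟨k, hk⟩⁻¹ := by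
      apply Subtype.ext
      rw [Subgroup.coe_mul, Subgroup.coe_mul, Subgroup.coe_inv]
      exact hkt.symm
    rw [h1]; exact ‹H.Normal›.conj_mem _ hwH _
  apply no_index_two S K H ?_ hH
  intro x hxS
  have hx : (x : G) ∈ (S : Subgroup G) ⊓ K := ⟨hxS, x.2⟩
  rw [inf_eq_Qm' S d K hK hB0 hB1, mem_Qm'] at hx
  obtain ⟨j, hj | hj⟩ := hx
  · have hBj : B d (2 * (j + d.q) + 1) ∈ K := (B_odd_mem_iff d _).mpr hB1
    have h1 : x = ⟨B d (2 * (j + d.q) + 1), hBj⟩ * ⟨B d 1, hB1⟩ := by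
      apply Subtype.ext
      rw [Subgroup.coe_mul, hj, A_even_eq_B_mul_B]
    rw [h1]
    exact H.mul_mem (hfour _ hBj (orderOf_B_odd d _)) (hfour _ hB1 (orderOf_B_one d))
  · have hBj : B d (2 * j + 1) ∈ K := (B_odd_mem_iff d j).mpr hB1
    have h1 : x = ⟨B d (2 * j + 1), hBj⟩ := Subtype.ext hj
    rw [h1]
    exact hfour _ hBj (orderOf_B_odd d j)

/-- the centre of `S` is weakly closed when `Z` is not fused to `B 0` -/
theorem weakly_closed_center (h : ∀ g : G, g * Z d * g⁻¹ ≠ B d 0) :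
    Cfsg.IsWeaklyClosed ((Subgroup.center ↥(S : Subgroup G)).map (S : Subgroup G).subtype)
      (S : Subgroup G) := by
  have hW : (Subgroup.center ↥(S : Subgroup G)).map (S : Subgroup G).subtype =
      Subgroup.zpowers (Z d) := by
    rw [d.center_eq, MonoidHom.map_zpowers]; rfl
  rw [hW]
  refine ⟨Subgroup.zpowers_le.mpr (Z_mem d), ?_⟩
  intro g hle
  rw [MonoidHom.map_zpowers] at hle ⊢
  have hgS : g * Z d * g⁻¹ ∈ (S : Subgroup G) := hle (Subgroup.mem_zpowers _)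
  have hgo : orderOf (g * Z d * g⁻¹) = 2 := by rw [orderOf_conj']; exact orderOf_Z d
  rcases invol_cases d _ hgS hgo with h1 | ⟨j, h1⟩
  · change Subgroup.zpowers (g * Z d * g⁻¹) = _
    rw [h1]
  · exfalso
    obtain ⟨s, -, hs⟩ := isConj_B_even d j
    apply h (s * g)
    rw [← hs, ← h1]; group

end data

end Cfsg.Agent.Helper2.QDF
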