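import Mathlib
import Cfsg.Agent.Helper2.QDF6
import Cfsg.Agent.Helper1.FrobPCompl

set_option autoImplicit false

/-! Normal 2-complement when both fusion patterns are trivial. -/

namespace Cfsg.Agent.Helper2.QDF

open Cfsg.Agent.Helper2.QD

variable {G : Type*} [Group G] [Finite G]

theorem A_mem_zpowers {S : Subgroup G} (d : QDat ↥S) (i : ZMod (2 ^ d.n)) :
    A d i ∈ Subgroup.zpowers (A d 1) := by
  obtain ⟨k, hk⟩ := Subgroup.mem_zpowers_iff.mp (d.a_mem i)
  have h1 : A d i = (A d 1) ^ k := by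
    unfold A
    rw [d.a_one, ← hk, Subgroup.coe_zpow]
  rw [h1]
  exact Subgroup.zpow_mem _ (Subgroup.mem_zpowers _) _

theorem normal_complement (S : Sylow 2 G) (d : QDat ↥(S : Subgroup G)) (K₁ K₂ : Subgroup G)
    [hn1 : K₁.Normal] [hn2 : K₂.Normal] (h1 : K₁.index = 2) (h2 : K₂.index = 2)
    (hB0 : B d 0 ∉ K₁) (hB1 : B d 1 ∉ K₂) : Cfsg.HasNormalPComplement 2 G := by
  classical
  haveI : Fact (Nat.Prime 2) := ⟨Nat.prime_two⟩
  set K := K₁ ⊓ K₂ with hK
  haveI hKn : K.Normal := inferInstance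
  -- index of K
  obtain ⟨k, hk⟩ : ∃ k, K.index = 2 ^ k := by
    have e1 : K.relIndex K₁ * K₁.index = K.index := Subgroup.relIndex_mul_index inf_le_left
    have e2 : K.relIndex K₁ = K₂.relIndex K₁ := Subgroup.inf_relIndex_left K₁ K₂
    have e3 : K₂.relIndex K₁ ∣ K₂.index := Subgroup.relIndex_dvd_index_of_normal K₂ K₁
    rw [h2] at e3
    rw [e2, h1] at e1
    rcases (Nat.dvd_prime Nat.prime_two).mp e3 with h | h
    · exact ⟨1, by rw [← e1, h]; norm_num⟩
    · exact ⟨2, by rw [← e1, h]; norm_num⟩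
  have hle : (S : Subgroup G) ⊓ K ≤ Subgroup.zpowers (A d 1) := by
    rintro s ⟨hsS, hsK⟩
    rcases nf d s hsS with ⟨i, rfl⟩ | ⟨i, rfl⟩
    · exact A_mem_zpowers d i
    · exfalso
      rcases d.even_or_odd i with ⟨j, rfl⟩ | ⟨j, rfl⟩
      · exact hB0 ((B_even_mem_iff d j).mp hsK.1)
      · exact hB1 ((B_odd_mem_iff d j).mp hsK.2)
  haveI hcyc : IsCyclic ↥((S : Subgroup G) ⊓ K) := Subgroup.isCyclic_of_le hle
  set P := sylowInf S K with hP
  have hPcyc : IsCyclic ↥(P : Subgroup ↥K) := by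
    have e := (Subgroup.subgroupOfEquivOfLe (inf_le_right : (S : Subgroup G) ⊓ K ≤ K)).symm
    exact isCyclic_of_surjective e e.surjective
  have hmin : (Nat.card K).minFac = 2 := by
    rw [Nat.minFac_eq_two_iff]
    have hZK : Z d ∈ K := ⟨Z_mem_of_index_two d h1, Z_mem_of_index_two d h2⟩
    have h3 : orderOf (⟨Z d, hZK⟩ : ↥K) = 2 := (Subgroup.orderOf_mk _ _).trans (orderOf_Z d)
    rw [← h3]
    exact orderOf_dvd_natCard _
  have hcompl := IsCyclic.isComplement' hmin hPcyc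
  have hKc : Cfsg.HasNormalPComplement 2 K := ⟨P, _, MonoidHom.normal_ker _, hcompl⟩
  exact Cfsg.Agent.Helper1.hasNormalPComplement_of_normal_ppow_index K hk hKc

end Cfsg.Agent.Helper2.QDF
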