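import Mathlib
import Cfsg.Agent.Helper2.QDF6
import Cfsg.Agent.Helper1.KleinSylow
import Cfsg.Agent.S3742

set_option autoImplicit false

/-! The automizer indices of a Klein four-subgroup and of a quaternion subgroup of order eight in a
group with quasidihedral Sylow 2-subgroups are 2 or 6. -/

namespace Cfsg.Agent.Helper2.QDF

open Cfsg.Agent.Helper2.QD

variable {G : Type*} [Group G] [Finite G]

theorem two_or_six {r : ℕ} (h6 : r ∣ 6) (h2 : 2 ∣ r) : r = 2 ∨ r = 6 := by
  have hle : r ≤ 6 := Nat.le_of_dvd (by norm_num) h6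
  interval_cases r <;> omega

theorem relIndex_T_cases (S : Sylow 2 G) (d : QDat ↥(S : Subgroup G)) (T : Subgroup G)
    (hT : IsKleinFour T) (hTS : T ≤ S) :
    (Subgroup.centralizer (T : Set G)).relIndex (Subgroup.normalizer (T : Set G)) = 2 ∨
      (Subgroup.centralizer (T : Set G)).relIndex (Subgroup.normalizer (T : Set G)) = 6 := by
  classical
  obtain ⟨j, hmem⟩ := klein_struct d T hT hTS
  have hker : (T.normalizerMonoidHom).ker.index =
      (Subgroup.centralizer (T : Set G)).relIndex (Subgroup.normalizer (T : Set G)) := by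
    rw [Subgroup.normalizerMonoidHom_ker T]
    rfl
  rw [← hker, Subgroup.index_ker]
  apply two_or_six
  · have h1 : Nat.card (T.normalizerMonoidHom).range ∣ Nat.card (MulAut T) :=
      Subgroup.card_subgroup_dvd_card _
    have h2 := Cfsg.Agent.Helper1.card_mulAut_dvd_factorial T
    rw [hT.card_four] at h2
    exact h1.trans h2
  · -- the element `A q` induces an automorphism of order two
    have hzT : Z d ∈ T := by rw [hmem]; right; left; rfl
    have huT : B d (2 * j) ∈ T := by rw [hmem]; right; right; left; rfl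
    have hcz : A d d.q * Z d * (A d d.q)⁻¹ = Z d := conj_A_q_Z d
    have hcu : A d d.q * B d (2 * j) * (A d d.q)⁻¹ = Z d * B d (2 * j) := conj_A_q_B d _
    have hconj_mul : ∀ x a b : G, x * (a * b) * x⁻¹ = (x * a * x⁻¹) * (x * b * x⁻¹) := by
      intro x a b; group
    have hcN : A d d.q ∈ Subgroup.normalizer (T : Set G) := by
      apply Subgroup.mem_normalizer_fintype
      intro t ht
      rw [SetLike.mem_coe] at ht ⊢
      rcases (hmem t).mp ht with rfl | rfl | rfl | rfl
      · rw [mul_one, mul_inv_cancel]; exact T.one_mem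
      · rw [hcz]; exact hzT
      · rw [hcu]; exact T.mul_mem hzT huT
      · rw [hconj_mul, hcz, hcu]; exact T.mul_mem hzT (T.mul_mem hzT huT)
    set σ : (T.normalizerMonoidHom).range := ⟨T.normalizerMonoidHom ⟨A d d.q, hcN⟩, ⟨_, rfl⟩⟩ with hσ
    have hact : ∀ x : T, (((σ : MulAut T) x : T) : G) = A d d.q * x * (A d d.q)⁻¹ := fun x =>
      Subgroup.normalizerMonoidHom_apply_apply_coe T ⟨A d d.q, hcN⟩ x
    have hσ2 : orderOf σ = 2 := by
      rw [orderOf_eq_prime_iff]
      constructor
      · apply Subtype.ext
        apply MulEquiv.ext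
        intro x
        apply Subtype.ext
        rw [Subgroup.coe_pow, pow_two, MulAut.mul_apply, hact, hact, Subgroup.coe_one,
          MulAut.one_apply]
        have hx : (x : G) ∈ (S : Subgroup G) := hTS x.2
        have e1 : A d d.q * (A d d.q * x * (A d d.q)⁻¹) * (A d d.q)⁻¹ =
            (A d d.q * A d d.q) * x * (A d d.q * A d d.q)⁻¹ := by group
        rw [e1, A_mul_A, ← two_mul, d.two_q, ← Z_eq, Z_central d _ hx]
        group
      · intro h1
        have h2 := hact ⟨B d (2 * j), huT⟩
        rw [h1, Subgroup.coe_one, MulAut.one_apply] at h2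
        change B d (2 * j) = _ at h2
        rw [hcu] at h2
        apply Z_ne_one d
        calc Z d = Z d * B d (2 * j) * (B d (2 * j))⁻¹ := by group
          _ = 1 := by rw [← h2]; group
    rw [← hσ2]
    exact orderOf_dvd_natCard σ

theorem card_mulAut_quat (Q : Type*) [Group Q] (eQ : Q ≃* QuaternionGroup 2) :
    Nat.card (MulAut Q) = 24 := by
  obtain ⟨e⟩ := Cfsg.Agent.S3742.result
  have e2 : MulAut Q ≃* MulAut (QuaternionGroup 2) := MulAut.congr eQ
  rw [Nat.card_congr (e2.trans e).toEquiv, Nat.card_perm, Nat.card_fin]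
  rfl

theorem relIndex_Q_cases (S : Sylow 2 G) (d : QDat ↥(S : Subgroup G)) (Q : Subgroup G)
    (hQS : Q ≤ S) (eQ : Q ≃* QuaternionGroup 2) :
    (Q ⊔ Subgroup.centralizer (Q : Set G)).relIndex (Subgroup.normalizer (Q : Set G)) = 2 ∨
      (Q ⊔ Subgroup.centralizer (Q : Set G)).relIndex (Subgroup.normalizer (Q : Set G)) = 6 := by
  classical
  obtain ⟨hwQ, j, hvQ⟩ := quat_struct d Q hQS eQ
  set N := Subgroup.normalizer (Q : Set G) with hN
  set C := Subgroup.centralizer (Q : Set G) with hC
  have hQN : Q ≤ N := Subgroup.le_normalizer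
  have hCN : C ≤ N := Subgroup.centralizer_le_normalizer _
  have hle1 : C ≤ Q ⊔ C := le_sup_right
  have hle2 : Q ⊔ C ≤ N := sup_le hQN hCN
  have hmul := Subgroup.relIndex_mul_relIndex _ _ _ hle1 hle2
  have hker : (Q.normalizerMonoidHom).ker.index = C.relIndex N := by
    rw [Subgroup.normalizerMonoidHom_ker Q]
    rfl
  haveI hCn : (C.subgroupOf N).Normal := by
    rw [hC, hN, ← Subgroup.normalizerMonoidHom_ker]
    exact MonoidHom.normal_ker _
  -- the index of `C` in `Q C` is four
  have h4 : C.relIndex (Q ⊔ C) = 4 := by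
    rw [← Subgroup.relIndex_subgroupOf hle2, Subgroup.subgroupOf_sup hQN hCN,
      Subgroup.relIndex_sup_right, Subgroup.relIndex_subgroupOf hQN]
    -- index of the centre of `Q`
    have h5 : C.subgroupOf Q = Subgroup.center Q := by
      ext x
      rw [Subgroup.mem_subgroupOf, hC, Subgroup.mem_centralizer_iff, Subgroup.mem_center_iff]
      constructor
      · intro h g
        exact Subtype.ext (h g g.2)
      · intro h g hg
        exact congrArg Subtype.val (h ⟨g, hg⟩)
    rw [Subgroup.relIndex, h5]
    have e' : Q.subgroupOf (S : Subgroup G) ≃* QuaternionGroup 2 :=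
      (Subgroup.subgroupOfEquivOfLe hQS).trans eQ
    have hcard : Nat.card Q = 8 := by
      rw [Nat.card_congr eQ.toEquiv, Nat.card_eq_fintype_card, QuaternionGroup.card]
    have hc2 : Nat.card (Subgroup.center Q) = 2 := by
      -- the centre consists of `1` and `Z`
      have hZQ : Z d ∈ Q := by
        have : Z d = A d d.q * A d d.q := by rw [A_mul_A, ← two_mul, d.two_q, Z_eq]
        rw [this]; exact Q.mul_mem hwQ hwQ
      have hsub : Subgroup.center Q = Subgroup.zpowers (⟨Z d, hZQ⟩ : Q) := by
        apply le_antisymm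
        · intro x hx
          rw [Subgroup.mem_center_iff] at hx
          -- `x` commutes with `A q` and `B (2j+1)`
          have h1 := congrArg Subtype.val (hx ⟨A d d.q, hwQ⟩)
          have h2 := congrArg Subtype.val (hx ⟨B d (2 * j + 1), hvQ⟩)
          rw [Subgroup.coe_mul, Subgroup.coe_mul] at h1 h2
          change A d d.q * (x : G) = x * A d d.q at h1
          change B d (2 * j + 1) * (x : G) = x * B d (2 * j + 1) at h2
          have hxS : (x : G) ∈ (S : Subgroup G) := hQS x.2
          rcases nf d _ hxS with ⟨i, hi⟩ | ⟨i, hi⟩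
          · rw [hi, B_mul_A, A_mul_B] at h2
            have h3 := B_inj d h2
            have h4 : (1 - d.E) * i = 0 := by linear_combination (-1 : ZMod (2 ^ d.n)) * h3
            rcases (d.one_sub_E_mul_eq_zero_iff i).mp h4 with h5 | h5
            · have : x = 1 := Subtype.ext (by rw [hi, h5, A_zero]; rfl)
              rw [this]; exact Subgroup.one_mem _
            · have : x = ⟨Z d, hZQ⟩ := Subtype.ext (by rw [hi, h5]; rfl)
              rw [this]; exact Subgroup.mem_zpowers _
          · exfalso
            rw [hi, A_mul_B, B_mul_A] at h1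
            have h3 := B_inj d h1
            rw [d.E_mul_q] at h3
            have h4 : 2 * d.q = 0 := by linear_combination h3
            rw [d.two_q] at h4
            exact d.h_ne_zero h4
        · rw [Subgroup.zpowers_le, Subgroup.mem_center_iff]
          intro g
          apply Subtype.ext
          rw [Subgroup.coe_mul, Subgroup.coe_mul]
          exact (Z_central d _ (hQS g.2)).symm
      rw [hsub, Nat.card_zpowers, Subgroup.orderOf_mk]
      exact orderOf_Z d
    have h6 := (Subgroup.center Q).card_mul_index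
    rw [hc2, hcard] at h6
    omega
  -- divisibility by the order of the automorphism group
  have h24 : C.relIndex N ∣ 24 := by
    rw [← hker, Subgroup.index_ker, ← card_mulAut_quat Q eQ]
    exact Subgroup.card_subgroup_dvd_card _
  rw [← hmul, h4] at h24
  have h6 : (Q ⊔ C).relIndex N ∣ 6 := by
    have : (4 : ℕ) * (Q ⊔ C).relIndex N ∣ 4 * 6 := h24
    exact (Nat.mul_dvd_mul_iff_left (by norm_num)).mp this
  apply two_or_six h6
  -- an element of order two in the quotient
  haveI hQn : (Q.subgroupOf N).Normal := Subgroup.normal_in_normalizer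
  haveI hHn : ((Q ⊔ C).subgroupOf N).Normal := by
    rw [Subgroup.subgroupOf_sup hQN hCN]
    infer_instance
  have hcN : A d (qq d) ∈ N := qq_mem_normalizer d Q hQS eQ
  have hcH : A d (qq d) ∉ Q ⊔ C := fun h =>
    qq_not_mem_invNorm d j (quat_sup_le_invNorm Q eQ _ hvQ h)
  set cbar : N ⧸ (Q ⊔ C).subgroupOf N := QuotientGroup.mk ⟨A d (qq d), hcN⟩ with hcbar
  have hord : orderOf cbar = 2 := by
    rw [orderOf_eq_prime_iff]
    constructor
    · rw [hcbar, ← QuotientGroup.mk_pow, QuotientGroup.eq_one_iff, Subgroup.mem_subgroupOf,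
        Subgroup.coe_pow]
      change A d (qq d) ^ 2 ∈ Q ⊔ C
      rw [pow_two, A_mul_A, ← two_mul, two_qq]
      exact le_sup_left (a := Q) hwQ
    · rw [hcbar, Ne, QuotientGroup.eq_one_iff, Subgroup.mem_subgroupOf]
      exact hcH
  have : orderOf cbar ∣ Nat.card (N ⧸ (Q ⊔ C).subgroupOf N) := orderOf_dvd_natCard _
  rw [hord] at this
  exact this

end Cfsg.Agent.Helper2.QDF
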