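import Mathlib
import Cfsg.Prelude.Def_CaseTheorems
import Cfsg.Agent.Helper2.QD1

set_option autoImplicit false

/-! Normal form for wreathed 2-groups `Z_{2^n} ≀ Z_2`. -/

namespace Cfsg.Agent.Helper2.Wr

open Cfsg.Agent.Helper2.QD

variable {S : Type*} [Group S]

/-- Data of a wreathed group. -/
structure WDat (S : Type*) [Group S] where
  n : ℕ
  x : S
  y : S
  z : S
  hn : 2 ≤ n
  card : Nat.card S = 2 ^ (2 * n + 1)
  hx : orderOf x = 2 ^ n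
  hxy : x * y = y * x
  hdisj : Subgroup.zpowers x ⊓ Subgroup.zpowers y = ⊥
  hz : orderOf z = 2
  hrel : z * x * z⁻¹ = y

theorem exists_dat (h : Cfsg.IsWreathed S) : Nonempty (WDat S) := by
  obtain ⟨n, hn, hc, x, y, z, hx, hxy, hd, hz, hrel⟩ := h
  exact ⟨⟨n, x, y, z, hn, hc, hx, hxy, hd, hz, hrel⟩⟩

namespace WDat

variable (d : WDat S)

instance : NeZero (2 ^ d.n) := ⟨by positivity⟩

theorem hzz : d.z * d.z = 1 := by
  have := pow_orderOf_eq_one d.z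
  rw [d.hz, pow_two] at this
  exact this

theorem z_inv : d.z⁻¹ = d.z := inv_eq_of_mul_eq_one_right d.hzz

theorem hy : orderOf d.y = 2 ^ d.n := by
  rw [← d.hrel, ← d.hx]
  exact (MulAut.conj d.z).orderOf_eq d.x

theorem hrel2 : d.z * d.y * d.z⁻¹ = d.x := by
  rw [← d.hrel, d.z_inv]
  calc d.z * (d.z * d.x * d.z) * d.z = (d.z * d.z) * d.x * (d.z * d.z) := by group
    _ = d.x := by rw [d.hzz, one_mul, mul_one]

/-- the abelian part -/
def A (i j : ZMod (2 ^ d.n)) : S := X d.x (2 ^ d.n) i * X d.y (2 ^ d.n) j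

/-- the other coset -/
def B (i j : ZMod (2 ^ d.n)) : S := d.A i j * d.z

theorem Xx_comm_Xy (i j : ZMod (2 ^ d.n)) :
    X d.x (2 ^ d.n) i * X d.y (2 ^ d.n) j = X d.y (2 ^ d.n) j * X d.x (2 ^ d.n) i := by
  unfold X
  have h : Commute d.x d.y := d.hxy
  exact ((h.pow_left _).pow_right _).eq

theorem A_add (i j k l : ZMod (2 ^ d.n)) : d.A (i + k) (j + l) = d.A i j * d.A k l := by
  unfold A
  rw [X_add d.x _ d.hx, X_add d.y _ d.hy]
  calc X d.x (2 ^ d.n) i * X d.x (2 ^ d.n) k * (X d.y (2 ^ d.n) j * X d.y (2 ^ d.n) l)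
      = X d.x (2 ^ d.n) i * (X d.x (2 ^ d.n) k * X d.y (2 ^ d.n) j) * X d.y (2 ^ d.n) l := by
        group
    _ = X d.x (2 ^ d.n) i * (X d.y (2 ^ d.n) j * X d.x (2 ^ d.n) k) * X d.y (2 ^ d.n) l := by
        rw [d.Xx_comm_Xy]
    _ = _ := by group

theorem A_zero : d.A 0 0 = 1 := by
  unfold A; rw [X_zero d.x _ d.hx, X_zero d.y _ d.hy, one_mul]

theorem A_inv (i j : ZMod (2 ^ d.n)) : (d.A i j)⁻¹ = d.A (-i) (-j) := by
  rw [inv_eq_iff_mul_eq_one, ← A_add, add_neg_cancel, add_neg_cancel, A_zero]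

theorem A_eq_one_iff (i j : ZMod (2 ^ d.n)) : d.A i j = 1 ↔ i = 0 ∧ j = 0 := by
  constructor
  · intro h
    unfold A at h
    have h1 : X d.x (2 ^ d.n) i = (X d.y (2 ^ d.n) j)⁻¹ := eq_inv_of_mul_eq_one_left h
    have h2 : X d.x (2 ^ d.n) i ∈ Subgroup.zpowers d.x ⊓ Subgroup.zpowers d.y :=
      ⟨X_mem d.x _ d.hx i, by rw [h1]; exact Subgroup.inv_mem _ (X_mem d.y _ d.hy j)⟩
    rw [d.hdisj, Subgroup.mem_bot] at h2
    have hi := (X_eq_one_iff d.x _ d.hx).mp h2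
    rw [h2, one_mul] at h
    exact ⟨hi, (X_eq_one_iff d.y _ d.hy).mp h⟩
  · rintro ⟨rfl, rfl⟩
    exact d.A_zero

theorem A_inj {i j k l : ZMod (2 ^ d.n)} (h : d.A i j = d.A k l) : i = k ∧ j = l := by
  have h1 : d.A (i - k) (j - l) = 1 := by
    rw [sub_eq_add_neg, sub_eq_add_neg, A_add, ← A_inv, h, mul_inv_cancel]
  obtain ⟨h2, h3⟩ := (d.A_eq_one_iff _ _).mp h1
  exact ⟨sub_eq_zero.mp h2, sub_eq_zero.mp h3⟩

theorem z_conj_Xx (i : ZMod (2 ^ d.n)) : d.z * X d.x (2 ^ d.n) i * d.z⁻¹ = X d.y (2 ^ d.n) i := by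
  unfold X
  rw [← conj_pow, d.hrel]

theorem z_conj_Xy (i : ZMod (2 ^ d.n)) : d.z * X d.y (2 ^ d.n) i * d.z⁻¹ = X d.x (2 ^ d.n) i := by
  unfold X
  rw [← conj_pow, d.hrel2]

theorem z_conj_A (i j : ZMod (2 ^ d.n)) : d.z * d.A i j * d.z⁻¹ = d.A j i := by
  unfold A
  calc d.z * (X d.x (2 ^ d.n) i * X d.y (2 ^ d.n) j) * d.z⁻¹
      = (d.z * X d.x (2 ^ d.n) i * d.z⁻¹) * (d.z * X d.y (2 ^ d.n) j * d.z⁻¹) := by group
    _ = X d.y (2 ^ d.n) i * X d.x (2 ^ d.n) j := by rw [d.z_conj_Xx, d.z_conj_Xy]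
    _ = _ := (d.Xx_comm_Xy j i).symm

theorem z_mul_A (i j : ZMod (2 ^ d.n)) : d.z * d.A i j = d.A j i * d.z := by
  rw [← d.z_conj_A i j]; group

theorem A_mul_B (i j k l : ZMod (2 ^ d.n)) : d.A i j * d.B k l = d.B (i + k) (j + l) := by
  unfold B; rw [← mul_assoc, ← A_add]

theorem B_mul_A (i j k l : ZMod (2 ^ d.n)) : d.B i j * d.A k l = d.B (i + l) (j + k) := by
  unfold B; rw [mul_assoc, d.z_mul_A, ← mul_assoc, ← A_add]

theorem B_mul_B (i j k l : ZMod (2 ^ d.n)) : d.B i j * d.B k l = d.A (i + l) (j + k) := by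
  unfold B
  rw [← mul_assoc, mul_assoc (d.A i j), d.z_mul_A, ← mul_assoc, ← A_add, mul_assoc, d.hzz, mul_one]

theorem B_inv (i j : ZMod (2 ^ d.n)) : (d.B i j)⁻¹ = d.B (-j) (-i) := by
  rw [inv_eq_iff_mul_eq_one, B_mul_B, add_neg_cancel, add_neg_cancel, A_zero]

theorem B_zero : d.B 0 0 = d.z := by unfold B; rw [A_zero, one_mul]

end WDat

end Cfsg.Agent.Helper2.Wr
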