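import Mathlib
import Cfsg.Prelude.Def_CaseTheorems
import Cfsg.Agent.Helper2.W1

set_option autoImplicit false

/-! Normal form for wreathed 2-groups, continued: the normal form theorem and conjugation. -/

namespace Cfsg.Agent.Helper2.Wr

open Cfsg.Agent.Helper2.QD

variable {S : Type*} [Group S]

namespace WDat

variable (d : WDat S)

/-- half of the modulus -/
def h : ZMod (2 ^ d.n) := ((2 ^ (d.n - 1) : ℕ) : ZMod (2 ^ d.n))

theorem two_h : 2 * d.h = 0 := by
  unfold h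
  have hn := d.hn
  have : 2 * 2 ^ (d.n - 1) = 2 ^ d.n := by
    rw [← pow_succ']; congr 1; omega
  have h2 : ((2 * 2 ^ (d.n - 1) : ℕ) : ZMod (2 ^ d.n)) = 0 := by
    rw [this]; exact ZMod.natCast_self _
  rw [← h2]; push_cast; ring

theorem h_add_h : d.h + d.h = 0 := by rw [← two_mul, d.two_h]

theorem neg_h : -d.h = d.h := by
  rw [neg_eq_iff_add_eq_zero, d.h_add_h]

theorem h_ne_zero : d.h ≠ 0 := by
  unfold h
  rw [Ne, ZMod.natCast_eq_zero_iff]
  intro hd
  have h1 := Nat.le_of_dvd (by positivity) hd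
  have hn := d.hn
  have h2 : 2 ^ (d.n - 1) < 2 ^ d.n := Nat.pow_lt_pow_right (by norm_num) (by omega)
  omega

theorem two_mul_eq_zero_iff (k : ZMod (2 ^ d.n)) : 2 * k = 0 ↔ k = 0 ∨ k = d.h := by
  constructor
  · intro hk
    have hkv : k = ((k.val : ℕ) : ZMod (2 ^ d.n)) := (ZMod.natCast_zmod_val k).symm
    have h1 : ((2 * k.val : ℕ) : ZMod (2 ^ d.n)) = 0 := by
      push_cast; rw [ZMod.natCast_zmod_val]; exact hk
    have hlt := ZMod.val_lt k
    obtain ⟨a, ha⟩ : ∃ a, a = k.val := ⟨_, rfl⟩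
    rw [← ha] at h1 hlt hkv
    rw [ZMod.natCast_eq_zero_iff] at h1
    have hn := d.hn
    have e : 2 ^ d.n = 2 * 2 ^ (d.n - 1) := by rw [← pow_succ']; congr 1; omega
    rw [e] at h1 hlt
    have h2 : 2 ^ (d.n - 1) ∣ a := (Nat.mul_dvd_mul_iff_left (by norm_num)).mp h1
    obtain ⟨c, hc⟩ := h2
    have hpos : 0 < 2 ^ (d.n - 1) := by positivity
    have hc2 : c < 2 := by
      by_contra hge
      push Not at hge
      have : 2 ^ (d.n - 1) * 2 ≤ 2 ^ (d.n - 1) * c := Nat.mul_le_mul_left _ hge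
      omega
    interval_cases c
    · left
      rw [hkv, hc]; simp
    · right
      rw [hkv, hc, mul_one]; rfl
  · rintro (rfl | rfl)
    · ring
    · exact d.two_h

theorem one_ne_zero : (1 : ZMod (2 ^ d.n)) ≠ 0 := by
  intro h1
  have h2 : ((1 : ℕ) : ZMod (2 ^ d.n)) = 0 := by rw [Nat.cast_one]; exact h1
  rw [ZMod.natCast_eq_zero_iff] at h2
  have hn := d.hn
  have h3 : 2 ^ 1 < 2 ^ d.n := Nat.pow_lt_pow_right (by norm_num) (by omega)
  have := Nat.le_of_dvd (by norm_num) h2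
  omega

theorem A_one_zero : d.A 1 0 = d.x := by
  unfold A; rw [X_one d.x _ d.hx, X_zero d.y _ d.hy, mul_one]

theorem A_zero_one : d.A 0 1 = d.y := by
  unfold A; rw [X_one d.y _ d.hy, X_zero d.x _ d.hx, one_mul]

theorem A_comm (i j k l : ZMod (2 ^ d.n)) : d.A i j * d.A k l = d.A k l * d.A i j := by
  rw [← A_add, ← A_add, add_comm i k, add_comm j l]

theorem z_ne_A (i j : ZMod (2 ^ d.n)) : d.z ≠ d.A i j := by
  intro hz
  have h1 := d.z_conj_A 1 0
  rw [hz, d.A_comm, mul_inv_cancel_right] at h1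
  exact d.one_ne_zero (d.A_inj h1).1

theorem A_ne_B (i j k l : ZMod (2 ^ d.n)) : d.A i j ≠ d.B k l := by
  intro hAB
  unfold B at hAB
  apply d.z_ne_A (i - k) (j - l)
  have : d.z = (d.A k l)⁻¹ * d.A i j := by rw [hAB]; group
  rw [this, A_inv, ← A_add]
  congr 1 <;> ring

theorem B_inj {i j k l : ZMod (2 ^ d.n)} (hBB : d.B i j = d.B k l) : i = k ∧ j = l := by
  unfold B at hBB
  exact d.A_inj (mul_right_cancel hBB)

/-- normal form -/
theorem nf (s : S) : (∃ i j, s = d.A i j) ∨ (∃ i j, s = d.B i j) := by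
  haveI : Finite S := Nat.finite_of_card_ne_zero (by rw [d.card]; positivity)
  haveI : NeZero (2 ^ d.n) := ⟨by positivity⟩
  let f : ZMod (2 ^ d.n) × ZMod (2 ^ d.n) × Bool → S := fun p =>
    if p.2.2 then d.B p.1 p.2.1 else d.A p.1 p.2.1
  have hinj : Function.Injective f := by
    rintro ⟨i, j, b⟩ ⟨k, l, c⟩ hf
    cases b <;> cases c <;> simp only [f, Bool.false_eq_true, if_false, if_true] at hf
    · obtain ⟨rfl, rfl⟩ := d.A_inj hf; rfl
    · exact absurd hf (d.A_ne_B _ _ _ _)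
    · exact absurd hf.symm (d.A_ne_B _ _ _ _)
    · obtain ⟨rfl, rfl⟩ := d.B_inj hf; rfl
  have hcard : Nat.card (ZMod (2 ^ d.n) × ZMod (2 ^ d.n) × Bool) = Nat.card S := by
    rw [Nat.card_prod, Nat.card_prod, Nat.card_zmod, Nat.card_eq_fintype_card, Fintype.card_bool,
      d.card]
    ring
  have hbij : Function.Bijective f :=
    (Nat.bijective_iff_injective_and_card f).mpr ⟨hinj, hcard⟩
  obtain ⟨⟨i, j, b⟩, hp⟩ := hbij.2 s
  cases b <;> simp only [f, Bool.false_eq_true, if_false, if_true] at hp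
  · left; exact ⟨i, j, hp.symm⟩
  · right; exact ⟨i, j, hp.symm⟩

theorem conj_A_A (k l i j : ZMod (2 ^ d.n)) : d.A k l * d.A i j * (d.A k l)⁻¹ = d.A i j := by
  rw [d.A_comm, mul_inv_cancel_right]

theorem conj_A_B (k l i j : ZMod (2 ^ d.n)) :
    d.A k l * d.B i j * (d.A k l)⁻¹ = d.B (i + k - l) (j + l - k) := by
  rw [A_mul_B, A_inv, B_mul_A]
  congr 1 <;> ring

theorem conj_B_A (k l i j : ZMod (2 ^ d.n)) : d.B k l * d.A i j * (d.B k l)⁻¹ = d.A j i := by
  rw [B_mul_A, B_inv, B_mul_B]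
  congr 1 <;> ring

theorem conj_B_B (k l i j : ZMod (2 ^ d.n)) :
    d.B k l * d.B i j * (d.B k l)⁻¹ = d.B (k + j - l) (l + i - k) := by
  rw [B_mul_B, B_inv, A_mul_B]
  congr 1 <;> ring

theorem A_pow (i j : ZMod (2 ^ d.n)) (k : ℕ) :
    (d.A i j) ^ k = d.A ((k : ZMod (2 ^ d.n)) * i) ((k : ZMod (2 ^ d.n)) * j) := by
  induction k with
  | zero => simp [A_zero]
  | succ k ih =>
    rw [pow_succ, ih, ← A_add]
    congr 1 <;> push_cast <;> ring

theorem B_sq (i j : ZMod (2 ^ d.n)) : d.B i j * d.B i j = d.A (i + j) (i + j) := by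
  rw [B_mul_B, add_comm j i]

theorem B_ne_one (i j : ZMod (2 ^ d.n)) : d.B i j ≠ 1 := by
  rw [← d.A_zero]; exact (d.A_ne_B _ _ _ _).symm

theorem orderOf_B_eq_two_iff (i j : ZMod (2 ^ d.n)) : orderOf (d.B i j) = 2 ↔ i + j = 0 := by
  rw [orderOf_eq_iff (by norm_num)]
  constructor
  · rintro ⟨h1, -⟩
    rw [pow_two, B_sq, A_eq_one_iff] at h1
    exact h1.1
  · intro hij
    refine ⟨by rw [pow_two, B_sq, hij, A_zero], ?_⟩
    intro m hm hm0
    have : m = 1 := by omega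
    subst this
    rw [pow_one]; exact d.B_ne_one i j

theorem orderOf_A_eq_two_iff (i j : ZMod (2 ^ d.n)) :
    orderOf (d.A i j) = 2 ↔ (i = d.h ∧ j = d.h) ∨ (i = d.h ∧ j = 0) ∨ (i = 0 ∧ j = d.h) := by
  rw [orderOf_eq_iff (by norm_num)]
  constructor
  · rintro ⟨h1, h2⟩
    rw [A_pow, A_eq_one_iff] at h1
    have hne : ¬ (i = 0 ∧ j = 0) := by
      have := h2 1 (by norm_num) (by norm_num)
      rw [pow_one] at this
      rwa [Ne, A_eq_one_iff] at this
    obtain ⟨h3, h4⟩ := h1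
    have h3' : 2 * i = 0 := by exact_mod_cast h3
    have h4' : 2 * j = 0 := by exact_mod_cast h4
    rcases (d.two_mul_eq_zero_iff i).mp h3' with hi | hi <;>
      rcases (d.two_mul_eq_zero_iff j).mp h4' with hj | hj
    · exact absurd ⟨hi, hj⟩ hne
    · right; right; exact ⟨hi, hj⟩
    · right; left; exact ⟨hi, hj⟩
    · left; exact ⟨hi, hj⟩
  · intro hc
    have h2i : 2 * i = 0 := by
      rcases hc with ⟨rfl, -⟩ | ⟨rfl, -⟩ | ⟨rfl, -⟩
      · exact d.two_h
      · exact d.two_h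
      · ring
    have h2j : 2 * j = 0 := by
      rcases hc with ⟨-, rfl⟩ | ⟨-, rfl⟩ | ⟨-, rfl⟩
      · exact d.two_h
      · ring
      · exact d.two_h
    refine ⟨?_, ?_⟩
    · rw [A_pow, A_eq_one_iff]
      exact ⟨by exact_mod_cast h2i, by exact_mod_cast h2j⟩
    · intro m hm hm0
      have : m = 1 := by omega
      subst this
      rw [pow_one, Ne, A_eq_one_iff]
      rintro ⟨rfl, rfl⟩
      rcases hc with ⟨h1, -⟩ | ⟨h1, -⟩ | ⟨-, h1⟩ <;> exact d.h_ne_zero h1.symm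

end WDat

end Cfsg.Agent.Helper2.Wr
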