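import Mathlib
import Cfsg.Prelude.Def_CaseTheorems
import Cfsg.Agent.Helper2.W2

set_option autoImplicit false

/-! Wreathed 2-groups: commuting relations, centre, the abelian subgroup of index two. -/

namespace Cfsg.Agent.Helper2.Wr

open Cfsg.Agent.Helper2.QD

variable {S : Type*} [Group S]

namespace WDat

variable (d : WDat S)

theorem comm_A_B_iff (k l i j : ZMod (2 ^ d.n)) :
    d.A k l * d.B i j = d.B i j * d.A k l ↔ k = l := by
  rw [A_mul_B, B_mul_A]
  constructor
  · intro hh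
    have := (d.B_inj hh).1
    linear_combination this
  · rintro rfl
    rw [add_comm k i, add_comm k j]

theorem comm_B_B_iff (k l i j : ZMod (2 ^ d.n)) :
    d.B k l * d.B i j = d.B i j * d.B k l ↔ k - l = i - j := by
  rw [B_mul_B, B_mul_B]
  constructor
  · intro hh
    have := (d.A_inj hh).1
    linear_combination this
  · intro hh
    congr 1
    · linear_combination hh
    · linear_combination -hh

theorem A_diag_mem_center (i : ZMod (2 ^ d.n)) : d.A i i ∈ Subgroup.center S := by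
  rw [Subgroup.mem_center_iff]
  intro g
  rcases d.nf g with ⟨k, l, rfl⟩ | ⟨k, l, rfl⟩
  · exact d.A_comm _ _ _ _
  · exact ((d.comm_A_B_iff i i k l).mpr rfl).symm

theorem mem_center_iff (s : S) : s ∈ Subgroup.center S ↔ ∃ i, s = d.A i i := by
  constructor
  · intro hs
    rw [Subgroup.mem_center_iff] at hs
    rcases d.nf s with ⟨i, j, rfl⟩ | ⟨i, j, rfl⟩
    · have := hs d.z
      rw [← d.B_zero] at this
      exact ⟨i, by rw [(d.comm_A_B_iff i j 0 0).mp this.symm]⟩
    · exfalso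
      have := hs (d.A 1 0)
      exact d.one_ne_zero ((d.comm_A_B_iff 1 0 i j).mp this)
  · rintro ⟨i, rfl⟩
    exact d.A_diag_mem_center i

/-- the homomorphism onto the abelian subgroup of index two -/
def AHom : Multiplicative (ZMod (2 ^ d.n) × ZMod (2 ^ d.n)) →* S where
  toFun p := d.A (Multiplicative.toAdd p).1 (Multiplicative.toAdd p).2
  map_one' := d.A_zero
  map_mul' p q := d.A_add _ _ _ _

theorem AHom_injective : Function.Injective d.AHom := by
  intro p q hpq
  obtain ⟨h1, h2⟩ := d.A_inj hpq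
  exact Multiplicative.toAdd.injective (Prod.ext h1 h2)

/-- the abelian subgroup of index two -/
def U : Subgroup S := d.AHom.range

theorem mem_U_iff (s : S) : s ∈ d.U ↔ ∃ i j, s = d.A i j := by
  constructor
  · rintro ⟨p, rfl⟩
    exact ⟨_, _, rfl⟩
  · rintro ⟨i, j, rfl⟩
    exact ⟨Multiplicative.ofAdd (i, j), rfl⟩

theorem A_mem_U (i j : ZMod (2 ^ d.n)) : d.A i j ∈ d.U := (d.mem_U_iff _).mpr ⟨i, j, rfl⟩

theorem B_not_mem_U (i j : ZMod (2 ^ d.n)) : d.B i j ∉ d.U := by
  intro hB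
  obtain ⟨k, l, hkl⟩ := (d.mem_U_iff _).mp hB
  exact d.A_ne_B _ _ _ _ hkl.symm

theorem U_equiv : Nonempty (d.U ≃* Multiplicative (ZMod (2 ^ d.n) × ZMod (2 ^ d.n))) :=
  ⟨(MonoidHom.ofInjective d.AHom_injective).symm⟩

theorem card_U : Nat.card d.U = 2 ^ (2 * d.n) := by
  obtain ⟨e⟩ := d.U_equiv
  rw [Nat.card_congr e.toEquiv]
  change Nat.card (ZMod (2 ^ d.n) × ZMod (2 ^ d.n)) = _
  rw [Nat.card_prod, Nat.card_zmod]
  ring

theorem U_comm : IsMulCommutative d.U := by
  refine ⟨⟨fun a b => ?_⟩⟩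
  obtain ⟨i, j, ha⟩ := (d.mem_U_iff _).mp a.2
  obtain ⟨k, l, hb⟩ := (d.mem_U_iff _).mp b.2
  apply Subtype.ext
  change a.1 * b.1 = b.1 * a.1
  rw [ha, hb]
  exact d.A_comm _ _ _ _

theorem U_normal : d.U.Normal := by
  constructor
  intro u hu g
  obtain ⟨i, j, rfl⟩ := (d.mem_U_iff _).mp hu
  rcases d.nf g with ⟨k, l, rfl⟩ | ⟨k, l, rfl⟩
  · rw [d.conj_A_A]; exact d.A_mem_U _ _
  · rw [d.conj_B_A]; exact d.A_mem_U _ _

/-- A set of pairwise commuting elements containing some `B i j` has at most `2 * 2 ^ n`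
elements. -/
theorem card_le_of_comm_B (V : Subgroup S) (i j : ZMod (2 ^ d.n)) (hB : d.B i j ∈ V)
    (hV : ∀ a ∈ V, ∀ b ∈ V, a * b = b * a) : Nat.card V ≤ 2 * 2 ^ d.n := by
  haveI : Finite S := Nat.finite_of_card_ne_zero (by rw [d.card]; positivity)
  haveI : NeZero (2 ^ d.n) := ⟨by positivity⟩
  let g : ZMod (2 ^ d.n) × Bool → S := fun p =>
    if p.2 then d.B (p.1 + (i - j)) p.1 else d.A p.1 p.1
  have hsub : (V : Set S) ⊆ Set.range g := by
    intro v hv
    have hc := hV v hv _ hB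
    rcases d.nf v with ⟨k, l, rfl⟩ | ⟨k, l, rfl⟩
    · have := (d.comm_A_B_iff k l i j).mp hc
      subst this
      exact ⟨(k, false), by simp [g]⟩
    · have := (d.comm_B_B_iff k l i j).mp hc
      refine ⟨(l, true), ?_⟩
      simp only [g, if_true]
      congr 1
      linear_combination -this
  calc Nat.card V = Nat.card (V : Set S) := rfl
    _ ≤ Nat.card (Set.range g) := Nat.card_mono (Set.toFinite _) hsub
    _ ≤ Nat.card (ZMod (2 ^ d.n) × Bool) := Finite.card_range_le g
    _ = 2 * 2 ^ d.n := by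
      rw [Nat.card_prod, Nat.card_zmod, Nat.card_eq_fintype_card, Fintype.card_bool]; ring

/-- `U` is the only abelian subgroup of its order. -/
theorem eq_U_of_comm (V : Subgroup S) (hV : ∀ a ∈ V, ∀ b ∈ V, a * b = b * a)
    (hcard : Nat.card V = 2 ^ (2 * d.n)) : V = d.U := by
  haveI : Finite S := Nat.finite_of_card_ne_zero (by rw [d.card]; positivity)
  apply Subgroup.eq_of_le_of_card_ge
  · intro v hv
    rcases d.nf v with ⟨k, l, rfl⟩ | ⟨k, l, rfl⟩
    · exact d.A_mem_U _ _
    · exfalso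
      have h1 := d.card_le_of_comm_B V k l hv hV
      rw [hcard] at h1
      have hn := d.hn
      have h2 : 2 * 2 ^ d.n = 2 ^ (d.n + 1) := by rw [pow_succ]; ring
      rw [h2] at h1
      have h3 := (Nat.pow_le_pow_iff_right (by norm_num : 1 < 2)).mp h1
      omega
  · rw [hcard, d.card_U]

end WDat

end Cfsg.Agent.Helper2.Wr
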