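import Mathlib
import Cfsg.Prelude.Def_CaseTheorems
import Cfsg.Agent.Helper2.W3
import Cfsg.Agent.Lead.FourConnected

set_option autoImplicit false

/-! Wreathed 2-groups: four-subgroups. -/

namespace Cfsg.Agent.Helper2.Wr

open Cfsg.Agent.Helper2.QD Cfsg.Agent.Lead

universe u

variable {S : Type u} [Group S]

namespace WDat

variable (d : WDat S)

theorem sq_eq_one_cases (t : S) (ht : t * t = 1) :
    t = 1 ∨ t = d.A d.h d.h ∨ t = d.A d.h 0 ∨ t = d.A 0 d.h ∨ ∃ i, t = d.B i (-i) := by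
  rcases d.nf t with ⟨i, j, rfl⟩ | ⟨i, j, rfl⟩
  · rw [← A_add, A_eq_one_iff, ← two_mul, ← two_mul] at ht
    rcases (d.two_mul_eq_zero_iff i).mp ht.1 with rfl | rfl <;>
      rcases (d.two_mul_eq_zero_iff j).mp ht.2 with rfl | rfl
    · left; exact d.A_zero
    · right; right; right; left; rfl
    · right; right; left; rfl
    · right; left; rfl
  · rw [B_sq, A_eq_one_iff] at ht
    right; right; right; right
    exact ⟨i, by rw [eq_neg_of_add_eq_zero_right ht.1]⟩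

theorem Ahh_sq : d.A d.h d.h * d.A d.h d.h = 1 := by
  rw [← A_add, d.h_add_h, A_zero]

theorem Ah0_sq : d.A d.h 0 * d.A d.h 0 = 1 := by
  rw [← A_add, d.h_add_h, add_zero, A_zero]

theorem Ahh_ne_one : d.A d.h d.h ≠ 1 := by
  rw [Ne, A_eq_one_iff]; exact fun hh => d.h_ne_zero hh.1

theorem Ah0_ne_one : d.A d.h 0 ≠ 1 := by
  rw [Ne, A_eq_one_iff]; exact fun hh => d.h_ne_zero hh.1

theorem Ahh_ne_Ah0 : d.A d.h d.h ≠ d.A d.h 0 := by
  intro hh; exact d.h_ne_zero (d.A_inj hh).2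

/-- the normal four-subgroup -/
def T : Subgroup S := fourOf (d.A d.h d.h) (d.A d.h 0) d.Ahh_sq d.Ah0_sq (d.A_comm _ _ _ _)

theorem mem_T_iff (t : S) :
    t ∈ d.T ↔ t = 1 ∨ t = d.A d.h d.h ∨ t = d.A d.h 0 ∨ t = d.A 0 d.h := by
  unfold T
  rw [mem_fourOf, ← A_add, d.h_add_h, add_zero]

theorem T_klein : IsKleinFour d.T :=
  fourOf_isKleinFour _ _ _ _ _ d.Ahh_ne_one d.Ah0_ne_one d.Ahh_ne_Ah0

theorem T_le_U : d.T ≤ d.U := by
  intro t ht
  rcases (d.mem_T_iff t).mp ht with rfl | rfl | rfl | rfl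
  · exact Subgroup.one_mem _
  · exact d.A_mem_U _ _
  · exact d.A_mem_U _ _
  · exact d.A_mem_U _ _

theorem T_normal : d.T.Normal := by
  constructor
  intro t ht g
  have key : ∀ i j : ZMod (2 ^ d.n), d.A i j ∈ d.T → d.A j i ∈ d.T := by
    intro i j hij
    rw [mem_T_iff] at hij ⊢
    rcases hij with hh | hh | hh | hh
    · rw [← d.A_zero] at hh
      obtain ⟨rfl, rfl⟩ := d.A_inj hh
      left; exact d.A_zero
    · obtain ⟨rfl, rfl⟩ := d.A_inj hh
      right; left; rfl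
    · obtain ⟨rfl, rfl⟩ := d.A_inj hh
      right; right; right; rfl
    · obtain ⟨rfl, rfl⟩ := d.A_inj hh
      right; right; left; rfl
  obtain ⟨i, j, rfl⟩ := (d.mem_U_iff t).mp (d.T_le_U ht)
  rcases d.nf g with ⟨k, l, rfl⟩ | ⟨k, l, rfl⟩
  · rw [d.conj_A_A]; exact ht
  · rw [d.conj_B_A]; exact key i j ht

theorem klein_sq (T₁ : Subgroup S) (hT : IsKleinFour T₁) : ∀ t ∈ T₁, t * t = 1 := by
  intro t ht
  have h2 := hT.exponent_two
  have h3 : (⟨t, ht⟩ : T₁) ^ 2 = 1 := by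
    rw [← h2]; exact Monoid.pow_exponent_eq_one _
  have h4 := congrArg Subtype.val h3
  simpa [pow_two] using h4

theorem klein_comm' (T₁ : Subgroup S) (hT : IsKleinFour T₁) :
    ∀ a ∈ T₁, ∀ b ∈ T₁, a * b = b * a := by
  intro a ha b hb
  have hcomm := hT.isMulCommutative
  exact congrArg Subtype.val (hcomm.is_comm.comm (⟨a, ha⟩ : T₁) ⟨b, hb⟩)

theorem klein_exists_B (T₁ : Subgroup S) (hT : IsKleinFour T₁) (hne : T₁ ≠ d.T) :
    ∃ i, d.B i (-i) ∈ T₁ := by
  haveI : Finite S := Nat.finite_of_card_ne_zero (by rw [d.card]; positivity)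
  by_contra hno
  push Not at hno
  apply hne
  apply Subgroup.eq_of_le_of_card_ge
  · intro t ht
    rw [mem_T_iff]
    rcases d.sq_eq_one_cases t (klein_sq T₁ hT t ht) with hh | hh | hh | hh | ⟨i, rfl⟩
    · left; exact hh
    · right; left; exact hh
    · right; right; left; exact hh
    · right; right; right; exact hh
    · exact absurd ht (hno i)
  · rw [hT.card_four, d.T_klein.card_four]

theorem klein_subset (T₁ : Subgroup S) (hT : IsKleinFour T₁) (i : ZMod (2 ^ d.n))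
    (hi : d.B i (-i) ∈ T₁) (t : S) (ht : t ∈ T₁) :
    t = 1 ∨ t = d.A d.h d.h ∨ t = d.B i (-i) ∨ t = d.B (i + d.h) (-(i + d.h)) := by
  have hc := klein_comm' T₁ hT t ht _ hi
  rcases d.sq_eq_one_cases t (klein_sq T₁ hT t ht) with hh | hh | hh | hh | ⟨k, rfl⟩
  · left; exact hh
  · right; left; exact hh
  · exfalso
    rw [hh] at hc
    exact d.h_ne_zero ((d.comm_A_B_iff _ _ _ _).mp hc)
  · exfalso
    rw [hh] at hc
    exact d.h_ne_zero ((d.comm_A_B_iff _ _ _ _).mp hc).symm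
  · have h1 := (d.comm_B_B_iff _ _ _ _).mp hc
    have h2 : 2 * (k - i) = 0 := by linear_combination h1
    rcases (d.two_mul_eq_zero_iff _).mp h2 with h3 | h3
    · right; right; left
      rw [sub_eq_zero.mp h3]
    · right; right; right
      have : k = i + d.h := by linear_combination h3
      rw [this]

theorem klein_unique (T₁ T₂ : Subgroup S) (hT₁ : IsKleinFour T₁) (hT₂ : IsKleinFour T₂)
    (i : ZMod (2 ^ d.n)) (h1 : d.B i (-i) ∈ T₁) (h2 : d.B i (-i) ∈ T₂) : T₁ = T₂ := by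
  classical
  haveI : Finite S := Nat.finite_of_card_ne_zero (by rw [d.card]; positivity)
  let F : Finset S := {1, d.A d.h d.h, d.B i (-i), d.B (i + d.h) (-(i + d.h))}
  have hF : (F : Set S).ncard ≤ 4 := by
    rw [Set.ncard_coe_finset]; exact Finset.card_le_four
  have key : ∀ T' : Subgroup S, IsKleinFour T' → d.B i (-i) ∈ T' → (T' : Set S) = F := by
    intro T' hT' hB
    apply Set.eq_of_subset_of_ncard_le
    · intro t ht
      have := d.klein_subset T' hT' i hB t ht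
      simp only [F, Finset.coe_insert, Finset.coe_singleton, Set.mem_insert_iff,
        Set.mem_singleton_iff]
      exact this
    · have : (T' : Set S).ncard = 4 := by
        rw [← Nat.card_coe_set_eq]; exact hT'.card_four
      rw [this]; exact hF
    · exact Set.toFinite _
  apply SetLike.coe_injective
  rw [key T₁ hT₁ h1, key T₂ hT₂ h2]

theorem klein_map (T₁ : Subgroup S) (hT : IsKleinFour T₁) (s : S) :
    IsKleinFour (T₁.map (MulAut.conj s).toMonoidHom) := by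
  apply isKleinFour_of_card_of_sq
  · rw [Subgroup.card_map_of_injective (MulAut.conj s).injective]; exact hT.card_four
  · rintro _ ⟨t, ht, rfl⟩
    rw [← map_mul, klein_sq T₁ hT t ht, map_one]

theorem klein_conj (T₁ T₂ : Subgroup S) (hT₁ : IsKleinFour T₁) (hT₂ : IsKleinFour T₂)
    (h1 : T₁ ≠ d.T) (h2 : T₂ ≠ d.T) : ∃ s : S, T₁.map (MulAut.conj s).toMonoidHom = T₂ := by
  obtain ⟨i, hi⟩ := d.klein_exists_B T₁ hT₁ h1
  obtain ⟨j, hj⟩ := d.klein_exists_B T₂ hT₂ h2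
  refine ⟨d.A (j - i) 0, ?_⟩
  apply d.klein_unique _ _ (klein_map T₁ hT₁ _) hT₂ j _ hj
  refine ⟨d.B i (-i), hi, ?_⟩
  change d.A (j - i) 0 * d.B i (-i) * (d.A (j - i) 0)⁻¹ = _
  rw [d.conj_A_B]
  congr 1 <;> ring

theorem z_sq' : d.z * d.z = 1 := d.hzz

theorem z_ne_one : d.z ≠ 1 := by
  rw [← d.B_zero]; exact d.B_ne_one 0 0

theorem exists_other_klein : ∃ T₀ : Subgroup S, IsKleinFour T₀ ∧ T₀ ≠ d.T := by
  have hc : d.A d.h d.h * d.z = d.z * d.A d.h d.h :=
    ((Subgroup.mem_center_iff.mp (d.A_diag_mem_center d.h)) d.z).symm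
  have hne : d.A d.h d.h ≠ d.z := fun hh => d.z_ne_A _ _ hh.symm
  refine ⟨fourOf (d.A d.h d.h) d.z d.Ahh_sq d.hzz hc,
    fourOf_isKleinFour _ _ _ _ _ d.Ahh_ne_one d.z_ne_one hne, ?_⟩
  intro hh
  have hz : d.z ∈ fourOf (d.A d.h d.h) d.z d.Ahh_sq d.hzz hc :=
    mem_fourOf.mpr (Or.inr (Or.inr (Or.inl rfl)))
  rw [hh] at hz
  have := d.T_le_U hz
  rw [← d.B_zero] at this
  exact d.B_not_mem_U 0 0 this

end WDat

end Cfsg.Agent.Helper2.Wr
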