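import Mathlib
import Cfsg.Prelude.Def_CaseTheorems
import Cfsg.Agent.Helper2.W4

set_option autoImplicit false

/-! Wreathed 2-groups: the subgroup generated by the involutions. -/

namespace Cfsg.Agent.Helper2.Wr

open Cfsg.Agent.Helper2.QD Cfsg.Agent.Lead

universe u

variable {S : Type u} [Group S]

namespace WDat

variable (d : WDat S)

/-- the subgroup generated by involutions, explicitly -/
def Om : Subgroup S where
  carrier := {s | (∃ k l, 2 * (k + l) = 0 ∧ s = d.A k l) ∨ (∃ k l, 2 * (k + l) = 0 ∧ s = d.B k l)}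
  one_mem' := Or.inl ⟨0, 0, by ring, d.A_zero.symm⟩
  mul_mem' := by
    rintro a b (⟨k, l, h1, rfl⟩ | ⟨k, l, h1, rfl⟩) (⟨k', l', h2, rfl⟩ | ⟨k', l', h2, rfl⟩)
    · exact Or.inl ⟨_, _, by linear_combination h1 + h2, (d.A_add _ _ _ _).symm⟩
    · exact Or.inr ⟨_, _, by linear_combination h1 + h2, d.A_mul_B _ _ _ _⟩
    · exact Or.inr ⟨_, _, by linear_combination h1 + h2, d.B_mul_A _ _ _ _⟩
    · exact Or.inl ⟨_, _, by linear_combination h1 + h2, d.B_mul_B _ _ _ _⟩
  inv_mem' := by
    rintro a (⟨k, l, h1, rfl⟩ | ⟨k, l, h1, rfl⟩)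
    · exact Or.inl ⟨_, _, by linear_combination -h1, d.A_inv _ _⟩
    · exact Or.inr ⟨_, _, by linear_combination -h1, d.B_inv _ _⟩

theorem mem_Om_iff (s : S) : s ∈ d.Om ↔
    (∃ k l, 2 * (k + l) = 0 ∧ s = d.A k l) ∨ (∃ k l, 2 * (k + l) = 0 ∧ s = d.B k l) := Iff.rfl

theorem A_mem_Om {k l : ZMod (2 ^ d.n)} (hkl : 2 * (k + l) = 0) : d.A k l ∈ d.Om :=
  Or.inl ⟨k, l, hkl, rfl⟩

theorem B_mem_Om {k l : ZMod (2 ^ d.n)} (hkl : 2 * (k + l) = 0) : d.B k l ∈ d.Om :=
  Or.inr ⟨k, l, hkl, rfl⟩

theorem orderOf_B_neg (i : ZMod (2 ^ d.n)) : orderOf (d.B i (-i)) = 2 :=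
  (d.orderOf_B_eq_two_iff _ _).mpr (add_neg_cancel i)

theorem Om_eq_closure : d.Om = Subgroup.closure {x : S | orderOf x = 2} := by
  apply le_antisymm
  · have hz : d.z ∈ Subgroup.closure {x : S | orderOf x = 2} :=
      Subgroup.subset_closure d.hz
    have hA : ∀ k l : ZMod (2 ^ d.n), 2 * (k + l) = 0 →
        d.A k l ∈ Subgroup.closure {x : S | orderOf x = 2} := by
      intro k l hkl
      have h0 : ∀ c : ZMod (2 ^ d.n), d.A c (-c) ∈ Subgroup.closure {x : S | orderOf x = 2} := by
        intro c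
        have : d.A c (-c) = d.B c (-c) * d.B 0 0 := by
          rw [B_mul_B, add_zero, add_zero]
        rw [this]
        exact Subgroup.mul_mem _ (Subgroup.subset_closure (d.orderOf_B_neg c))
          (Subgroup.subset_closure (by rw [d.B_zero]; exact d.hz))
      rcases (d.two_mul_eq_zero_iff _).mp hkl with h1 | h1
      · have : l = -k := by linear_combination h1
        rw [this]; exact h0 k
      · have : d.A k l = d.A (k - d.h) (-(k - d.h)) * d.A d.h 0 := by
          rw [← A_add]
          congr 1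
          · ring
          · linear_combination h1
        rw [this]
        exact Subgroup.mul_mem _ (h0 _) (Subgroup.subset_closure
          ((d.orderOf_A_eq_two_iff _ _).mpr (Or.inr (Or.inl ⟨rfl, rfl⟩))))
    rintro s (⟨k, l, hkl, rfl⟩ | ⟨k, l, hkl, rfl⟩)
    · exact hA k l hkl
    · exact Subgroup.mul_mem _ (hA k l hkl) hz
  · rw [Subgroup.closure_le]
    intro t ht
    have ht2 : t * t = 1 := by
      have := pow_orderOf_eq_one t
      rwa [ht, pow_two] at this
    rcases d.sq_eq_one_cases t ht2 with rfl | rfl | rfl | rfl | ⟨i, rfl⟩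
    · exact Subgroup.one_mem _
    · exact d.A_mem_Om (by linear_combination 2 * d.two_h)
    · exact d.A_mem_Om (by linear_combination d.two_h)
    · exact d.A_mem_Om (by linear_combination d.two_h)
    · exact d.B_mem_Om (by ring)

theorem card_Om : Nat.card d.Om = 2 ^ (d.n + 2) := by
  haveI : Finite S := Nat.finite_of_card_ne_zero (by rw [d.card]; positivity)
  haveI : NeZero (2 ^ d.n) := ⟨by positivity⟩
  let g : ZMod (2 ^ d.n) × Bool × Bool → S := fun p =>
    if p.2.2 then d.B (p.1 + (if p.2.1 then d.h else 0)) (-p.1)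
    else d.A (p.1 + (if p.2.1 then d.h else 0)) (-p.1)
  have hinj : Function.Injective g := by
    have aux : ∀ (c c' : ZMod (2 ^ d.n)) (e e' : Bool),
        c + (if e then d.h else 0) = c' + (if e' then d.h else 0) → -c = -c' →
        c = c' ∧ e = e' := by
      intro c c' e e' h1 h2
      have hc : c = c' := neg_injective h2
      subst hc
      refine ⟨rfl, ?_⟩
      have h3 := add_left_cancel h1
      cases e <;> cases e' <;> simp only [Bool.false_eq_true, if_false, if_true] at h3
      · rfl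
      · exact absurd h3.symm d.h_ne_zero
      · exact absurd h3 d.h_ne_zero
      · rfl
    rintro ⟨c, e, b⟩ ⟨c', e', b'⟩ hg
    cases b <;> cases b' <;> simp only [g, Bool.false_eq_true, if_false, if_true] at hg
    · obtain ⟨h1, h2⟩ := d.A_inj hg
      obtain ⟨rfl, rfl⟩ := aux c c' e e' h1 h2
      rfl
    · exact absurd hg (d.A_ne_B _ _ _ _)
    · exact absurd hg.symm (d.A_ne_B _ _ _ _)
    · obtain ⟨h1, h2⟩ := d.B_inj hg
      obtain ⟨rfl, rfl⟩ := aux c c' e e' h1 h2
      rfl
  have hrange : Set.range g = (d.Om : Set S) := by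
    ext s
    constructor
    · rintro ⟨⟨c, e, b⟩, rfl⟩
      have hsum : 2 * (c + (if e then d.h else 0) + -c) = 0 := by
        cases e <;> simp only [Bool.false_eq_true, if_false, if_true]
        · ring
        · linear_combination d.two_h
      cases b <;> simp only [g, Bool.false_eq_true, if_false, if_true]
      · exact d.A_mem_Om hsum
      · exact d.B_mem_Om hsum
    · have aux : ∀ k l : ZMod (2 ^ d.n), 2 * (k + l) = 0 →
          ∃ e : Bool, k = -l + (if e then d.h else 0) := by
        intro k l hkl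
        rcases (d.two_mul_eq_zero_iff _).mp hkl with h1 | h1
        · exact ⟨false, by simp only [Bool.false_eq_true, if_false]; linear_combination h1⟩
        · exact ⟨true, by simp only [if_true]; linear_combination h1⟩
      rintro (⟨k, l, hkl, rfl⟩ | ⟨k, l, hkl, rfl⟩)
      · obtain ⟨e, he⟩ := aux k l hkl
        refine ⟨(-l, e, false), ?_⟩
        simp only [g, Bool.false_eq_true, if_false]
        rw [← he, neg_neg]
      · obtain ⟨e, he⟩ := aux k l hkl
        refine ⟨(-l, e, true), ?_⟩
        simp only [g, if_true]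
        rw [← he, neg_neg]
  calc Nat.card d.Om = Nat.card (d.Om : Set S) := rfl
    _ = Nat.card (Set.range g) := by rw [hrange]
    _ = Nat.card (ZMod (2 ^ d.n) × Bool × Bool) := Nat.card_range_of_injective hinj
    _ = 2 ^ (d.n + 2) := by
      rw [Nat.card_prod, Nat.card_prod, Nat.card_zmod, Nat.card_eq_fintype_card,
        Fintype.card_bool]
      ring

theorem Om_sup : d.Om ⊔ Subgroup.zpowers d.x = ⊤ := by
  rw [eq_top_iff]
  have hA : ∀ k l : ZMod (2 ^ d.n), d.A k l ∈ d.Om ⊔ Subgroup.zpowers d.x := by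
    intro k l
    have : d.A k l = d.A (-l) l * d.A (k + l) 0 := by
      rw [← A_add]; congr 1 <;> ring
    rw [this]
    apply Subgroup.mul_mem
    · exact Subgroup.mem_sup_left (d.A_mem_Om (by ring))
    · apply Subgroup.mem_sup_right
      have : d.A (k + l) 0 = X d.x (2 ^ d.n) (k + l) := by
        unfold A; rw [X_zero d.y _ d.hy, mul_one]
      rw [this]
      exact X_mem d.x _ d.hx _
  intro s _
  rcases d.nf s with ⟨k, l, rfl⟩ | ⟨k, l, rfl⟩
  · exact hA k l
  · exact Subgroup.mul_mem _ (hA k l) (Subgroup.mem_sup_left (by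
      rw [← d.B_zero]; exact d.B_mem_Om (by ring)))

end WDat

end Cfsg.Agent.Helper2.Wr
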