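import Mathlib
import Cfsg.Prelude.Def_CaseTheorems
import Cfsg.Agent.Helper2.W3
import Cfsg.Agent.Helper2.DihedralIso

set_option autoImplicit false

/-! Wreathed 2-groups: centre, commutator subgroup, central quotient. -/

namespace Cfsg.Agent.Helper2.Wr

open Cfsg.Agent.Helper2.QD

open scoped commutatorElement

universe u

variable {S : Type u} [Group S]

namespace WDat

variable (d : WDat S)

theorem A_eq_pow (i j c : ZMod (2 ^ d.n)) : d.A (c * i) (c * j) = (d.A i j) ^ c.val := by
  haveI : NeZero (2 ^ d.n) := ⟨by positivity⟩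
  rw [A_pow, ZMod.natCast_zmod_val]

theorem orderOf_A_one (j : ZMod (2 ^ d.n)) : orderOf (d.A 1 j) = 2 ^ d.n := by
  apply Nat.dvd_antisymm
  · apply orderOf_dvd_of_pow_eq_one
    rw [A_pow, A_eq_one_iff, ZMod.natCast_self]
    exact ⟨by ring, by ring⟩
  · have h1 := pow_orderOf_eq_one (d.A 1 j)
    rw [A_pow, A_eq_one_iff, mul_one] at h1
    exact (ZMod.natCast_eq_zero_iff _ _).mp h1.1

theorem center_eq : Subgroup.center S = Subgroup.zpowers (d.A 1 1) := by
  ext s
  rw [d.mem_center_iff]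
  constructor
  · rintro ⟨i, rfl⟩
    have := d.A_eq_pow 1 1 i
    rw [mul_one] at this
    rw [this]
    exact Subgroup.pow_mem _ (Subgroup.mem_zpowers _) _
  · intro hs
    rw [Subgroup.mem_zpowers_iff] at hs
    obtain ⟨k, rfl⟩ := hs
    have h1 : d.A 1 1 ∈ Subgroup.center S := d.A_diag_mem_center 1
    have h2 := Subgroup.zpow_mem _ h1 k
    exact (d.mem_center_iff _).mp h2

theorem card_center : Nat.card (Subgroup.center S) = 2 ^ d.n := by
  rw [d.center_eq, Nat.card_zpowers, d.orderOf_A_one]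

theorem commutator_eq : commutator S = Subgroup.zpowers (d.A 1 (-1)) := by
  have hmem : ∀ c : ZMod (2 ^ d.n), d.A c (-c) ∈ Subgroup.zpowers (d.A 1 (-1)) := by
    intro c
    have := d.A_eq_pow 1 (-1) c
    rw [mul_one, mul_neg, mul_one] at this
    rw [this]
    exact Subgroup.pow_mem _ (Subgroup.mem_zpowers _) _
  apply le_antisymm
  · rw [commutator_def, Subgroup.commutator_le]
    intro g₁ _ g₂ _
    rw [commutatorElement_def]
    rcases d.nf g₁ with ⟨k, l, rfl⟩ | ⟨k, l, rfl⟩ <;> rcases d.nf g₂ with ⟨i, j, rfl⟩ | ⟨i, j, rfl⟩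
    · rw [d.conj_A_A, mul_inv_cancel]; exact Subgroup.one_mem _
    · rw [d.conj_A_B, B_inv, B_mul_B]
      have := hmem (k - l)
      convert this using 2 <;> ring
    · rw [d.conj_B_A, A_inv, ← A_add]
      have := hmem (j - i)
      convert this using 2 <;> ring
    · rw [d.conj_B_B, B_inv, B_mul_B]
      have := hmem (k + j - l - i)
      convert this using 2 <;> ring
  · rw [Subgroup.zpowers_le]
    have h1 : ⁅d.A 1 0, d.B 0 0⁆ ∈ commutator S := by
      rw [commutator_def]
      exact Subgroup.commutator_mem_commutator (Subgroup.mem_top _) (Subgroup.mem_top _)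
    rw [commutatorElement_def, d.conj_A_B, B_inv, B_mul_B] at h1
    convert h1 using 2 <;> ring

theorem card_commutator : Nat.card (commutator S) = 2 ^ d.n := by
  rw [d.commutator_eq, Nat.card_zpowers, d.orderOf_A_one]

theorem quotient_center_equiv [Finite S] :
    Nonempty (S ⧸ Subgroup.center S ≃* DihedralGroup (2 ^ d.n)) := by
  let π := QuotientGroup.mk' (Subgroup.center S)
  have hker : ∀ s : S, π s = 1 ↔ s ∈ Subgroup.center S := by
    intro s
    exact QuotientGroup.eq_one_iff s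
  have ha2 : π d.z * π d.z = 1 := by rw [← map_mul, d.hzz, map_one]
  have hb2 : π (d.B 0 1) * π (d.B 0 1) = 1 := by
    rw [← map_mul, B_sq, hker]
    exact d.A_diag_mem_center _
  have ha1 : π d.z ≠ 1 := by
    rw [Ne, hker, d.mem_center_iff]
    rintro ⟨i, hi⟩
    exact d.z_ne_A _ _ hi
  have hb1 : π (d.B 0 1) ≠ 1 := by
    rw [Ne, hker, d.mem_center_iff]
    rintro ⟨i, hi⟩
    exact d.A_ne_B _ _ _ _ hi.symm
  have hab : π d.z * π (d.B 0 1) = π (d.A 1 0) := by
    rw [← map_mul, ← d.B_zero, B_mul_B]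
    congr 2 <;> ring
  have hord : orderOf (π d.z * π (d.B 0 1)) = 2 ^ d.n := by
    rw [hab]
    apply Nat.dvd_antisymm
    · apply orderOf_dvd_of_pow_eq_one
      have h0 : d.A 1 0 ^ 2 ^ d.n = 1 := by
        have := pow_orderOf_eq_one (d.A 1 0)
        rwa [d.orderOf_A_one 0] at this
      rw [← map_pow, h0, map_one]
    · have h1 := pow_orderOf_eq_one (π (d.A 1 0))
      rw [← map_pow, hker, A_pow, d.mem_center_iff] at h1
      obtain ⟨i, hi⟩ := h1
      obtain ⟨h2, h3⟩ := d.A_inj hi
      rw [mul_zero] at h3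
      rw [← h3, mul_one] at h2
      exact (ZMod.natCast_eq_zero_iff _ _).mp h2
  obtain ⟨e⟩ := closure_pair_invol_equiv_dihedral ha2 hb2 ha1 hb1
  rw [hord] at e
  have hcardQ : Nat.card (S ⧸ Subgroup.center S) = 2 * 2 ^ d.n := by
    have h1 := Subgroup.card_eq_card_quotient_mul_card_subgroup (Subgroup.center S)
    rw [d.card, d.card_center] at h1
    have h2 : 2 ^ (2 * d.n + 1) = (2 * 2 ^ d.n) * 2 ^ d.n := by
      rw [pow_succ, two_mul, pow_add]; ring
    rw [h2] at h1
    exact (Nat.eq_of_mul_eq_mul_right (by positivity) h1).symm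
  have htop : Subgroup.closure ({π d.z, π (d.B 0 1)} : Set (S ⧸ Subgroup.center S)) = ⊤ := by
    rw [← Subgroup.card_eq_iff_eq_top, Nat.card_congr e.toEquiv, DihedralGroup.nat_card, hcardQ]
  exact ⟨(Subgroup.topEquiv.symm.trans (MulEquiv.subgroupCongr htop).symm).trans e⟩

end WDat

end Cfsg.Agent.Helper2.Wr
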