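import Mathlib
import Cfsg.Prelude.Def_CaseTheorems
import Cfsg.Agent.Helper2.W6
import Cfsg.Agent.Helper2.QuatIso
import Cfsg.Agent.Helper2.QuatGen

set_option autoImplicit false

/-! Wreathed 2-groups: the generalized quaternion subgroup of index `2 ^ n`. -/

namespace Cfsg.Agent.Helper2.Wr

open Cfsg.Agent.Helper2.QD

universe u

variable {S : Type u} [Group S]

namespace WDat

variable (d : WDat S)

/-- the generalized quaternion subgroup -/
def Y : Subgroup S where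
  carrier := {s | (∃ i j, i + j = 0 ∧ s = d.A i j) ∨ (∃ i j, i + j = d.h ∧ s = d.B i j)}
  one_mem' := Or.inl ⟨0, 0, by ring, d.A_zero.symm⟩
  mul_mem' := by
    rintro a b (⟨k, l, h1, rfl⟩ | ⟨k, l, h1, rfl⟩) (⟨k', l', h2, rfl⟩ | ⟨k', l', h2, rfl⟩)
    · exact Or.inl ⟨_, _, by linear_combination h1 + h2, (d.A_add _ _ _ _).symm⟩
    · exact Or.inr ⟨_, _, by linear_combination h1 + h2, d.A_mul_B _ _ _ _⟩
    · exact Or.inr ⟨_, _, by linear_combination h1 + h2, d.B_mul_A _ _ _ _⟩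
    · exact Or.inl ⟨_, _, by linear_combination h1 + h2 + d.h_add_h, d.B_mul_B _ _ _ _⟩
  inv_mem' := by
    rintro a (⟨k, l, h1, rfl⟩ | ⟨k, l, h1, rfl⟩)
    · exact Or.inl ⟨_, _, by linear_combination -h1, d.A_inv _ _⟩
    · exact Or.inr ⟨_, _, by linear_combination -h1 - d.h_add_h, d.B_inv _ _⟩

theorem A_mem_Y_iff (i j : ZMod (2 ^ d.n)) : d.A i j ∈ d.Y ↔ i + j = 0 := by
  constructor
  · rintro (⟨k, l, h1, h2⟩ | ⟨k, l, h1, h2⟩)
    · obtain ⟨rfl, rfl⟩ := d.A_inj h2; exact h1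
    · exact absurd h2 (d.A_ne_B _ _ _ _)
  · intro hij; exact Or.inl ⟨i, j, hij, rfl⟩

theorem B_mem_Y_iff (i j : ZMod (2 ^ d.n)) : d.B i j ∈ d.Y ↔ i + j = d.h := by
  constructor
  · rintro (⟨k, l, h1, h2⟩ | ⟨k, l, h1, h2⟩)
    · exact absurd h2.symm (d.A_ne_B _ _ _ _)
    · obtain ⟨rfl, rfl⟩ := d.B_inj h2; exact h1
  · intro hij; exact Or.inr ⟨i, j, hij, rfl⟩

theorem Y_normal : d.Y.Normal := by
  constructor
  rintro t (⟨i, j, h1, rfl⟩ | ⟨i, j, h1, rfl⟩) g
  · rcases d.nf g with ⟨k, l, rfl⟩ | ⟨k, l, rfl⟩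
    · rw [d.conj_A_A, A_mem_Y_iff]; exact h1
    · rw [d.conj_B_A, A_mem_Y_iff]; linear_combination h1
  · rcases d.nf g with ⟨k, l, rfl⟩ | ⟨k, l, rfl⟩
    · rw [d.conj_A_B, B_mem_Y_iff]; linear_combination h1
    · rw [d.conj_B_B, B_mem_Y_iff]; linear_combination h1

theorem two_mul_half : 2 * 2 ^ (d.n - 1) = 2 ^ d.n := by
  have hn := d.hn
  rw [← pow_succ']; congr 1; omega

theorem A_pow_half (i j : ZMod (2 ^ d.n)) :
    (d.A i j) ^ (2 ^ (d.n - 1)) = d.A (d.h * i) (d.h * j) := by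
  rw [A_pow]; rfl

theorem orderOf_A_half (i j : ZMod (2 ^ d.n)) (ho : orderOf (d.A i j) = 2 ^ d.n) :
    orderOf ((d.A i j) ^ (2 ^ (d.n - 1))) = 2 := by
  rw [orderOf_pow' _ (by positivity), ho, Nat.gcd_eq_right ⟨2, by rw [← d.two_mul_half]; ring⟩]
  rw [← d.two_mul_half, Nat.mul_div_cancel _ (by positivity)]

theorem Y_equiv : Nonempty (d.Y ≃* QuaternionGroup (2 ^ (d.n - 1))) := by
  haveI : NeZero (2 ^ (d.n - 1)) := ⟨by positivity⟩
  have hA : orderOf (d.A 1 (-1)) = 2 * 2 ^ (d.n - 1) := by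
    rw [d.orderOf_A_one, d.two_mul_half]
  have hB : d.B 0 d.h * d.B 0 d.h = (d.A 1 (-1)) ^ (2 ^ (d.n - 1)) := by
    rw [B_sq, A_pow_half, mul_one, mul_neg, mul_one, zero_add, d.neg_h]
  have hrel : d.B 0 d.h * d.A 1 (-1) * (d.B 0 d.h)⁻¹ = (d.A 1 (-1))⁻¹ := by
    rw [d.conj_B_A, A_inv, neg_neg]
  have hBn : d.B 0 d.h ∉ Subgroup.zpowers (d.A 1 (-1)) := by
    intro hmem
    have : Subgroup.zpowers (d.A 1 (-1)) ≤ d.U := by
      rw [Subgroup.zpowers_le]; exact d.A_mem_U _ _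
    exact d.B_not_mem_U _ _ (this hmem)
  let φ := QuatIso.quatHom (d.A 1 (-1)) (d.B 0 d.h) (2 ^ (d.n - 1)) hA hB hrel
  have hφ : Function.Injective φ := QuatIso.quatHom_injective _ _ _ hA hB hrel hBn
  have hAY : d.A 1 (-1) ∈ d.Y := (d.A_mem_Y_iff _ _).mpr (by ring)
  have hBY : d.B 0 d.h ∈ d.Y := (d.B_mem_Y_iff _ _).mpr (by ring)
  have hAr : d.A 1 (-1) ∈ φ.range := by
    refine ⟨QuaternionGroup.a 1, ?_⟩
    change QuatIso.quatFun (d.A 1 (-1)) (d.B 0 d.h) _ (QuaternionGroup.a 1) = _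
    rw [QuatIso.quatFun_a, X_one (d.A 1 (-1)) _ hA]
  have hBr : d.B 0 d.h ∈ φ.range := by
    refine ⟨QuaternionGroup.xa 0, ?_⟩
    change QuatIso.quatFun (d.A 1 (-1)) (d.B 0 d.h) _ (QuaternionGroup.xa 0) = _
    rw [QuatIso.quatFun_xa, X_zero (d.A 1 (-1)) _ hA, mul_one]
  have hrange : φ.range = d.Y := by
    apply le_antisymm
    · rintro _ ⟨q, rfl⟩
      change QuatIso.quatFun (d.A 1 (-1)) (d.B 0 d.h) _ q ∈ d.Y
      rcases q with i | i
      · rw [QuatIso.quatFun_a]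
        exact Subgroup.pow_mem _ hAY _
      · rw [QuatIso.quatFun_xa]
        exact Subgroup.mul_mem _ hBY (Subgroup.pow_mem _ hAY _)
    · have hAc : ∀ c : ZMod (2 ^ d.n), d.A c (-c) ∈ φ.range := by
        intro c
        have := d.A_eq_pow 1 (-1) c
        rw [mul_one, mul_neg, mul_one] at this
        rw [this]
        exact Subgroup.pow_mem _ hAr _
      rintro s (⟨i, j, h1, rfl⟩ | ⟨i, j, h1, rfl⟩)
      · have : j = -i := by linear_combination h1
        rw [this]; exact hAc i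
      · have : d.B i j = d.A i (-i) * d.B 0 d.h := by
          rw [A_mul_B]; congr 1
          · ring
          · linear_combination h1
        rw [this]
        exact Subgroup.mul_mem _ (hAc i) hBr
  exact ⟨((MonoidHom.ofInjective hφ).trans (MulEquiv.subgroupCongr hrange)).symm⟩

theorem card_Y : Nat.card d.Y = 2 ^ (d.n + 1) := by
  haveI : NeZero (2 ^ (d.n - 1)) := ⟨by positivity⟩
  obtain ⟨e⟩ := d.Y_equiv
  rw [Nat.card_congr e.toEquiv, Nat.card_eq_fintype_card, QuaternionGroup.card]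
  rw [pow_succ, ← d.two_mul_half]; ring

theorem eq_Y (Y' : Subgroup S) (hcard : Nat.card Y' = 2 ^ (d.n + 1))
    (he : Nonempty (Y' ≃* QuaternionGroup (2 ^ (d.n - 1)))) : Y' = d.Y := by
  haveI : Finite S := Nat.finite_of_card_ne_zero (by rw [d.card]; positivity)
  haveI : NeZero (2 ^ (d.n - 1)) := ⟨by positivity⟩
  obtain ⟨e⟩ := he
  obtain ⟨a', b', -, -, hA, hrel, hB, hall⟩ := QuatGen.quat_gens Y' _ e
  rw [d.two_mul_half] at hA
  have hn := d.hn
  have h4 : 4 ≤ 2 ^ d.n := by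
    calc 4 = 2 ^ 2 := by norm_num
      _ ≤ 2 ^ d.n := Nat.pow_le_pow_right (by norm_num) hn
  -- the element `a' ^ 2 ^ (n - 1)` has order two
  have ho2 : orderOf (a' ^ (2 ^ (d.n - 1))) = 2 := by
    rw [orderOf_pow' _ (by positivity), hA,
      Nat.gcd_eq_right ⟨2, by rw [← d.two_mul_half]; ring⟩]
    rw [← d.two_mul_half, Nat.mul_div_cancel _ (by positivity)]
  have hbb1 : b' * b' ≠ 1 := by
    rw [hB]; intro h1
    rw [h1, orderOf_one] at ho2; omega
  have hbb2 : (b' * b') * (b' * b') = 1 := by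
    have h0 := pow_orderOf_eq_one (a' ^ (2 ^ (d.n - 1)))
    rw [ho2, pow_two] at h0
    rw [hB]; exact h0
  have key : a' ∈ d.Y ∧ b' ∈ d.Y := by
    rcases d.nf a' with ⟨i, j, rfl⟩ | ⟨p, q, rfl⟩
    · rcases d.nf b' with ⟨k, l, rfl⟩ | ⟨k, l, rfl⟩
      · exfalso
        rw [d.conj_A_A] at hrel
        have h1 : d.A i j ^ 2 = 1 := by
          rw [pow_two]; nth_rewrite 1 [hrel]; exact inv_mul_cancel _
        have h2 := orderOf_dvd_of_pow_eq_one h1
        rw [hA] at h2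
        have := Nat.le_of_dvd (by norm_num) h2
        omega
      · rw [d.conj_B_A, A_inv] at hrel
        obtain ⟨h1, h2⟩ := d.A_inj hrel
        refine ⟨(d.A_mem_Y_iff _ _).mpr (by linear_combination h1), ?_⟩
        rw [B_mem_Y_iff]
        rw [B_sq, ← A_add, A_eq_one_iff, ← two_mul] at hbb2
        rcases (d.two_mul_eq_zero_iff _).mp hbb2.1 with h3 | h3
        · exfalso
          apply hbb1
          rw [B_sq, h3, A_zero]
        · exact h3
    · -- `a'` outside `U` forces `n = 2`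
      have hc : d.B p q * d.B p q ∈ Subgroup.center S := by
        rw [B_sq]; exact d.A_diag_mem_center _
      have h1 : b' * (d.B p q * d.B p q) * b'⁻¹ = (d.B p q * d.B p q)⁻¹ := by
        calc b' * (d.B p q * d.B p q) * b'⁻¹
            = (b' * d.B p q * b'⁻¹) * (b' * d.B p q * b'⁻¹) := by group
          _ = (d.B p q * d.B p q)⁻¹ := by rw [hrel]; group
      have h2 : b' * (d.B p q * d.B p q) * b'⁻¹ = d.B p q * d.B p q := by
        rw [(Subgroup.mem_center_iff.mp hc b'), mul_inv_cancel_right]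
      have h3 : d.B p q ^ 4 = 1 := by
        have : (d.B p q * d.B p q) * (d.B p q * d.B p q) = 1 := by
          nth_rewrite 1 [← h2]; rw [h1]; exact inv_mul_cancel _
        rw [← this]
        simp only [pow_succ, pow_zero, one_mul, mul_assoc]
      have h5 := orderOf_dvd_of_pow_eq_one h3
      rw [hA] at h5
      have h6 : 2 ^ d.n = 2 ^ 2 := by
        have := Nat.le_of_dvd (by norm_num) h5
        omega
      have hn2 : d.n = 2 := Nat.pow_right_injective (le_refl 2) h6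
      have hk : 2 ^ (d.n - 1) = 2 := by rw [hn2]; norm_num
      rw [hk, pow_two] at hB
      -- now `b' * b' = a' * a'`
      have hpq : p + q = d.h := by
        have h7 := hbb2
        rw [hB, B_sq, ← A_add, A_eq_one_iff, ← two_mul] at h7
        rcases (d.two_mul_eq_zero_iff _).mp h7.1 with h8 | h8
        · exfalso; apply hbb1; rw [hB, B_sq, h8, A_zero]
        · exact h8
      refine ⟨(d.B_mem_Y_iff _ _).mpr hpq, ?_⟩
      rcases d.nf b' with ⟨k, l, rfl⟩ | ⟨k, l, rfl⟩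
      · rw [A_mem_Y_iff]
        rw [B_sq, ← A_add, hpq] at hB
        obtain ⟨h7, h8⟩ := d.A_inj hB
        rw [d.conj_A_B, B_inv] at hrel
        obtain ⟨h9, -⟩ := d.B_inj hrel
        have h10 : k - l = d.h := by
          have : k - l = -(p + q) := by linear_combination h9
          rw [this, hpq, d.neg_h]
        linear_combination h10 + h8 + d.h_add_h
      · rw [B_mem_Y_iff]
        rw [B_sq, B_sq, hpq] at hB
        exact (d.A_inj hB).1
  apply Subgroup.eq_of_le_of_card_ge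
  · intro y hy
    obtain ⟨i, hi | hi⟩ := hall y hy
    · rw [hi]; exact Subgroup.pow_mem _ key.1 _
    · rw [hi]; exact Subgroup.mul_mem _ key.2 (Subgroup.pow_mem _ key.1 _)
  · rw [hcard, d.card_Y]

end WDat

end Cfsg.Agent.Helper2.Wr
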