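import Mathlib
import Cfsg.Agent.Helper2.W7
import Cfsg.Agent.Helper2.W4
import Cfsg.Agent.Helper2.W5
import Cfsg.Agent.Helper2.W6
import Cfsg.Agent.Helper2.QDF1

set_option autoImplicit false

/-! Wreathed data on a subgroup `S` of `G`, with the elements viewed in `G`. -/

namespace Cfsg.Agent.Helper2.WF

open Cfsg.Agent.Helper2.Wr Cfsg.Agent.Helper2.QDF

variable {G : Type*} [Group G] {S : Subgroup G} (d : WDat ↥S)

/-- `x^i y^j` in `G` -/
def A (i j : ZMod (2 ^ d.n)) : G := ((d.A i j : ↥S) : G)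
/-- `x^i y^j z` in `G` -/
def B (i j : ZMod (2 ^ d.n)) : G := ((d.B i j : ↥S) : G)

theorem A_mem (i j : ZMod (2 ^ d.n)) : A d i j ∈ S := (d.A i j).2
theorem B_mem (i j : ZMod (2 ^ d.n)) : B d i j ∈ S := (d.B i j).2

theorem A_mul_A (i j k l : ZMod (2 ^ d.n)) : A d i j * A d k l = A d (i + k) (j + l) := by
  unfold A; rw [← Subgroup.coe_mul, ← d.A_add]

theorem A_mul_B (i j k l : ZMod (2 ^ d.n)) : A d i j * B d k l = B d (i + k) (j + l) := by
  unfold A B; rw [← Subgroup.coe_mul, d.A_mul_B]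

theorem B_mul_A (i j k l : ZMod (2 ^ d.n)) : B d i j * A d k l = B d (i + l) (j + k) := by
  unfold A B; rw [← Subgroup.coe_mul, d.B_mul_A]

theorem B_mul_B (i j k l : ZMod (2 ^ d.n)) : B d i j * B d k l = A d (i + l) (j + k) := by
  unfold A B; rw [← Subgroup.coe_mul, d.B_mul_B]

theorem A_inv (i j : ZMod (2 ^ d.n)) : (A d i j)⁻¹ = A d (-i) (-j) := by
  unfold A; rw [← Subgroup.coe_inv, d.A_inv]

theorem B_inv (i j : ZMod (2 ^ d.n)) : (B d i j)⁻¹ = B d (-j) (-i) := by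
  unfold B; rw [← Subgroup.coe_inv, d.B_inv]

theorem A_zero : A d 0 0 = 1 := by
  unfold A; rw [d.A_zero]; rfl

theorem A_inj {i j k l : ZMod (2 ^ d.n)} (h : A d i j = A d k l) : i = k ∧ j = l :=
  d.A_inj (Subtype.ext h)

theorem B_inj {i j k l : ZMod (2 ^ d.n)} (h : B d i j = B d k l) : i = k ∧ j = l :=
  d.B_inj (Subtype.ext h)

theorem A_ne_B (i j k l : ZMod (2 ^ d.n)) : A d i j ≠ B d k l := fun h =>
  d.A_ne_B i j k l (Subtype.ext h)

theorem A_eq_one_iff (i j : ZMod (2 ^ d.n)) : A d i j = 1 ↔ i = 0 ∧ j = 0 := by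
  rw [← d.A_eq_one_iff]
  constructor
  · intro h; exact Subtype.ext h
  · intro h; unfold A; rw [h]; rfl

theorem B_ne_one (i j : ZMod (2 ^ d.n)) : B d i j ≠ 1 := by
  rw [← A_zero d]; exact (A_ne_B d _ _ _ _).symm

theorem nf (s : G) (hs : s ∈ S) : (∃ i j, s = A d i j) ∨ (∃ i j, s = B d i j) := by
  rcases d.nf ⟨s, hs⟩ with ⟨i, j, hi⟩ | ⟨i, j, hi⟩
  · left; exact ⟨i, j, congrArg Subtype.val hi⟩
  · right; exact ⟨i, j, congrArg Subtype.val hi⟩

theorem A_comm (i j k l : ZMod (2 ^ d.n)) : A d i j * A d k l = A d k l * A d i j := by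
  rw [A_mul_A, A_mul_A, add_comm i k, add_comm j l]

theorem conj_A_A (k l i j : ZMod (2 ^ d.n)) : A d k l * A d i j * (A d k l)⁻¹ = A d i j := by
  rw [A_comm, mul_inv_cancel_right]

theorem conj_A_B (k l i j : ZMod (2 ^ d.n)) :
    A d k l * B d i j * (A d k l)⁻¹ = B d (i + k - l) (j + l - k) := by
  unfold A B; rw [← Subgroup.coe_inv, ← Subgroup.coe_mul, ← Subgroup.coe_mul, d.conj_A_B]

theorem conj_B_A (k l i j : ZMod (2 ^ d.n)) : B d k l * A d i j * (B d k l)⁻¹ = A d j i := by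
  unfold A B; rw [← Subgroup.coe_inv, ← Subgroup.coe_mul, ← Subgroup.coe_mul, d.conj_B_A]

theorem conj_B_B (k l i j : ZMod (2 ^ d.n)) :
    B d k l * B d i j * (B d k l)⁻¹ = B d (k + j - l) (l + i - k) := by
  unfold B; rw [← Subgroup.coe_inv, ← Subgroup.coe_mul, ← Subgroup.coe_mul, d.conj_B_B]

theorem A_pow (i j : ZMod (2 ^ d.n)) (k : ℕ) :
    (A d i j) ^ k = A d ((k : ZMod (2 ^ d.n)) * i) ((k : ZMod (2 ^ d.n)) * j) := by
  unfold A; rw [← Subgroup.coe_pow, d.A_pow]

theorem B_sq (i j : ZMod (2 ^ d.n)) : B d i j * B d i j = A d (i + j) (i + j) := by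
  rw [B_mul_B, add_comm j i]

theorem orderOf_A (i j : ZMod (2 ^ d.n)) : orderOf (A d i j) = orderOf (d.A i j) :=
  Subgroup.orderOf_coe _

theorem orderOf_B (i j : ZMod (2 ^ d.n)) : orderOf (B d i j) = orderOf (d.B i j) :=
  Subgroup.orderOf_coe _

/-- the diagonal elements are central in `S` -/
theorem diag_central (i : ZMod (2 ^ d.n)) (s : G) (hs : s ∈ S) :
    A d i i * s = s * A d i i := by
  have h1 := Subgroup.mem_center_iff.mp (d.A_diag_mem_center i) ⟨s, hs⟩
  have := congrArg Subtype.val h1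
  rw [Subgroup.coe_mul, Subgroup.coe_mul] at this
  exact this.symm

/-- the three representatives of the involutions -/
def c : G := A d d.h d.h
def a : G := A d d.h 0
def a' : G := A d 0 d.h
def z : G := B d 0 0

theorem c_mem : c d ∈ S := A_mem d _ _
theorem a_mem : a d ∈ S := A_mem d _ _
theorem z_mem : z d ∈ S := B_mem d _ _

theorem c_central (s : G) (hs : s ∈ S) : c d * s = s * c d := diag_central d _ s hs

theorem c_sq : c d * c d = 1 := by
  unfold c; rw [A_mul_A, d.h_add_h, A_zero]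

theorem a_sq : a d * a d = 1 := by
  unfold a; rw [A_mul_A, d.h_add_h, add_zero, A_zero]

theorem z_sq : z d * z d = 1 := by
  unfold z; rw [B_mul_B, add_zero, A_zero]

theorem c_ne_one : c d ≠ 1 := by
  unfold c; rw [Ne, A_eq_one_iff]; exact fun h => d.h_ne_zero h.1

theorem a_ne_one : a d ≠ 1 := by
  unfold a; rw [Ne, A_eq_one_iff]; exact fun h => d.h_ne_zero h.1

theorem a_ne_c : a d ≠ c d := by
  unfold a c; intro h; exact d.h_ne_zero (A_inj d h).2.symm

theorem a'_ne_c : a' d ≠ c d := by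
  unfold a' c; intro h; exact d.h_ne_zero (A_inj d h).1.symm

theorem a_mul_c : a d * c d = a' d := by
  unfold a c a'; rw [A_mul_A, d.h_add_h, zero_add]

theorem c_mul_a : c d * a d = a' d := by
  unfold a c a'; rw [A_mul_A, d.h_add_h, add_zero]

theorem z_conj_a : z d * a d * (z d)⁻¹ = a' d := conj_B_A d _ _ _ _

theorem orderOf_c : orderOf (c d) = 2 := by
  rw [orderOf_eq_prime_iff]; exact ⟨by rw [pow_two]; exact c_sq d, c_ne_one d⟩

theorem orderOf_a : orderOf (a d) = 2 := by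
  rw [orderOf_eq_prime_iff]; exact ⟨by rw [pow_two]; exact a_sq d, a_ne_one d⟩

theorem orderOf_z : orderOf (z d) = 2 := by
  rw [orderOf_eq_prime_iff]; exact ⟨by rw [pow_two]; exact z_sq d, B_ne_one d _ _⟩

/-- involutions of `S` -/
theorem invol_cases (s : G) (hs : s ∈ S) (ho : orderOf s = 2) :
    s = c d ∨ s = a d ∨ s = a' d ∨ ∃ i, s = B d i (-i) := by
  have h1 : (⟨s, hs⟩ : ↥S) * ⟨s, hs⟩ = 1 := by
    apply Subtype.ext
    rw [Subgroup.coe_mul, Subgroup.coe_one]
    have := pow_orderOf_eq_one s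
    rw [ho, pow_two] at this
    exact this
  rcases d.sq_eq_one_cases _ h1 with h | h | h | h | ⟨i, h⟩
  · exfalso
    have := congrArg Subtype.val h
    change s = 1 at this
    rw [this, orderOf_one] at ho
    omega
  · left; exact congrArg Subtype.val h
  · right; left; exact congrArg Subtype.val h
  · right; right; left; exact congrArg Subtype.val h
  · right; right; right; exact ⟨i, congrArg Subtype.val h⟩

/-- all the `B i (-i)` are conjugate to `z` in `S` -/
theorem conj_z (i : ZMod (2 ^ d.n)) : A d i 0 * z d * (A d i 0)⁻¹ = B d i (-i) := by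
  unfold z; rw [conj_A_B]; congr 1 <;> ring

theorem orderOf_B_neg (i : ZMod (2 ^ d.n)) : orderOf (B d i (-i)) = 2 := by
  rw [← conj_z, orderOf_conj']; exact orderOf_z d

/-- the abelian maximal subgroup, in `G` -/
def U' : Subgroup G := d.U.map S.subtype

theorem mem_U' (s : G) : s ∈ U' d ↔ ∃ i j, s = A d i j := by
  constructor
  · rintro ⟨t, ht, rfl⟩
    obtain ⟨i, j, h⟩ := (d.mem_U_iff t).mp ht
    exact ⟨i, j, congrArg Subtype.val h⟩
  · rintro ⟨i, j, rfl⟩
    exact ⟨d.A i j, d.A_mem_U i j, rfl⟩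

theorem U'_le : U' d ≤ S := Subgroup.map_subtype_le _

theorem B_not_mem_U' (i j : ZMod (2 ^ d.n)) : B d i j ∉ U' d := by
  rw [mem_U']; rintro ⟨k, l, h⟩; exact A_ne_B d _ _ _ _ h.symm

theorem card_U' : Nat.card (U' d) = 2 ^ (2 * d.n) := by
  unfold U'
  rw [Subgroup.card_map_of_injective S.subtype_injective, d.card_U]

/-- `U'` is the only abelian subgroup of `S` of its order -/
theorem eq_U'_of_comm (V : Subgroup G) (hVS : V ≤ S) (hV : ∀ x ∈ V, ∀ y ∈ V, x * y = y * x)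
    (hcard : Nat.card V = 2 ^ (2 * d.n)) : V = U' d := by
  have h1 : V.subgroupOf S = d.U := by
    apply d.eq_U_of_comm
    · intro x hx y hy
      apply Subtype.ext
      rw [Subgroup.coe_mul, Subgroup.coe_mul]
      exact hV _ (Subgroup.mem_subgroupOf.mp hx) _ (Subgroup.mem_subgroupOf.mp hy)
    · rw [Cfsg.Agent.Lead.card_subgroupOf_of_le hVS]; exact hcard
  unfold U'
  rw [← h1, Subgroup.map_subgroupOf_eq_of_le hVS]

theorem U'_comm (x y : G) (hx : x ∈ U' d) (hy : y ∈ U' d) : x * y = y * x := by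
  obtain ⟨i, j, rfl⟩ := (mem_U' d x).mp hx
  obtain ⟨k, l, rfl⟩ := (mem_U' d y).mp hy
  exact A_comm d _ _ _ _

/-- the centre of `S`, in `G` -/
def Z' (S : Subgroup G) : Subgroup G := (Subgroup.center ↥S).map S.subtype

theorem mem_Z' (s : G) : s ∈ Z' S ↔ ∃ i, s = A d i i := by
  constructor
  · rintro ⟨t, ht, rfl⟩
    obtain ⟨i, h⟩ := (d.mem_center_iff t).mp ht
    exact ⟨i, congrArg Subtype.val h⟩
  · rintro ⟨i, rfl⟩
    exact ⟨d.A i i, d.A_diag_mem_center i, rfl⟩

end Cfsg.Agent.Helper2.WF
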