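import Mathlib
import Cfsg.Agent.Helper2.WF1
import Cfsg.Agent.Helper2.OddAut

set_option autoImplicit false

/-! Coprime action lemmas and the automizer of the homocyclic maximal subgroup of a wreathed
Sylow 2-subgroup. -/

namespace Cfsg.Agent.Helper2.WF

open Cfsg.Agent.Helper2.Wr Cfsg.Agent.Helper2.QDF

/-- The coprime-action step: if `ξ x = x q` with `ξ q = q`, `ξ ^ m = 1`, `q` a `p`-element and `m`
prime to `p`, then `q = 1`. -/
theorem coprime_step' {R : Type*} [Group R] (p : ℕ) (ξ : MulAut R) (m : ℕ) (hm : m.Coprime p)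
    (hξ : ξ ^ m = 1) (x q : R) (hx : ξ x = x * q) (hq : ξ q = q) (k : ℕ)
    (hqk : q ^ (p ^ k) = 1) : q = 1 := by
  have hpow : ∀ i : ℕ, (ξ ^ i) x = x * q ^ i := by
    intro i
    induction i with
    | zero => simp
    | succ i ihi =>
      rw [pow_succ', MulAut.mul_apply, ihi, map_mul, map_pow, hq, hx, pow_succ', mul_assoc]
  have h3 := hpow m
  rw [hξ] at h3
  have hqm : q ^ m = 1 := by
    have : x = x * q ^ m := h3
    exact (mul_eq_left.mp this.symm)
  have hg : q ^ (Nat.gcd m (p ^ k)) = 1 := by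
    rw [pow_gcd_eq_one]
    exact ⟨hqm, hqk⟩
  rw [Nat.Coprime.pow_right k hm, pow_one] at hg
  exact hg

/-- An automorphism of odd order fixing the involutions of an invariant abelian `2`-subgroup fixes
the subgroup pointwise. -/
theorem coprime_fix {R : Type*} [Group R] (ξ : MulAut R) (m : ℕ) (hm : Odd m) (hξ : ξ ^ m = 1)
    (Z : Subgroup R) (hZinv : ∀ x ∈ Z, ξ x ∈ Z) (hZc : ∀ x ∈ Z, ∀ y ∈ Z, x * y = y * x)
    (hZ2 : ∀ x ∈ Z, ∃ k : ℕ, x ^ (2 ^ k) = 1) (hΩ : ∀ t ∈ Z, t * t = 1 → ξ t = t) :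
    ∀ x ∈ Z, ξ x = x := by
  have hcop : m.Coprime 2 := Nat.Coprime.symm (Nat.coprime_two_left.mpr hm)
  have key : ∀ k : ℕ, ∀ x ∈ Z, x ^ (2 ^ k) = 1 → ξ x = x := by
    intro k
    induction k with
    | zero =>
      intro x _ hx
      rw [pow_zero, pow_one] at hx
      rw [hx, map_one]
    | succ k ih =>
      intro x hxZ hx
      have hy : ξ (x * x) = x * x := by
        apply ih _ (Z.mul_mem hxZ hxZ)
        rw [← pow_two, ← pow_mul, ← pow_succ']
        exact hx
      set q := x⁻¹ * ξ x with hq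
      have hqZ : q ∈ Z := Z.mul_mem (Z.inv_mem hxZ) (hZinv x hxZ)
      have hqq : q * q = 1 := by
        have h1 : ξ x * x⁻¹ = x⁻¹ * ξ x := hZc _ (hZinv x hxZ) _ (Z.inv_mem hxZ)
        calc q * q = x⁻¹ * (ξ x * x⁻¹) * ξ x := by rw [hq]; group
          _ = x⁻¹ * (x⁻¹ * ξ x) * ξ x := by rw [h1]
          _ = (x * x)⁻¹ * (ξ x * ξ x) := by group
          _ = (x * x)⁻¹ * ξ (x * x) := by rw [map_mul]
          _ = 1 := by rw [hy]; group
      have hqfix : ξ q = q := hΩ q hqZ hqq
      have hq1 : q = 1 := coprime_step' 2 ξ m hcop hξ x q (by rw [hq]; group)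
        hqfix 1 (by rw [pow_one, pow_two]; exact hqq)
      calc ξ x = x * q := by rw [hq]; group
        _ = x := by rw [hq1, mul_one]
  intro x hx
  obtain ⟨k, hk⟩ := hZ2 x hx
  exact key k x hx hk

variable {G : Type*} [Group G] [Finite G]

theorem pow_two_pow_eq_one_of_mem (S : Sylow 2 G) (x : G) (hx : x ∈ (S : Subgroup G)) :
    ∃ k : ℕ, x ^ (2 ^ k) = 1 := by
  obtain ⟨k, hk⟩ := S.isPGroup' ⟨x, hx⟩
  refine ⟨k, ?_⟩
  have := congrArg Subtype.val hk
  rw [Subgroup.coe_pow] at this
  exact this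

/-- an element normalizing `U'` and inducing an automorphism of order three: its action on the
involutions of `U'` -/
theorem order_three_on_U (S : Sylow 2 G) (d : WDat ↥(S : Subgroup G)) (g : G)
    (hg : g ∈ Subgroup.normalizer (U' d : Set G))
    (h3 : ∀ u ∈ U' d, g * (g * (g * u * g⁻¹) * g⁻¹) * g⁻¹ = u)
    (hne : ∃ u ∈ U' d, g * u * g⁻¹ ≠ u) :
    (g * c d * g⁻¹ = a d ∨ g * c d * g⁻¹ = a' d) ∧ ∀ u ∈ U' d, g * u * g⁻¹ = u → u = 1 := by
  classical
  -- the induced automorphism
  set ξ : MulAut (U' d) := (U' d).normalizerMonoidHom ⟨g, hg⟩ with hξ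
  have hact : ∀ x : U' d, ((ξ x : U' d) : G) = g * x * g⁻¹ := fun x =>
    Subgroup.normalizerMonoidHom_apply_apply_coe (U' d) ⟨g, hg⟩ x
  have hξ3 : ξ ^ 3 = 1 := by
    apply MulEquiv.ext
    intro x
    apply Subtype.ext
    have e : (ξ ^ 3) x = ξ (ξ (ξ x)) := rfl
    rw [e, hact, hact, hact, MulAut.one_apply]
    exact h3 x x.2
  have hconjU : ∀ u ∈ U' d, g * u * g⁻¹ ∈ U' d := by
    intro u hu
    have := (ξ ⟨u, hu⟩).2
    rw [hact] at this
    exact this
  -- some involution is moved
  have hmoved : ∃ t ∈ U' d, t * t = 1 ∧ g * t * g⁻¹ ≠ t := by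
    by_contra hno
    push Not at hno
    obtain ⟨u, hu, hgu⟩ := hne
    apply hgu
    have := coprime_fix ξ 3 (by decide) hξ3 ⊤ (fun _ _ => Subgroup.mem_top _)
      (fun x _ y _ => Subtype.ext (U'_comm d _ _ x.2 y.2))
      (fun x _ => by
        obtain ⟨k, hk⟩ := pow_two_pow_eq_one_of_mem S x (U'_le d x.2)
        exact ⟨k, Subtype.ext (by rw [Subgroup.coe_pow]; exact hk)⟩)
      (fun t _ htt => by
        apply Subtype.ext
        rw [hact]
        apply hno _ t.2
        have := congrArg Subtype.val htt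
        rw [Subgroup.coe_mul] at this
        exact this) ⟨u, hu⟩ (Subgroup.mem_top _)
    have h2 := congrArg Subtype.val this
    rw [hact] at h2
    exact h2
  -- involutions of U'
  have hinvU : ∀ t ∈ U' d, t * t = 1 → t = 1 ∨ t = c d ∨ t = a d ∨ t = a' d := by
    intro t ht htt
    by_cases h1 : t = 1
    · left; exact h1
    · right
      have ho : orderOf t = 2 := by
        rw [orderOf_eq_prime_iff]; exact ⟨by rw [pow_two]; exact htt, h1⟩
      rcases invol_cases d t (U'_le d ht) ho with h | h | h | ⟨i, h⟩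
      · left; exact h
      · right; left; exact h
      · right; right; exact h
      · exfalso; rw [h] at ht; exact B_not_mem_U' d _ _ ht
  have hcU : c d ∈ U' d := (mem_U' d _).mpr ⟨_, _, rfl⟩
  have haU : a d ∈ U' d := (mem_U' d _).mpr ⟨_, _, rfl⟩
  have ha'U : a' d ∈ U' d := (mem_U' d _).mpr ⟨_, _, rfl⟩
  have hconj_mul : ∀ x y : G, g * (x * y) * g⁻¹ = (g * x * g⁻¹) * (g * y * g⁻¹) := by
    intro x y; group
  have hsq : ∀ t : G, t * t = 1 → (g * t * g⁻¹) * (g * t * g⁻¹) = 1 := by
    intro t ht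
    rw [← hconj_mul, ht]; group
  have hne1 : ∀ t : G, t ≠ 1 → g * t * g⁻¹ ≠ 1 := by
    intro t ht h
    apply ht
    calc t = g⁻¹ * (g * t * g⁻¹) * g := by group
      _ = 1 := by rw [h]; group
  -- images of the three involutions
  have himg : ∀ t ∈ U' d, t * t = 1 → t ≠ 1 →
      g * t * g⁻¹ = c d ∨ g * t * g⁻¹ = a d ∨ g * t * g⁻¹ = a' d := by
    intro t ht htt ht1
    rcases hinvU _ (hconjU t ht) (hsq t htt) with h | h | h | h
    · exact absurd h (hne1 t ht1)
    · left; exact h
    · right; left; exact h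
    · right; right; exact h
  have hac : a d ≠ c d := a_ne_c d
  have ha'c : a' d ≠ c d := a'_ne_c d
  have haa' : a d ≠ a' d := by
    intro h
    have := a_mul_c d
    rw [← h] at this
    apply c_ne_one d
    calc c d = (a d)⁻¹ * (a d * c d) := by group
      _ = 1 := by rw [this]; group
  have ha'eq : a' d = a d * c d := (a_mul_c d).symm
  have ceq : c d = a d * a' d := by
    rw [ha'eq, ← mul_assoc, a_sq, one_mul]
  -- no involution is fixed
  have hcube : ∀ t ∈ U' d, g * (g * (g * t * g⁻¹) * g⁻¹) * g⁻¹ = t := h3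
  have hinj : ∀ s t : G, g * s * g⁻¹ = g * t * g⁻¹ → s = t := fun s t h => conj_cancel h
  -- case analysis on the image of c
  have hcmoved : g * c d * g⁻¹ ≠ c d := by
    intro hc
    -- then a, a' are permuted
    rcases himg _ haU (a_sq d) (a_ne_one d) with h | h | h
    · exact hac (hinj _ _ (h.trans hc.symm))
    · -- all fixed
      have h' : g * a' d * g⁻¹ = a' d := by rw [ha'eq, hconj_mul, h, hc]
      obtain ⟨t, ht, htt, hgt⟩ := hmoved
      rcases hinvU t ht htt with rfl | rfl | rfl | rfl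
      · apply hgt; group
      · exact hgt hc
      · exact hgt h
      · exact hgt h'
    · -- a and a' swapped
      have h' : g * a' d * g⁻¹ = a d := by
        rw [ha'eq, hconj_mul, h, hc, ha'eq, mul_assoc, c_sq, mul_one]
      have := hcube _ haU
      rw [h, h', h] at this
      exact haa' this.symm
  have hamoved : g * a d * g⁻¹ ≠ a d := by
    intro ha
    rcases himg _ hcU (c_sq d) (c_ne_one d) with h | h | h
    · exact hcmoved h
    · exact hac (hinj _ _ (ha.trans h.symm))
    · have h' : g * a' d * g⁻¹ = c d := by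
        rw [ha'eq, hconj_mul, ha, h, ha'eq, ← mul_assoc, a_sq, one_mul]
      have := hcube _ hcU
      rw [h, h', h] at this
      exact ha'c this
  have ha'moved : g * a' d * g⁻¹ ≠ a' d := by
    intro ha'
    rcases himg _ hcU (c_sq d) (c_ne_one d) with h | h | h
    · exact hcmoved h
    · have h' : g * a d * g⁻¹ = c d := by
        have e1 : a d = a' d * c d := by rw [ha'eq, mul_assoc, c_sq, mul_one]
        rw [e1, hconj_mul, ha', h]
        calc a' d * a d = a d * a' d := by unfold a a'; exact A_comm d _ _ _ _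
          _ = c d := ceq.symm
      have := hcube _ hcU
      rw [h, h', h] at this
      exact hac this
    · exact ha'c (hinj _ _ (ha'.trans h.symm))
  refine ⟨?_, ?_⟩
  · rcases himg _ hcU (c_sq d) (c_ne_one d) with h | h | h
    · exact absurd h hcmoved
    · left; exact h
    · right; exact h
  · -- fixed points are trivial
    intro u hu hgu
    by_contra hu1
    -- a power of u is a fixed involution
    obtain ⟨k, hk⟩ := pow_two_pow_eq_one_of_mem S u (U'_le d hu)
    have hex : ∃ k : ℕ, u ^ (2 ^ k) = 1 := ⟨k, hk⟩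
    classical
    set k₀ := Nat.find hex with hk₀
    have hk₀spec : u ^ (2 ^ k₀) = 1 := Nat.find_spec hex
    have hk₀pos : k₀ ≠ 0 := by
      intro h0
      rw [h0, pow_zero, pow_one] at hk₀spec
      exact hu1 hk₀spec
    obtain ⟨k₁, hk₁⟩ := Nat.exists_eq_succ_of_ne_zero hk₀pos
    set t := u ^ (2 ^ k₁) with ht
    have ht1 : t ≠ 1 := by
      intro h
      have := Nat.find_min hex (m := k₁) (by omega)
      exact this h
    have htt : t * t = 1 := by
      rw [ht, ← pow_add, ← two_mul, ← pow_succ', ← Nat.succ_eq_add_one, ← hk₁]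
      exact hk₀spec
    have htU : t ∈ U' d := Subgroup.pow_mem _ hu _
    have hgt : g * t * g⁻¹ = t := by
      rw [ht, ← conj_pow, hgu]
    rcases hinvU t htU htt with h | h | h | h
    · exact ht1 h
    · rw [h] at hgt; exact hcmoved hgt
    · rw [h] at hgt; exact hamoved hgt
    · rw [h] at hgt; exact ha'moved hgt

end Cfsg.Agent.Helper2.WF
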