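import Mathlib
import Cfsg.Agent.Helper2.WF2

set_option autoImplicit false

/-! Automizer of order six of the homocyclic maximal subgroup: fusion and commutators. -/

namespace Cfsg.Agent.Helper2.WF

open Cfsg.Agent.Helper2.Wr Cfsg.Agent.Helper2.QDF

variable {G : Type*} [Group G] [Finite G]

theorem n_eq (S : Sylow 2 G) (d : WDat ↥(S : Subgroup G)) (n : ℕ)
    (hn : Nat.card S = 2 ^ (2 * n + 1)) : n = d.n := by
  have h1 : Nat.card (S : Subgroup G) = 2 ^ (2 * d.n + 1) := d.card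
  have h2 : Nat.card (S : Subgroup G) = 2 ^ (2 * n + 1) := hn
  rw [h1] at h2
  have := Nat.pow_right_injective (le_refl 2) h2
  omega

theorem U_eq (S : Sylow 2 G) (d : WDat ↥(S : Subgroup G)) (n : ℕ)
    (hn : Nat.card S = 2 ^ (2 * n + 1)) (U : Subgroup G) (hUS : U ≤ S)
    (hUab : IsMulCommutative U) (hUcard : Nat.card U = 2 ^ (2 * n)) : U = U' d := by
  apply eq_U'_of_comm d U hUS
  · intro x hx y hy
    exact congrArg Subtype.val (hUab.is_comm.comm ⟨x, hx⟩ ⟨y, hy⟩)
  · rw [hUcard, n_eq S d n hn]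

/-- automizer of order six: an element of the normalizer of `U'` cycling the involutions and
acting without fixed points -/
theorem U_six (S : Sylow 2 G) (d : WDat ↥(S : Subgroup G))
    (h₁ : (Subgroup.centralizer (U' d : Set G)).relIndex (Subgroup.normalizer (U' d : Set G)) = 6) :
    ∃ g ∈ Subgroup.normalizer (U' d : Set G),
      (g * c d * g⁻¹ = a d ∨ g * c d * g⁻¹ = a' d) ∧ ∀ u ∈ U' d, g * u * g⁻¹ = u → u = 1 := by
  classical
  have h3 : 3 ∣ (Subgroup.centralizer (U' d : Set G)).relIndex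
      (Subgroup.normalizer (U' d : Set G)) := by
    rw [h₁]; exact ⟨2, rfl⟩
  have hker : ((U' d).normalizerMonoidHom).ker.index =
      (Subgroup.centralizer (U' d : Set G)).relIndex (Subgroup.normalizer (U' d : Set G)) := by
    rw [Subgroup.normalizerMonoidHom_ker (U' d)]
    rfl
  have h3' : 3 ∣ Nat.card ((U' d).normalizerMonoidHom).range := by
    rw [← Subgroup.index_ker, hker]; exact h3
  haveI : Fact (Nat.Prime 3) := ⟨Nat.prime_three⟩
  haveI : Finite (U' d) := inferInstance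
  obtain ⟨σ', hσ'⟩ := exists_prime_orderOf_dvd_card' 3 h3'
  obtain ⟨σ, hσσ'⟩ : ∃ σ : MulAut (U' d), σ = (σ' : MulAut (U' d)) := ⟨_, rfl⟩
  obtain ⟨⟨g, hg⟩, hgσ'⟩ := σ'.2
  have hgσ : (U' d).normalizerMonoidHom ⟨g, hg⟩ = σ := by rw [hσσ']; exact hgσ'
  have hσ : orderOf σ = 3 := by
    rw [hσσ', Subgroup.orderOf_coe]; exact hσ'
  have hact : ∀ x : U' d, ((σ x : U' d) : G) = g * x * g⁻¹ := by
    intro x
    rw [← hgσ]
    exact Subgroup.normalizerMonoidHom_apply_apply_coe (U' d) ⟨g, hg⟩ x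
  refine ⟨g, hg, order_three_on_U S d g hg ?_ ?_⟩
  · intro u hu
    have h1 : (σ ^ 3) ⟨u, hu⟩ = ⟨u, hu⟩ := by
      rw [← hσ, pow_orderOf_eq_one]; rfl
    have e : (σ ^ 3) ⟨u, hu⟩ = σ (σ (σ ⟨u, hu⟩)) := rfl
    rw [e] at h1
    have h2 := congrArg Subtype.val h1
    rw [hact, hact, hact] at h2
    exact h2
  · by_contra hno
    push Not at hno
    have : σ = 1 := by
      apply MulEquiv.ext
      intro x
      apply Subtype.ext
      rw [hact, MulAut.one_apply]
      exact hno x x.2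
    rw [this, orderOf_one] at hσ
    omega

/-- fusion of the central involution with `a` -/
theorem c_conj_a (S : Sylow 2 G) (d : WDat ↥(S : Subgroup G))
    (h₁ : (Subgroup.centralizer (U' d : Set G)).relIndex (Subgroup.normalizer (U' d : Set G)) = 6) :
    ∃ g : G, g * c d * g⁻¹ = a d := by
  obtain ⟨g, -, hg | hg, -⟩ := U_six S d h₁
  · exact ⟨g, hg⟩
  · refine ⟨(z d)⁻¹ * g, ?_⟩
    have h1 := z_conj_a d
    calc (z d)⁻¹ * g * c d * ((z d)⁻¹ * g)⁻¹ = (z d)⁻¹ * (g * c d * g⁻¹) * z d := by group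
      _ = (z d)⁻¹ * (z d * a d * (z d)⁻¹) * z d := by rw [hg, h1]
      _ = a d := by group

/-- with automizer of order six, `U'` lies in every subgroup of index two -/
theorem U'_le_of_index_two (S : Sylow 2 G) (d : WDat ↥(S : Subgroup G))
    (h₁ : (Subgroup.centralizer (U' d : Set G)).relIndex (Subgroup.normalizer (U' d : Set G)) = 6)
    (H : Subgroup G) (hH : H.index = 2) : U' d ≤ H := by
  classical
  haveI : H.Normal := Subgroup.normal_of_index_eq_two hH
  obtain ⟨g, hgN, -, hfix⟩ := U_six S d h₁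
  have hconjU : ∀ u ∈ U' d, g * u * g⁻¹ ∈ U' d := fun u hu =>
    (Subgroup.mem_normalizer_iff.mp hgN u).mp hu
  -- the commutator map is injective, hence surjective
  let θ : U' d → U' d := fun u => ⟨(u : G)⁻¹ * (g * u * g⁻¹),
    (U' d).mul_mem ((U' d).inv_mem u.2) (hconjU u u.2)⟩
  have hθinj : Function.Injective θ := by
    intro u v huv
    have h1 : (u : G)⁻¹ * (g * u * g⁻¹) = (v : G)⁻¹ * (g * v * g⁻¹) := congrArg Subtype.val huv
    have hw : (u : G) * (v : G)⁻¹ ∈ U' d := (U' d).mul_mem u.2 ((U' d).inv_mem v.2)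
    have h2 : g * ((u : G) * (v : G)⁻¹) * g⁻¹ = (u : G) * (v : G)⁻¹ := by
      have e1 : g * ((u : G) * (v : G)⁻¹) * g⁻¹ = (g * u * g⁻¹) * (g * v * g⁻¹)⁻¹ := by group
      have e2 : g * u * g⁻¹ = (u : G) * ((v : G)⁻¹ * (g * v * g⁻¹)) := by
        rw [← h1]; group
      rw [e1]
      generalize g * (v : G) * g⁻¹ = w at e2 ⊢
      rw [e2]; group
    have h3 := hfix _ hw h2
    apply Subtype.ext
    calc (u : G) = (u : G) * (v : G)⁻¹ * v := by group
      _ = v := by rw [h3, one_mul]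
  have hθsurj : Function.Surjective θ := Finite.injective_iff_surjective.mp hθinj
  intro u hu
  obtain ⟨v, hv⟩ := hθsurj ⟨u, hu⟩
  have h1 : (v : G)⁻¹ * (g * v * g⁻¹) = u := congrArg Subtype.val hv
  rw [← h1]
  apply (Subgroup.mul_mem_iff_of_index_two hH).mpr
  constructor
  · intro h
    exact ‹H.Normal›.conj_mem _ (by simpa using H.inv_mem h) g
  · intro h
    have h2 : g⁻¹ * (g * v * g⁻¹) * g⁻¹⁻¹ ∈ H := ‹H.Normal›.conj_mem _ h g⁻¹
    have e : g⁻¹ * (g * (v : G) * g⁻¹) * g⁻¹⁻¹ = v := by group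
    rw [e] at h2
    exact H.inv_mem h2

end Cfsg.Agent.Helper2.WF
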