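import Mathlib
import Cfsg.Agent.Helper2.WF3

set_option autoImplicit false

/-! Quaternion subgroups of order eight of a wreathed `2`-group, and the central product of such a
subgroup with the centre. -/

namespace Cfsg.Agent.Helper2.WF

open Cfsg.Agent.Helper2.Wr Cfsg.Agent.Helper2.QDF

section q8


theorem quat_sq : ∀ s : QuaternionGroup 2, s * s = 1 ∨ s * s = QuaternionGroup.a 2 := by decide

theorem quat_sq_one : ∀ s : QuaternionGroup 2, s * s = 1 → s = 1 ∨ s = QuaternionGroup.a 2 := by decide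

theorem quat_central : ∀ s : QuaternionGroup 2, (∀ g, g * s = s * g) → s = 1 ∨ s = QuaternionGroup.a 2 := by
  decide

theorem quat_a2_central : ∀ g : QuaternionGroup 2, g * QuaternionGroup.a 2 = QuaternionGroup.a 2 * g := by decide

theorem quat_a2_sq : (QuaternionGroup.a 2 : QuaternionGroup 2) * QuaternionGroup.a 2 = 1 := by decide

theorem quat_a2_ne : (QuaternionGroup.a 2 : QuaternionGroup 2) ≠ 1 := by decide

theorem quat_noncomm' : (QuaternionGroup.a 1 : QuaternionGroup 2) * QuaternionGroup.xa 0 ≠ QuaternionGroup.xa 0 * QuaternionGroup.a 1 := by decide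

variable {S : Type*} [Group S]

/-- basic facts on a quaternion subgroup of order eight -/
theorem q8_facts (Q : Subgroup S) (e : Q ≃* QuaternionGroup 2) :
    ∃ t ∈ Q, t ≠ 1 ∧ t * t = 1 ∧ (∀ s ∈ Q, s * s = 1 ∨ s * s = t) ∧
      (∀ s ∈ Q, s * s = 1 → s = 1 ∨ s = t) ∧ (∀ s ∈ Q, s * t = t * s) ∧
      (∀ s ∈ Q, (∀ g ∈ Q, g * s = s * g) → s = 1 ∨ s = t) ∧
      ∃ i ∈ Q, ∃ j ∈ Q, i * j ≠ j * i := by
  have key : ∀ s : Q, ∀ u : QuaternionGroup 2, e s = u → s = e.symm u := by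
    intro s u h; rw [← h, MulEquiv.symm_apply_apply]
  refine ⟨(e.symm (QuaternionGroup.a 2) : S), (e.symm (QuaternionGroup.a 2)).2, ?_, ?_, ?_, ?_, ?_, ?_, ?_⟩
  · intro h
    have h1 : e.symm (QuaternionGroup.a 2) = 1 := Subtype.ext h
    have h2 := congrArg e h1
    rw [MulEquiv.apply_symm_apply, map_one] at h2
    exact quat_a2_ne h2
  · have h1 : e.symm (QuaternionGroup.a 2) * e.symm (QuaternionGroup.a 2) = 1 := by
      rw [← map_mul, quat_a2_sq, map_one]
    exact congrArg Subtype.val h1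
  · intro s hs
    rcases quat_sq (e ⟨s, hs⟩) with h | h
    · left
      rw [← map_mul] at h
      have := key _ _ h
      rw [map_one] at this
      exact congrArg Subtype.val this
    · right
      rw [← map_mul] at h
      exact congrArg Subtype.val (key _ _ h)
  · intro s hs hss
    have h1 : e ⟨s, hs⟩ * e ⟨s, hs⟩ = 1 := by
      rw [← map_mul]
      have : (⟨s, hs⟩ : Q) * ⟨s, hs⟩ = 1 := Subtype.ext hss
      rw [this, map_one]
    rcases quat_sq_one _ h1 with h | h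
    · left
      have := key _ _ h
      rw [map_one] at this
      exact congrArg Subtype.val this
    · right
      exact congrArg Subtype.val (key _ _ h)
  · intro s hs
    have h1 := quat_a2_central (e ⟨s, hs⟩)
    have h2 : e.symm (e ⟨s, hs⟩ * QuaternionGroup.a 2) = e.symm (QuaternionGroup.a 2 * e ⟨s, hs⟩) := by rw [h1]
    rw [map_mul, map_mul, MulEquiv.symm_apply_apply] at h2
    exact congrArg Subtype.val h2
  · intro s hs hc
    have h1 : ∀ g, g * e ⟨s, hs⟩ = e ⟨s, hs⟩ * g := by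
      intro g
      have h2 : e.symm g * ⟨s, hs⟩ = ⟨s, hs⟩ * e.symm g := Subtype.ext (hc _ (e.symm g).2)
      have h3 := congrArg e h2
      rw [map_mul, map_mul, MulEquiv.apply_symm_apply] at h3
      exact h3
    rcases quat_central _ h1 with h | h
    · left
      have := key _ _ h
      rw [map_one] at this
      exact congrArg Subtype.val this
    · right
      exact congrArg Subtype.val (key _ _ h)
  · refine ⟨(e.symm (QuaternionGroup.a 1) : S), (e.symm (QuaternionGroup.a 1)).2, (e.symm (QuaternionGroup.xa 0) : S), (e.symm (QuaternionGroup.xa 0)).2, ?_⟩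
    intro h
    apply quat_noncomm'
    have h1 : e.symm (QuaternionGroup.a 1) * e.symm (QuaternionGroup.xa 0) = e.symm (QuaternionGroup.xa 0) * e.symm (QuaternionGroup.a 1) := Subtype.ext h
    rw [← map_mul, ← map_mul] at h1
    exact e.symm.injective h1

/-- the join of two subgroups commuting elementwise consists of products -/
theorem mem_sup_of_commute (Q Z : Subgroup S) (h : ∀ q ∈ Q, ∀ ζ ∈ Z, q * ζ = ζ * q) (v : S)
    (hv : v ∈ Q ⊔ Z) : ∃ q ∈ Q, ∃ ζ ∈ Z, v = q * ζ := by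
  let P : Subgroup S :=
    { carrier := {v | ∃ q ∈ Q, ∃ ζ ∈ Z, v = q * ζ}
      one_mem' := ⟨1, Q.one_mem, 1, Z.one_mem, by rw [mul_one]⟩
      mul_mem' := by
        rintro _ _ ⟨q₁, hq₁, ζ₁, hζ₁, rfl⟩ ⟨q₂, hq₂, ζ₂, hζ₂, rfl⟩
        refine ⟨q₁ * q₂, Q.mul_mem hq₁ hq₂, ζ₁ * ζ₂, Z.mul_mem hζ₁ hζ₂, ?_⟩
        have := h q₂ hq₂ ζ₁ hζ₁
        calc q₁ * ζ₁ * (q₂ * ζ₂) = q₁ * (ζ₁ * q₂) * ζ₂ := by group
          _ = q₁ * (q₂ * ζ₁) * ζ₂ := by rw [this]
          _ = q₁ * q₂ * (ζ₁ * ζ₂) := by group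
      inv_mem' := by
        rintro _ ⟨q, hq, ζ, hζ, rfl⟩
        refine ⟨q⁻¹, Q.inv_mem hq, ζ⁻¹, Z.inv_mem hζ, ?_⟩
        have := h q⁻¹ (Q.inv_mem hq) ζ⁻¹ (Z.inv_mem hζ)
        rw [mul_inv_rev, this] }
  have hle : Q ⊔ Z ≤ P := by
    apply sup_le
    · intro q hq; exact ⟨q, hq, 1, Z.one_mem, by rw [mul_one]⟩
    · intro ζ hζ; exact ⟨1, Q.one_mem, ζ, hζ, by rw [one_mul]⟩
  exact hle hv

end q8

variable {G : Type*} [Group G] {S : Subgroup G} (d : WDat ↥S)

theorem comm_A_B (r s k l : ZMod (2 ^ d.n)) (h : A d r s * B d k l = B d k l * A d r s) :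
    r = s := by
  rw [A_mul_B, B_mul_A] at h
  have := (B_inj d h).1
  linear_combination this

/-- a quaternion subgroup of order eight of a wreathed group -/
theorem quat_wr (Q : Subgroup G) (hQS : Q ≤ S) (eQ : Q ≃* QuaternionGroup 2) :
    c d ∈ Q ∧ (∀ s ∈ Q, s * s = 1 ∨ s * s = c d) ∧ (∀ s ∈ Q, s * s = 1 → s = 1 ∨ s = c d) ∧
      (∃ r s, r - s = d.h ∧ A d r s ∈ Q) ∧ (∃ k l, B d k l ∈ Q) ∧
      (∀ s ∈ Q, (∀ g ∈ Q, g * s = s * g) → s = 1 ∨ s = c d) := by
  obtain ⟨t, htQ, ht1, htt, hsq, hsq1, -, hcen, i, hi, j, hj, hij⟩ := q8_facts Q eQ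
  -- a `B`-element
  have hB : ∃ k l, B d k l ∈ Q := by
    rcases nf d i (hQS hi) with ⟨r, s, rfl⟩ | ⟨k, l, rfl⟩
    · rcases nf d j (hQS hj) with ⟨r', s', rfl⟩ | ⟨k, l, rfl⟩
      · exact absurd (A_comm d _ _ _ _) hij
      · exact ⟨k, l, hj⟩
    · exact ⟨k, l, hi⟩
  -- a non-central `A`-element
  have hA : ∃ r s, A d r s ∈ Q ∧ ∃ g ∈ Q, g * A d r s ≠ A d r s * g := by
    rcases nf d i (hQS hi) with ⟨r, s, rfl⟩ | ⟨k, l, rfl⟩
    · exact ⟨r, s, hi, j, hj, fun h => hij h.symm⟩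
    · rcases nf d j (hQS hj) with ⟨r', s', rfl⟩ | ⟨k', l', rfl⟩
      · exact ⟨r', s', hj, _, hi, hij⟩
      · refine ⟨k + l', l + k', ?_, B d k l, hi, ?_⟩
        · rw [← B_mul_B]; exact Q.mul_mem hi hj
        · rw [← B_mul_B]
          intro h
          apply hij
          have : B d k l * (B d k l * B d k' l') = B d k l * (B d k' l' * B d k l) := by
            rw [h]; group
          exact mul_left_cancel this
  obtain ⟨k, l, hJ⟩ := hB
  obtain ⟨r, s, hw, g₀, hg₀, hwg⟩ := hA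
  have hrs : r ≠ s := by
    intro h
    apply hwg
    rw [h]
    exact (diag_central d s g₀ (hQS hg₀)).symm
  -- the involution is `c`
  have htc : t = c d := by
    have hJJ : B d k l * B d k l = t := by
      rcases hsq _ hJ with h | h
      · exfalso
        rcases hsq1 _ hJ h with h1 | h1
        · exact B_ne_one d _ _ h1
        · -- `t` is a `B`-element
          have hwJ : A d r s * B d k l ∈ Q := Q.mul_mem hw hJ
          have h2 : A d r s * B d k l * (A d r s * B d k l) = 1 := by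
            rcases hsq _ hwJ with h2 | h2
            · exact h2
            · exfalso
              rw [A_mul_B, B_sq, ← h1] at h2
              exact A_ne_B d _ _ _ _ h2
          rcases hsq1 _ hwJ h2 with h3 | h3
          · rw [A_mul_B] at h3; exact B_ne_one d _ _ h3
          · rw [← h1] at h3
            have : A d r s = 1 := mul_right_cancel (h3.trans (one_mul _).symm)
            apply hwg
            rw [this, mul_one, one_mul]
      · exact h
    rw [B_sq] at hJJ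
    rw [← hJJ] at htt ht1
    rw [A_mul_A, A_eq_one_iff] at htt
    have h2 : 2 * (k + l) = 0 := by linear_combination htt.1
    rcases (d.two_mul_eq_zero_iff _).mp h2 with h3 | h3
    · exfalso; apply ht1; rw [h3, A_zero]
    · rw [← hJJ, h3]; rfl
  rw [htc] at hsq hsq1 htQ hcen
  refine ⟨htQ, hsq, hsq1, ⟨r, s, ?_, hw⟩, ⟨k, l, hJ⟩, hcen⟩
  have h2 : 2 * (r - s) = 0 := by
    rcases hsq _ hw with h | h
    · rw [A_mul_A, A_eq_one_iff] at h
      linear_combination h.1 - h.2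
    · rw [A_mul_A] at h
      have := A_inj d h
      linear_combination this.1 - this.2
  rcases (d.two_mul_eq_zero_iff _).mp h2 with h3 | h3
  · exact absurd (sub_eq_zero.mp h3) hrs
  · exact h3

/-- `V = Q Z(S)` -/
theorem V_le (Q : Subgroup G) (hQS : Q ≤ S) : Q ⊔ Z' S ≤ S :=
  sup_le hQS (Subgroup.map_subtype_le _)

theorem mem_V (Q : Subgroup G) (hQS : Q ≤ S) (v : G) (hv : v ∈ Q ⊔ Z' S) :
    ∃ q₀ ∈ Q, ∃ i, v = q₀ * A d i i := by
  have h : ∀ q ∈ Q, ∀ ζ ∈ Z' S, q * ζ = ζ * q := by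
    intro q hq ζ hζ
    obtain ⟨i, rfl⟩ := (mem_Z' d ζ).mp hζ
    exact (diag_central d i q (hQS hq)).symm
  obtain ⟨q₀, hq₀, ζ, hζ, rfl⟩ := mem_sup_of_commute Q (Z' S) h v hv
  obtain ⟨i, rfl⟩ := (mem_Z' d ζ).mp hζ
  exact ⟨q₀, hq₀, i, rfl⟩

theorem V_A (Q : Subgroup G) (hQS : Q ≤ S) (eQ : Q ≃* QuaternionGroup 2) (r s : ZMod (2 ^ d.n))
    (hv : A d r s ∈ Q ⊔ Z' S) : 2 * (r - s) = 0 := by
  obtain ⟨-, hsq, -, -, -, -⟩ := quat_wr d Q hQS eQ
  obtain ⟨q₀, hq₀, i, h⟩ := mem_V d Q hQS _ hv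
  have h1 : q₀ = A d (r - i) (s - i) := by
    have : q₀ = A d r s * (A d i i)⁻¹ := by rw [h]; group
    rw [this, A_inv, A_mul_A, sub_eq_add_neg, sub_eq_add_neg]
  rw [h1] at hq₀
  rcases hsq _ hq₀ with h2 | h2
  · rw [A_mul_A, A_eq_one_iff] at h2
    linear_combination h2.1 - h2.2
  · rw [A_mul_A] at h2
    have := A_inj d h2
    linear_combination this.1 - this.2

theorem a_mem_V (Q : Subgroup G) (hQS : Q ≤ S) (eQ : Q ≃* QuaternionGroup 2) :
    a d ∈ Q ⊔ Z' S := by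
  obtain ⟨-, -, -, ⟨r, s, hrs, hw⟩, -, -⟩ := quat_wr d Q hQS eQ
  have : a d = A d r s * A d (-s) (-s) := by
    rw [A_mul_A]; unfold a; congr 1
    · rw [← hrs]; ring
    · ring
  rw [this]
  exact Subgroup.mul_mem _ (Subgroup.mem_sup_left hw)
    (Subgroup.mem_sup_right ((mem_Z' d _).mpr ⟨_, rfl⟩))

theorem a'_mem_V (Q : Subgroup G) (hQS : Q ≤ S) (eQ : Q ≃* QuaternionGroup 2) :
    a' d ∈ Q ⊔ Z' S := by
  rw [← a_mul_c]
  exact Subgroup.mul_mem _ (a_mem_V d Q hQS eQ)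
    (Subgroup.mem_sup_right ((mem_Z' d _).mpr ⟨_, rfl⟩))

/-- the centralizer of `V` in `S` is the centre of `S` -/
theorem V_central (d : WDat ↥S) (Q : Subgroup G) (hQS : Q ≤ S) (eQ : Q ≃* QuaternionGroup 2) (v : G)
    (hvS : v ∈ S) (hc : ∀ u ∈ Q, u * v = v * u) : v ∈ Z' S := by
  obtain ⟨-, -, -, ⟨r, s, hrs, hw⟩, ⟨k, l, hJ⟩, -⟩ := quat_wr d Q hQS eQ
  have hne : r ≠ s := by
    intro h
    rw [h, sub_self] at hrs
    exact d.h_ne_zero hrs.symm
  rcases nf d v hvS with ⟨r', s', rfl⟩ | ⟨k', l', rfl⟩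
  · have h1 := hc _ hJ
    have := comm_A_B d r' s' k l h1.symm
    rw [this]
    exact (mem_Z' d _).mpr ⟨_, rfl⟩
  · exact absurd (comm_A_B d r s k' l' (hc _ hw)) hne

end Cfsg.Agent.Helper2.WF
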