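import Mathlib
import Cfsg.Agent.Helper2.WF4

set_option autoImplicit false

/-! Automizers of abelian `2`-subgroups fixing the involutions; the automizer of order six of the
central product `V = Q Z(S)`. -/

namespace Cfsg.Agent.Helper2.WF

open Cfsg.Agent.Helper2.Wr Cfsg.Agent.Helper2.QDF

variable {G : Type*} [Group G] [Finite G]

/-- a group of automorphisms of an abelian `2`-subgroup induced by conjugation and fixing all the
involutions is a `2`-group -/
theorem relIndex_two_pow (W N₁ : Subgroup G) (hN₁ : N₁ ≤ Subgroup.normalizer (W : Set G))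
    (hW2 : ∀ x ∈ W, ∃ k : ℕ, x ^ (2 ^ k) = 1) (hWc : ∀ x ∈ W, ∀ y ∈ W, x * y = y * x)
    (hfix : ∀ g ∈ N₁, ∀ t ∈ W, t * t = 1 → g * t * g⁻¹ = t) :
    ∃ k : ℕ, (Subgroup.centralizer (W : Set G)).relIndex N₁ = 2 ^ k := by
  classical
  set φ : N₁ →* MulAut W := (W.normalizerMonoidHom).comp (Subgroup.inclusion hN₁) with hφ
  have hker : φ.ker = (Subgroup.centralizer (W : Set G)).subgroupOf N₁ := by
    ext x
    rw [MonoidHom.mem_ker, hφ, MonoidHom.comp_apply, ← MonoidHom.mem_ker,
      Subgroup.normalizerMonoidHom_ker W, Subgroup.mem_subgroupOf, Subgroup.mem_subgroupOf]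
    rfl
  have hidx : (Subgroup.centralizer (W : Set G)).relIndex N₁ = Nat.card φ.range := by
    rw [← Subgroup.index_ker, hker]; rfl
  rw [hidx]
  rcases Nat.eq_two_pow_or_exists_odd_prime_and_dvd (Nat.card φ.range) with h | ⟨p, hp, hpd, hodd⟩
  · exact h
  · exfalso
    haveI : Fact p.Prime := ⟨hp⟩
    obtain ⟨σ', hσ'⟩ := exists_prime_orderOf_dvd_card' p hpd
    obtain ⟨σ, hσσ'⟩ : ∃ σ : MulAut W, σ = (σ' : MulAut W) := ⟨_, rfl⟩
    obtain ⟨⟨g, hg⟩, hgσ'⟩ := σ'.2
    have hgσ : φ ⟨g, hg⟩ = σ := by rw [hσσ']; exact hgσ'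
    have hσ : orderOf σ = p := by
      rw [hσσ', Subgroup.orderOf_coe]; exact hσ'
    have hact : ∀ x : W, ((σ x : W) : G) = g * x * g⁻¹ := by
      intro x
      rw [← hgσ]
      exact Subgroup.normalizerMonoidHom_apply_apply_coe W ⟨g, hN₁ hg⟩ x
    have hall := coprime_fix σ p hodd (by rw [← hσ]; exact pow_orderOf_eq_one σ) ⊤
      (fun _ _ => Subgroup.mem_top _)
      (fun x _ y _ => Subtype.ext (hWc x x.2 y y.2))
      (fun x _ => by
        obtain ⟨k, hk⟩ := hW2 x x.2
        exact ⟨k, Subtype.ext (by rw [Subgroup.coe_pow]; exact hk)⟩)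
      (fun t _ htt => by
        apply Subtype.ext
        rw [hact]
        exact hfix g hg t t.2 (congrArg Subtype.val htt))
    have : σ = 1 := by
      apply MulEquiv.ext
      intro x
      exact hall x (Subgroup.mem_top _)
    rw [this, orderOf_one] at hσ
    exact hp.one_lt.ne hσ

variable (S : Sylow 2 G) (d : WDat ↥(S : Subgroup G))
include d

theorem Z'_comm (x y : G) (hx : x ∈ Z' (S : Subgroup G)) (hy : y ∈ Z' (S : Subgroup G)) :
    x * y = y * x := by
  obtain ⟨i, rfl⟩ := (mem_Z' d x).mp hx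
  obtain ⟨j, rfl⟩ := (mem_Z' d y).mp hy
  exact A_comm d _ _ _ _

theorem Z'_invol (t : G) (ht : t ∈ Z' (S : Subgroup G)) (htt : t * t = 1) : t = 1 ∨ t = c d := by
  obtain ⟨i, rfl⟩ := (mem_Z' d t).mp ht
  rw [A_mul_A, A_eq_one_iff] at htt
  have h2 : 2 * i = 0 := by linear_combination htt.1
  rcases (d.two_mul_eq_zero_iff _).mp h2 with h3 | h3
  · left; rw [h3, A_zero]
  · right; rw [h3]; rfl

theorem c_mem_Z' : c d ∈ Z' (S : Subgroup G) := (mem_Z' d _).mpr ⟨_, rfl⟩

/-- an element normalizing the centre of `S` fixes its involution -/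
theorem conj_c_of_normalizer (g : G)
    (hg : ∀ x ∈ Z' (S : Subgroup G), g * x * g⁻¹ ∈ Z' (S : Subgroup G)) :
    g * c d * g⁻¹ = c d := by
  have h1 := hg _ (c_mem_Z' S d)
  have h2 : g * c d * g⁻¹ * (g * c d * g⁻¹) = 1 := by
    calc g * c d * g⁻¹ * (g * c d * g⁻¹) = g * (c d * c d) * g⁻¹ := by group
      _ = 1 := by rw [c_sq]; group
  rcases Z'_invol S d _ h1 h2 with h3 | h3
  · exfalso
    apply c_ne_one d
    calc c d = g⁻¹ * (g * c d * g⁻¹) * g := by group
      _ = 1 := by rw [h3]; group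
  · exact h3

/-- the normalizer of the centre of `S` centralizes it -/
theorem normalizer_Z'_le : Subgroup.normalizer (Z' (S : Subgroup G) : Set G) ≤
    Subgroup.centralizer (Z' (S : Subgroup G) : Set G) := by
  set N := Subgroup.normalizer (Z' (S : Subgroup G) : Set G) with hN
  set C := Subgroup.centralizer (Z' (S : Subgroup G) : Set G) with hC
  have hCN : C ≤ N := Subgroup.centralizer_le_normalizer _
  obtain ⟨k, hk⟩ := relIndex_two_pow (Z' (S : Subgroup G)) N le_rfl
    (fun x hx => pow_two_pow_eq_one_of_mem S x (Subgroup.map_subtype_le _ hx))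
    (fun x hx y hy => Z'_comm S d x y hx hy)
    (fun g hg t ht htt => by
      have hgn : ∀ x ∈ Z' (S : Subgroup G), g * x * g⁻¹ ∈ Z' (S : Subgroup G) := fun x hx =>
        (Subgroup.mem_normalizer_iff.mp hg x).mp hx
      rcases Z'_invol S d t ht htt with h | h
      · rw [h]; group
      · rw [h]; exact conj_c_of_normalizer S d g hgn)
  -- the index is odd
  have hSC : (S : Subgroup G) ≤ C := by
    intro s hs
    rw [hC, Subgroup.mem_centralizer_iff]
    intro ζ hζ
    obtain ⟨i, rfl⟩ := (mem_Z' d ζ).mp hζ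
    exact diag_central d i s hs
  have h1 : C.relIndex N ∣ (S : Subgroup G).index :=
    (Subgroup.relIndex_dvd_index_of_le hCN).trans (Subgroup.index_dvd_of_le hSC)
  have h2 : ¬ 2 ∣ (S : Subgroup G).index := S.not_dvd_index
  have hk0 : k = 0 := by
    by_contra hk0
    apply h2
    refine Dvd.dvd.trans ?_ h1
    rw [hk]
    exact dvd_pow_self 2 hk0
  rw [hk0, pow_zero] at hk
  exact Subgroup.relIndex_eq_one.mp hk

end Cfsg.Agent.Helper2.WF
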