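import Mathlib
import Cfsg.Agent.Helper2.WF5

set_option autoImplicit false

/-! The automizer of order six of the central product `V = Q Z(S)`: fusion of `a` and `z`. -/

namespace Cfsg.Agent.Helper2.WF

open Cfsg.Agent.Helper2.Wr Cfsg.Agent.Helper2.QDF

variable {G : Type*} [Group G] [Finite G]

theorem c_mem_U' {S : Subgroup G} (d : WDat ↥S) : c d ∈ U' d := (mem_U' d _).mpr ⟨_, _, rfl⟩
theorem a_mem_U' {S : Subgroup G} (d : WDat ↥S) : a d ∈ U' d := (mem_U' d _).mpr ⟨_, _, rfl⟩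
theorem a'_mem_U' {S : Subgroup G} (d : WDat ↥S) : a' d ∈ U' d := (mem_U' d _).mpr ⟨_, _, rfl⟩

theorem conj_mul' (g x y : G) : g * (x * y) * g⁻¹ = (g * x * g⁻¹) * (g * y * g⁻¹) := by group

/-- an element of odd order normalizing `V = Q Z(S)` but not lying in `V C(V)` fuses `a` with
an involution outside `U'` -/
theorem V_odd (S : Sylow 2 G) (d : WDat ↥(S : Subgroup G)) (Q : Subgroup G)
    (hQS : Q ≤ S) (eQ : Q ≃* QuaternionGroup 2) (g : G) (m : ℕ) (hm : Odd m) (hgm : g ^ m = 1)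
    (hgN : g ∈ Subgroup.normalizer ((Q ⊔ Z' (S : Subgroup G) : Subgroup G) : Set G))
    (hgC : g ∉ Subgroup.centralizer ((Q ⊔ Z' (S : Subgroup G) : Subgroup G) : Set G)) :
    ∃ i, g * a d * g⁻¹ = B d i (-i) := by
  classical
  set V := Q ⊔ Z' (S : Subgroup G) with hV
  have hVS : V ≤ S := V_le Q hQS
  have hQV : Q ≤ V := le_sup_left
  have hZV : Z' (S : Subgroup G) ≤ V := le_sup_right
  have hgV : ∀ x, x ∈ V ↔ g * x * g⁻¹ ∈ V := Subgroup.mem_normalizer_iff.mp hgN
  have hgV' : ∀ x, x ∈ V → g⁻¹ * x * g ∈ V := by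
    intro x hx
    rw [hgV]
    have : g * (g⁻¹ * x * g) * g⁻¹ = x := by group
    rw [this]; exact hx
  set ξ : MulAut G := MulAut.conj g with hξdef
  have hξa : ∀ x, ξ x = g * x * g⁻¹ := fun x => MulAut.conj_apply g x
  have hξ : ξ ^ m = 1 := by
    rw [hξdef, ← map_pow, hgm, map_one]
  have hcop : m.Coprime 2 := Nat.Coprime.symm (Nat.coprime_two_left.mpr hm)
  -- `g` normalizes the centre of `S`
  have hgZ : ∀ ζ ∈ Z' (S : Subgroup G), g * ζ * g⁻¹ ∈ Z' (S : Subgroup G) := by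
    intro ζ hζ
    apply V_central d Q hQS eQ _ (hVS ((hgV ζ).mp (hZV hζ)))
    intro u hu
    have hu' := hgV' u (hQV hu)
    obtain ⟨i, rfl⟩ := (mem_Z' d ζ).mp hζ
    have hc := diag_central d i _ (hVS hu')
    calc u * (g * A d i i * g⁻¹) = g * ((g⁻¹ * u * g) * A d i i) * g⁻¹ := by group
      _ = g * (A d i i * (g⁻¹ * u * g)) * g⁻¹ := by rw [hc]
      _ = g * A d i i * g⁻¹ * u := by group
  have hfixZ : ∀ ζ ∈ Z' (S : Subgroup G), g * ζ * g⁻¹ = ζ := by
    intro ζ hζ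
    have := coprime_fix ξ m hm hξ (Z' (S : Subgroup G))
      (fun x hx => by rw [hξa]; exact hgZ x hx)
      (fun x hx y hy => Z'_comm S d x y hx hy)
      (fun x hx => pow_two_pow_eq_one_of_mem S x (Subgroup.map_subtype_le _ hx))
      (fun t ht htt => by
        rw [hξa]
        rcases Z'_invol S d t ht htt with h | h
        · rw [h]; group
        · rw [h]; exact conj_c_of_normalizer S d g hgZ)
      ζ hζ
    rw [hξa] at this
    exact this
  have hgc : g * c d * g⁻¹ = c d := hfixZ _ (c_mem_Z' S d)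
  have haV : a d ∈ V := a_mem_V d Q hQS eQ
  -- elements of `V ⊓ U'`
  have hVU : ∀ v ∈ V ⊓ U' d, v ∈ Z' (S : Subgroup G) ∨ ∃ s, v = a d * A d s s := by
    intro v hv
    obtain ⟨r, s, rfl⟩ := (mem_U' d v).mp hv.2
    have h2 := V_A d Q hQS eQ r s hv.1
    rcases (d.two_mul_eq_zero_iff _).mp h2 with h3 | h3
    · left
      rw [sub_eq_zero.mp h3]
      exact (mem_Z' d _).mpr ⟨_, rfl⟩
    · right
      refine ⟨s, ?_⟩
      unfold a
      rw [A_mul_A, zero_add, ← h3, sub_add_cancel]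
  by_cases hM : g ∈ Subgroup.normalizer ((V ⊓ U' d : Subgroup G) : Set G)
  · exfalso
    apply hgC
    have hM' : ∀ x, x ∈ V ⊓ U' d ↔ g * x * g⁻¹ ∈ V ⊓ U' d := Subgroup.mem_normalizer_iff.mp hM
    have haM : a d ∈ V ⊓ U' d := ⟨haV, a_mem_U' d⟩
    have hga : g * a d * g⁻¹ = a d := by
      have h1 := (hM' _).mp haM
      have ho : orderOf (g * a d * g⁻¹) = 2 := by rw [orderOf_conj']; exact orderOf_a d
      rcases invol_cases d _ (hVS h1.1) ho with h | h | h | ⟨i, h⟩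
      · exfalso
        apply a_ne_c d
        have : g * a d * g⁻¹ = g * c d * g⁻¹ := by rw [h, hgc]
        exact mul_left_cancel (mul_right_cancel this)
      · exact h
      · exfalso
        apply c_ne_one d
        apply coprime_step' 2 ξ m hcop hξ (a d) (c d) (by rw [hξa, h, a_mul_c])
          (by rw [hξa, hgc]) 1
        rw [pow_one, pow_two]; exact c_sq d
      · exfalso
        rw [h] at h1
        exact B_not_mem_U' d _ _ h1.2
    have hfixM : ∀ v ∈ V ⊓ U' d, g * v * g⁻¹ = v := by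
      intro v hv
      rcases hVU v hv with h | ⟨s, rfl⟩
      · exact hfixZ v h
      · rw [conj_mul', hga, hfixZ _ ((mem_Z' d _).mpr ⟨_, rfl⟩)]
    have hfixV : ∀ v ∈ V, g * v * g⁻¹ = v := by
      intro v hv
      rcases nf d v (hVS hv) with ⟨r, s, rfl⟩ | ⟨r, s, rfl⟩
      · exact hfixM _ ⟨hv, (mem_U' d _).mpr ⟨_, _, rfl⟩⟩
      · have hw := (hgV _).mp hv
        rcases nf d _ (hVS hw) with ⟨r', s', h⟩ | ⟨r', s', h⟩
        · exfalso
          have h1 : g * B d r s * g⁻¹ ∈ V ⊓ U' d := ⟨hw, by rw [h]; exact (mem_U' d _).mpr ⟨_, _, rfl⟩⟩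
          have h2 := (hM' _).mpr h1
          exact B_not_mem_U' d _ _ h2.2
        · set u := (B d r s)⁻¹ * (g * B d r s * g⁻¹) with hu
          have huV : u ∈ V := V.mul_mem (V.inv_mem hv) hw
          have huU : u ∈ U' d := by
            rw [hu, h, B_inv, B_mul_B]; exact (mem_U' d _).mpr ⟨_, _, rfl⟩
          have hufix : ξ u = u := by rw [hξa]; exact hfixM u ⟨huV, huU⟩
          obtain ⟨k', hk'⟩ := pow_two_pow_eq_one_of_mem S u (hVS huV)
          have hu1 : u = 1 := coprime_step' 2 ξ m hcop hξ (B d r s) u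
            (by rw [hξa, hu]; group) hufix k' hk'
          calc g * B d r s * g⁻¹ = B d r s * u := by rw [hu]; group
            _ = B d r s := by rw [hu1, mul_one]
    rw [Subgroup.mem_centralizer_iff]
    intro v hv
    have := hfixV v hv
    calc v * g = (g * v * g⁻¹) * g := by rw [this]
      _ = g * v := by group
  · -- `g` does not normalize `V ⊓ U'`
    have hex : ∃ v ∈ V ⊓ U' d, g * v * g⁻¹ ∉ V ⊓ U' d := by
      by_contra hno
      push Not at hno
      apply hM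
      apply Subgroup.mem_normalizer_fintype
      intro t ht
      rw [SetLike.mem_coe] at ht ⊢
      exact hno t ht
    obtain ⟨v, hv, hgv⟩ := hex
    have hgvV : g * v * g⁻¹ ∈ V := (hgV v).mp hv.1
    have hgvU : g * v * g⁻¹ ∉ U' d := fun h => hgv ⟨hgvV, h⟩
    rcases hVU v hv with h | ⟨s, rfl⟩
    · exfalso
      rw [hfixZ v h] at hgvU
      exact hgvU hv.2
    · rw [conj_mul', hfixZ _ ((mem_Z' d _).mpr ⟨_, rfl⟩)] at hgvU
      have hgaU : g * a d * g⁻¹ ∉ U' d := fun h =>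
        hgvU ((U' d).mul_mem h ((mem_U' d _).mpr ⟨_, _, rfl⟩))
      have hgaV : g * a d * g⁻¹ ∈ V := (hgV _).mp haV
      have ho : orderOf (g * a d * g⁻¹) = 2 := by rw [orderOf_conj']; exact orderOf_a d
      rcases invol_cases d _ (hVS hgaV) ho with h | h | h | ⟨i, h⟩
      · rw [h] at hgaU; exact absurd (c_mem_U' d) hgaU
      · rw [h] at hgaU; exact absurd (a_mem_U' d) hgaU
      · rw [h] at hgaU; exact absurd (a'_mem_U' d) hgaU
      · exact ⟨i, h⟩

/-- automizer of order six of `V`: fusion of `a` and `z` -/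
theorem V_six (S : Sylow 2 G) (d : WDat ↥(S : Subgroup G)) (Q : Subgroup G)
    (hQS : Q ≤ S) (eQ : Q ≃* QuaternionGroup 2)
    (h₂ : ((Q ⊔ Z' (S : Subgroup G)) ⊔
        Subgroup.centralizer ((Q ⊔ Z' (S : Subgroup G) : Subgroup G) : Set G)).relIndex
        (Subgroup.normalizer ((Q ⊔ Z' (S : Subgroup G) : Subgroup G) : Set G)) = 6) :
    ∃ g : G, g * a d * g⁻¹ = z d := by
  classical
  set V := Q ⊔ Z' (S : Subgroup G) with hV
  set N := Subgroup.normalizer (V : Set G) with hN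
  set C := Subgroup.centralizer (V : Set G) with hC
  have hVN : V ≤ N := Subgroup.le_normalizer
  have hCN : C ≤ N := Subgroup.centralizer_le_normalizer _
  haveI hCn : (C.subgroupOf N).Normal := by
    rw [hC, hN, ← Subgroup.normalizerMonoidHom_ker]
    exact MonoidHom.normal_ker _
  haveI hVn : (V.subgroupOf N).Normal := Subgroup.normal_in_normalizer
  haveI hHn : ((V ⊔ C).subgroupOf N).Normal := by
    rw [Subgroup.subgroupOf_sup hVN hCN]
    infer_instance
  have hcard : Nat.card (N ⧸ (V ⊔ C).subgroupOf N) = 6 := h₂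
  haveI : Fact (Nat.Prime 3) := ⟨Nat.prime_three⟩
  obtain ⟨gbar, hgbar⟩ := exists_prime_orderOf_dvd_card' 3
    (show 3 ∣ Nat.card (N ⧸ (V ⊔ C).subgroupOf N) by rw [hcard]; norm_num)
  obtain ⟨⟨g₀, hg₀N⟩, rfl⟩ := QuotientGroup.mk_surjective gbar
  have ho : orderOf g₀ ≠ 0 := (orderOf_pos g₀).ne'
  obtain ⟨k, m, hm, hkm⟩ := Nat.exists_eq_two_pow_mul_odd ho
  set g := g₀ ^ (2 ^ k) with hg
  have hgN : g ∈ N := N.pow_mem hg₀N _
  have hgm : g ^ m = 1 := by rw [hg, ← pow_mul, ← hkm, pow_orderOf_eq_one]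
  have hgH : g ∉ V ⊔ C := by
    intro h
    have h1 : (QuotientGroup.mk ⟨g₀, hg₀N⟩ : N ⧸ (V ⊔ C).subgroupOf N) ^ (2 ^ k) = 1 := by
      rw [← QuotientGroup.mk_pow, QuotientGroup.eq_one_iff, Subgroup.mem_subgroupOf,
        Subgroup.coe_pow]
      exact h
    have h2 := orderOf_dvd_of_pow_eq_one h1
    rw [hgbar] at h2
    have := Nat.Prime.dvd_of_dvd_pow Nat.prime_three h2
    omega
  have hgC : g ∉ C := fun h => hgH (le_sup_right (a := V) h)
  obtain ⟨i, hi⟩ := V_odd S d Q hQS eQ g m hm hgm hgN hgC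
  refine ⟨(A d i 0)⁻¹ * g, ?_⟩
  have h1 := conj_z d i
  calc (A d i 0)⁻¹ * g * a d * ((A d i 0)⁻¹ * g)⁻¹ = (A d i 0)⁻¹ * (g * a d * g⁻¹) * A d i 0 := by
        group
    _ = (A d i 0)⁻¹ * (A d i 0 * z d * (A d i 0)⁻¹) * A d i 0 := by rw [hi, h1]
    _ = z d := by group

end Cfsg.Agent.Helper2.WF
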