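import Mathlib
import Cfsg.Agent.Helper2.WF6
import Cfsg.Agent.Helper2.ClassCount

set_option autoImplicit false

/-! Classes of involutions for a wreathed Sylow `2`-subgroup. -/

namespace Cfsg.Agent.Helper2.WF

open Cfsg.Agent.Helper2.Wr Cfsg.Agent.Helper2.QDF

variable {G : Type*} [Group G] [Finite G]

/-- every involution is conjugate to `c`, `a` or `z` -/
theorem invol_conj (S : Sylow 2 G) (d : WDat ↥(S : Subgroup G)) (t : G) (ht : orderOf t = 2) :
    IsConj t (c d) ∨ IsConj t (a d) ∨ IsConj t (z d) := by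
  haveI : Fact (Nat.Prime 2) := ⟨Nat.prime_two⟩
  obtain ⟨g, hg⟩ := exists_conj_mem_sylow S t 1 (by rw [ht, pow_one])
  have ho : orderOf (g * t * g⁻¹) = 2 := by rw [orderOf_conj']; exact ht
  rcases invol_cases d _ hg ho with h | h | h | ⟨i, h⟩
  · left; exact isConj_iff.mpr ⟨g, h⟩
  · right; left; exact isConj_iff.mpr ⟨g, h⟩
  · right; left
    refine isConj_iff.mpr ⟨(z d)⁻¹ * g, ?_⟩
    have h1 := z_conj_a d
    calc (z d)⁻¹ * g * t * ((z d)⁻¹ * g)⁻¹ = (z d)⁻¹ * (g * t * g⁻¹) * z d := by group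
      _ = (z d)⁻¹ * (z d * a d * (z d)⁻¹) * z d := by rw [h, h1]
      _ = a d := by group
  · right; right
    refine isConj_iff.mpr ⟨(A d i 0)⁻¹ * g, ?_⟩
    have h1 := conj_z d i
    calc (A d i 0)⁻¹ * g * t * ((A d i 0)⁻¹ * g)⁻¹ = (A d i 0)⁻¹ * (g * t * g⁻¹) * A d i 0 := by
          group
      _ = (A d i 0)⁻¹ * (A d i 0 * z d * (A d i 0)⁻¹) * A d i 0 := by rw [h, h1]
      _ = z d := by group

/-- `S` is generated by `U'` and `z` -/
theorem S_le_of_U'_le_of_z_mem {S : Subgroup G} (d : WDat ↥S) (H : Subgroup G) (hU : U' d ≤ H)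
    (hz : z d ∈ H) : S ≤ H := by
  intro s hs
  rcases nf d s hs with ⟨i, j, rfl⟩ | ⟨i, j, rfl⟩
  · exact hU ((mem_U' d _).mpr ⟨_, _, rfl⟩)
  · have : B d i j = A d i j * z d := by
      unfold z; rw [A_mul_B, add_zero, add_zero]
    rw [this]
    exact H.mul_mem (hU ((mem_U' d _).mpr ⟨_, _, rfl⟩)) hz

/-- both automizers of order six: one class of involutions and no subgroup of index two -/
theorem six_six (S : Sylow 2 G) (d : WDat ↥(S : Subgroup G)) (Q : Subgroup G)
    (hQS : Q ≤ S) (eQ : Q ≃* QuaternionGroup 2)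
    (h₁ : (Subgroup.centralizer (U' d : Set G)).relIndex (Subgroup.normalizer (U' d : Set G)) = 6)
    (h₂ : ((Q ⊔ Z' (S : Subgroup G)) ⊔
        Subgroup.centralizer ((Q ⊔ Z' (S : Subgroup G) : Subgroup G) : Set G)).relIndex
        (Subgroup.normalizer ((Q ⊔ Z' (S : Subgroup G) : Subgroup G) : Set G)) = 6) :
    (∀ H : Subgroup G, H.index ≠ 2) ∧
      Nat.card {C : ConjClasses G // ∃ t : G, orderOf t = 2 ∧ ConjClasses.mk t = C} = 1 := by
  obtain ⟨g₁, hg₁⟩ := c_conj_a S d h₁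
  obtain ⟨g₂, hg₂⟩ := V_six S d Q hQS eQ h₂
  constructor
  · intro H hH
    haveI : H.Normal := Subgroup.normal_of_index_eq_two hH
    have hU := U'_le_of_index_two S d h₁ H hH
    have hz : z d ∈ H := by
      rw [← hg₂]
      exact ‹H.Normal›.conj_mem _ (hU (a_mem_U' d)) g₂
    have hSH := S_le_of_U'_le_of_z_mem d H hU hz
    have h1 := Subgroup.index_dvd_of_le hSH
    rw [hH] at h1
    exact S.not_dvd_index h1
  · apply card_classes_eq_one (fun t => orderOf t = 2) (z d) (orderOf_z d)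
    intro t ht
    have hca : IsConj (c d) (a d) := isConj_iff.mpr ⟨g₁, hg₁⟩
    have haz : IsConj (a d) (z d) := isConj_iff.mpr ⟨g₂, hg₂⟩
    rcases invol_conj S d t ht with h | h | h
    · exact (h.trans hca).trans haz
    · exact h.trans haz
    · exact h

end Cfsg.Agent.Helper2.WF
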