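import Mathlib
import Cfsg.Agent.Helper2.WF7
import Cfsg.Agent.Helper1.KleinSylow

set_option autoImplicit false

/-! The automizer of the homocyclic maximal subgroup of a wreathed Sylow `2`-subgroup has order
two or six. -/

namespace Cfsg.Agent.Helper2.WF

open Cfsg.Agent.Helper2.Wr Cfsg.Agent.Helper2.QDF

theorem two_six_arith (r k e : ℕ) (hr : r = 2 ^ k * e) (he : e ∣ 6) (h2 : 2 ∣ r) (h4 : ¬ 4 ∣ r) :
    r = 2 ∨ r = 6 := by
  have hle : e ≤ 6 := Nat.le_of_dvd (by norm_num) he
  have hk : k ≤ 1 := by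
    by_contra hk
    push Not at hk
    apply h4
    rw [hr]
    obtain ⟨j, rfl⟩ : ∃ j, k = 2 + j := ⟨k - 2, by omega⟩
    rw [pow_add]
    exact ⟨2 ^ j * e, by ring⟩
  interval_cases k <;> interval_cases e <;> simp_all <;> omega

variable {G : Type*} [Group G] [Finite G]

/-- if `H` is normal in `L` and `K ≤ L` then `|K : H ∩ K|` divides `|L : H ∩ L|` -/
theorem relIndex_dvd_relIndex_of_normal (H K L : Subgroup G) (hKL : K ≤ L)
    [hn : (H.subgroupOf L).Normal] : H.relIndex K ∣ H.relIndex L := by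
  have h1 := Subgroup.relIndex_dvd_index_of_normal (H.subgroupOf L) (K.subgroupOf L)
  rw [Subgroup.relIndex_subgroupOf hKL] at h1
  exact h1

theorem card_eq_relIndex_mul_card (C N : Subgroup G) (hCN : C ≤ N) :
    Nat.card N = C.relIndex N * Nat.card C := by
  have h1 := Subgroup.relIndex_mul_index hCN
  have h2 := C.card_mul_index
  have h3 := N.card_mul_index
  have hN : N.index ≠ 0 := Subgroup.index_ne_zero_of_finite
  have : Nat.card N * N.index = C.relIndex N * Nat.card C * N.index := by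
    rw [h3, ← h2, ← h1]; ring
  exact Nat.eq_of_mul_eq_mul_right (Nat.pos_of_ne_zero hN) this

/-- the `2`-part of `|N : C|` is at most `2` when `C` contains a subgroup of index two of a Sylow
`2`-subgroup -/
theorem not_four_dvd_relIndex (S : Sylow 2 G) (m : ℕ) (hS : Nat.card S = 2 ^ (m + 1))
    (W C N : Subgroup G) (hWC : W ≤ C) (hCN : C ≤ N) (hW : Nat.card W = 2 ^ m) :
    ¬ 4 ∣ C.relIndex N := by
  intro h4
  have h1 := card_eq_relIndex_mul_card C N hCN
  have h2 : 2 ^ m ∣ Nat.card C := by rw [← hW]; exact Subgroup.card_dvd_of_le hWC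
  have h3 : 4 * 2 ^ m ∣ Nat.card N := by rw [h1]; exact Nat.mul_dvd_mul h4 h2
  have h4' : Nat.card N ∣ Nat.card G := Subgroup.card_subgroup_dvd_card N
  have h5 := (S : Subgroup G).card_mul_index
  have hS' : Nat.card (S : Subgroup G) = 2 ^ (m + 1) := hS
  rw [hS'] at h5
  have h6 : 2 ^ (m + 1) * 2 ∣ 2 ^ (m + 1) * (S : Subgroup G).index := by
    rw [h5]
    refine Dvd.dvd.trans ?_ (h3.trans h4')
    exact ⟨1, by ring⟩
  have h7 := Nat.dvd_of_mul_dvd_mul_left (by positivity) h6
  exact S.not_dvd_index h7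

variable {S : Subgroup G} (d : WDat ↥S)

/-- the four-group of involutions of `U'`, in `G` -/
def T' : Subgroup G := d.T.map S.subtype

theorem mem_T' (t : G) : t ∈ T' d ↔ t = 1 ∨ t = c d ∨ t = a d ∨ t = a' d := by
  constructor
  · rintro ⟨s, hs, rfl⟩
    rcases (d.mem_T_iff s).mp hs with h | h | h | h
    · left; rw [h]; rfl
    · right; left; rw [h]; rfl
    · right; right; left; rw [h]; rfl
    · right; right; right; rw [h]; rfl
  · intro h
    rcases h with h | h | h | h
    · rw [h]; exact Subgroup.one_mem _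
    · exact ⟨d.A d.h d.h, (d.mem_T_iff _).mpr (Or.inr (Or.inl rfl)), h.symm⟩
    · exact ⟨d.A d.h 0, (d.mem_T_iff _).mpr (Or.inr (Or.inr (Or.inl rfl))), h.symm⟩
    · exact ⟨d.A 0 d.h, (d.mem_T_iff _).mpr (Or.inr (Or.inr (Or.inr rfl))), h.symm⟩

theorem card_T' : Nat.card (T' d) = 4 := by
  unfold T'
  rw [Subgroup.card_map_of_injective S.subtype_injective]
  exact d.T_klein.card_four

theorem mem_T'_of_sq (t : G) (ht : t ∈ U' d) (htt : t * t = 1) : t ∈ T' d := by
  obtain ⟨i, j, rfl⟩ := (mem_U' d t).mp ht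
  rw [A_mul_A, A_eq_one_iff] at htt
  have h1 : 2 * i = 0 := by linear_combination htt.1
  have h2 : 2 * j = 0 := by linear_combination htt.2
  rw [mem_T']
  rcases (d.two_mul_eq_zero_iff _).mp h1 with h3 | h3 <;>
    rcases (d.two_mul_eq_zero_iff _).mp h2 with h4 | h4
  · left; rw [h3, h4, A_zero]
  · right; right; right; rw [h3, h4]; rfl
  · right; right; left; rw [h3, h4]; rfl
  · right; left; rw [h3, h4]; rfl

theorem T'_le_U' : T' d ≤ U' d := by
  intro t ht
  rcases (mem_T' d t).mp ht with h | h | h | h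
  · rw [h]; exact Subgroup.one_mem _
  · rw [h]; exact c_mem_U' d
  · rw [h]; exact a_mem_U' d
  · rw [h]; exact a'_mem_U' d

theorem T'_sq (t : G) (ht : t ∈ T' d) : t * t = 1 := by
  rcases (mem_T' d t).mp ht with h | h | h | h
  · rw [h, mul_one]
  · rw [h]; exact c_sq d
  · rw [h]; exact a_sq d
  · rw [h, ← a_mul_c]
    have := c_central d (a d) (a_mem d)
    calc a d * c d * (a d * c d) = a d * (c d * a d) * c d := by group
      _ = a d * (a d * c d) * c d := by rw [this]
      _ = (a d * a d) * (c d * c d) := by group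
      _ = 1 := by rw [a_sq, c_sq, one_mul]

theorem normalizer_U'_le_normalizer_T' :
    Subgroup.normalizer (U' d : Set G) ≤ Subgroup.normalizer (T' d : Set G) := by
  intro g hg
  apply Subgroup.mem_normalizer_fintype
  intro t ht
  rw [SetLike.mem_coe] at ht ⊢
  apply mem_T'_of_sq
  · exact (Subgroup.mem_normalizer_iff.mp hg t).mp (T'_le_U' d ht)
  · calc g * t * g⁻¹ * (g * t * g⁻¹) = g * (t * t) * g⁻¹ := by group
      _ = 1 := by rw [T'_sq d t ht]; group

theorem z_mem_normalizer_U' : z d ∈ Subgroup.normalizer (U' d : Set G) := by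
  apply Subgroup.mem_normalizer_fintype
  intro t ht
  rw [SetLike.mem_coe] at ht ⊢
  obtain ⟨i, j, rfl⟩ := (mem_U' d t).mp ht
  unfold z
  rw [conj_B_A]
  exact (mem_U' d _).mpr ⟨_, _, rfl⟩

theorem z_not_mem_centralizer_U' : z d ∉ Subgroup.centralizer (U' d : Set G) := by
  intro h
  rw [Subgroup.mem_centralizer_iff] at h
  have h1 := h _ (a_mem_U' d)
  have h2 := z_conj_a d
  have h3 : a' d = a d := by
    rw [← h2, ← h1]; group
  unfold a a' at h3
  exact d.h_ne_zero (A_inj d h3).2

end Cfsg.Agent.Helper2.WF
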