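import Mathlib
import Cfsg.Agent.Helper2.WF8

set_option autoImplicit false

/-! The automizer of the homocyclic maximal subgroup of a wreathed Sylow `2`-subgroup has order
two or six. -/

namespace Cfsg.Agent.Helper2.WF

open Cfsg.Agent.Helper2.Wr Cfsg.Agent.Helper2.QDF

variable {G : Type*} [Group G] [Finite G]

theorem U'_le_centralizer {S : Subgroup G} (d : WDat ↥S) :
    U' d ≤ Subgroup.centralizer (U' d : Set G) := by
  intro x hx
  rw [Subgroup.mem_centralizer_iff]
  intro u hu
  exact U'_comm d u x hu hx

theorem relIndex_U_cases (S : Sylow 2 G) (d : WDat ↥(S : Subgroup G)) :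
    (Subgroup.centralizer (U' d : Set G)).relIndex (Subgroup.normalizer (U' d : Set G)) = 2 ∨
      (Subgroup.centralizer (U' d : Set G)).relIndex (Subgroup.normalizer (U' d : Set G)) = 6 := by
  classical
  set N := Subgroup.normalizer (U' d : Set G) with hN
  set C := Subgroup.centralizer (U' d : Set G) with hC
  set NT := Subgroup.normalizer (T' d : Set G) with hNT
  set CT := Subgroup.centralizer (T' d : Set G) with hCT
  have hCN : C ≤ N := Subgroup.centralizer_le_normalizer _
  have hNNT : N ≤ NT := normalizer_U'_le_normalizer_T' d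
  have hCCT : C ≤ CT := Subgroup.centralizer_le (T'_le_U' d)
  set N₁ := CT ⊓ N with hN₁
  have h1 : C ≤ N₁ := le_inf hCCT hCN
  have h2 : N₁ ≤ N := inf_le_right
  have hmul := Subgroup.relIndex_mul_relIndex C N₁ N h1 h2
  obtain ⟨k, hk⟩ := relIndex_two_pow (U' d) N₁ h2
    (fun x hx => pow_two_pow_eq_one_of_mem S x (U'_le d hx))
    (fun x hx y hy => U'_comm d x y hx hy)
    (fun g hg t ht htt => by
      have h3 : g ∈ CT := hg.1
      rw [hCT, Subgroup.mem_centralizer_iff] at h3
      have h4 := h3 t (mem_T'_of_sq d t ht htt)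
      rw [← h4]; group)
  have h6 : N₁.relIndex N ∣ 6 := by
    rw [hN₁, Subgroup.inf_relIndex_right]
    haveI : (CT.subgroupOf NT).Normal := by
      rw [hCT, hNT, ← Subgroup.normalizerMonoidHom_ker]
      exact MonoidHom.normal_ker _
    have h3 := relIndex_dvd_relIndex_of_normal CT N NT hNNT
    have h4 : CT.relIndex NT ∣ 6 := by
      have hker : ((T' d).normalizerMonoidHom).ker.index = CT.relIndex NT := by
        rw [Subgroup.normalizerMonoidHom_ker (T' d)]; rfl
      rw [← hker, Subgroup.index_ker]
      have h5 : Nat.card ((T' d).normalizerMonoidHom).range ∣ Nat.card (MulAut (T' d)) :=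
        Subgroup.card_subgroup_dvd_card _
      have h6 := Cfsg.Agent.Helper1.card_mulAut_dvd_factorial (T' d)
      rw [card_T'] at h6
      exact h5.trans h6
    exact h3.trans h4
  apply two_six_arith _ k (N₁.relIndex N) (by rw [← hmul, hk]) h6
  · haveI hCn : (C.subgroupOf N).Normal := by
      rw [hC, hN, ← Subgroup.normalizerMonoidHom_ker]
      exact MonoidHom.normal_ker _
    set zbar : N ⧸ C.subgroupOf N := QuotientGroup.mk ⟨z d, z_mem_normalizer_U' d⟩ with hzbar
    have hord : orderOf zbar = 2 := by
      rw [orderOf_eq_prime_iff]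
      constructor
      · rw [hzbar, ← QuotientGroup.mk_pow, QuotientGroup.eq_one_iff, Subgroup.mem_subgroupOf,
          Subgroup.coe_pow]
        change z d ^ 2 ∈ C
        rw [pow_two, z_sq]; exact C.one_mem
      · rw [hzbar, Ne, QuotientGroup.eq_one_iff, Subgroup.mem_subgroupOf]
        exact z_not_mem_centralizer_U' d
    have : orderOf zbar ∣ Nat.card (N ⧸ C.subgroupOf N) := orderOf_dvd_natCard _
    rw [hord] at this
    exact this
  · exact not_four_dvd_relIndex S (2 * d.n) d.card (U' d) C N (U'_le_centralizer d) hCN (card_U' d)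

end Cfsg.Agent.Helper2.WF
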