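import Mathlib
import Cfsg.Agent.Helper2.WF9
import Cfsg.Agent.Helper2.QDF8

set_option autoImplicit false

/-! The automizer of the central product `V = Q Z(S)` in a group with wreathed Sylow
`2`-subgroup `S`: `|N(V) : V C(V)|` is two or six. -/

namespace Cfsg.Agent.Helper2.WF

open Cfsg.Agent.Helper2.Wr Cfsg.Agent.Helper2.QDF

variable {G : Type*} [Group G] [Finite G]

/-- the normalizer of `V` normalizes the centre of `S` -/
theorem conj_Z'_of_normalizer_V (S : Sylow 2 G) (d : WDat ↥(S : Subgroup G)) (Q : Subgroup G)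
    (hQS : Q ≤ S) (eQ : Q ≃* QuaternionGroup 2) (g : G)
    (hgN : g ∈ Subgroup.normalizer ((Q ⊔ Z' (S : Subgroup G) : Subgroup G) : Set G)) :
    ∀ ζ ∈ Z' (S : Subgroup G), g * ζ * g⁻¹ ∈ Z' (S : Subgroup G) := by
  set V := Q ⊔ Z' (S : Subgroup G) with hV
  have hVS : V ≤ S := V_le Q hQS
  have hQV : Q ≤ V := le_sup_left
  have hZV : Z' (S : Subgroup G) ≤ V := le_sup_right
  have hgV : ∀ x, x ∈ V ↔ g * x * g⁻¹ ∈ V := Subgroup.mem_normalizer_iff.mp hgN
  have hgV' : ∀ x, x ∈ V → g⁻¹ * x * g ∈ V := by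
    intro x hx
    rw [hgV]
    have : g * (g⁻¹ * x * g) * g⁻¹ = x := by group
    rw [this]; exact hx
  intro ζ hζ
  apply V_central d Q hQS eQ _ (hVS ((hgV ζ).mp (hZV hζ)))
  intro u hu
  have hu' := hgV' u (hQV hu)
  obtain ⟨i, rfl⟩ := (mem_Z' d ζ).mp hζ
  have hc := diag_central d i _ (hVS hu')
  calc u * (g * A d i i * g⁻¹) = g * ((g⁻¹ * u * g) * A d i i) * g⁻¹ := by group
    _ = g * (A d i i * (g⁻¹ * u * g)) * g⁻¹ := by rw [hc]
    _ = g * A d i i * g⁻¹ * u := by group

theorem normalizer_V_le_normalizer_Z' (S : Sylow 2 G) (d : WDat ↥(S : Subgroup G))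
    (Q : Subgroup G) (hQS : Q ≤ S) (eQ : Q ≃* QuaternionGroup 2) :
    Subgroup.normalizer ((Q ⊔ Z' (S : Subgroup G) : Subgroup G) : Set G) ≤
      Subgroup.normalizer (Z' (S : Subgroup G) : Set G) := by
  intro g hg
  apply Subgroup.mem_normalizer_fintype
  intro t ht
  rw [SetLike.mem_coe] at ht ⊢
  exact conj_Z'_of_normalizer_V S d Q hQS eQ g hg t ht

theorem normalizer_V_le_centralizer_Z' (S : Sylow 2 G) (d : WDat ↥(S : Subgroup G))
    (Q : Subgroup G) (hQS : Q ≤ S) (eQ : Q ≃* QuaternionGroup 2) :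
    Subgroup.normalizer ((Q ⊔ Z' (S : Subgroup G) : Subgroup G) : Set G) ≤
      Subgroup.centralizer (Z' (S : Subgroup G) : Set G) :=
  (normalizer_V_le_normalizer_Z' S d Q hQS eQ).trans (normalizer_Z'_le S d)

/-- `Q` is characteristic in `V` -/
theorem normalizer_V_le_normalizer_Q (S : Sylow 2 G) (d : WDat ↥(S : Subgroup G))
    (Q : Subgroup G) (hQS : Q ≤ S) (eQ : Q ≃* QuaternionGroup 2) :
    Subgroup.normalizer ((Q ⊔ Z' (S : Subgroup G) : Subgroup G) : Set G) ≤
      Subgroup.normalizer (Q : Set G) := by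
  intro g hg
  obtain ⟨hcQ, hsq, hsq1, -, -, hcen⟩ := quat_wr d Q hQS eQ
  set V := Q ⊔ Z' (S : Subgroup G) with hV
  have hgV : ∀ x, x ∈ V ↔ g * x * g⁻¹ ∈ V := Subgroup.mem_normalizer_iff.mp hg
  have hgZ := conj_Z'_of_normalizer_V S d Q hQS eQ g hg
  have hgc : g * c d * g⁻¹ = c d := conj_c_of_normalizer S d g hgZ
  apply Subgroup.mem_normalizer_fintype
  intro q₀ hq₀
  rw [SetLike.mem_coe] at hq₀ ⊢
  have hw : g * q₀ * g⁻¹ ∈ V := (hgV q₀).mp (Subgroup.mem_sup_left hq₀)
  obtain ⟨q₁, hq₁, i, hi⟩ := mem_V d Q hQS _ hw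
  rcases hsq q₀ hq₀ with h | h
  · rcases hsq1 q₀ hq₀ h with h1 | h1
    · rw [h1, mul_one, mul_inv_cancel]; exact Q.one_mem
    · rw [h1, hgc]; exact hcQ
  · have hww : (g * q₀ * g⁻¹) * (g * q₀ * g⁻¹) = c d := by
      calc (g * q₀ * g⁻¹) * (g * q₀ * g⁻¹) = g * (q₀ * q₀) * g⁻¹ := by group
        _ = c d := by rw [h, hgc]
    have hcomm : q₁ * A d i i = A d i i * q₁ := (diag_central d i q₁ (hQS hq₁)).symm
    rw [hi] at hww
    have hww' : (q₁ * q₁) * A d (2 * i) (2 * i) = c d := by
      rw [← hww, two_mul, ← A_mul_A]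
      calc q₁ * q₁ * (A d i i * A d i i) = q₁ * (q₁ * A d i i) * A d i i := by group
        _ = q₁ * (A d i i * q₁) * A d i i := by rw [hcomm]
        _ = q₁ * A d i i * (q₁ * A d i i) := by group
    rcases hsq q₁ hq₁ with h1 | h1
    · exfalso
      have hq₁Z : q₁ ∈ Z' (S : Subgroup G) := by
        rcases hsq1 q₁ hq₁ h1 with h2 | h2
        · rw [h2]; exact Subgroup.one_mem _
        · rw [h2]; exact c_mem_Z' S d
      have hwZ : g * q₀ * g⁻¹ ∈ Z' (S : Subgroup G) := by
        rw [hi]; exact Subgroup.mul_mem _ hq₁Z ((mem_Z' d _).mpr ⟨_, rfl⟩)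
      have hq₀Z : q₀ ∈ Z' (S : Subgroup G) := by
        have hgN' := normalizer_V_le_normalizer_Z' S d Q hQS eQ hg
        exact (Subgroup.mem_normalizer_iff.mp hgN' q₀).mpr hwZ
      obtain ⟨j, hj⟩ := (mem_Z' d q₀).mp hq₀Z
      have h3 : q₀ = 1 ∨ q₀ = c d := hcen q₀ hq₀ (fun u hu => by
        rw [hj]; exact (diag_central d j u (hQS hu)).symm)
      rcases h3 with h3 | h3
      · rw [h3, mul_one] at h; exact c_ne_one d h.symm
      · rw [h3, c_sq] at h; exact c_ne_one d h.symm
    · rw [h1] at hww'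
      have h2 : A d (2 * i) (2 * i) = 1 := by
        have : c d * A d (2 * i) (2 * i) = c d * 1 := by rw [hww', mul_one]
        exact mul_left_cancel this
      rw [A_eq_one_iff] at h2
      rcases (d.two_mul_eq_zero_iff _).mp h2.1 with h3 | h3
      · rw [hi, h3, A_zero, mul_one]; exact hq₁
      · rw [hi, h3]; exact Q.mul_mem hq₁ hcQ

/-- for elements centralizing the centre of `S`, centralizing `V` means centralizing `Q` -/
theorem mem_centralizer_V_iff {S : Subgroup G} (d : WDat ↥S) (Q : Subgroup G) (hQS : Q ≤ S)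
    (g : G) (hg : g ∈ Subgroup.centralizer (Z' S : Set G)) :
    g ∈ Subgroup.centralizer ((Q ⊔ Z' S : Subgroup G) : Set G) ↔
      g ∈ Subgroup.centralizer (Q : Set G) := by
  constructor
  · intro h
    exact Subgroup.centralizer_le (show (Q : Set G) ⊆ ((Q ⊔ Z' S : Subgroup G) : Set G) from
      fun x hx => Subgroup.mem_sup_left hx) h
  · intro h
    rw [Subgroup.mem_centralizer_iff] at h hg ⊢
    intro v hv
    obtain ⟨q₀, hq₀, i, rfl⟩ := mem_V d Q hQS v hv
    have h1 := h q₀ hq₀
    have h2 := hg (A d i i) ((mem_Z' d _).mpr ⟨_, rfl⟩)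
    calc q₀ * A d i i * g = q₀ * (A d i i * g) := by group
      _ = q₀ * (g * A d i i) := by rw [h2]
      _ = (q₀ * g) * A d i i := by group
      _ = g * q₀ * A d i i := by rw [h1]
      _ = g * (q₀ * A d i i) := by group

theorem relIndex_V_cases (S : Sylow 2 G) (d : WDat ↥(S : Subgroup G)) (Q : Subgroup G)
    (hQS : Q ≤ S) (eQ : Q ≃* QuaternionGroup 2) :
    ((Q ⊔ Z' (S : Subgroup G)) ⊔
        Subgroup.centralizer ((Q ⊔ Z' (S : Subgroup G) : Subgroup G) : Set G)).relIndex
        (Subgroup.normalizer ((Q ⊔ Z' (S : Subgroup G) : Subgroup G) : Set G)) = 2 ∨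
    ((Q ⊔ Z' (S : Subgroup G)) ⊔
        Subgroup.centralizer ((Q ⊔ Z' (S : Subgroup G) : Subgroup G) : Set G)).relIndex
        (Subgroup.normalizer ((Q ⊔ Z' (S : Subgroup G) : Subgroup G) : Set G)) = 6 := by
  classical
  obtain ⟨hcQ, hsq, hsq1, ⟨r, s, hrs, hw⟩, -, hcen⟩ := quat_wr d Q hQS eQ
  have hNQ := normalizer_V_le_normalizer_Q S d Q hQS eQ
  have hNZ := normalizer_V_le_centralizer_Z' S d Q hQS eQ
  set V := Q ⊔ Z' (S : Subgroup G) with hV
  set N := Subgroup.normalizer (V : Set G) with hN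
  set C := Subgroup.centralizer (V : Set G) with hC
  have hVS : V ≤ S := V_le Q hQS
  have hQV : Q ≤ V := le_sup_left
  have hVN : V ≤ N := Subgroup.le_normalizer
  have hQN : Q ≤ N := hQV.trans hVN
  have hCN : C ≤ N := Subgroup.centralizer_le_normalizer _
  have hle1 : C ≤ V ⊔ C := le_sup_right
  have hle2 : V ⊔ C ≤ N := sup_le hVN hCN
  have hmul := Subgroup.relIndex_mul_relIndex _ _ _ hle1 hle2
  haveI hCn : (C.subgroupOf N).Normal := by
    rw [hC, hN, ← Subgroup.normalizerMonoidHom_ker]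
    exact MonoidHom.normal_ker _
  have hZC : Z' (S : Subgroup G) ≤ C := by
    intro ζ hζ
    rw [hC, Subgroup.mem_centralizer_iff]
    intro v hv
    obtain ⟨i, rfl⟩ := (mem_Z' d ζ).mp hζ
    exact (diag_central d i v (hVS hv)).symm
  have hsup : V ⊔ C = Q ⊔ C := by
    rw [hV, sup_assoc, sup_eq_right.mpr hZC]
  have hle2' : Q ⊔ C ≤ N := hsup ▸ hle2
  -- the index of `C` in `V C` is four
  have h4 : C.relIndex (V ⊔ C) = 4 := by
    rw [hsup, ← Subgroup.relIndex_subgroupOf hle2', Subgroup.subgroupOf_sup hQN hCN,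
      Subgroup.relIndex_sup_right, Subgroup.relIndex_subgroupOf hQN]
    have h5 : C.subgroupOf Q = Subgroup.center Q := by
      ext x
      rw [Subgroup.mem_subgroupOf, hC, Subgroup.mem_centralizer_iff, Subgroup.mem_center_iff]
      constructor
      · intro h g
        exact Subtype.ext (h g (hQV g.2))
      · intro h v hv
        obtain ⟨q₀, hq₀, i, rfl⟩ := mem_V d Q hQS v hv
        have h1 : q₀ * (x : G) = x * q₀ := congrArg Subtype.val (h ⟨q₀, hq₀⟩)
        have h2 := diag_central d i x (hQS x.2)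
        calc q₀ * A d i i * x = q₀ * (A d i i * x) := by group
          _ = q₀ * (x * A d i i) := by rw [h2]
          _ = (q₀ * x) * A d i i := by group
          _ = x * q₀ * A d i i := by rw [h1]
          _ = x * (q₀ * A d i i) := by group
    rw [Subgroup.relIndex, h5]
    have hcard : Nat.card Q = 8 := by
      rw [Nat.card_congr eQ.toEquiv, Nat.card_eq_fintype_card, QuaternionGroup.card]
    have hc2 : Nat.card (Subgroup.center Q) = 2 := by
      have hsub : Subgroup.center Q = Subgroup.zpowers (⟨c d, hcQ⟩ : Q) := by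
        apply le_antisymm
        · intro x hx
          rw [Subgroup.mem_center_iff] at hx
          rcases hcen x x.2 (fun g hg => congrArg Subtype.val (hx ⟨g, hg⟩)) with h | h
          · have : x = 1 := Subtype.ext h
            rw [this]; exact Subgroup.one_mem _
          · have : x = ⟨c d, hcQ⟩ := Subtype.ext h
            rw [this]; exact Subgroup.mem_zpowers _
        · rw [Subgroup.zpowers_le, Subgroup.mem_center_iff]
          intro g
          apply Subtype.ext
          rw [Subgroup.coe_mul, Subgroup.coe_mul]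
          exact (c_central d _ (hQS g.2)).symm
      rw [hsub, Nat.card_zpowers, Subgroup.orderOf_mk]
      exact orderOf_c d
    have h6 := (Subgroup.center Q).card_mul_index
    rw [hc2, hcard] at h6
    omega
  -- divisibility by the order of the automorphism group of `Q`
  have h24 : C.relIndex N ∣ 24 := by
    set ψ : N →* MulAut Q := (Q.normalizerMonoidHom).comp (Subgroup.inclusion hNQ) with hψ
    have hker : ψ.ker = C.subgroupOf N := by
      ext x
      rw [MonoidHom.mem_ker, hψ, MonoidHom.comp_apply, ← MonoidHom.mem_ker,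
        Subgroup.normalizerMonoidHom_ker Q, Subgroup.mem_subgroupOf, Subgroup.mem_subgroupOf]
      change (x : G) ∈ Subgroup.centralizer (Q : Set G) ↔ (x : G) ∈ C
      exact (mem_centralizer_V_iff d Q hQS (x : G) (hNZ x.2)).symm
    have : C.relIndex N = Nat.card ψ.range := by
      rw [← Subgroup.index_ker, hker]; rfl
    rw [this, ← card_mulAut_quat Q eQ]
    exact Subgroup.card_subgroup_dvd_card _
  rw [← hmul, h4] at h24
  have h6 : (V ⊔ C).relIndex N ∣ 6 := by
    have : (4 : ℕ) * (V ⊔ C).relIndex N ∣ 4 * 6 := h24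
    exact (Nat.mul_dvd_mul_iff_left (by norm_num)).mp this
  apply two_or_six h6
  -- an element of order two in the quotient
  have h2r : 2 * r = d.h := by
    rcases hsq _ hw with h | h
    · exfalso
      rcases hsq1 _ hw h with h1 | h1
      · rw [A_eq_one_iff] at h1
        rw [h1.1, h1.2, sub_zero] at hrs
        exact d.h_ne_zero hrs.symm
      · have := A_inj d h1
        rw [this.1, this.2, sub_self] at hrs
        exact d.h_ne_zero hrs.symm
    · rw [A_mul_A] at h
      have := (A_inj d h).1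
      linear_combination this
  have hs : s = -r := by linear_combination h2r - hrs
  have hx₀N : A d r 0 ∈ N := by
    apply Subgroup.mem_normalizer_fintype
    intro t ht
    rw [SetLike.mem_coe] at ht ⊢
    rcases nf d t (hVS ht) with ⟨i, j, rfl⟩ | ⟨i, j, rfl⟩
    · rw [conj_A_A]; exact ht
    · rw [conj_A_B]
      have : B d (i + r - 0) (j + 0 - r) = A d r s * B d i j := by
        rw [A_mul_B, hs]; congr 1 <;> ring
      rw [this]
      exact V.mul_mem (hQV hw) ht
  have hx₀H : A d r 0 ∉ V ⊔ C := by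
    intro h
    have h1 : (⟨A d r 0, hx₀N⟩ : N) ∈ (V ⊔ C).subgroupOf N := Subgroup.mem_subgroupOf.mpr h
    rw [Subgroup.subgroupOf_sup hVN hCN] at h1
    obtain ⟨v, hv, c', hc', hvc⟩ := Subgroup.mem_sup_of_normal_right.mp h1
    have hvV : (v : G) ∈ V := Subgroup.mem_subgroupOf.mp hv
    have hcC : (c' : G) ∈ C := Subgroup.mem_subgroupOf.mp hc'
    have heq : (v : G) * (c' : G) = A d r 0 := congrArg Subtype.val hvc
    have hc'S : (c' : G) ∈ (S : Subgroup G) := by
      have : (c' : G) = (v : G)⁻¹ * A d r 0 := by rw [← heq]; group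
      rw [this]
      exact Subgroup.mul_mem _ (Subgroup.inv_mem _ (hVS hvV)) (A_mem d _ _)
    have hc'Z : (c' : G) ∈ Z' (S : Subgroup G) :=
      V_central d Q hQS eQ _ hc'S (fun u hu => (Subgroup.mem_centralizer_iff.mp hcC) u (hQV hu))
    have hx₀V : A d r 0 ∈ V := by
      rw [← heq]; exact V.mul_mem hvV (Subgroup.mem_sup_right hc'Z)
    have := V_A d Q hQS eQ r 0 hx₀V
    rw [sub_zero, h2r] at this
    exact d.h_ne_zero this
  haveI hVn : (V.subgroupOf N).Normal := Subgroup.normal_in_normalizer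
  haveI hHn : ((V ⊔ C).subgroupOf N).Normal := by
    rw [Subgroup.subgroupOf_sup hVN hCN]
    infer_instance
  set xbar : N ⧸ (V ⊔ C).subgroupOf N := QuotientGroup.mk ⟨A d r 0, hx₀N⟩ with hxbar
  have hord : orderOf xbar = 2 := by
    rw [orderOf_eq_prime_iff]
    constructor
    · rw [hxbar, ← QuotientGroup.mk_pow, QuotientGroup.eq_one_iff, Subgroup.mem_subgroupOf,
        Subgroup.coe_pow]
      change A d r 0 ^ 2 ∈ V ⊔ C
      rw [pow_two, A_mul_A, ← two_mul, h2r, add_zero]
      exact le_sup_left (a := V) (a_mem_V d Q hQS eQ)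
    · rw [hxbar, Ne, QuotientGroup.eq_one_iff, Subgroup.mem_subgroupOf]
      exact hx₀H
  have : orderOf xbar ∣ Nat.card (N ⧸ (V ⊔ C).subgroupOf N) := orderOf_dvd_natCard _
  rw [hord] at this
  exact this

end Cfsg.Agent.Helper2.WF
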