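import Mathlib
import Cfsg.Agent.Helper2.WF10

set_option autoImplicit false

/-! Automorphisms of odd order of subgroups of a wreathed `2`-group: preliminaries. -/

namespace Cfsg.Agent.Helper2.WF

open Cfsg.Agent.Helper2.Wr Cfsg.Agent.Helper2.QDF

variable {G : Type*} [Group G] {S : Subgroup G} (d : WDat ↥S)

/-- a quarter of the exponent -/
def q : ZMod (2 ^ d.n) := ((2 ^ (d.n - 2) : ℕ) : ZMod (2 ^ d.n))

theorem two_q : 2 * q d = d.h := by
  unfold q WDat.h
  have hn := d.hn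
  have : 2 * 2 ^ (d.n - 2) = 2 ^ (d.n - 1) := by
    rw [← pow_succ']; congr 1; omega
  rw [← this]; push_cast; ring

theorem even_or_odd (i : ZMod (2 ^ d.n)) : (∃ j, i = 2 * j) ∨ ∃ j, i = 2 * j + 1 := by
  have h1 : ((i.val : ℕ) : ZMod (2 ^ d.n)) = i := ZMod.natCast_zmod_val i
  rcases Nat.even_or_odd' i.val with ⟨k, hk | hk⟩
  · left; refine ⟨(k : ZMod _), ?_⟩
    rw [← h1, hk]; push_cast; ring
  · right; refine ⟨(k : ZMod _), ?_⟩
    rw [← h1, hk]; push_cast; ring

theorem odd_ne_zero (j : ZMod (2 ^ d.n)) : 2 * j + 1 ≠ 0 := by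
  intro h
  have h1 : d.h * (2 * j + 1) = 0 := by rw [h, mul_zero]
  have h2 : d.h * (2 * j + 1) = (2 * d.h) * j + d.h := by ring
  rw [h2, d.two_h, zero_mul, zero_add] at h1
  exact d.h_ne_zero h1

theorem Z'_invol' (t : G) (ht : t ∈ Z' S) (htt : t * t = 1) : t = 1 ∨ t = c d := by
  obtain ⟨i, rfl⟩ := (mem_Z' d t).mp ht
  rw [A_mul_A, A_eq_one_iff] at htt
  have h2 : 2 * i = 0 := by linear_combination htt.1
  rcases (d.two_mul_eq_zero_iff _).mp h2 with h3 | h3
  · left; rw [h3, A_zero]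
  · right; rw [h3]; rfl

theorem c_mem_Z'' : c d ∈ Z' S := (mem_Z' d _).mpr ⟨_, rfl⟩

theorem pow_two_pow_eq_one_of_mem' (d : WDat ↥S) (x : G) (hx : x ∈ S) : ∃ k : ℕ, x ^ (2 ^ k) = 1 := by
  haveI : Finite ↥S := Nat.finite_of_card_ne_zero (by rw [d.card]; positivity)
  refine ⟨2 * d.n + 1, ?_⟩
  have h1 : (⟨x, hx⟩ : ↥S) ^ Nat.card ↥S = 1 := pow_card_eq_one'
  rw [d.card] at h1
  have := congrArg Subtype.val h1
  rw [Subgroup.coe_pow] at this
  exact this

theorem mem_Z'_of_comm (v : G) (hv : v ∈ S) (r s k l : ZMod (2 ^ d.n)) (hrs : r ≠ s)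
    (h1 : A d r s * v = v * A d r s) (h2 : B d k l * v = v * B d k l) : v ∈ Z' S := by
  rcases nf d v hv with ⟨r', s', rfl⟩ | ⟨k', l', rfl⟩
  · have := comm_A_B d r' s' k l h2.symm
    rw [this]; exact (mem_Z' d _).mpr ⟨_, rfl⟩
  · exact absurd (comm_A_B d r s k' l' h1) hrs

theorem Z'_le_U' : Z' S ≤ U' d := by
  intro x hx
  obtain ⟨i, rfl⟩ := (mem_Z' d x).mp hx
  exact (mem_U' d _).mpr ⟨_, _, rfl⟩

/-- a subgroup containing the centre and a non-central element of `U'` contains `a` -/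
theorem a_mem_of_A_mem (X : Subgroup G) (hZ : Z' S ≤ X) (i j : ZMod (2 ^ d.n)) (hij : i ≠ j)
    (h : A d i j ∈ X) : a d ∈ X := by
  set t := i - j with ht
  have ht0 : t ≠ 0 := sub_ne_zero.mpr hij
  have hx₀ : A d t 0 ∈ X := by
    have : A d t 0 = A d i j * A d (-j) (-j) := by
      rw [A_mul_A]; congr 1 <;> ring
    rw [this]; exact X.mul_mem h (hZ ((mem_Z' d _).mpr ⟨_, rfl⟩))
  have hpow : (A d t 0) ^ (2 ^ d.n) = 1 := by
    rw [A_pow, A_eq_one_iff]
    constructor
    · rw [ZMod.natCast_self, zero_mul]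
    · rw [mul_zero]
  obtain ⟨e, -, hoe⟩ := (Nat.dvd_prime_pow Nat.prime_two).mp (orderOf_dvd_of_pow_eq_one hpow)
  have he1 : e ≠ 0 := by
    intro h0
    rw [h0, pow_zero, orderOf_eq_one_iff, A_eq_one_iff] at hoe
    exact ht0 hoe.1
  obtain ⟨e', rfl⟩ : ∃ e', e = e' + 1 := ⟨e - 1, by omega⟩
  have hy2 : (A d t 0) ^ (2 ^ e') * (A d t 0) ^ (2 ^ e') = 1 := by
    rw [← pow_add, ← two_mul, ← pow_succ', ← hoe, pow_orderOf_eq_one]
  have hy1 : (A d t 0) ^ (2 ^ e') ≠ 1 := by
    apply pow_ne_one_of_lt_orderOf (by positivity)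
    rw [hoe]; exact Nat.pow_lt_pow_right (by norm_num) (by omega)
  have hmem : (A d t 0) ^ (2 ^ e') ∈ X := X.pow_mem hx₀ _
  rw [A_pow, mul_zero] at hy2 hy1 hmem
  rw [A_mul_A, A_eq_one_iff] at hy2
  rw [Ne, A_eq_one_iff] at hy1
  have h2 : 2 * (((2 ^ e' : ℕ) : ZMod (2 ^ d.n)) * t) = 0 := by linear_combination hy2.1
  rcases (d.two_mul_eq_zero_iff _).mp h2 with h3 | h3
  · exact absurd ⟨h3, rfl⟩ hy1
  · rw [h3] at hmem; exact hmem

section aut

variable {X : Subgroup G} (σ : MulAut X) (m : ℕ) (hm : Odd m) (hσ : σ ^ m = 1)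

include hm hσ in
theorem aut_inv_of_invariant (P : X → Prop) (hP : ∀ x, P x → P (σ x)) (x : X) (h : P (σ x)) :
    P x := by
  have hk : ∀ k : ℕ, ∀ y, P y → P ((σ ^ k) y) := by
    intro k
    induction k with
    | zero => intro y hy; simpa using hy
    | succ k ih => intro y hy; rw [pow_succ', MulAut.mul_apply]; exact hP _ (ih y hy)
  obtain ⟨k, rfl⟩ : ∃ k, m = k + 1 := ⟨m - 1, by have := hm.pos; omega⟩
  have h1 := hk k _ h
  have e : (σ ^ k) (σ x) = (σ ^ (k + 1)) x := by rw [pow_succ, MulAut.mul_apply]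
  rw [e, hσ, MulAut.one_apply] at h1
  exact h1

theorem isPGroup_two_mulAut_of_odd_trivial' {R : Type*} [Group R] [Finite R]
    (h : ∀ (β : MulAut R) (t : ℕ), Odd t → β ^ t = 1 → β = 1) : IsPGroup 2 (MulAut R) := by
  intro α
  have hpos : 0 < orderOf α := orderOf_pos α
  obtain ⟨k, t, ht, hat⟩ := Nat.exists_eq_two_pow_mul_odd hpos.ne'
  refine ⟨k, ?_⟩
  apply h (α ^ 2 ^ k) t ht
  rw [← pow_mul, ← hat, pow_orderOf_eq_one]

variable (hXS : X ≤ S)

include hm hσ hXS in
/-- an automorphism of odd order fixes the centre of `S` pointwise, when `X` contains it together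
with a non-central element of `U'` and an element outside `U'` -/
theorem aut_fix_Z' (hZ : Z' S ≤ X) (r s k l : ZMod (2 ^ d.n)) (hrs : r ≠ s) (hA : A d r s ∈ X)
    (hB : B d k l ∈ X) : ∀ x : X, (x : G) ∈ Z' S → σ x = x := by
  have hinv : ∀ x : X, (x : G) ∈ Z' S → ((σ x : X) : G) ∈ Z' S := by
    intro x hx
    have hcen : ∀ y : X, σ x * y = y * σ x := by
      intro y
      obtain ⟨i, hi⟩ := (mem_Z' d _).mp hx
      have h1 : x * σ.symm y = σ.symm y * x := by
        apply Subtype.ext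
        rw [Subgroup.coe_mul, Subgroup.coe_mul, hi]
        exact diag_central d i _ (hXS (σ.symm y).2)
      have h2 := congrArg σ h1
      rw [map_mul, map_mul, MulEquiv.apply_symm_apply] at h2
      exact h2
    apply mem_Z'_of_comm d _ (hXS (σ x).2) r s k l hrs
    · have := congrArg Subtype.val (hcen ⟨A d r s, hA⟩)
      rw [Subgroup.coe_mul, Subgroup.coe_mul] at this
      exact this.symm
    · have := congrArg Subtype.val (hcen ⟨B d k l, hB⟩)
      rw [Subgroup.coe_mul, Subgroup.coe_mul] at this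
      exact this.symm
  have hall := coprime_fix σ m hm hσ ((Z' S).subgroupOf X)
    (fun x hx => Subgroup.mem_subgroupOf.mpr (hinv x (Subgroup.mem_subgroupOf.mp hx)))
    (fun x hx y hy => by
      apply Subtype.ext
      rw [Subgroup.coe_mul, Subgroup.coe_mul]
      obtain ⟨i, hi⟩ := (mem_Z' d _).mp (Subgroup.mem_subgroupOf.mp hx)
      rw [hi]
      exact diag_central d i _ (hXS y.2))
    (fun x _ => by
      obtain ⟨k', hk'⟩ := pow_two_pow_eq_one_of_mem' d (x : G) (hXS x.2)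
      exact ⟨k', Subtype.ext (by rw [Subgroup.coe_pow]; exact hk')⟩)
    (fun t ht htt => by
      have ht' := Subgroup.mem_subgroupOf.mp ht
      have htt' : (t : G) * (t : G) = 1 := by
        have := congrArg Subtype.val htt
        rw [Subgroup.coe_mul] at this
        exact this
      rcases Z'_invol' d _ ht' htt' with h | h
      · have : t = 1 := Subtype.ext h
        rw [this, map_one]
      · have h1 := hinv t ht'
        have h2 : ((σ t : X) : G) * ((σ t : X) : G) = 1 := by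
          rw [← Subgroup.coe_mul, ← map_mul, htt, map_one]; rfl
        rcases Z'_invol' d _ h1 h2 with h3 | h3
        · exfalso
          have h4 : σ t = 1 := Subtype.ext h3
          rw [← map_one σ] at h4
          have h5 := σ.injective h4
          apply c_ne_one d
          rw [← h, h5]; rfl
        · apply Subtype.ext; rw [h3, h])
  intro x hx
  exact hall x (Subgroup.mem_subgroupOf.mpr hx)

end aut

end Cfsg.Agent.Helper2.WF
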