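import Mathlib
import Cfsg.Agent.Helper2.WF11

set_option autoImplicit false

/-! Automorphisms of odd order of self-centralizing subgroups of a wreathed `2`-group. -/

namespace Cfsg.Agent.Helper2.WF

open Cfsg.Agent.Helper2.Wr Cfsg.Agent.Helper2.QDF

variable {G : Type*} [Group G] [Finite G] {S : Subgroup G} (d : WDat ↥S)

section aut

variable {X : Subgroup G} (σ : MulAut X) (m : ℕ) (hm : Odd m) (hσ : σ ^ m = 1) (hXS : X ≤ S)

include hm hσ hXS in
theorem aut_fix_a (hcX : c d ∈ X) (hc : σ ⟨c d, hcX⟩ = ⟨c d, hcX⟩) (haX : a d ∈ X)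
    (hU : ((σ ⟨a d, haX⟩ : X) : G) ∈ U' d) : σ ⟨a d, haX⟩ = ⟨a d, haX⟩ := by
  have hcop : m.Coprime 2 := Nat.Coprime.symm (Nat.coprime_two_left.mpr hm)
  have ho : orderOf ((σ ⟨a d, haX⟩ : X) : G) = 2 := by
    rw [Subgroup.orderOf_coe, MulEquiv.orderOf_eq, Subgroup.orderOf_mk]; exact orderOf_a d
  rcases invol_cases d _ (hXS (σ ⟨a d, haX⟩).2) ho with h | h | h | ⟨i, h⟩
  · exfalso
    have h1 : σ ⟨a d, haX⟩ = σ ⟨c d, hcX⟩ := by rw [hc]; exact Subtype.ext h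
    have h2 := σ.injective h1
    have h3 : ((⟨a d, haX⟩ : X) : G) = ((⟨c d, hcX⟩ : X) : G) := congrArg _ h2
    exact a_ne_c d h3
  · exact Subtype.ext h
  · exfalso
    apply c_ne_one d
    have h1 : σ ⟨a d, haX⟩ = ⟨a d, haX⟩ * ⟨c d, hcX⟩ := by
      apply Subtype.ext; rw [Subgroup.coe_mul, h]; exact (a_mul_c d).symm
    have h2 := coprime_step' 2 σ m hcop hσ ⟨a d, haX⟩ ⟨c d, hcX⟩ h1 hc 1
      (by apply Subtype.ext; rw [pow_one, pow_two]; exact c_sq d)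
    exact congrArg Subtype.val h2
  · exfalso; rw [h] at hU; exact B_not_mem_U' d _ _ hU

include hm hσ hXS in
theorem aut_fix_U (hinv : ∀ x : X, (x : G) ∈ U' d → ((σ x : X) : G) ∈ U' d)
    (hinvol : ∀ t : X, (t : G) ∈ T' d → σ t = t) : ∀ x : X, (x : G) ∈ U' d → σ x = x := by
  have hall := coprime_fix σ m hm hσ ((U' d).subgroupOf X)
    (fun x hx => Subgroup.mem_subgroupOf.mpr (hinv x (Subgroup.mem_subgroupOf.mp hx)))
    (fun x hx y hy => by
      apply Subtype.ext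
      rw [Subgroup.coe_mul, Subgroup.coe_mul]
      exact U'_comm d _ _ (Subgroup.mem_subgroupOf.mp hx) (Subgroup.mem_subgroupOf.mp hy))
    (fun x _ => by
      obtain ⟨k', hk'⟩ := pow_two_pow_eq_one_of_mem' d (x : G) (hXS x.2)
      exact ⟨k', Subtype.ext (by rw [Subgroup.coe_pow]; exact hk')⟩)
    (fun t ht htt => by
      apply hinvol t
      apply mem_T'_of_sq d _ (Subgroup.mem_subgroupOf.mp ht)
      have := congrArg Subtype.val htt
      rw [Subgroup.coe_mul] at this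
      exact this)
  intro x hx
  exact hall x (Subgroup.mem_subgroupOf.mpr hx)

include hm hσ hXS in
theorem aut_fix_B (hinv : ∀ x : X, (x : G) ∈ U' d → ((σ x : X) : G) ∈ U' d)
    (hfix : ∀ x : X, (x : G) ∈ U' d → σ x = x) : ∀ x : X, σ x = x := by
  have hcop : m.Coprime 2 := Nat.Coprime.symm (Nat.coprime_two_left.mpr hm)
  intro x
  by_cases hxU : (x : G) ∈ U' d
  · exact hfix x hxU
  · have hσxU : ((σ x : X) : G) ∉ U' d := fun h =>
      hxU (aut_inv_of_invariant σ m hm hσ (fun y => (y : G) ∈ U' d) hinv x h)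
    have hBof : ∀ y : X, (y : G) ∉ U' d → ∃ k l, (y : G) = B d k l := by
      intro y hy
      rcases nf d _ (hXS y.2) with ⟨i, j, h⟩ | h
      · exact absurd ((mem_U' d _).mpr ⟨i, j, h⟩) hy
      · exact h
    obtain ⟨k, l, hx'⟩ := hBof x hxU
    obtain ⟨k', l', hσx'⟩ := hBof (σ x) hσxU
    have huU : ((x⁻¹ * σ x : X) : G) ∈ U' d := by
      rw [Subgroup.coe_mul, Subgroup.coe_inv, hx', hσx', B_inv, B_mul_B]
      exact (mem_U' d _).mpr ⟨_, _, rfl⟩
    have hufix : σ (x⁻¹ * σ x) = x⁻¹ * σ x := hfix _ huU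
    obtain ⟨k'', hk''⟩ := pow_two_pow_eq_one_of_mem' d ((x⁻¹ * σ x : X) : G) (hXS (x⁻¹ * σ x).2)
    have hu1 : x⁻¹ * σ x = 1 := coprime_step' 2 σ m hcop hσ x (x⁻¹ * σ x) (by group) hufix k''
      (Subtype.ext (by rw [Subgroup.coe_pow]; exact hk''))
    calc σ x = x * (x⁻¹ * σ x) := by group
      _ = x := by rw [hu1, mul_one]

include hm hσ hXS in
/-- the invariant four-group is fixed pointwise -/
theorem aut_fix_T (hcX : c d ∈ X) (hc : σ ⟨c d, hcX⟩ = ⟨c d, hcX⟩) (haX : a d ∈ X)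
    (hU : ((σ ⟨a d, haX⟩ : X) : G) ∈ U' d) : ∀ t : X, (t : G) ∈ T' d → σ t = t := by
  have ha := aut_fix_a d σ m hm hσ hXS hcX hc haX hU
  intro t ht
  rcases (mem_T' d _).mp ht with h | h | h | h
  · have : t = 1 := Subtype.ext h
    rw [this, map_one]
  · have : t = ⟨c d, hcX⟩ := Subtype.ext h
    rw [this, hc]
  · have : t = ⟨a d, haX⟩ := Subtype.ext h
    rw [this, ha]
  · have : t = ⟨a d, haX⟩ * ⟨c d, hcX⟩ := by
      apply Subtype.ext; rw [Subgroup.coe_mul, h]; exact (a_mul_c d).symm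
    rw [this, map_mul, ha, hc]

include hm hσ hXS in
/-- case of a large intersection with `U'` -/
theorem aut_trivial_big (hZ : Z' S ≤ X) (i j : ZMod (2 ^ d.n)) (hij : 2 * (i - j) ≠ 0)
    (hA : A d i j ∈ X) (k l : ZMod (2 ^ d.n)) (hB : B d k l ∈ X) : ∀ x : X, σ x = x := by
  have hij' : i ≠ j := by
    intro h; apply hij; rw [h, sub_self, mul_zero]
  have hfixZ := aut_fix_Z' d σ m hm hσ hXS hZ i j k l hij' hA hB
  have hcX : c d ∈ X := hZ (c_mem_Z'' d)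
  have hc : σ ⟨c d, hcX⟩ = ⟨c d, hcX⟩ := hfixZ _ (c_mem_Z'' d)
  have haX : a d ∈ X := a_mem_of_A_mem d X hZ i j hij' hA
  have hinvZ : ∀ x : X, ((σ x : X) : G) ∈ Z' S → (x : G) ∈ Z' S := fun x h =>
    aut_inv_of_invariant σ m hm hσ (fun y => (y : G) ∈ Z' S)
      (fun y hy => by rw [hfixZ y hy]; exact hy) x h
  have hinv : ∀ x : X, (x : G) ∈ U' d → ((σ x : X) : G) ∈ U' d := by
    intro x hx
    by_contra hnot
    obtain ⟨k', l', hσx⟩ : ∃ k' l', ((σ x : X) : G) = B d k' l' := by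
      rcases nf d _ (hXS (σ x).2) with ⟨i', j', h⟩ | h
      · exact absurd ((mem_U' d _).mpr ⟨i', j', h⟩) hnot
      · exact h
    have hcomm : x * ⟨A d i j, hA⟩ = ⟨A d i j, hA⟩ * x := by
      apply Subtype.ext
      rw [Subgroup.coe_mul, Subgroup.coe_mul]
      exact U'_comm d _ _ hx ((mem_U' d _).mpr ⟨_, _, rfl⟩)
    have hcomm' := congrArg σ hcomm
    rw [map_mul, map_mul] at hcomm'
    have hcomm'' := congrArg Subtype.val hcomm'
    rw [Subgroup.coe_mul, Subgroup.coe_mul, hσx] at hcomm''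
    have hsq : ((σ (⟨A d i j, hA⟩ * ⟨A d i j, hA⟩) : X) : G) ∈ Z' S := by
      rw [map_mul, Subgroup.coe_mul]
      rcases nf d _ (hXS (σ ⟨A d i j, hA⟩).2) with ⟨i', j', h⟩ | ⟨k'', l'', h⟩
      · rw [h] at hcomm'' ⊢
        have := comm_A_B d i' j' k' l' hcomm''.symm
        rw [this, A_mul_A]; exact (mem_Z' d _).mpr ⟨_, rfl⟩
      · rw [h, B_sq]; exact (mem_Z' d _).mpr ⟨_, rfl⟩
    have h1 := hinvZ _ hsq
    rw [Subgroup.coe_mul] at h1
    change A d i j * A d i j ∈ Z' S at h1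
    rw [A_mul_A] at h1
    obtain ⟨e, he⟩ := (mem_Z' d _).mp h1
    have h2 := A_inj d he
    apply hij
    linear_combination h2.1 - h2.2
  have hT := aut_fix_T d σ m hm hσ hXS hcX hc haX (hinv _ (a_mem_U' d))
  exact aut_fix_B d σ m hm hσ hXS hinv (aut_fix_U d σ m hm hσ hXS hinv hT)

include hm hσ hXS in
/-- the modular case -/
theorem aut_trivial_odd (hZ : Z' S ≤ X) (haX : a d ∈ X)
    (hX1 : ∀ i j, A d i j ∈ X → 2 * (i - j) = 0) (k l j₀ : ZMod (2 ^ d.n))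
    (hkl : k + l = 2 * j₀ + 1) (hB : B d k l ∈ X) : ∀ x : X, σ x = x := by
  have hfixZ := aut_fix_Z' d σ m hm hσ hXS hZ d.h 0 k l d.h_ne_zero haX hB
  have hcX : c d ∈ X := hZ (c_mem_Z'' d)
  have hc : σ ⟨c d, hcX⟩ = ⟨c d, hcX⟩ := hfixZ _ (c_mem_Z'' d)
  have hnoinv : ∀ k' l', B d k' l' ∈ X → k' + l' ≠ 0 := by
    intro k' l' h
    have h1 : A d (k' + -k) (l' + -l) ∈ X := by
      rw [← B_mul_B, ← B_inv]; exact X.mul_mem h (X.inv_mem hB)
    have h2 := hX1 _ _ h1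
    rcases (d.two_mul_eq_zero_iff _).mp h2 with h3 | h3
    · have : k' + l' = 2 * (j₀ + (l' - l)) + 1 := by linear_combination hkl + h3
      rw [this]; exact odd_ne_zero d _
    · have : k' + l' = 2 * (j₀ + (l' - l) + q d) + 1 := by
        linear_combination hkl + h3 - two_q d
      rw [this]; exact odd_ne_zero d _
  have haU : ((σ ⟨a d, haX⟩ : X) : G) ∈ U' d := by
    have ho : orderOf ((σ ⟨a d, haX⟩ : X) : G) = 2 := by
      rw [Subgroup.orderOf_coe, MulEquiv.orderOf_eq, Subgroup.orderOf_mk]; exact orderOf_a d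
    rcases invol_cases d _ (hXS (σ ⟨a d, haX⟩).2) ho with h | h | h | ⟨i, h⟩
    · rw [h]; exact c_mem_U' d
    · rw [h]; exact a_mem_U' d
    · rw [h]; exact a'_mem_U' d
    · exfalso
      have h1 : B d i (-i) ∈ X := by rw [← h]; exact (σ ⟨a d, haX⟩).2
      exact hnoinv _ _ h1 (add_neg_cancel i)
  have hinv : ∀ x : X, (x : G) ∈ U' d → ((σ x : X) : G) ∈ U' d := by
    intro x hx
    obtain ⟨i, j, hxA⟩ := (mem_U' d _).mp hx
    have h2 := hX1 i j (hxA ▸ x.2)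
    rcases (d.two_mul_eq_zero_iff _).mp h2 with h3 | h3
    · have hxZ : (x : G) ∈ Z' S := by
        rw [hxA, sub_eq_zero.mp h3]; exact (mem_Z' d _).mpr ⟨_, rfl⟩
      rw [hfixZ x hxZ]; exact hx
    · have hjZ : A d j j ∈ Z' S := (mem_Z' d _).mpr ⟨_, rfl⟩
      have hx' : x = ⟨a d, haX⟩ * ⟨A d j j, hZ hjZ⟩ := by
        apply Subtype.ext
        rw [Subgroup.coe_mul, hxA]
        change A d i j = A d d.h 0 * A d j j
        rw [A_mul_A, zero_add, ← h3, sub_add_cancel]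
      rw [hx', map_mul, hfixZ ⟨A d j j, hZ hjZ⟩ hjZ, Subgroup.coe_mul]
      exact (U' d).mul_mem haU (Z'_le_U' d hjZ)
  have hT := aut_fix_T d σ m hm hσ hXS hcX hc haX haU
  exact aut_fix_B d σ m hm hσ hXS hinv (aut_fix_U d σ m hm hσ hXS hinv hT)

end aut

end Cfsg.Agent.Helper2.WF
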