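import Mathlib
import Cfsg.Agent.Helper2.WF12

set_option autoImplicit false

/-! Classification of the self-centralizing subgroups of a wreathed `2`-group whose automorphism
group is not a `2`-group. -/

namespace Cfsg.Agent.Helper2.WF

open Cfsg.Agent.Helper2.Wr Cfsg.Agent.Helper2.QDF

variable {G : Type*} [Group G] [Finite G] {S : Subgroup G} (d : WDat ↥S)

section aut

variable {X : Subgroup G} (σ : MulAut X) (m : ℕ) (hm : Odd m) (hσ : σ ^ m = 1) (hXS : X ≤ S)

include hm hσ hXS in
/-- the abelian case `X ∩ U' = Z(S)` -/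
theorem aut_trivial_small (hZ : Z' S ≤ X) (hX0 : ∀ i j, A d i j ∈ X → i = j) :
    ∀ x : X, σ x = x := by
  have hcop : m.Coprime 2 := Nat.Coprime.symm (Nat.coprime_two_left.mpr hm)
  have hcX : c d ∈ X := hZ (c_mem_Z'' d)
  -- two elements outside `U'`
  have hBB : ∀ k l k' l', B d k l ∈ X → B d k' l' ∈ X → k' - k = l' - l := by
    intro k l k' l' h h'
    have h1 : A d (k' + -k) (l' + -l) ∈ X := by
      rw [← B_mul_B, ← B_inv]; exact X.mul_mem h' (X.inv_mem h)
    have := hX0 _ _ h1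
    linear_combination this
  have hcomm : ∀ x y : X, x * y = y * x := by
    intro x y
    apply Subtype.ext
    rw [Subgroup.coe_mul, Subgroup.coe_mul]
    rcases nf d _ (hXS x.2) with ⟨i, j, hx⟩ | ⟨k, l, hx⟩
    · have hij := hX0 i j (hx ▸ x.2)
      rw [hx, hij]; exact diag_central d j _ (hXS y.2)
    · rcases nf d _ (hXS y.2) with ⟨i, j, hy⟩ | ⟨k', l', hy⟩
      · have hij := hX0 i j (hy ▸ y.2)
        rw [hy, hij]; exact (diag_central d j _ (hXS x.2)).symm
      · have h1 := hBB k l k' l' (hx ▸ x.2) (hy ▸ y.2)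
        rw [hx, hy, B_mul_B, B_mul_B]
        congr 1
        · linear_combination -h1
        · linear_combination h1
  -- `c` is fixed
  have hqZ : A d (q d) (q d) ∈ Z' S := (mem_Z' d _).mpr ⟨_, rfl⟩
  have hc : σ ⟨c d, hcX⟩ = ⟨c d, hcX⟩ := by
    have hsq : (⟨c d, hcX⟩ : X) = ⟨A d (q d) (q d), hZ hqZ⟩ * ⟨A d (q d) (q d), hZ hqZ⟩ := by
      apply Subtype.ext
      rw [Subgroup.coe_mul]
      change A d d.h d.h = A d (q d) (q d) * A d (q d) (q d)
      rw [A_mul_A, ← two_mul, two_q]
    have hA : ∃ e f, ((σ ⟨c d, hcX⟩ : X) : G) = A d e f := by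
      rw [hsq, map_mul, Subgroup.coe_mul]
      rcases nf d _ (hXS (σ ⟨A d (q d) (q d), hZ hqZ⟩).2) with ⟨i, j, h⟩ | ⟨k, l, h⟩
      · rw [h, A_mul_A]; exact ⟨_, _, rfl⟩
      · rw [h, B_sq]; exact ⟨_, _, rfl⟩
    obtain ⟨e, f, hef⟩ := hA
    have hefX : A d e f ∈ X := by rw [← hef]; exact (σ ⟨c d, hcX⟩).2
    have hZ' : ((σ ⟨c d, hcX⟩ : X) : G) ∈ Z' S := by
      rw [hef, hX0 e f hefX]; exact (mem_Z' d _).mpr ⟨_, rfl⟩
    have h2 : ((σ ⟨c d, hcX⟩ : X) : G) * ((σ ⟨c d, hcX⟩ : X) : G) = 1 := by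
      rw [← Subgroup.coe_mul, ← map_mul]
      have : (⟨c d, hcX⟩ : X) * ⟨c d, hcX⟩ = 1 := Subtype.ext (c_sq d)
      rw [this, map_one]; rfl
    rcases Z'_invol' d _ hZ' h2 with h3 | h3
    · exfalso
      have h4 : σ ⟨c d, hcX⟩ = 1 := Subtype.ext h3
      rw [← map_one σ] at h4
      have h5 := σ.injective h4
      have h6 : ((⟨c d, hcX⟩ : X) : G) = ((1 : X) : G) := congrArg _ h5
      exact c_ne_one d h6
    · exact Subtype.ext h3
  -- involutions are fixed
  have hinvol : ∀ t : X, t * t = 1 → σ t = t := by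
    intro t htt
    have htt' : (t : G) * (t : G) = 1 := by
      have := congrArg Subtype.val htt
      rw [Subgroup.coe_mul] at this
      exact this
    have hσtt : ((σ t : X) : G) * ((σ t : X) : G) = 1 := by
      rw [← Subgroup.coe_mul, ← map_mul, htt, map_one]; rfl
    rcases nf d _ (hXS t.2) with ⟨i, j, ht⟩ | ⟨k, l, ht⟩
    · have hij := hX0 i j (ht ▸ t.2)
      have htZ : (t : G) ∈ Z' S := by rw [ht, hij]; exact (mem_Z' d _).mpr ⟨_, rfl⟩
      rcases Z'_invol' d _ htZ htt' with h | h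
      · have : t = 1 := Subtype.ext h
        rw [this, map_one]
      · have : t = ⟨c d, hcX⟩ := Subtype.ext h
        rw [this, hc]
    · rcases nf d _ (hXS (σ t).2) with ⟨i, j, hv⟩ | ⟨k', l', hv⟩
      · exfalso
        have hij := hX0 i j (hv ▸ (σ t).2)
        have hvZ : ((σ t : X) : G) ∈ Z' S := by
          rw [hv, hij]; exact (mem_Z' d _).mpr ⟨_, rfl⟩
        rcases Z'_invol' d _ hvZ hσtt with h | h
        · have h4 : σ t = 1 := Subtype.ext h
          rw [← map_one σ] at h4
          have h5 := σ.injective h4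
          have h6 : (t : G) = ((1 : X) : G) := congrArg _ h5
          rw [ht] at h6
          exact B_ne_one d _ _ h6
        · have h4 : σ t = σ ⟨c d, hcX⟩ := by rw [hc]; exact Subtype.ext h
          have h5 := σ.injective h4
          have h6 : (t : G) = ((⟨c d, hcX⟩ : X) : G) := congrArg _ h5
          rw [ht] at h6
          exact A_ne_B d _ _ _ _ h6.symm
      · have h1 := hBB k l k' l' (ht ▸ t.2) (hv ▸ (σ t).2)
        rw [ht, B_sq, A_eq_one_iff] at htt'
        rw [hv, B_sq, A_eq_one_iff] at hσtt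
        have h2 : 2 * (k' - k) = 0 := by linear_combination h1 + hσtt.1 - htt'.1
        rcases (d.two_mul_eq_zero_iff _).mp h2 with h3 | h3
        · apply Subtype.ext
          rw [hv, ht]
          have hk : k' = k := sub_eq_zero.mp h3
          have hl : l' = l := by linear_combination h3 - h1
          rw [hk, hl]
        · exfalso
          apply c_ne_one d
          have h4 : σ t = t * ⟨c d, hcX⟩ := by
            apply Subtype.ext
            rw [Subgroup.coe_mul, hv, ht]
            change B d k' l' = B d k l * A d d.h d.h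
            rw [B_mul_A]
            congr 1
            · linear_combination h3
            · linear_combination h3 - h1
          have h5 := coprime_step' 2 σ m hcop hσ t ⟨c d, hcX⟩ h4 hc 1
            (by apply Subtype.ext; rw [pow_one, pow_two]; exact c_sq d)
          have h6 : ((⟨c d, hcX⟩ : X) : G) = ((1 : X) : G) := congrArg _ h5
          exact h6
  have hall := coprime_fix σ m hm hσ ⊤ (fun _ _ => Subgroup.mem_top _)
    (fun x _ y _ => hcomm x y)
    (fun x _ => by
      obtain ⟨k', hk'⟩ := pow_two_pow_eq_one_of_mem' d (x : G) (hXS x.2)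
      exact ⟨k', Subtype.ext (by rw [Subgroup.coe_pow]; exact hk')⟩)
    (fun t _ htt => hinvol t htt)
  intro x
  exact hall x (Subgroup.mem_top _)

end aut

/-- the classification, first form -/
theorem classify (X : Subgroup G) (hXS : X ≤ S)
    (hC : ∀ s ∈ S, (∀ x ∈ X, x * s = s * x) → s ∈ X) (hA : ¬ IsPGroup 2 (MulAut X)) :
    X = U' d ∨ (Z' S ≤ X ∧ a d ∈ X ∧ (∀ i j, A d i j ∈ X → 2 * (i - j) = 0) ∧
      ∃ k, B d k (-k) ∈ X) := by
  have hZ : Z' S ≤ X := by
    intro ζ hζ
    obtain ⟨i, rfl⟩ := (mem_Z' d ζ).mp hζ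
    exact hC _ (A_mem d _ _) (fun x hx => (diag_central d i x (hXS hx)).symm)
  by_cases hXU : X ≤ U' d
  · left
    apply le_antisymm hXU
    intro u hu
    exact hC u (U'_le d hu) (fun x hx => U'_comm d x u (hXU hx) hu)
  · right
    obtain ⟨x₀, hx₀X, hx₀U⟩ := SetLike.not_le_iff_exists.mp hXU
    obtain ⟨k, l, hB⟩ : ∃ k l, B d k l ∈ X := by
      rcases nf d x₀ (hXS hx₀X) with ⟨i, j, h⟩ | ⟨k, l, h⟩
      · exact absurd ((mem_U' d _).mpr ⟨i, j, h⟩) hx₀U
      · exact ⟨k, l, h ▸ hx₀X⟩
    have hcontra : (∀ (σ : MulAut X) (m : ℕ), Odd m → σ ^ m = 1 → ∀ x : X, σ x = x) → False := by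
      intro h
      apply hA
      apply isPGroup_two_mulAut_of_odd_trivial'
      intro σ m hm hσ
      exact MulEquiv.ext (h σ m hm hσ)
    by_cases h2 : ∃ i j, A d i j ∈ X ∧ 2 * (i - j) ≠ 0
    · exfalso
      obtain ⟨i, j, hA', hij⟩ := h2
      exact hcontra (fun σ m hm hσ => aut_trivial_big d σ m hm hσ hXS hZ i j hij hA' k l hB)
    · push Not at h2
      by_cases h1 : ∃ i j, A d i j ∈ X ∧ i ≠ j
      · obtain ⟨i, j, hA', hij⟩ := h1
        have haX : a d ∈ X := a_mem_of_A_mem d X hZ i j hij hA'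
        refine ⟨hZ, haX, h2, ?_⟩
        rcases even_or_odd d (k + l) with ⟨j₀, hj₀⟩ | ⟨j₀, hj₀⟩
        · refine ⟨k - j₀, ?_⟩
          have : B d (k - j₀) (-(k - j₀)) = A d (-j₀) (-j₀) * B d k l := by
            rw [A_mul_B]
            congr 1
            · ring
            · linear_combination -hj₀
          rw [this]
          exact X.mul_mem (hZ ((mem_Z' d _).mpr ⟨_, rfl⟩)) hB
        · exfalso
          exact hcontra (fun σ m hm hσ =>
            aut_trivial_odd d σ m hm hσ hXS hZ haX h2 k l j₀ hj₀ hB)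
      · push Not at h1
        exfalso
        exact hcontra (fun σ m hm hσ => aut_trivial_small d σ m hm hσ hXS hZ h1)

end Cfsg.Agent.Helper2.WF
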