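import Mathlib
import Cfsg.Agent.Helper2.WF13

set_option autoImplicit false

/-! The subgroups `Wd δ` of a wreathed `2`-group: central products of the centre with a
quaternion group of order eight. -/

namespace Cfsg.Agent.Helper2.WF

open Cfsg.Agent.Helper2.Wr Cfsg.Agent.Helper2.QDF

variable {G : Type*} [Group G] [Finite G] {S : Subgroup G} (d : WDat ↥S)

/-- the subgroup `{A i j | 2 (i - j) = 0} ∪ {B i j | 2 (i - j - δ) = 0}` -/
def Wd (δ : ZMod (2 ^ d.n)) : Subgroup G where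
  carrier := {s | (∃ i j, s = A d i j ∧ 2 * (i - j) = 0) ∨ (∃ i j, s = B d i j ∧ 2 * (i - j - δ) = 0)}
  one_mem' := Or.inl ⟨0, 0, (A_zero d).symm, by ring⟩
  mul_mem' := by
    rintro _ _ (⟨i, j, rfl, h1⟩ | ⟨i, j, rfl, h1⟩) (⟨k, l, rfl, h2⟩ | ⟨k, l, rfl, h2⟩)
    · exact Or.inl ⟨_, _, A_mul_A d _ _ _ _, by linear_combination h1 + h2⟩
    · exact Or.inr ⟨_, _, A_mul_B d _ _ _ _, by linear_combination h1 + h2⟩
    · exact Or.inr ⟨_, _, B_mul_A d _ _ _ _, by linear_combination h1 - h2⟩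
    · exact Or.inl ⟨_, _, B_mul_B d _ _ _ _, by linear_combination h1 - h2⟩
  inv_mem' := by
    rintro _ (⟨i, j, rfl, h1⟩ | ⟨i, j, rfl, h1⟩)
    · exact Or.inl ⟨_, _, A_inv d _ _, by linear_combination -h1⟩
    · exact Or.inr ⟨_, _, B_inv d _ _, by linear_combination h1⟩

theorem A_mem_Wd (δ i j : ZMod (2 ^ d.n)) : A d i j ∈ Wd d δ ↔ 2 * (i - j) = 0 := by
  constructor
  · rintro (⟨i', j', h, h1⟩ | ⟨i', j', h, -⟩)
    · obtain ⟨rfl, rfl⟩ := A_inj d h; exact h1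
    · exact absurd h (A_ne_B d _ _ _ _)
  · intro h; exact Or.inl ⟨i, j, rfl, h⟩

theorem B_mem_Wd (δ i j : ZMod (2 ^ d.n)) : B d i j ∈ Wd d δ ↔ 2 * (i - j - δ) = 0 := by
  constructor
  · rintro (⟨i', j', h, -⟩ | ⟨i', j', h, h1⟩)
    · exact absurd h.symm (A_ne_B d _ _ _ _)
    · obtain ⟨rfl, rfl⟩ := B_inj d h; exact h1
  · intro h; exact Or.inr ⟨i, j, rfl, h⟩

theorem Wd_le (δ : ZMod (2 ^ d.n)) : Wd d δ ≤ S := by
  rintro _ (⟨i, j, rfl, -⟩ | ⟨i, j, rfl, -⟩)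
  · exact A_mem d _ _
  · exact B_mem d _ _

/-- a subgroup of the second kind in the classification is some `Wd δ` -/
theorem eq_Wd (X : Subgroup G) (hXS : X ≤ S) (hZ : Z' S ≤ X) (haX : a d ∈ X)
    (hX1 : ∀ i j, A d i j ∈ X → 2 * (i - j) = 0) (k l : ZMod (2 ^ d.n)) (hB : B d k l ∈ X) :
    X = Wd d (k - l) := by
  have hAX : ∀ i j, 2 * (i - j) = 0 → A d i j ∈ X := by
    intro i j h
    rcases (d.two_mul_eq_zero_iff _).mp h with h3 | h3
    · rw [sub_eq_zero.mp h3]; exact hZ ((mem_Z' d _).mpr ⟨_, rfl⟩)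
    · have : A d i j = a d * A d j j := by
        unfold a; rw [A_mul_A, zero_add, ← h3, sub_add_cancel]
      rw [this]; exact X.mul_mem haX (hZ ((mem_Z' d _).mpr ⟨_, rfl⟩))
  apply le_antisymm
  · intro x hx
    rcases nf d x (hXS hx) with ⟨i, j, rfl⟩ | ⟨i, j, rfl⟩
    · exact (A_mem_Wd d _ _ _).mpr (hX1 i j hx)
    · rw [B_mem_Wd]
      have h1 : A d (i + -k) (j + -l) ∈ X := by
        rw [← B_mul_B, ← B_inv]; exact X.mul_mem hx (X.inv_mem hB)
      have := hX1 _ _ h1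
      linear_combination this
  · rintro _ (⟨i, j, rfl, h1⟩ | ⟨i, j, rfl, h1⟩)
    · exact hAX i j h1
    · have : B d i j = A d (i - k) (j - l) * B d k l := by
        rw [A_mul_B, sub_add_cancel, sub_add_cancel]
      rw [this]
      exact X.mul_mem (hAX _ _ (by linear_combination h1)) hB

/-- the central product of a quaternion subgroup with the centre is some `Wd δ` -/
theorem V_eq_Wd (Q : Subgroup G) (hQS : Q ≤ S) (eQ : Q ≃* QuaternionGroup 2) :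
    ∃ k, Q ⊔ Z' S = Wd d (2 * k) := by
  obtain ⟨-, hsq, hsq1, -, ⟨k, l, hJ⟩, -⟩ := quat_wr d Q hQS eQ
  have hkl : k + l = d.h := by
    rcases hsq _ hJ with h | h
    · exfalso
      rcases hsq1 _ hJ h with h1 | h1
      · exact B_ne_one d _ _ h1
      · exact A_ne_B d _ _ _ _ h1.symm
    · rw [B_sq] at h
      exact (A_inj d h).1
  refine ⟨k + q d, ?_⟩
  have h1 := eq_Wd d (Q ⊔ Z' S) (V_le Q hQS) le_sup_right (a_mem_V d Q hQS eQ)
    (fun i j h => V_A d Q hQS eQ i j h) k l (Subgroup.mem_sup_left hJ)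
  rw [h1]
  congr 1
  linear_combination (-1 : ZMod (2 ^ d.n)) * hkl - two_q d - d.two_h

/-- conjugation by `A i 0` -/
theorem conj_Wd (δ i : ZMod (2 ^ d.n)) (x : G) (hx : x ∈ Wd d δ) :
    A d i 0 * x * (A d i 0)⁻¹ ∈ Wd d (δ + 2 * i) := by
  rcases hx with ⟨r, s, rfl, h1⟩ | ⟨r, s, rfl, h1⟩
  · rw [conj_A_A]; exact (A_mem_Wd d _ _ _).mpr h1
  · rw [conj_A_B, B_mem_Wd]
    linear_combination h1

theorem map_conj_Wd (δ i : ZMod (2 ^ d.n)) :
    (Wd d δ).map (MulAut.conj (A d i 0)).toMonoidHom = Wd d (δ + 2 * i) := by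
  ext x
  constructor
  · rintro ⟨y, hy, rfl⟩
    exact conj_Wd d δ i y hy
  · intro hx
    refine ⟨(A d i 0)⁻¹ * x * A d i 0, ?_, ?_⟩
    · have h1 := conj_Wd d (δ + 2 * i) (-i) x hx
      have e1 : A d (-i) 0 = (A d i 0)⁻¹ := by rw [A_inv, neg_zero]
      rw [e1, inv_inv] at h1
      have e2 : δ + 2 * i + 2 * -i = δ := by ring
      rw [e2] at h1
      exact h1
    · change A d i 0 * ((A d i 0)⁻¹ * x * A d i 0) * (A d i 0)⁻¹ = x
      group

/-- any two of the `Wd (2 k)` are conjugate in `S` -/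
theorem Wd_conj (k k' : ZMod (2 ^ d.n)) :
    ∃ s ∈ S, (Wd d (2 * k)).map (MulAut.conj s).toMonoidHom = Wd d (2 * k') := by
  refine ⟨A d (k' - k) 0, A_mem d _ _, ?_⟩
  rw [map_conj_Wd]
  congr 1
  ring

end Cfsg.Agent.Helper2.WF
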