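import Mathlib
import Cfsg.Agent.Helper2.WF14

set_option autoImplicit false

/-! Every `Wd (2 k)` is the central product of the centre with a quaternion group of order
eight; the final form of the classification. -/

namespace Cfsg.Agent.Helper2.WF

open Cfsg.Agent.Helper2.Wr Cfsg.Agent.Helper2.QDF

variable {G : Type*} [Group G] [Finite G] {S : Subgroup G} (d : WDat ↥S)

theorem neg_h' : -d.h = d.h := d.neg_h

theorem exists_quat (k : ZMod (2 ^ d.n)) :
    ∃ Q₁ : Subgroup G, Q₁ ≤ S ∧ Nonempty (Q₁ ≃* QuaternionGroup 2) ∧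
      Q₁ ⊔ Z' S = Wd d (2 * k) := by
  set I := A d (d.h + q d) (q d) with hI
  set J := B d (k + q d) (-k + q d) with hJ
  have hII : I * I = c d := by
    rw [hI, A_mul_A]; unfold c
    congr 1
    · linear_combination d.two_h + two_q d
    · linear_combination two_q d
  have hI2 : ¬ I ^ 2 ^ 1 = 1 := by
    rw [pow_one, pow_two, hII]; exact c_ne_one d
  have hI4 : I ^ 2 ^ (1 + 1) = 1 := by
    have : I ^ 2 ^ (1 + 1) = (I * I) * (I * I) := by
      rw [show (2 : ℕ) ^ (1 + 1) = 2 + 2 by norm_num, pow_add, pow_two]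
    rw [this, hII, c_sq]
  have hA : orderOf I = 2 * 2 := by
    rw [orderOf_eq_prime_pow hI2 hI4]; norm_num
  have hB : J * J = I ^ 2 := by
    rw [pow_two, hII, hJ, B_sq]; unfold c
    congr 1 <;> linear_combination two_q d
  have hrel : J * I * J⁻¹ = I⁻¹ := by
    rw [hJ, hI, conj_B_A, A_inv]
    congr 1
    · linear_combination two_q d + d.two_h
    · linear_combination two_q d + d.two_h
  have hJn : J ∉ Subgroup.zpowers I := by
    intro hmem
    have : Subgroup.zpowers I ≤ U' d := by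
      rw [Subgroup.zpowers_le]; exact (mem_U' d _).mpr ⟨_, _, rfl⟩
    exact B_not_mem_U' d _ _ (this hmem)
  haveI : NeZero 2 := ⟨by norm_num⟩
  set φ := QuatIso.quatHom I J 2 hA hB hrel with hφdef
  have hφ : Function.Injective φ := QuatIso.quatHom_injective _ _ _ hA hB hrel hJn
  have hIr : I ∈ φ.range := by
    refine ⟨QuaternionGroup.a 1, ?_⟩
    change QuatIso.quatFun I J _ (QuaternionGroup.a 1) = _
    rw [QuatIso.quatFun_a, Cfsg.Agent.Helper2.QD.X_one I _ hA]
  have hJr : J ∈ φ.range := by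
    refine ⟨QuaternionGroup.xa 0, ?_⟩
    change QuatIso.quatFun I J _ (QuaternionGroup.xa 0) = _
    rw [QuatIso.quatFun_xa, Cfsg.Agent.Helper2.QD.X_zero I _ hA, mul_one]
  have hIS : I ∈ S := A_mem d _ _
  have hJS : J ∈ S := B_mem d _ _
  have hrS : φ.range ≤ S := by
    rintro _ ⟨t, rfl⟩
    change QuatIso.quatFun I J _ t ∈ S
    rcases t with i | i
    · rw [QuatIso.quatFun_a]
      exact Subgroup.pow_mem _ hIS _
    · rw [QuatIso.quatFun_xa]
      exact Subgroup.mul_mem _ hJS (Subgroup.pow_mem _ hIS _)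
  have eQ : φ.range ≃* QuaternionGroup 2 := (MonoidHom.ofInjective hφ).symm
  refine ⟨φ.range, hrS, ⟨eQ⟩, ?_⟩
  have ha : a d ∈ φ.range ⊔ Z' S := by
    have : a d = I * A d (-q d) (-q d) := by
      rw [hI, A_mul_A]; unfold a; congr 1 <;> ring
    rw [this]
    exact Subgroup.mul_mem _ (Subgroup.mem_sup_left hIr)
      (Subgroup.mem_sup_right ((mem_Z' d _).mpr ⟨_, rfl⟩))
  have h1 := eq_Wd d (φ.range ⊔ Z' S) (V_le φ.range hrS) le_sup_right ha
    (fun i j h => V_A d φ.range hrS eQ i j h) (k + q d) (-k + q d) (Subgroup.mem_sup_left hJr)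
  rw [h1]
  congr 1
  ring

/-- the classification of the self-centralizing subgroups with automorphism group not a
`2`-group -/
theorem classify' (X : Subgroup G) (hXS : X ≤ S)
    (hC : ∀ s ∈ S, (∀ x ∈ X, x * s = s * x) → s ∈ X) (hA : ¬ IsPGroup 2 (MulAut X)) :
    X = U' d ∨ ∃ k, X = Wd d (2 * k) := by
  rcases classify d X hXS hC hA with h | ⟨hZ, haX, hX1, k, hk⟩
  · left; exact h
  · right
    refine ⟨k, ?_⟩
    rw [eq_Wd d X hXS hZ haX hX1 k (-k) hk]
    congr 1
    ring

/-- `U'` is abelian, the `Wd δ` are not -/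
theorem Wd_not_comm (δ : ZMod (2 ^ d.n)) : ∃ x ∈ Wd d δ, ∃ y ∈ Wd d δ, x * y ≠ y * x := by
  refine ⟨a d, (A_mem_Wd d _ _ _).mpr (by rw [sub_zero]; exact d.two_h), B d δ 0,
    (B_mem_Wd d _ _ _).mpr (by ring), ?_⟩
  intro h
  exact d.h_ne_zero (comm_A_B d _ _ _ _ h)

end Cfsg.Agent.Helper2.WF
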