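import Mathlib
import Cfsg.Agent.Helper2.WF15

set_option autoImplicit false

/-! Normalizers of the subgroups `Wd δ`; wreathed data on the top subgroup. -/

namespace Cfsg.Agent.Helper2.WF

open Cfsg.Agent.Helper2.Wr Cfsg.Agent.Helper2.QDF

variable {G : Type*} [Group G] [Finite G] {S : Subgroup G} (d : WDat ↥S)

theorem Wd_add_h (δ : ZMod (2 ^ d.n)) : Wd d (δ + d.h) = Wd d δ := by
  ext x
  constructor
  · rintro (⟨i, j, rfl, h1⟩ | ⟨i, j, rfl, h1⟩)
    · exact (A_mem_Wd d _ _ _).mpr h1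
    · exact (B_mem_Wd d _ _ _).mpr (by linear_combination h1 + d.two_h)
  · rintro (⟨i, j, rfl, h1⟩ | ⟨i, j, rfl, h1⟩)
    · exact (A_mem_Wd d _ _ _).mpr h1
    · exact (B_mem_Wd d _ _ _).mpr (by linear_combination h1 - d.two_h)

theorem Aq_mem_normalizer_Wd (δ : ZMod (2 ^ d.n)) :
    A d (q d) 0 ∈ Subgroup.normalizer (Wd d δ : Set G) := by
  apply Subgroup.mem_normalizer_fintype
  intro x hx
  rw [SetLike.mem_coe] at hx ⊢
  have h1 := conj_Wd d δ (q d) x hx
  rw [two_q, Wd_add_h] at h1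
  exact h1

/-- the index of `Wd δ` in its normalizer in `S` is two -/
theorem relIndex_Wd (δ : ZMod (2 ^ d.n)) :
    (Wd d δ).relIndex (S ⊓ Subgroup.normalizer (Wd d δ : Set G)) = 2 := by
  rw [Subgroup.relIndex_eq_two_iff]
  refine ⟨A d (q d) 0, ⟨A_mem d _ _, Aq_mem_normalizer_Wd d δ⟩, ?_⟩
  have hB0 : B d δ 0 ∈ Wd d δ := (B_mem_Wd d _ _ _).mpr (by ring)
  rintro b ⟨hbS, hbN⟩
  have hconj : b * B d δ 0 * b⁻¹ ∈ Wd d δ := (Subgroup.mem_normalizer_iff.mp hbN _).mp hB0
  rcases nf d b hbS with ⟨i, j, rfl⟩ | ⟨r, s, rfl⟩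
  · rw [conj_A_B, B_mem_Wd] at hconj
    have h4 : 2 * (2 * (i - j)) = 0 := by linear_combination hconj
    rw [A_mul_A, A_mem_Wd, A_mem_Wd]
    rcases (d.two_mul_eq_zero_iff _).mp h4 with h | h
    · right
      refine ⟨h, ?_⟩
      intro h'
      apply d.h_ne_zero
      linear_combination h' - h - two_q d
    · left
      refine ⟨by linear_combination h + two_q d + d.two_h, ?_⟩
      intro h'
      apply d.h_ne_zero
      linear_combination h' - h
  · rw [conj_B_B, B_mem_Wd] at hconj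
    have h4 : 2 * (2 * (r - s - δ)) = 0 := by linear_combination hconj
    rw [B_mul_A, B_mem_Wd, B_mem_Wd]
    rcases (d.two_mul_eq_zero_iff _).mp h4 with h | h
    · right
      refine ⟨h, ?_⟩
      intro h'
      apply d.h_ne_zero
      linear_combination h - h' - two_q d
    · left
      refine ⟨by linear_combination h - two_q d, ?_⟩
      intro h'
      apply d.h_ne_zero
      linear_combination h' - h

/-- `U'` has index two in `S` -/
theorem relIndex_U' : (U' d).relIndex S = 2 := by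
  have h1 := card_eq_relIndex_mul_card (U' d) S (U'_le d)
  rw [card_U', d.card, pow_succ, mul_comm] at h1
  exact (Nat.eq_of_mul_eq_mul_right (by positivity) h1).symm

theorem U'_normal_in : S ≤ Subgroup.normalizer (U' d : Set G) := by
  intro s hs
  apply Subgroup.mem_normalizer_fintype
  intro t ht
  rw [SetLike.mem_coe] at ht ⊢
  obtain ⟨i, j, rfl⟩ := (mem_U' d t).mp ht
  rcases nf d s hs with ⟨k, l, rfl⟩ | ⟨k, l, rfl⟩
  · rw [conj_A_A]; exact (mem_U' d _).mpr ⟨_, _, rfl⟩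
  · rw [conj_B_A]; exact (mem_U' d _).mpr ⟨_, _, rfl⟩

/-- wreathed data on the top subgroup -/
def topDat {S₀ : Type*} [Group S₀] (d₀ : WDat S₀) : WDat ↥(⊤ : Subgroup S₀) where
  n := d₀.n
  x := ⟨d₀.x, Subgroup.mem_top _⟩
  y := ⟨d₀.y, Subgroup.mem_top _⟩
  z := ⟨d₀.z, Subgroup.mem_top _⟩
  hn := d₀.hn
  card := by rw [Subgroup.card_top]; exact d₀.card
  hx := by rw [Subgroup.orderOf_mk]; exact d₀.hx
  hxy := Subtype.ext d₀.hxy
  hdisj := by
    rw [eq_bot_iff]
    intro t ht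
    obtain ⟨h1, h2⟩ := Subgroup.mem_inf.mp ht
    rw [Subgroup.mem_zpowers_iff] at h1 h2
    obtain ⟨k1, hk1⟩ := h1
    obtain ⟨k2, hk2⟩ := h2
    have h3 : (t : S₀) ∈ Subgroup.zpowers d₀.x ⊓ Subgroup.zpowers d₀.y := by
      apply Subgroup.mem_inf.mpr
      constructor
      · rw [Subgroup.mem_zpowers_iff]
        refine ⟨k1, ?_⟩
        rw [← hk1]; rfl
      · rw [Subgroup.mem_zpowers_iff]
        refine ⟨k2, ?_⟩
        rw [← hk2]; rfl
    rw [d₀.hdisj, Subgroup.mem_bot] at h3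
    rw [Subgroup.mem_bot]
    exact Subtype.ext h3
  hz := by rw [Subgroup.orderOf_mk]; exact d₀.hz
  hrel := Subtype.ext d₀.hrel

theorem Z'_top {S₀ : Type*} [Group S₀] :
    Z' (⊤ : Subgroup S₀) = Subgroup.center S₀ := by
  ext x
  constructor
  · intro hx
    obtain ⟨t, ht, rfl⟩ := Subgroup.mem_map.mp hx
    rw [Subgroup.mem_center_iff] at ht ⊢
    intro g
    exact congrArg Subtype.val (ht ⟨g, Subgroup.mem_top _⟩)
  · intro hx
    rw [Subgroup.mem_center_iff] at hx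
    refine Subgroup.mem_map.mpr ⟨⟨x, Subgroup.mem_top _⟩, ?_, rfl⟩
    rw [Subgroup.mem_center_iff]
    intro g
    exact Subtype.ext (hx g)

end Cfsg.Agent.Helper2.WF
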