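import Mathlib
import Cfsg.Agent.Helper2.WF16
import Cfsg.Agent.Lead.AlperinTame2

set_option autoImplicit false

/-! General lemmas on the steps of Alperin's fusion theorem: Frattini argument for the centralizer
of a tame intersection. -/

namespace Cfsg.Agent.Helper2.WF

variable {G : Type*} [Group G]

/-- a predicate preserved by all the steps of a conjugation chain is preserved by the chain -/
theorem chain_pred {R : Subgroup G → G → Prop} (Pr : G → Prop)
    (hstep : ∀ T x, R T x → ∀ a ∈ T, Pr a → Pr (x⁻¹ * a * x)) {A₀ : Set G} {g : G}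
    (h : Cfsg.Agent.Lead.Alp.RChain R A₀ g) : ∀ a ∈ A₀, Pr a → Pr (g⁻¹ * a * g) := by
  induction h with
  | nil A₀ => intro a _ ha; simpa using ha
  | cons A₀ T x g hR hAT _ ih =>
    intro a ha hPa
    have hb : x⁻¹ * a * x ∈ Cfsg.Agent.Lead.conjR x A₀ := ⟨a, ha, rfl⟩
    have h1 := ih _ hb (hstep T x hR a (hAT ha) hPa)
    have e : (x * g)⁻¹ * a * (x * g) = g⁻¹ * (x⁻¹ * a * x) * g := by group
    rw [e]; exact h1

variable [Finite G]

theorem normalizer_inf_le_normalizer_sup (T R : Subgroup G) :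
    Subgroup.normalizer (T : Set G) ⊓ Subgroup.normalizer (R : Set G) ≤
      Subgroup.normalizer ((T ⊔ R : Subgroup G) : Set G) := by
  rintro y ⟨hyT, hyR⟩
  apply Subgroup.mem_normalizer_fintype
  intro z hz
  rw [SetLike.mem_coe] at hz ⊢
  have hle : T ⊔ R ≤ (T ⊔ R).comap (MulAut.conj y).toMonoidHom := by
    apply sup_le
    · intro t ht
      rw [Subgroup.mem_comap]
      exact Subgroup.mem_sup_left ((Subgroup.mem_normalizer_iff.mp hyT t).mp ht)
    · intro r hr
      rw [Subgroup.mem_comap]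
      exact Subgroup.mem_sup_right ((Subgroup.mem_normalizer_iff.mp hyR r).mp hr)
  exact hle hz

variable {p : ℕ} [Fact p.Prime]

/-- Frattini argument: the normalizer of a tame intersection `T` is the product of the centralizer
of `T` and the normalizer (in the normalizer of `T`) of `C_P(T)` -/
theorem step_frattini {P T : Subgroup G} (hP : IsPGroup p P)
    (hPN : Nat.card (P ⊓ Subgroup.normalizer (T : Set G) : Subgroup G) =
      p ^ (Nat.card (Subgroup.normalizer (T : Set G))).factorization p)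
    {x : G} (hx : x ∈ Subgroup.normalizer (T : Set G)) :
    ∃ c ∈ Subgroup.centralizer (T : Set G), ∃ y ∈ Subgroup.normalizer (T : Set G),
      y ∈ Subgroup.normalizer ((P ⊓ Subgroup.centralizer (T : Set G) : Subgroup G) : Set G) ∧
        x = c * y := by
  set N := Subgroup.normalizer (T : Set G) with hN
  set C := Subgroup.centralizer (T : Set G) with hC
  have hCN : C ≤ N := Subgroup.centralizer_le_normalizer _
  have hnorm : N ≤ Subgroup.normalizer (C : Set G) :=
    Cfsg.Agent.Helper1.normalizer_le_normalizer_centralizer T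
  have hA₁ : IsPGroup p (P ⊓ N : Subgroup G) := hP.to_le inf_le_left
  have h1 := Cfsg.Agent.Lead.card_inf_eq_ppart_of_normal (inf_le_right : P ⊓ N ≤ N) hCN hnorm
    hA₁ hPN
  have hRe : (P ⊓ N) ⊓ C = P ⊓ C := by
    rw [inf_assoc, inf_eq_right.mpr hCN]
  rw [hRe] at h1
  set R := P ⊓ C with hR
  have hRp : IsPGroup p R := hP.to_le inf_le_left
  have hT₁C : R.map (MulAut.conj x).toMonoidHom ≤ C := by
    rintro _ ⟨r, hr, rfl⟩
    exact (Subgroup.mem_normalizer_iff.mp (hnorm hx) r).mp hr.2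
  obtain ⟨m, hmC, hm⟩ := Cfsg.Agent.Lead.exists_conj_le_of_card_eq_ppart
    (inf_le_right : R ≤ C) h1 hT₁C (hRp.map _)
  refine ⟨m⁻¹, C.inv_mem hmC, m * x, N.mul_mem (hCN hmC) hx, ?_, by group⟩
  apply Subgroup.mem_normalizer_fintype
  intro r hr
  rw [SetLike.mem_coe] at hr ⊢
  apply hm
  refine ⟨x * r * x⁻¹, ⟨r, hr, rfl⟩, ?_⟩
  change m * (x * r * x⁻¹) * m⁻¹ = m * x * r * (m * x)⁻¹
  group

/-- if the automizer of `X = T C_P(T)` is a `p`-group, so is the automizer of the tame
intersection `T` -/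
theorem step_ppow {P T : Subgroup G} (hP : IsPGroup p P)
    (hPN : Nat.card (P ⊓ Subgroup.normalizer (T : Set G) : Subgroup G) =
      p ^ (Nat.card (Subgroup.normalizer (T : Set G))).factorization p)
    (hX : ∀ y ∈ Subgroup.normalizer
        ((T ⊔ (P ⊓ Subgroup.centralizer (T : Set G)) : Subgroup G) : Set G),
      ∃ j : ℕ, y ^ (p ^ j) ∈ Subgroup.centralizer
        ((T ⊔ (P ⊓ Subgroup.centralizer (T : Set G)) : Subgroup G) : Set G)) :
    ∃ k : ℕ, (Subgroup.centralizer (T : Set G)).relIndex (Subgroup.normalizer (T : Set G)) =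
      p ^ k := by
  classical
  have hpp : p.Prime := Fact.out
  set N := Subgroup.normalizer (T : Set G) with hN
  set C := Subgroup.centralizer (T : Set G) with hC
  have hker : (T.normalizerMonoidHom).ker = C.subgroupOf N := Subgroup.normalizerMonoidHom_ker T
  have hidx : C.relIndex N = Nat.card (T.normalizerMonoidHom).range := by
    rw [← Subgroup.index_ker, hker]; rfl
  refine ⟨_, Nat.eq_prime_pow_of_unique_prime_dvd ?_ ?_⟩
  · rw [hidx]; exact Nat.card_pos.ne'
  · intro ℓ hℓ hℓd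
    rw [hidx] at hℓd
    haveI : Fact ℓ.Prime := ⟨hℓ⟩
    obtain ⟨σ', hσ'⟩ := exists_prime_orderOf_dvd_card' ℓ hℓd
    obtain ⟨⟨x, hx⟩, hxσ'⟩ := σ'.2
    obtain ⟨c, hc, y, hyN, hyR, hxy⟩ := step_frattini hP hPN hx
    have hyX := normalizer_inf_le_normalizer_sup T (P ⊓ C) ⟨hyN, hyR⟩
    obtain ⟨j, hj⟩ := hX y hyX
    have hjC : y ^ (p ^ j) ∈ C :=
      Subgroup.centralizer_le (show (T : Set G) ⊆ ((T ⊔ (P ⊓ C) : Subgroup G) : Set G) from
        fun t ht => Subgroup.mem_sup_left ht) hj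
    have hcN : c ∈ N := Subgroup.centralizer_le_normalizer _ hc
    have h1 : T.normalizerMonoidHom ⟨x, hx⟩ = T.normalizerMonoidHom ⟨y, hyN⟩ := by
      have : (⟨x, hx⟩ : N) = ⟨c, hcN⟩ * ⟨y, hyN⟩ := Subtype.ext hxy
      rw [this, map_mul]
      have hck : (⟨c, hcN⟩ : N) ∈ (T.normalizerMonoidHom).ker := by
        rw [hker, Subgroup.mem_subgroupOf]; exact hc
      rw [MonoidHom.mem_ker.mp hck, one_mul]
    have h2 : (T.normalizerMonoidHom ⟨y, hyN⟩) ^ (p ^ j) = 1 := by
      rw [← map_pow]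
      have hyk : (⟨y, hyN⟩ : N) ^ (p ^ j) ∈ (T.normalizerMonoidHom).ker := by
        rw [hker, Subgroup.mem_subgroupOf, Subgroup.coe_pow]; exact hjC
      exact MonoidHom.mem_ker.mp hyk
    have h3 : (σ' : MulAut T) ^ (p ^ j) = 1 := by
      rw [← hxσ', h1]; exact h2
    have h4 : orderOf (σ' : MulAut T) ∣ p ^ j := orderOf_dvd_of_pow_eq_one h3
    rw [Subgroup.orderOf_coe, hσ'] at h4
    exact (Nat.prime_dvd_prime_iff_eq hℓ hpp).mp (hℓ.dvd_of_dvd_pow h4)

end Cfsg.Agent.Helper2.WF
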