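import Mathlib
import Cfsg.Agent.Helper2.WF17

set_option autoImplicit false

/-! Control of fusion in a wreathed Sylow `2`-subgroup: by `S`, the normalizer of the homocyclic
subgroup `U'` and the normalizers of the subgroups `Wd (2 k)`. -/

namespace Cfsg.Agent.Helper2.WF

open Cfsg.Agent.Helper2.Wr Cfsg.Agent.Helper2.QDF

variable {G : Type*} [Group G] [Finite G] (S : Sylow 2 G) (d : WDat ↥(S : Subgroup G))

/-- the three kinds of steps in Alperin's theorem -/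
theorem step_cases (T : Subgroup G) (x : G)
    (hstep : Cfsg.Agent.Lead.Alp.StepRel 2 (S : Subgroup G) T x) :
    (∃ u ∈ (S : Subgroup G), ∀ a ∈ T, x⁻¹ * a * x = u⁻¹ * a * u) ∨
    (T ≤ U' d ∧ ∃ y ∈ Subgroup.normalizer (U' d : Set G), ∀ a ∈ T, x⁻¹ * a * x = y⁻¹ * a * y) ∨
    (∃ k, T ≤ Wd d (2 * k) ∧ ∃ y ∈ Subgroup.normalizer (Wd d (2 * k) : Set G),
      ∀ a ∈ T, x⁻¹ * a * x = y⁻¹ * a * y) := by
  obtain ⟨Q', -, -, hT, hPN, -, hxN, -⟩ := hstep
  have hTS : T ≤ (S : Subgroup G) := by rw [hT]; exact inf_le_left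
  obtain ⟨X, hXdef⟩ : ∃ X : Subgroup G,
      X = T ⊔ ((S : Subgroup G) ⊓ Subgroup.centralizer (T : Set G)) := ⟨_, rfl⟩
  have hXS : X ≤ (S : Subgroup G) := by rw [hXdef]; exact sup_le hTS inf_le_left
  have hTX : T ≤ X := by rw [hXdef]; exact le_sup_left
  have hC : ∀ s ∈ (S : Subgroup G), (∀ x ∈ X, x * s = s * x) → s ∈ X := by
    intro s hs hcomm
    rw [hXdef]
    apply Subgroup.mem_sup_right
    exact ⟨hs, Subgroup.mem_centralizer_iff.mpr (fun t ht => hcomm t (hTX ht))⟩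
  by_cases hA : IsPGroup 2 (MulAut X)
  · left
    have hX : ∀ y ∈ Subgroup.normalizer (X : Set G), ∃ j : ℕ,
        y ^ (2 ^ j) ∈ Subgroup.centralizer (X : Set G) := by
      intro y hy
      obtain ⟨j, hj⟩ := hA (X.normalizerMonoidHom ⟨y, hy⟩)
      refine ⟨j, ?_⟩
      rw [← map_pow] at hj
      have h1 : (⟨y, hy⟩ : Subgroup.normalizer (X : Set G)) ^ (2 ^ j) ∈
          (X.normalizerMonoidHom).ker := MonoidHom.mem_ker.mpr hj
      rw [Subgroup.normalizerMonoidHom_ker X, Subgroup.mem_subgroupOf, Subgroup.coe_pow] at h1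
      exact h1
    rw [hXdef] at hX
    have hk := step_ppow S.isPGroup' hPN hX
    exact Cfsg.Agent.Lead.Alp.exists_conj_eq_of_isPGroup_quotient hPN hk hxN
  · right
    obtain ⟨c, hc, y, hyN, hyR, hxy⟩ := step_frattini S.isPGroup' hPN hxN
    have hyX : y ∈ Subgroup.normalizer (X : Set G) := by
      rw [hXdef]
      exact normalizer_inf_le_normalizer_sup T _ ⟨hyN, hyR⟩
    have hact : ∀ a ∈ T, x⁻¹ * a * x = y⁻¹ * a * y := by
      intro a ha
      have hca : a * c = c * a := Subgroup.mem_centralizer_iff.mp hc a ha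
      rw [hxy]
      calc (c * y)⁻¹ * a * (c * y) = y⁻¹ * (c⁻¹ * (a * c)) * y := by group
        _ = y⁻¹ * (c⁻¹ * (c * a)) * y := by rw [hca]
        _ = y⁻¹ * a * y := by group
    rcases classify' d X hXS hC hA with h | ⟨k, h⟩
    · left
      rw [h] at hTX hyX
      exact ⟨hTX, y, hyX, hact⟩
    · right
      rw [h] at hTX hyX
      exact ⟨k, hTX, y, hyX, hact⟩

/-- control of fusion -/
theorem control (Pr : G → Prop)
    (h1 : ∀ a ∈ (S : Subgroup G), ∀ s ∈ (S : Subgroup G), Pr a → Pr (s⁻¹ * a * s))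
    (h2 : ∀ a ∈ U' d, ∀ y ∈ Subgroup.normalizer (U' d : Set G), Pr a → Pr (y⁻¹ * a * y))
    (h3 : ∀ k, ∀ a ∈ Wd d (2 * k), ∀ y ∈ Subgroup.normalizer (Wd d (2 * k) : Set G),
      Pr a → Pr (y⁻¹ * a * y))
    (a : G) (ha : a ∈ (S : Subgroup G)) (g : G) (hg : g⁻¹ * a * g ∈ (S : Subgroup G))
    (hPa : Pr a) : Pr (g⁻¹ * a * g) := by
  have hchain := Cfsg.Agent.Lead.Alp.alperin_chain S.isPGroup' S.card_eq_multiplicity {a} g
    (by intro b hb; rw [Set.mem_singleton_iff] at hb; rw [hb]; exact ha)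
    (by
      rintro _ ⟨b, hb, rfl⟩
      rw [Set.mem_singleton_iff] at hb
      rw [hb]; exact hg)
  refine chain_pred Pr ?_ hchain a (Set.mem_singleton a) hPa
  intro T x hR b hb hPb
  have hTS : T ≤ (S : Subgroup G) := hR.le
  rcases step_cases S d T x hR with ⟨u, hu, hact⟩ | ⟨hTU, y, hy, hact⟩ | ⟨k, hTW, y, hy, hact⟩
  · rw [hact b hb]; exact h1 b (hTS hb) u hu hPb
  · rw [hact b hb]; exact h2 b (hTU hb) y hy hPb
  · rw [hact b hb]; exact h3 k b (hTW hb) y hy hPb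

end Cfsg.Agent.Helper2.WF
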