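import Mathlib
import Cfsg.Agent.Helper2.WF18

set_option autoImplicit false

/-! Automizers of order two: the normalizers of `U'` and of the `Wd (2 k)` act like `S`. -/

namespace Cfsg.Agent.Helper2.WF

open Cfsg.Agent.Helper2.Wr Cfsg.Agent.Helper2.QDF

variable {G : Type*} [Group G] [Finite G] (S : Sylow 2 G) (d : WDat ↥(S : Subgroup G))

theorem conj_eq_of_mem_centralizer' {X : Subgroup G} {c a : G}
    (hc : c ∈ Subgroup.centralizer (X : Set G)) (ha : a ∈ X) : c⁻¹ * a * c = a := by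
  have := Subgroup.mem_centralizer_iff.mp hc a ha
  calc c⁻¹ * a * c = c⁻¹ * (a * c) := by group
    _ = c⁻¹ * (c * a) := by rw [this]
    _ = a := by group

/-- automizer of `U'` of order two -/
theorem U_two_acts
    (h₁ : (Subgroup.centralizer (U' d : Set G)).relIndex (Subgroup.normalizer (U' d : Set G)) = 2) :
    ∀ y ∈ Subgroup.normalizer (U' d : Set G), ∃ s ∈ (S : Subgroup G),
      ∀ a ∈ U' d, y⁻¹ * a * y = s⁻¹ * a * s := by
  intro y hy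
  by_cases hyC : y ∈ Subgroup.centralizer (U' d : Set G)
  · refine ⟨1, Subgroup.one_mem _, fun a ha => ?_⟩
    rw [conj_eq_of_mem_centralizer' hyC ha]; group
  · have hzN : (z d)⁻¹ ∈ Subgroup.normalizer (U' d : Set G) :=
      Subgroup.inv_mem _ (z_mem_normalizer_U' d)
    have hzC : (z d)⁻¹ ∉ Subgroup.centralizer (U' d : Set G) := fun h =>
      z_not_mem_centralizer_U' d (by simpa using Subgroup.inv_mem _ h)
    have h1 := mul_mem_of_relIndex_two h₁ hy hzN hyC hzC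
    refine ⟨z d, z_mem d, fun a ha => ?_⟩
    have h2 := conj_eq_of_mem_centralizer' h1 ha
    calc y⁻¹ * a * y = (z d)⁻¹ * ((y * (z d)⁻¹)⁻¹ * a * (y * (z d)⁻¹)) * z d := by group
      _ = (z d)⁻¹ * a * z d := by rw [h2]

theorem conj_Wd_inv (δ i : ZMod (2 ^ d.n)) (x : G) (hx : x ∈ Wd d (δ + 2 * i)) :
    (A d i 0)⁻¹ * x * A d i 0 ∈ Wd d δ := by
  have h1 := conj_Wd d (δ + 2 * i) (-i) x hx
  have e1 : A d (-i) 0 = (A d i 0)⁻¹ := by rw [A_inv, neg_zero]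
  rw [e1, inv_inv] at h1
  have e2 : δ + 2 * i + 2 * -i = δ := by ring
  rw [e2] at h1
  exact h1

/-- `A q 0` does not lie in `V C(V)` -/
theorem Aq_not_mem_VC (δ : ZMod (2 ^ d.n)) :
    A d (q d) 0 ∉ Wd d δ ⊔ Subgroup.centralizer (Wd d δ : Set G) := by
  intro h
  have hVN : Wd d δ ≤ Subgroup.normalizer
      ((Subgroup.centralizer (Wd d δ : Set G) : Subgroup G) : Set G) :=
    Subgroup.le_normalizer.trans (Cfsg.Agent.Helper1.normalizer_le_normalizer_centralizer _)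
  rw [sup_comm] at h
  obtain ⟨c', hc', v, hv, hcv⟩ := Cfsg.Agent.Helper1.mem_sup_of_le_normalizer hVN h
  have hc'S : c' ∈ (S : Subgroup G) := by
    have : c' = A d (q d) 0 * v⁻¹ := by rw [hcv]; group
    rw [this]
    exact Subgroup.mul_mem _ (A_mem d _ _) (Subgroup.inv_mem _ (Wd_le d δ hv))
  -- `c'` commutes with `a` and with `B δ 0`
  have h1 := Subgroup.mem_centralizer_iff.mp hc' (a d)
    ((A_mem_Wd d _ _ _).mpr (by rw [sub_zero]; exact d.two_h))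
  have h2 := Subgroup.mem_centralizer_iff.mp hc' (B d δ 0) ((B_mem_Wd d _ _ _).mpr (by ring))
  have hc'Z := mem_Z'_of_comm d c' hc'S d.h 0 δ 0 d.h_ne_zero h1 h2
  obtain ⟨i, hi⟩ := (mem_Z' d c').mp hc'Z
  have hx₀V : A d (q d) 0 ∈ Wd d δ := by
    rw [hcv, hi]
    exact (Wd d δ).mul_mem ((A_mem_Wd d _ _ _).mpr (by ring)) hv
  have h3 := (A_mem_Wd d _ _ _).mp hx₀V
  rw [sub_zero, two_q] at h3
  exact d.h_ne_zero h3

/-- automizer of `Wd δ` of order two modulo inner automorphisms -/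
theorem Wd_two_acts₀ (δ : ZMod (2 ^ d.n))
    (h₂ : (Wd d δ ⊔ Subgroup.centralizer (Wd d δ : Set G)).relIndex
      (Subgroup.normalizer (Wd d δ : Set G)) = 2) :
    ∀ y ∈ Subgroup.normalizer (Wd d δ : Set G), ∃ s ∈ (S : Subgroup G),
      ∀ a ∈ Wd d δ, y⁻¹ * a * y = s⁻¹ * a * s := by
  have hVN : Wd d δ ≤ Subgroup.normalizer
      ((Subgroup.centralizer (Wd d δ : Set G) : Subgroup G) : Set G) :=
    Subgroup.le_normalizer.trans (Cfsg.Agent.Helper1.normalizer_le_normalizer_centralizer _)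
  have hdecomp : ∀ w ∈ Wd d δ ⊔ Subgroup.centralizer (Wd d δ : Set G), ∃ v ∈ Wd d δ,
      ∀ a ∈ Wd d δ, w⁻¹ * a * w = v⁻¹ * a * v := by
    intro w hw
    rw [sup_comm] at hw
    obtain ⟨c', hc', v, hv, rfl⟩ := Cfsg.Agent.Helper1.mem_sup_of_le_normalizer hVN hw
    refine ⟨v, hv, fun a ha => ?_⟩
    have := conj_eq_of_mem_centralizer' hc' ha
    calc (c' * v)⁻¹ * a * (c' * v) = v⁻¹ * (c'⁻¹ * a * c') * v := by group
      _ = v⁻¹ * a * v := by rw [this]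
  intro y hy
  by_cases hyH : y ∈ Wd d δ ⊔ Subgroup.centralizer (Wd d δ : Set G)
  · obtain ⟨v, hv, hact⟩ := hdecomp y hyH
    exact ⟨v, Wd_le d δ hv, hact⟩
  · have hx₀N : (A d (q d) 0)⁻¹ ∈ Subgroup.normalizer (Wd d δ : Set G) :=
      Subgroup.inv_mem _ (Aq_mem_normalizer_Wd d δ)
    have hx₀H : (A d (q d) 0)⁻¹ ∉ Wd d δ ⊔ Subgroup.centralizer (Wd d δ : Set G) := fun h =>
      Aq_not_mem_VC S d δ (by simpa using Subgroup.inv_mem _ h)
    have h1 := mul_mem_of_relIndex_two h₂ hy hx₀N hyH hx₀H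
    obtain ⟨v, hv, hact⟩ := hdecomp _ h1
    refine ⟨v * A d (q d) 0, Subgroup.mul_mem _ (Wd_le d δ hv) (A_mem d _ _), fun a ha => ?_⟩
    have h2 := hact a ha
    calc y⁻¹ * a * y = (A d (q d) 0)⁻¹ * ((y * (A d (q d) 0)⁻¹)⁻¹ * a * (y * (A d (q d) 0)⁻¹)) *
          A d (q d) 0 := by group
      _ = (A d (q d) 0)⁻¹ * (v⁻¹ * a * v) * A d (q d) 0 := by rw [h2]
      _ = (v * A d (q d) 0)⁻¹ * a * (v * A d (q d) 0) := by group

/-- transport along conjugation by `A i 0` -/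
theorem Wd_two_acts_conj (δ i : ZMod (2 ^ d.n))
    (h : ∀ y ∈ Subgroup.normalizer (Wd d δ : Set G), ∃ s ∈ (S : Subgroup G),
      ∀ a ∈ Wd d δ, y⁻¹ * a * y = s⁻¹ * a * s) :
    ∀ y ∈ Subgroup.normalizer (Wd d (δ + 2 * i) : Set G), ∃ s ∈ (S : Subgroup G),
      ∀ a ∈ Wd d (δ + 2 * i), y⁻¹ * a * y = s⁻¹ * a * s := by
  intro y hy
  set s₁ := A d i 0 with hs₁
  have hy' : s₁⁻¹ * y * s₁ ∈ Subgroup.normalizer (Wd d δ : Set G) := by
    apply Subgroup.mem_normalizer_fintype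
    intro v hv
    rw [SetLike.mem_coe] at hv ⊢
    have h1 := conj_Wd d δ i v hv
    have h2 := (Subgroup.mem_normalizer_iff.mp hy _).mp h1
    have h3 := conj_Wd_inv S d δ i _ h2
    have e : s₁⁻¹ * y * s₁ * v * (s₁⁻¹ * y * s₁)⁻¹ =
        s₁⁻¹ * (y * (s₁ * v * s₁⁻¹) * y⁻¹) * s₁ := by group
    rw [e]; exact h3
  obtain ⟨s', hs', hact⟩ := h _ hy'
  refine ⟨s₁ * s' * s₁⁻¹, Subgroup.mul_mem _ (Subgroup.mul_mem _ (A_mem d _ _) hs')
    (Subgroup.inv_mem _ (A_mem d _ _)), fun a ha => ?_⟩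
  have hv := conj_Wd_inv S d δ i a ha
  have h1 := hact _ hv
  calc y⁻¹ * a * y = s₁ * ((s₁⁻¹ * y * s₁)⁻¹ * (s₁⁻¹ * a * s₁) * (s₁⁻¹ * y * s₁)) * s₁⁻¹ := by
        group
    _ = s₁ * (s'⁻¹ * (s₁⁻¹ * a * s₁) * s') * s₁⁻¹ := by rw [h1]
    _ = (s₁ * s' * s₁⁻¹)⁻¹ * a * (s₁ * s' * s₁⁻¹) := by group

/-- if the automizer of `V = Q Z(S)` has order two modulo inner automorphisms, the normalizer of
every `Wd (2 k)` acts like `S` -/
theorem Wd_two_acts (Q : Subgroup G) (hQS : Q ≤ S) (eQ : Q ≃* QuaternionGroup 2)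
    (h₂ : ((Q ⊔ Z' (S : Subgroup G)) ⊔
        Subgroup.centralizer ((Q ⊔ Z' (S : Subgroup G) : Subgroup G) : Set G)).relIndex
        (Subgroup.normalizer ((Q ⊔ Z' (S : Subgroup G) : Subgroup G) : Set G)) = 2)
    (k : ZMod (2 ^ d.n)) :
    ∀ y ∈ Subgroup.normalizer (Wd d (2 * k) : Set G), ∃ s ∈ (S : Subgroup G),
      ∀ a ∈ Wd d (2 * k), y⁻¹ * a * y = s⁻¹ * a * s := by
  obtain ⟨k₀, hk₀⟩ := V_eq_Wd d Q hQS eQ
  rw [hk₀] at h₂
  have h0 := Wd_two_acts₀ S d (2 * k₀) h₂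
  have h1 := Wd_two_acts_conj S d (2 * k₀) (k - k₀) h0
  have e : 2 * k₀ + 2 * (k - k₀) = 2 * k := by ring
  rw [e] at h1
  exact h1

/-- both automizers of order two: fusion in `S` is controlled by `S` -/
theorem fusion_in_S (Q : Subgroup G) (hQS : Q ≤ S) (eQ : Q ≃* QuaternionGroup 2)
    (h₁ : (Subgroup.centralizer (U' d : Set G)).relIndex (Subgroup.normalizer (U' d : Set G)) = 2)
    (h₂ : ((Q ⊔ Z' (S : Subgroup G)) ⊔
        Subgroup.centralizer ((Q ⊔ Z' (S : Subgroup G) : Subgroup G) : Set G)).relIndex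
        (Subgroup.normalizer ((Q ⊔ Z' (S : Subgroup G) : Subgroup G) : Set G)) = 2)
    (a : G) (ha : a ∈ (S : Subgroup G)) (g : G) (hg : g⁻¹ * a * g ∈ (S : Subgroup G)) :
    ∃ s ∈ (S : Subgroup G), g⁻¹ * a * g = s⁻¹ * a * s := by
  have hstep : ∀ b : G, (∃ s ∈ (S : Subgroup G), b = s⁻¹ * a * s) → ∀ t ∈ (S : Subgroup G),
      ∃ s ∈ (S : Subgroup G), t⁻¹ * b * t = s⁻¹ * a * s := by
    rintro b ⟨s, hs, rfl⟩ t ht
    exact ⟨s * t, Subgroup.mul_mem _ hs ht, by group⟩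
  apply control S d (fun b => ∃ s ∈ (S : Subgroup G), b = s⁻¹ * a * s) ?_ ?_ ?_ a ha g hg
    ⟨1, Subgroup.one_mem _, by group⟩
  · intro b _ t ht hb
    exact hstep b hb t ht
  · intro b hb y hy hPb
    obtain ⟨t, ht, hact⟩ := U_two_acts S d h₁ y hy
    rw [hact b hb]
    exact hstep b hPb t ht
  · intro k b hb y hy hPb
    obtain ⟨t, ht, hact⟩ := Wd_two_acts S d Q hQS eQ h₂ k y hy
    rw [hact b hb]
    exact hstep b hPb t ht

end Cfsg.Agent.Helper2.WF
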