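import Mathlib
import Cfsg.Agent.Helper2.WF19

set_option autoImplicit false

/-! Wreathed Sylow `2`-subgroup with both automizers of order two: normal `2`-complement and three
classes of involutions. -/

namespace Cfsg.Agent.Helper2.WF

open Cfsg.Agent.Helper2.Wr Cfsg.Agent.Helper2.QDF

variable {G : Type*} [Group G] [Finite G] (S : Sylow 2 G) (d : WDat ↥(S : Subgroup G))

/-- an element acting on `X` like an element of `S` has a `2`-power in the centralizer of `X` -/
theorem pow_mem_centralizer_of_acts (X : Subgroup G) (y : G)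
    (hy : y ∈ Subgroup.normalizer (X : Set G)) (s : G) (hs : s ∈ (S : Subgroup G))
    (hact : ∀ a ∈ X, y⁻¹ * a * y = s⁻¹ * a * s) :
    ∃ j : ℕ, y ^ (2 ^ j) ∈ Subgroup.centralizer (X : Set G) := by
  obtain ⟨j, hj⟩ := pow_two_pow_eq_one_of_mem S s hs
  refine ⟨j, ?_⟩
  have hu : ∀ a ∈ (X : Set G), s⁻¹ * a * s ∈ (X : Set G) := by
    intro a ha
    rw [← hact a ha]
    have := (Subgroup.mem_normalizer_iff.mp (Subgroup.inv_mem _ hy) a).mp ha
    rwa [inv_inv] at this
  have h1 := Cfsg.Agent.Lead.Alp.pow_conj_eq (Q := (X : Set G)) hact hu (2 ^ j)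
  rw [Subgroup.mem_centralizer_iff]
  intro a ha
  have h2 := (h1 a ha).1
  rw [hj] at h2
  have h3 : (y ^ 2 ^ j)⁻¹ * a * y ^ 2 ^ j = a := by rw [h2]; group
  calc a * y ^ 2 ^ j = y ^ 2 ^ j * ((y ^ 2 ^ j)⁻¹ * a * y ^ 2 ^ j) := by group
    _ = y ^ 2 ^ j * a := by rw [h3]

/-- both automizers of order two: the automizers of the tame intersections are `2`-groups -/
theorem tame_two_pow (Q : Subgroup G) (hQS : Q ≤ S) (eQ : Q ≃* QuaternionGroup 2)
    (h₁ : (Subgroup.centralizer (U' d : Set G)).relIndex (Subgroup.normalizer (U' d : Set G)) = 2)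
    (h₂ : ((Q ⊔ Z' (S : Subgroup G)) ⊔
        Subgroup.centralizer ((Q ⊔ Z' (S : Subgroup G) : Subgroup G) : Set G)).relIndex
        (Subgroup.normalizer ((Q ⊔ Z' (S : Subgroup G) : Subgroup G) : Set G)) = 2)
    (T : Subgroup G) (hTS : T ≤ (S : Subgroup G))
    (hPN : Nat.card ((S : Subgroup G) ⊓ Subgroup.normalizer (T : Set G) : Subgroup G) =
      2 ^ (Nat.card (Subgroup.normalizer (T : Set G))).factorization 2) :
    ∃ k : ℕ, (Subgroup.centralizer (T : Set G)).relIndex (Subgroup.normalizer (T : Set G)) =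
      2 ^ k := by
  obtain ⟨X, hXdef⟩ : ∃ X : Subgroup G,
      X = T ⊔ ((S : Subgroup G) ⊓ Subgroup.centralizer (T : Set G)) := ⟨_, rfl⟩
  have hXS : X ≤ (S : Subgroup G) := by rw [hXdef]; exact sup_le hTS inf_le_left
  have hTX : T ≤ X := by rw [hXdef]; exact le_sup_left
  have hC : ∀ s ∈ (S : Subgroup G), (∀ x ∈ X, x * s = s * x) → s ∈ X := by
    intro s hs hcomm
    rw [hXdef]
    apply Subgroup.mem_sup_right
    exact ⟨hs, Subgroup.mem_centralizer_iff.mpr (fun t ht => hcomm t (hTX ht))⟩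
  have hX : ∀ y ∈ Subgroup.normalizer (X : Set G), ∃ j : ℕ,
      y ^ (2 ^ j) ∈ Subgroup.centralizer (X : Set G) := by
    intro y hy
    by_cases hA : IsPGroup 2 (MulAut X)
    · obtain ⟨j, hj⟩ := hA (X.normalizerMonoidHom ⟨y, hy⟩)
      refine ⟨j, ?_⟩
      rw [← map_pow] at hj
      have h1 : (⟨y, hy⟩ : Subgroup.normalizer (X : Set G)) ^ (2 ^ j) ∈
          (X.normalizerMonoidHom).ker := MonoidHom.mem_ker.mpr hj
      rw [Subgroup.normalizerMonoidHom_ker X, Subgroup.mem_subgroupOf, Subgroup.coe_pow] at h1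
      exact h1
    · rcases classify' d X hXS hC hA with h | ⟨k, h⟩
      · rw [h] at hy ⊢
        obtain ⟨s, hs, hact⟩ := U_two_acts S d h₁ y hy
        exact pow_mem_centralizer_of_acts S _ y hy s hs hact
      · rw [h] at hy ⊢
        obtain ⟨s, hs, hact⟩ := Wd_two_acts S d Q hQS eQ h₂ k y hy
        exact pow_mem_centralizer_of_acts S _ y hy s hs hact
  rw [hXdef] at hX
  exact step_ppow S.isPGroup' hPN hX

theorem normal_complement_two_two (Q : Subgroup G) (hQS : Q ≤ S) (eQ : Q ≃* QuaternionGroup 2)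
    (h₁ : (Subgroup.centralizer (U' d : Set G)).relIndex (Subgroup.normalizer (U' d : Set G)) = 2)
    (h₂ : ((Q ⊔ Z' (S : Subgroup G)) ⊔
        Subgroup.centralizer ((Q ⊔ Z' (S : Subgroup G) : Subgroup G) : Set G)).relIndex
        (Subgroup.normalizer ((Q ⊔ Z' (S : Subgroup G) : Subgroup G) : Set G)) = 2) :
    Cfsg.HasNormalPComplement 2 G := by
  apply Cfsg.Agent.Lead.Alp.hasNormalPComplement_of_tame S
  intro Q' _ htame
  obtain ⟨k, hk⟩ := tame_two_pow S d Q hQS eQ h₁ h₂ ((S : Subgroup G) ⊓ (Q' : Subgroup G))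
    inf_le_left
    (Cfsg.Agent.Lead.card_eq_ppart_of_relIndex inf_le_right (S.isPGroup'.to_le inf_le_left)
      htame.1)
  exact IsPGroup.of_card (n := k) hk

theorem three_classes (Q : Subgroup G) (hQS : Q ≤ S) (eQ : Q ≃* QuaternionGroup 2)
    (h₁ : (Subgroup.centralizer (U' d : Set G)).relIndex (Subgroup.normalizer (U' d : Set G)) = 2)
    (h₂ : ((Q ⊔ Z' (S : Subgroup G)) ⊔
        Subgroup.centralizer ((Q ⊔ Z' (S : Subgroup G) : Subgroup G) : Set G)).relIndex
        (Subgroup.normalizer ((Q ⊔ Z' (S : Subgroup G) : Subgroup G) : Set G)) = 2) :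
    Nat.card {C : ConjClasses G // ∃ t : G, orderOf t = 2 ∧ ConjClasses.mk t = C} = 3 := by
  have key : ∀ t ∈ (S : Subgroup G), ∀ t' ∈ (S : Subgroup G), IsConj t t' →
      ∃ s ∈ (S : Subgroup G), t' = s⁻¹ * t * s := by
    intro t ht t' ht' hc
    obtain ⟨g, hg⟩ := isConj_iff.mp hc
    have h1 : g⁻¹⁻¹ * t * g⁻¹ = t' := by rw [inv_inv]; exact hg
    obtain ⟨s, hs, h2⟩ := fusion_in_S S d Q hQS eQ h₁ h₂ t ht g⁻¹ (by rw [h1]; exact ht')
    exact ⟨s, hs, by rw [← h1, h2]⟩
  apply Cfsg.Agent.Helper2.ClassCount.card_eq_three (fun t => orderOf t = 2) (c d) (a d) (z d)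
    (orderOf_c d) (orderOf_a d) (orderOf_z d) ?_ ?_ ?_ (invol_conj S d)
  · intro hc
    obtain ⟨s, hs, h⟩ := key _ (c_mem d) _ (a_mem d) hc
    have h1 := c_central d s hs
    apply a_ne_c d
    rw [h]
    calc s⁻¹ * c d * s = s⁻¹ * (c d * s) := by group
      _ = s⁻¹ * (s * c d) := by rw [h1]
      _ = c d := by group
  · intro hc
    obtain ⟨s, hs, h⟩ := key _ (c_mem d) _ (z_mem d) hc
    have h1 := c_central d s hs
    have h2 : z d = c d := by
      rw [h]
      calc s⁻¹ * c d * s = s⁻¹ * (c d * s) := by group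
        _ = s⁻¹ * (s * c d) := by rw [h1]
        _ = c d := by group
    exact A_ne_B d _ _ _ _ h2.symm
  · intro hc
    obtain ⟨s, hs, h⟩ := key _ (a_mem d) _ (z_mem d) hc
    have h1 := (Subgroup.mem_normalizer_iff.mp (U'_normal_in d (Subgroup.inv_mem _ hs)) (a d)).mp
      (a_mem_U' d)
    rw [inv_inv, ← h] at h1
    exact B_not_mem_U' d _ _ h1

end Cfsg.Agent.Helper2.WF
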