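import Mathlib
import Cfsg.Agent.Helper2.WF20

set_option autoImplicit false

/-! Wreathed Sylow `2`-subgroup, automizer of `U'` of order six and automizer of `V` of order two
modulo inner automorphisms: a normal subgroup of index two and two classes of involutions. -/

namespace Cfsg.Agent.Helper2.WF

open Cfsg.Agent.Helper2.Wr Cfsg.Agent.Helper2.QDF

variable {G : Type*} [Group G] [Finite G]

/-- a subgroup of index two contains every element `v⁻¹ (g v g⁻¹)` -/
theorem comm_mem_of_index_two {K : Type*} [Group K] (H : Subgroup K) (hH : H.index = 2)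
    (g v : K) : v⁻¹ * (g * v * g⁻¹) ∈ H := by
  haveI : H.Normal := Subgroup.normal_of_index_eq_two hH
  apply (Subgroup.mul_mem_iff_of_index_two hH).mpr
  constructor
  · intro h
    exact ‹H.Normal›.conj_mem _ (by simpa using H.inv_mem h) g
  · intro h
    have h2 : g⁻¹ * (g * v * g⁻¹) * g⁻¹⁻¹ ∈ H := ‹H.Normal›.conj_mem _ h g⁻¹
    have e : g⁻¹ * (g * v * g⁻¹) * g⁻¹⁻¹ = v := by group
    rw [e] at h2
    exact H.inv_mem h2

variable (S : Sylow 2 G) (d : WDat ↥(S : Subgroup G))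

/-- a fixed-point-free element of the normalizer of `U'`: every element of `U'` is a commutator -/
theorem comm_surj (g : G) (hgN : g ∈ Subgroup.normalizer (U' d : Set G))
    (hfix : ∀ u ∈ U' d, g * u * g⁻¹ = u → u = 1) :
    ∀ u ∈ U' d, ∃ v ∈ U' d, u = v⁻¹ * (g * v * g⁻¹) := by
  classical
  have hconjU : ∀ u ∈ U' d, g * u * g⁻¹ ∈ U' d := fun u hu =>
    (Subgroup.mem_normalizer_iff.mp hgN u).mp hu
  let θ : U' d → U' d := fun u => ⟨(u : G)⁻¹ * (g * u * g⁻¹),
    (U' d).mul_mem ((U' d).inv_mem u.2) (hconjU u u.2)⟩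
  have hθinj : Function.Injective θ := by
    intro u v huv
    have h1 : (u : G)⁻¹ * (g * u * g⁻¹) = (v : G)⁻¹ * (g * v * g⁻¹) := congrArg Subtype.val huv
    have hw : (u : G) * (v : G)⁻¹ ∈ U' d := (U' d).mul_mem u.2 ((U' d).inv_mem v.2)
    have h2 : g * ((u : G) * (v : G)⁻¹) * g⁻¹ = (u : G) * (v : G)⁻¹ := by
      have e1 : g * ((u : G) * (v : G)⁻¹) * g⁻¹ = (g * u * g⁻¹) * (g * v * g⁻¹)⁻¹ := by group
      have e2 : g * u * g⁻¹ = (u : G) * ((v : G)⁻¹ * (g * v * g⁻¹)) := by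
        rw [← h1]; group
      rw [e1]
      generalize g * (v : G) * g⁻¹ = w at e2 ⊢
      rw [e2]; group
    have h3 := hfix _ hw h2
    apply Subtype.ext
    calc (u : G) = (u : G) * (v : G)⁻¹ * v := by group
      _ = v := by rw [h3, one_mul]
  have hθsurj : Function.Surjective θ := Finite.injective_iff_surjective.mp hθinj
  intro u hu
  obtain ⟨v, hv⟩ := hθsurj ⟨u, hu⟩
  exact ⟨v, v.2, (congrArg Subtype.val hv).symm⟩

/-- automizer of order six: a fixed-point-free element of the normalizer of `U'` inside a given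
subgroup of index two -/
theorem U_six_in
    (h₁ : (Subgroup.centralizer (U' d : Set G)).relIndex (Subgroup.normalizer (U' d : Set G)) = 6)
    (K : Subgroup G) (hK : K.index = 2) :
    ∃ g ∈ K, g ∈ Subgroup.normalizer (U' d : Set G) ∧ ∀ u ∈ U' d, g * u * g⁻¹ = u → u = 1 := by
  classical
  have h3 : 3 ∣ (Subgroup.centralizer (U' d : Set G)).relIndex
      (Subgroup.normalizer (U' d : Set G)) := by
    rw [h₁]; exact ⟨2, rfl⟩
  have hker : ((U' d).normalizerMonoidHom).ker.index =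
      (Subgroup.centralizer (U' d : Set G)).relIndex (Subgroup.normalizer (U' d : Set G)) := by
    rw [Subgroup.normalizerMonoidHom_ker (U' d)]
    rfl
  have h3' : 3 ∣ Nat.card ((U' d).normalizerMonoidHom).range := by
    rw [← Subgroup.index_ker, hker]; exact h3
  haveI : Fact (Nat.Prime 3) := ⟨Nat.prime_three⟩
  obtain ⟨σ', hσ'⟩ := exists_prime_orderOf_dvd_card' 3 h3'
  obtain ⟨σ, hσσ'⟩ : ∃ σ : MulAut (U' d), σ = (σ' : MulAut (U' d)) := ⟨_, rfl⟩
  obtain ⟨⟨g, hg⟩, hgσ'⟩ := σ'.2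
  have hgσ : (U' d).normalizerMonoidHom ⟨g, hg⟩ = σ := by rw [hσσ']; exact hgσ'
  have hσ : orderOf σ = 3 := by
    rw [hσσ', Subgroup.orderOf_coe]; exact hσ'
  have hact : ∀ x : U' d, ((σ x : U' d) : G) = g * x * g⁻¹ := by
    intro x
    rw [← hgσ]
    exact Subgroup.normalizerMonoidHom_apply_apply_coe (U' d) ⟨g, hg⟩ x
  have hσ3 : σ ^ 3 = 1 := by rw [← hσ]; exact pow_orderOf_eq_one σ
  have hg2N : g * g ∈ Subgroup.normalizer (U' d : Set G) := Subgroup.mul_mem _ hg hg
  have hact2 : ∀ x : U' d, (((σ ^ 2) x : U' d) : G) = (g * g) * x * (g * g)⁻¹ := by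
    intro x
    rw [pow_two, MulAut.mul_apply, hact, hact]; group
  refine ⟨g * g, sq_mem_of_index_two hK g, hg2N, ?_⟩
  refine (order_three_on_U S d (g * g) hg2N ?_ ?_).2
  · intro u hu
    have h1 : ((σ ^ 2) ^ 3) ⟨u, hu⟩ = ⟨u, hu⟩ := by
      rw [← pow_mul, show 2 * 3 = 3 * 2 by norm_num, pow_mul, hσ3, one_pow]; rfl
    have e : ((σ ^ 2) ^ 3) ⟨u, hu⟩ = (σ ^ 2) ((σ ^ 2) ((σ ^ 2) ⟨u, hu⟩)) := rfl
    rw [e] at h1
    have h2 := congrArg Subtype.val h1
    rw [hact2, hact2, hact2] at h2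
    exact h2
  · by_contra hno
    push Not at hno
    have h2 : σ ^ 2 = 1 := by
      apply MulEquiv.ext
      intro x
      apply Subtype.ext
      rw [hact2, MulAut.one_apply]
      exact hno x x.2
    have h1 : σ = 1 := by
      calc σ = σ ^ 3 * (σ ^ 2)⁻¹ := by group
        _ = 1 := by rw [hσ3, h2]; group
    rw [h1, orderOf_one] at hσ
    omega

/-- with automizer of `V` of order two modulo inner automorphisms, no conjugate of `z` lies
in `U'` -/
theorem z_not_conj_U' (Q : Subgroup G) (hQS : Q ≤ S) (eQ : Q ≃* QuaternionGroup 2)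
    (h₂ : ((Q ⊔ Z' (S : Subgroup G)) ⊔
        Subgroup.centralizer ((Q ⊔ Z' (S : Subgroup G) : Subgroup G) : Set G)).relIndex
        (Subgroup.normalizer ((Q ⊔ Z' (S : Subgroup G) : Subgroup G) : Set G)) = 2) :
    ∀ g : G, g * z d * g⁻¹ ∉ U' d := by
  intro g hgz
  have hS1 : ∀ b ∈ (S : Subgroup G), ∀ s ∈ (S : Subgroup G), b ∉ U' d → s⁻¹ * b * s ∉ U' d := by
    intro b _ s hs hb h
    apply hb
    have h1 := (Subgroup.mem_normalizer_iff.mp (U'_normal_in d hs) _).mp h
    have e : s * (s⁻¹ * b * s) * s⁻¹ = b := by group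
    rw [e] at h1
    exact h1
  have h := control S d (fun b => b ∉ U' d) hS1
    (fun b hb _ _ hPb => absurd hb hPb)
    (fun k b hb y hy hPb => by
      obtain ⟨t, ht, hact⟩ := Wd_two_acts S d Q hQS eQ h₂ k y hy
      rw [hact b hb]
      exact hS1 b (Wd_le d _ hb) t ht hPb)
    (z d) (z_mem d) g⁻¹ (by rw [inv_inv]; exact U'_le d hgz) (B_not_mem_U' d _ _)
  rw [inv_inv] at h
  exact h hgz

end Cfsg.Agent.Helper2.WF
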