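import Mathlib
import Cfsg.Agent.Helper2.WF21

set_option autoImplicit false

/-! Wreathed Sylow `2`-subgroup, automizers of orders six and two: main statement. -/

namespace Cfsg.Agent.Helper2.WF

open Cfsg.Agent.Helper2.Wr Cfsg.Agent.Helper2.QDF

variable {G : Type*} [Group G] [Finite G] (S : Sylow 2 G) (d : WDat ↥(S : Subgroup G))

theorem six_two (Q : Subgroup G) (hQS : Q ≤ S) (eQ : Q ≃* QuaternionGroup 2)
    (h₁ : (Subgroup.centralizer (U' d : Set G)).relIndex (Subgroup.normalizer (U' d : Set G)) = 6)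
    (h₂ : ((Q ⊔ Z' (S : Subgroup G)) ⊔
        Subgroup.centralizer ((Q ⊔ Z' (S : Subgroup G) : Subgroup G) : Set G)).relIndex
        (Subgroup.normalizer ((Q ⊔ Z' (S : Subgroup G) : Subgroup G) : Set G)) = 2) :
    (∃ K : Subgroup G, K.Normal ∧ K.index = 2 ∧ U' d ≤ K ∧ (∀ H : Subgroup ↥K, H.index ≠ 2)) ∧
      Nat.card {C : ConjClasses G // ∃ t : G, orderOf t = 2 ∧ ConjClasses.mk t = C} = 2 := by
  have hcon := z_not_conj_U' S d Q hQS eQ h₂
  have hord : ∀ y ∈ (S : Subgroup G), y ∉ U' d → 2 ^ (1 - 1) < orderOf y := by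
    intro y _ hy
    have hy1 : y ≠ 1 := fun h => hy (h ▸ Subgroup.one_mem _)
    have h1 : orderOf y ≠ 1 := by rwa [Ne, orderOf_eq_one_iff]
    have h2 := orderOf_pos y
    simp only [Nat.sub_self, pow_zero]
    omega
  obtain ⟨K, hKn, hKi, hzK⟩ := transfer_normal S (U' d) (relIndex_U' d) 1 hord (z d)
    (by rw [orderOf_z, pow_one]) hcon
  have hUK := U'_le_of_index_two S d h₁ K hKi
  refine ⟨⟨K, hKn, hKi, hUK, ?_⟩, ?_⟩
  · intro H hH
    obtain ⟨g, hgK, hgN, hfix⟩ := U_six_in S d h₁ K hKi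
    have hsurj := comm_surj S d g hgN hfix
    have hUH : (U' d).subgroupOf K ≤ H := by
      intro u hu
      obtain ⟨v, hv, huv⟩ := hsurj (u : G) (Subgroup.mem_subgroupOf.mp hu)
      have : u = (⟨v, hUK hv⟩ : K)⁻¹ * (⟨g, hgK⟩ * ⟨v, hUK hv⟩ * (⟨g, hgK⟩ : K)⁻¹) := by
        apply Subtype.ext
        rw [huv]; rfl
      rw [this]
      exact comm_mem_of_index_two H hH _ _
    have h1 := Subgroup.index_dvd_of_le hUH
    rw [hH] at h1
    have h2 : (U' d).relIndex K = (S : Subgroup G).index := by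
      have e1 := card_eq_relIndex_mul_card (U' d) K hUK
      have e2 := K.card_mul_index
      rw [hKi] at e2
      have e3 := (S : Subgroup G).card_mul_index
      have e4 : Nat.card (S : Subgroup G) = 2 * Nat.card (U' d) := by
        rw [d.card, card_U', pow_succ, mul_comm]
      rw [e1] at e2
      rw [e4, ← e2] at e3
      have hpos : 0 < Nat.card (U' d) * 2 := by
        have : 0 < Nat.card (U' d) := Nat.card_pos
        omega
      have e5 : (S : Subgroup G).index * (Nat.card (U' d) * 2) =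
          (U' d).relIndex K * (Nat.card (U' d) * 2) := by
        rw [← mul_assoc ((U' d).relIndex K), ← e3]; ring
      exact (Nat.eq_of_mul_eq_mul_right hpos e5).symm
    have h3 : ((U' d).subgroupOf K).index = (S : Subgroup G).index := h2
    rw [h3] at h1
    exact S.not_dvd_index h1
  · obtain ⟨g₁, hg₁⟩ := c_conj_a S d h₁
    have hca : IsConj (c d) (a d) := isConj_iff.mpr ⟨g₁, hg₁⟩
    apply Cfsg.Agent.Helper2.ClassCount.card_eq_two (fun t => orderOf t = 2) (c d) (z d)
      (orderOf_c d) (orderOf_z d)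
    · intro hc
      obtain ⟨g, hg⟩ := isConj_iff.mp hc
      apply hcon g⁻¹
      have : g⁻¹ * z d * g⁻¹⁻¹ = c d := by rw [← hg]; group
      rw [this]; exact c_mem_U' d
    · intro t ht
      rcases invol_conj S d t ht with h | h | h
      · left; exact h
      · left; exact h.trans hca.symm
      · right; exact h

end Cfsg.Agent.Helper2.WF
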