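import Mathlib
import Cfsg.Agent.Helper2.WF22

set_option autoImplicit false

/-! The generalized quaternion subgroup `Y'` of a wreathed Sylow `2`-subgroup as focal subgroup
(automizer of `U'` of order two, automizer of `V` of order six modulo inner automorphisms). -/

namespace Cfsg.Agent.Helper2.WF

open Cfsg.Agent.Helper2.Wr Cfsg.Agent.Helper2.QDF
open scoped commutatorElement

variable {G : Type*} [Group G] [Finite G]

section basic

variable {S : Subgroup G} (d : WDat ↥S)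

/-- the generalized quaternion subgroup, in `G` -/
def Y' : Subgroup G := d.Y.map S.subtype

theorem A_mem_Y' (i j : ZMod (2 ^ d.n)) : A d i j ∈ Y' d ↔ i + j = 0 := by
  constructor
  · rintro ⟨t, ht, h⟩
    have : t = d.A i j := Subtype.ext h
    rw [this] at ht
    exact (d.A_mem_Y_iff i j).mp ht
  · intro h; exact ⟨d.A i j, (d.A_mem_Y_iff i j).mpr h, rfl⟩

theorem B_mem_Y' (i j : ZMod (2 ^ d.n)) : B d i j ∈ Y' d ↔ i + j = d.h := by
  constructor
  · rintro ⟨t, ht, h⟩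
    have : t = d.B i j := Subtype.ext h
    rw [this] at ht
    exact (d.B_mem_Y_iff i j).mp ht
  · intro h; exact ⟨d.B i j, (d.B_mem_Y_iff i j).mpr h, rfl⟩

theorem Y'_le : Y' d ≤ S := Subgroup.map_subtype_le _

theorem card_Y' : Nat.card (Y' d) = 2 ^ (d.n + 1) := by
  unfold Y'
  rw [Subgroup.card_map_of_injective S.subtype_injective, d.card_Y]

theorem Y'_equiv : Nonempty (Y' d ≃* QuaternionGroup (2 ^ (d.n - 1))) := by
  obtain ⟨e⟩ := d.Y_equiv
  exact ⟨(Subgroup.equivMapOfInjective d.Y S.subtype S.subtype_injective).symm.trans e⟩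

theorem Y'_conj (s : G) (hs : s ∈ S) (y : G) (hy : y ∈ Y' d) : s * y * s⁻¹ ∈ Y' d := by
  obtain ⟨t, ht, rfl⟩ := hy
  haveI := d.Y_normal
  exact ⟨⟨s, hs⟩ * t * ⟨s, hs⟩⁻¹, ‹d.Y.Normal›.conj_mem t ht ⟨s, hs⟩, rfl⟩

theorem comm_mem_Y' (b s : G) (hb : b ∈ S) (hs : s ∈ S) : b⁻¹ * s⁻¹ * b * s ∈ Y' d := by
  have h1 : ⁅(⟨b, hb⟩ : ↥S)⁻¹, (⟨s, hs⟩ : ↥S)⁻¹⁆ ∈ commutator ↥S := by
    rw [commutator_def]
    exact Subgroup.commutator_mem_commutator (Subgroup.mem_top _) (Subgroup.mem_top _)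
  rw [d.commutator_eq] at h1
  have h2 : Subgroup.zpowers (d.A 1 (-1)) ≤ d.Y := by
    rw [Subgroup.zpowers_le, d.A_mem_Y_iff]; ring
  refine ⟨_, h2 h1, ?_⟩
  rw [commutatorElement_def]
  simp only [inv_inv, Subgroup.coe_subtype, Subgroup.coe_mul, Subgroup.coe_inv]

/-- quaternion subgroups of order eight lie in `Y'` -/
theorem Q_le_Y' (Q : Subgroup G) (hQS : Q ≤ S) (eQ : Q ≃* QuaternionGroup 2) : Q ≤ Y' d := by
  obtain ⟨-, hsq, hsq1, -, -, hcen⟩ := quat_wr d Q hQS eQ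
  intro x hx
  rcases nf d x (hQS hx) with ⟨r, s, rfl⟩ | ⟨k, l, rfl⟩
  · rw [A_mem_Y']
    rcases hsq _ hx with h | h
    · rcases hsq1 _ hx h with h1 | h1
      · rw [A_eq_one_iff] at h1
        rw [h1.1, h1.2, add_zero]
      · have := A_inj d h1
        rw [this.1, this.2, d.h_add_h]
    · have h0 := h
      rw [A_mul_A] at h
      have h2 := A_inj d h
      have hne : r ≠ s := by
        intro hrs
        have hc : A d r s = 1 ∨ A d r s = c d := hcen _ hx (fun g hg => by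
          rw [hrs]; exact (diag_central d s g (hQS hg)).symm)
        rcases hc with h3 | h3
        · rw [h3, mul_one] at h0
          exact c_ne_one d h0.symm
        · rw [h3, c_sq] at h0
          exact c_ne_one d h0.symm
      have h3 : 2 * (r - s) = 0 := by linear_combination h2.1 - h2.2
      rcases (d.two_mul_eq_zero_iff _).mp h3 with h4 | h4
      · exact absurd (sub_eq_zero.mp h4) hne
      · linear_combination h2.1 - h4
  · rw [B_mem_Y']
    rcases hsq _ hx with h | h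
    · exfalso
      rcases hsq1 _ hx h with h1 | h1
      · exact B_ne_one d _ _ h1
      · exact A_ne_B d _ _ _ _ h1.symm
    · rw [B_sq] at h
      exact (A_inj d h).1

end basic

variable (S : Sylow 2 G) (d : WDat ↥(S : Subgroup G))

/-- automizer of `U'` of order two: the focal subgroup lies in `Y'` -/
theorem focal_le_Y'
    (h₁ : (Subgroup.centralizer (U' d : Set G)).relIndex (Subgroup.normalizer (U' d : Set G)) = 2) :
    (S : Subgroup G).focalSubgroup ≤ Y' d := by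
  rw [Subgroup.focalSubgroup_def, Subgroup.closure_le]
  rintro g ⟨hgS, x, hxS, u, rfl⟩
  have hbS : u⁻¹⁻¹ * x * u⁻¹ ∈ (S : Subgroup G) := by
    have h1 := Subgroup.mul_mem _ (Subgroup.inv_mem _ hxS) hgS
    have e : x⁻¹ * ⁅x, u⁆ = (u⁻¹⁻¹ * x * u⁻¹)⁻¹ := by
      rw [commutatorElement_def]; group
    rw [e] at h1
    have := Subgroup.inv_mem _ h1
    rwa [inv_inv] at this
  have hS1 : ∀ b ∈ (S : Subgroup G), ∀ s ∈ (S : Subgroup G), x⁻¹ * b ∈ Y' d →
      x⁻¹ * (s⁻¹ * b * s) ∈ Y' d := by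
    intro b hb s hs hPb
    have h1 := comm_mem_Y' d b s hb hs
    have e : x⁻¹ * (s⁻¹ * b * s) = (x⁻¹ * b) * (b⁻¹ * s⁻¹ * b * s) := by group
    rw [e]; exact (Y' d).mul_mem hPb h1
  have hmain := control S d (fun b => x⁻¹ * b ∈ Y' d) hS1
    (fun b hb y hy hPb => by
      obtain ⟨t, ht, hact⟩ := U_two_acts S d h₁ y hy
      rw [hact b hb]
      exact hS1 b (U'_le d hb) t ht hPb)
    (fun k b hb y hy hPb => by
      obtain ⟨Q₁, hQ₁S, ⟨eQ₁⟩, hQ₁W⟩ := exists_quat d k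
      rw [← hQ₁W] at hb hy
      obtain ⟨q₀, hq₀, i, rfl⟩ := mem_V d Q₁ hQ₁S b hb
      have hyQ := normalizer_V_le_normalizer_Q S d Q₁ hQ₁S eQ₁ hy
      have hyZ := normalizer_V_le_centralizer_Z' S d Q₁ hQ₁S eQ₁ hy
      have h1 : y⁻¹ * q₀ * y ∈ Q₁ := by
        have := (Subgroup.mem_normalizer_iff.mp (Subgroup.inv_mem _ hyQ) q₀).mp hq₀
        rwa [inv_inv] at this
      have h2 : y⁻¹ * A d i i * y = A d i i :=
        conj_eq_of_mem_centralizer' hyZ ((mem_Z' d _).mpr ⟨_, rfl⟩)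
      have h3 : q₀⁻¹ * (y⁻¹ * q₀ * y) ∈ Y' d :=
        Q_le_Y' d Q₁ hQ₁S eQ₁ (Q₁.mul_mem (Q₁.inv_mem hq₀) h1)
      have hc := diag_central d i _ (Y'_le d h3)
      have e : x⁻¹ * (y⁻¹ * (q₀ * A d i i) * y) =
          (x⁻¹ * (q₀ * A d i i)) * ((A d i i)⁻¹ * (q₀⁻¹ * (y⁻¹ * q₀ * y)) *
            (y⁻¹ * A d i i * y)) := by group
      rw [e, h2]
      apply (Y' d).mul_mem hPb
      have e2 : (A d i i)⁻¹ * (q₀⁻¹ * (y⁻¹ * q₀ * y)) * A d i i = q₀⁻¹ * (y⁻¹ * q₀ * y) := by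
        rw [mul_assoc, ← hc]; group
      rw [e2]; exact h3)
    x hxS u⁻¹ hbS (by rw [inv_mul_cancel]; exact Subgroup.one_mem _)
  have e : ⁅x, u⁆ = x * (x⁻¹ * (u⁻¹⁻¹ * x * u⁻¹))⁻¹ * x⁻¹ := by
    rw [commutatorElement_def]; group
  rw [SetLike.mem_coe, e]
  exact Y'_conj d x hxS _ ((Y' d).inv_mem hmain)

/-- automizer of `V` of order six modulo inner automorphisms: `Y'` lies in the focal subgroup -/
theorem Y'_le_focal (Q : Subgroup G) (hQS : Q ≤ S) (eQ : Q ≃* QuaternionGroup 2)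
    (h₂ : ((Q ⊔ Z' (S : Subgroup G)) ⊔
        Subgroup.centralizer ((Q ⊔ Z' (S : Subgroup G) : Subgroup G) : Set G)).relIndex
        (Subgroup.normalizer ((Q ⊔ Z' (S : Subgroup G) : Subgroup G) : Set G)) = 6) :
    Y' d ≤ (S : Subgroup G).focalSubgroup := by
  have hgen : ∀ x ∈ (S : Subgroup G), ∀ u : G, ⁅x, u⁆ ∈ (S : Subgroup G) →
      ⁅x, u⁆ ∈ (S : Subgroup G).focalSubgroup := by
    intro x hx u hxu
    rw [Subgroup.focalSubgroup_def]
    exact Subgroup.subset_closure ⟨hxu, x, hx, u, rfl⟩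
  have hA : ∀ i, A d i (-i) ∈ (S : Subgroup G).focalSubgroup := by
    intro i
    have e : A d i (-i) = ⁅A d i 0, z d⁆ := by
      rw [commutatorElement_def, conj_z]
      unfold z
      rw [B_inv, B_mul_B]
      congr 1 <;> ring
    rw [e]
    apply hgen _ (A_mem d _ _)
    rw [← e]; exact A_mem d _ _
  obtain ⟨g, hg⟩ := V_six S d Q hQS eQ h₂
  have hB : B d d.h 0 ∈ (S : Subgroup G).focalSubgroup := by
    have e : B d d.h 0 = ⁅a d, g⁆ := by
      rw [commutatorElement_def]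
      have : a d * g * (a d)⁻¹ * g⁻¹ = a d * (g * a d * g⁻¹)⁻¹ := by group
      rw [this, hg]
      unfold a z
      rw [B_inv, A_mul_B]
      congr 1 <;> ring
    rw [e]
    apply hgen _ (a_mem d)
    rw [← e]; exact B_mem d _ _
  intro y hy
  rcases nf d y (Y'_le d hy) with ⟨i, j, rfl⟩ | ⟨k, l, rfl⟩
  · have hij := (A_mem_Y' d i j).mp hy
    have : j = -i := by linear_combination hij
    rw [this]; exact hA i
  · have hkl := (B_mem_Y' d k l).mp hy
    have : B d k l = A d (k - d.h) (-(k - d.h)) * B d d.h 0 := by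
      rw [A_mul_B]
      congr 1
      · ring
      · linear_combination hkl
    rw [this]
    exact Subgroup.mul_mem _ (hA _) hB

end Cfsg.Agent.Helper2.WF
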