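import Mathlib
import Cfsg.Agent.Helper2.WF23

set_option autoImplicit false

/-! The kernel of the transfer into `S / S*` for a wreathed Sylow `2`-subgroup with automizers of
orders two and six. -/

namespace Cfsg.Agent.Helper2.WF

open Cfsg.Agent.Helper2.Wr Cfsg.Agent.Helper2.QDF

section general

variable {G : Type*} [Group G]

theorem map_conj_mem {K : Subgroup G} {H : Subgroup ↥K} (hH : H.index = 2) (k x : G)
    (hk : k ∈ K) (hx : x ∈ H.map K.subtype) : k * x * k⁻¹ ∈ H.map K.subtype := by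
  haveI : H.Normal := Subgroup.normal_of_index_eq_two hH
  obtain ⟨t, ht, rfl⟩ := hx
  exact ⟨⟨k, hk⟩ * t * ⟨k, hk⟩⁻¹, ‹H.Normal›.conj_mem t ht _, rfl⟩

theorem map_conj_mem_iff {K : Subgroup G} {H : Subgroup ↥K} (hH : H.index = 2) (k x : G)
    (hk : k ∈ K) : k * x * k⁻¹ ∈ H.map K.subtype ↔ x ∈ H.map K.subtype := by
  constructor
  · intro h
    have := map_conj_mem hH k⁻¹ _ (K.inv_mem hk) h
    have e : k⁻¹ * (k * x * k⁻¹) * k⁻¹⁻¹ = x := by group
    rwa [e] at this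
  · exact map_conj_mem hH k x hk

theorem map_mul_mem_iff {K : Subgroup G} {H : Subgroup ↥K} (hH : H.index = 2) (x y : G)
    (hx : x ∈ K) (hy : y ∈ K) :
    x * y ∈ H.map K.subtype ↔ (x ∈ H.map K.subtype ↔ y ∈ H.map K.subtype) := by
  have h1 : ∀ t (ht : t ∈ K), t ∈ H.map K.subtype ↔ (⟨t, ht⟩ : K) ∈ H := by
    intro t ht
    exact Subgroup.mem_map_iff_mem K.subtype_injective (x := ⟨t, ht⟩)
  rw [h1 x hx, h1 y hy, h1 (x * y) (K.mul_mem hx hy)]
  exact Subgroup.mul_mem_iff_of_index_two hH (a := ⟨x, hx⟩) (b := ⟨y, hy⟩)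

theorem mem_of_odd_order (K : Subgroup G) [K.Normal] (n : ℕ) (hK : K.index = 2 ^ n) (g : G)
    (m : ℕ) (hm : Odd m) (hgm : g ^ m = 1) : g ∈ K := by
  rw [← QuotientGroup.eq_one_iff]
  have h1 : (g : G ⧸ K) ^ m = 1 := by rw [← QuotientGroup.mk_pow, hgm]; rfl
  have h2 : (g : G ⧸ K) ^ (2 ^ n) = 1 := by
    rw [← QuotientGroup.mk_pow, QuotientGroup.eq_one_iff, ← hK]
    exact Subgroup.pow_index_mem K g
  have h3 := orderOf_dvd_of_pow_eq_one h1
  have h4 := orderOf_dvd_of_pow_eq_one h2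
  have h5 : Nat.Coprime m (2 ^ n) := Nat.Coprime.pow_right _ (Nat.coprime_two_right.mpr hm)
  have h6 := Nat.dvd_gcd h3 h4
  rw [h5] at h6
  exact orderOf_eq_one_iff.mp (Nat.dvd_one.mp h6)

end general

variable {G : Type*} [Group G] [Finite G] (S : Sylow 2 G) (d : WDat ↥(S : Subgroup G))

theorem index_ker_transferFocal :
    ((S : Subgroup G).transferFocal).ker.index =
      (S : Subgroup G).focalSubgroup.relIndex (S : Subgroup G) := by
  rw [Subgroup.index_ker]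
  have : (S : Subgroup G).transferFocal.range = ⊤ :=
    MonoidHom.range_eq_top.mpr (Subgroup.transferFocal_surjective S)
  rw [this, Subgroup.card_top, ← Subgroup.index_eq_card]
  rfl

theorem no_index_two_K (Q : Subgroup G) (hQS : Q ≤ S) (eQ : Q ≃* QuaternionGroup 2)
    (h₂ : ((Q ⊔ Z' (S : Subgroup G)) ⊔
        Subgroup.centralizer ((Q ⊔ Z' (S : Subgroup G) : Subgroup G) : Set G)).relIndex
        (Subgroup.normalizer ((Q ⊔ Z' (S : Subgroup G) : Subgroup G) : Set G)) = 6)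
    (K : Subgroup G) [K.Normal] (hKi : K.index = 2 ^ d.n) (hKS : K ⊓ (S : Subgroup G) = Y' d)
    (H : Subgroup ↥K) : H.index ≠ 2 := by
  classical
  intro hH
  -- an element of odd order in `N(V)` outside `C(V)`
  obtain ⟨g, m, hm, hgm, hgN, hgC⟩ : ∃ (g : G) (m : ℕ), Odd m ∧ g ^ m = 1 ∧
      g ∈ Subgroup.normalizer ((Q ⊔ Z' (S : Subgroup G) : Subgroup G) : Set G) ∧
      g ∉ Subgroup.centralizer ((Q ⊔ Z' (S : Subgroup G) : Subgroup G) : Set G) := by
    set V := Q ⊔ Z' (S : Subgroup G) with hV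
    set N := Subgroup.normalizer (V : Set G) with hN
    set C := Subgroup.centralizer (V : Set G) with hC
    have hVN : V ≤ N := Subgroup.le_normalizer
    have hCN : C ≤ N := Subgroup.centralizer_le_normalizer _
    haveI hCn : (C.subgroupOf N).Normal := by
      rw [hC, hN, ← Subgroup.normalizerMonoidHom_ker]
      exact MonoidHom.normal_ker _
    haveI hVn : (V.subgroupOf N).Normal := Subgroup.normal_in_normalizer
    haveI hHn : ((V ⊔ C).subgroupOf N).Normal := by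
      rw [Subgroup.subgroupOf_sup hVN hCN]
      infer_instance
    have hcard : Nat.card (N ⧸ (V ⊔ C).subgroupOf N) = 6 := h₂
    haveI : Fact (Nat.Prime 3) := ⟨Nat.prime_three⟩
    obtain ⟨gbar, hgbar⟩ := exists_prime_orderOf_dvd_card' 3
      (show 3 ∣ Nat.card (N ⧸ (V ⊔ C).subgroupOf N) by rw [hcard]; norm_num)
    obtain ⟨⟨g₀, hg₀N⟩, rfl⟩ := QuotientGroup.mk_surjective gbar
    have ho : orderOf g₀ ≠ 0 := (orderOf_pos g₀).ne'
    obtain ⟨k, m, hm, hkm⟩ := Nat.exists_eq_two_pow_mul_odd ho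
    refine ⟨g₀ ^ (2 ^ k), m, hm, ?_, N.pow_mem hg₀N _, ?_⟩
    · rw [← pow_mul, ← hkm, pow_orderOf_eq_one]
    · intro h
      have h' : g₀ ^ (2 ^ k) ∈ V ⊔ C := le_sup_right (a := V) h
      have h1 : (QuotientGroup.mk ⟨g₀, hg₀N⟩ : N ⧸ (V ⊔ C).subgroupOf N) ^ (2 ^ k) = 1 := by
        rw [← QuotientGroup.mk_pow, QuotientGroup.eq_one_iff, Subgroup.mem_subgroupOf,
          Subgroup.coe_pow]
        exact h'
      have h2 := orderOf_dvd_of_pow_eq_one h1
      rw [hgbar] at h2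
      have := Nat.Prime.dvd_of_dvd_pow Nat.prime_three h2
      omega
  obtain ⟨i, hi⟩ := V_odd S d Q hQS eQ g m hm hgm hgN hgC
  have hgK : g ∈ K := mem_of_odd_order K d.n hKi g m hm hgm
  obtain ⟨-, -, -, ⟨r, s, hrs, hAQ⟩, -, -⟩ := quat_wr d Q hQS eQ
  have hAY := Q_le_Y' d Q hQS eQ hAQ
  rw [A_mem_Y'] at hAY
  have hs : s = -r := by linear_combination hAY
  subst hs
  have h2r : 2 * r = d.h := by linear_combination hrs
  have ha : a d = A d r (-r) * A d r r := by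
    unfold a; rw [A_mul_A]
    congr 1
    · linear_combination -h2r
    · ring
  have hgZ := normalizer_V_le_centralizer_Z' S d Q hQS eQ hgN
  have hfix : g * A d r r * g⁻¹ = A d r r := by
    have h1 : g⁻¹⁻¹ * A d r r * g⁻¹ = A d r r :=
      conj_eq_of_mem_centralizer' (Subgroup.inv_mem _ hgZ) ((mem_Z' d _).mpr ⟨_, rfl⟩)
    rwa [inv_inv] at h1
  have hJ : g * A d r (-r) * g⁻¹ = B d (i - r) (-i - r) := by
    have h1 : g * a d * g⁻¹ = (g * A d r (-r) * g⁻¹) * (g * A d r r * g⁻¹) := by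
      rw [ha]; group
    rw [hi, hfix] at h1
    have h2 : g * A d r (-r) * g⁻¹ = B d i (-i) * (A d r r)⁻¹ := by rw [h1]; group
    rw [h2, A_inv, B_mul_A]
    congr 1 <;> ring
  have hYK : Y' d ≤ K := by rw [← hKS]; exact inf_le_left
  have hAK : ∀ j, A d j (-j) ∈ K := fun j => hYK ((A_mem_Y' d _ _).mpr (by ring))
  have hBK : ∀ k l, k + l = d.h → B d k l ∈ K := fun k l hkl => hYK ((B_mem_Y' d _ _).mpr hkl)
  have hsum : (i - r) + (-i - r) = d.h := by
    have := d.two_h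
    linear_combination -h2r - this
  have hJ₁K : B d (i - r) (-i - r) ∈ K := hBK _ _ hsum
  have hJ'K : B d (i - r + 1) (-i - r - 1) ∈ K := hBK _ _ (by linear_combination hsum)
  set H' := H.map K.subtype with hH'
  have hg'K : A d 1 0 * g * (A d 1 0)⁻¹ ∈ K := ‹K.Normal›.conj_mem g hgK _
  have hJ' : (A d 1 0 * g * (A d 1 0)⁻¹) * A d r (-r) * (A d 1 0 * g * (A d 1 0)⁻¹)⁻¹ =
      B d (i - r + 1) (-i - r - 1) := by
    have h1 : (A d 1 0)⁻¹ * A d r (-r) * A d 1 0 = A d r (-r) := by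
      rw [mul_assoc, A_comm d r (-r) 1 0, ← mul_assoc, inv_mul_cancel, one_mul]
    calc (A d 1 0 * g * (A d 1 0)⁻¹) * A d r (-r) * (A d 1 0 * g * (A d 1 0)⁻¹)⁻¹
        = A d 1 0 * (g * ((A d 1 0)⁻¹ * A d r (-r) * A d 1 0) * g⁻¹) * (A d 1 0)⁻¹ := by group
      _ = B d (i - r + 1) (-i - r - 1) := by
        rw [h1, hJ, conj_A_B]
        congr 1 <;> ring
  have e1 : A d r (-r) ∈ H' ↔ B d (i - r) (-i - r) ∈ H' := by
    rw [← hJ]; exact (map_conj_mem_iff hH g _ hgK).symm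
  have e2 : A d r (-r) ∈ H' ↔ B d (i - r + 1) (-i - r - 1) ∈ H' := by
    rw [← hJ']; exact (map_conj_mem_iff hH _ _ hg'K).symm
  have h11 : A d 1 (-1) ∈ H' := by
    have e : A d 1 (-1) = B d (i - r + 1) (-i - r - 1) * (B d (i - r) (-i - r))⁻¹ := by
      rw [B_inv, B_mul_B]
      congr 1 <;> ring
    rw [e, map_mul_mem_iff hH _ _ hJ'K (K.inv_mem hJ₁K), inv_mem_iff, ← e1, ← e2]
  have hAH : ∀ j, A d j (-j) ∈ H' := by
    intro j
    have h1 := H'.pow_mem h11 j.val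
    rw [A_pow, ZMod.natCast_zmod_val] at h1
    have e : A d j (-j) = A d (j * 1) (j * -1) := by congr 1 <;> ring
    rw [e]; exact h1
  have hJ₁H : B d (i - r) (-i - r) ∈ H' := e1.mp (hAH r)
  apply no_index_two S K H ?_ hH
  intro x hxS
  have hx : (x : G) ∈ Y' d := by rw [← hKS]; exact ⟨x.2, hxS⟩
  have hxH' : (x : G) ∈ H' := by
    rcases nf d (x : G) hxS with ⟨k, l, hkl⟩ | ⟨k, l, hkl⟩
    · rw [hkl] at hx ⊢
      have h1 := (A_mem_Y' d k l).mp hx
      have : l = -k := by linear_combination h1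
      rw [this]; exact hAH k
    · rw [hkl] at hx ⊢
      have h1 := (B_mem_Y' d k l).mp hx
      have e : B d k l = A d (k - (i - r)) (-(k - (i - r))) * B d (i - r) (-i - r) := by
        rw [A_mul_B]
        congr 1
        · ring
        · have := d.two_h
          linear_combination h1 + h2r + this
      rw [e]; exact H'.mul_mem (hAH _) hJ₁H
  exact (Subgroup.mem_map_iff_mem K.subtype_injective).mp hxH'

theorem exists_K (Q : Subgroup G) (hQS : Q ≤ S) (eQ : Q ≃* QuaternionGroup 2)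
    (h₁ : (Subgroup.centralizer (U' d : Set G)).relIndex (Subgroup.normalizer (U' d : Set G)) = 2)
    (h₂ : ((Q ⊔ Z' (S : Subgroup G)) ⊔
        Subgroup.centralizer ((Q ⊔ Z' (S : Subgroup G) : Subgroup G) : Set G)).relIndex
        (Subgroup.normalizer ((Q ⊔ Z' (S : Subgroup G) : Subgroup G) : Set G)) = 6) :
    ∃ K : Subgroup G, K.Normal ∧ K.index = 2 ^ d.n ∧
      (∀ P : Sylow 2 ↥K, ∃ m : ℕ, 1 ≤ m ∧
        Nonempty ((P : Subgroup ↥K) ≃* QuaternionGroup (2 ^ m))) ∧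
      (∀ H : Subgroup ↥K, H.index ≠ 2) := by
  have hfoc : (S : Subgroup G).focalSubgroup = Y' d :=
    le_antisymm (focal_le_Y' S d h₁) (Y'_le_focal S d Q hQS eQ h₂)
  set K := ((S : Subgroup G).transferFocal).ker with hK
  haveI hKn : K.Normal := MonoidHom.normal_ker _
  have hKS : K ⊓ (S : Subgroup G) = Y' d := by
    rw [← hfoc]; exact Subgroup.ker_transferFocal_inf_eq_focalSubgroup S
  have hKi : K.index = 2 ^ d.n := by
    rw [hK, index_ker_transferFocal, hfoc]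
    have e1 := card_eq_relIndex_mul_card (Y' d) (S : Subgroup G) (Y'_le d)
    rw [d.card, card_Y'] at e1
    have e2 : 2 ^ (2 * d.n + 1) = 2 ^ d.n * 2 ^ (d.n + 1) := by rw [← pow_add]; congr 1; ring
    rw [e2] at e1
    exact (Nat.eq_of_mul_eq_mul_right (by positivity) e1).symm
  refine ⟨K, hKn, hKi, ?_, no_index_two_K S d Q hQS eQ h₂ K hKi hKS⟩
  intro P
  obtain ⟨e1⟩ := sylow_equiv_inf S K P
  obtain ⟨e2⟩ := Y'_equiv d
  have e3 : (S : Subgroup G) ⊓ K = Y' d := by rw [inf_comm]; exact hKS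
  refine ⟨d.n - 1, ?_, ⟨(e1.trans (MulEquiv.subgroupCongr e3)).trans e2⟩⟩
  have := d.hn
  omega

end Cfsg.Agent.Helper2.WF
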