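import Mathlib
import Cfsg.Agent.Helper2.WF24
import Cfsg.Prelude.Def_Transfer

set_option autoImplicit false

/-! Wreathed Sylow `2`-subgroup, automizers of orders two and six: main statement. -/

namespace Cfsg.Agent.Helper2.WF

open Cfsg.Agent.Helper2.Wr Cfsg.Agent.Helper2.QDF

variable {G : Type*} [Group G] [Finite G] (S : Sylow 2 G) (d : WDat ↥(S : Subgroup G))

/-- no fusion of central elements of `S` -/
theorem Z'_fusion
    (h₁ : (Subgroup.centralizer (U' d : Set G)).relIndex (Subgroup.normalizer (U' d : Set G)) = 2)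
    (ζ : G) (hζ : ζ ∈ Z' (S : Subgroup G)) (g : G) (hg : g⁻¹ * ζ * g ∈ (S : Subgroup G)) :
    g⁻¹ * ζ * g = ζ := by
  obtain ⟨i, rfl⟩ := (mem_Z' d ζ).mp hζ
  have hS1 : ∀ b ∈ (S : Subgroup G), ∀ s ∈ (S : Subgroup G), b = A d i i →
      s⁻¹ * b * s = A d i i := by
    intro b _ s hs hb
    rw [hb, mul_assoc, diag_central d i s hs, ← mul_assoc, inv_mul_cancel, one_mul]
  exact control S d (fun b => b = A d i i) hS1
    (fun b hb y hy hPb => by
      obtain ⟨t, ht, hact⟩ := U_two_acts S d h₁ y hy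
      rw [hact b hb]
      exact hS1 b (U'_le d hb) t ht hPb)
    (fun k b hb y hy hPb => by
      obtain ⟨Q₁, hQ₁S, ⟨eQ₁⟩, hQ₁W⟩ := exists_quat d k
      rw [← hQ₁W] at hy
      have hyZ := normalizer_V_le_centralizer_Z' S d Q₁ hQ₁S eQ₁ hy
      change y⁻¹ * b * y = A d i i
      rw [hPb]
      exact conj_eq_of_mem_centralizer' hyZ hζ)
    (A d i i) (A_mem d _ _) g hg rfl

theorem weakly_closed
    (h₁ : (Subgroup.centralizer (U' d : Set G)).relIndex (Subgroup.normalizer (U' d : Set G)) = 2)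
    (Z₀ : Subgroup G) (hZ₀ : Z₀ ≤ Z' (S : Subgroup G)) :
    Cfsg.IsWeaklyClosed Z₀ (S : Subgroup G) := by
  refine ⟨hZ₀.trans (Subgroup.map_subtype_le _), fun g hg => ?_⟩
  have hfix : ∀ ζ ∈ Z₀, g * ζ * g⁻¹ = ζ := by
    intro ζ hζ
    have h1 : g * ζ * g⁻¹ ∈ (S : Subgroup G) := hg ⟨ζ, hζ, rfl⟩
    have h2 := Z'_fusion S d h₁ ζ (hZ₀ hζ) g⁻¹ (by rwa [inv_inv])
    rwa [inv_inv] at h2
  ext x
  constructor
  · rintro ⟨ζ, hζ, rfl⟩
    change g * ζ * g⁻¹ ∈ Z₀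
    rw [hfix ζ hζ]; exact hζ
  · intro hx
    exact ⟨x, hx, hfix x hx⟩

theorem two_six (Q : Subgroup G) (hQS : Q ≤ S) (eQ : Q ≃* QuaternionGroup 2)
    (h₁ : (Subgroup.centralizer (U' d : Set G)).relIndex (Subgroup.normalizer (U' d : Set G)) = 2)
    (h₂ : ((Q ⊔ Z' (S : Subgroup G)) ⊔
        Subgroup.centralizer ((Q ⊔ Z' (S : Subgroup G) : Subgroup G) : Set G)).relIndex
        (Subgroup.normalizer ((Q ⊔ Z' (S : Subgroup G) : Subgroup G) : Set G)) = 6) :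
    (∃ K : Subgroup G, K.Normal ∧ K.index = 2 ^ d.n ∧
      (∀ P : Sylow 2 ↥K, ∃ m : ℕ, 1 ≤ m ∧
        Nonempty ((P : Subgroup ↥K) ≃* QuaternionGroup (2 ^ m))) ∧
      (∀ H : Subgroup ↥K, H.index ≠ 2)) ∧
    (∀ Z₀ : Subgroup G, Z₀ ≤ Z' (S : Subgroup G) → Cfsg.IsWeaklyClosed Z₀ (S : Subgroup G)) ∧
    Nat.card {C : ConjClasses G // ∃ t : G, orderOf t = 2 ∧ ConjClasses.mk t = C} = 2 := by
  refine ⟨exists_K S d Q hQS eQ h₁ h₂, weakly_closed S d h₁, ?_⟩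
  obtain ⟨g₁, hg₁⟩ := V_six S d Q hQS eQ h₂
  have haz : IsConj (a d) (z d) := isConj_iff.mpr ⟨g₁, hg₁⟩
  apply Cfsg.Agent.Helper2.ClassCount.card_eq_two (fun t => orderOf t = 2) (c d) (z d)
    (orderOf_c d) (orderOf_z d)
  · intro hc
    obtain ⟨g, hg⟩ := isConj_iff.mp hc
    have h1 := Z'_fusion S d h₁ (c d) (c_mem_Z' S d) g⁻¹
      (by rw [inv_inv, hg]; exact z_mem d)
    rw [inv_inv, hg] at h1
    unfold z c at h1
    exact A_ne_B d _ _ _ _ h1.symm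
  · intro t ht
    rcases invol_conj S d t ht with h | h | h
    · left; exact h
    · right; exact h.trans haz
    · right; exact h

end Cfsg.Agent.Helper2.WF
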