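import Mathlib
import Cfsg.Agent.Helper2.WF25
import Cfsg.Prelude.Def_CaseTheorems

set_option autoImplicit false

/-! General transport lemmas: wreathed / quasidihedral groups under isomorphisms, subgroups of
index two from normal subgroups of `2`-power index, conjugating Sylow subgroups. -/

namespace Cfsg.Agent.Helper2.WF

section iso

variable {S₁ S₂ : Type*} [Group S₁] [Group S₂]

theorem isWreathed_of_equiv (e : S₁ ≃* S₂) (h : Cfsg.IsWreathed S₁) : Cfsg.IsWreathed S₂ := by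
  obtain ⟨n, hn, hc, x, y, z, hx, hxy, hd, hz, hrel⟩ := h
  refine ⟨n, hn, ?_, e x, e y, e z, ?_, ?_, ?_, ?_, ?_⟩
  · rw [← hc]; exact Nat.card_congr e.symm.toEquiv
  · rw [MulEquiv.orderOf_eq]; exact hx
  · rw [← map_mul, ← map_mul, hxy]
  · rw [eq_bot_iff]
    rintro t ⟨⟨k, hk⟩, ⟨l, hl⟩⟩
    have hk' : e (x ^ k) = t := by rw [map_zpow]; exact hk
    have hl' : e (y ^ l) = t := by rw [map_zpow]; exact hl
    have h1 : x ^ k = y ^ l := e.injective (hk'.trans hl'.symm)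
    have h2 : x ^ k ∈ Subgroup.zpowers x ⊓ Subgroup.zpowers y :=
      ⟨⟨k, rfl⟩, ⟨l, h1.symm⟩⟩
    rw [hd, Subgroup.mem_bot] at h2
    rw [Subgroup.mem_bot, ← hk', h2, map_one]
  · rw [MulEquiv.orderOf_eq]; exact hz
  · rw [← map_inv, ← map_mul, ← map_mul, hrel]

theorem isQuasiDihedral_of_equiv (e : S₁ ≃* S₂) (h : Cfsg.IsQuasiDihedral S₁) :
    Cfsg.IsQuasiDihedral S₂ := by
  obtain ⟨n, hn, hc, x, y, hx, hy, hrel⟩ := h
  refine ⟨n, hn, ?_, e x, e y, ?_, ?_, ?_⟩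
  · rw [← hc]; exact Nat.card_congr e.symm.toEquiv
  · rw [MulEquiv.orderOf_eq]; exact hx
  · rw [MulEquiv.orderOf_eq]; exact hy
  · rw [← map_inv, ← map_mul, ← map_mul, hrel, map_pow]

end iso

section general

variable {G : Type*} [Group G] [Finite G]

/-- a normal subgroup of `2`-power index `> 1` yields a subgroup of index two -/
theorem exists_index_two_of_normal (K : Subgroup G) [K.Normal] (n : ℕ) (hn : 1 ≤ n)
    (hK : K.index = 2 ^ n) : ∃ H : Subgroup G, H.index = 2 := by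
  haveI : Fact (Nat.Prime 2) := ⟨Nat.prime_two⟩
  have hcard : Nat.card (G ⧸ K) = 2 ^ n := by rw [← Subgroup.index_eq_card]; exact hK
  obtain ⟨M, hM⟩ := Sylow.exists_subgroup_card_pow_prime (G := G ⧸ K) 2 (n := n - 1)
    (by rw [hcard]; exact pow_dvd_pow 2 (Nat.sub_le n 1))
  have hMi : M.index = 2 := by
    have h1 := M.card_mul_index
    rw [hM, hcard] at h1
    have h2 : 2 ^ n = 2 ^ (n - 1) * 2 := by
      rw [← pow_succ]; congr 1; omega
    rw [h2] at h1
    exact Nat.eq_of_mul_eq_mul_left (by positivity) h1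
  refine ⟨M.comap (QuotientGroup.mk' K), ?_⟩
  rw [Subgroup.index_comap_of_surjective _ (QuotientGroup.mk'_surjective K)]
  exact hMi

/-- a normal `2`-complement yields a subgroup of index two when the order is even -/
theorem exists_index_two_of_complement (h : Cfsg.HasNormalPComplement 2 G)
    (S : Sylow 2 G) (n : ℕ) (hn : 1 ≤ n) (hS : Nat.card S = 2 ^ n) :
    ∃ H : Subgroup G, H.index = 2 := by
  haveI : Fact (Nat.Prime 2) := ⟨Nat.prime_two⟩
  obtain ⟨P, N, hN, hc⟩ := h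
  haveI := hN
  have h1 : N.index = Nat.card P := hc.symm.index_eq_card
  have h2 : Nat.card P = Nat.card S := Nat.card_congr (Sylow.equiv P S).toEquiv
  exact exists_index_two_of_normal N n hn (by rw [h1, h2, hS])

/-- conjugating a Sylow subgroup so that a given conjugate of one of its central elements
becomes central -/
theorem exists_sylow_central (S : Sylow 2 G) (z₀ : G) (hz₀ : z₀ ∈ (S : Subgroup G))
    (hz₀c : ∀ s ∈ (S : Subgroup G), s * z₀ = z₀ * s) (g x : G) (hg : g * z₀ * g⁻¹ = x) :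
    ∃ S₁ : Sylow 2 G, Nonempty (↥(S : Subgroup G) ≃* ↥(S₁ : Subgroup G)) ∧
      x ∈ (S₁ : Subgroup G) ∧ ∀ s ∈ (S₁ : Subgroup G), s * x = x * s := by
  refine ⟨g • S, ⟨Sylow.equivSMul S g⟩, ?_, ?_⟩
  · rw [Sylow.coe_subgroup_smul, ← hg]
    exact ⟨z₀, hz₀, rfl⟩
  · intro s hs
    rw [Sylow.coe_subgroup_smul] at hs
    obtain ⟨t, ht, rfl⟩ := hs
    change g * t * g⁻¹ * x = x * (g * t * g⁻¹)
    rw [← hg]
    have := hz₀c t ht
    calc g * t * g⁻¹ * (g * z₀ * g⁻¹) = g * (t * z₀) * g⁻¹ := by group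
      _ = g * (z₀ * t) * g⁻¹ := by rw [this]
      _ = g * z₀ * g⁻¹ * (g * t * g⁻¹) := by group

theorem weaklyClosed_of_central (Z₀ R : Subgroup G) (hle : Z₀ ≤ R)
    (hc : ∀ ζ ∈ Z₀, ∀ g : G, g * ζ * g⁻¹ = ζ) : Cfsg.IsWeaklyClosed Z₀ R := by
  refine ⟨hle, fun g _ => ?_⟩
  ext y
  constructor
  · rintro ⟨ζ, hζ, rfl⟩
    change g * ζ * g⁻¹ ∈ Z₀
    rw [hc ζ hζ g]; exact hζ
  · intro hy
    exact ⟨y, hy, hc y hy g⟩

end general

end Cfsg.Agent.Helper2.WF
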