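import Mathlib
import Cfsg.Agent.Helper2.QDF6
import Cfsg.Agent.Helper2.WF26

set_option autoImplicit false

/-! Centralizer of an involution in a group with quasidihedral Sylow `2`-subgroups and no
subgroup of index two. -/

namespace Cfsg.Agent.Helper2.QDF

open Cfsg.Agent.Helper2.QD

variable {G : Type*} [Group G] [Finite G]

/-- no subgroup of index two: involutions are conjugate to the central involution -/
theorem all_invol_conj_qd (S : Sylow 2 G) (d : QDat ↥(S : Subgroup G))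
    (hG : ∀ H : Subgroup G, H.index ≠ 2) (t : G) (ht : orderOf t = 2) :
    ∃ g : G, g * Z d * g⁻¹ = t := by
  have h1 : ∃ g : G, g * Z d * g⁻¹ = B d 0 := by
    by_contra hno
    push Not at hno
    obtain ⟨K, -, hKi, -⟩ := transfer_one S d hno
    exact hG K hKi
  obtain ⟨g₁, hg₁⟩ := h1
  rcases invol_conj S d t ht with h | h
  · obtain ⟨g, hg⟩ := isConj_iff.mp h.symm
    exact ⟨g, hg⟩
  · obtain ⟨g, hg⟩ := isConj_iff.mp h.symm
    refine ⟨g * g₁, ?_⟩
    rw [← hg, ← hg₁]; group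

/-- no subgroup of index two: elements of order four are conjugate -/
theorem all_four_conj_qd (S : Sylow 2 G) (d : QDat ↥(S : Subgroup G))
    (hG : ∀ H : Subgroup G, H.index ≠ 2) (u v : G) (hu : orderOf u = 4) (hv : orderOf v = 4) :
    ∃ g : G, g * u * g⁻¹ = v := by
  have h1 : ∃ g : G, g * A d d.q * g⁻¹ = B d 1 := by
    by_contra hno
    push Not at hno
    obtain ⟨K, -, hKi, -⟩ := transfer_two S d hno
    exact hG K hKi
  have h1' : IsConj (A d d.q) (B d 1) := isConj_iff.mpr h1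
  have key : ∀ t : G, orderOf t = 4 → IsConj t (A d d.q) := by
    intro t ht
    rcases four_conj S d t ht with h | h
    · exact h
    · exact h.trans h1'.symm
  exact isConj_iff.mp ((key u hu).trans (key v hv).symm)

theorem qd_core (S₁ : Sylow 2 G) (hS₁ : Cfsg.IsQuasiDihedral ↥(S₁ : Subgroup G))
    (hG : ∀ H : Subgroup G, H.index ≠ 2) (x : G) (hx : orderOf x = 2)
    (hxS : x ∈ (S₁ : Subgroup G)) (hxc : ∀ s ∈ (S₁ : Subgroup G), s * x = x * s) :
    ∃ R : Sylow 2 ↥(Subgroup.centralizer ({x} : Set G)),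
      Nat.card R = Nat.card S₁ ∧
      (∃ K : Subgroup ↥(Subgroup.centralizer ({x} : Set G)), K.Normal ∧
        (∃ a : ℕ, K.index = 2 ^ a) ∧ (∀ H : Subgroup ↥K, H.index ≠ 2) ∧
        (∀ P : Sylow 2 ↥K, ∃ m : ℕ, 1 ≤ m ∧
          Nonempty ((P : Subgroup ↥K) ≃* QuaternionGroup (2 ^ m)))) ∧
      (∀ Z₀ : Subgroup ↥(Subgroup.centralizer ({x} : Set G)),
        Z₀ ≤ ((Subgroup.center (R : Subgroup ↥(Subgroup.centralizer ({x} : Set G)))).map
          (R : Subgroup ↥(Subgroup.centralizer ({x} : Set G))).subtype) →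
        Cfsg.IsWeaklyClosed Z₀ (R : Subgroup ↥(Subgroup.centralizer ({x} : Set G)))) := by
  set C := Subgroup.centralizer ({x} : Set G) with hC
  have hmemC : ∀ g : G, g ∈ C ↔ x * g = g * x := by
    intro g
    rw [hC, Subgroup.mem_centralizer_iff]
    constructor
    · intro h; exact h x rfl
    · intro h y hy
      rw [Set.mem_singleton_iff] at hy
      rw [hy]; exact h
  have hSC : (S₁ : Subgroup G) ≤ C := fun s hs => (hmemC s).mpr (hxc s hs).symm
  set R : Sylow 2 ↥C := S₁.subtype hSC with hR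
  have hRco : (R : Subgroup ↥C) = (S₁ : Subgroup G).subgroupOf C := rfl
  let eR : ↥(R : Subgroup ↥C) ≃* ↥(S₁ : Subgroup G) := Subgroup.subgroupOfEquivOfLe hSC
  have hcard : Nat.card R = Nat.card S₁ := Nat.card_congr eR.toEquiv
  have hRq : Cfsg.IsQuasiDihedral ↥(R : Subgroup ↥C) :=
    Cfsg.Agent.Helper2.WF.isQuasiDihedral_of_equiv eR.symm hS₁
  obtain ⟨d'⟩ := QD.exists_dat hRq
  obtain ⟨d₁⟩ := QD.exists_dat hS₁
  have hxC : x ∈ C := (hmemC x).mpr rfl
  have hx'R : (⟨x, hxC⟩ : ↥C) ∈ (R : Subgroup ↥C) := by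
    rw [hRco, Subgroup.mem_subgroupOf]; exact hxS
  have hx'c : ∀ g : ↥C, g * ⟨x, hxC⟩ = ⟨x, hxC⟩ * g := by
    intro g
    apply Subtype.ext
    exact ((hmemC g).mp g.2).symm
  have hxx : x * x = 1 := by
    have := pow_orderOf_eq_one x
    rwa [hx, pow_two] at this
  have hx1 : x ≠ 1 := by
    intro h
    rw [h, orderOf_one] at hx
    omega
  have hW : (Subgroup.center ↥(R : Subgroup ↥C)).map (R : Subgroup ↥C).subtype =
      Subgroup.zpowers (Z d') := by
    rw [d'.center_eq, MonoidHom.map_zpowers]; rfl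
  have hpow : ∀ ζ ∈ Subgroup.zpowers (Z d'), ζ = 1 ∨ ζ = Z d' := by
    intro ζ hζ
    obtain ⟨k, rfl⟩ := Subgroup.mem_zpowers_iff.mp hζ
    have h1 := zpow_mod_orderOf (Z d') k
    rw [orderOf_Z] at h1
    rw [← h1]
    rcases Int.emod_two_eq_zero_or_one k with h | h
    · left
      have : k % ((2 : ℕ) : ℤ) = 0 := by exact_mod_cast h
      rw [this, zpow_zero]
    · right
      have : k % ((2 : ℕ) : ℤ) = 1 := by exact_mod_cast h
      rw [this, zpow_one]
  have hx'eq : (⟨x, hxC⟩ : ↥C) = Z d' := by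
    have h1 : (⟨x, hxC⟩ : ↥C) ∈ (Subgroup.center ↥(R : Subgroup ↥C)).map
        (R : Subgroup ↥C).subtype := by
      refine ⟨⟨_, hx'R⟩, ?_, rfl⟩
      rw [SetLike.mem_coe, Subgroup.mem_center_iff]
      intro r
      exact Subtype.ext (hx'c r)
    rw [hW] at h1
    rcases hpow _ h1 with h | h
    · exact absurd (congrArg Subtype.val h) hx1
    · exact h
  have hZc : ∀ g : ↥C, g * Z d' * g⁻¹ = Z d' := by
    intro g
    rw [← hx'eq, hx'c g, mul_assoc, mul_inv_cancel, mul_one]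
  -- the normal subgroup of index two
  obtain ⟨K, hKn, hKi, hB0⟩ := transfer_one R d' (fun g => by
    rw [hZc g, Z_eq]; exact (B_ne_A d' _ _).symm)
  haveI := hKn
  -- fusion of elements of order four
  have hfus : ∃ g : ↥C, g * A d' d'.q * g⁻¹ = B d' 1 := by
    have hu : orderOf ((A d' d'.q : ↥C) : G) = 4 := by
      rw [Subgroup.orderOf_coe]; exact orderOf_A_q d'
    have hv : orderOf ((B d' 1 : ↥C) : G) = 4 := by
      rw [Subgroup.orderOf_coe]; exact orderOf_B_one d'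
    obtain ⟨g, hg⟩ := all_four_conj_qd S₁ d₁ hG _ _ hu hv
    have huu : ((A d' d'.q : ↥C) : G) * ((A d' d'.q : ↥C) : G) = x := by
      have h1 : A d' d'.q * A d' d'.q = Z d' := by
        rw [A_mul_A, Z_eq, ← two_mul, d'.two_q]
      have h2 := congrArg Subtype.val h1
      rw [← hx'eq] at h2
      exact h2
    have hvv : ((B d' 1 : ↥C) : G) * ((B d' 1 : ↥C) : G) = x := by
      have h1 : B d' 1 * B d' 1 = Z d' := by
        rw [B_mul_B, Z_eq, d'.E_eq]
        congr 1; ring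
      have h2 := congrArg Subtype.val h1
      rw [← hx'eq] at h2
      exact h2
    have hgC : g ∈ C := by
      rw [hmemC]
      have h1 : g * x * g⁻¹ = x := by
        calc g * x * g⁻¹
            = g * (((A d' d'.q : ↥C) : G) * ((A d' d'.q : ↥C) : G)) * g⁻¹ := by rw [huu]
          _ = (g * ((A d' d'.q : ↥C) : G) * g⁻¹) * (g * ((A d' d'.q : ↥C) : G) * g⁻¹) := by group
          _ = x := by rw [hg, hvv]
      calc x * g = (g * x * g⁻¹) * g := by rw [h1]
        _ = g * x := by group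
    exact ⟨⟨g, hgC⟩, Subtype.ext hg⟩
  have hAqK : A d' d'.q ∈ K := A_q_mem d' hKi
  have hB1 : B d' 1 ∈ K := by
    obtain ⟨g, hg⟩ := hfus
    rw [← hg]; exact hKn.conj_mem _ hAqK g
  refine ⟨R, hcard, ⟨K, hKn, ⟨1, by rw [hKi, pow_one]⟩,
    no_index_two_quaternion R d' K hKi hB0 hfus, fun P => ?_⟩, ?_⟩
  · refine ⟨d'.n - 2, ?_, sylow_quaternion R d' K hKi hB0 hB1 P⟩
    have := d'.hn
    omega
  · intro Z₀ hZ₀
    rw [hW] at hZ₀
    apply Cfsg.Agent.Helper2.WF.weaklyClosed_of_central Z₀ _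
      (hZ₀.trans (Subgroup.zpowers_le.mpr (Z_mem d')))
    intro ζ hζ g
    rcases hpow ζ (hZ₀ hζ) with h | h
    · rw [h]; group
    · rw [h]; exact hZc g

end Cfsg.Agent.Helper2.QDF
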