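import Mathlib
import Cfsg.Agent.Helper2.DihSub

set_option autoImplicit false

/-! Odd-order automorphisms of normal subgroups of generalized quaternion groups. -/

namespace Cfsg.Agent.Helper2.QuatNormal

open QuaternionGroup

/-- an odd-order automorphism is trivial when it stabilises a cyclic `2`-subgroup of index two -/
theorem aut_odd_trivial_of_char_cyclic {Q : Type*} [Group Q] [Finite Q] (C₀ : Subgroup Q)
    (hC : IsCyclic C₀) (hC2 : IsPGroup 2 C₀) (hidx : C₀.index = 2)
    (hchar : ∀ (α : MulAut Q), ∀ c ∈ C₀, α c ∈ C₀)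
    (β : MulAut Q) (t : ℕ) (ht : Odd t) (hβ : β ^ t = 1) : β = 1 := by
  -- restriction
  let γ : MulAut C₀ :=
    { toFun := fun c => ⟨β c, hchar β c c.2⟩
      invFun := fun c => ⟨β⁻¹ c, hchar β⁻¹ c c.2⟩
      left_inv := fun c => by ext; simp
      right_inv := fun c => by ext; simp
      map_mul' := fun c d => by ext; simp }
  have hγ1 : ∀ c : C₀, ((γ c : C₀) : Q) = β c := fun c => rfl
  have hγ : ∀ k : ℕ, ∀ c : C₀, (((γ ^ k) c : C₀) : Q) = (β ^ k) c := by
    intro k
    induction k with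
    | zero => intro c; simp
    | succ k ih =>
      intro c
      rw [pow_succ', MulAut.mul_apply, pow_succ', MulAut.mul_apply, hγ1, ih]
  have hγt : γ ^ t = 1 := by
    ext c
    rw [hγ, hβ]
    simp
  have hγone : γ = 1 := DihSub.cyclic_two_aut_odd_trivial hC hC2 γ t ht hγt
  have hfix : ∀ c ∈ C₀, β c = c := by
    intro c hc
    have h1 := hγ1 ⟨c, hc⟩
    rw [hγone] at h1
    simpa using h1.symm
  have hout : ∀ y, y ∉ C₀ → β y = y := by
    intro y hy
    have hβy : β y ∉ C₀ := by
      intro h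
      apply hy
      have h2 := hchar β⁻¹ _ h
      simpa using h2
    have hyi : y⁻¹ ∉ C₀ := fun h => hy (by simpa using C₀.inv_mem h)
    have hc : β y * y⁻¹ ∈ C₀ := by
      rw [Subgroup.mul_mem_iff_of_index_two hidx]
      exact ⟨fun h => absurd h hβy, fun h => absurd h hyi⟩
    set c := β y * y⁻¹ with hcdef
    have hβy' : β y = c * y := by rw [hcdef]; group
    have hpow : ∀ k : ℕ, (β ^ k) y = c ^ k * y := by
      intro k
      induction k with
      | zero => simp
      | succ k ih =>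
        rw [pow_succ', MulAut.mul_apply, ih, map_mul, map_pow, hfix c hc, hβy', pow_succ]
        group
    have hct : c ^ t = 1 := by
      have h1 := hpow t
      rw [hβ, MulAut.one_apply] at h1
      exact (mul_eq_right.mp h1.symm)
    obtain ⟨j, hj⟩ := hC2 ⟨c, hc⟩
    have hcj : c ^ 2 ^ j = 1 := by
      have := congrArg Subtype.val hj
      simpa using this
    have h1 : orderOf c ∣ t := orderOf_dvd_of_pow_eq_one hct
    have h2 : orderOf c ∣ 2 ^ j := orderOf_dvd_of_pow_eq_one hcj
    have hcop : Nat.Coprime (2 ^ j) t := by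
      apply Nat.Coprime.pow_left
      rw [Nat.coprime_two_left]
      exact ht
    have h3 : orderOf c = 1 := Nat.eq_one_of_dvd_coprimes hcop h2 h1
    rw [orderOf_eq_one_iff] at h3
    rw [hβy', h3, one_mul]
  ext q
  by_cases hq : q ∈ C₀
  · rw [hfix q hq]; rfl
  · rw [hout q hq]; rfl

/-- groups of generalized quaternion type of order at least 16 have no odd-order automorphisms -/
theorem aut_odd_trivial_of_quat_type {Q : Type*} [Group Q] [Finite Q] (C₀ : Subgroup Q)
    (hC : IsCyclic C₀) (hC2 : IsPGroup 2 C₀) (hidx : C₀.index = 2)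
    (c₀ : Q) (hc₀ : c₀ ∈ C₀) (hc₀4 : c₀ ^ 4 ≠ 1)
    (hout : ∀ q, q ∉ C₀ → q ^ 4 = 1) (β : MulAut Q) (t : ℕ) (ht : Odd t) (hβ : β ^ t = 1) :
    β = 1 := by
  apply aut_odd_trivial_of_char_cyclic C₀ hC hC2 hidx _ β t ht hβ
  intro α c hc
  obtain ⟨g, hg⟩ := hC.exists_generator
  have hgmem : α (g : Q) ∈ C₀ := by
    by_contra hα
    have h1 := hout _ hα
    rw [← map_pow, ← map_one α] at h1
    have h2 : (g : Q) ^ 4 = 1 := α.injective h1
    apply hc₀4
    obtain ⟨k, hk⟩ := Subgroup.mem_zpowers_iff.mp (hg ⟨c₀, hc₀⟩)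
    have h3 : c₀ = (g : Q) ^ k := by
      have := congrArg Subtype.val hk
      simpa using this.symm
    rw [h3, ← zpow_natCast, ← zpow_mul, mul_comm, zpow_mul, zpow_natCast, h2, one_zpow]
  obtain ⟨k, hk⟩ := Subgroup.mem_zpowers_iff.mp (hg ⟨c, hc⟩)
  have h3 : c = (g : Q) ^ k := by
    have := congrArg Subtype.val hk
    simpa using this.symm
  rw [h3, map_zpow]
  exact Subgroup.zpow_mem _ hgmem _

/-- normal subgroups of generalized quaternion groups of order at least 32 have no
odd-order automorphisms -/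
theorem normal_quat_aut_odd_trivial (n : ℕ) (hn : 3 ≤ n) (N : Subgroup (QuaternionGroup (2 ^ n)))
    [hN : N.Normal] (β : MulAut N) (t : ℕ) (ht : Odd t) (hβ : β ^ t = 1) : β = 1 := by
  haveI : NeZero (2 ^ n) := ⟨by positivity⟩
  haveI : Fact (Nat.Prime 2) := ⟨Nat.prime_two⟩
  have hcardQ : Nat.card (QuaternionGroup (2 ^ n)) = 2 ^ (n + 2) := by
    rw [Nat.card_eq_fintype_card, QuaternionGroup.card, pow_add]; ring
  have hQ2 : IsPGroup 2 (QuaternionGroup (2 ^ n)) := IsPGroup.of_card hcardQ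
  have hN2 : IsPGroup 2 N := hQ2.to_subgroup N
  set Z : Subgroup (QuaternionGroup (2 ^ n)) := Subgroup.zpowers (a 1) with hZ
  have hamem : ∀ j : ZMod (2 * 2 ^ n), a j ∈ Z := by
    intro j
    haveI : NeZero (2 * 2 ^ n) := ⟨by positivity⟩
    rw [hZ, Subgroup.mem_zpowers_iff]
    refine ⟨(j.val : ℤ), ?_⟩
    rw [zpow_natCast, a_one_pow, ZMod.natCast_zmod_val]
  by_cases hle : N ≤ Z
  · have hcyc : IsCyclic N := by
      haveI : IsCyclic Z := by rw [hZ]; infer_instance
      exact isCyclic_of_injective (Subgroup.inclusion hle) (Subgroup.inclusion_injective hle)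
    exact DihSub.cyclic_two_aut_odd_trivial hcyc hN2 β t ht hβ
  · obtain ⟨x, hxN, hxZ⟩ := SetLike.not_le_iff_exists.mp hle
    obtain ⟨i, rfl⟩ : ∃ i, x = xa i := by
      rcases x with j | j
      · exact absurd (hamem j) hxZ
      · exact ⟨j, rfl⟩
    have ha2 : (a 2 : QuaternionGroup (2 ^ n)) ∈ N := by
      have h1 : a 1 * xa i * (a 1)⁻¹ ∈ N := hN.conj_mem _ hxN _
      have h2 := N.mul_mem h1 (N.inv_mem hxN)
      have h3 : (a 1 * xa i * (a 1)⁻¹ * (xa i)⁻¹ : QuaternionGroup (2 ^ n)) = a 2 := by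
        have hinv : (a 1 : QuaternionGroup (2 ^ n))⁻¹ = a (-1) := by
          rw [inv_eq_iff_mul_eq_one, a_mul_a, add_neg_cancel, a_zero]
        rw [mul_inv_eq_iff_eq_mul, hinv, a_mul_xa, xa_mul_a, a_mul_xa]
        congr 1
        ring
      rwa [h3] at h2
    have hZidx : Z.index = 2 := by
      have h1 : Nat.card Z * Z.index = Nat.card (QuaternionGroup (2 ^ n)) := Z.card_mul_index
      rw [hcardQ, hZ, Nat.card_zpowers, orderOf_a_one] at h1
      have h2 : 2 * 2 ^ n * 2 = 2 ^ (n + 2) := by rw [pow_add]; ring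
      rw [← h2] at h1
      exact Nat.eq_of_mul_eq_mul_left (by positivity) h1
    haveI hZn : Z.Normal := Subgroup.normal_of_index_eq_two hZidx
    set C₀ : Subgroup N := Z.subgroupOf N with hC₀
    have hidx : C₀.index = 2 := by
      have h1 : Z.relIndex N ∣ Z.index := Subgroup.relIndex_dvd_index_of_normal Z N
      rw [hZidx] at h1
      have h2 : Z.relIndex N ≠ 1 := by
        rw [Ne, Subgroup.relIndex_eq_one]; exact hle
      rcases (Nat.dvd_prime Nat.prime_two).mp h1 with h | h
      · exact absurd h h2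
      · exact h
    have hcyc : IsCyclic C₀ := by
      haveI : IsCyclic Z := by rw [hZ]; infer_instance
      let f : C₀ →* Z :=
        { toFun := fun c => ⟨c.1.1, Subgroup.mem_subgroupOf.mp c.2⟩
          map_one' := rfl
          map_mul' := fun _ _ => rfl }
      apply isCyclic_of_injective f
      intro c d hcd
      have h1 : ((f c : Z) : QuaternionGroup (2 ^ n)) = (f d : Z) := congrArg Subtype.val hcd
      exact Subtype.ext (Subtype.ext h1)
    have h8 : (⟨a 2, ha2⟩ : N) ^ 4 ≠ 1 := by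
      intro h
      have h1 : (a 2 : QuaternionGroup (2 ^ n)) ^ 4 = 1 := by
        have := congrArg Subtype.val h
        simpa using this
      have h2 : (a 2 : QuaternionGroup (2 ^ n)) = (a 1) ^ 2 := by
        rw [a_one_pow]; norm_num
      rw [h2, ← pow_mul] at h1
      have h3 := orderOf_dvd_of_pow_eq_one h1
      rw [orderOf_a_one] at h3
      have h4 := Nat.le_of_dvd (by norm_num) h3
      have h5 : 2 ^ 3 ≤ 2 ^ n := Nat.pow_le_pow_right (by norm_num) hn
      omega
    apply aut_odd_trivial_of_quat_type C₀ hcyc (hN2.to_subgroup C₀) hidx ⟨a 2, ha2⟩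
      (Subgroup.mem_subgroupOf.mpr (hamem 2)) h8 _ β t ht hβ
    intro q hq
    have hq' : (q : QuaternionGroup (2 ^ n)) ∉ Z := fun h => hq (Subgroup.mem_subgroupOf.mpr h)
    obtain ⟨j, hj⟩ : ∃ j, (q : QuaternionGroup (2 ^ n)) = xa j := by
      rcases hqq : (q : QuaternionGroup (2 ^ n)) with j | j
      · exact absurd (hqq ▸ hamem j) hq'
      · exact ⟨j, rfl⟩
    apply Subtype.ext
    rw [Subgroup.coe_pow, hj, xa_pow_four]
    rfl

/-- transfer of the property along an isomorphism -/
theorem aut_odd_trivial_of_mulEquiv {A B : Type*} [Group A] [Group B] (e : A ≃* B)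
    (h : ∀ (β : MulAut B) (t : ℕ), Odd t → β ^ t = 1 → β = 1)
    (β : MulAut A) (t : ℕ) (ht : Odd t) (hβ : β ^ t = 1) : β = 1 := by
  have h1 : (MulAut.congr e β) ^ t = 1 := by rw [← map_pow, hβ, map_one]
  have h2 := h _ t ht h1
  rw [← map_one (MulAut.congr e)] at h2
  exact (MulAut.congr e).injective h2

end Cfsg.Agent.Helper2.QuatNormal
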