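import Mathlib
import Cfsg.Prelude.Def_Characters
import Cfsg.Agent.Helper6.RMcKCnt
import Cfsg.Agent.Helper6.Expansion
import Cfsg.Agent.Helper6.Induced
import Cfsg.Agent.Helper2.RMcKCL45

/-!
# Piece D2 of S4807: the restriction lemma (count form)

`G = N₀ H`, `M₀ = N₀ ∩ H`, `θ ∈ Irr(N₀)` invariant in `G` with `θ|_{M₀}` irreducible: then
`|Irr(G | θ)| = |Irr(H | θ|_{M₀})|`.
-/

set_option autoImplicit false
set_option linter.style.haveILetI false

namespace Cfsg.Agent.Helper2.RMcK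

open Cfsg.Agent.Helper6 Cfsg.Agent.Helper6.RMcK
open scoped ComplexConjugate

universe u

/-! ### A counting lemma -/

theorem card_eq_of_rel {X Y : Type*} [Fintype X] [Fintype Y] (R : X → Y → Prop)
    (h1 : ∀ x, ∃ y, R x y) (h2 : ∀ y, ∃ x, R x y)
    (h3 : ∀ x x' y, R x y → R x' y → x = x') (h4 : ∀ x y y', R x y → R x y' → y = y') :
    Fintype.card X = Fintype.card Y := by
  choose g hg using h1
  apply Fintype.card_of_bijective (f := g)
  constructor
  · intro x x' hxx'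
    have h := hg x'
    rw [← hxx'] at h
    exact h3 x x' (g x) (hg x) h
  · intro y
    obtain ⟨x, hx⟩ := h2 y
    exact ⟨x, h4 x (g x) y (hg x) hx⟩

/-- The combinatorial heart of the restriction lemma. -/
theorem card_eq_of_sums {X Y : Type*} [Fintype X] [Fintype Y] [DecidableEq X] [DecidableEq Y]
    (e : X → ℕ) (f : Y → ℕ) (a : X → Y → ℕ)
    (hA : ∀ x, e x ≠ 0 → e x = ∑ y, a x y * f y)
    (hB : ∀ y, f y = ∑ x, e x * a x y) :
    Fintype.card {x // e x ≠ 0} = Fintype.card {y // f y ≠ 0} := by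
  classical
  -- the key facts for a related pair
  have key : ∀ x y, e x ≠ 0 → f y ≠ 0 → a x y ≠ 0 →
      (∀ x', x' ≠ x → e x' * a x' y = 0) ∧ (∀ y', y' ≠ y → a x y' * f y' = 0) := by
    intro x y hx hy hxy
    have hBy := hB y
    have hAx := hA x hx
    rw [← Finset.add_sum_erase Finset.univ _ (Finset.mem_univ x)] at hBy
    rw [← Finset.add_sum_erase Finset.univ _ (Finset.mem_univ y)] at hAx
    have h1 : 1 ≤ a x y := Nat.one_le_iff_ne_zero.2 hxy
    have h2 : e x ≤ e x * a x y := Nat.le_mul_of_pos_right _ h1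
    have h3 : f y ≤ a x y * f y := Nat.le_mul_of_pos_left _ h1
    have h4 : ∑ x' ∈ Finset.univ.erase x, e x' * a x' y = 0 := by omega
    have h5 : ∑ y' ∈ Finset.univ.erase y, a x y' * f y' = 0 := by omega
    constructor
    · intro x' hx'
      exact (Finset.sum_eq_zero_iff.1 h4) x' (Finset.mem_erase.2 ⟨hx', Finset.mem_univ _⟩)
    · intro y' hy'
      exact (Finset.sum_eq_zero_iff.1 h5) y' (Finset.mem_erase.2 ⟨hy', Finset.mem_univ _⟩)
  apply card_eq_of_rel (fun (x : {x // e x ≠ 0}) (y : {y // f y ≠ 0}) => a x.1 y.1 ≠ 0)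
  · rintro ⟨x, hx⟩
    have hAx := hA x hx
    rw [hAx] at hx
    obtain ⟨y, -, hy⟩ := Finset.exists_ne_zero_of_sum_ne_zero hx
    exact ⟨⟨y, right_ne_zero_of_mul hy⟩, left_ne_zero_of_mul hy⟩
  · rintro ⟨y, hy⟩
    have hBy := hB y
    rw [hBy] at hy
    obtain ⟨x, -, hx⟩ := Finset.exists_ne_zero_of_sum_ne_zero hy
    exact ⟨⟨x, left_ne_zero_of_mul hx⟩, right_ne_zero_of_mul hx⟩
  · rintro ⟨x, hx⟩ ⟨x', hx'⟩ ⟨y, hy⟩ h h'
    by_contra hne
    have hne' : x' ≠ x := fun hh => hne (Subtype.ext hh.symm)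
    have := (key x y hx hy h).1 x' hne'
    rcases Nat.mul_eq_zero.1 this with h0 | h0
    · exact hx' h0
    · exact h' h0
  · rintro ⟨x, hx⟩ ⟨y, hy⟩ ⟨y', hy'⟩ h h'
    by_contra hne
    have hne' : y' ≠ y := fun hh => hne (Subtype.ext hh.symm)
    have := (key x y hx hy h).2 y' hne'
    rcases Nat.mul_eq_zero.1 this with h0 | h0
    · exact h' h0
    · exact hy' h0

variable {Γ : Type u} [Group Γ] [Finite Γ]

/-! ### Extension by zero in ambient form -/

open Classical in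
/-- extension by zero of a function on `A` to `B ≥ A` -/
noncomputable def ezero {A B : Subgroup Γ} (_h : A ≤ B) (θ : A → ℂ) : B → ℂ :=
  fun b => if hb : (b : Γ) ∈ A then θ ⟨b, hb⟩ else 0

omit [Finite Γ] in
theorem ezero_of_mem {A B : Subgroup Γ} (h : A ≤ B) (θ : A → ℂ) (b : B) (hb : (b : Γ) ∈ A) :
    ezero h θ b = θ ⟨b, hb⟩ := by
  unfold ezero
  rw [dif_pos hb]

omit [Finite Γ] in
theorem ezero_of_not_mem {A B : Subgroup Γ} (h : A ≤ B) (θ : A → ℂ) (b : B)
    (hb : (b : Γ) ∉ A) : ezero h θ b = 0 := by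
  unfold ezero
  rw [dif_neg hb]

omit [Finite Γ] in
theorem ezero_isClassFunction {A B : Subgroup Γ} (h : A ≤ B) (θ : A → ℂ)
    (hB : B ≤ inertia A θ) : Cfsg.IsClassFunction B (ezero h θ) := by
  intro g x
  have hx := hB x.2
  have hxn : (x : Γ) ∈ Subgroup.normalizer (A : Set Γ) := hx.1
  have hiff : (g : Γ) ∈ A ↔ ((x * g * x⁻¹ : B) : Γ) ∈ A := by
    have := Subgroup.mem_normalizer_iff.1 hxn (g : Γ)
    simpa using this
  by_cases hg : (g : Γ) ∈ A
  · have hg' := hiff.1 hg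
    rw [ezero_of_mem h θ _ hg', ezero_of_mem h θ _ hg]
    apply hx.2
    simp
  · have hg' : ((x * g * x⁻¹ : B) : Γ) ∉ A := fun hh => hg (hiff.2 hh)
    rw [ezero_of_not_mem h θ _ hg', ezero_of_not_mem h θ _ hg]

theorem ip_ezero {A B : Subgroup Γ} (h : A ≤ B) (θ : A → ℂ) (χ : B → ℂ) :
    ip (ezero h θ) χ = ((Nat.card A : ℂ) / (Nat.card B : ℂ)) * ip θ (res h χ) := by
  classical
  haveI := Fintype.ofFinite A
  haveI := Fintype.ofFinite B
  rw [ip_eq_classInner, ip_eq_classInner]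
  unfold Cfsg.classInner
  have hsum : ∑ a : A, θ a * conj (res h χ a) = ∑ b : B, ezero h θ b * conj (χ b) := by
    apply Fintype.sum_of_injective (Subgroup.inclusion h) (Subgroup.inclusion_injective h)
    · intro b hb
      have : (b : Γ) ∉ A := by
        intro hbA
        apply hb
        exact ⟨⟨b, hbA⟩, rfl⟩
      rw [ezero_of_not_mem h θ b this, zero_mul]
    · intro a
      rw [ezero_of_mem h θ (Subgroup.inclusion h a) a.2]
      rfl
  rw [hsum]
  have hA0 : (Nat.card A : ℂ) ≠ 0 := by exact_mod_cast Nat.card_pos.ne'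
  have hB0 : (Nat.card B : ℂ) ≠ 0 := by exact_mod_cast Nat.card_pos.ne'
  field_simp

omit [Finite Γ] in
theorem res_ezero {G N₀ H M₀ : Subgroup Γ} (hNG : N₀ ≤ G) (hHG : H ≤ G) (hM₀N : M₀ ≤ N₀)
    (hM₀H : M₀ ≤ H) (hM₀ : M₀ = N₀ ⊓ H) (θ : N₀ → ℂ) :
    res hHG (ezero hNG θ) = ezero hM₀H (res hM₀N θ) := by
  funext g
  by_cases hg : (g : Γ) ∈ M₀
  · have hg' : ((Subgroup.inclusion hHG g : G) : Γ) ∈ N₀ := hM₀N hg
    rw [ezero_of_mem hM₀H _ g hg]
    show ezero hNG θ (Subgroup.inclusion hHG g) = _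
    rw [ezero_of_mem hNG θ _ hg']
    rfl
  · have hg' : ((Subgroup.inclusion hHG g : G) : Γ) ∉ N₀ := by
      intro hh
      apply hg
      rw [hM₀]
      exact ⟨hh, g.2⟩
    rw [ezero_of_not_mem hM₀H _ g hg]
    show ezero hNG θ (Subgroup.inclusion hHG g) = _
    rw [ezero_of_not_mem hNG θ _ hg']

/-! ### Symmetry of the inner product of characters -/

theorem ip_symm_of_char {K : Subgroup Γ} {ψ σ : K → ℂ} (hψ : Cfsg.IsCharacter K ψ)
    (hσ : Cfsg.IsCharacter K σ) : ip σ ψ = ip ψ σ := by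
  haveI := Fintype.ofFinite K
  obtain ⟨n, hn⟩ := ip_char_nat hψ hσ
  rw [ip_eq_classInner] at hn ⊢
  rw [ip_eq_classInner, classInner_conj_symm ψ σ, hn, Complex.conj_natCast]

theorem ip_irr_self {K : Subgroup Γ} {σ : K → ℂ} (hσ : Cfsg.IsIrrCharacter K σ) :
    ip σ σ = 1 := by
  haveI := Fintype.ofFinite K
  rw [ip_eq_classInner]
  exact classInner_irr_self hσ

/-- Linearity of `ip` in the first argument along the expansion into irreducibles, for a class
function on `G` restricted to `H`. -/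
theorem ip_res_expand' {H G : Subgroup Γ} (hHG : H ≤ G) (Θ : G → ℂ)
    (hΘ : Cfsg.IsClassFunction G Θ) (ψ : H → ℂ) [Fintype (Cfsg.IrrCharacter G)] :
    ip (res hHG Θ) ψ =
      ∑ χ : Cfsg.IrrCharacter G, ip Θ (χ : G → ℂ) * ip (res hHG (χ : G → ℂ)) ψ := by
  classical
  haveI := Fintype.ofFinite G
  haveI := Fintype.ofFinite H
  have hexp := classFunction_expansion Θ hΘ
  have hres : res hHG Θ = ∑ χ : Cfsg.IrrCharacter G,
      Cfsg.classInner Θ (χ : G → ℂ) • res hHG (χ : G → ℂ) := by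
    funext a
    have := congrFun hexp (Subgroup.inclusion hHG a)
    simp only [Finset.sum_apply, Pi.smul_apply] at this ⊢
    exact this
  rw [ip_eq_classInner, hres, classInner_sum_left]
  apply Finset.sum_congr rfl
  intro σ _
  rw [classInner_smul_left, ip_eq_classInner, ip_eq_classInner]

theorem ip_smul_left {K : Subgroup Γ} (c : ℂ) (φ ψ : K → ℂ) :
    ip (c • φ) ψ = c * ip φ ψ := by
  haveI := Fintype.ofFinite K
  rw [ip_eq_classInner, ip_eq_classInner, classInner_smul_left]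

omit [Finite Γ] in
/-- `|N₀| |H| = |M₀| |G|` when `G = N₀ H`, `M₀ = N₀ ∩ H` and `G` normalizes `N₀`. -/
theorem card_mul_card_eq {G N₀ H M₀ : Subgroup Γ} (hNG : N₀ ≤ G) (hHG : H ≤ G)
    (hM₀H : M₀ ≤ H)
    (hM₀ : M₀ = N₀ ⊓ H) (hsup : G ≤ N₀ ⊔ H) (hnorm : G ≤ Subgroup.normalizer (N₀ : Set Γ)) :
    Nat.card N₀ * Nat.card H = Nat.card M₀ * Nat.card G := by
  have hidx : N₀.relIndex G = M₀.relIndex H := by
    haveI hn : (N₀.subgroupOf G).Normal :=
      (Subgroup.normal_subgroupOf_iff_le_normalizer hNG).2 hnorm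
    have h1 := Subgroup.relIndex_sup_right (H := H.subgroupOf G) (K := N₀.subgroupOf G)
    have htop : H.subgroupOf G ⊔ N₀.subgroupOf G = ⊤ := by
      rw [← Subgroup.subgroupOf_sup hHG hNG, Subgroup.subgroupOf_eq_top, sup_comm]
      exact hsup
    rw [htop, Subgroup.relIndex_top_right, Subgroup.relIndex_subgroupOf hHG] at h1
    have h2 : (N₀.subgroupOf G).index = N₀.relIndex G := rfl
    rw [h2] at h1
    rw [h1, hM₀, Subgroup.inf_relIndex_right]
  have hG : Nat.card N₀ * N₀.relIndex G = Nat.card G := by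
    have := Subgroup.relIndex_mul_relIndex ⊥ N₀ G bot_le hNG
    rwa [Subgroup.relIndex_bot_left, Subgroup.relIndex_bot_left] at this
  have hH : Nat.card M₀ * M₀.relIndex H = Nat.card H := by
    have := Subgroup.relIndex_mul_relIndex ⊥ M₀ H bot_le hM₀H
    rwa [Subgroup.relIndex_bot_left, Subgroup.relIndex_bot_left] at this
  rw [← hG, ← hH, hidx]
  ring

/-- **Piece D2**: the restriction lemma, count form. -/
theorem D2_ocnt_restrict (G N₀ H M₀ : Subgroup Γ) (hNG : N₀ ≤ G) (hHG : H ≤ G)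
    (hM₀N : M₀ ≤ N₀) (hM₀H : M₀ ≤ H) (hM₀ : M₀ = N₀ ⊓ H) (hsup : G ≤ N₀ ⊔ H)
    (θ : N₀ → ℂ) (hθ : Cfsg.IsIrrCharacter N₀ θ) (hinv : G ≤ inertia N₀ θ)
    (hirr : Cfsg.IsIrrCharacter M₀ (res hM₀N θ)) :
    ocnt hNG θ = ocnt hM₀H (res hM₀N θ) := by
  classical
  set φ := res hM₀N θ with hφ
  haveI : Finite (Cfsg.IrrCharacter G) := irr_finite
  haveI : Finite (Cfsg.IrrCharacter H) := irr_finite
  haveI := Fintype.ofFinite (Cfsg.IrrCharacter G)
  haveI := Fintype.ofFinite (Cfsg.IrrCharacter H)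
  have hθc : Cfsg.IsCharacter N₀ θ := IsIrrCharacter.isCharacter hθ
  have hφc : Cfsg.IsCharacter M₀ φ := IsIrrCharacter.isCharacter hirr
  -- natural-number valued multiplicities
  have he : ∀ χ : Cfsg.IrrCharacter G, ∃ n : ℕ, ip (res hNG (χ : G → ℂ)) θ = n := fun χ =>
    ip_char_nat (res_isCharacter hNG (IsIrrCharacter.isCharacter χ.2)) hθc
  choose e he using he
  have hf : ∀ ψ : Cfsg.IrrCharacter H, ∃ n : ℕ, ip (res hM₀H (ψ : H → ℂ)) φ = n := fun ψ =>
    ip_char_nat (res_isCharacter hM₀H (IsIrrCharacter.isCharacter ψ.2)) hφc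
  choose f hf using hf
  have ha : ∀ (χ : Cfsg.IrrCharacter G) (ψ : Cfsg.IrrCharacter H), ∃ n : ℕ,
      ip (res hHG (χ : G → ℂ)) (ψ : H → ℂ) = n := fun χ ψ =>
    ip_char_nat (res_isCharacter hHG (IsIrrCharacter.isCharacter χ.2))
      (IsIrrCharacter.isCharacter ψ.2)
  choose a ha using ha
  -- (A)
  have hA : ∀ χ, e χ ≠ 0 → e χ = ∑ ψ, a χ ψ * f ψ := by
    intro χ hχ
    have hov : Ov hNG (χ : G → ℂ) θ := by
      unfold Ov
      rw [he]
      exact_mod_cast hχ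
    obtain ⟨k, -, hres, hip, -⟩ := res_eq_smul_of_invariant hNG θ hθ hinv χ χ.2 hov
    have hke : k = e χ := by
      have := he χ
      rw [hip] at this
      exact_mod_cast this
    have h1 : ip (res (hM₀N.trans hNG) (χ : G → ℂ)) φ = (e χ : ℂ) := by
      rw [← res_res hM₀N hNG, hres]
      have : res hM₀N ((k : ℂ) • θ) = (k : ℂ) • φ := rfl
      rw [this, ip_smul_left, ip_irr_self hirr, mul_one, hke]
    have h2 : ip (res (hM₀H.trans hHG) (χ : G → ℂ)) φ =
        ∑ ψ : Cfsg.IrrCharacter H, ip (res hHG (χ : G → ℂ)) (ψ : H → ℂ) *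
          ip (res hM₀H (ψ : H → ℂ)) φ := by
      rw [← res_res hM₀H hHG]
      exact ip_res_expand hM₀H (res hHG (χ : G → ℂ))
        (res_isCharacter hHG (IsIrrCharacter.isCharacter χ.2)) φ
    have h3 : res (hM₀N.trans hNG) (χ : G → ℂ) = res (hM₀H.trans hHG) (χ : G → ℂ) := rfl
    rw [h3, h2] at h1
    have h4 : ((∑ ψ, a χ ψ * f ψ : ℕ) : ℂ) = (e χ : ℂ) := by
      rw [← h1, Nat.cast_sum]
      apply Finset.sum_congr rfl
      intro ψ _
      rw [ha, hf, Nat.cast_mul]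
    exact_mod_cast h4.symm
  -- (B)
  have hB : ∀ ψ, f ψ = ∑ χ, e χ * a χ ψ := by
    intro ψ
    have hΘ := ezero_isClassFunction hNG θ hinv
    have h1 := ip_res_expand' hHG (ezero hNG θ) hΘ (ψ : H → ℂ)
    rw [res_ezero hNG hHG hM₀N hM₀H hM₀ θ, ip_ezero hM₀H] at h1
    have hcard := card_mul_card_eq hNG hHG hM₀H hM₀ hsup
      (hinv.trans (inertia_le_normalizer N₀ θ))
    have hG0 : (Nat.card G : ℂ) ≠ 0 := by exact_mod_cast Nat.card_pos.ne'
    have hH0 : (Nat.card H : ℂ) ≠ 0 := by exact_mod_cast Nat.card_pos.ne'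
    have hN0 : (Nat.card N₀ : ℂ) ≠ 0 := by exact_mod_cast Nat.card_pos.ne'
    have hc : (Nat.card M₀ : ℂ) / (Nat.card H : ℂ) = (Nat.card N₀ : ℂ) / (Nat.card G : ℂ) := by
      rw [div_eq_div_iff hH0 hG0]
      exact_mod_cast hcard.symm
    have hc0 : (Nat.card N₀ : ℂ) / (Nat.card G : ℂ) ≠ 0 := div_ne_zero hN0 hG0
    have h2 : ip (res hM₀N θ) (res hM₀H (ψ : H → ℂ)) = (f ψ : ℂ) := by
      rw [ip_symm_of_char (res_isCharacter hM₀H (IsIrrCharacter.isCharacter ψ.2)) hφc]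
      exact hf ψ
    rw [h2, hc] at h1
    have h3 : ∀ χ : Cfsg.IrrCharacter G,
        ip (ezero hNG θ) (χ : G → ℂ) * ip (res hHG (χ : G → ℂ)) (ψ : H → ℂ) =
        (Nat.card N₀ : ℂ) / (Nat.card G : ℂ) * ((e χ * a χ ψ : ℕ) : ℂ) := by
      intro χ
      rw [ip_ezero hNG, ha,
        ip_symm_of_char (res_isCharacter hNG (IsIrrCharacter.isCharacter χ.2)) hθc, he,
        Nat.cast_mul]
      ring
    rw [Finset.sum_congr rfl (fun χ _ => h3 χ), ← Finset.mul_sum] at h1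
    have h4 := mul_left_cancel₀ hc0 h1
    rw [← Nat.cast_sum] at h4
    exact_mod_cast h4
  -- conclusion
  have hcard := card_eq_of_sums e f a hA hB
  unfold ocnt
  rw [Nat.card_congr (Equiv.subtypeEquivRight (q := fun χ => e χ ≠ 0) ?_),
    Nat.card_congr (Equiv.subtypeEquivRight (q := fun ψ => f ψ ≠ 0) ?_),
    Nat.card_eq_fintype_card, Nat.card_eq_fintype_card]
  · exact hcard
  · intro ψ
    unfold Ov
    rw [hf]
    exact_mod_cast Iff.rfl
  · intro χ
    unfold Ov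
    rw [he]
    exact_mod_cast Iff.rfl

end Cfsg.Agent.Helper2.RMcK
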