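import Mathlib
import Cfsg.Agent.Helper2.ZStarH
import Cfsg.Agent.Helper1.GWm

set_option autoImplicit false
set_option linter.style.haveILetI false

/-!
# Groups of 2-rank one: the involution of a Sylow 2-subgroup is central modulo the core
-/

namespace Cfsg.Agent.Helper2.ZStar

open Cfsg.Agent.Helper2 Cfsg.Agent.Helper1

universe u

variable {G : Type u} [Group G]

/-- Two distinct commuting involutions generate a Klein four-group. -/
theorem exists_kleinFour_of_commute {z y : G} (hz : orderOf z = 2) (hy : orderOf y = 2)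
    (hc : z * y = y * z) (hne : z ≠ y) : ∃ E : Subgroup G, IsKleinFour E := by
  have hzz : z * z = 1 := mul_self_of_orderOf_two hz
  have hyy : y * y = 1 := mul_self_of_orderOf_two hy
  have hz1 : z ≠ 1 := ne_one_of_orderOf_two hz
  have hy1 : y ≠ 1 := ne_one_of_orderOf_two hy
  refine ⟨GW.fourGroup z y hzz hyy hc, ?_⟩
  have hcard := GW.card_fourGroup hzz hyy hc hz1 hy1 hne
  haveI : Finite ↥(GW.fourGroup z y hzz hyy hc) :=
    Nat.finite_of_card_ne_zero (by rw [hcard]; norm_num)
  haveI : Nontrivial ↥(GW.fourGroup z y hzz hyy hc) := by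
    rw [← Finite.one_lt_card_iff_nontrivial, hcard]; norm_num
  refine ⟨hcard, ?_⟩
  rw [Monoid.exponent_eq_prime_iff Nat.prime_two]
  intro g hg
  apply orderOf_eq_prime
  · rw [pow_two]
    apply Subtype.ext
    have hgm := (GW.mem_fourGroup hzz hyy hc (g : G)).mp g.2
    show (g : G) * (g : G) = 1
    rcases hgm with h | h | h | h
    · rw [h, one_mul]
    · rw [h, hzz]
    · rw [h, hyy]
    · rw [h]
      calc z * y * (z * y) = z * (y * z) * y := by group
        _ = z * (z * y) * y := by rw [hc]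
        _ = (z * z) * (y * y) := by group
        _ = 1 := by rw [hzz, hyy, one_mul]
  · exact hg

/-- A nontrivial Sylow `2`-subgroup has a central involution. -/
theorem exists_central_invol [Finite G] (S : Sylow 2 G) (hnt : Nontrivial (S : Subgroup G)) :
    ∃ z ∈ (S : Subgroup G), orderOf z = 2 ∧ ∀ s ∈ (S : Subgroup G), s * z = z * s := by
  haveI : Fact (Nat.Prime 2) := ⟨Nat.prime_two⟩
  haveI := hnt
  haveI := S.2.center_nontrivial
  obtain ⟨u, hu1⟩ := exists_ne (1 : Subgroup.center (S : Subgroup G))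
  obtain ⟨k, hk⟩ := (S.2.to_subgroup (Subgroup.center _)) u
  have hk0 : orderOf u ≠ 1 := by rw [Ne, orderOf_eq_one_iff]; exact hu1
  obtain ⟨j, hj⟩ : ∃ j, orderOf u = 2 ^ j := by
    have : orderOf u ∣ 2 ^ k := orderOf_dvd_of_pow_eq_one hk
    obtain ⟨j, -, hj⟩ := (Nat.dvd_prime_pow Nat.prime_two).mp this
    exact ⟨j, hj⟩
  have hj0 : j ≠ 0 := by rintro rfl; rw [pow_zero] at hj; exact hk0 hj
  obtain ⟨j', rfl⟩ := Nat.exists_eq_succ_of_ne_zero hj0
  have hv : orderOf (u ^ 2 ^ j') = 2 := by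
    rw [orderOf_pow' u (pow_ne_zero _ two_ne_zero), hj, pow_succ, Nat.gcd_eq_right
      (Dvd.intro _ rfl), Nat.mul_div_cancel_left _ (pow_pos two_pos _)]
  set v : Subgroup.center (S : Subgroup G) := u ^ 2 ^ j' with hvdef
  have hvG : orderOf ((v : (S : Subgroup G)) : G) = 2 := by
    rw [Subgroup.orderOf_coe, Subgroup.orderOf_coe]; exact hv
  have hvc : ∀ s : (S : Subgroup G), s * (v : (S : Subgroup G)) = (v : (S : Subgroup G)) * s :=
    fun s => (Subgroup.mem_center_iff.mp v.2 s)
  refine ⟨((v : (S : Subgroup G)) : G), (v : (S : Subgroup G)).2, hvG, fun s hs => ?_⟩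
  exact congrArg Subtype.val (hvc ⟨s, hs⟩)

/-- In a group of even order with no Klein four-subgroup, some involution is central modulo a
normal subgroup of odd order. -/
theorem rank_one_zstar [Finite G] (heven : Even (Nat.card G))
    (hrank : ∀ E : Subgroup G, ¬ IsKleinFour E) :
    ∃ z : G, orderOf z = 2 ∧ ∃ N : Subgroup G, N.Normal ∧ Odd (Nat.card N) ∧
      ∀ g : G, z * g * z⁻¹ * g⁻¹ ∈ N := by
  haveI : Fact (Nat.Prime 2) := ⟨Nat.prime_two⟩
  obtain ⟨y, hy⟩ := exists_prime_orderOf_dvd_card' (G := G) 2 (even_iff_two_dvd.mp heven)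
  have hyp : IsPGroup 2 (Subgroup.zpowers y) :=
    IsPGroup.of_card (n := 1) (by rw [Nat.card_zpowers, hy, pow_one])
  obtain ⟨S, hS⟩ := hyp.exists_le_sylow
  have hyS : y ∈ (S : Subgroup G) := hS (Subgroup.mem_zpowers y)
  have hnt : Nontrivial (S : Subgroup G) :=
    ⟨⟨⟨y, hyS⟩, 1, fun h => ne_one_of_orderOf_two hy (congrArg Subtype.val h)⟩⟩
  obtain ⟨z, hzS, hz2, hzc⟩ := exists_central_invol S hnt
  have huniq : ∀ w ∈ (S : Subgroup G), orderOf w = 2 → w = z := by
    intro w hw hw2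
    by_contra hne
    obtain ⟨E, hE⟩ := exists_kleinFour_of_commute hz2 hw2 (hzc w hw).symm (fun h => hne h.symm)
    exact hrank E hE
  have hwc : ∀ g : G, g * z * g⁻¹ ∈ S → g * z * g⁻¹ = z := by
    intro g hg
    apply huniq _ hg
    have : g * z * g⁻¹ = MulAut.conj g z := by simp
    rw [this, MulEquiv.orderOf_eq]; exact hz2
  exact ⟨z, hz2, glauberman_zstar_sylow S z hz2 hzS hwc⟩

end Cfsg.Agent.Helper2.ZStar
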