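import Mathlib
import Cfsg.Agent.Helper2.ZStarK
import Cfsg.Agent.Helper2.Quasisimple
import Cfsg.Agent.Helper2.CyclicSylow2
import Cfsg.Agent.Helper4.EqualOrderB

set_option autoImplicit false
set_option linter.style.haveILetI false

/-!
# Quasisimple groups of even order and 2-rank one

The involution is central and the Sylow 2-subgroups are generalized quaternion.
-/

namespace Cfsg.Agent.Helper2.RankOneQS

open Cfsg.Agent.Helper2 Cfsg.Agent.Helper2.ZStar

universe u

variable {L : Type u} [Group L]

theorem no_kleinFour_of_pRankLE (hrk : Cfsg.PRankLE 2 1 L) (E : Subgroup L) : ¬ IsKleinFour E := by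
  intro hE
  have hexp : Monoid.exponent E = 2 := hE.exponent_two
  have hcomm : IsMulCommutative E := by
    refine ⟨⟨fun a b => ?_⟩⟩
    exact mul_comm_of_exponent_two hexp a b
  have h := hrk E hcomm (fun a ha => by
    have : (⟨a, ha⟩ : E) ^ 2 = 1 := by rw [← hexp]; exact Monoid.pow_exponent_eq_one _
    exact congrArg Subtype.val this)
  rw [hE.card_four] at h
  norm_num at h

theorem not_index_two_of_perfect (hperf : Group.IsPerfect L) (H : Subgroup L) : H.index ≠ 2 := by
  intro h
  haveI : H.Normal := Subgroup.normal_of_index_eq_two h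
  have hcomm : commutator L ≤ H := by
    have hcard : Nat.card (L ⧸ H) = 2 := h
    haveI : Fact (Nat.Prime 2) := ⟨Nat.prime_two⟩
    have hc : IsCyclic (L ⧸ H) := isCyclic_of_prime_card hcard
    have : ∀ a b : L ⧸ H, a * b = b * a := fun a b => by
      haveI := hc
      exact (IsCyclic.commGroup (α := L ⧸ H)).mul_comm a b
    rw [commutator_def, Subgroup.commutator_le]
    intro a _ b _
    rw [← QuotientGroup.eq_one_iff, commutatorElement_def]
    simp only [QuotientGroup.mk_mul, QuotientGroup.mk_inv]
    rw [this (a : L ⧸ H) b]; group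
  rw [hperf.commutator_eq_top, top_le_iff] at hcomm
  rw [hcomm, Subgroup.index_top] at h
  norm_num at h

variable [Finite L]

/-- The involution `z` with `[z, L]` inside an odd normal subgroup is central when `L` is
quasisimple. -/
theorem exists_central_involution (hq : Cfsg.IsQuasisimple L) (heven : Even (Nat.card L))
    (hrk : Cfsg.PRankLE 2 1 L) : ∃ z : L, orderOf z = 2 ∧ z ∈ Subgroup.center L := by
  obtain ⟨z, hz, N, hN, hNodd, hzN⟩ := rank_one_zstar heven (no_kleinFour_of_pRankLE hrk)
  refine ⟨z, hz, ?_⟩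
  have hNc : N ≤ Subgroup.center L := by
    rcases isSubnormal_quasisimple hq N hN.isSubnormal with h | h
    · exfalso
      rw [h, Subgroup.card_top] at hNodd
      exact (Nat.not_even_iff_odd.mpr hNodd) heven
    · exact h
  haveI := hq.1
  -- the map g ↦ [z, g] is a homomorphism into the centre
  have hc : ∀ g : L, z * g * z⁻¹ * g⁻¹ ∈ Subgroup.center L := fun g => hNc (hzN g)
  let f : L →* Subgroup.center L := MonoidHom.mk' (fun g => ⟨z * g * z⁻¹ * g⁻¹, hc g⟩) (by
    intro a b
    apply Subtype.ext
    show z * (a * b) * z⁻¹ * (a * b)⁻¹ = (z * a * z⁻¹ * a⁻¹) * (z * b * z⁻¹ * b⁻¹)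
    have hb := Subgroup.mem_center_iff.mp (hc b) a⁻¹
    calc z * (a * b) * z⁻¹ * (a * b)⁻¹ = z * a * z⁻¹ * ((z * b * z⁻¹ * b⁻¹) * a⁻¹) := by group
      _ = z * a * z⁻¹ * (a⁻¹ * (z * b * z⁻¹ * b⁻¹)) := by rw [hb]
      _ = (z * a * z⁻¹ * a⁻¹) * (z * b * z⁻¹ * b⁻¹) := by group)
  have hker : f.ker = ⊤ := by
    have h1 : commutator L ≤ f.ker := by
      rw [commutator_def, Subgroup.commutator_le]
      intro a _ b _
      rw [MonoidHom.mem_ker, map_commutatorElement, commutatorElement_eq_one_iff_mul_comm]
      apply Subtype.ext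
      exact (Subgroup.mem_center_iff.mp (f a).2 (f b)).symm
    rw [Group.IsPerfect.commutator_eq_top] at h1
    exact top_le_iff.mp h1
  rw [Subgroup.mem_center_iff]
  intro g
  have hg : f g = 1 := by
    have : g ∈ f.ker := by rw [hker]; trivial
    exact this
  have hg' : z * g * z⁻¹ * g⁻¹ = 1 := congrArg Subtype.val hg
  have : z * g = g * z := by
    calc z * g = (z * g * z⁻¹ * g⁻¹) * g * z := by group
      _ = g * z := by rw [hg', one_mul]
  exact this.symm

/-- Sylow 2-subgroups of a perfect group of even order and 2-rank one are generalized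
quaternion. -/
theorem sylow_quaternion (hperf : Group.IsPerfect L) (heven : Even (Nat.card L))
    (hrk : Cfsg.PRankLE 2 1 L) (S : Sylow 2 L) :
    ∃ n : ℕ, Nonempty (↥(S : Subgroup L) ≃* QuaternionGroup (2 ^ (n + 1))) := by
  haveI : Fact (Nat.Prime 2) := ⟨Nat.prime_two⟩
  have hnk := no_kleinFour_of_pRankLE hrk
  have hcyc : ¬ IsCyclic ↥(S : Subgroup L) := by
    intro hc
    obtain ⟨H, hH⟩ := exists_index_two_of_cyclic_sylow_two heven S hc
    exact not_index_two_of_perfect hperf H hH
  have key : ∀ z a : ↥(S : Subgroup L), z ∈ Subgroup.center ↥(S : Subgroup L) → orderOf z = 2 →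
      a ^ 2 = 1 → a ∈ Subgroup.zpowers z := by
    intro z a hzc hz ha
    by_cases ha1 : a = 1
    · rw [ha1]; exact one_mem _
    have hao : orderOf a = 2 := orderOf_eq_prime ha ha1
    by_cases haz : a = z
    · rw [haz]; exact Subgroup.mem_zpowers z
    exfalso
    have hzL : orderOf ((z : ↥(S : Subgroup L)) : L) = 2 := by rw [Subgroup.orderOf_coe]; exact hz
    have haL : orderOf ((a : ↥(S : Subgroup L)) : L) = 2 := by rw [Subgroup.orderOf_coe]; exact hao
    have hcomm : ((z : ↥(S : Subgroup L)) : L) * (a : L) = (a : L) * (z : L) := by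
      have := Subgroup.mem_center_iff.mp hzc a
      exact (congrArg Subtype.val this).symm
    obtain ⟨E, hE⟩ := exists_kleinFour_of_commute hzL haL hcomm
      (fun h => haz (Subtype.ext h.symm))
    exact hnk E hE
  rcases Cfsg.Agent.Helper4.cyclic_or_quaternion_of_key 2 S.2 key with h | ⟨-, n, ⟨e⟩⟩
  · exact absurd h hcyc
  · rcases Nat.eq_zero_or_pos n with h0 | hpos
    · exfalso
      subst h0
      apply hcyc
      rw [pow_zero] at e
      haveI : IsCyclic (QuaternionGroup 1) := QuaternionGroup.quaternionGroup_one_isCyclic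
      exact isCyclic_of_surjective e.symm.toMonoidHom e.symm.surjective
    · obtain ⟨m, rfl⟩ := Nat.exists_eq_succ_of_ne_zero hpos.ne'
      exact ⟨m, ⟨e⟩⟩

end Cfsg.Agent.Helper2.RankOneQS
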