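import Mathlib
import Cfsg.Prelude.Def_CaseTheorems

set_option autoImplicit false

namespace Cfsg.Agent.Helper2.RankSub

variable {G : Type*} [Group G]

theorem card_le_of_pRankLE {p k : ℕ} (H E : Subgroup G) (hEH : E ≤ H)
    (hc : ∀ a ∈ E, ∀ b ∈ E, a * b = b * a) (he : ∀ a ∈ E, a ^ p = 1)
    (h : Cfsg.PRankLE p k ↥H) : Nat.card E ≤ p ^ k := by
  have h1 := h (E.subgroupOf H) ⟨⟨fun a b => by
      apply Subtype.ext
      apply Subtype.ext
      exact hc _ (Subgroup.mem_subgroupOf.mp a.2) _ (Subgroup.mem_subgroupOf.mp b.2)⟩⟩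
    (fun a ha => by
      apply Subtype.ext
      rw [Subgroup.coe_pow]
      exact he _ (Subgroup.mem_subgroupOf.mp ha))
  rwa [Nat.card_congr (Subgroup.subgroupOfEquivOfLe hEH).toEquiv] at h1

theorem exists_of_not_pRankLE {p k : ℕ} (H : Subgroup G) (h : ¬ Cfsg.PRankLE p k ↥H) :
    ∃ E : Subgroup G, E ≤ H ∧ (∀ a ∈ E, ∀ b ∈ E, a * b = b * a) ∧ (∀ a ∈ E, a ^ p = 1) ∧
      p ^ k < Nat.card E := by
  unfold Cfsg.PRankLE at h
  push Not at h
  obtain ⟨B, hBc, hBe, hBk⟩ := h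
  refine ⟨B.map H.subtype, ?_, ?_, ?_, ?_⟩
  · rintro x ⟨b, _, rfl⟩
    exact b.2
  · rintro x ⟨a, ha, rfl⟩ y ⟨b, hb, rfl⟩
    have := hBc.is_comm.comm ⟨a, ha⟩ ⟨b, hb⟩
    have h2 : a * b = b * a := congrArg Subtype.val this
    exact congrArg Subtype.val h2
  · rintro x ⟨a, ha, rfl⟩
    have := hBe a ha
    have h2 := congrArg Subtype.val this
    rwa [Subgroup.coe_pow] at h2
  · rwa [Subgroup.card_map_of_injective H.subtype_injective]

/-- `2 ^ a < 2 ^ k ≤ 2 ^ (a+1)` forces `k = a + 1`. -/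
theorem pow_sandwich {a k : ℕ} (h1 : 2 ^ a < 2 ^ k) (h2 : 2 ^ k ≤ 2 ^ (a + 1)) : k = a + 1 := by
  have h3 : a < k := (Nat.pow_lt_pow_iff_right (by norm_num)).mp h1
  have h4 : k ≤ a + 1 := (Nat.pow_le_pow_iff_right (by norm_num)).mp h2
  omega

end Cfsg.Agent.Helper2.RankSub
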