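import Mathlib

/-!
Real forms of complex matrix representations: matrix lemmas.
-/

set_option autoImplicit false

namespace Cfsg.Agent.Helper2.RealRep

open scoped ComplexConjugate
open Matrix

variable {n : ℕ}

/-- entrywise complex conjugation, as a ring homomorphism -/
noncomputable def cj : Matrix (Fin n) (Fin n) ℂ →+* Matrix (Fin n) (Fin n) ℂ :=
  (starRingEnd ℂ).mapMatrix

theorem cj_apply (B : Matrix (Fin n) (Fin n) ℂ) (i j : Fin n) : cj B i j = conj (B i j) := rfl

theorem cj_cj (B : Matrix (Fin n) (Fin n) ℂ) : cj (cj B) = B := by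
  ext i j
  simp [cj_apply]

theorem cj_smul (c : ℂ) (B : Matrix (Fin n) (Fin n) ℂ) : cj (c • B) = conj c • cj B := by
  ext i j
  simp [cj_apply]

theorem cj_transpose (B : Matrix (Fin n) (Fin n) ℂ) : (cj B)ᵀ = Bᴴ := by
  ext i j
  simp [cj_apply, Matrix.conjTranspose_apply]

theorem cj_eq_self_iff (B : Matrix (Fin n) (Fin n) ℂ) :
    cj B = B ↔ ∀ i j, (B i j).im = 0 := by
  constructor
  · intro h i j
    have := congrFun (congrFun h i) j
    rw [cj_apply] at this
    exact Complex.conj_eq_iff_im.mp this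
  · intro h
    ext i j
    rw [cj_apply]
    exact Complex.conj_eq_iff_im.mpr (h i j)

/-- a suitable `θ` making `θ + θ̄ A` invertible -/
theorem exists_isUnit_comb (A : Matrix (Fin n) (Fin n) ℂ) :
    ∃ θ : ℂ, θ ≠ 0 ∧ IsUnit (θ • (1 : Matrix (Fin n) (Fin n) ℂ) + conj θ • A) := by
  have hfin : Set.Finite (spectrum ℂ A) := Matrix.finite_spectrum A
  let θ : ℕ → ℂ := fun k => (k : ℂ) + Complex.I
  have hθ0 : ∀ k, θ k ≠ 0 := by
    intro k h
    have := congrArg Complex.im h
    simp [θ] at this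
  have hcθ0 : ∀ k, conj (θ k) ≠ 0 := by
    intro k h
    apply hθ0 k
    have := congrArg conj h
    simpa using this
  have hcθ : ∀ k, conj (θ k) = (k : ℂ) - Complex.I := by
    intro k
    simp [θ, sub_eq_add_neg]
  let μ : ℕ → ℂ := fun k => -(θ k) / conj (θ k)
  have hinj : Function.Injective μ := by
    intro k l h
    simp only [μ] at h
    rw [div_eq_div_iff (hcθ0 k) (hcθ0 l), hcθ, hcθ] at h
    simp only [θ] at h
    have h2 : (2 * Complex.I) * (k : ℂ) = (2 * Complex.I) * (l : ℂ) := by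
      linear_combination h
    have h3 : (2 * Complex.I) ≠ 0 := by simp
    have := mul_left_cancel₀ h3 h2
    exact_mod_cast this
  have hex : ∃ k, μ k ∉ spectrum ℂ A := by
    by_contra hcon
    push Not at hcon
    exact (Set.infinite_of_injective_forall_mem hinj hcon) hfin
  obtain ⟨k, hk⟩ := hex
  refine ⟨θ k, hθ0 k, ?_⟩
  rw [spectrum.mem_iff, not_not] at hk
  have heq : θ k • (1 : Matrix (Fin n) (Fin n) ℂ) + conj (θ k) • A =
      (-conj (θ k)) • (algebraMap ℂ (Matrix (Fin n) (Fin n) ℂ) (μ k) - A) := by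
    rw [Algebra.algebraMap_eq_smul_one, smul_sub, smul_smul]
    have : -conj (θ k) * μ k = θ k := by
      simp only [μ]
      have hc := hcθ0 k
      field_simp
    rw [this]
    simp [sub_eq_add_neg]
  rw [heq]
  rw [Matrix.isUnit_iff_isUnit_det, Matrix.det_smul]
  exact (IsUnit.pow _ (IsUnit.mk0 _ (neg_ne_zero.mpr (hcθ0 k)))).mul
    ((Matrix.isUnit_iff_isUnit_det _).mp hk)

end Cfsg.Agent.Helper2.RealRep
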