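import Mathlib
import Cfsg.Agent.Helper2.RealRepA

/-!
Real forms of complex matrix representations: positivity of the Schur scalar and the
real-form lemma.
-/

set_option autoImplicit false

namespace Cfsg.Agent.Helper2.RealRep

open scoped ComplexConjugate ComplexOrder
open Matrix

variable {n : ℕ}

theorem cj_of_transpose (B : Matrix (Fin n) (Fin n) ℂ) : cj Bᵀ = Bᴴ := by
  ext i j
  simp [cj_apply, Matrix.conjTranspose_apply]

theorem cj_eq_conjTranspose_of_symm {M : Matrix (Fin n) (Fin n) ℂ} (h : Mᵀ = M) :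
    cj M = Mᴴ := by
  rw [← cj_of_transpose, h]

theorem cj_of_isHermitian {H : Matrix (Fin n) (Fin n) ℂ} (h : H.IsHermitian) : cj H = Hᵀ := by
  ext i j
  have := congrFun (congrFun h j) i
  simpa [cj_apply, Matrix.conjTranspose_apply] using this

theorem pos_scalar [NeZero n] {H M : Matrix (Fin n) (Fin n) ℂ} (hH : H.PosDef) (hM : IsUnit M)
    (hMT : Mᵀ = M) {c : ℂ}
    (hc : H⁻¹ * cj M * cj (H⁻¹ * cj M) = c • (1 : Matrix (Fin n) (Fin n) ℂ)) :
    ∃ r : ℝ, 0 < r ∧ c = r := by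
  have hHu : IsUnit H.det := (Matrix.isUnit_iff_isUnit_det H).mp hH.isUnit
  have h1 : cj (H⁻¹ * cj M) = (H⁻¹)ᵀ * M := by
    rw [map_mul, cj_cj, cj_of_isHermitian hH.inv.isHermitian]
  rw [h1, cj_eq_conjTranspose_of_symm hMT] at hc
  have h2 : Mᴴ * (H⁻¹)ᵀ * M = c • H := by
    have := congrArg (fun Z => H * Z) hc
    beta_reduce at this
    rw [Matrix.mul_smul, Matrix.mul_one] at this
    rw [← this]
    simp only [Matrix.mul_assoc]
    rw [← Matrix.mul_assoc H, Matrix.mul_nonsing_inv _ hHu, Matrix.one_mul]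
  have hP : (Mᴴ * (H⁻¹)ᵀ * M).PosDef :=
    hH.inv.transpose.conjTranspose_mul_mul_same (Matrix.mulVec_injective_of_isUnit hM)
  have hp := hP.diag_pos (i := 0)
  have hq := hH.diag_pos (i := 0)
  rw [h2, Matrix.smul_apply, smul_eq_mul] at hp
  obtain ⟨hq1, hq2⟩ := Complex.pos_iff.mp hq
  obtain ⟨hp1, hp2⟩ := Complex.pos_iff.mp hp
  rw [Complex.mul_re, ← hq2, mul_zero, sub_zero] at hp1
  rw [Complex.mul_im, ← hq2, mul_zero, zero_add] at hp2
  have him : c.im = 0 := by
    rcases mul_eq_zero.mp hp2.symm with h | h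
    · exact h
    · exact absurd h hq1.ne'
  have hre : 0 < c.re := by
    by_contra hcon
    push Not at hcon
    have := mul_nonpos_of_nonpos_of_nonneg hcon hq1.le
    linarith
  exact ⟨c.re, hre, Complex.ext (by simp) (by simp [him])⟩

/-- the real-form lemma -/
theorem exists_real_form {G : Type*} [Group G] (X : G → Matrix (Fin n) (Fin n) ℂ)
    (hX1 : X 1 = 1) (hXmul : ∀ g h, X (g * h) = X g * X h)
    (A : Matrix (Fin n) (Fin n) ℂ) (hA : A * cj A = 1)
    (hAX : ∀ g, A * cj (X g) = X g * A) :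
    ∃ Y : G → Matrix (Fin n) (Fin n) ℝ, Y 1 = 1 ∧ (∀ g h, Y (g * h) = Y g * Y h) ∧
      ∀ g, ((Y g).trace : ℂ) = (X g).trace := by
  obtain ⟨θ, hθ0, hθ⟩ := exists_isUnit_comb A
  set T := θ • (1 : Matrix (Fin n) (Fin n) ℂ) + conj θ • A with hT
  have hTdet : IsUnit T.det := (Matrix.isUnit_iff_isUnit_det T).mp hθ
  have hA' : cj A * A = 1 := by
    have := congrArg cj hA
    rwa [map_mul, cj_cj, map_one] at this
  have hAT : A * cj T = T := by
    rw [hT, map_add, cj_smul, cj_smul, map_one, Complex.conj_conj, Matrix.mul_add,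
      Matrix.mul_smul, Matrix.mul_smul, Matrix.mul_one, hA, add_comm]
  have hcT : cj T = cj A * T := by
    calc cj T = (cj A * A) * cj T := by rw [hA', Matrix.one_mul]
      _ = cj A * (A * cj T) := by rw [Matrix.mul_assoc]
      _ = cj A * T := by rw [hAT]
  have hTi1 : T⁻¹ * T = 1 := Matrix.nonsing_inv_mul _ hTdet
  have hTi2 : T * T⁻¹ = 1 := Matrix.mul_nonsing_inv _ hTdet
  have hcTi : cj T⁻¹ = T⁻¹ * A := by
    have e1 : cj T⁻¹ * cj T = 1 := by rw [← map_mul, hTi1, map_one]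
    have e2 : cj T * (T⁻¹ * A) = 1 := by
      rw [hcT]
      calc cj A * T * (T⁻¹ * A) = cj A * (T * T⁻¹) * A := by simp only [Matrix.mul_assoc]
        _ = 1 := by rw [hTi2, Matrix.mul_one, hA']
    calc cj T⁻¹ = cj T⁻¹ * (cj T * (T⁻¹ * A)) := by rw [e2, Matrix.mul_one]
      _ = (cj T⁻¹ * cj T) * (T⁻¹ * A) := by rw [Matrix.mul_assoc]
      _ = T⁻¹ * A := by rw [e1, Matrix.one_mul]
  set Z : G → Matrix (Fin n) (Fin n) ℂ := fun g => T⁻¹ * X g * T with hZ
  have hZcj : ∀ g, cj (Z g) = Z g := by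
    intro g
    simp only [hZ]
    rw [map_mul, map_mul, hcTi, hcT]
    calc T⁻¹ * A * cj (X g) * (cj A * T) = T⁻¹ * (A * cj (X g)) * cj A * T := by
          simp only [Matrix.mul_assoc]
      _ = T⁻¹ * (X g * A) * cj A * T := by rw [hAX]
      _ = T⁻¹ * X g * (A * cj A) * T := by simp only [Matrix.mul_assoc]
      _ = T⁻¹ * X g * T := by rw [hA, Matrix.mul_one]
  have hZ1 : Z 1 = 1 := by
    simp only [hZ]
    rw [hX1, Matrix.mul_one, hTi1]
  have hZmul : ∀ g h, Z (g * h) = Z g * Z h := by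
    intro g h
    simp only [hZ]
    rw [hXmul]
    calc T⁻¹ * (X g * X h) * T = T⁻¹ * X g * 1 * X h * T := by
          rw [Matrix.mul_one]; simp only [Matrix.mul_assoc]
      _ = T⁻¹ * X g * (T * T⁻¹) * X h * T := by rw [hTi2]
      _ = T⁻¹ * X g * T * (T⁻¹ * X h * T) := by simp only [Matrix.mul_assoc]
  have hZtr : ∀ g, (Z g).trace = (X g).trace := by
    intro g
    simp only [hZ]
    rw [Matrix.trace_mul_cycle, hTi2, Matrix.one_mul]
  let Y : G → Matrix (Fin n) (Fin n) ℝ := fun g => (Z g).map Complex.re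
  have hYZ : ∀ g, (Y g).map (Complex.ofRealHom : ℝ →+* ℂ) = Z g := by
    intro g
    ext i j
    have him : (Z g i j).im = 0 := (cj_eq_self_iff (Z g)).mp (hZcj g) i j
    simp only [Y, Matrix.map_apply, Complex.ofRealHom_eq_coe]
    exact Complex.ext (by simp) (by simp [him])
  have hinj : Function.Injective
      (fun B : Matrix (Fin n) (Fin n) ℝ => B.map (Complex.ofRealHom : ℝ →+* ℂ)) := by
    intro B C hBC
    ext i j
    have := congrFun (congrFun hBC i) j
    simp only [Matrix.map_apply, Complex.ofRealHom_eq_coe] at this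
    exact_mod_cast this
  refine ⟨Y, ?_, ?_, ?_⟩
  · apply hinj
    simp only
    rw [hYZ, hZ1, Matrix.map_one _ (map_zero _) (map_one _)]
  · intro g h
    apply hinj
    simp only
    rw [hYZ, Matrix.map_mul, hYZ, hYZ, hZmul]
  · intro g
    rw [← hZtr, ← hYZ g]
    simp [Matrix.trace]

end Cfsg.Agent.Helper2.RealRep
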