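import Mathlib
import Cfsg.Agent.Helper2.RealRepB
import Cfsg.Agent.Helper6.FrobSchur
import Cfsg.Agent.Helper6.EquivOfChar

/-!
Frobenius–Schur: indicator one iff afforded by a real representation.
-/

set_option autoImplicit false

namespace Cfsg.Agent.Helper2.RealRep

open scoped ComplexConjugate ComplexOrder
open Matrix Cfsg.Agent.Helper6

variable {n : ℕ}

theorem exists_real_rep {G : Type*} [Group G] [Fintype G]
    (ρ : Representation ℂ G (Fin n → ℂ)) [hirr : ρ.IsIrreducible] (hν : fsInd ρ = 1) :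
    ∃ Y : G → Matrix (Fin n) (Fin n) ℝ, Y 1 = 1 ∧ (∀ g h, Y (g * h) = Y g * Y h) ∧
      ∀ g, ((Y g).trace : ℂ) = ρ.character g := by
  have hreal : ∀ g, ρ.character g⁻¹ = ρ.character g := by
    by_contra hcon
    push Not at hcon
    have := fsInd_eq_zero_of_not_real ρ hcon
    rw [hν] at this
    exact one_ne_zero this
  obtain ⟨M, hM0, hM⟩ := exists_invForm_of_real ρ hreal
  have hMT : Mᵀ = M := by
    rw [hM.transpose_eq, hν, one_smul]
  have hMu : IsUnit M := hM.isUnit_of_ne_zero hM0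
  haveI : NeZero n := by
    constructor
    intro hn
    subst hn
    apply hM0
    ext i
    exact i.elim0
  set X : G → Matrix (Fin n) (Fin n) ℂ := fun g => repMat ρ g with hX
  have hXu : ∀ g, IsUnit (X g) := by
    intro g
    exact IsUnit.of_mul_eq_one (X g⁻¹) (repMat_mul_inv ρ g)
  set H : Matrix (Fin n) (Fin n) ℂ := ∑ g : G, (X g)ᴴ * X g with hH
  have hHpd : H.PosDef := by
    apply Matrix.posDef_sum Finset.univ_nonempty
    intro g _
    exact Matrix.PosDef.conjTranspose_mul_self _ (Matrix.mulVec_injective_of_isUnit (hXu g))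
  have hHu : IsUnit H.det := (Matrix.isUnit_iff_isUnit_det H).mp hHpd.isUnit
  have hHinv : ∀ h, (X h)ᴴ * H * X h = H := by
    intro h
    rw [hH, Matrix.mul_sum, Matrix.sum_mul]
    apply Fintype.sum_equiv (Equiv.mulRight h)
    intro g
    rw [Equiv.coe_mulRight]
    simp only [hX]
    rw [repMat_mul, Matrix.conjTranspose_mul]
    simp only [Matrix.mul_assoc]
  have hHX : ∀ g, H * X g = (X g⁻¹)ᴴ * H := by
    intro g
    calc H * X g = ((X g⁻¹)ᴴ * H * X g⁻¹) * X g := by rw [hHinv]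
      _ = (X g⁻¹)ᴴ * H * (X g⁻¹ * X g) := by simp only [Matrix.mul_assoc]
      _ = (X g⁻¹)ᴴ * H := by
        simp only [hX]
        rw [repMat_inv_mul, Matrix.mul_one]
  have hXHi : ∀ g, X g * H⁻¹ = H⁻¹ * (X g⁻¹)ᴴ := by
    intro g
    calc X g * H⁻¹ = H⁻¹ * (H * X g) * H⁻¹ := by
          rw [← Matrix.mul_assoc, Matrix.nonsing_inv_mul _ hHu, Matrix.one_mul]
      _ = H⁻¹ * ((X g⁻¹)ᴴ * H) * H⁻¹ := by rw [hHX]
      _ = H⁻¹ * (X g⁻¹)ᴴ * (H * H⁻¹) := by simp only [Matrix.mul_assoc]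
      _ = H⁻¹ * (X g⁻¹)ᴴ := by rw [Matrix.mul_nonsing_inv _ hHu, Matrix.mul_one]
  obtain ⟨A, hA⟩ : ∃ A : Matrix (Fin n) (Fin n) ℂ, A = H⁻¹ * cj M := ⟨_, rfl⟩
  have hAX : ∀ g, A * cj (X g) = X g * A := by
    intro g
    have e1 : cj M * cj (X g) = (X g⁻¹)ᴴ * cj M := by
      rw [← map_mul]
      simp only [hX]
      rw [hM.mul_repMat g, map_mul, cj_of_transpose]
    calc A * cj (X g) = H⁻¹ * (cj M * cj (X g)) := by rw [hA, Matrix.mul_assoc]
      _ = H⁻¹ * ((X g⁻¹)ᴴ * cj M) := by rw [e1]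
      _ = (H⁻¹ * (X g⁻¹)ᴴ) * cj M := by rw [Matrix.mul_assoc]
      _ = X g * H⁻¹ * cj M := by rw [hXHi]
      _ = X g * A := by rw [hA, Matrix.mul_assoc]
  have hcAX : ∀ g, cj A * X g = cj (X g) * cj A := by
    intro g
    have := congrArg cj (hAX g)
    rwa [map_mul, map_mul, cj_cj] at this
  have hcomm : ∀ g, (A * cj A) * X g = X g * (A * cj A) := by
    intro g
    calc A * cj A * X g = A * (cj A * X g) := by rw [Matrix.mul_assoc]
      _ = A * (cj (X g) * cj A) := by rw [hcAX]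
      _ = (A * cj (X g)) * cj A := by rw [Matrix.mul_assoc]
      _ = X g * A * cj A := by rw [hAX]
      _ = X g * (A * cj A) := by rw [Matrix.mul_assoc]
  obtain ⟨c, hc⟩ := exists_scalar_of_commute ρ (Matrix.toLin' (A * cj A)) (by
    intro g
    rw [← toLin'_repMat ρ g, ← Matrix.toLin'_mul, ← Matrix.toLin'_mul]
    exact congrArg _ (hcomm g))
  have hc1 : A * cj A = c • (1 : Matrix (Fin n) (Fin n) ℂ) := by
    have := congrArg LinearMap.toMatrix' hc
    rw [LinearMap.toMatrix'_toLin', map_smul, LinearMap.toMatrix'_id] at this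
    exact this
  obtain ⟨r, hr0, hcr⟩ := pos_scalar hHpd hMu hMT (by rw [← hA]; exact hc1)
  set t : ℝ := (Real.sqrt r)⁻¹ with ht
  have htt : t * t * r = 1 := by
    have h1 : Real.sqrt r * Real.sqrt r = r := Real.mul_self_sqrt hr0.le
    have h2 : Real.sqrt r ≠ 0 := (Real.sqrt_pos.mpr hr0).ne'
    rw [ht]
    field_simp
    nlinarith [h1]
  obtain ⟨A', hA'⟩ : ∃ A' : Matrix (Fin n) (Fin n) ℂ, A' = (t : ℂ) • A := ⟨_, rfl⟩
  have hA'1 : A' * cj A' = 1 := by
    rw [hA', cj_smul, Complex.conj_ofReal, Matrix.smul_mul, Matrix.mul_smul, hc1, smul_smul,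
      smul_smul, hcr]
    have : (t : ℂ) * (t : ℂ) * (r : ℂ) = 1 := by exact_mod_cast htt
    rw [this, one_smul]
  have hA'X : ∀ g, A' * cj (X g) = X g * A' := by
    intro g
    rw [hA', Matrix.smul_mul, Matrix.mul_smul, hAX]
  obtain ⟨Y, hY1, hYmul, hYtr⟩ := exists_real_form X (repMat_one ρ) (repMat_mul ρ) A' hA'1 hA'X
  refine ⟨Y, hY1, hYmul, ?_⟩
  intro g
  rw [hYtr g]
  exact trace_repMat ρ g

end Cfsg.Agent.Helper2.RealRep
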