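import Mathlib
import Cfsg.Agent.Helper2.RealRepC
import Cfsg.Agent.Helper6.PCoreChar

/-!
Frobenius–Schur: a real representation has indicator one.
-/

set_option autoImplicit false

namespace Cfsg.Agent.Helper2.RealRep

open scoped ComplexConjugate
open Matrix Cfsg.Agent.Helper6

variable {n : ℕ}

/-- complexification of a real matrix -/
noncomputable def cx (B : Matrix (Fin n) (Fin n) ℝ) : Matrix (Fin n) (Fin n) ℂ :=
  B.map (Complex.ofRealHom : ℝ →+* ℂ)

theorem cx_mul (B C : Matrix (Fin n) (Fin n) ℝ) : cx (B * C) = cx B * cx C := by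
  unfold cx
  rw [Matrix.map_mul]

theorem cx_one : cx (1 : Matrix (Fin n) (Fin n) ℝ) = 1 := by
  unfold cx
  rw [Matrix.map_one _ (map_zero _) (map_one _)]

theorem cx_transpose (B : Matrix (Fin n) (Fin n) ℝ) : cx Bᵀ = (cx B)ᵀ := by
  unfold cx
  rw [Matrix.transpose_map]

theorem cx_trace (B : Matrix (Fin n) (Fin n) ℝ) : (cx B).trace = ((B.trace : ℝ) : ℂ) := by
  unfold cx
  simp [Matrix.trace]

theorem trace_toLin'_real (B : Matrix (Fin n) (Fin n) ℝ) :
    LinearMap.trace ℝ (Fin n → ℝ) (Matrix.toLin' B) = B.trace := by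
  rw [LinearMap.trace_eq_matrix_trace ℝ (Pi.basisFun ℝ (Fin n)), LinearMap.toMatrix_eq_toMatrix',
    LinearMap.toMatrix'_toLin']

theorem fsInd_eq_one_of_real {G : Type*} [Group G] [Fintype G]
    (Y : G → Matrix (Fin n) (Fin n) ℝ) (hY1 : Y 1 = 1) (hYmul : ∀ g h, Y (g * h) = Y g * Y h)
    {χ : G → ℂ} (hχ : Cfsg.IsIrrCharacter G χ) (htr : ∀ g, ((Y g).trace : ℂ) = χ g) :
    (Nat.card G : ℂ)⁻¹ * ∑ s : G, χ (s * s) = 1 := by
  let σ : Representation ℂ G (Fin n → ℂ) :=
    { toFun := fun g => Matrix.toLin' (cx (Y g))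
      map_one' := by rw [hY1, cx_one, Matrix.toLin'_one]; rfl
      map_mul' := by
        intro g h
        rw [hYmul, cx_mul, Matrix.toLin'_mul]
        rfl }
  have hσ : ∀ g, repMat σ g = cx (Y g) := by
    intro g
    unfold repMat
    exact LinearMap.toMatrix'_toLin' _
  have hσχ : σ.character = χ := by
    funext g
    rw [← trace_repMat, hσ, cx_trace, htr]
  obtain ⟨n', ρ', hirr', hχ'⟩ := hχ
  obtain ⟨e⟩ := equiv_of_char_eq ρ' σ (by rw [hχ', hσχ])
  haveI hirr : σ.IsIrreducible := isIrreducible_of_equiv e hirr'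
  haveI hnt : Nontrivial (Fin n → ℂ) := nontrivial_of_isIrreducible σ
  haveI : NeZero n := by
    constructor
    intro hn
    subst hn
    obtain ⟨a, b, hab⟩ := hnt
    apply hab
    funext i
    exact i.elim0
  set Mr : Matrix (Fin n) (Fin n) ℝ := ∑ g : G, (Y g)ᵀ * Y g with hMr
  have hMrT : Mrᵀ = Mr := by
    rw [hMr, Matrix.transpose_sum]
    apply Finset.sum_congr rfl
    intro g _
    rw [Matrix.transpose_mul, Matrix.transpose_transpose]
  have hMrinv : ∀ h, (Y h)ᵀ * Mr * Y h = Mr := by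
    intro h
    rw [hMr, Matrix.mul_sum, Matrix.sum_mul]
    apply Fintype.sum_equiv (Equiv.mulRight h)
    intro g
    rw [Equiv.coe_mulRight, hYmul, Matrix.transpose_mul]
    simp only [Matrix.mul_assoc]
  have hMr0 : 0 < Mr 0 0 := by
    rw [hMr, Matrix.sum_apply]
    have hnn : ∀ g ∈ (Finset.univ : Finset G), 0 ≤ ((Y g)ᵀ * Y g) 0 0 := by
      intro g _
      rw [Matrix.mul_apply]
      apply Finset.sum_nonneg
      intro k _
      rw [Matrix.transpose_apply]
      exact mul_self_nonneg _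
    have h1 : 0 < ((Y 1)ᵀ * Y 1) 0 0 := by
      rw [hY1, Matrix.transpose_one, Matrix.mul_one, Matrix.one_apply_eq]
      exact one_pos
    exact lt_of_lt_of_le h1 (Finset.single_le_sum hnn (Finset.mem_univ 1))
  have hM : IsInvForm σ (cx Mr) := by
    intro g
    rw [hσ, ← cx_transpose, ← cx_mul, ← cx_mul, hMrinv]
  have hM0 : cx Mr ≠ 0 := by
    intro h
    have := congrFun (congrFun h 0) 0
    simp only [cx, Matrix.map_apply, Complex.ofRealHom_eq_coe, Matrix.zero_apply] at this
    have : Mr 0 0 = 0 := by exact_mod_cast this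
    rw [this] at hMr0
    exact lt_irrefl _ hMr0
  have h1 := hM.transpose_eq
  rw [← cx_transpose, hMrT] at h1
  have h2 : (1 - fsInd σ) • cx Mr = 0 := by
    rw [sub_smul, one_smul, ← h1, sub_self]
  rcases smul_eq_zero.mp h2 with h3 | h3
  · have h4 : fsInd σ = 1 := (sub_eq_zero.mp h3).symm
    unfold fsInd at h4
    rw [hσχ] at h4
    exact h4
  · exact absurd h3 hM0

end Cfsg.Agent.Helper2.RealRep
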