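import Mathlib
import Cfsg.Prelude.Def_KGroupFacts
import Cfsg.Prelude.Def_Transfer
import Cfsg.Agent.Helper1.CriticalSubgroup
import Cfsg.Agent.Helper5.PResidual

set_option autoImplicit false

/-!
A critical subgroup relative to a group `G` of automorphisms of a `p`-group `P` containing the
inner automorphisms, inside `[P, O^p(G)]`.  Part A: basic lemmas and the construction.
-/

namespace Cfsg.Agent.Helper2.RelCrit

open scoped commutatorElement

universe u

variable {P : Type u} [Group P]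

/-- core lemma: a `p'`-automorphism `α` with `x⁻¹ α(x) ∈ H` for `x ∈ S`, trivial on `H`, is trivial
on `S`. -/
theorem fix_of_comm_mem {p : ℕ} [Fact p.Prime] (hP : IsPGroup p P) (α : MulAut P)
    (hα : (orderOf α).Coprime p) (S H : Subgroup P)
    (h1 : ∀ x ∈ S, x⁻¹ * α x ∈ H) (h2 : ∀ y ∈ H, α y = y) : ∀ x ∈ S, α x = x := by
  intro x hx
  obtain ⟨y, hy⟩ : ∃ y, y = x⁻¹ * α x := ⟨_, rfl⟩
  have hyH : y ∈ H := by rw [hy]; exact h1 x hx
  have hay : α y = y := h2 y hyH
  have hax : α x = x * y := by rw [hy]; group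
  have hpow : ∀ k : ℕ, (α ^ k) x = x * y ^ k := by
    intro k
    induction k with
    | zero => simp
    | succ k ih =>
      rw [pow_succ', MulAut.mul_apply, ih, map_mul, map_pow, hay, hax, mul_assoc, ← pow_succ']
  have h4 := hpow (orderOf α)
  rw [pow_orderOf_eq_one, MulAut.one_apply] at h4
  have h5 : y ^ orderOf α = 1 := by
    have : x * y ^ orderOf α = x * 1 := by rw [← h4, mul_one]
    exact mul_left_cancel this
  obtain ⟨j, hj⟩ := hP y
  have h6 : orderOf y ∣ orderOf α := orderOf_dvd_of_pow_eq_one h5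
  have h7 : orderOf y ∣ p ^ j := orderOf_dvd_of_pow_eq_one hj
  have h8 : orderOf y = 1 := Nat.eq_one_of_dvd_coprimes (Nat.Coprime.pow_right j hα) h6 h7
  have h9 : y = 1 := orderOf_eq_one_iff.1 h8
  rw [hax, h9, mul_one]

theorem comm_mem_centralizer (α : MulAut P) (H : Subgroup P) (h2 : ∀ y ∈ H, α y = y) (x : P)
    (hx : ∀ k ∈ H, x * k * x⁻¹ ∈ H) : x⁻¹ * α x ∈ Subgroup.centralizer (H : Set P) := by
  rw [Subgroup.mem_centralizer_iff]
  intro k hk
  have h1 : α (x * k * x⁻¹) = x * k * x⁻¹ := h2 _ (hx k hk)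
  rw [map_mul, map_mul, map_inv, h2 k hk] at h1
  calc k * (x⁻¹ * α x) = x⁻¹ * (x * k * x⁻¹) * α x := by group
    _ = x⁻¹ * (α x * k * (α x)⁻¹) * α x := by rw [h1]
    _ = x⁻¹ * α x * k := by group

/-- invariance under a group of automorphisms -/
def Inv (G : Subgroup (MulAut P)) (S : Subgroup P) : Prop := ∀ α ∈ G, ∀ x ∈ S, α x ∈ S

namespace Inv

variable {G : Subgroup (MulAut P)} {S T : Subgroup P}

theorem map_eq (h : Inv G S) {α : MulAut P} (hα : α ∈ G) : S.map α.toMonoidHom = S := by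
  apply le_antisymm
  · rintro _ ⟨x, hx, rfl⟩
    exact h α hα x hx
  · intro x hx
    refine ⟨α⁻¹ x, h α⁻¹ (G.inv_mem hα) x hx, ?_⟩
    show α (α⁻¹ x) = x
    rw [← MulAut.mul_apply, mul_inv_cancel, MulAut.one_apply]

theorem conj_mem (hG : Cfsg.Inn P ≤ G) (h : Inv G S) {x : P} (hx : x ∈ S) (g : P) :
    g * x * g⁻¹ ∈ S := by
  have := h (MulAut.conj g) (hG ⟨g, rfl⟩) x hx
  rwa [MulAut.conj_apply] at this

theorem normal (hG : Cfsg.Inn P ≤ G) (h : Inv G S) : S.Normal :=
  ⟨fun x hx g => h.conj_mem hG hx g⟩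

theorem inf (h1 : Inv G S) (h2 : Inv G T) : Inv G (S ⊓ T) :=
  fun α hα x hx => ⟨h1 α hα x hx.1, h2 α hα x hx.2⟩

theorem centralizer (h : Inv G S) : Inv G (Subgroup.centralizer (S : Set P)) := by
  intro α hα x hx
  rw [Subgroup.mem_centralizer_iff] at hx ⊢
  intro s hs
  have hs' : α⁻¹ s ∈ S := h α⁻¹ (G.inv_mem hα) s hs
  have e : α (α⁻¹ s) = s := by
    rw [← MulAut.mul_apply, mul_inv_cancel, MulAut.one_apply]
  have := congrArg α (hx _ hs')
  rwa [map_mul, map_mul, e] at this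

end Inv

/-- `[P, O^p(G)]` -/
def resComm (p : ℕ) (G : Subgroup (MulAut P)) : Subgroup P :=
  Subgroup.closure {y : P | ∃ α ∈ Cfsg.pResidual p ↥G, ∃ x : P, y = x⁻¹ * (α : MulAut P) x}

theorem resComm_inv (p : ℕ) (G : Subgroup (MulAut P)) : Inv G (resComm p G) := by
  intro β hβ y hy
  unfold resComm at hy ⊢
  induction hy using Subgroup.closure_induction with
  | mem y hy =>
    obtain ⟨α, hα, x, rfl⟩ := hy
    apply Subgroup.subset_closure
    haveI : (Cfsg.pResidual p ↥G).Characteristic := Cfsg.Agent.Helper5.pResidual_characteristic p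
    have hn : (Cfsg.pResidual p ↥G).Normal := inferInstance
    refine ⟨⟨β, hβ⟩ * α * ⟨β, hβ⟩⁻¹, hn.conj_mem α hα ⟨β, hβ⟩, β x, ?_⟩
    rw [map_mul, map_inv]
    congr 1
    show β ((α : MulAut P) x) = (β * (α : MulAut P) * β⁻¹) (β x)
    rw [MulAut.mul_apply, MulAut.mul_apply]
    congr 2
    rw [← MulAut.mul_apply, inv_mul_cancel, MulAut.one_apply]
  | one => rw [map_one]; exact Subgroup.one_mem _
  | mul a b _ _ ha hb => rw [map_mul]; exact Subgroup.mul_mem _ ha hb
  | inv a _ ha => rw [map_inv]; exact Subgroup.inv_mem _ ha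

theorem resComm_faithful {p : ℕ} [Fact p.Prime] (hP : IsPGroup p P) (G : Subgroup (MulAut P))
    (α : MulAut P) (hαG : α ∈ G) (hα : (orderOf α).Coprime p)
    (h : ∀ y ∈ resComm p G, α y = y) : α = 1 := by
  have hres : (⟨α, hαG⟩ : ↥G) ∈ Cfsg.pResidual p ↥G := by
    apply Subgroup.subset_closure
    show (orderOf (⟨α, hαG⟩ : ↥G)).Coprime p
    rw [← Subgroup.orderOf_coe]
    exact hα
  have h1 : ∀ x ∈ (⊤ : Subgroup P), x⁻¹ * α x ∈ resComm p G := by
    intro x _
    apply Subgroup.subset_closure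
    exact ⟨⟨α, hαG⟩, hres, x, rfl⟩
  have h2 := fix_of_comm_mem hP α hα ⊤ (resComm p G) h1 h
  ext x
  exact h2 x (Subgroup.mem_top x)

end Cfsg.Agent.Helper2.RelCrit
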