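import Mathlib
import Cfsg.Agent.Helper2.RelCritA

set_option autoImplicit false

/-!
Relative critical subgroup, part B: the subgroup `H`.
-/

namespace Cfsg.Agent.Helper2.RelCrit

open scoped commutatorElement
open Cfsg.Agent.Helper1

universe u

variable {P : Type u} [Group P]

theorem exists_H [Finite P] {p : ℕ} [hp : Fact p.Prime] (hP : IsPGroup p P)
    (G : Subgroup (MulAut P)) (hG : Cfsg.Inn P ≤ G) :
    ∃ H A : Subgroup P, Inv G H ∧ Inv G A ∧ H ≤ resComm p G ∧ A ≤ H ∧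
      A ≤ Subgroup.centralizer (H : Set P) ∧
      (∀ x ∈ H, ∀ g : P, x * g * x⁻¹ * g⁻¹ ∈ A) ∧ (∀ x ∈ H, x ^ p ∈ A) ∧
      resComm p G ⊓ Subgroup.centralizer (H : Set P) ≤ A := by
  obtain ⟨R, hRdef⟩ : ∃ R : Subgroup P, R = resComm p G := ⟨_, rfl⟩
  have hRinv : Inv G R := by rw [hRdef]; exact resComm_inv p G
  let 𝒜 : Set (Subgroup P) := {A | A ≤ R ∧ Inv G A ∧ ∀ a ∈ A, ∀ b ∈ A, a * b = b * a}
  have hbot : (⊥ : Subgroup P) ∈ 𝒜 := by
    refine ⟨bot_le, ?_, ?_⟩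
    · intro α _ x hx
      rw [Subgroup.mem_bot] at hx ⊢
      rw [hx, map_one]
    · intro a ha b hb
      rw [Subgroup.mem_bot] at ha hb
      rw [ha, hb]
  obtain ⟨A, -, hAmax⟩ := (Set.toFinite 𝒜).exists_le_maximal hbot
  obtain ⟨hAR, hAinv, hAab⟩ : A ∈ 𝒜 := hAmax.prop
  haveI hAn : A.Normal := hAinv.normal hG
  obtain ⟨C, hCdef⟩ : ∃ C : Subgroup P, C = R ⊓ Subgroup.centralizer (A : Set P) := ⟨_, rfl⟩
  have hCinv : Inv G C := by rw [hCdef]; exact hRinv.inf hAinv.centralizer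
  have hAC : A ≤ C := by
    rw [hCdef]
    refine le_inf hAR ?_
    intro a ha
    rw [Subgroup.mem_centralizer_iff]
    exact fun b hb => hAab b hb a ha
  obtain ⟨H, hHdef⟩ : ∃ H : Subgroup P, H = critSub p A C := ⟨_, rfl⟩
  have hmemH : ∀ x : P, x ∈ H ↔ x ∈ C ∧ (∀ g : P, (g * x)⁻¹ * (x * g) ∈ A) ∧ x ^ p ∈ A := by
    intro x; rw [hHdef]; exact mem_critSub
  have hHinv : Inv G H := by
    intro β hβ x hx
    rw [hmemH] at hx ⊢
    obtain ⟨hxC, hxc, hxp⟩ := hx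
    refine ⟨hCinv β hβ x hxC, fun g => ?_, ?_⟩
    · have e : g = β (β⁻¹ g) := by
        rw [← MulAut.mul_apply, mul_inv_cancel, MulAut.one_apply]
      have h1 := hAinv β hβ _ (hxc (β⁻¹ g))
      rw [map_mul, map_inv, map_mul, map_mul, ← e] at h1
      exact h1
    · rw [← map_pow]
      exact hAinv β hβ _ hxp
  have hAH : A ≤ H := by
    intro a ha
    rw [hmemH]
    refine ⟨hAC ha, fun g => ?_, A.pow_mem ha p⟩
    have : (g * a)⁻¹ * (a * g) = a⁻¹ * (g⁻¹ * a * g⁻¹⁻¹) := by group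
    rw [this]
    exact A.mul_mem (A.inv_mem ha) (hAn.conj_mem a ha g⁻¹)
  have hHC : H ≤ C := fun x hx => ((hmemH x).1 hx).1
  have hHR : H ≤ R := fun x hx => by
    have := hHC hx
    rw [hCdef] at this
    exact this.1
  have hAZ : A ≤ Subgroup.centralizer (H : Set P) := by
    intro a ha
    rw [Subgroup.mem_centralizer_iff]
    intro h hh
    have := hHC hh
    rw [hCdef] at this
    exact (Subgroup.mem_centralizer_iff.1 this.2 a ha).symm
  have hZ : H ⊓ Subgroup.centralizer (H : Set P) = A := by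
    have hZab : ∀ a ∈ H ⊓ Subgroup.centralizer (H : Set P),
        ∀ b ∈ H ⊓ Subgroup.centralizer (H : Set P), a * b = b * a := by
      intro a ha b hb
      exact Subgroup.mem_centralizer_iff.1 hb.2 a ha.1
    have hmem : H ⊓ Subgroup.centralizer (H : Set P) ∈ 𝒜 :=
      ⟨inf_le_left.trans hHR, hHinv.inf hHinv.centralizer, hZab⟩
    exact le_antisymm (hAmax.2 hmem (le_inf hAH hAZ)) (le_inf hAH hAZ)
  have hcommA : ∀ x ∈ H, ∀ g : P, x * g * x⁻¹ * g⁻¹ ∈ A := by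
    intro x hx g
    have := ((hmemH _).1 (H.inv_mem hx)).2.1 g⁻¹
    have e : (g⁻¹ * x⁻¹)⁻¹ * (x⁻¹ * g⁻¹) = x * g * x⁻¹ * g⁻¹ := by group
    rwa [e] at this
  refine ⟨H, A, hHinv, hAinv, by rw [← hRdef]; exact hHR, hAH, hAZ, hcommA,
    fun x hx => ((hmemH x).1 hx).2.2, ?_⟩
  rw [← hRdef]
  by_contra hnot
  obtain ⟨Q', hQ'def⟩ : ∃ Q' : Subgroup P, Q' = R ⊓ Subgroup.centralizer (H : Set P) := ⟨_, rfl⟩
  rw [← hQ'def] at hnot
  have hQ'inv : Inv G Q' := by rw [hQ'def]; exact hRinv.inf hHinv.centralizer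
  have hQ'n : Q'.Normal := hQ'inv.normal hG
  have hQp : IsPGroup p (P ⧸ A) := hP.to_quotient A
  have hQ'bn : (Q'.map (QuotientGroup.mk' A)).Normal :=
    hQ'n.map _ (QuotientGroup.mk'_surjective A)
  have hne : Q'.map (QuotientGroup.mk' A) ≠ ⊥ := by
    intro h
    apply hnot
    have := (Subgroup.map_eq_bot_iff Q').1 h
    rwa [QuotientGroup.ker_mk'] at this
  obtain ⟨z, hzQ, hz1, hzc⟩ :=
    Cfsg.Agent.Helper5.exists_ne_one_mem_center_of_normal hQp _ hne
  obtain ⟨k, hk⟩ := (IsPGroup.iff_orderOf.1 hQp) z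
  have hk0 : k ≠ 0 := by
    intro h0
    rw [h0, pow_zero, orderOf_eq_one_iff] at hk
    exact hz1 hk
  obtain ⟨y, hydef⟩ : ∃ y, y = z ^ p ^ (k - 1) := ⟨_, rfl⟩
  have hyord : orderOf y = p := by
    rw [hydef, orderOf_pow_of_dvd (pow_ne_zero _ hp.out.ne_zero)
      (by rw [hk]; exact pow_dvd_pow p (by omega)), hk]
    have := Nat.pow_div (show k - 1 ≤ k by omega) hp.out.pos
    rw [this, show k - (k - 1) = 1 by omega, pow_one]
  have hyQ : y ∈ Q'.map (QuotientGroup.mk' A) := by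
    rw [hydef]; exact Subgroup.pow_mem _ hzQ _
  have hyc : ∀ t, t * y = y * t := by
    intro t
    rw [hydef]
    exact ((Commute.pow_right (hzc t) _)).eq
  obtain ⟨q, hqQ', hqy⟩ := hyQ
  have hqQ'' : q ∈ R ⊓ Subgroup.centralizer (H : Set P) := by rw [← hQ'def]; exact hqQ'
  have hqH : q ∈ H := by
    rw [hmemH]
    refine ⟨?_, fun g => ?_, ?_⟩
    · rw [hCdef]
      have hle : Subgroup.centralizer (H : Set P) ≤ Subgroup.centralizer (A : Set P) :=
        Subgroup.centralizer_le (show (A : Set P) ⊆ (H : Set P) from hAH)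
      exact ⟨hqQ''.1, hle hqQ''.2⟩
    · rw [← QuotientGroup.eq, QuotientGroup.mk_mul, QuotientGroup.mk_mul]
      have hq' : (QuotientGroup.mk q : P ⧸ A) = y := hqy
      rw [hq']
      exact hyc _
    · rw [← QuotientGroup.eq_one_iff, QuotientGroup.mk_pow]
      have hq' : (QuotientGroup.mk q : P ⧸ A) = y := hqy
      rw [hq', ← hyord, pow_orderOf_eq_one]
  have hqA : q ∈ A := by
    rw [← hZ]
    exact Subgroup.mem_inf.2 ⟨hqH, hqQ''.2⟩
  have hy1 : y = 1 := by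
    rw [← hqy]
    exact (QuotientGroup.eq_one_iff q).2 hqA
  rw [hy1, orderOf_one] at hyord
  exact hp.out.one_lt.ne hyord

/-- `p'`-automorphisms in `G` act faithfully on `H`. -/
theorem faithful_of_H {p : ℕ} [hp : Fact p.Prime] (hP : IsPGroup p P)
    (G : Subgroup (MulAut P)) (hG : Cfsg.Inn P ≤ G) (H A : Subgroup P) (hHinv : Inv G H)
    (hAH : A ≤ H) (hcen : resComm p G ⊓ Subgroup.centralizer (H : Set P) ≤ A)
    (α : MulAut P) (hαG : α ∈ G) (hα : (orderOf α).Coprime p) (h : ∀ y ∈ H, α y = y) : α = 1 := by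
  apply resComm_faithful hP G α hαG hα
  apply fix_of_comm_mem hP α hα (resComm p G) H _ h
  intro x hx
  apply hAH
  apply hcen
  refine ⟨?_, ?_⟩
  · exact Subgroup.mul_mem _ (Subgroup.inv_mem _ hx) (resComm_inv p G α hαG x hx)
  · apply comm_mem_centralizer α H h x
    intro k hk
    exact hHinv.conj_mem hG hk x

end Cfsg.Agent.Helper2.RelCrit
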