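import Mathlib
import Cfsg.Agent.Helper2.RelCritB
import Cfsg.Agent.Helper2.OmegaKey

set_option autoImplicit false

/-!
Relative critical subgroup, part C: the subgroup `D = Ω(H)` and the main theorem.
-/

namespace Cfsg.Agent.Helper2.RelCrit

open scoped commutatorElement
open Cfsg.Agent.Helper1 Cfsg.Agent.Helper2.BaerC

universe u

theorem mul_pow_omega {T : Type u} [Group T] {p : ℕ} [hp : Fact p.Prime]
    (hcen : ∀ a b z : T, Commute ⁅a, b⁆ z) (hpc : ∀ a b : T, ⁅a ^ p, b⁆ = 1)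
    (x y : T) (hx : x ^ omegaExp p = 1) (hy : y ^ omegaExp p = 1) :
    (x * y) ^ omegaExp p = 1 := by
  have hc : ⁅y, x⁆ ^ p = 1 := by
    rw [← commutator_pow_left_of_central (hcen y x), hpc]
  have hyx : y * x = ⁅y, x⁆ * x * y := by simp [commutatorElement_def]
  rw [mul_pow_of_central (hcen y x) hyx, hx, hy, one_mul, one_mul]
  unfold omegaExp
  by_cases hp2 : p = 2
  · rw [if_pos hp2]
    have e : Nat.choose 4 2 = p * 3 := by rw [hp2]; rfl
    rw [e, pow_mul, hc, one_pow]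
  · rw [if_neg hp2]
    have hdvd : p ∣ p.choose 2 := by
      apply hp.out.dvd_choose_self (by norm_num)
      have := hp.out.two_le
      omega
    obtain ⟨k, hk⟩ := hdvd
    rw [hk, pow_mul, hc, one_pow]

variable {P : Type u} [Group P]

/-- `Ω(H)`: the elements of `H` of order dividing `omegaExp p`, when `H` has class two with
central `p`-th powers. -/
def omegaSub (p : ℕ) [hp : Fact p.Prime] (H A : Subgroup P)
    (hAZ : A ≤ Subgroup.centralizer (H : Set P))
    (hcommA : ∀ x ∈ H, ∀ g : P, x * g * x⁻¹ * g⁻¹ ∈ A) (hpowA : ∀ x ∈ H, x ^ p ∈ A) :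
    Subgroup P where
  carrier := {x | x ∈ H ∧ x ^ omegaExp p = 1}
  one_mem' := ⟨H.one_mem, one_pow _⟩
  inv_mem' := by
    rintro x ⟨hx, hxq⟩
    exact ⟨H.inv_mem hx, by rw [inv_pow, hxq, inv_one]⟩
  mul_mem' := by
    rintro x y ⟨hx, hxq⟩ ⟨hy, hyq⟩
    refine ⟨H.mul_mem hx hy, ?_⟩
    have hcen : ∀ a b z : ↥H, Commute ⁅a, b⁆ z := by
      intro a b z
      apply Subtype.ext
      have h1 : ((⁅a, b⁆ : ↥H) : P) ∈ A := by
        have := hcommA a a.2 b
        simpa [commutatorElement_def] using this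
      have h2 := Subgroup.mem_centralizer_iff.1 (hAZ h1) z z.2
      simpa using h2.symm
    have hpc : ∀ a b : ↥H, ⁅a ^ p, b⁆ = 1 := by
      intro a b
      rw [commutatorElement_eq_one_iff_commute]
      apply Subtype.ext
      have h1 : ((a ^ p : ↥H) : P) ∈ A := by
        rw [Subgroup.coe_pow]; exact hpowA a a.2
      have h2 := Subgroup.mem_centralizer_iff.1 (hAZ h1) b b.2
      simpa using h2.symm
    have h3 := mul_pow_omega hcen hpc ⟨x, hx⟩ ⟨y, hy⟩ (Subtype.ext (by simpa using hxq))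
      (Subtype.ext (by simpa using hyq))
    have h4 := congrArg Subtype.val h3
    simpa using h4

theorem mem_omegaSub {p : ℕ} [hp : Fact p.Prime] {H A : Subgroup P}
    {hAZ : A ≤ Subgroup.centralizer (H : Set P)}
    {hcommA : ∀ x ∈ H, ∀ g : P, x * g * x⁻¹ * g⁻¹ ∈ A} {hpowA : ∀ x ∈ H, x ^ p ∈ A} {x : P} :
    x ∈ omegaSub p H A hAZ hcommA hpowA ↔ x ∈ H ∧ x ^ omegaExp p = 1 := Iff.rfl

/-- a `p'`-automorphism in `G` trivial on `Ω(H)` is trivial on `H` -/
theorem fix_H_of_fix_omega [Finite P] {p : ℕ} [hp : Fact p.Prime] (hP : IsPGroup p P)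
    (G : Subgroup (MulAut P)) (H : Subgroup P) (hHinv : Inv G H)
    (α : MulAut P) (hαG : α ∈ G) (hα : (orderOf α).Coprime p)
    (h : ∀ y ∈ H, y ^ omegaExp p = 1 → α y = y) : ∀ y ∈ H, α y = y := by
  let K := ↥(Subgroup.zpowers α)
  have hKG : Subgroup.zpowers α ≤ G := Subgroup.zpowers_le.mpr hαG
  have hKinv : ∀ k : K, ∀ x ∈ H, k • x ∈ H := fun k x hx => hHinv k.1 (hKG k.2) x hx
  letI := subAction H hKinv
  have hKc : (Nat.card K).Coprime p := by
    show (Nat.card ↥(Subgroup.zpowers α)).Coprime p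
    rw [Nat.card_zpowers]; exact hα
  have hsm : ∀ (k : K) (x : ↥H), ((k • x : ↥H) : P) = (k : MulAut P) (x : P) := fun k x => rfl
  have hyp : ∀ x : ↥H, x ^ omegaExp p = 1 → ∀ k : K, k • x = x := by
    intro x hx k
    apply Subtype.ext
    rw [hsm]
    have hx' : (x : P) ^ omegaExp p = 1 := by
      have := congrArg Subtype.val hx
      simpa using this
    have h1 : α ∈ MulAction.stabilizer (MulAut P) (x : P) := h x x.2 hx'
    have h2 : Subgroup.zpowers α ≤ MulAction.stabilizer (MulAut P) (x : P) :=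
      Subgroup.zpowers_le.mpr h1
    exact h2 k.2
  have := omega_key hKc (Nat.card ↥H) ↥H rfl (hP.to_subgroup H) hyp
  intro y hy
  have h1 := this ⟨α, Subgroup.mem_zpowers α⟩ ⟨y, hy⟩
  have h2 := congrArg Subtype.val h1
  rwa [hsm] at h2

end Cfsg.Agent.Helper2.RelCrit
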