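import Mathlib
import Cfsg.Agent.Helper2.RelCritC

set_option autoImplicit false

/-!
Relative critical subgroup, part D: the main theorem.
-/

namespace Cfsg.Agent.Helper2.RelCrit

open scoped commutatorElement
open Cfsg.Agent.Helper1 Cfsg.Agent.Helper2.BaerC

universe u

variable {P : Type u} [Group P]

/-- an element of `D` commuting with a maximal abelian subgroup of `D` lies in it -/
theorem mem_of_maximal_abelian (D A1 : Subgroup P) (hA1D : A1 ≤ D) (hA1 : IsMulCommutative ↥A1)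
    (hmax : ∀ B : Subgroup P, A1 ≤ B → B ≤ D → IsMulCommutative ↥B → B = A1)
    (z : P) (hzD : z ∈ D) (hz : ∀ a ∈ A1, a * z = z * a) : z ∈ A1 := by
  obtain ⟨B, hB⟩ : ∃ B, B = A1 ⊔ Subgroup.zpowers z := ⟨_, rfl⟩
  have hA1ab : ∀ a ∈ A1, ∀ b ∈ A1, a * b = b * a := by
    intro a ha b hb
    have := hA1.is_comm.comm ⟨a, ha⟩ ⟨b, hb⟩
    exact congrArg Subtype.val this
  have h1 : B ≤ Subgroup.centralizer (A1 : Set P) := by
    rw [hB]
    apply sup_le
    · intro a ha
      rw [Subgroup.mem_centralizer_iff]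
      exact fun b hb => hA1ab b hb a ha
    · rw [Subgroup.zpowers_le, Subgroup.mem_centralizer_iff]
      exact fun a ha => hz a ha
  have h2 : B ≤ Subgroup.centralizer ({z} : Set P) := by
    rw [hB]
    apply sup_le
    · intro a ha
      rw [Subgroup.mem_centralizer_singleton_iff]
      exact hz a ha
    · rw [Subgroup.zpowers_le, Subgroup.mem_centralizer_singleton_iff]
  have h3 : ∀ b ∈ B, ∀ b' ∈ B, b * b' = b' * b := by
    intro b hb b' hb'
    have hb1 := Subgroup.mem_centralizer_iff.1 (h1 hb)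
    have hb2 : b * z = z * b := Subgroup.mem_centralizer_singleton_iff.1 (h2 hb)
    have : B ≤ Subgroup.centralizer ({b} : Set P) := by
      rw [hB]
      apply sup_le
      · intro a ha
        rw [Subgroup.mem_centralizer_singleton_iff]
        exact hb1 a ha
      · rw [Subgroup.zpowers_le, Subgroup.mem_centralizer_singleton_iff]
        exact hb2.symm
    exact (Subgroup.mem_centralizer_singleton_iff.1 (this hb')).symm
  have hBc : IsMulCommutative ↥B := ⟨⟨fun a b => Subtype.ext (h3 a a.2 b b.2)⟩⟩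
  have hBD : B ≤ D := by
    rw [hB]
    exact sup_le hA1D (Subgroup.zpowers_le.mpr hzD)
  have := hmax B (by rw [hB]; exact le_sup_left) hBD hBc
  rw [← this, hB]
  exact Subgroup.mem_sup_right (Subgroup.mem_zpowers z)

theorem main [Finite P] {p : ℕ} [hp : Fact p.Prime] (hP : IsPGroup p P)
    (G : Subgroup (MulAut P)) (hG : Cfsg.Inn P ≤ G) :
    ∃ D : Subgroup P,
      (∀ α ∈ G, D.map α.toMonoidHom = D) ∧
      D ≤ Subgroup.closure {y : P | ∃ α ∈ Cfsg.pResidual p ↥G, ∃ x : P, y = x⁻¹ * (α : MulAut P) x} ∧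
      (∀ d ∈ D, d ^ p = 1 ∨ (p = 2 ∧ d ^ 4 = 1)) ∧
      ⁅D, (⊤ : Subgroup P)⁆ ≤ D ⊓ Subgroup.centralizer (D : Set P) ∧
      (∀ α ∈ G, (orderOf α).Coprime p → (∀ d ∈ D, α d = d) → α = 1) ∧
      ∀ A : Subgroup P, A ≤ D → IsMulCommutative ↥A →
        (∀ B : Subgroup P, A ≤ B → B ≤ D → IsMulCommutative ↥B → B = A) →
        A.Normal ∧ ∀ α ∈ G, (∀ a ∈ A, α a = a) → ∃ k : ℕ, orderOf α = p ^ k := by
  obtain ⟨H, A, hHinv, hAinv, hHR, hAH, hAZ, hcommA, hpowA, hcen⟩ := exists_H hP G hG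
  obtain ⟨D, hDdef⟩ : ∃ D, D = omegaSub p H A hAZ hcommA hpowA := ⟨_, rfl⟩
  have hmemD : ∀ x, x ∈ D ↔ x ∈ H ∧ x ^ omegaExp p = 1 := by
    intro x; rw [hDdef]; exact mem_omegaSub
  have hDH : D ≤ H := fun x hx => ((hmemD x).1 hx).1
  have hDinv : Inv G D := by
    intro α hα x hx
    rw [hmemD] at hx ⊢
    exact ⟨hHinv α hα x hx.1, by rw [← map_pow, hx.2, map_one]⟩
  have hDn : D.Normal := hDinv.normal hG
  have hfaith : ∀ α ∈ G, (orderOf α).Coprime p → (∀ d ∈ D, α d = d) → α = 1 := by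
    intro α hαG hα hd
    apply faithful_of_H hP G hG H A hHinv hAH hcen α hαG hα
    apply fix_H_of_fix_omega hP G H hHinv α hαG hα
    intro y hy hyq
    exact hd y ((hmemD y).2 ⟨hy, hyq⟩)
  have hZD : ∀ d ∈ D, ∀ g : P, d * g * d⁻¹ * g⁻¹ ∈ D ⊓ Subgroup.centralizer (D : Set P) := by
    intro d hd g
    refine ⟨?_, ?_⟩
    · have h1 : g * d⁻¹ * g⁻¹ ∈ D := hDn.conj_mem _ (D.inv_mem hd) g
      have := D.mul_mem hd h1
      have e : d * (g * d⁻¹ * g⁻¹) = d * g * d⁻¹ * g⁻¹ := by group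
      rwa [e] at this
    · have h1 := hAZ (hcommA d (hDH hd) g)
      exact Subgroup.centralizer_le (show (D : Set P) ⊆ (H : Set P) from hDH) h1
  refine ⟨D, fun α hα => hDinv.map_eq hα, hDH.trans hHR, ?_, ?_, hfaith, ?_⟩
  · intro d hd
    have h1 := ((hmemD d).1 hd).2
    unfold omegaExp at h1
    by_cases hp2 : p = 2
    · rw [if_pos hp2] at h1
      exact Or.inr ⟨hp2, h1⟩
    · rw [if_neg hp2] at h1
      exact Or.inl h1
  · rw [Subgroup.commutator_le]
    intro d hd g _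
    rw [commutatorElement_def]
    exact hZD d hd g
  · intro A1 hA1D hA1c hmax
    have hself : ∀ z ∈ D, (∀ a ∈ A1, a * z = z * a) → z ∈ A1 :=
      fun z hzD hz => mem_of_maximal_abelian D A1 hA1D hA1c hmax z hzD hz
    have hconj : ∀ a ∈ A1, ∀ g : P, g * a * g⁻¹ ∈ A1 := by
      intro a ha g
      have h1 := hZD a (hA1D ha) g
      -- c = a g a⁻¹ g⁻¹ ∈ Z(D), so c ∈ A1, and g a g⁻¹ = c⁻¹ a
      have hc : a * g * a⁻¹ * g⁻¹ ∈ A1 := by
        apply hself _ h1.1
        intro b hb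
        exact Subgroup.mem_centralizer_iff.1 h1.2 b (hA1D hb)
      have e : g * a * g⁻¹ = (a * g * a⁻¹ * g⁻¹)⁻¹ * a := by group
      rw [e]
      exact A1.mul_mem (A1.inv_mem hc) ha
    refine ⟨⟨fun a ha g => hconj a ha g⟩, ?_⟩
    intro α hαG hαA
    have hn0 : orderOf α ≠ 0 := (orderOf_pos α).ne'
    obtain ⟨e, m, hm, hnm⟩ := Nat.exists_eq_pow_mul_and_not_dvd hn0 p hp.out.ne_one
    obtain ⟨β, hβ⟩ : ∃ β, β = α ^ (p ^ e) := ⟨_, rfl⟩
    have hβo : orderOf β = m := by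
      rw [hβ, orderOf_pow_of_dvd (pow_ne_zero _ hp.out.ne_zero) ⟨m, hnm⟩, hnm,
        Nat.mul_div_cancel_left _ (pow_pos hp.out.pos e)]
    have hβG : β ∈ G := by rw [hβ]; exact G.pow_mem hαG _
    have hβc : (orderOf β).Coprime p := by
      rw [hβo]
      exact ((Nat.Prime.coprime_iff_not_dvd hp.out).2 hm).symm
    have hβA : ∀ a ∈ A1, β a = a := by
      intro a ha
      have h1 : α ∈ MulAction.stabilizer (MulAut P) a := hαA a ha
      have h2 : β ∈ MulAction.stabilizer (MulAut P) a := by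
        rw [hβ]; exact Subgroup.pow_mem _ h1 _
      exact h2
    have hβD : ∀ d ∈ D, β d = d := by
      apply fix_of_comm_mem hP β hβc D A1 _ hβA
      intro x hx
      have hxD : x⁻¹ * β x ∈ D := D.mul_mem (D.inv_mem hx) (hDinv β hβG x hx)
      apply hself _ hxD
      intro a ha
      have := comm_mem_centralizer β A1 hβA x (fun k hk => hconj k hk x)
      exact Subgroup.mem_centralizer_iff.1 this a ha
    have hβ1 : β = 1 := hfaith β hβG hβc hβD
    have hm1 : m = 1 := by rw [← hβo, hβ1, orderOf_one]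
    exact ⟨e, by rw [hnm, hm1, mul_one]⟩

end Cfsg.Agent.Helper2.RelCrit
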