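import Mathlib
import Cfsg.Agent.Helper5.PResidual
import Cfsg.Agent.Helper5.Isolated
import Cfsg.Agent.S1182
import Cfsg.Agent.S1185

set_option autoImplicit false

namespace Cfsg.Agent.Helper2

open Cfsg

open scoped commutatorElement

variable {X : Type*} [Group X]

/-- In a commutative group the elements of order prime to `p` form a subgroup. -/
def coprimeOrderSubgroup (p : ℕ) (Q : Type*) [CommGroup Q] : Subgroup Q where
  carrier := {q | (orderOf q).Coprime p}
  one_mem' := by simp
  mul_mem' := by
    intro a b ha hb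
    have h1 : orderOf (a * b) ∣ Nat.lcm (orderOf a) (orderOf b) :=
      (Commute.all a b).orderOf_mul_dvd_lcm
    exact Nat.Coprime.coprime_dvd_left h1
      (Nat.Coprime.coprime_dvd_left (Nat.lcm_dvd_mul _ _) (Nat.Coprime.mul_left ha hb))
  inv_mem' := by
    intro a ha
    change (orderOf a⁻¹).Coprime p
    rw [orderOf_inv]; exact ha

/-- If `O^p(X) = X` then every Sylow `p`-subgroup lies in the commutator subgroup. -/
theorem sylow_le_commutator_of_pResidual_eq_top [Finite X] {p : ℕ} [Fact p.Prime] (P : Sylow p X)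
    (h : Cfsg.pResidual p X = ⊤) : (P : Subgroup X) ≤ commutator X := by
  have hall : ∀ q : Abelianization X, q ∈ coprimeOrderSubgroup p (Abelianization X) := by
    intro q
    obtain ⟨g, rfl⟩ := QuotientGroup.mk_surjective q
    have hg : g ∈ Cfsg.pResidual p X := by rw [h]; trivial
    have hle : Cfsg.pResidual p X ≤
        (coprimeOrderSubgroup p (Abelianization X)).comap (QuotientGroup.mk' (commutator X)) := by
      unfold Cfsg.pResidual
      rw [Subgroup.closure_le]
      intro y hy
      have hy' : (orderOf y).Coprime p := hy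
      change (orderOf ((QuotientGroup.mk' (commutator X)) y)).Coprime p
      exact Nat.Coprime.coprime_dvd_left (orderOf_map_dvd _ y) hy'
    exact hle hg
  intro x hx
  have h1 : (orderOf ((QuotientGroup.mk' (commutator X)) x)).Coprime p := hall _
  obtain ⟨k, hk⟩ := (IsPGroup.iff_orderOf.mp P.2) ⟨x, hx⟩
  have hk' : orderOf x = p ^ k := by rw [← hk, Subgroup.orderOf_mk]
  have h2 : orderOf ((QuotientGroup.mk' (commutator X)) x) ∣ p ^ k :=
    hk' ▸ orderOf_map_dvd _ x
  have h3 : orderOf ((QuotientGroup.mk' (commutator X)) x) = 1 :=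
    Nat.Coprime.eq_one_of_dvd (Nat.Coprime.pow_right k h1) h2
  rw [orderOf_eq_one_iff] at h3
  exact (QuotientGroup.eq_one_iff x).mp h3


/-- If a Sylow `p`-subgroup lies in the commutator subgroup then `O^p(X) = X`. -/
theorem pResidual_eq_top_of_sylow_le_commutator [Finite X] {p : ℕ} [Fact p.Prime] (P : Sylow p X)
    (h : (P : Subgroup X) ≤ commutator X) : Cfsg.pResidual p X = ⊤ := by
  haveI : (Cfsg.pResidual p X).Normal := Cfsg.Agent.Helper5.pResidual_normal p
  have hQ : IsPGroup p (X ⧸ Cfsg.pResidual p X) := Cfsg.Agent.Helper5.isPGroup_quotient_pResidual p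
  have hsup := Cfsg.Agent.Helper5.pResidual_sup_sylow P
  have hmap : (⊤ : Subgroup (X ⧸ Cfsg.pResidual p X)) ≤ commutator (X ⧸ Cfsg.pResidual p X) := by
    have h1 : (⊤ : Subgroup (X ⧸ Cfsg.pResidual p X)) =
        (⊤ : Subgroup X).map (QuotientGroup.mk' (Cfsg.pResidual p X)) := by
      rw [← MonoidHom.range_eq_map]
      exact (MonoidHom.range_eq_top.mpr (QuotientGroup.mk'_surjective _)).symm
    rw [h1, ← hsup, Subgroup.map_sup]
    apply sup_le
    · rw [Subgroup.map_le_iff_le_comap]
      intro x hx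
      rw [Subgroup.mem_comap]
      have : (QuotientGroup.mk' (Cfsg.pResidual p X)) x = 1 := (QuotientGroup.eq_one_iff x).mpr hx
      rw [this]; exact Subgroup.one_mem _
    · refine (Subgroup.map_mono h).trans ?_
      rw [commutator_def, commutator_def, Subgroup.map_commutator]
      exact Subgroup.commutator_mono le_top le_top
  haveI : Group.IsNilpotent (X ⧸ Cfsg.pResidual p X) := hQ.isNilpotent
  by_contra hne
  haveI : Nontrivial (X ⧸ Cfsg.pResidual p X) := by
    rw [← not_subsingleton_iff_nontrivial]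
    intro hsub
    apply hne
    rw [eq_top_iff]
    intro x _
    have : (QuotientGroup.mk' (Cfsg.pResidual p X)) x = 1 := Subsingleton.elim _ _
    exact (QuotientGroup.eq_one_iff x).mp this
  have hlt := IsSolvable.commutator_lt_top_of_nontrivial (X ⧸ Cfsg.pResidual p X)
  exact absurd (top_le_iff.mp hmap) hlt.ne

/-- For an isolated involution `z` with centralizer `C`: `O^2(G) = G` iff `O^2(C) = C`. -/
theorem pResidual_two_eq_top_iff_of_isolated {G : Type*} [Group G] [Finite G] (z : G)
    (hz : Cfsg.IsIsolatedInvolution z) :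
    Cfsg.pResidual 2 G = ⊤ ↔ Cfsg.pResidual 2 ↥(Subgroup.centralizer ({z} : Set G)) = ⊤ := by
  haveI : Fact (Nat.Prime 2) := ⟨Nat.prime_two⟩
  constructor
  · intro hG
    -- a Sylow 2-subgroup containing z
    have hzp : IsPGroup 2 ↥(Subgroup.zpowers z) := by
      rw [IsPGroup.iff_card]
      exact ⟨1, by rw [Nat.card_zpowers, hz.1, pow_one]⟩
    obtain ⟨S, hS⟩ := hzp.exists_le_sylow
    have hzS : z ∈ (S : Subgroup G) := hS (Subgroup.mem_zpowers z)
    have hSC : (S : Subgroup G) ≤ Subgroup.centralizer ({z} : Set G) := by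
      intro r hr
      rw [Subgroup.mem_centralizer_singleton_iff]
      exact Cfsg.Agent.Helper5.central_of_isolated_in_pgroup (S : Subgroup G) S.2 z hzS
        (fun n _ hc => hz.2 n hc) r hr
    have hSG : (S : Subgroup G) ≤ commutator G := sylow_le_commutator_of_pResidual_eq_top S hG
    have hfoc : (S : Subgroup G) ≤ Subgroup.focalSubgroup (S : Subgroup G) := by
      rw [← Subgroup.commutator_inf_eq_focalSubgroup S]
      exact le_inf hSG le_rfl
    have hle : (S : Subgroup G) ≤
        (commutator ↥(Subgroup.centralizer ({z} : Set G))).map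
          (Subgroup.centralizer ({z} : Set G)).subtype := by
      refine hfoc.trans ?_
      rw [Subgroup.focalSubgroup_def, Subgroup.closure_le]
      rintro g ⟨hgS, x, hxS, u, rfl⟩
      have hx1 : x⁻¹ ∈ Subgroup.centralizer ({z} : Set G) := hSC (inv_mem hxS)
      have hy : u * x⁻¹ * u⁻¹ = x⁻¹ * ⁅x, u⁆ := by
        rw [commutatorElement_def]; group
      have hy1 : u * x⁻¹ * u⁻¹ ∈ Subgroup.centralizer ({z} : Set G) := by
        rw [hy]; exact hSC (mul_mem (inv_mem hxS) hgS)
      obtain ⟨c, -, hcz, hc⟩ := Cfsg.Agent.S1182.result z hz ⊤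
        (by rw [Subgroup.mem_normalizer_iff]; intro h; simp) x⁻¹ (u * x⁻¹ * u⁻¹)
        (Subgroup.mem_top _) (Subgroup.mem_top _)
        (Subgroup.mem_centralizer_singleton_iff.mp hx1)
        (Subgroup.mem_centralizer_singleton_iff.mp hy1) u (Subgroup.mem_top _) rfl
      have hcC : c ∈ Subgroup.centralizer ({z} : Set G) :=
        Subgroup.mem_centralizer_singleton_iff.mpr hcz.eq
      have hxC : x ∈ Subgroup.centralizer ({z} : Set G) := hSC hxS
      refine ⟨⁅(⟨x, hxC⟩ : ↥(Subgroup.centralizer ({z} : Set G))), ⟨c, hcC⟩⁆, ?_, ?_⟩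
      · rw [SetLike.mem_coe, commutator_def]
        exact Subgroup.commutator_mem_commutator (Subgroup.mem_top _) (Subgroup.mem_top _)
      · simp only [Subgroup.coe_subtype, commutatorElement_def, Subgroup.coe_mul,
          Subgroup.coe_inv]
        calc x * c * x⁻¹ * c⁻¹ = x * (c * x⁻¹ * c⁻¹) := by group
          _ = x * (u * x⁻¹ * u⁻¹) := by rw [hc]
          _ = x * u * x⁻¹ * u⁻¹ := by group
    apply pResidual_eq_top_of_sylow_le_commutator (S.subtype hSC)
    intro y hy
    have hyS : (y : G) ∈ (S : Subgroup G) := by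
      have := hy
      rw [Sylow.coe_subtype] at this
      exact Subgroup.mem_subgroupOf.mp this
    obtain ⟨w, hw, hwy⟩ := hle hyS
    have : w = y := Subtype.ext hwy
    rw [← this]; exact hw
  · intro hC
    rw [eq_top_iff]
    intro g _
    obtain ⟨k, ⟨⟨hkodd, -⟩, hkc⟩, -⟩ := Cfsg.Agent.S1185.result z hz g
    have hk : k ∈ Cfsg.pResidual 2 G := by
      apply Cfsg.Agent.Helper5.mem_pResidual_of_coprime
      exact Nat.Coprime.symm (Nat.coprime_two_left.mpr hkodd) 
    have hc : g⁻¹ * k ∈ Cfsg.pResidual 2 G := by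
      have h1 : (⟨g⁻¹ * k, hkc⟩ : ↥(Subgroup.centralizer ({z} : Set G))) ∈
          Cfsg.pResidual 2 ↥(Subgroup.centralizer ({z} : Set G)) := by rw [hC]; trivial
      have h2 : g⁻¹ * k ∈ (Cfsg.pResidual 2 ↥(Subgroup.centralizer ({z} : Set G))).map
          (Subgroup.centralizer ({z} : Set G)).subtype := ⟨_, h1, rfl⟩
      rw [Cfsg.Agent.Helper5.map_subtype_pResidual] at h2
      have h3 : Subgroup.closure {g : G | g ∈ Subgroup.centralizer ({z} : Set G) ∧
          (orderOf g).Coprime 2} ≤ Cfsg.pResidual 2 G := by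
        unfold Cfsg.pResidual
        exact Subgroup.closure_mono (fun y hy => hy.2)
      exact h3 h2
    have : g = k * (g⁻¹ * k)⁻¹ := by group
    rw [this]
    exact mul_mem hk (inv_mem hc)

end Cfsg.Agent.Helper2
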