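import Mathlib
import Cfsg.Agent.Helper2.BaerSuzuki

set_option autoImplicit false

namespace Cfsg.Agent.Helper2

variable {G : Type*} [Group G]

/-- Lift a `p`-subgroup `R` of the preimage of a Sylow subgroup `Sbar` of `G ⧸ H` to a Sylow
subgroup of `G` mapping onto `Sbar`. -/
theorem exists_sylow_map_eq_of_le_comap [Finite G] {p : ℕ} [Fact p.Prime] (H : Subgroup G)
    [H.Normal] (Sbar : Sylow p (G ⧸ H)) (R : Subgroup G) (hR : IsPGroup p R)
    (hRS : R ≤ (Sbar : Subgroup (G ⧸ H)).comap (QuotientGroup.mk' H)) :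
    ∃ S1 : Sylow p G, R ≤ (S1 : Subgroup G) ∧
      (S1 : Subgroup G).map (QuotientGroup.mk' H) = (Sbar : Subgroup (G ⧸ H)) := by
  set π := QuotientGroup.mk' H with hπ
  have hsurj : Function.Surjective π := QuotientGroup.mk'_surjective H
  set A := (Sbar : Subgroup (G ⧸ H)).comap π with hA
  have hAidx : ¬ p ∣ A.index := by
    rw [hA, Subgroup.index_comap_of_surjective _ hsurj]
    exact Sbar.not_dvd_index
  -- a Sylow `p`-subgroup of `A` containing `R`
  have hR' : IsPGroup p (R.subgroupOf A) := hR.comap_subtype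
  obtain ⟨Q, hQ⟩ := hR'.exists_le_sylow
  set S1 := (Q : Subgroup ↥A).map A.subtype with hS1
  have hS1p : IsPGroup p S1 := Q.isPGroup'.map _
  have hS1A : S1 ≤ A := by rintro _ ⟨x, -, rfl⟩; exact x.2
  have hidx : ¬ p ∣ S1.index := by
    have h1 : S1.index = (S1.subgroupOf A).index * A.index := by
      rw [← Subgroup.relIndex, Subgroup.relIndex_mul_index hS1A]
    have h2 : S1.subgroupOf A = (Q : Subgroup ↥A) := by
      rw [hS1]
      exact Subgroup.comap_map_eq_self_of_injective A.subtype_injective _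
    rw [h1, h2]
    intro hdvd
    rcases (Nat.Prime.dvd_mul (Fact.out : p.Prime)).mp hdvd with h | h
    · exact Q.not_dvd_index h
    · exact hAidx h
  let S1s : Sylow p G := hS1p.toSylow hidx
  have hS1s : (S1s : Subgroup G) = S1 := rfl
  refine ⟨S1s, ?_, ?_⟩
  · intro x hx
    rw [hS1s]
    exact ⟨⟨x, hRS hx⟩, hQ (Subgroup.mem_subgroupOf.mpr hx), rfl⟩
  · have hle : (S1s : Subgroup G).map π ≤ (Sbar : Subgroup (G ⧸ H)) := by
      rw [hS1s]
      rintro _ ⟨x, hx, rfl⟩
      exact hS1A hx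
    have := (S1s.mapSurjective hsurj).is_maximal' Sbar.isPGroup' (by
      rw [Sylow.coe_mapSurjective]; exact hle)
    rw [Sylow.coe_mapSurjective] at this
    exact this.symm

/-- `S3305`: the property "distinct Sylow 2-subgroups meet in a cyclic group" passes to quotients. -/
theorem cyclic_sylow_inter_quotient [Finite G] {p : ℕ} [Fact p.Prime]
    (hC : ∀ S T : Sylow p G, S ≠ T → IsCyclic ↥((S : Subgroup G) ⊓ (T : Subgroup G)))
    (H : Subgroup G) [H.Normal] :
    ∀ S T : Sylow p (G ⧸ H), S ≠ T →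
      IsCyclic ↥((S : Subgroup (G ⧸ H)) ⊓ (T : Subgroup (G ⧸ H))) := by
  intro Sbar Tbar hne
  set π := QuotientGroup.mk' H with hπ
  have hsurj : Function.Surjective π := QuotientGroup.mk'_surjective H
  set Dbar := (Sbar : Subgroup (G ⧸ H)) ⊓ (Tbar : Subgroup (G ⧸ H)) with hDbar
  set D := Dbar.comap π with hD
  have hDbarp : IsPGroup p Dbar := Sbar.isPGroup'.to_le inf_le_left
  -- a Sylow subgroup of `D`
  obtain ⟨R⟩ : Nonempty (Sylow p ↥D) := inferInstance
  set R' := (R : Subgroup ↥D).map D.subtype with hR'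
  have hR'p : IsPGroup p R' := R.isPGroup'.map _
  have hR'D : R' ≤ D := by rintro _ ⟨x, -, rfl⟩; exact x.2
  -- `π(R') = Dbar`
  let f : ↥D →* ↥Dbar := (π.comp D.subtype).codRestrict Dbar (fun x => x.2)
  have hf : Function.Surjective f := by
    rintro ⟨y, hy⟩
    obtain ⟨x, rfl⟩ := hsurj y
    exact ⟨⟨x, hy⟩, rfl⟩
  have hmap : ((R.mapSurjective hf : Sylow p ↥Dbar) : Subgroup ↥Dbar) = ⊤ := by
    have htop : IsPGroup p (⊤ : Subgroup ↥Dbar) := fun x => by
      obtain ⟨k, hk⟩ := hDbarp x.1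
      exact ⟨k, Subtype.ext hk⟩
    exact ((R.mapSurjective hf).is_maximal' htop le_top).symm
  have hcover : ∀ y ∈ Dbar, ∃ r ∈ R', π r = y := by
    intro y hy
    have : (⟨y, hy⟩ : ↥Dbar) ∈ ((R.mapSurjective hf : Sylow p ↥Dbar) : Subgroup ↥Dbar) := by
      rw [hmap]; trivial
    rw [Sylow.coe_mapSurjective] at this
    obtain ⟨r, hr, hry⟩ := this
    exact ⟨(r : G), ⟨r, hr, rfl⟩, congrArg Subtype.val hry⟩
  -- lift to Sylow subgroups of `G`
  obtain ⟨S1, hRS1, hS1⟩ := exists_sylow_map_eq_of_le_comap H Sbar R' hR'p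
    (hR'D.trans (Subgroup.comap_mono inf_le_left))
  obtain ⟨T1, hRT1, hT1⟩ := exists_sylow_map_eq_of_le_comap H Tbar R' hR'p
    (hR'D.trans (Subgroup.comap_mono inf_le_right))
  have hne1 : S1 ≠ T1 := by
    intro h
    apply hne
    apply Sylow.ext
    rw [← hS1, ← hT1, h]
  have hcyc := hC S1 T1 hne1
  have hR'cyc : IsCyclic ↥R' :=
    isCyclic_of_injective (Subgroup.inclusion (le_inf hRS1 hRT1)) (Subgroup.inclusion_injective _)
  -- surjection `R' → Dbar`
  let g : ↥R' →* ↥Dbar := (π.comp R'.subtype).codRestrict Dbar (fun x => hR'D x.2)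
  have hg : Function.Surjective g := by
    rintro ⟨y, hy⟩
    obtain ⟨r, hr, hry⟩ := hcover y hy
    exact ⟨⟨r, hr⟩, Subtype.ext hry⟩
  exact isCyclic_of_surjective g hg

end Cfsg.Agent.Helper2
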