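import Mathlib
import Cfsg.Statements.S3304
import Cfsg.Agent.Helper2.SylowQuot
import Cfsg.Agent.S0016

set_option autoImplicit false

/-!
Groups of `2`-rank one: transfer of `PRankLE`, `2`-groups of rank one, and Sylow intersections
in quotients by normal subgroups of coprime order.
-/

namespace Cfsg.Agent.Helper2.RkOne

open Cfsg.Agent.Helper2

theorem pRankLE_of_injective {p k : ℕ} {H K : Type*} [Group H] [Group K] (f : K →* H)
    (hf : Function.Injective f) (h : Cfsg.PRankLE p k H) : Cfsg.PRankLE p k K := by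
  intro A hA hexp
  have h1 := h (A.map f) inferInstance (by
    rintro _ ⟨a, ha, rfl⟩
    rw [← map_pow, hexp a ha, map_one])
  rwa [Subgroup.card_map_of_injective hf] at h1

/-- in a `2`-group of `2`-rank one all involutions coincide -/
theorem involution_unique {P : Type*} [Group P] [Finite P] (hP : IsPGroup 2 P)
    (h : Cfsg.PRankLE 2 1 P) (x y : P) (hx : orderOf x = 2) (hy : orderOf y = 2) : x = y := by
  haveI : Fact (Nat.Prime 2) := ⟨Nat.prime_two⟩
  haveI : Nontrivial P := ⟨⟨x, 1, fun h1 => by rw [h1, orderOf_one] at hx; omega⟩⟩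
  haveI := hP.center_nontrivial
  -- a central involution
  have h2 : 2 ∣ Nat.card (Subgroup.center P) := by
    obtain ⟨n, hn⟩ := IsPGroup.iff_card.mp (hP.to_subgroup (Subgroup.center P))
    rw [hn]
    have : n ≠ 0 := by
      rintro rfl
      rw [pow_zero] at hn
      have := (Nat.card_eq_one_iff_unique.mp hn).1
      exact not_subsingleton _ this
    exact dvd_pow_self 2 this
  obtain ⟨z, hz⟩ := exists_prime_orderOf_dvd_card' 2 h2
  have hz2 : orderOf (z : P) = 2 := by rw [Subgroup.orderOf_coe]; exact hz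
  have hzc : ∀ g : P, g * (z : P) = (z : P) * g := fun g =>
    (Subgroup.mem_center_iff.mp z.2 g)
  have key : ∀ w : P, orderOf w = 2 → w = (z : P) := by
    intro w hw
    have hw2 : w ^ 2 = 1 := by rw [← hw]; exact pow_orderOf_eq_one w
    have hzz : (z : P) ^ 2 = 1 := by rw [← hz2]; exact pow_orderOf_eq_one _
    have hcomm : ∀ a ∈ ({(z : P), w} : Set P), ∀ b ∈ ({(z : P), w} : Set P), a * b = b * a := by
      intro a ha b hb
      rcases ha with rfl | rfl
      · exact (hzc b).symm
      · rcases hb with rfl | rfl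
        · exact hzc a
        · rfl
    haveI hA : IsMulCommutative (Subgroup.closure ({(z : P), w} : Set P)) :=
      Subgroup.isMulCommutative_closure hcomm
    have hexp : ∀ a ∈ Subgroup.closure ({(z : P), w} : Set P), a ^ 2 = 1 := by
      intro a ha
      induction ha using Subgroup.closure_induction with
      | mem u hu =>
        rcases hu with rfl | rfl
        · exact hzz
        · exact hw2
      | one => exact one_pow 2
      | mul u v hu hv ihu ihv =>
        have hc : u * v = v * u := Subgroup.mul_comm_of_mem_isMulCommutative _ hu hv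
        rw [(Commute.mul_pow hc 2), ihu, ihv, one_mul]
      | inv u hu ihu => rw [inv_pow, ihu, inv_one]
    have hcard := h _ hA hexp
    have hle : Subgroup.zpowers (z : P) ≤ Subgroup.closure ({(z : P), w} : Set P) := by
      rw [Subgroup.zpowers_le]
      exact Subgroup.subset_closure (by simp)
    have heq : Subgroup.zpowers (z : P) = Subgroup.closure ({(z : P), w} : Set P) := by
      apply Subgroup.eq_of_le_of_card_ge hle
      rw [Nat.card_zpowers, hz2]
      simpa using hcard
    have hwz : w ∈ Subgroup.zpowers (z : P) := by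
      rw [heq]; exact Subgroup.subset_closure (by simp)
    obtain ⟨k, hk⟩ := Subgroup.mem_zpowers_iff.mp hwz
    rcases Int.even_or_odd k with ⟨m, hm⟩ | ⟨m, hm⟩
    · exfalso
      have : w = 1 := by
        rw [← hk, hm, ← two_mul, zpow_mul, zpow_ofNat, hzz, one_zpow]
      rw [this, orderOf_one] at hw
      omega
    · rw [← hk, hm, zpow_add, zpow_mul, zpow_ofNat, hzz, one_zpow, one_mul, zpow_one]
  rw [key x hx, key y hy]

/-- if all involutions coincide, there is at most one subgroup of order two -/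
theorem subgroup_two_unique_of_involution_unique {P : Type*} [Group P] [Finite P]
    (huniq : ∀ x y : P, orderOf x = 2 → orderOf y = 2 → x = y)
    (H K : Subgroup P) (hH : Nat.card H = 2) (hK : Nat.card K = 2) : H = K := by
  have gen : ∀ L : Subgroup P, Nat.card L = 2 → ∃ l : P, orderOf l = 2 ∧ L = Subgroup.zpowers l := by
    intro L hL
    have hne : L ≠ ⊥ := by
      intro hb
      rw [hb, Subgroup.card_bot] at hL
      omega
    obtain ⟨l', hl'⟩ := (Subgroup.ne_bot_iff_exists_ne_one).mp hne
    obtain ⟨l, hl, hl1⟩ : ∃ l : P, l ∈ L ∧ l ≠ 1 :=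
      ⟨l'.1, l'.2, fun h => hl' (Subtype.ext h)⟩
    have hord : orderOf l = 2 := by
      have h1 : orderOf l ∣ 2 := by
        have := Subgroup.orderOf_dvd_natCard L hl
        rwa [hL] at this
      rcases (Nat.dvd_prime Nat.prime_two).mp h1 with h | h
      · exact absurd (orderOf_eq_one_iff.mp h) hl1
      · exact h
    refine ⟨l, hord, ?_⟩
    symm
    apply Subgroup.eq_of_le_of_card_ge ((Subgroup.zpowers_le).mpr hl)
    rw [Nat.card_zpowers, hord, hL]
  obtain ⟨x, hx, rfl⟩ := gen H hH
  obtain ⟨y, hy, rfl⟩ := gen K hK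
  rw [huniq x y hx hy]

/-- a `2`-group of `2`-rank one has at most one subgroup of order two -/
theorem subgroup_two_unique {P : Type*} [Group P] [Finite P] (hP : IsPGroup 2 P)
    (h : Cfsg.PRankLE 2 1 P) (H K : Subgroup P) (hH : Nat.card H = 2) (hK : Nat.card K = 2) :
    H = K :=
  subgroup_two_unique_of_involution_unique (involution_unique hP h) H K hH hK

/-- a `2`-group of `2`-rank one is cyclic or generalized quaternion -/
theorem cyclic_or_quat {P : Type*} [Group P] [Finite P] (hP : IsPGroup 2 P)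
    (h : Cfsg.PRankLE 2 1 P) :
    IsCyclic P ∨ ∃ n : ℕ, Nonempty (P ≃* QuaternionGroup (2 ^ n)) := by
  haveI : Fact (Nat.Prime 2) := ⟨Nat.prime_two⟩
  rcases Cfsg.Agent.S0016.result 2 hP (subgroup_two_unique hP h) with h1 | ⟨-, h1⟩
  · exact Or.inl h1
  · exact Or.inr h1

variable {G : Type*} [Group G]

/-- Distinct Sylow subgroups of a quotient by a normal subgroup of coprime order meet in a group
embedding into the intersection of two distinct Sylow subgroups of the group. -/
theorem sylow_inter_quotient_embed [Finite G] {p : ℕ} [Fact p.Prime]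
    (H : Subgroup G) [H.Normal] (hH : (Nat.card H).Coprime p)
    (Sbar Tbar : Sylow p (G ⧸ H)) (hne : Sbar ≠ Tbar) :
    ∃ S1 T1 : Sylow p G, S1 ≠ T1 ∧
      ∃ f : ↥((Sbar : Subgroup (G ⧸ H)) ⊓ (Tbar : Subgroup (G ⧸ H))) →*
        ↥((S1 : Subgroup G) ⊓ (T1 : Subgroup G)), Function.Injective f := by
  set π := QuotientGroup.mk' H with hπ
  have hsurj : Function.Surjective π := QuotientGroup.mk'_surjective H
  set Dbar := (Sbar : Subgroup (G ⧸ H)) ⊓ (Tbar : Subgroup (G ⧸ H)) with hDbar
  set D := Dbar.comap π with hD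
  have hDbarp : IsPGroup p Dbar := Sbar.isPGroup'.to_le inf_le_left
  obtain ⟨R⟩ : Nonempty (Sylow p ↥D) := inferInstance
  set R' := (R : Subgroup ↥D).map D.subtype with hR'
  have hR'p : IsPGroup p R' := R.isPGroup'.map _
  have hR'D : R' ≤ D := by rintro _ ⟨x, -, rfl⟩; exact x.2
  let f : ↥D →* ↥Dbar := (π.comp D.subtype).codRestrict Dbar (fun x => x.2)
  have hf : Function.Surjective f := by
    rintro ⟨y, hy⟩
    obtain ⟨x, rfl⟩ := hsurj y
    exact ⟨⟨x, hy⟩, rfl⟩
  have hmap : ((R.mapSurjective hf : Sylow p ↥Dbar) : Subgroup ↥Dbar) = ⊤ := by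
    have htop : IsPGroup p (⊤ : Subgroup ↥Dbar) := fun x => by
      obtain ⟨k, hk⟩ := hDbarp x.1
      exact ⟨k, Subtype.ext hk⟩
    exact ((R.mapSurjective hf).is_maximal' htop le_top).symm
  have hcover : ∀ y ∈ Dbar, ∃ r ∈ R', π r = y := by
    intro y hy
    have : (⟨y, hy⟩ : ↥Dbar) ∈ ((R.mapSurjective hf : Sylow p ↥Dbar) : Subgroup ↥Dbar) := by
      rw [hmap]; trivial
    rw [Sylow.coe_mapSurjective] at this
    obtain ⟨r, hr, hry⟩ := this
    exact ⟨(r : G), ⟨r, hr, rfl⟩, congrArg Subtype.val hry⟩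
  obtain ⟨S1, hRS1, hS1⟩ := exists_sylow_map_eq_of_le_comap H Sbar R' hR'p
    (hR'D.trans (Subgroup.comap_mono inf_le_left))
  obtain ⟨T1, hRT1, hT1⟩ := exists_sylow_map_eq_of_le_comap H Tbar R' hR'p
    (hR'D.trans (Subgroup.comap_mono inf_le_right))
  have hne1 : S1 ≠ T1 := by
    intro h
    apply hne
    apply Sylow.ext
    rw [← hS1, ← hT1, h]
  refine ⟨S1, T1, hne1, ?_⟩
  let g : ↥R' →* ↥Dbar := (π.comp R'.subtype).codRestrict Dbar (fun x => hR'D x.2)
  have hg : Function.Surjective g := by
    rintro ⟨y, hy⟩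
    obtain ⟨r, hr, hry⟩ := hcover y hy
    exact ⟨⟨r, hr⟩, Subtype.ext hry⟩
  have hginj : Function.Injective g := by
    rw [injective_iff_map_eq_one]
    intro r hr
    have h1 : π (r : G) = 1 := congrArg Subtype.val hr
    have h2 : (r : G) ∈ H := by
      rwa [hπ, QuotientGroup.mk'_apply, QuotientGroup.eq_one_iff] at h1
    -- order of r divides a power of p and the order of H
    obtain ⟨k, hk⟩ := hR'p r
    have h3 : orderOf (r : G) ∣ p ^ k := by
      apply orderOf_dvd_of_pow_eq_one
      have := congrArg Subtype.val hk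
      simpa using this
    have h4 : orderOf (r : G) ∣ Nat.card H := Subgroup.orderOf_dvd_natCard H h2
    have h5 : orderOf (r : G) = 1 :=
      Nat.eq_one_of_dvd_coprimes (Nat.Coprime.pow_right k hH) h4 h3
    exact Subtype.ext (orderOf_eq_one_iff.mp h5)
  let e : ↥R' ≃* ↥Dbar := MulEquiv.ofBijective g ⟨hginj, hg⟩
  have hle : R' ≤ (S1 : Subgroup G) ⊓ (T1 : Subgroup G) := le_inf hRS1 hRT1
  refine ⟨(Subgroup.inclusion hle).comp e.symm.toMonoidHom, ?_⟩
  intro x y hxy
  exact e.symm.injective (Subgroup.inclusion_injective hle hxy)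

end Cfsg.Agent.Helper2.RkOne
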