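import Mathlib
import Cfsg.Agent.Helper2.RkOneA
import Cfsg.Agent.Helper2.QuatNormal
import Cfsg.Agent.Helper1.Fitting2

set_option autoImplicit false

/-!
Solvable groups with trivial odd core whose distinct Sylow `2`-subgroups meet in groups of
`2`-rank one: either the Sylow `2`-subgroup is normal or `O₂(G)` is quaternion of order eight.
-/

namespace Cfsg.Agent.Helper2.RkOne

open Cfsg.Agent.Helper2 QuaternionGroup

variable {G : Type*} [Group G]

theorem sylow_eq_of_isPGroup [Finite G] (hG : IsPGroup 2 G) (S T : Sylow 2 G) : S = T := by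
  have htop : IsPGroup 2 (⊤ : Subgroup G) := fun x => by
    obtain ⟨j, hj⟩ := hG x.1
    exact ⟨j, Subtype.ext hj⟩
  have hS := S.is_maximal' htop le_top
  have hT := T.is_maximal' htop le_top
  exact Sylow.ext (hS.symm.trans hT)

/-- if a self-centralizing normal `2`-subgroup has no odd-order automorphisms, the group is a
`2`-group -/
theorem isPGroup_of_aut_odd_trivial [Finite G] (R : Subgroup G) [hRn : R.Normal]
    (hR : IsPGroup 2 R) (hcen : Subgroup.centralizer (R : Set G) ≤ R)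
    (haut : ∀ (β : MulAut R) (t : ℕ), Odd t → β ^ t = 1 → β = 1) : IsPGroup 2 G := by
  intro g
  have hpos : orderOf g ≠ 0 := (orderOf_pos g).ne'
  obtain ⟨k, m, hm, hkm⟩ := Nat.exists_eq_two_pow_mul_odd hpos
  refine ⟨k, ?_⟩
  set g' := g ^ 2 ^ k with hg'
  have hg'm : g' ^ m = 1 := by
    rw [hg', ← pow_mul, ← hkm, pow_orderOf_eq_one]
  have hβ : (MulAut.conjNormal g' : MulAut R) ^ m = 1 := by
    rw [← map_pow, hg'm, map_one]
  have h1 := haut _ m hm hβ
  have hcent : g' ∈ Subgroup.centralizer (R : Set G) := by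
    rw [Subgroup.mem_centralizer_iff]
    intro x hx
    have h2 : (MulAut.conjNormal g' : MulAut R) ⟨x, hx⟩ = ⟨x, hx⟩ := by rw [h1]; rfl
    have h3 : g' * x * g'⁻¹ = x := congrArg Subtype.val h2
    calc x * g' = (g' * x * g'⁻¹) * g' := by rw [h3]
      _ = g' * x := by group
  obtain ⟨j, hj⟩ := hR ⟨g', hcen hcent⟩
  have hj' : g' ^ 2 ^ j = 1 := by
    have := congrArg Subtype.val hj
    simpa using this
  have h4 : orderOf g' ∣ 2 ^ j := orderOf_dvd_of_pow_eq_one hj'
  have h5 : orderOf g' ∣ m := orderOf_dvd_of_pow_eq_one hg'm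
  have hcop : Nat.Coprime (2 ^ j) m := Nat.Coprime.pow_left j (Nat.coprime_two_left.mpr hm)
  have h6 : orderOf g' = 1 := Nat.eq_one_of_dvd_coprimes hcop h4 h5
  exact orderOf_eq_one_iff.mp h6

/-- generalized quaternion groups of order at least `16` have no odd-order automorphisms -/
theorem quat_aut_odd_trivial (n : ℕ) (hn : 2 ≤ n) (β : MulAut (QuaternionGroup (2 ^ n))) (t : ℕ)
    (ht : Odd t) (hβ : β ^ t = 1) : β = 1 := by
  haveI : NeZero (2 ^ n) := ⟨by positivity⟩
  haveI : Fact (Nat.Prime 2) := ⟨Nat.prime_two⟩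
  have hcardQ : Nat.card (QuaternionGroup (2 ^ n)) = 2 ^ (n + 2) := by
    rw [Nat.card_eq_fintype_card, QuaternionGroup.card, pow_add]; ring
  have hQ2 : IsPGroup 2 (QuaternionGroup (2 ^ n)) := IsPGroup.of_card hcardQ
  set Z : Subgroup (QuaternionGroup (2 ^ n)) := Subgroup.zpowers (a 1) with hZ
  have hamem : ∀ j : ZMod (2 * 2 ^ n), a j ∈ Z := by
    intro j
    haveI : NeZero (2 * 2 ^ n) := ⟨by positivity⟩
    rw [hZ, Subgroup.mem_zpowers_iff]
    refine ⟨(j.val : ℤ), ?_⟩
    rw [zpow_natCast, a_one_pow, ZMod.natCast_zmod_val]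
  have hZidx : Z.index = 2 := by
    have h1 : Nat.card Z * Z.index = Nat.card (QuaternionGroup (2 ^ n)) := Z.card_mul_index
    rw [hcardQ, hZ, Nat.card_zpowers, orderOf_a_one] at h1
    have h2 : 2 * 2 ^ n * 2 = 2 ^ (n + 2) := by rw [pow_add]; ring
    rw [← h2] at h1
    exact Nat.eq_of_mul_eq_mul_left (by positivity) h1
  have hcyc : IsCyclic Z := by rw [hZ]; infer_instance
  have h8 : (a 1 : QuaternionGroup (2 ^ n)) ^ 4 ≠ 1 := by
    intro h1
    have h3 := orderOf_dvd_of_pow_eq_one h1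
    rw [orderOf_a_one] at h3
    have h4 := Nat.le_of_dvd (by norm_num) h3
    have h5 : 2 ^ 2 ≤ 2 ^ n := Nat.pow_le_pow_right (by norm_num) hn
    omega
  apply QuatNormal.aut_odd_trivial_of_quat_type Z hcyc (hQ2.to_subgroup Z) hZidx (a 1)
    (hamem 1) h8 _ β t ht hβ
  intro q hq
  rcases q with j | j
  · exact absurd (hamem j) hq
  · exact xa_pow_four j

/-- Under the hypotheses, if there are two distinct Sylow `2`-subgroups then `O₂(G) ≅ Q₈`. -/
theorem pCore_quat_eight [Finite G] [hs : Group.IsSolvable G] (hO : Cfsg.pPrimeCore 2 G = ⊥)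
    (hI : ∀ S T : Sylow 2 G, S ≠ T →
      Cfsg.PRankLE 2 1 ↥((S : Subgroup G) ⊓ (T : Subgroup G)))
    (S T : Sylow 2 G) (hne : S ≠ T) :
    Nonempty (↥(Cfsg.pCore 2 G) ≃* QuaternionGroup 2) := by
  haveI : Fact (Nat.Prime 2) := ⟨Nat.prime_two⟩
  set R := Cfsg.pCore 2 G with hR
  have hcen : Subgroup.centralizer (R : Set G) ≤ R := Cfsg.Agent.Helper1.centralizer_pCore_le 2 hO
  have hRST : R ≤ (S : Subgroup G) ⊓ (T : Subgroup G) :=
    le_inf (Cfsg.Agent.Helper1.pCore_le_sylow S) (Cfsg.Agent.Helper1.pCore_le_sylow T)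
  have hRp : IsPGroup 2 ↥R := Cfsg.Agent.Helper1.pCore_isPGroup 2
  have hrk : Cfsg.PRankLE 2 1 ↥R :=
    pRankLE_of_injective (Subgroup.inclusion hRST) (Subgroup.inclusion_injective _) (hI S T hne)
  have hno : ¬ (∀ (β : MulAut R) (t : ℕ), Odd t → β ^ t = 1 → β = 1) := by
    intro haut
    exact hne (sylow_eq_of_isPGroup (isPGroup_of_aut_odd_trivial R hRp hcen haut) S T)
  rcases cyclic_or_quat hRp hrk with hcyc | ⟨n, ⟨e⟩⟩
  · exact absurd (fun β t ht hβ => DihSub.cyclic_two_aut_odd_trivial hcyc hRp β t ht hβ) hno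
  · rcases Nat.lt_or_ge n 2 with hn | hn
    · interval_cases n
      · -- `QuaternionGroup 1` is cyclic
        exfalso
        rw [pow_zero] at e
        have hcyc : IsCyclic ↥R := by
          haveI : IsCyclic (QuaternionGroup 1) := QuaternionGroup.quaternionGroup_one_isCyclic
          exact isCyclic_of_surjective e.symm e.symm.surjective
        exact hno (fun β t ht hβ => DihSub.cyclic_two_aut_odd_trivial hcyc hRp β t ht hβ)
      · rw [pow_one] at e
        exact ⟨e⟩
    · exfalso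
      apply hno
      exact QuatNormal.aut_odd_trivial_of_mulEquiv e (quat_aut_odd_trivial n hn)

end Cfsg.Agent.Helper2.RkOne
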