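import Mathlib
import Cfsg.Agent.Helper2.RkOneB
import Cfsg.Agent.Helper2.Q8Aut
import Cfsg.Agent.Helper2.SylowExact2

set_option autoImplicit false

/-!
The quaternion case: a finite group `G` with a normal self-centralizing subgroup `R ≅ Q₈`
contained in every Sylow `2`-subgroup, having at least two Sylow `2`-subgroups.
Part 1: the action on `R`, the order of `G`.
-/

namespace Cfsg.Agent.Helper2.RkOne

open Cfsg.Agent.Helper2 QuaternionGroup Q8Aut

variable {G : Type*} [Group G]

/-- the embedding of `Q₈` -/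
def iot (R : Subgroup G) (e : R ≃* Q) : Q →* G := R.subtype.comp e.symm.toMonoidHom

/-- the action on `Q₈` -/
def Ph (R : Subgroup G) [R.Normal] (e : R ≃* Q) : G →* MulAut Q :=
  (MulAut.congr e).toMonoidHom.comp MulAut.conjNormal

section

variable (R : Subgroup G) [hRn : R.Normal] (e : R ≃* Q)

theorem iot_injective : Function.Injective (iot R e) := by
  intro x y h
  have h1 : (e.symm x : G) = (e.symm y : G) := h
  exact e.symm.injective (Subtype.ext h1)

theorem iot_mem (q : Q) : iot R e q ∈ R := (e.symm q).2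

theorem exists_iot {g : G} (hg : g ∈ R) : ∃ q : Q, iot R e q = g :=
  ⟨e ⟨g, hg⟩, by
    change ((e.symm (e ⟨g, hg⟩) : R) : G) = g
    rw [MulEquiv.symm_apply_apply]⟩

theorem conj_iot (g : G) (q : Q) : g * iot R e q * g⁻¹ = iot R e (Ph R e g q) := by
  change g * (e.symm q : G) * g⁻¹ = ((e.symm (e (MulAut.conjNormal g (e.symm q))) : R) : G)
  rw [MulEquiv.symm_apply_apply, MulAut.conjNormal_apply]

theorem mul_iot (g : G) (q : Q) : g * iot R e q = iot R e (Ph R e g q) * g := by
  rw [← conj_iot]; group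

theorem iot_ne_one {q : Q} (hq : q ≠ 1) : iot R e q ≠ 1 := by
  intro h
  rw [← map_one (iot R e)] at h
  exact hq (iot_injective R e h)

theorem z_central (g : G) : g * iot R e (a 2) = iot R e (a 2) * g := by
  rw [mul_iot, aut_a_two]

theorem z_sq : iot R e (a 2) * iot R e (a 2) = 1 := by
  rw [← map_mul, a_two_sq, map_one]

theorem z_mem_ker : iot R e (a 2) ∈ (Ph R e).ker := by
  rw [MonoidHom.mem_ker]
  ext q
  rw [MulAut.one_apply]
  apply iot_injective R e
  rw [← conj_iot, ← map_inv, ← map_mul, ← map_mul, a_two_central, mul_assoc, mul_inv_cancel,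
    mul_one]

theorem ker_cases (hcen : Subgroup.centralizer (R : Set G) ≤ R) {g : G}
    (hg : g ∈ (Ph R e).ker) : g = 1 ∨ g = iot R e (a 2) := by
  have h1 : ∀ q : Q, g * iot R e q * g⁻¹ = iot R e q := by
    intro q
    rw [conj_iot, MonoidHom.mem_ker.mp hg]; rfl
  have hgc : g ∈ Subgroup.centralizer (R : Set G) := by
    rw [Subgroup.mem_centralizer_iff]
    intro x hx
    obtain ⟨q, rfl⟩ := exists_iot R e hx
    have := h1 q
    calc iot R e q * g = (g * iot R e q * g⁻¹) * g := by rw [this]
      _ = g * iot R e q := by group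
  obtain ⟨q₀, rfl⟩ := exists_iot R e (hcen hgc)
  have h2 : ∀ x : Q, q₀ * x = x * q₀ := by
    intro x
    apply iot_injective R e
    have := h1 x
    rw [map_mul, map_mul]
    calc iot R e q₀ * iot R e x = (iot R e q₀ * iot R e x * (iot R e q₀)⁻¹) * iot R e q₀ := by
          group
      _ = iot R e x * iot R e q₀ := by rw [this]
  rcases center_cases q₀ h2 with h | h
  · left; rw [h, map_one]
  · right; rw [h]

theorem card_ker_le (hcen : Subgroup.centralizer (R : Set G) ≤ R) :
    Nat.card (Ph R e).ker ≤ 2 := by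
  have hle : (Ph R e).ker ≤ Subgroup.zpowers (iot R e (a 2)) := by
    intro g hg
    rcases ker_cases R e hcen hg with rfl | rfl
    · exact Subgroup.one_mem _
    · exact Subgroup.mem_zpowers _
  have h2 : orderOf (iot R e (a 2)) = 2 := by
    apply orderOf_eq_prime
    · rw [pow_two]; exact z_sq R e
    · exact iot_ne_one R e a_two_ne
  have h3 : Nat.card (Subgroup.zpowers (iot R e (a 2))) = 2 := by
    rw [Nat.card_zpowers, h2]
  haveI : Finite (Subgroup.zpowers (iot R e (a 2))) :=
    Nat.finite_of_card_ne_zero (by rw [h3]; norm_num)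
  calc Nat.card (Ph R e).ker ≤ Nat.card (Subgroup.zpowers (iot R e (a 2))) :=
        Nat.card_le_card_of_injective _ (Subgroup.inclusion_injective hle)
    _ = 2 := h3

include e in
theorem card_R : Nat.card R = 8 := by
  rw [Nat.card_congr e.toEquiv, Nat.card_eq_fintype_card, QuaternionGroup.card]

/-- the order of the group is `48` and the action is onto -/
theorem card_eq_and_surjective [Finite G] (hcen : Subgroup.centralizer (R : Set G) ≤ R)
    (hRS : ∀ S : Sylow 2 G, R ≤ (S : Subgroup G)) (S T : Sylow 2 G) (hne : S ≠ T) :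
    Nat.card G = 48 ∧ Function.Surjective (Ph R e) := by
  haveI : Fact (Nat.Prime 2) := ⟨Nat.prime_two⟩
  have h1 : Nat.card G = Nat.card ↥(Ph R e).range * Nat.card ↥(Ph R e).ker := by
    rw [← Subgroup.index_ker, Subgroup.index_mul_card]
  have h2 : Nat.card ↥(Ph R e).range ≤ 24 := by
    rw [← card_mulAut]; exact Subgroup.card_le_card_group _
  have h3 := card_ker_le R e hcen
  have h4 : 8 ∣ Nat.card G := by
    rw [← card_R R e]; exact Subgroup.card_subgroup_dvd_card R
  have hpos : 0 < Nat.card G := Nat.card_pos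
  have h5 : Nat.card G ≤ 48 := by
    calc Nat.card G = Nat.card ↥(Ph R e).range * Nat.card ↥(Ph R e).ker := h1
      _ ≤ 24 * 2 := Nat.mul_le_mul h2 h3
  obtain ⟨m, hm⟩ := h4
  have hm6 : m ≤ 6 := by omega
  have hm1 : 1 ≤ m := by omega
  have h2grp : ∀ k : ℕ, Nat.card G = 2 ^ k → False := by
    intro k hk
    exact hne (sylow_eq_of_isPGroup (IsPGroup.of_card hk) S T)
  have hodd : ∀ m' : ℕ, Nat.card G = 2 ^ 3 * m' → ¬ 2 ∣ m' → False := by
    intro m' hm' h2m
    have hS := SylowExact.card_sylow_of_exact_pow hm' h2m S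
    have hT := SylowExact.card_sylow_of_exact_pow hm' h2m T
    have hRS' : R = (S : Subgroup G) :=
      Subgroup.eq_of_le_of_card_ge (hRS S) (by rw [hS, card_R R e]; norm_num)
    have hRT' : R = (T : Subgroup G) :=
      Subgroup.eq_of_le_of_card_ge (hRS T) (by rw [hT, card_R R e]; norm_num)
    exact hne (Sylow.ext (hRS'.symm.trans hRT'))
  have hG : Nat.card G = 48 := by
    interval_cases m
    · exact (h2grp 3 (by omega)).elim
    · exact (h2grp 4 (by omega)).elim
    · exact (hodd 3 (by omega) (by norm_num)).elim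
    · exact (h2grp 5 (by omega)).elim
    · exact (hodd 5 (by omega) (by norm_num)).elim
    · omega
  refine ⟨hG, ?_⟩
  have h6 : Nat.card ↥(Ph R e).range = 24 := by
    have : Nat.card ↥(Ph R e).range * Nat.card ↥(Ph R e).ker ≤ Nat.card ↥(Ph R e).range * 2 :=
      Nat.mul_le_mul_left _ h3
    omega
  have h7 : (Ph R e).range = ⊤ := by
    apply Subgroup.eq_top_of_card_eq
    rw [h6, card_mulAut]
  exact MonoidHom.range_eq_top.mp h7

end

end Cfsg.Agent.Helper2.RkOne
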