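import Mathlib
import Cfsg.Agent.Helper2.RkOneC
import Cfsg.Agent.Helper2.GL23Pres

set_option autoImplicit false

/-!
The quaternion case, part 2: the elements `d`, `t`, and the case `t² = 1` giving `GL₂(3)`.
-/

namespace Cfsg.Agent.Helper2.RkOne

open Cfsg.Agent.Helper2 QuaternionGroup Q8Aut

variable {G : Type*} [Group G]

section

variable (R : Subgroup G) [hRn : R.Normal] (e : R ≃* Q)

theorem z_pow_three : iot R e (a 2) ^ 3 = iot R e (a 2) := by
  rw [pow_three, z_sq, mul_one]

theorem exists_d_t (hcen : Subgroup.centralizer (R : Set G) ≤ R)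
    (hsurj : Function.Surjective (Ph R e)) :
    ∃ d t : G, Ph R e d = dl ∧ Ph R e t = tu ∧ d ^ 3 = 1 ∧
      (t * t = 1 ∨ t * t = iot R e (a 2)) ∧ t * d * t * d = t * t := by
  obtain ⟨d', hd'⟩ := hsurj dl
  obtain ⟨t, ht⟩ := hsurj tu
  have hzk : Ph R e (iot R e (a 2)) = 1 := MonoidHom.mem_ker.mp (z_mem_ker R e)
  have hzne : iot R e (a 2) ≠ 1 := iot_ne_one R e a_two_ne
  -- normalise `d`
  obtain ⟨d, hd, hd3⟩ : ∃ d : G, Ph R e d = dl ∧ d ^ 3 = 1 := by
    have hk : d' ^ 3 ∈ (Ph R e).ker := by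
      rw [MonoidHom.mem_ker, map_pow, hd', dl_cube]
    rcases ker_cases R e hcen hk with h | h
    · exact ⟨d', hd', h⟩
    · refine ⟨d' * iot R e (a 2), by rw [map_mul, hd', hzk, mul_one], ?_⟩
      have hc : Commute d' (iot R e (a 2)) := z_central R e d'
      rw [hc.mul_pow, h, z_pow_three, z_sq]
  refine ⟨d, t, hd, ht, hd3, ?_, ?_⟩
  · apply ker_cases R e hcen
    rw [MonoidHom.mem_ker, map_mul, ht, tu_mul_self]
  · have hs : t * t = 1 ∨ t * t = iot R e (a 2) := by
      apply ker_cases R e hcen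
      rw [MonoidHom.mem_ker, map_mul, ht, tu_mul_self]
    have hw : t * d * t * d = 1 ∨ t * d * t * d = iot R e (a 2) := by
      apply ker_cases R e hcen
      rw [MonoidHom.mem_ker, map_mul, map_mul, map_mul, ht, hd, tu_dl]
    have hu3 : (t * d * t⁻¹) ^ 3 = 1 := by rw [conj_pow, hd3, mul_one, mul_inv_cancel]
    have hdinv3 : (d⁻¹) ^ 3 = 1 := by rw [inv_pow, hd3, inv_one]
    rcases hw with hw | hw <;> rcases hs with hs | hs
    · rw [hw, hs]
    · exfalso
      -- `t d t d = 1`, `t t = z`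
      have h1 : t * d * t = d⁻¹ := by
        rw [eq_inv_iff_mul_eq_one]; exact hw
      have h2 : t⁻¹ = t * iot R e (a 2) := by
        rw [inv_eq_iff_mul_eq_one, ← mul_assoc, hs, z_sq]
      have h3 : t * d * t⁻¹ = d⁻¹ * iot R e (a 2) := by
        rw [h2, ← mul_assoc, h1]
      have hc : Commute d⁻¹ (iot R e (a 2)) := z_central R e d⁻¹
      rw [h3, hc.mul_pow, hdinv3, one_mul, z_pow_three] at hu3
      exact hzne hu3
    · exfalso
      -- `t d t d = z`, `t t = 1`
      have h2 : t⁻¹ = t := by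
        rw [inv_eq_iff_mul_eq_one]; exact hs
      have h1 : t * d * t = iot R e (a 2) * d⁻¹ := by
        rw [eq_mul_inv_iff_mul_eq]; exact hw
      have hc : Commute (iot R e (a 2)) d⁻¹ := (z_central R e d⁻¹).symm
      rw [h2, h1, hc.mul_pow, hdinv3, mul_one, z_pow_three] at hu3
      exact hzne hu3
    · rw [hw, hs]

/-- the case `t² = 1`: the group is `GL₂(3)` -/
theorem equiv_GL (hG : Nat.card G = 48) (d t : G) (hd : Ph R e d = dl) (ht : Ph R e t = tu)
    (hd3 : d ^ 3 = 1) (htt : t * t = 1) (hw : t * d * t * d = t * t) :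
    Nonempty (G ≃* GL (Fin 2) (ZMod 3)) := by
  set i := iot R e (a 1) with hi
  set j := iot R e (xa 0) with hj
  have hdi : d * i = j * d := by rw [hi, mul_iot, hd, dl_a]
  have hdj : d * j = iot R e (a 1 * xa 0) * d := by rw [hj, mul_iot, hd, dl_xa]
  have hti : t * i = iot R e ((xa 0)⁻¹) * t := by rw [hi, mul_iot, ht, tu_a]
  have htj : t * j = iot R e ((a 1)⁻¹) * t := by rw [hj, mul_iot, ht, tu_xa]
  have hd3' : ∀ x : G, x * d * d * d = x := by
    intro x
    rw [mul_assoc, mul_assoc, ← pow_three, hd3, mul_one]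
  have htt' : ∀ x : G, x * t * t = x := by
    intro x
    rw [mul_assoc, htt, mul_one]
  apply GL23Pres.equiv_of_rels hG ![i, j, d, t]
  · intro r hr
    simp only [GL23Pres.R, List.mem_cons, List.not_mem_nil, or_false] at hr
    rcases hr with rfl | rfl | rfl | rfl | rfl | rfl | rfl | rfl | rfl | rfl | rfl
    · show i * (i * (i * (i * 1))) = 1
      rw [mul_one, hi, ← map_mul, ← map_mul, ← map_mul, rel1, map_one]
    · show j * (j * (j * (j * 1))) = 1
      rw [mul_one, hj, ← map_mul, ← map_mul, ← map_mul, rel2, map_one]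
    · show i * (i * (j * (j * 1))) = 1
      rw [mul_one, hi, hj, ← map_mul, ← map_mul, ← map_mul, rel3, map_one]
    · show j * (i * (j * (j * (j * (i * 1))))) = 1
      rw [mul_one, hi, hj, ← map_mul, ← map_mul, ← map_mul, ← map_mul, ← map_mul, rel4, map_one]
    · show d * (d * (d * 1)) = 1
      rw [mul_one, ← pow_three, hd3]
    · show d * (i * (d * (d * (j * (j * (j * 1)))))) = 1
      simp only [mul_one, ← mul_assoc]
      rw [hdi, hd3' j, hj, ← map_mul, ← map_mul, ← map_mul]
      have : (xa 0 : Q) * xa 0 * xa 0 * xa 0 = 1 := by decide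
      rw [this, map_one]
    · show d * (j * (d * (d * (j * (j * (j * (i * (i * (i * 1))))))))) = 1
      simp only [mul_one, ← mul_assoc]
      rw [hdj, hd3', hi, hj, ← map_mul, ← map_mul, ← map_mul, ← map_mul, ← map_mul, ← map_mul]
      have : (a 1 * xa 0 : Q) * xa 0 * xa 0 * xa 0 * a 1 * a 1 * a 1 = 1 := by decide
      rw [this, map_one]
    · show t * (t * 1) = 1
      rw [mul_one, htt]
    · show t * (d * (t * (d * 1))) = 1
      simp only [mul_one, ← mul_assoc]
      rw [hw, htt]
    · show t * (i * (t * (j * 1))) = 1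
      simp only [mul_one, ← mul_assoc]
      rw [hti, htt', hj, ← map_mul, rel10, map_one]
    · show t * (j * (t * (i * 1))) = 1
      simp only [mul_one, ← mul_assoc]
      rw [htj, htt', hi, ← map_mul, rel11, map_one]
  · show i * i ≠ 1
    rw [hi, ← map_mul, a_one_sq]
    exact iot_ne_one R e a_two_ne

end

end Cfsg.Agent.Helper2.RkOne
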