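import Mathlib
import Cfsg.Agent.Helper2.RkOneD

set_option autoImplicit false

/-!
The quaternion case, part 3: the case `t² = z` giving the binary octahedral group.
-/

namespace Cfsg.Agent.Helper2.RkOne

open Cfsg.Agent.Helper2 QuaternionGroup Q8Aut

variable {G : Type*} [Group G]

section

variable (R : Subgroup G) [hRn : R.Normal] (e : R ≃* Q)

theorem Ph_iot (q x : Q) : Ph R e (iot R e q) x = q * x * q⁻¹ := by
  apply iot_injective R e
  rw [← conj_iot, map_mul, map_mul, map_inv]

theorem orderOf_z : orderOf (iot R e (a 2)) = 2 := by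
  apply orderOf_eq_prime
  · rw [pow_two]; exact z_sq R e
  · exact iot_ne_one R e a_two_ne

theorem ker_eq_zpowers (hcen : Subgroup.centralizer (R : Set G) ≤ R) :
    (Ph R e).ker = Subgroup.zpowers (iot R e (a 2)) := by
  apply le_antisymm
  · intro g hg
    rcases ker_cases R e hcen hg with rfl | rfl
    · exact Subgroup.one_mem _
    · exact Subgroup.mem_zpowers _
  · rw [Subgroup.zpowers_le]
    exact z_mem_ker R e

theorem center_eq_ker (hcen : Subgroup.centralizer (R : Set G) ≤ R) :
    Subgroup.center G = (Ph R e).ker := by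
  ext g
  constructor
  · intro hg
    rw [MonoidHom.mem_ker]
    ext q
    rw [MulAut.one_apply]
    apply iot_injective R e
    rw [← conj_iot]
    have := Subgroup.mem_center_iff.mp hg (iot R e q)
    rw [← this]
    group
  · intro hg
    rcases ker_cases R e hcen hg with rfl | rfl
    · exact Subgroup.one_mem _
    · exact Subgroup.mem_center_iff.mpr (fun x => z_central R e x)

include e in
theorem card_center (hcen : Subgroup.centralizer (R : Set G) ≤ R) :
    Nat.card (Subgroup.center G) = 2 := by
  rw [center_eq_ker R e hcen, ker_eq_zpowers R e hcen, Nat.card_zpowers, orderOf_z]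

theorem quotient_center_equiv (hcen : Subgroup.centralizer (R : Set G) ≤ R)
    (hsurj : Function.Surjective (Ph R e)) :
    Nonempty (G ⧸ Subgroup.center G ≃* Equiv.Perm (Fin 4)) := by
  obtain ⟨ψ, -⟩ := exists_equiv
  exact ⟨(QuotientGroup.quotientMulEquivOfEq (center_eq_ker R e hcen)).trans
    ((QuotientGroup.quotientKerEquivOfSurjective (Ph R e) hsurj).trans ψ.symm)⟩

/-- the case `t² = z`: the Sylow `2`-subgroups are generalized quaternion of order `16` -/
theorem sylow_quat [Finite G] (hG : Nat.card G = 48)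
    (hRS : ∀ S : Sylow 2 G, R ≤ (S : Subgroup G)) (t : G) (ht : Ph R e t = tu)
    (htt : t * t = iot R e (a 2)) (P : Sylow 2 G) :
    Nonempty (↥(P : Subgroup G) ≃* QuaternionGroup 4) := by
  haveI : Fact (Nat.Prime 2) := ⟨Nat.prime_two⟩
  have ht4 : t ^ 4 = 1 := by
    have : t ^ 4 = (t * t) * (t * t) := by
      rw [show (4 : ℕ) = 2 + 2 from rfl, pow_add, pow_two]
    rw [this, htt, z_sq]
  have hpt : IsPGroup 2 (Subgroup.zpowers t) := by
    intro x
    refine ⟨2, ?_⟩
    obtain ⟨k, hk⟩ := Subgroup.mem_zpowers_iff.mp x.2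
    apply Subtype.ext
    rw [Subgroup.coe_pow, ← hk]
    norm_num
    rw [← zpow_natCast, ← zpow_mul, mul_comm, zpow_mul, zpow_natCast, ht4, one_zpow]
  obtain ⟨S₀, hS₀⟩ := hpt.exists_le_sylow
  have htS : t ∈ (S₀ : Subgroup G) := hS₀ (Subgroup.mem_zpowers t)
  have hRS₀ : R ≤ (S₀ : Subgroup G) := hRS S₀
  have hcardS : Nat.card (S₀ : Subgroup G) = 16 := by
    have := SylowExact.card_sylow_of_exact_pow (s := 2) (k := 4) (m := 3) (by rw [hG]; norm_num) (by norm_num) S₀
    simpa using this
  have hidx : (R.subgroupOf (S₀ : Subgroup G)).index = 2 := by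
    have h1 := Subgroup.relIndex_mul_index hRS₀
    have h2 := R.index_mul_card
    have h3 := (S₀ : Subgroup G).index_mul_card
    rw [card_R R e, hG] at h2
    rw [hcardS, hG] at h3
    have h4 : R.index = 6 := by omega
    have h5 : (S₀ : Subgroup G).index = 3 := by omega
    rw [h4, h5] at h1
    have : R.relIndex (S₀ : Subgroup G) = 2 := by omega
    exact this
  have htR : t ∉ R := by
    intro h
    obtain ⟨q, hq⟩ := exists_iot R e h
    have h1 := Ph_iot R e q (a 1)
    rw [hq, ht] at h1
    exact conj_ne_tu q h1.symm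
  have hx : ∀ x ∈ (S₀ : Subgroup G), x ∈ R ∨ ∃ q : Q, x = iot R e q * t := by
    intro x hxS
    by_cases hxR : x ∈ R
    · exact Or.inl hxR
    · right
      have h1 := Subgroup.mul_mem_iff_of_index_two hidx
        (a := (⟨x, hxS⟩ : ↥(S₀ : Subgroup G)))
        (b := (⟨t⁻¹, (S₀ : Subgroup G).inv_mem htS⟩ : ↥(S₀ : Subgroup G)))
      have h2 : (⟨x, hxS⟩ : ↥(S₀ : Subgroup G)) ∉ R.subgroupOf (S₀ : Subgroup G) := by
        rw [Subgroup.mem_subgroupOf]; exact hxR
      have h3 : (⟨t⁻¹, (S₀ : Subgroup G).inv_mem htS⟩ : ↥(S₀ : Subgroup G)) ∉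
          R.subgroupOf (S₀ : Subgroup G) := by
        rw [Subgroup.mem_subgroupOf]
        intro h
        exact htR (by simpa using R.inv_mem h)
      have h4 : (⟨x, hxS⟩ : ↥(S₀ : Subgroup G)) * ⟨t⁻¹, (S₀ : Subgroup G).inv_mem htS⟩ ∈
          R.subgroupOf (S₀ : Subgroup G) := h1.mpr ⟨fun h => absurd h h2, fun h => absurd h h3⟩
      rw [Subgroup.mem_subgroupOf] at h4
      obtain ⟨q, hq⟩ := exists_iot R e h4
      refine ⟨q, ?_⟩
      rw [hq]
      simp
  have hinv : ∀ x ∈ (S₀ : Subgroup G), x * x = 1 → x = 1 ∨ x = iot R e (a 2) := by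
    intro x hxS hxx
    rcases hx x hxS with hxR | ⟨q, rfl⟩
    · obtain ⟨q, rfl⟩ := exists_iot R e hxR
      rw [← map_mul, ← map_one (iot R e)] at hxx
      rcases invol_cases q (iot_injective R e hxx) with rfl | rfl
      · left; exact map_one _
      · right; rfl
    · exfalso
      have h0 := mul_iot R e t q
      rw [ht] at h0
      have h1 : iot R e q * t * (iot R e q * t) = iot R e (q * tu q * a 2) := by
        rw [map_mul, map_mul, ← htt]
        calc iot R e q * t * (iot R e q * t) = iot R e q * (t * iot R e q) * t := by group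
          _ = iot R e q * (iot R e (tu q) * t) * t := by rw [h0]
          _ = iot R e q * iot R e (tu q) * (t * t) := by group
      rw [h1, ← map_one (iot R e)] at hxx
      exact mul_tu_ne' q (iot_injective R e hxx)
  have huniq : ∀ x y : ↥(S₀ : Subgroup G), orderOf x = 2 → orderOf y = 2 → x = y := by
    have key : ∀ x : ↥(S₀ : Subgroup G), orderOf x = 2 → (x : G) = iot R e (a 2) := by
      intro x hx2
      have h1 : x ^ 2 = 1 := by
        have := pow_orderOf_eq_one x
        rwa [hx2] at this
      have h2 : (x : G) * (x : G) = 1 := by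
        have := congrArg Subtype.val h1
        simpa [pow_two] using this
      rcases hinv x.1 x.2 h2 with h | h
      · exfalso
        have : x = 1 := Subtype.ext h
        rw [this, orderOf_one] at hx2
        omega
      · exact h
    intro x y hx2 hy2
    exact Subtype.ext ((key x hx2).trans (key y hy2).symm)
  have hmain : Nonempty (↥(S₀ : Subgroup G) ≃* QuaternionGroup 4) := by
    rcases Cfsg.Agent.S0016.result 2 S₀.isPGroup'
      (subgroup_two_unique_of_involution_unique huniq) with hcyc | ⟨-, n, ⟨f⟩⟩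
    · exfalso
      have hc := @IsCyclic.commutative ↥(S₀ : Subgroup G) _ hcyc
      have h1 := hc.is_comm.comm (⟨iot R e (a 1), hRS₀ (iot_mem R e _)⟩ : ↥(S₀ : Subgroup G))
        ⟨iot R e (xa 0), hRS₀ (iot_mem R e _)⟩
      have h2 : iot R e (a 1) * iot R e (xa 0) = iot R e (xa 0) * iot R e (a 1) :=
        congrArg Subtype.val h1
      rw [← map_mul, ← map_mul] at h2
      exact not_comm (iot_injective R e h2)
    · haveI : NeZero (2 ^ n) := ⟨by positivity⟩
      have h1 : Nat.card (S₀ : Subgroup G) = 4 * 2 ^ n := by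
        rw [Nat.card_congr f.toEquiv, Nat.card_eq_fintype_card, QuaternionGroup.card]
      have h4 : 2 ^ n = 4 := by omega
      rw [h4] at f
      exact ⟨f⟩
  obtain ⟨f⟩ := hmain
  obtain ⟨g, rfl⟩ := MulAction.exists_smul_eq G S₀ P
  exact ⟨(Sylow.equivSMul S₀ g).symm.trans f⟩

end

end Cfsg.Agent.Helper2.RkOne
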