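import Mathlib
import Cfsg.Agent.Helper2.RkOneE

set_option autoImplicit false

/-!
Solvable groups with trivial odd core whose distinct Sylow `2`-subgroups meet in groups of
`2`-rank one: the structure theorem.
-/

namespace Cfsg.Agent.Helper2.RkOne

open Cfsg.Agent.Helper2 QuaternionGroup Q8Aut

variable {G : Type*} [Group G]

theorem struct_of_core_trivial [Finite G] [hs : Group.IsSolvable G]
    (hO : Cfsg.pPrimeCore 2 G = ⊥)
    (hI : ∀ S T : Sylow 2 G, S ≠ T →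
      Cfsg.PRankLE 2 1 ↥((S : Subgroup G) ⊓ (T : Subgroup G))) :
    (∃ P : Sylow 2 G, (P : Subgroup G).Normal) ∨
    Nonempty (G ≃* GL (Fin 2) (ZMod 3)) ∨
    (Nat.card G = 48 ∧ Nat.card ↥(Subgroup.center G) = 2 ∧
      Nonempty (G ⧸ Subgroup.center G ≃* Equiv.Perm (Fin 4)) ∧
      ∀ P : Sylow 2 G, Nonempty (↥(P : Subgroup G) ≃* QuaternionGroup 4)) := by
  haveI : Fact (Nat.Prime 2) := ⟨Nat.prime_two⟩
  by_cases hsub : Subsingleton (Sylow 2 G)
  · obtain ⟨P⟩ : Nonempty (Sylow 2 G) := inferInstance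
    exact Or.inl ⟨P, Sylow.normal_of_subsingleton P⟩
  · right
    rw [not_subsingleton_iff_nontrivial] at hsub
    obtain ⟨S, T, hne⟩ := hsub
    obtain ⟨e⟩ := pCore_quat_eight hO hI S T hne
    have hcen : Subgroup.centralizer (Cfsg.pCore 2 G : Set G) ≤ Cfsg.pCore 2 G :=
      Cfsg.Agent.Helper1.centralizer_pCore_le 2 hO
    have hRS : ∀ S : Sylow 2 G, Cfsg.pCore 2 G ≤ (S : Subgroup G) :=
      fun S => Cfsg.Agent.Helper1.pCore_le_sylow S
    obtain ⟨hG, hsurj⟩ := card_eq_and_surjective (Cfsg.pCore 2 G) e hcen hRS S T hne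
    obtain ⟨d, t, hd, ht, hd3, htt, hw⟩ := exists_d_t (Cfsg.pCore 2 G) e hcen hsurj
    rcases htt with htt | htt
    · left
      exact equiv_GL (Cfsg.pCore 2 G) e hG d t hd ht hd3 htt hw
    · right
      exact ⟨hG, card_center (Cfsg.pCore 2 G) e hcen,
        quotient_center_equiv (Cfsg.pCore 2 G) e hcen hsurj,
        fun P => sylow_quat (Cfsg.pCore 2 G) e hG hRS t ht htt P⟩

/-- the hypothesis passes to the quotient by the odd core -/
theorem rank_one_inter_quotient [Finite G]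
    (hI : ∀ S T : Sylow 2 G, S ≠ T →
      Cfsg.PRankLE 2 1 ↥((S : Subgroup G) ⊓ (T : Subgroup G))) :
    ∀ S T : Sylow 2 (G ⧸ Cfsg.pPrimeCore 2 G), S ≠ T →
      Cfsg.PRankLE 2 1 ↥((S : Subgroup (G ⧸ Cfsg.pPrimeCore 2 G)) ⊓
        (T : Subgroup (G ⧸ Cfsg.pPrimeCore 2 G))) := by
  haveI : Fact (Nat.Prime 2) := ⟨Nat.prime_two⟩
  intro Sbar Tbar hne
  obtain ⟨S1, T1, hne1, f, hf⟩ := sylow_inter_quotient_embed (Cfsg.pPrimeCore 2 G)
    (Cfsg.Agent.Helper1.card_pPrimeCore_coprime 2) Sbar Tbar hne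
  exact pRankLE_of_injective f hf (hI S1 T1 hne1)

end Cfsg.Agent.Helper2.RkOne
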