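import Mathlib
import Cfsg.Agent.Helper2.TwB

/-!
# Towers of presentations: the stage step for exponent one

For the exponent `1` the covering presentation is the presentation itself, all central words are
trivial and no lower bound is needed for the lower stage: the order of the presented group of the
upper stage is at most the order of the presented group of the lower stage times the number of
cosets of a Todd–Coxeter certificate.
-/

set_option autoImplicit false

namespace Cfsg.Agent.Helper2.Tw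

open Cfsg Cfsg.Agent.Helper5 Cfsg.Agent.Helper5.StemP Cfsg.Agent.Helper5.LP
  Cfsg.Agent.Helper5.LTC

universe u

theorem zC_exp_one (d : ℕ) (m : ℕ → ℕ) (CC TT : List (List ℕ)) (hCT : ∀ r ∈ CC, r ∈ TT) (i : ℕ) :
    zC d m CC TT 1 i = 1 := by
  have h := zC_pow d m CC TT 1 hCT i
  rwa [pow_one] at h

theorem phi_eq_one_of {G : Type*} [Group G] (z : ℕ → G) (hz : ∀ i, z i = 1) (l : L8) :
    phi z l = 1 := by
  unfold phi
  simp only [hz, one_pow, mul_one]

section one
variable {P : Type u} [Group P] {g : ℕ → P} {mm : ℕ → ℕ} {d' d : ℕ} {C' C : List (List ℕ)}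
  (S' : Stage g mm d' C') (S : Stage g mm d C) (hd : d' ≤ d) (hsub : ∀ r ∈ C', r ∈ C)

include S' S hd hsub in
/-- **the order bound of the upper stage for the exponent one.** -/
theorem stage_bound_one {M' : ℕ} (hfin' : Finite (CovG d' mm C' C' 1))
    (hcard' : Nat.card (CovG d' mm C' C' 1) ≤ M')
    (Ct : Cert) (hk : Ct.k = 2 * d) (hι : Ct.ι = linv) (hE : Ct.E = 1)
    (hWlt : ∀ wi, ∀ c ∈ Ct.W wi, c < 2 * d) (orig : ℕ → ℕ)
    (hwordOK : ∀ wi, wi < Ct.nrel →
      wordOK3 (coverRels d mm C C 1) C 0 (Ct.W wi) (Ct.δ wi) (orig wi) = true)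
    (hsubs : ∀ wi, Ct.nrel ≤ wi → wi < Ct.nw → ∃ c, c < 2 * d' ∧ Ct.W wi = [c])
    (hchk : ∀ j, j < Ct.nf → ∃ r, checkFact Ct j r = true)
    (T : Tab) (hT0 : T.LV 0 = 0) (h0N : 0 < T.N)
    (hT : ∀ n, n < T.N → ∀ x, x < Ct.k → tabEntryOK Ct T n x = true)
    (js : List ℕ) (hjs : ∀ j ∈ js, relFactOK Ct j = true)
    (i0 a : ℕ) (hi0 : i0 < 8) (ha : 0 < a) (cs0 : List ℕ) (h0 : ordOK Ct js cs0 i0 a = true) :
    Finite (CovG d mm C C 1) ∧ Nat.card (CovG d mm C C 1) ≤ M' * T.N * a := by
  have hfinK : Finite (kS S' S hd hsub 1) :=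
    Finite.of_surjective (up S' S hd hsub 1).rangeRestrict
      (up S' S hd hsub 1).rangeRestrict_surjective
  have hcardK : Nat.card (kS S' S hd hsub 1) ≤ M' :=
    (Nat.card_le_card_of_surjective (up S' S hd hsub 1).rangeRestrict
      (up S' S hd hsub 1).rangeRestrict_surjective).trans hcard'
  have hz : ∀ i, zC d mm C C 1 i = 1 := zC_exp_one d mm C C (fun r hr => hr)
  have h := covG_card_le_free d mm C C 1 Ct hk hι hE Nat.one_pos (fun r hr => hr) S.lt 0
    (Nat.zero_le 8) (fun i _ => hz i) hWlt orig hwordOK (kS S' S hd hsub 1)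
    (by
      intro wi h1 h2
      obtain ⟨c, hc, hw⟩ := hsubs wi h1 h2
      rw [hw]
      exact letter_mem_kS S' S hd hsub 1 c hc)
    (fun l _ => phi_eq_one_of _ hz l) hchk T hT0 h0N hT js hjs i0 a hi0 ha cs0 h0
    (fun _ => 0) (fun _ => []) (fun i hi => absurd hi (Nat.not_lt_zero i))
  refine ⟨h.1, h.2.trans ?_⟩
  exact Nat.mul_le_mul_right _ (Nat.mul_le_mul_right _ hcardK)

end one

end Cfsg.Agent.Helper2.Tw
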