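import Mathlib
import Cfsg.Agent.Helper2.TwE

/-!
# Towers of presentations: certificates with many relators, for the exponent one

* `covG_card_le_word`: the order bound from a labelled Todd–Coxeter certificate, the loop words of
  which are known to have the values of their labels.
* `wordOK4`: for the exponent one, a loop word is empty, a word `x x⁻¹`, `x⁻¹ x`, `x ^ m`, or the
  word of `CC` of a given index (any number of words, no rotations).
* `stage_bound_word`: the order bound of the upper stage for the exponent one.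
-/

set_option autoImplicit false

namespace Cfsg.Agent.Helper2.Tw

open Cfsg Cfsg.Agent.Helper5 Cfsg.Agent.Helper5.StemP Cfsg.Agent.Helper5.LP
  Cfsg.Agent.Helper5.LTC

universe u

section cov
variable (d : ℕ) (m : ℕ → ℕ) (CC TT : List (List ℕ)) (e : ℕ)

/-- **the order bound for covering groups from a labelled certificate**, the loop words being known
to have the values of their labels. -/
theorem covG_card_le_word (C : Cert) (hk : C.k = 2 * d) (hι : C.ι = linv) (hE : C.E = e)
    (he0 : 0 < e) (hCT : ∀ r ∈ CC, r ∈ TT) (hlt : ∀ r ∈ CC, ∀ c ∈ r, c < 2 * d)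
    (n : ℕ) (hn : n ≤ 8) (hzn : ∀ i, n ≤ i → zC d m CC TT e i = 1)
    (hWlt : ∀ wi, ∀ c ∈ C.W wi, c < 2 * d)
    (hword : ∀ wi, wi < C.nrel →
      ev (2 * d) (coverRels d m CC TT e) (C.W wi) = phi (zC d m CC TT e) (C.δ wi))
    (K : Subgroup (CovG d m CC TT e))
    (hsubs : ∀ wi, C.nrel ≤ wi → wi < C.nw →
      ev (2 * d) (coverRels d m CC TT e) (C.W wi) ∈ K)
    [Finite K] (hK : ∀ l, phi (zC d m CC TT e) l ∈ K → phi (zC d m CC TT e) l = 1)
    (hchk : ∀ j, j < C.nf → ∃ r, checkFact C j r = true)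
    (T : Tab) (hT0 : T.LV 0 = 0) (h0N : 0 < T.N)
    (hT : ∀ n, n < T.N → ∀ x, x < C.k → tabEntryOK C T n x = true)
    (js : List ℕ) (hjs : ∀ j ∈ js, relFactOK C j = true)
    (i0 a : ℕ) (hi0 : i0 < 8) (ha : 0 < a) (cs0 : List ℕ) (h0 : ordOK C js cs0 i0 a = true)
    (as : ℕ → ℕ) (css : ℕ → List ℕ)
    (hgs : ∀ i, i < n → genOK C js (css i) i i0 (as i) = true) :
    Finite (CovG d m CC TT e) ∧ Nat.card (CovG d m CC TT e) ≤ Nat.card K * T.N * a := by
  have hH : Hyp C K (gC d m CC TT e) (zC d m CC TT e) := by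
    refine ⟨zC_center d m CC TT e hlt, by rw [hE]; exact he0, ?_, ?_, ?_, ?_, ?_⟩
    · intro i
      rw [hE]
      exact zC_pow d m CC TT e hCT i
    · intro x _
      rw [hι]
      exact lval_linv _ x
    · intro wi c hc
      rw [hk]
      exact hWlt wi c hc
    · intro wi hwi
      rw [lprod_gC d m CC TT e _ (hWlt wi)]
      exact hword wi hwi
    · intro wi h1 h2
      rw [lprod_gC d m CC TT e _ (hWlt wi)]
      exact hsubs wi h1 h2
  refine ltc_main hH hchk T hT0 h0N hT ?_ hK n hn hzn js hjs i0 a hi0 ha cs0 h0 as css hgs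
  intro p
  obtain ⟨l, hl, hp⟩ := exists_word d m CC TT e p
  exact ⟨l, by rw [hk]; exact hl, hp⟩

/-- is `w` a loop word for the exponent one?  The origin `o` is `0` for the empty word and the
words `x x⁻¹`, `x⁻¹ x`, `x ^ m`, and `i + 1` for the word `i` of `CC`. -/
def wordOK4 (w : List ℕ) (δ : L8) (o : ℕ) : Bool :=
  L8.beq δ L8.zero &&
  (bif Nat.beq o 0 then
    (w.isEmpty || (List.range d).any (fun i => decide (w = [2 * i, 2 * i + 1]) ||
      decide (w = [2 * i + 1, 2 * i]) || decide (w = List.replicate (m i) (2 * i))))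
  else Nat.blt (Nat.pred o) CC.length && decide (CC.getD (Nat.pred o) [] = w))

theorem ev_inv_pair' {i : ℕ} (hi : i < d) :
    ev (2 * d) (coverRels d m CC TT e) [2 * i + 1, 2 * i] = 1 := by
  rw [ev_cons, ev_odd d m CC TT e hi]
  unfold cgen
  exact inv_mul_cancel _

theorem wordOK4_sound (hCT : ∀ r ∈ CC, r ∈ TT) {w : List ℕ} {δ : L8} {o : ℕ}
    (h : wordOK4 d m CC w δ o = true) :
    ev (2 * d) (coverRels d m CC TT 1) w = phi (zC d m CC TT 1) δ := by
  unfold wordOK4 at h
  rw [Bool.and_eq_true] at h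
  obtain ⟨hδ, h⟩ := h
  rw [L8.eq_of_beq hδ, phi_zero]
  cases ho : Nat.beq o 0 with
  | true =>
    rw [ho, cond_true, Bool.or_eq_true] at h
    rcases h with h1 | h1
    · rw [List.isEmpty_iff] at h1
      rw [h1, ev_nil]
    · obtain ⟨i, hi, h2⟩ := List.any_eq_true.mp h1
      have hi' : i < d := List.mem_range.mp hi
      simp only [Bool.or_eq_true, decide_eq_true_eq] at h2
      rcases h2 with (h2 | h2) | h2
      · rw [h2]
        exact ev_rel (mem_coverRels_inv d m CC TT 1 hi')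
      · rw [h2]
        exact ev_inv_pair' d m CC TT 1 hi'
      · rw [h2]
        exact ev_rel (mem_coverRels_pow d m CC TT 1 hi')
  | false =>
    rw [ho, cond_false, Bool.and_eq_true] at h
    obtain ⟨h1, h2⟩ := h
    have hlt : Nat.pred o < CC.length := by rwa [Nat.blt_eq] at h1
    have hw : CC.getD (Nat.pred o) [] = w := of_decide_eq_true h2
    rw [List.getD_eq_getElem CC [] hlt] at hw
    have hmem : w ∈ TT := hCT w (hw ▸ List.getElem_mem hlt)
    have h3 := ev_rel (k := 2 * d) (mem_coverRels_T d m CC TT 1 hmem)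
    have h4 : (List.replicate 1 w).flatten = w := by simp
    rwa [h4] at h3

end cov

section one
variable {P : Type u} [Group P] {g : ℕ → P} {mm : ℕ → ℕ} {d' d : ℕ} {C' C : List (List ℕ)}
  (S' : Stage g mm d' C') (S : Stage g mm d C) (hd : d' ≤ d) (hsub : ∀ r ∈ C', r ∈ C)

include S' S hd hsub in
/-- **the order bound of the upper stage for the exponent one**, any number of relators. -/
theorem stage_bound_word {M' : ℕ} (hfin' : Finite (CovG d' mm C' C' 1))
    (hcard' : Nat.card (CovG d' mm C' C' 1) ≤ M')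
    (Ct : Cert) (hk : Ct.k = 2 * d) (hι : Ct.ι = linv) (hE : Ct.E = 1)
    (hWlt : ∀ wi, ∀ c ∈ Ct.W wi, c < 2 * d) (orig : ℕ → ℕ)
    (hwordOK : ∀ wi, wi < Ct.nrel → wordOK4 d mm C (Ct.W wi) (Ct.δ wi) (orig wi) = true)
    (hsubs : ∀ wi, Ct.nrel ≤ wi → wi < Ct.nw → ∃ c, c < 2 * d' ∧ Ct.W wi = [c])
    (hchk : ∀ j, j < Ct.nf → ∃ r, checkFact Ct j r = true)
    (T : Tab) (hT0 : T.LV 0 = 0) (h0N : 0 < T.N)
    (hT : ∀ n, n < T.N → ∀ x, x < Ct.k → tabEntryOK Ct T n x = true)
    (js : List ℕ) (hjs : ∀ j ∈ js, relFactOK Ct j = true)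
    (i0 a : ℕ) (hi0 : i0 < 8) (ha : 0 < a) (cs0 : List ℕ) (h0 : ordOK Ct js cs0 i0 a = true) :
    Finite (CovG d mm C C 1) ∧ Nat.card (CovG d mm C C 1) ≤ M' * T.N * a := by
  have hfinK : Finite (kS S' S hd hsub 1) :=
    Finite.of_surjective (up S' S hd hsub 1).rangeRestrict
      (up S' S hd hsub 1).rangeRestrict_surjective
  have hcardK : Nat.card (kS S' S hd hsub 1) ≤ M' :=
    (Nat.card_le_card_of_surjective (up S' S hd hsub 1).rangeRestrict
      (up S' S hd hsub 1).rangeRestrict_surjective).trans hcard'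
  have hz : ∀ i, zC d mm C C 1 i = 1 := zC_exp_one d mm C C (fun r hr => hr)
  have h := covG_card_le_word d mm C C 1 Ct hk hι hE Nat.one_pos (fun r hr => hr) S.lt 0
    (Nat.zero_le 8) (fun i _ => hz i) hWlt
    (fun wi hwi => wordOK4_sound d mm C C (fun r hr => hr) (hwordOK wi hwi))
    (kS S' S hd hsub 1)
    (by
      intro wi h1 h2
      obtain ⟨c, hc, hw⟩ := hsubs wi h1 h2
      rw [hw]
      exact letter_mem_kS S' S hd hsub 1 c hc)
    (fun l _ => phi_eq_one_of _ hz l) hchk T hT0 h0N hT js hjs i0 a hi0 ha cs0 h0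
    (fun _ => 0) (fun _ => []) (fun i hi => absurd hi (Nat.not_lt_zero i))
  refine ⟨h.1, h.2.trans ?_⟩
  exact Nat.mul_le_mul_right _ (Nat.mul_le_mul_right _ hcardK)

end one

end Cfsg.Agent.Helper2.Tw
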