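import Cfsg.Agent.Helper2.RuRJu0
import Cfsg.Agent.Helper2.RuRJu1
import Cfsg.Agent.Helper2.RuRJu2
import Cfsg.Agent.Helper2.RuRJu3
import Cfsg.Agent.Helper2.RuRJu4
import Cfsg.Agent.Helper2.RuRJu5
import Cfsg.Agent.Helper2.RuRJu6
import Cfsg.Agent.Helper2.RuRJu7
import Cfsg.Agent.Helper2.RuRJu8
import Cfsg.Agent.Helper2.RuRJu9
import Cfsg.Agent.Helper2.RuRJu10
import Cfsg.Agent.Helper2.RuRJu11
import Cfsg.Agent.Helper2.RuRJu12
import Cfsg.Agent.Helper2.RuRJu13
import Cfsg.Agent.Helper2.RuRJu14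
import Cfsg.Agent.Helper2.RuRJu15
import Cfsg.Agent.Helper2.RuRJu16
import Cfsg.Agent.Helper2.RuRJu17
import Cfsg.Agent.Helper2.RuRJu18
import Cfsg.Agent.Helper2.RuRJu19
import Cfsg.Agent.Helper2.RuRJu20
import Cfsg.Agent.Helper2.RuRJu21
import Cfsg.Agent.Helper2.RuRTb0
import Cfsg.Agent.Helper2.RuRTb1

/-! generated labelled Todd-Coxeter certificate, summary: RuR -/

set_option autoImplicit false
set_option maxRecDepth 1000000

namespace Cfsg.Agent.Helper2.RuR
open Cfsg.Agent.Helper5.LTC

theorem upto_0 : ∀ j, j < 0 → ∃ r, checkFact cert j r = true := fun j hj => absurd hj (by omega)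

theorem upto_1 : ∀ j, j < 4000 → ∃ r, checkFact cert j r = true :=
  upto_step cert upto_0 ju_0 4000 len_0 chk_0

theorem upto_2 : ∀ j, j < 8000 → ∃ r, checkFact cert j r = true :=
  upto_step cert upto_1 ju_1 4000 len_1 chk_1

theorem upto_3 : ∀ j, j < 12000 → ∃ r, checkFact cert j r = true :=
  upto_step cert upto_2 ju_2 4000 len_2 chk_2

theorem upto_4 : ∀ j, j < 16000 → ∃ r, checkFact cert j r = true :=
  upto_step cert upto_3 ju_3 4000 len_3 chk_3

theorem upto_5 : ∀ j, j < 20000 → ∃ r, checkFact cert j r = true :=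
  upto_step cert upto_4 ju_4 4000 len_4 chk_4

theorem upto_6 : ∀ j, j < 24000 → ∃ r, checkFact cert j r = true :=
  upto_step cert upto_5 ju_5 4000 len_5 chk_5

theorem upto_7 : ∀ j, j < 28000 → ∃ r, checkFact cert j r = true :=
  upto_step cert upto_6 ju_6 4000 len_6 chk_6

theorem upto_8 : ∀ j, j < 32000 → ∃ r, checkFact cert j r = true :=
  upto_step cert upto_7 ju_7 4000 len_7 chk_7

theorem upto_9 : ∀ j, j < 36000 → ∃ r, checkFact cert j r = true :=
  upto_step cert upto_8 ju_8 4000 len_8 chk_8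

theorem upto_10 : ∀ j, j < 40000 → ∃ r, checkFact cert j r = true :=
  upto_step cert upto_9 ju_9 4000 len_9 chk_9

theorem upto_11 : ∀ j, j < 44000 → ∃ r, checkFact cert j r = true :=
  upto_step cert upto_10 ju_10 4000 len_10 chk_10

theorem upto_12 : ∀ j, j < 48000 → ∃ r, checkFact cert j r = true :=
  upto_step cert upto_11 ju_11 4000 len_11 chk_11

theorem upto_13 : ∀ j, j < 52000 → ∃ r, checkFact cert j r = true :=
  upto_step cert upto_12 ju_12 4000 len_12 chk_12

theorem upto_14 : ∀ j, j < 56000 → ∃ r, checkFact cert j r = true :=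
  upto_step cert upto_13 ju_13 4000 len_13 chk_13

theorem upto_15 : ∀ j, j < 60000 → ∃ r, checkFact cert j r = true :=
  upto_step cert upto_14 ju_14 4000 len_14 chk_14

theorem upto_16 : ∀ j, j < 64000 → ∃ r, checkFact cert j r = true :=
  upto_step cert upto_15 ju_15 4000 len_15 chk_15

theorem upto_17 : ∀ j, j < 68000 → ∃ r, checkFact cert j r = true :=
  upto_step cert upto_16 ju_16 4000 len_16 chk_16

theorem upto_18 : ∀ j, j < 72000 → ∃ r, checkFact cert j r = true :=
  upto_step cert upto_17 ju_17 4000 len_17 chk_17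

theorem upto_19 : ∀ j, j < 76000 → ∃ r, checkFact cert j r = true :=
  upto_step cert upto_18 ju_18 4000 len_18 chk_18

theorem upto_20 : ∀ j, j < 80000 → ∃ r, checkFact cert j r = true :=
  upto_step cert upto_19 ju_19 4000 len_19 chk_19

theorem upto_21 : ∀ j, j < 84000 → ∃ r, checkFact cert j r = true :=
  upto_step cert upto_20 ju_20 4000 len_20 chk_20

theorem upto_22 : ∀ j, j < 84828 → ∃ r, checkFact cert j r = true :=
  upto_step cert upto_21 ju_21 828 len_21 chk_21

theorem hchk : ∀ j, j < cert.nf → ∃ r, checkFact cert j r = true := upto_22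

theorem rowsto_0 : ∀ n, n < 0 → ∀ x, x < cert.k → tabEntryOK cert tab n x = true :=
  fun n hn => absurd hn (by omega)

theorem rowsto_1 : ∀ n, n < 4000 → ∀ x, x < cert.k → tabEntryOK cert tab n x = true :=
  rows_step cert tab rowsto_0 4000 rows_0

theorem rowsto_2 : ∀ n, n < 4060 → ∀ x, x < cert.k → tabEntryOK cert tab n x = true :=
  rows_step cert tab rowsto_1 60 rows_1

theorem hT : ∀ n, n < tab.N → ∀ x, x < cert.k → tabEntryOK cert tab n x = true := rowsto_2

theorem hjs : ∀ j ∈ js, relFactOK cert j = true := by decide +kernel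

theorem h0 : ordOK cert js cs0 0 1 = true := by decide +kernel

end Cfsg.Agent.Helper2.RuR
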