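import Cfsg.Agent.Helper5.LTCG

/-! generated labelled Todd-Coxeter certificate data (fa, two-level packed): RuU -/

set_option autoImplicit false
set_option Elab.async false
set_option maxRecDepth 1000000

namespace Cfsg.Agent.Helper2.RuU

def fa_g0 : List ℕ := [0x70000100000000000000000001500001000000000000000000013000010000000000000000000110000100000000000000000001700000000000000000000000005000000000000000000000000030000000000000000000000000100000]

end Cfsg.Agent.Helper2.RuU
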