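import Cfsg.Agent.Helper5.LTCG

/-! generated labelled Todd-Coxeter certificate data (tb, two-level packed): RuU -/

set_option autoImplicit false
set_option Elab.async false
set_option maxRecDepth 1000000

namespace Cfsg.Agent.Helper2.RuU

def tb_g0 : List ℕ := [0x700000000000e00000100000d00000100000c00000100000b00000100000a00000100000900000100000800000100000f000001000006000000000005000000000004000000000003000000000002000000000001000000000000]

end Cfsg.Agent.Helper2.RuU
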