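import Cfsg.Agent.Helper4.LTCX
import Cfsg.Agent.Helper2.RuUFa0
import Cfsg.Agent.Helper2.RuUTd0

/-! generated labelled Todd-Coxeter certificate data: RuU (lk2 layout) -/

set_option autoImplicit false
set_option Elab.async false
set_option maxRecDepth 1000000

namespace Cfsg.Agent.Helper2.RuU
open Cfsg.Agent.Helper5.LTC Cfsg.Agent.Helper4.LTCX

def words2 : List (List (List ℕ)) := [[[0, 1], [1, 0], [2, 3], [3, 2], [4, 5], [5, 4], [6, 7], [7, 6], [], [0, 0, 0, 0, 0, 0, 0, 0, 0, 0, 0, 0, 0], [2, 2, 2, 2, 2, 2, 2, 2, 2, 2, 2, 2, 2], [4, 4, 4, 4, 4, 4, 4, 4, 4, 4, 4, 4, 4], [6, 6, 6, 6], [6, 0, 7, 1, 5, 0, 5, 0, 3, 4, 3, 4], [6, 2, 7, 3, 5, 0, 5, 0, 3, 4, 3, 4], [6, 4, 7, 5, 1, 3, 0, 5, 0, 0, 5, 5, 0], [6, 6, 1, 1, 1, 5, 2, 5, 2, 0, 2, 0], [0], [2], [4]]]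

def deltas2 : List (List ℕ) := [[0, 0, 0, 0, 0, 0, 0, 0, 0, 0, 0, 0, 0, 0, 0, 0, 0, 0, 0, 0]]

def origs : List ℕ := [0, 0, 0, 0, 0, 0, 0, 0, 0, 0, 0, 0, 0, 13, 14, 15, 16, 0, 0, 0]

def par2 : List (List ℕ) := [[0x0]]

def gen2 : List (List ℕ) := [[0x60]]

def fa2 : List (List ℕ) := [fa_g0]

def lv2 : List (List ℕ) := [[0x1000000]]

def tb2 : List (List ℕ) := [tb_g0]

def cert : Cert where
  k := 8
  ι := Cfsg.Agent.Helper5.StemP.linv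
  E := 1
  W := fun wi => (words2.getD (Nat.div wi 32) []).getD (Nat.mod wi 32) []
  nrel := 17
  nw := 20
  δ := fun wi => L8.dec ((deltas2.getD (Nat.div wi 32) []).getD (Nat.mod wi 32) 0)
  par := fun v => lk2 24 par2 v
  gen := fun v => lk2 4 gen2 v
  fa := fun j => lk2 104 fa2 j
  nf := 8

def tab : Tab where
  N := 2
  LV := fun n => lk2 24 lv2 n
  TB := fun n x => lk2 48 tb2 (Nat.add (Nat.mul 8 n) x)

def js : List ℕ := []

def cs0 : List ℕ := []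

def as_ : List ℕ := []

def css : List (List ℕ) := []

end Cfsg.Agent.Helper2.RuU
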