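import Mathlib
import Cfsg.Agent.Helper5.LTCG

/-!
# Labelled Todd–Coxeter certificates: checking a list of facts by parts
-/

set_option autoImplicit false

namespace Cfsg.Agent.Helper2.Tw

open Cfsg.Agent.Helper5.LTC

/-- a list of consecutive facts may be checked in two parts. -/
theorem checkList_app (C : Cert) (lo n : ℕ) (a b : List ℕ) (hn : a.length = n)
    (ha : checkList C lo a = true) (hb : checkList C (lo + n) b = true) :
    checkList C lo (a ++ b) = true := by
  induction a generalizing lo n with
  | nil =>
    rw [List.length_nil] at hn
    rw [List.nil_append]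
    rw [← hn, Nat.add_zero] at hb
    exact hb
  | cons r rs ih =>
    rw [List.length_cons] at hn
    rw [List.cons_append]
    unfold checkList at ha ⊢
    rw [Bool.and_eq_true] at ha ⊢
    refine ⟨ha.1, ih (Nat.succ lo) rs.length rfl ha.2 ?_⟩
    have e : Nat.succ lo + rs.length = lo + n := by omega
    rw [e]
    exact hb

/-- letters of the words of a two-level list of words are bounded if all of them are. -/
theorem getD2_lt {L : List (List (List ℕ))} {b : ℕ}
    (h : ∀ g ∈ L, ∀ w ∈ g, ∀ c ∈ w, c < b) (i j : ℕ) :
    ∀ c ∈ (L.getD i []).getD j [], c < b := by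
  intro c hc
  by_cases hi : i < L.length
  · rw [List.getD_eq_getElem _ _ hi] at hc
    by_cases hj : j < (L[i]).length
    · rw [List.getD_eq_getElem _ _ hj] at hc
      exact h _ (List.getElem_mem hi) _ (List.getElem_mem hj) c hc
    · rw [List.getD_eq_default _ _ (by omega)] at hc
      simp at hc
  · have e : L.getD i [] = [] := List.getD_eq_default _ _ (by omega)
    rw [e] at hc
    simp at hc

end Cfsg.Agent.Helper2.Tw
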