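import Cfsg.Agent.Helper2.RuUDat
import Cfsg.Agent.Helper2.TwC

/-! generated labelled Todd-Coxeter certificate: RuU -/

set_option autoImplicit false
set_option Elab.async false
set_option maxRecDepth 1000000

namespace Cfsg.Agent.Helper2.RuU
open Cfsg.Agent.Helper5.LTC Cfsg.Agent.Helper2.Tw

def ju_0_0 : List ℕ := [0x47, 0x4b, 0x4f, 0x0, 0x180000000000100000040000100000040000080000140000080000140000180280040000001037, 0x18000008000010000004000010000004000008000014000008000014000018028004000000103b, 0x1800001000000000000800000400001000000400000400001000001000000400001802c004000000103f, 0x1000000c00001000000c00000400000c0000040000180280040000001043]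

theorem len_0_0 : ju_0_0.length = 8 := by decide +kernel

theorem chk_0_0 : checkList cert 0 ju_0_0 = true := by decide +kernel

def ju_0 : List ℕ := ju_0_0

theorem len_0 : ju_0.length = 8 := by decide +kernel

theorem chk_0 : checkList cert 0 ju_0 = true :=
  chk_0_0

end Cfsg.Agent.Helper2.RuU
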