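import Mathlib

/-!
Arithmetic for S0689 (insoluble sharply 2-transitive groups), step 5 of `notes/lead_S0689_S4291_plan.md`:
`Q^m - 1 = 60 * a * ε`, `a ∣ Q - 1`, `2 ∣ a`, `ε ∈ {1, 2}`, `Q` prime to 30, `m ≥ 2`.
-/

set_option autoImplicit false

namespace Cfsg.Agent.Helper2.S0689Arith

/-- the hypotheses, as a boolean -/
def hyp (Q m a ε : ℕ) : Bool :=
  decide (1 < Q) && !decide (2 ∣ Q) && !decide (3 ∣ Q) && !decide (5 ∣ Q) && decide (2 ≤ m) &&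
    decide (2 ∣ a) && decide (a ∣ Q - 1) && (decide (ε = 1) || decide (ε = 2)) &&
    decide (Q ^ m - 1 = 60 * a * ε) && !decide (Q = 119)

/-- the conclusion, as a boolean -/
def concl (Q m a ε : ℕ) : Bool :=
  decide (m = 2) && decide (ε = 1) && ((decide (Q = 11) && decide (a = 2)) ||
    (decide (Q = 19) && decide (a = 6)) || (decide (Q = 29) && decide (a = 14)) ||
    (decide (Q = 59) && decide (a = 58)))

theorem arith_bool : ∀ Q < 120, ∀ m < 5, ∀ a < 120, ∀ ε < 3,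
    hyp Q m a ε = true → concl Q m a ε = true := by
  decide +kernel

theorem arith_bounded : ∀ Q < 120, ∀ m < 5, ∀ a < 120, ∀ ε < 3, 1 < Q → ¬ 2 ∣ Q → ¬ 3 ∣ Q →
    ¬ 5 ∣ Q → 2 ≤ m → 2 ∣ a → a ∣ Q - 1 → (ε = 1 ∨ ε = 2) → Q ^ m - 1 = 60 * a * ε → Q ≠ 119 →
    m = 2 ∧ ε = 1 ∧ ((Q = 11 ∧ a = 2) ∨ (Q = 19 ∧ a = 6) ∨ (Q = 29 ∧ a = 14) ∨
      (Q = 59 ∧ a = 58)) := by
  intro Q hQ m hm a ha ε hε h1 h2 h3 h5 hm2 ha2 haQ hε12 heq h119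
  have hh : hyp Q m a ε = true := by
    simp only [hyp, Bool.and_eq_true, Bool.or_eq_true, Bool.not_eq_true', decide_eq_true_eq,
      decide_eq_false_iff_not]
    exact ⟨⟨⟨⟨⟨⟨⟨⟨⟨h1, h2⟩, h3⟩, h5⟩, hm2⟩, ha2⟩, haQ⟩, hε12⟩, heq⟩, h119⟩
  have hc := arith_bool Q hQ m hm a ha ε hε hh
  simp only [concl, Bool.and_eq_true, Bool.or_eq_true, decide_eq_true_eq] at hc
  obtain ⟨⟨hm2', hε1⟩, hc⟩ := hc
  refine ⟨hm2', hε1, ?_⟩
  rcases hc with ((hc | hc) | hc) | hc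
  · exact Or.inl hc
  · exact Or.inr (Or.inl hc)
  · exact Or.inr (Or.inr (Or.inl hc))
  · exact Or.inr (Or.inr (Or.inr hc))

/-- the arithmetic of S0689: `Q^m - 1 = 60 a ε` with `a ∣ Q - 1` even, `ε ∈ {1,2}`, `(Q, 30) = 1`,
`Q ≠ 119`, `m ≥ 2` forces `m = 2`, `ε = 1` and `(Q, a) ∈ {(11,2), (19,6), (29,14), (59,58)}`. -/
theorem arith {Q m a ε : ℕ} (hQ1 : 1 < Q) (hQ2 : ¬ 2 ∣ Q) (hQ3 : ¬ 3 ∣ Q) (hQ5 : ¬ 5 ∣ Q)
    (hQ119 : Q ≠ 119) (hm : 2 ≤ m) (ha2 : 2 ∣ a) (haQ : a ∣ Q - 1) (hε : ε = 1 ∨ ε = 2)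
    (h : Q ^ m - 1 = 60 * a * ε) :
    m = 2 ∧ ε = 1 ∧ ((Q = 11 ∧ a = 2) ∨ (Q = 19 ∧ a = 6) ∨ (Q = 29 ∧ a = 14) ∨
      (Q = 59 ∧ a = 58)) := by
  have hQ0 : 0 < Q - 1 := by omega
  have haQ' : a ≤ Q - 1 := Nat.le_of_dvd hQ0 haQ
  have hε2 : ε ≤ 2 := by rcases hε with h | h <;> omega
  -- `Q^m - 1 ≤ 120 (Q - 1)`
  have hle : Q ^ m - 1 ≤ 120 * (Q - 1) := by
    rw [h]
    calc 60 * a * ε ≤ 60 * (Q - 1) * 2 := Nat.mul_le_mul (Nat.mul_le_mul_left 60 haQ') hε2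
      _ = 120 * (Q - 1) := by ring
  have hpow : Q ^ 2 ≤ Q ^ m := Nat.pow_le_pow_right (by omega) hm
  have hQlt : Q < 120 := by
    by_contra hge
    push Not at hge
    have h1 : Q ^ 2 = (Q - 1) * (Q + 1) + 1 := by
      obtain ⟨k, rfl⟩ : ∃ k, Q = k + 1 := ⟨Q - 1, by omega⟩
      simp only [Nat.add_sub_cancel]
      ring
    have h2 : 120 * (Q - 1) < (Q - 1) * (Q + 1) := by
      rw [mul_comm 120]
      exact Nat.mul_lt_mul_of_pos_left (by omega) hQ0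
    omega
  have hQ7 : 7 ≤ Q := by
    by_contra hlt
    push Not at hlt
    interval_cases Q <;> omega
  have hmlt : m < 5 := by
    by_contra hge
    push Not at hge
    have h1 : Q ^ 5 ≤ Q ^ m := Nat.pow_le_pow_right (by omega) hge
    have h2 : 7 ^ 4 * Q ≤ Q ^ 4 * Q := Nat.mul_le_mul_right Q (Nat.pow_le_pow_left hQ7 4)
    have h3 : Q ^ 5 = Q ^ 4 * Q := by ring
    have h4 : 120 * (Q - 1) < 7 ^ 4 * Q := by omega
    omega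
  have halt : a < 120 := by omega
  have hεlt : ε < 3 := by omega
  exact arith_bounded Q hQlt m hmlt a halt ε hεlt hQ1 hQ2 hQ3 hQ5 hm ha2 haQ hε h hQ119

/-- a prime power is not `119 = 7 * 17` -/
theorem primePow_ne_119 {p k : ℕ} (hp : p.Prime) : p ^ k ≠ 119 := by
  intro h
  have h7 : 7 ∣ p ^ k := by rw [h]; norm_num
  have h17 : 17 ∣ p ^ k := by rw [h]; norm_num
  have e7 := (Nat.prime_dvd_prime_iff_eq (by norm_num) hp).mp ((Nat.Prime.dvd_of_dvd_pow (by norm_num) h7))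
  have e17 := (Nat.prime_dvd_prime_iff_eq (by norm_num) hp).mp ((Nat.Prime.dvd_of_dvd_pow (by norm_num) h17))
  omega

end Cfsg.Agent.Helper2.S0689Arith
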