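import Mathlib
import Cfsg.Agent.Helper7.S4017Defs

set_option autoImplicit false
set_option linter.unusedVariables false

/-! S4017 (helper7's project), piece (P7) `caseB2_two` (helper2). -/

namespace Cfsg.Agent.Helper7.S4017

universe u
variable {G : Type u} [Group G] [Finite G] {p a : ℕ}

theorem h2_p_ne_two (h : MinCE G p a) : p ≠ 2 := by
  intro hp2
  have h1 := h.hpa
  obtain ⟨c, hc⟩ := pow_dvd_pow 2 h.ha
  rw [hc, hp2] at h1
  omega

theorem h2_card_Q (h : MinCE G p a) (Q : Sylow 2 G) : Nat.card Q = 2 ^ a := by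
  rw [Sylow.card_eq_multiplicity, h.h2]

theorem h2_four_le (h : MinCE G p a) : 4 ≤ 2 ^ a :=
  calc 4 = 2 ^ 2 := rfl
    _ ≤ 2 ^ a := Nat.pow_le_pow_right (by norm_num) h.ha

theorem h2_card_dvd (h : MinCE G p a) [Fact p.Prime] (Q : Sylow 2 G) (P : Sylow p G)
    (H : Subgroup G) (hH : H ≠ ⊤) (h2H : 2 ∣ Nat.card H) :
    Nat.card H ∣ Nat.card Q * Nat.card P := by
  have hn : Nat.card H ≠ 0 := Nat.card_pos.ne'
  have hg : Nat.card G ≠ 0 := Nat.card_pos.ne'
  have hQ0 : Nat.card Q ≠ 0 := Nat.card_pos.ne'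
  have hP0 : Nat.card P ≠ 0 := Nat.card_pos.ne'
  have hQP : Nat.card Q * Nat.card P ≠ 0 := mul_ne_zero hQ0 hP0
  have hdvd : Nat.card H ∣ Nat.card G := Subgroup.card_subgroup_dvd_card H
  have hle := (Nat.factorization_le_iff_dvd hn hg).mpr hdvd
  rw [← Nat.factorization_le_iff_dvd hn hQP]
  intro ℓ
  by_cases hℓ : ℓ.Prime
  · by_cases hd : ℓ ∣ Nat.card H
    · rcases h.hH1 H hH h2H ℓ hℓ hd with h2 | h2
      · subst h2
        calc (Nat.card H).factorization 2 ≤ (Nat.card G).factorization 2 := hle 2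
          _ = (Nat.card Q).factorization 2 := by
              rw [Sylow.card_eq_multiplicity, Nat.Prime.factorization_pow Nat.prime_two]
              simp
          _ ≤ _ := (Nat.factorization_le_iff_dvd hQ0 hQP).mpr (Dvd.intro _ rfl) 2
      · subst h2
        calc (Nat.card H).factorization ℓ ≤ (Nat.card G).factorization ℓ := hle ℓ
          _ = (Nat.card P).factorization ℓ := by
              rw [Sylow.card_eq_multiplicity, Nat.Prime.factorization_pow hℓ]
              simp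
          _ ≤ _ := (Nat.factorization_le_iff_dvd hP0 hQP).mpr (Dvd.intro_left _ rfl) ℓ
    · rw [Nat.factorization_eq_zero_of_not_dvd hd]; exact Nat.zero_le _
  · rw [Nat.factorization_eq_zero_of_not_prime _ hℓ]; exact Nat.zero_le _

theorem h2_squeeze (h : MinCE G p a) [Fact p.Prime] (Q : Sylow 2 G) (P : Sylow p G)
    (H : Subgroup G) (hH : H ≠ ⊤) (hP : (P : Subgroup G) ≤ H) (hQ : (Q : Subgroup G) ≤ H) :
    (P : Subgroup G) ⊔ (Q : Subgroup G) = H := by
  have h2H : 2 ∣ Nat.card H := by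
    have h1 : Nat.card Q ∣ Nat.card H := Subgroup.card_dvd_of_le hQ
    rw [h2_card_Q h Q] at h1
    exact dvd_trans (dvd_pow_self 2 (by have := h.ha; omega)) h1
  have h1 := h2_card_dvd h Q P H hH h2H
  have hcop : Nat.Coprime (Nat.card Q) (Nat.card P) := by
    rw [h2_card_Q h Q, Sylow.card_eq_multiplicity]
    exact Nat.Coprime.pow _ _ ((Nat.coprime_primes Nat.prime_two h.hp).mpr (h2_p_ne_two h).symm)
  have h2 : Nat.card Q * Nat.card P ∣
      Nat.card ((P : Subgroup G) ⊔ (Q : Subgroup G) : Subgroup G) :=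
    hcop.mul_dvd_of_dvd_of_dvd (Subgroup.card_dvd_of_le le_sup_right)
      (Subgroup.card_dvd_of_le le_sup_left)
  exact Subgroup.eq_of_le_of_card_ge (sup_le hP hQ)
    (Nat.le_of_dvd Nat.card_pos (dvd_trans h1 h2))

theorem h2_sylow_eq (h : MinCE G p a) (fa : FactsA G p a) [Fact p.Prime] (Q : Sylow 2 G)
    (P₁ P₂ : Sylow p G)
    (hQP : (Q : Subgroup G) ≤ Subgroup.normalizer ((P₁ : Subgroup G) : Set G))
    (W : Subgroup G) (hW : W ≠ ⊥) (hW1 : W ≤ P₁) (hW2 : W ≤ P₂)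
    (hQW : (Q : Subgroup G) ≤ Subgroup.normalizer (W : Set G)) : P₂ = P₁ := by
  have hne : (2 : ℕ) ≠ p := (h2_p_ne_two h).symm
  have hdisj : Disjoint (Q : Subgroup G) (P₁ : Subgroup G) :=
    IsPGroup.disjoint_of_ne 2 p hne _ _ Q.isPGroup' P₁.isPGroup'
  have hWtop : W ≠ ⊤ := by
    intro hWt
    have hP1 : (P₁ : Subgroup G) = ⊤ := top_le_iff.mp (hWt ▸ hW1)
    have h1 : (Q : Subgroup G) ≤ P₁ := by rw [hP1]; exact le_top
    have h2 : (Q : Subgroup G) = ⊥ := by
      have := hdisj.eq_bot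
      rwa [inf_eq_left.mpr h1] at this
    have h3 : Nat.card (Q : Subgroup G) = 1 := by rw [h2]; exact Subgroup.card_bot
    have h4 : Nat.card (Q : Subgroup G) = 2 ^ a := h2_card_Q h Q
    have := h2_four_le h
    omega
  have hN := fa.norm_ne_top W hW hWtop
  have hab1 : (P₁ : Subgroup G) ≤ Subgroup.normalizer (W : Set G) := by
    rw [Subgroup.le_normalizer_iff]
    intro x hx w hw
    have : x * w = w * x := h.hab P₁ x hx w (hW1 hw)
    rw [this, mul_inv_cancel_right]; exact hw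
  have hab2 : (P₂ : Subgroup G) ≤ Subgroup.normalizer (W : Set G) := by
    rw [Subgroup.le_normalizer_iff]
    intro x hx w hw
    have : x * w = w * x := h.hab P₂ x hx w (hW2 hw)
    rw [this, mul_inv_cancel_right]; exact hw
  have e1 := h2_squeeze h Q P₁ _ hN hab1 hQW
  have h3 : (P₂ : Subgroup G) ≤ Subgroup.normalizer ((P₁ : Subgroup G) : Set G) := by
    refine le_trans hab2 ?_
    rw [← e1]
    exact sup_le Subgroup.le_normalizer hQP
  have h4 : IsPGroup p ((P₂ : Subgroup G) ⊔ (P₁ : Subgroup G) : Subgroup G) :=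
    IsPGroup.to_sup_of_normal_right' P₂.isPGroup' P₁.isPGroup' h3
  have h5 : (P₂ : Subgroup G) ⊔ (P₁ : Subgroup G) = P₁ := P₁.is_maximal' h4 le_sup_right
  have h6 : (P₂ : Subgroup G) ≤ P₁ := h5 ▸ le_sup_left
  exact Sylow.ext (P₂.is_maximal' P₁.isPGroup' h6).symm

theorem h2_Q_comm (fa : FactsA G p a) (Q : Sylow 2 G) :
    ∀ x ∈ Q, ∀ y ∈ Q, x * y = y * x := by
  intro x hx y hy
  have h1 := fa.two_exp Q Q.isPGroup' x hx
  have h2 := fa.two_exp Q Q.isPGroup' y hy
  have h3 := fa.two_exp Q Q.isPGroup' (x * y) (mul_mem hx hy)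
  have hx' : x⁻¹ = x := inv_eq_of_mul_eq_one_right h1
  have hy' : y⁻¹ = y := inv_eq_of_mul_eq_one_right h2
  have hxy : (x * y)⁻¹ = x * y := inv_eq_of_mul_eq_one_right h3
  rw [mul_inv_rev, hx', hy'] at hxy
  exact hxy.symm

theorem h2_sq_eq_one (h : MinCE G p a) (P : Sylow p G) (x : G) (hx : x ∈ P)
    (hxx : x * x = 1) : x = 1 := by
  obtain ⟨k, hk⟩ := P.isPGroup' ⟨x, hx⟩
  have hk' : x ^ (p ^ k) = 1 := by simpa using congrArg Subtype.val hk
  have h1 : orderOf x ∣ p ^ k := orderOf_dvd_of_pow_eq_one hk'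
  have h2 : orderOf x ∣ 2 := orderOf_dvd_of_pow_eq_one (by rw [pow_two]; exact hxx)
  have hcop : Nat.Coprime 2 (p ^ k) :=
    Nat.Coprime.pow_right k ((Nat.coprime_primes Nat.prime_two h.hp).mpr (h2_p_ne_two h).symm)
  exact orderOf_eq_one_iff.mp (Nat.eq_one_of_dvd_coprimes hcop h2 h1)

omit [Finite G] in
theorem h2_exists_not_mem (Q : Subgroup G) (F : Finset G) (hF : F.card < Nat.card Q) :
    ∃ s ∈ Q, s ∉ F := by
  by_contra hcon
  push Not at hcon
  have hsub : (Q : Set G) ⊆ (F : Set G) := fun s hs => hcon s hs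
  have h1 := Set.ncard_le_ncard hsub (Finset.finite_toSet F)
  rw [Set.ncard_coe_finset] at h1
  have h2 : Nat.card Q = (Q : Set G).ncard := Nat.card_coe_set_eq _
  omega

theorem caseB2_two (h : MinCE G p a) (fa : FactsA G p a) (fb : FactsB G p a)
    (Q : Sylow 2 G) (y : G) (hyN : y ∈ Subgroup.normalizer ((Q : Subgroup G) : Set G))
    (hyp : IsPElt p y)
    (htr : ∀ s ∈ Q, s ≠ 1 → ∀ t ∈ Q, t ≠ 1 → ∃ j : ℕ, y ^ j * s * (y ^ j)⁻¹ = t)
    (t : G) (htQ : t ∈ Q) (ht1 : t ≠ 1) (hD : Dsub p t ≠ ⊥)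
    (P : Sylow p G) (hDP : Dsub p t ≤ (P : Subgroup G)) (hPM : (P : Subgroup G) ≤ Msub p t)
    (hCM : Cent t ≤ Msub p t) (hMcard : Nat.card (Msub p t) = 2 ^ a * Nat.card P)
    (hMtop : Msub p t ≠ ⊤)
    (hPn : ∀ g ∈ Msub p t, ∀ x ∈ (P : Subgroup G), g * x * g⁻¹ ∈ (P : Subgroup G)) :
    a = 2 ∧ (∀ x ∈ (P : Subgroup G), t * x * t⁻¹ = x) ∧
      (∀ s ∈ Q, s ≠ 1 → s ≠ t → ∀ x ∈ (P : Subgroup G), s * x * s⁻¹ = x⁻¹) := by
  classical
  have : Fact p.Prime := ⟨h.hp⟩
  have hQc := h2_Q_comm fa Q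
  have hne : (2 : ℕ) ≠ p := (h2_p_ne_two h).symm
  have hdisj : Disjoint (Q : Subgroup G) (P : Subgroup G) :=
    IsPGroup.disjoint_of_ne 2 p hne _ _ Q.isPGroup' P.isPGroup'
  -- `Q ≤ C(t)`
  have hQC : (Q : Subgroup G) ≤ Cent t := by
    intro r hr
    rw [Cent, Subgroup.mem_centralizer_iff]
    intro x hx
    rw [Set.mem_singleton_iff] at hx
    subst hx
    exact hQc _ htQ r hr
  have hQP : (Q : Subgroup G) ≤ Subgroup.normalizer ((P : Subgroup G) : Set G) := by
    rw [Subgroup.le_normalizer_iff]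
    intro r hr x hx
    exact hPn r (hCM (hQC hr)) x hx
  have hQP' : ∀ r ∈ Q, ∀ x ∈ (P : Subgroup G), r * x * r⁻¹ ∈ (P : Subgroup G) :=
    Subgroup.le_normalizer_iff.mp hQP
  -- key: fixed-point-freeness
  have hfpf : ∀ s ∈ Q, s ≠ 1 → s ≠ t → ∀ x ∈ (P : Subgroup G), s * x * s⁻¹ = x → x = 1 := by
    intro s hsQ hs1 hst x hxP hsx
    by_contra hx1
    obtain ⟨j, hj⟩ := htr t htQ ht1 s hsQ hs1
    obtain ⟨z, hz⟩ : ∃ z : G, z = y ^ j := ⟨_, rfl⟩
    rw [← hz] at hj
    have hzN : z ∈ Subgroup.normalizer ((Q : Subgroup G) : Set G) := hz ▸ pow_mem hyN j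
    have hmemC : ∀ w : G, w ∈ Cent s ↔ s * w = w * s := by
      intro w
      rw [Cent, Subgroup.mem_centralizer_iff]
      constructor
      · intro hw; exact hw s rfl
      · intro hw u hu
        rw [Set.mem_singleton_iff] at hu
        subst hu; exact hw
    have hmemCt : ∀ w : G, w ∈ Cent t ↔ t * w = w * t := by
      intro w
      rw [Cent, Subgroup.mem_centralizer_iff]
      constructor
      · intro hw; exact hw t rfl
      · intro hw u hu
        rw [Set.mem_singleton_iff] at hu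
        subst hu; exact hw
    have hxW : x ∈ (P : Subgroup G) ⊓ Cent s := by
      refine ⟨hxP, (hmemC x).mpr ?_⟩
      calc s * x = (s * x * s⁻¹) * s := by group
        _ = x * s := by rw [hsx]
    have hW : (P : Subgroup G) ⊓ Cent s ≠ ⊥ := fun hb => hx1 (by
      rw [hb] at hxW; exact Subgroup.mem_bot.mp hxW)
    have hW2 : (P : Subgroup G) ⊓ Cent s ≤ ((z • P : Sylow p G) : Subgroup G) := by
      intro w hw
      rw [Sylow.coe_subgroup_smul, Subgroup.mem_pointwise_smul_iff_inv_smul_mem]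
      apply hDP
      apply Subgroup.subset_closure
      have e : (MulAut.conj z)⁻¹ • w = z⁻¹ * w * z := by
        rw [← map_inv, MulAut.smul_def, MulAut.conj_apply, inv_inv]
      rw [e]
      refine ⟨(hmemCt _).mpr ?_, ?_⟩
      · have hsw : s * w = w * s := (hmemC w).mp hw.2
        have ht' : t = z⁻¹ * s * z := by rw [← hj]; group
        rw [ht']
        calc z⁻¹ * s * z * (z⁻¹ * w * z) = z⁻¹ * (s * w) * z := by group
          _ = z⁻¹ * (w * s) * z := by rw [hsw]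
          _ = z⁻¹ * w * z * (z⁻¹ * s * z) := by group
      · obtain ⟨k, hk⟩ := P.isPGroup' ⟨w, hw.1⟩
        have hk' : w ^ (p ^ k) = 1 := by simpa using congrArg Subtype.val hk
        have h1 : orderOf w ∣ p ^ k := orderOf_dvd_of_pow_eq_one hk'
        obtain ⟨m, -, hm⟩ := (Nat.dvd_prime_pow h.hp).mp h1
        refine ⟨m, ?_⟩
        have e2 : z⁻¹ * w * z = MulAut.conj z⁻¹ w := by rw [MulAut.conj_apply, inv_inv]
        rw [e2, MulEquiv.orderOf_eq, hm]
    have hQW : (Q : Subgroup G) ≤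
        Subgroup.normalizer (((P : Subgroup G) ⊓ Cent s : Subgroup G) : Set G) := by
      rw [Subgroup.le_normalizer_iff]
      intro r hr w hw
      refine ⟨hQP' r hr w hw.1, (hmemC _).mpr ?_⟩
      have hsw : s * w = w * s := (hmemC w).mp hw.2
      have hsr : s * r = r * s := hQc s hsQ r hr
      have hsr' : s * r⁻¹ = r⁻¹ * s := hQc s hsQ r⁻¹ (inv_mem hr)
      calc s * (r * w * r⁻¹) = (s * r) * w * r⁻¹ := by group
        _ = r * (s * w) * r⁻¹ := by rw [hsr]; group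
        _ = r * w * (s * r⁻¹) := by rw [hsw]; group
        _ = r * w * r⁻¹ * s := by rw [hsr']; group
    have hPP : z • P = P :=
      h2_sylow_eq h fa Q P (z • P) hQP _ hW inf_le_left hW2 hQW
    have hzNP : z ∈ Subgroup.normalizer ((P : Subgroup G) : Set G) :=
      Sylow.smul_eq_iff_mem_normalizer.mp hPP
    -- `z ∈ P`
    have hzP : z ∈ (P : Subgroup G) := by
      have hzp : IsPGroup p (Subgroup.zpowers z) := by
        obtain ⟨k, hk⟩ := hyp
        have h1 : IsPGroup p (Subgroup.zpowers y) :=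
          IsPGroup.of_card (n := k) (by rw [Nat.card_zpowers, hk])
        refine h1.to_le (Subgroup.zpowers_le.mpr ?_)
        rw [hz]
        exact Subgroup.pow_mem _ (Subgroup.mem_zpowers y) j
      have h3 : Subgroup.zpowers z ≤ Subgroup.normalizer ((P : Subgroup G) : Set G) :=
        Subgroup.zpowers_le.mpr hzNP
      have h4 := IsPGroup.to_sup_of_normal_right' hzp P.isPGroup' h3
      have h5 := P.is_maximal' h4 le_sup_right
      have h6 : Subgroup.zpowers z ≤ (P : Subgroup G) := h5 ▸ le_sup_left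
      exact h6 (Subgroup.mem_zpowers z)
    -- the commutator `[z, t]` lies in `Q ⊓ P = ⊥`
    have hcQ : z * t * z⁻¹ * t⁻¹ ∈ (Q : Subgroup G) :=
      mul_mem ((Subgroup.mem_normalizer_iff.mp hzN t).mp htQ) (inv_mem htQ)
    have hcP : z * t * z⁻¹ * t⁻¹ ∈ (P : Subgroup G) := by
      have h1 : t * z⁻¹ * t⁻¹ ∈ (P : Subgroup G) := hQP' t htQ _ (inv_mem hzP)
      have h2 := mul_mem hzP h1
      have e : z * t * z⁻¹ * t⁻¹ = z * (t * z⁻¹ * t⁻¹) := by group
      rw [e]; exact h2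
    have hc1 : z * t * z⁻¹ * t⁻¹ = 1 := by
      have := hdisj.eq_bot
      have hmem : z * t * z⁻¹ * t⁻¹ ∈ (Q : Subgroup G) ⊓ (P : Subgroup G) := ⟨hcQ, hcP⟩
      rw [this] at hmem
      exact Subgroup.mem_bot.mp hmem
    apply hst
    rw [← hj]
    exact mul_inv_eq_one.mp hc1
  -- inversion
  have hinv : ∀ s ∈ Q, s ≠ 1 → s ≠ t → ∀ x ∈ (P : Subgroup G), s * x * s⁻¹ = x⁻¹ := by
    intro s hsQ hs1 hst x hxP
    have hss : s * s = 1 := fa.two_exp Q Q.isPGroup' s hsQ
    have hx' : s * x * s⁻¹ ∈ (P : Subgroup G) := hQP' s hsQ x hxP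
    have hcomm : x * (s * x * s⁻¹) = (s * x * s⁻¹) * x := h.hab P x hxP _ hx'
    have hfix : s * (x * (s * x * s⁻¹)) * s⁻¹ = x * (s * x * s⁻¹) := by
      have e1 : s * (x * (s * x * s⁻¹)) * s⁻¹ = (s * x * s⁻¹) * ((s * s) * x * (s * s)⁻¹) := by
        group
      rw [e1, hss, one_mul, inv_one, mul_one]
      exact hcomm.symm
    have h1 := hfpf s hsQ hs1 hst _ (mul_mem hxP hx') hfix
    exact eq_inv_of_mul_eq_one_right h1
  have hcardQ : Nat.card (Q : Subgroup G) = 2 ^ a := h2_card_Q h Q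
  have h4 := h2_four_le h
  have htt : t * t = 1 := fa.two_exp Q Q.isPGroup' t htQ
  obtain ⟨s, hsQ, hsF⟩ := h2_exists_not_mem (Q : Subgroup G) {1, t} (by
    have := Finset.card_le_two (a := (1 : G)) (b := t)
    omega)
  have hs1 : s ≠ 1 := fun e => hsF (by rw [e]; simp)
  have hst : s ≠ t := fun e => hsF (by rw [e]; simp)
  have hss : s * s = 1 := fa.two_exp Q Q.isPGroup' s hsQ
  have hsi : s⁻¹ = s := inv_eq_of_mul_eq_one_right hss
  have hts1 : t * s ≠ 1 := by
    intro e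
    apply hst
    have : t⁻¹ = s := inv_eq_of_mul_eq_one_right e
    rw [← this]
    exact (inv_eq_of_mul_eq_one_right htt)
  have htst : t * s ≠ t := by
    intro e
    exact hs1 (mul_left_cancel (a := t) (by rw [e, mul_one]))
  have htc : ∀ x ∈ (P : Subgroup G), t * x * t⁻¹ = x := by
    intro x hx
    have h1 := hinv s hsQ hs1 hst x hx
    have h2 := hinv (t * s) (mul_mem htQ hsQ) hts1 htst x⁻¹ (inv_mem hx)
    rw [inv_inv] at h2
    calc t * x * t⁻¹ = (t * s) * (s * x * s⁻¹) * (t * s)⁻¹ := by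
          have e : (t * s) * (s * x * s⁻¹) * (t * s)⁻¹ = t * ((s * s) * x * (s * s)⁻¹) * t⁻¹ := by
            group
          rw [e, hss, one_mul, inv_one, mul_one]
      _ = x := by rw [h1, h2]
  refine ⟨?_, htc, hinv⟩
  by_contra ha2
  have ha3 : 3 ≤ a := by have := h.ha; omega
  have h8 : 8 ≤ 2 ^ a :=
    calc 8 = 2 ^ 3 := rfl
      _ ≤ 2 ^ a := Nat.pow_le_pow_right (by norm_num) ha3
  obtain ⟨s₂, hs₂Q, hs₂F⟩ := h2_exists_not_mem (Q : Subgroup G) {1, t, s, s * t} (by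
    have := Finset.card_le_four (a := (1 : G)) (b := t) (c := s) (d := s * t)
    omega)
  simp only [Finset.mem_insert, Finset.mem_singleton, not_or] at hs₂F
  obtain ⟨hs₂1, hs₂t, hs₂s, hs₂st⟩ := hs₂F
  have hne1 : s * s₂ ≠ 1 := by
    intro e
    apply hs₂s
    have : s⁻¹ = s₂ := inv_eq_of_mul_eq_one_right e
    rw [← this, hsi]
  have hnet : s * s₂ ≠ t := by
    intro e
    apply hs₂st
    calc s₂ = (s * s) * s₂ := by rw [hss, one_mul]
      _ = s * (s * s₂) := by group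
      _ = s * t := by rw [e]
  -- a nontrivial element of `P`
  obtain ⟨x, hxD, hx1⟩ : ∃ x ∈ Dsub p t, x ≠ 1 := by
    by_contra hcon
    push Not at hcon
    exact hD ((Subgroup.eq_bot_iff_forall _).mpr hcon)
  have hxP : x ∈ (P : Subgroup G) := hDP hxD
  have h1 := hinv (s * s₂) (mul_mem hsQ hs₂Q) hne1 hnet x hxP
  have h2 := hinv s₂ hs₂Q hs₂1 hs₂t x hxP
  have h3 := hinv s hsQ hs1 hst x⁻¹ (inv_mem hxP)
  rw [inv_inv] at h3
  have h5 : x⁻¹ = x := by
    rw [← h1]
    calc s * s₂ * x * (s * s₂)⁻¹ = s * (s₂ * x * s₂⁻¹) * s⁻¹ := by group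
      _ = x := by rw [h2, h3]
  apply hx1
  apply h2_sq_eq_one h P x hxP
  calc x * x = x⁻¹ * x := by rw [h5]
    _ = 1 := inv_mul_cancel x

end Cfsg.Agent.Helper7.S4017
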