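import Mathlib
import Cfsg.Agent.Helper2.S504D

set_option autoImplicit false

/-! General counting lemmas for Sylow subgroups of prime order: elements whose order is divisible
by `p`. -/

namespace Cfsg.Agent.Helper2.S4080

open Subgroup

section general

variable {G : Type*} [Group G] [Finite G] {p : ℕ} [hp : Fact p.Prime]

/-- a `p`-element centralizing a Sylow `p`-subgroup lies in it -/
theorem mem_sylow_of_mem_centralizer (P : Sylow p G) (x : G)
    (hx : x ∈ centralizer ((P : Subgroup G) : Set G)) (hpg : IsPGroup p (zpowers x)) :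
    x ∈ (P : Subgroup G) := by
  have hN : zpowers x ≤ normalizer ((P : Subgroup G) : Set G) := by
    rw [zpowers_le]
    exact centralizer_le_normalizer _ hx
  have hK : IsPGroup p (zpowers x ⊔ (P : Subgroup G) : Subgroup G) :=
    IsPGroup.to_sup_of_normal_right' hpg P.isPGroup' hN
  have h1 := P.is_maximal' hK le_sup_right
  have h2 : x ∈ zpowers x ⊔ (P : Subgroup G) := (le_sup_left : zpowers x ≤ _) (mem_zpowers x)
  rwa [h1] at h2

/-- an element of order `p` generates a `p`-group -/
theorem isPGroup_zpowers_of_orderOf (x : G) (hx : orderOf x = p) : IsPGroup p (zpowers x) := by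
  apply IsPGroup.of_card (n := 1)
  rw [Nat.card_zpowers, hx, pow_one]

/-- two Sylow subgroups of prime order sharing a non-identity element coincide -/
theorem sylow_eq_of_mem (P Q : Sylow p G) (hP : Nat.card P = p) (hQ : Nat.card Q = p) (x : G)
    (hxP : x ∈ (P : Subgroup G)) (hxQ : x ∈ (Q : Subgroup G)) (hx1 : x ≠ 1) : P = Q := by
  by_contra hne
  have hbot := Cfsg.Agent.Helper2.S504.inf_eq_bot_of_prime_card hp.out (P : Subgroup G)
    (Q : Subgroup G) hP hQ (fun h0 => hne (Sylow.ext h0))
  have hm : x ∈ (P : Subgroup G) ⊓ (Q : Subgroup G) := Subgroup.mem_inf.mpr ⟨hxP, hxQ⟩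
  rw [hbot, Subgroup.mem_bot] at hm
  exact hx1 hm

/-- an element whose order is divisible by `p` centralizes the Sylow subgroup (of order `p`)
generated by a suitable power -/
theorem exists_sylow_of_dvd_orderOf (hk : ∀ P : Sylow p G, Nat.card P = p) (g : G)
    (hg : p ∣ orderOf g) :
    ∃ P : Sylow p G, g ∈ centralizer ((P : Subgroup G) : Set G) ∧
      g ^ (orderOf g / p) ∈ (P : Subgroup G) ∧ orderOf (g ^ (orderOf g / p)) = p := by
  have hpos : orderOf g ≠ 0 := (orderOf_pos g).ne'
  have hx := orderOf_pow_orderOf_div hpos hg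
  obtain ⟨P, hP⟩ := (isPGroup_zpowers_of_orderOf _ hx).exists_le_sylow
  have hxP : g ^ (orderOf g / p) ∈ (P : Subgroup G) := hP (mem_zpowers _)
  have hx1 : g ^ (orderOf g / p) ≠ 1 := by
    intro h0
    rw [h0, orderOf_one] at hx
    exact hp.out.one_lt.ne hx
  have hle : (P : Subgroup G) ≤ zpowers (g ^ (orderOf g / p)) :=
    SignArg.le_zpowers_of_prime_card (P : Subgroup G) hp.out (hk P) _ hxP hx1
  refine ⟨P, ?_, hxP, hx⟩
  rw [mem_centralizer_iff]
  intro y hy
  obtain ⟨k, rfl⟩ := mem_zpowers_iff.mp (hle hy)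
  exact (((Commute.refl g).pow_right _).zpow_right k).eq.symm

/-- two `p'`-elements of `C(P)` in the same coset of `P` are equal -/
theorem eq_one_of_not_dvd (P : Sylow p G) (hP : Nat.card P = p) (g z : G)
    (hg : g ∈ centralizer ((P : Subgroup G) : Set G)) (hz : z ∈ (P : Subgroup G))
    (h1 : ¬ p ∣ orderOf g) (h2 : ¬ p ∣ orderOf (g * z)) : z = 1 := by
  have hcomm : Commute g z := ((mem_centralizer_iff.mp hg) z hz).symm
  have hpow : z ^ (orderOf g * orderOf (g * z)) = 1 := by
    have e1 : (g * z) ^ (orderOf g * orderOf (g * z)) = 1 := by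
      rw [mul_comm, pow_mul, pow_orderOf_eq_one, one_pow]
    rw [hcomm.mul_pow, pow_mul, pow_orderOf_eq_one, one_pow, one_mul] at e1
    exact e1
  have hd : orderOf z ∣ orderOf g * orderOf (g * z) := orderOf_dvd_of_pow_eq_one hpow
  have hzp : orderOf z ∣ p := by
    have h3 : (⟨z, hz⟩ : (P : Subgroup G)) ^ Nat.card (P : Subgroup G) = 1 := pow_card_eq_one'
    rw [hP] at h3
    have h4 := congrArg Subtype.val h3
    exact orderOf_dvd_of_pow_eq_one (by simpa using h4)
  rcases (Nat.dvd_prime hp.out).mp hzp with h0 | h0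
  · exact orderOf_eq_one_iff.mp h0
  · exfalso
    rw [h0] at hd
    rcases (Nat.Prime.dvd_mul hp.out).mp hd with h5 | h5
    · exact h1 h5
    · exact h2 h5

/-- the number of `p'`-elements of `C(P)` is at most `|C(P)| / p` -/
theorem mul_card_not_dvd_le (P : Sylow p G) (hP : Nat.card P = p) :
    p * Nat.card {g : G // g ∈ centralizer ((P : Subgroup G) : Set G) ∧ ¬ p ∣ orderOf g} ≤
      Nat.card (centralizer ((P : Subgroup G) : Set G)) := by
  have hPC : (P : Subgroup G) ≤ centralizer ((P : Subgroup G) : Set G) := by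
    have hfp : Fact (Nat.card (P : Subgroup G)).Prime := by rw [hP]; exact hp
    haveI : IsCyclic (P : Subgroup G) := isCyclic_of_prime_card rfl
    exact Subgroup.le_centralizer (P : Subgroup G)
  let ι : {g : G // g ∈ centralizer ((P : Subgroup G) : Set G) ∧ ¬ p ∣ orderOf g} ×
      (P : Subgroup G) → centralizer ((P : Subgroup G) : Set G) :=
    fun a => ⟨a.1.1 * (a.2 : G), mul_mem a.1.2.1 (hPC a.2.2)⟩
  have hinj : Function.Injective ι := by
    rintro ⟨⟨g, hg, hgp⟩, ⟨x, hx⟩⟩ ⟨⟨g', hg', hgp'⟩, ⟨x', hx'⟩⟩ hxy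
    have hval : g * x = g' * x' := congrArg Subtype.val hxy
    have e1 : g' = g * (x * x'⁻¹) := by
      rw [← mul_assoc, hval, mul_assoc, mul_inv_cancel, mul_one]
    have hz : x * x'⁻¹ = 1 :=
      eq_one_of_not_dvd P hP g (x * x'⁻¹) hg (mul_mem hx (inv_mem hx')) hgp (e1 ▸ hgp')
    have hxx : x = x' := by
      rw [mul_inv_eq_one] at hz
      exact hz
    subst hxx
    have hgg : g = g' := by
      rw [e1, mul_inv_cancel, mul_one]
    subst hgg
    rfl
  have h1 := Nat.card_le_card_of_injective ι hinj
  rw [Nat.card_prod, hP, mul_comm] at h1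
  exact h1

/-- the elements of `C(P)` split into those of order divisible by `p` and the others -/
theorem card_dvd_add_card_not_dvd (H : Subgroup G) :
    Nat.card {g : G // g ∈ H ∧ p ∣ orderOf g} + Nat.card {g : G // g ∈ H ∧ ¬ p ∣ orderOf g} =
      Nat.card H := by
  classical
  have : Fintype G := Fintype.ofFinite G
  rw [Nat.card_eq_fintype_card, Nat.card_eq_fintype_card, Fintype.card_subtype,
    Fintype.card_subtype, ← Finset.card_union_of_disjoint]
  · rw [Nat.card_eq_fintype_card, ← Fintype.card_coe]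
    apply Fintype.card_congr
    refine ⟨fun a => ⟨a.1, ?_⟩, fun a => ⟨a.1, ?_⟩, fun a => rfl, fun a => rfl⟩
    · have := a.2
      rw [Finset.mem_union, Finset.mem_filter, Finset.mem_filter] at this
      rcases this with h | h
      · exact h.2.1
      · exact h.2.1
    · rw [Finset.mem_union, Finset.mem_filter, Finset.mem_filter]
      by_cases hd : p ∣ orderOf a.1
      · exact Or.inl ⟨Finset.mem_univ _, a.2, hd⟩
      · exact Or.inr ⟨Finset.mem_univ _, a.2, hd⟩
  · rw [Finset.disjoint_filter]
    intro x _ h1 h2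
    exact h2.2 h1.2

/-- the order of the normalizer is the same for all Sylow subgroups -/
theorem card_normalizer_eq (P Q : Sylow p G) :
    Nat.card (normalizer ((P : Subgroup G) : Set G)) =
      Nat.card (normalizer ((Q : Subgroup G) : Set G)) := by
  have h1 := SmallOrder.card_normalizer_mul_card_sylow P
  have h2 := SmallOrder.card_normalizer_mul_card_sylow Q
  have hpos : 0 < Nat.card (Sylow p G) := Nat.card_pos
  exact Nat.eq_of_mul_eq_mul_right hpos (h1.trans h2.symm)

/-- Lower bound for the number of elements whose order is divisible by `p`, when the Sylow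
`p`-subgroups have order `p` and `|N(P)| ≤ k |C(P)|`. -/
theorem mul_card_le [Fintype G] (hk : ∀ P : Sylow p G, Nat.card P = p) (k : ℕ)
    (hkN : ∀ P : Sylow p G, Nat.card (normalizer ((P : Subgroup G) : Set G)) ≤
      k * Nat.card (centralizer ((P : Subgroup G) : Set G)))
    (S : Finset G) (hS : ∀ g : G, p ∣ orderOf g → g ∈ S) :
    (p - 1) * Nat.card G ≤ p * k * S.card := by
  classical
  have : Fintype (Sylow p G) := Fintype.ofFinite _
  let ι : (Σ P : Sylow p G, {g : G // g ∈ centralizer ((P : Subgroup G) : Set G) ∧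
      p ∣ orderOf g}) → {g : G // g ∈ S} :=
    fun a => ⟨a.2.1, hS _ a.2.2.2⟩
  have hinj : Function.Injective ι := by
    rintro ⟨P, ⟨g, hg, hgp⟩⟩ ⟨Q, ⟨g', hg', hgp'⟩⟩ hxy
    have hval : g = g' := congrArg Subtype.val hxy
    subst hval
    have hpos : orderOf g ≠ 0 := (orderOf_pos g).ne'
    have hx := orderOf_pow_orderOf_div hpos hgp
    have hpg := isPGroup_zpowers_of_orderOf _ hx
    have hx1 : g ^ (orderOf g / p) ≠ 1 := by
      intro h0
      rw [h0, orderOf_one] at hx
      exact hp.out.one_lt.ne hx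
    have hPQ : P = Q := by
      apply sylow_eq_of_mem P Q (hk P) (hk Q) (g ^ (orderOf g / p)) _ _ hx1
      · exact mem_sylow_of_mem_centralizer P _ (pow_mem hg _) hpg
      · exact mem_sylow_of_mem_centralizer Q _ (pow_mem hg' _) hpg
    subst hPQ
    rfl
  have h1 := Nat.card_le_card_of_injective ι hinj
  have h3 : Nat.card {g : G // g ∈ S} = S.card := by
    rw [Nat.card_eq_fintype_card, Fintype.card_coe]
  rw [Nat.card_sigma, h3] at h1
  -- per Sylow subgroup
  have hper : ∀ P : Sylow p G, (p - 1) * Nat.card (normalizer ((P : Subgroup G) : Set G)) ≤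
      p * k * Nat.card {g : G // g ∈ centralizer ((P : Subgroup G) : Set G) ∧ p ∣ orderOf g} := by
    intro P
    have e1 := card_dvd_add_card_not_dvd (p := p) (centralizer ((P : Subgroup G) : Set G))
    have e2 := mul_card_not_dvd_le P (hk P)
    have e3 := hkN P
    have hp1 : 1 ≤ p := hp.out.one_lt.le
    obtain ⟨q, hq⟩ : ∃ q, p = q + 1 := ⟨p - 1, by omega⟩
    generalize Nat.card {g : G // g ∈ centralizer ((P : Subgroup G) : Set G) ∧ p ∣ orderOf g} = a
      at *
    generalize Nat.card {g : G // g ∈ centralizer ((P : Subgroup G) : Set G) ∧ ¬ p ∣ orderOf g} = b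
      at *
    generalize Nat.card (centralizer ((P : Subgroup G) : Set G)) = c at *
    generalize Nat.card (normalizer ((P : Subgroup G) : Set G)) = n at *
    subst hq
    simp only [Nat.add_sub_cancel]
    -- (q+1) b ≤ c = a + b, so q b ≤ a; n ≤ k c
    have h4 : q * b ≤ a := by nlinarith
    have h5 : q * c ≤ (q + 1) * a := by nlinarith
    calc q * n ≤ q * (k * c) := Nat.mul_le_mul_left _ e3
      _ = k * (q * c) := by ring
      _ ≤ k * ((q + 1) * a) := Nat.mul_le_mul_left _ h5
      _ = (q + 1) * k * a := by ring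
  let P₀ : Sylow p G := default
  have hsum : (p - 1) * Nat.card G ≤ ∑ P : Sylow p G,
      p * k * Nat.card {g : G // g ∈ centralizer ((P : Subgroup G) : Set G) ∧ p ∣ orderOf g} := by
    have e1 : ∑ _P : Sylow p G, (p - 1) * Nat.card (normalizer ((P₀ : Subgroup G) : Set G)) =
        (p - 1) * Nat.card G := by
      rw [Finset.sum_const, Finset.card_univ, smul_eq_mul, ← Nat.card_eq_fintype_card,
        ← SmallOrder.card_normalizer_mul_card_sylow P₀]
      ring
    rw [← e1]
    apply Finset.sum_le_sum
    intro P _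
    rw [card_normalizer_eq P₀ P]
    exact hper P
  rw [← Finset.mul_sum] at hsum
  exact le_trans hsum (Nat.mul_le_mul_left _ h1)

/-- Burnside: in a simple group, a Sylow subgroup of prime order is not central in its
normalizer. -/
theorem not_normalizer_le_centralizer [IsSimpleGroup G] (P : Sylow p G) (hP : Nat.card P = p)
    (hG : Nat.card G ≠ p) :
    ¬ normalizer ((P : Subgroup G) : Set G) ≤ centralizer ((P : Subgroup G) : Set G) := by
  intro hle
  have hcomp := MonoidHom.ker_transferSylow_isComplement' P hle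
  have hidx : (MonoidHom.transferSylow P hle).ker.index = p := by
    rw [hcomp.symm.index_eq_card, hP]
  haveI : (MonoidHom.transferSylow P hle).ker.Normal := MonoidHom.normal_ker _
  apply SmallOrder.false_of_normal_index (MonoidHom.transferSylow P hle).ker
  · rw [hidx]; exact hp.out.one_lt.ne'
  · rw [hidx]; exact fun h0 => hG h0.symm

/-- `|N(P)| = r |C(P)|` with `r ∣ p - 1`, `r ≠ 1`. -/
theorem exists_relIndex [IsSimpleGroup G] (P : Sylow p G) (hP : Nat.card P = p)
    (hG : Nat.card G ≠ p) :
    ∃ r : ℕ, r ∣ p - 1 ∧ r ≠ 1 ∧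
      Nat.card (centralizer ((P : Subgroup G) : Set G)) * r =
        Nat.card (normalizer ((P : Subgroup G) : Set G)) := by
  have hfp : Fact (Nat.card (P : Subgroup G)).Prime := by rw [hP]; exact hp
  have hPc : IsCyclic (P : Subgroup G) := isCyclic_of_prime_card rfl
  have h1 := SmallOrder.relIndex_centralizer_normalizer_dvd (P : Subgroup G) hPc
  rw [hP, Nat.totient_prime hp.out] at h1
  have hCN : centralizer ((P : Subgroup G) : Set G) ≤ normalizer ((P : Subgroup G) : Set G) :=
    centralizer_le_normalizer _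
  refine ⟨_, h1, ?_, Cfsg.Agent.Helper2.S504.card_mul_relIndex' hCN⟩
  intro h0
  exact not_normalizer_le_centralizer P hP hG (Subgroup.relIndex_eq_one.mp h0)

/-- `p` divides `|C(P)|`. -/
theorem dvd_card_centralizer (P : Sylow p G) (hP : Nat.card P = p) :
    p ∣ Nat.card (centralizer ((P : Subgroup G) : Set G)) := by
  have hfp : Fact (Nat.card (P : Subgroup G)).Prime := by rw [hP]; exact hp
  haveI : IsCyclic (P : Subgroup G) := isCyclic_of_prime_card rfl
  have hPC : (P : Subgroup G) ≤ centralizer ((P : Subgroup G) : Set G) :=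
    Subgroup.le_centralizer (P : Subgroup G)
  have := Subgroup.card_dvd_of_le hPC
  rwa [hP] at this

end general

end Cfsg.Agent.Helper2.S4080
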