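import Mathlib
import Cfsg.Agent.Helper2.S4080A

set_option autoImplicit false

/-! Simple groups of order 4080: Sylow arithmetic. -/

namespace Cfsg.Agent.Helper2.S4080

open Subgroup

theorem dvd_240_cases (n : ℕ) (h : n ∣ 240) :
    n ∈ ({1, 2, 3, 4, 5, 6, 8, 10, 12, 15, 16, 20, 24, 30, 40, 48, 60, 80, 120, 240} :
      Finset ℕ) := by
  have hmem : n ∈ Nat.divisors 240 := Nat.mem_divisors.mpr ⟨h, by norm_num⟩
  have hdiv : Nat.divisors 240 =
      {1, 2, 3, 4, 5, 6, 8, 10, 12, 15, 16, 20, 24, 30, 40, 48, 60, 80, 120, 240} := by decide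
  rwa [hdiv] at hmem

theorem dvd_240_of (n : ℕ) (h1 : n ∣ 4080) (h2 : ¬ 17 ∣ n) : n ∣ 240 := by
  have hc : Nat.Coprime n 17 :=
    ((Nat.Prime.coprime_iff_not_dvd (by norm_num)).mpr h2).symm
  exact hc.dvd_of_dvd_mul_right (by simpa using h1)

variable {G : Type*} [Group G] [Finite G] [IsSimpleGroup G]

theorem card_sylow17_eq (h : Nat.card G = 4080) [Fact (Nat.Prime 17)] (P : Sylow 17 G) :
    Nat.card P = 17 := by
  simpa using SylowExact.card_sylow_of_exact_pow (s := 17) (k := 1) (m := 240)
    (by rw [h]; norm_num) (by norm_num) P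

theorem card_sylow5_eq (h : Nat.card G = 4080) [Fact (Nat.Prime 5)] (P : Sylow 5 G) :
    Nat.card P = 5 := by
  simpa using SylowExact.card_sylow_of_exact_pow (s := 5) (k := 1) (m := 816)
    (by rw [h]; norm_num) (by norm_num) P

theorem card_sylow3_eq (h : Nat.card G = 4080) [Fact (Nat.Prime 3)] (P : Sylow 3 G) :
    Nat.card P = 3 := by
  simpa using SylowExact.card_sylow_of_exact_pow (s := 3) (k := 1) (m := 1360)
    (by rw [h]; norm_num) (by norm_num) P

theorem card_sylow2_eq (h : Nat.card G = 4080) [Fact (Nat.Prime 2)] (P : Sylow 2 G) :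
    Nat.card P = 16 := by
  simpa using SylowExact.card_sylow_of_exact_pow (s := 2) (k := 4) (m := 255)
    (by rw [h]; norm_num) (by norm_num) P

theorem card_sylow17 (h : Nat.card G = 4080) [Fact (Nat.Prime 17)] :
    Nat.card (Sylow 17 G) = 120 := by
  let P : Sylow 17 G := default
  have hP : Nat.card P = 17 := card_sylow17_eq h P
  have hidx : (P : Subgroup G).index = 240 := by
    have h1 := (P : Subgroup G).card_mul_index
    rw [hP, h] at h1
    omega
  have hdvd : Nat.card (Sylow 17 G) ∣ 240 := hidx ▸ Sylow.card_dvd_index P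
  have hmod : Nat.card (Sylow 17 G) % 17 = 1 := card_sylow_modEq_one 17 G
  have hne1 : Nat.card (Sylow 17 G) ≠ 1 := by
    apply SmallOrder.card_sylow_ne_one P
    · rw [hP]; norm_num
    · rw [hP, h]; norm_num
  have hc := dvd_240_cases _ hdvd
  simp only [Finset.mem_insert, Finset.mem_singleton] at hc
  omega

theorem card_normalizer_sylow17 (h : Nat.card G = 4080) [Fact (Nat.Prime 17)] (P : Sylow 17 G) :
    Nat.card (normalizer ((P : Subgroup G) : Set G)) = 34 := by
  have := SmallOrder.card_normalizer_mul_card_sylow P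
  rw [card_sylow17 h, h] at this
  omega

theorem card_centralizer_sylow17 (h : Nat.card G = 4080) [Fact (Nat.Prime 17)] (P : Sylow 17 G) :
    Nat.card (centralizer ((P : Subgroup G) : Set G)) = 17 := by
  have hP : Nat.card P = 17 := card_sylow17_eq h P
  have hN := card_normalizer_sylow17 h P
  obtain ⟨r, hr, hr1, hrN⟩ := exists_relIndex P hP (by rw [h]; norm_num)
  have h17 := dvd_card_centralizer P hP
  rw [hN] at hrN
  obtain ⟨d, hd⟩ := h17
  rw [hd] at hrN ⊢
  have hr2 : r ∣ 2 := by
    have : r ∣ 34 := Dvd.intro_left _ hrN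
    have h16 : r ∣ 16 := by simpa using hr
    have := Nat.dvd_gcd this h16
    simpa using this
  have hrle := Nat.le_of_dvd (by norm_num) hr2
  have hr0 : r ≠ 0 := by
    rintro rfl
    simp at hrN
  have : r = 2 := by omega
  subst this
  omega

/-- an element commuting with an element of order 17 has order dividing 17 -/
theorem orderOf_dvd_17_of_commute (h : Nat.card G = 4080) {x y : G} (hy : orderOf y = 17)
    (hx : Commute x y) : orderOf x ∣ 17 := by
  haveI : Fact (Nat.Prime 17) := ⟨by norm_num⟩
  have hz : Nat.card (zpowers y) = 17 := by rw [Nat.card_zpowers, hy]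
  have hpg : IsPGroup 17 (zpowers y) := IsPGroup.of_card (n := 1) (by rw [hz]; norm_num)
  obtain ⟨P, hP⟩ := hpg.exists_le_sylow
  have hPc : Nat.card P = 17 := card_sylow17_eq h P
  have hyP : y ∈ (P : Subgroup G) := hP (mem_zpowers y)
  have hy1 : y ≠ 1 := by
    intro h0
    rw [h0, orderOf_one] at hy
    omega
  have hle : (P : Subgroup G) ≤ zpowers y :=
    SignArg.le_zpowers_of_prime_card (P : Subgroup G) (by norm_num) hPc y hyP hy1
  have hxC : x ∈ centralizer ((P : Subgroup G) : Set G) := by
    rw [mem_centralizer_iff]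
    intro g hg
    obtain ⟨k, rfl⟩ := mem_zpowers_iff.mp (hle hg)
    exact ((hx.zpow_right k).eq).symm
  have := Subgroup.orderOf_dvd_natCard _ hxC
  rwa [card_centralizer_sylow17 h P] at this

/-- 17 does not divide the order of the normalizer of a Sylow 3- or 5-subgroup -/
theorem not_17_dvd_card_normalizer (h : Nat.card G = 4080) {p : ℕ} [hp : Fact p.Prime]
    (hp35 : p = 3 ∨ p = 5) (P : Sylow p G) (hP : Nat.card P = p) :
    ¬ 17 ∣ Nat.card (normalizer ((P : Subgroup G) : Set G)) := by
  intro h17
  haveI : Fact (Nat.Prime 17) := ⟨by norm_num⟩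
  obtain ⟨r, hr, hr1, hrN⟩ := exists_relIndex P hP (by rw [h]; rcases hp35 with rfl | rfl <;> norm_num)
  rw [← hrN] at h17
  have hr4 : r ≤ 4 := by
    have : 0 < p - 1 := by rcases hp35 with rfl | rfl <;> norm_num
    have := Nat.le_of_dvd this hr
    rcases hp35 with rfl | rfl <;> omega
  have hr0 : r ≠ 0 := by
    rintro rfl
    have hpos : 0 < Nat.card (normalizer ((P : Subgroup G) : Set G)) := Nat.card_pos
    rw [← hrN] at hpos
    simp at hpos
  have h17c : 17 ∣ Nat.card (centralizer ((P : Subgroup G) : Set G)) := by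
    rcases (Nat.Prime.dvd_mul (by norm_num)).mp h17 with h0 | h0
    · exact h0
    · exfalso
      have := Nat.le_of_dvd (by omega) h0
      omega
  obtain ⟨⟨y, hyC⟩, hy⟩ := exists_prime_orderOf_dvd_card' 17 h17c
  rw [Subgroup.orderOf_mk] at hy
  obtain ⟨x, hx1⟩ : ∃ x : (P : Subgroup G), x ≠ 1 := by
    haveI : Nontrivial (P : Subgroup G) := by
      rw [← Finite.one_lt_card_iff_nontrivial, hP]; exact hp.out.one_lt
    exact exists_ne 1
  have hcomm : Commute (x : G) y := (mem_centralizer_iff.mp hyC (x : G) x.2)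
  have h1 := orderOf_dvd_17_of_commute h hy hcomm
  have h2 : orderOf (x : G) = p := by
    apply orderOf_eq_prime _ (fun h0 => hx1 (Subtype.ext h0))
    have h3 : x ^ Nat.card (P : Subgroup G) = 1 := pow_card_eq_one'
    rw [hP] at h3
    have h4 := congrArg Subtype.val h3
    simpa using h4
  rw [h2] at h1
  rcases hp35 with rfl | rfl <;> omega

theorem card_normalizer_dvd_240 (h : Nat.card G = 4080) {p : ℕ} [hp : Fact p.Prime]
    (hp35 : p = 3 ∨ p = 5) (P : Sylow p G) (hP : Nat.card P = p) :
    Nat.card (normalizer ((P : Subgroup G) : Set G)) ∣ 240 := by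
  apply dvd_240_of _ _ (not_17_dvd_card_normalizer h hp35 P hP)
  rw [← h]
  exact Subgroup.card_subgroup_dvd_card _

/-- if an element of order 3 centralizes a Sylow 5-subgroup, its normalizer has order 30 -/
theorem card_normalizer_sylow5_of_three_dvd (h : Nat.card G = 4080) [Fact (Nat.Prime 5)]
    (P : Sylow 5 G) (h3 : 3 ∣ Nat.card (centralizer ((P : Subgroup G) : Set G))) :
    Nat.card (normalizer ((P : Subgroup G) : Set G)) = 30 := by
  have hP := card_sylow5_eq h P
  have h240 := card_normalizer_dvd_240 h (Or.inr rfl) P hP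
  have h5 := dvd_card_centralizer P hP
  have hCN : Nat.card (centralizer ((P : Subgroup G) : Set G)) ∣
      Nat.card (normalizer ((P : Subgroup G) : Set G)) :=
    Subgroup.card_dvd_of_le (centralizer_le_normalizer _)
  have h3' := Dvd.dvd.trans h3 hCN
  have h5' := Dvd.dvd.trans h5 hCN
  have hn := SmallOrder.card_normalizer_mul_card_sylow P
  have hmod : Nat.card (Sylow 5 G) % 5 = 1 := card_sylow_modEq_one 5 G
  rw [h] at hn
  have hc := dvd_240_cases _ h240
  simp only [Finset.mem_insert, Finset.mem_singleton] at hc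
  generalize Nat.card (normalizer ((P : Subgroup G) : Set G)) = N at *
  generalize Nat.card (Sylow 5 G) = n at *
  rcases hc with rfl | rfl | rfl | rfl | rfl | rfl | rfl | rfl | rfl | rfl | rfl | rfl | rfl | rfl |
    rfl | rfl | rfl | rfl | rfl | rfl <;> omega

/-- if the normalizer of a Sylow 5-subgroup has order 30, its centralizer has order 15 -/
theorem card_centralizer_sylow5_of (h : Nat.card G = 4080) [Fact (Nat.Prime 5)]
    (P : Sylow 5 G) (hN : Nat.card (normalizer ((P : Subgroup G) : Set G)) = 30) :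
    Nat.card (centralizer ((P : Subgroup G) : Set G)) = 15 := by
  have hP := card_sylow5_eq h P
  obtain ⟨r, hr, hr1, hrN⟩ := exists_relIndex P hP (by rw [h]; norm_num)
  obtain ⟨d, hd⟩ := dvd_card_centralizer P hP
  rw [hN, hd] at hrN
  rw [hd]
  have hr4 : r ∣ 4 := by simpa using hr
  have hrle := Nat.le_of_dvd (by norm_num) hr4
  have : r = 1 ∨ r = 2 ∨ r = 4 := by
    interval_cases r <;> simp_all
  rcases this with rfl | rfl | rfl <;> omega

/-- the normalizer of a Sylow 3-subgroup has twice the order of its centralizer -/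
theorem card_normalizer_sylow3 (h : Nat.card G = 4080) [Fact (Nat.Prime 3)] (P : Sylow 3 G) :
    Nat.card (normalizer ((P : Subgroup G) : Set G)) =
      2 * Nat.card (centralizer ((P : Subgroup G) : Set G)) := by
  have hP := card_sylow3_eq h P
  obtain ⟨r, hr, hr1, hrN⟩ := exists_relIndex P hP (by rw [h]; norm_num)
  have hr2 : r ∣ 2 := by simpa using hr
  have hrle := Nat.le_of_dvd (by norm_num) hr2
  have hpos : 0 < Nat.card (normalizer ((P : Subgroup G) : Set G)) := Nat.card_pos
  have hr0 : r ≠ 0 := by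
    rintro rfl
    rw [← hrN] at hpos
    simp at hpos
  have : r = 2 := by omega
  subst this
  omega

/-- if an element of order 5 centralizes a Sylow 3-subgroup, its normalizer has order 30 or 120 -/
theorem card_normalizer_sylow3_of_five_dvd (h : Nat.card G = 4080) [Fact (Nat.Prime 3)]
    (P : Sylow 3 G) (h5 : 5 ∣ Nat.card (centralizer ((P : Subgroup G) : Set G))) :
    Nat.card (normalizer ((P : Subgroup G) : Set G)) = 30 ∨
      Nat.card (normalizer ((P : Subgroup G) : Set G)) = 120 := by
  have hP := card_sylow3_eq h P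
  have h240 := card_normalizer_dvd_240 h (Or.inl rfl) P hP
  have h3 := dvd_card_centralizer P hP
  have hCN : Nat.card (centralizer ((P : Subgroup G) : Set G)) ∣
      Nat.card (normalizer ((P : Subgroup G) : Set G)) :=
    Subgroup.card_dvd_of_le (centralizer_le_normalizer _)
  have h3' := Dvd.dvd.trans h3 hCN
  have h5' := Dvd.dvd.trans h5 hCN
  have hn := SmallOrder.card_normalizer_mul_card_sylow P
  have hmod : Nat.card (Sylow 3 G) % 3 = 1 := card_sylow_modEq_one 3 G
  rw [h] at hn
  have hc := dvd_240_cases _ h240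
  simp only [Finset.mem_insert, Finset.mem_singleton] at hc
  generalize Nat.card (normalizer ((P : Subgroup G) : Set G)) = N at *
  generalize Nat.card (Sylow 3 G) = n at *
  rcases hc with rfl | rfl | rfl | rfl | rfl | rfl | rfl | rfl | rfl | rfl | rfl | rfl | rfl | rfl |
    rfl | rfl | rfl | rfl | rfl | rfl <;> omega

end Cfsg.Agent.Helper2.S4080
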