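import Mathlib
import Cfsg.Agent.Helper2.S4080B

set_option autoImplicit false

/-! Simple groups of order 4080: if some element has order divisible by 15, all Sylow 3- and
5-subgroups have centralizers of order 15. -/

namespace Cfsg.Agent.Helper2.S4080

open Subgroup

variable {G : Type*} [Group G] [Finite G] [IsSimpleGroup G]

/-- the normalizer of a Sylow 3-subgroup does not have order 120 if the normalizers of the Sylow
5-subgroups have order 30 -/
theorem card_normalizer_sylow3_ne_120 (h : Nat.card G = 4080) [Fact (Nat.Prime 3)]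
    [Fact (Nat.Prime 5)] (Q₃ : Sylow 3 G)
    (h5N : ∀ P : Sylow 5 G, Nat.card (normalizer ((P : Subgroup G) : Set G)) = 30) :
    Nat.card (normalizer ((Q₃ : Subgroup G) : Set G)) ≠ 120 := by
  intro h120
  have hQ3 := card_sylow3_eq h Q₃
  have hK : Nat.card (centralizer ((Q₃ : Subgroup G) : Set G)) = 60 := by
    have := card_normalizer_sylow3 h Q₃
    omega
  set K : Subgroup G := centralizer ((Q₃ : Subgroup G) : Set G) with hKdef
  let Q : Sylow 5 K := default
  have hQ : Nat.card Q = 5 := by
    simpa using SylowExact.card_sylow_of_exact_pow (G := K) (s := 5) (k := 1) (m := 12)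
      (by rw [hK]; norm_num) (by norm_num) Q
  have hidx : (Q : Subgroup K).index = 12 := by
    have h1 := (Q : Subgroup K).card_mul_index
    rw [hQ, hK] at h1
    omega
  have hdvd : Nat.card (Sylow 5 K) ∣ 12 := hidx ▸ Sylow.card_dvd_index Q
  have hmod : Nat.card (Sylow 5 K) % 5 = 1 := card_sylow_modEq_one 5 K
  have hNQ := SmallOrder.card_normalizer_mul_card_sylow Q
  rw [hK] at hNQ
  -- Q₃ lies in the normalizer of Q in K
  have hQ3K : (Q₃ : Subgroup G) ≤ K := by
    have hfp : Fact (Nat.card (Q₃ : Subgroup G)).Prime := by rw [hQ3]; infer_instance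
    haveI : IsCyclic (Q₃ : Subgroup G) := isCyclic_of_prime_card rfl
    exact Subgroup.le_centralizer (Q₃ : Subgroup G)
  have hsub : (Q₃ : Subgroup G).subgroupOf K ≤ normalizer ((Q : Subgroup K) : Set K) := by
    intro z hz
    rw [mem_subgroupOf] at hz
    rw [mem_normalizer_iff]
    intro q
    have hcomm : z * q * z⁻¹ = q := by
      apply Subtype.ext
      have hq : (q : G) ∈ K := q.2
      have := (mem_centralizer_iff.mp hq) (z : G) hz
      simp only [Subgroup.coe_mul, Subgroup.coe_inv]
      rw [this, mul_inv_cancel_right]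
    rw [hcomm]
  have hcard3 : Nat.card ((Q₃ : Subgroup G).subgroupOf K) = 3 := by
    rw [Nat.card_congr (Subgroup.subgroupOfEquivOfLe hQ3K).toEquiv, hQ3]
  have h3 : 3 ∣ Nat.card (normalizer ((Q : Subgroup K) : Set K)) := by
    have := Subgroup.card_dvd_of_le hsub
    rwa [hcard3] at this
  have hle12 := Nat.le_of_dvd (by norm_num) hdvd
  have hn1 : Nat.card (Sylow 5 K) = 1 := by
    obtain ⟨d, hd⟩ := h3
    rw [hd] at hNQ
    generalize Nat.card (Sylow 5 K) = n at *
    interval_cases n <;> omega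
  rw [hn1, mul_one] at hNQ
  have htop : normalizer ((Q : Subgroup K) : Set K) = ⊤ := by
    apply Subgroup.eq_top_of_card_eq
    rw [hNQ, hK]
  -- transfer to G
  have hH5 : Nat.card ((Q : Subgroup K).map K.subtype) = 5 := by
    rw [Subgroup.card_map_of_injective K.subtype_injective, hQ]
  have hpg : IsPGroup 5 ((Q : Subgroup K).map K.subtype) :=
    IsPGroup.of_card (n := 1) (by rw [hH5]; norm_num)
  obtain ⟨P', hP'⟩ := hpg.exists_le_sylow
  have hP'c := card_sylow5_eq h P'
  have hEq : (Q : Subgroup K).map K.subtype = (P' : Subgroup G) :=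
    Subgroup.eq_of_le_of_card_ge hP' (by rw [hP'c, hH5])
  have hconj : ∀ k ∈ K, ∀ g ∈ (P' : Subgroup G), k * g * k⁻¹ ∈ (P' : Subgroup G) := by
    intro k hk g hg
    rw [← hEq] at hg ⊢
    obtain ⟨q, hq, rfl⟩ := Subgroup.mem_map.mp hg
    have hkN : (⟨k, hk⟩ : K) ∈ normalizer ((Q : Subgroup K) : Set K) := by
      rw [htop]; exact mem_top _
    have := (mem_normalizer_iff.mp hkN q).mp hq
    exact Subgroup.mem_map.mpr ⟨_, this, by simp⟩
  have hKN : K ≤ normalizer ((P' : Subgroup G) : Set G) := by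
    intro k hk
    rw [mem_normalizer_iff]
    intro g
    constructor
    · exact hconj k hk g
    · intro hg
      have := hconj k⁻¹ (inv_mem hk) _ hg
      simpa [mul_assoc] using this
  have := Subgroup.card_le_of_le hKN
  rw [hK, h5N P'] at this
  omega

/-- if some element has order divisible by 15, all Sylow 3- and 5-subgroups have centralizers
of order 15 -/
theorem facts_of_fifteen_dvd (h : Nat.card G = 4080) [Fact (Nat.Prime 3)] [Fact (Nat.Prime 5)]
    (g₀ : G) (hg₀ : 15 ∣ orderOf g₀) :
    (∀ P : Sylow 5 G, Nat.card (normalizer ((P : Subgroup G) : Set G)) = 30) ∧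
    (∀ P : Sylow 5 G, Nat.card (centralizer ((P : Subgroup G) : Set G)) = 15) ∧
    (∀ P : Sylow 3 G, Nat.card (normalizer ((P : Subgroup G) : Set G)) = 30) ∧
    (∀ P : Sylow 3 G, Nat.card (centralizer ((P : Subgroup G) : Set G)) = 15) := by
  have hpos : orderOf g₀ ≠ 0 := (orderOf_pos g₀).ne'
  have h3 : 3 ∣ orderOf g₀ := Dvd.dvd.trans (by norm_num) hg₀
  have h5 : 5 ∣ orderOf g₀ := Dvd.dvd.trans (by norm_num) hg₀
  -- Sylow 5
  obtain ⟨P₅, hgC5, -, -⟩ := exists_sylow_of_dvd_orderOf (p := 5) (card_sylow5_eq h) g₀ h5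
  have hw := orderOf_pow_orderOf_div hpos h3
  have h3C : 3 ∣ Nat.card (centralizer ((P₅ : Subgroup G) : Set G)) := by
    have := Subgroup.orderOf_dvd_natCard _ (pow_mem hgC5 (orderOf g₀ / 3))
    rwa [hw] at this
  have hN5 := card_normalizer_sylow5_of_three_dvd h P₅ h3C
  have hN5all : ∀ P : Sylow 5 G, Nat.card (normalizer ((P : Subgroup G) : Set G)) = 30 := by
    intro P
    rw [card_normalizer_eq P P₅, hN5]
  -- Sylow 3
  obtain ⟨Q₃, hgC3, -, -⟩ := exists_sylow_of_dvd_orderOf (p := 3) (card_sylow3_eq h) g₀ h3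
  have hx := orderOf_pow_orderOf_div hpos h5
  have h5C : 5 ∣ Nat.card (centralizer ((Q₃ : Subgroup G) : Set G)) := by
    have := Subgroup.orderOf_dvd_natCard _ (pow_mem hgC3 (orderOf g₀ / 5))
    rwa [hx] at this
  have hN3 : Nat.card (normalizer ((Q₃ : Subgroup G) : Set G)) = 30 := by
    rcases card_normalizer_sylow3_of_five_dvd h Q₃ h5C with h0 | h0
    · exact h0
    · exact absurd h0 (card_normalizer_sylow3_ne_120 h Q₃ hN5all)
  have hN3all : ∀ P : Sylow 3 G, Nat.card (normalizer ((P : Subgroup G) : Set G)) = 30 := by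
    intro P
    rw [card_normalizer_eq P Q₃, hN3]
  refine ⟨hN5all, fun P => card_centralizer_sylow5_of h P (hN5all P), hN3all, fun P => ?_⟩
  have := card_normalizer_sylow3 h P
  rw [hN3all P] at this
  omega

end Cfsg.Agent.Helper2.S4080
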