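import Mathlib
import Cfsg.Agent.Helper2.S4080C

set_option autoImplicit false

/-! Simple groups of order 4080: element counting; centralizers of involutions are elementary
abelian. -/

namespace Cfsg.Agent.Helper2.S4080

open Subgroup

theorem dvd_16_of (c : ℕ) (h1 : c ∣ 4080) (h3 : ¬ 3 ∣ c) (h5 : ¬ 5 ∣ c) (h17 : ¬ 17 ∣ c) :
    c ∣ 16 := by
  have c3 : Nat.Coprime c 3 := ((Nat.Prime.coprime_iff_not_dvd (by norm_num)).mpr h3).symm
  have c5 : Nat.Coprime c 5 := ((Nat.Prime.coprime_iff_not_dvd (by norm_num)).mpr h5).symm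
  have c17 : Nat.Coprime c 17 := ((Nat.Prime.coprime_iff_not_dvd (by norm_num)).mpr h17).symm
  have c255 : Nat.Coprime c (3 * 5 * 17) := (c3.mul_right c5).mul_right c17
  exact Nat.Coprime.dvd_of_dvd_mul_right c255 (by norm_num; exact h1)

variable {G : Type*} [Group G] [Finite G] [IsSimpleGroup G]

theorem orderOf_dvd_17 (h : Nat.card G = 4080) {g : G} (hg : 17 ∣ orderOf g) :
    orderOf g ∣ 17 := by
  haveI : Fact (Nat.Prime 17) := ⟨by norm_num⟩
  obtain ⟨P, hgC, -, -⟩ := exists_sylow_of_dvd_orderOf (p := 17) (card_sylow17_eq h) g hg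
  have := Subgroup.orderOf_dvd_natCard _ hgC
  rwa [card_centralizer_sylow17 h P] at this

/-- some element has order divisible by 15 -/
theorem exists_fifteen_dvd (h : Nat.card G = 4080) : ∃ g : G, 15 ∣ orderOf g := by
  by_contra hno
  push_neg at hno
  classical
  haveI : Fact (Nat.Prime 3) := ⟨by norm_num⟩
  haveI : Fact (Nat.Prime 5) := ⟨by norm_num⟩
  haveI : Fact (Nat.Prime 17) := ⟨by norm_num⟩
  have : Fintype G := Fintype.ofFinite G
  have hA3 := mul_card_le (p := 3) (card_sylow3_eq h) 2
    (fun P => (card_normalizer_sylow3 h P).le)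
    (Finset.univ.filter (fun g : G => 3 ∣ orderOf g)) (by intro g hg; simp [hg])
  have hA5 := mul_card_le (p := 5) (card_sylow5_eq h) 4
    (fun P => by
      obtain ⟨r, hr, hr1, hrN⟩ := exists_relIndex P (card_sylow5_eq h P) (by rw [h]; norm_num)
      have hr4 : r ∣ 4 := by simpa using hr
      have hrle := Nat.le_of_dvd (by norm_num) hr4
      rw [← hrN, mul_comm]
      exact Nat.mul_le_mul_right _ hrle)
    (Finset.univ.filter (fun g : G => 5 ∣ orderOf g)) (by intro g hg; simp [hg])
  have hA17 := mul_card_le (p := 17) (card_sylow17_eq h) 2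
    (fun P => by rw [card_normalizer_sylow17 h P, card_centralizer_sylow17 h P])
    (Finset.univ.filter (fun g : G => 17 ∣ orderOf g)) (by intro g hg; simp [hg])
  rw [h] at hA3 hA5 hA17
  have d35 : Disjoint (Finset.univ.filter (fun g : G => 3 ∣ orderOf g))
      (Finset.univ.filter (fun g : G => 5 ∣ orderOf g)) := by
    rw [Finset.disjoint_filter]
    intro g _ h3 h5
    exact hno g (Nat.Coprime.mul_dvd_of_dvd_of_dvd (by norm_num) h3 h5)
  have d317 : Disjoint (Finset.univ.filter (fun g : G => 3 ∣ orderOf g))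
      (Finset.univ.filter (fun g : G => 17 ∣ orderOf g)) := by
    rw [Finset.disjoint_filter]
    intro g _ h3 h17
    have := Dvd.dvd.trans h3 (orderOf_dvd_17 h h17)
    omega
  have d517 : Disjoint (Finset.univ.filter (fun g : G => 5 ∣ orderOf g))
      (Finset.univ.filter (fun g : G => 17 ∣ orderOf g)) := by
    rw [Finset.disjoint_filter]
    intro g _ h5 h17
    have := Dvd.dvd.trans h5 (orderOf_dvd_17 h h17)
    omega
  have hcard : ((Finset.univ.filter (fun g : G => 3 ∣ orderOf g)) ∪
      (Finset.univ.filter (fun g : G => 5 ∣ orderOf g)) ∪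
      (Finset.univ.filter (fun g : G => 17 ∣ orderOf g))).card =
      (Finset.univ.filter (fun g : G => 3 ∣ orderOf g)).card +
      (Finset.univ.filter (fun g : G => 5 ∣ orderOf g)).card +
      (Finset.univ.filter (fun g : G => 17 ∣ orderOf g)).card := by
    rw [Finset.card_union_of_disjoint (Finset.disjoint_union_left.mpr ⟨d317, d517⟩),
      Finset.card_union_of_disjoint d35]
  have hle : ((Finset.univ.filter (fun g : G => 3 ∣ orderOf g)) ∪
      (Finset.univ.filter (fun g : G => 5 ∣ orderOf g)) ∪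
      (Finset.univ.filter (fun g : G => 17 ∣ orderOf g))).card ≤ (Finset.univ : Finset G).card :=
    Finset.card_le_card (Finset.subset_univ _)
  rw [Finset.card_univ, ← Nat.card_eq_fintype_card, h] at hle
  omega

section facts

variable (h : Nat.card G = 4080) [Fact (Nat.Prime 3)] [Fact (Nat.Prime 5)]
  (hC5 : ∀ P : Sylow 5 G, Nat.card (centralizer ((P : Subgroup G) : Set G)) = 15)
  (hC3 : ∀ P : Sylow 3 G, Nat.card (centralizer ((P : Subgroup G) : Set G)) = 15)

include h hC5 hC3 in
/-- every element has odd order or is a 2-element -/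
theorem odd_or_dvd_16 (g : G) : Odd (orderOf g) ∨ orderOf g ∣ 16 := by
  by_cases h3 : 3 ∣ orderOf g
  · left
    obtain ⟨P, hgC, -, -⟩ := exists_sylow_of_dvd_orderOf (p := 3) (card_sylow3_eq h) g h3
    have := Subgroup.orderOf_dvd_natCard _ hgC
    rw [hC3 P] at this
    exact Odd.of_dvd_nat (by decide) this
  by_cases h5 : 5 ∣ orderOf g
  · left
    obtain ⟨P, hgC, -, -⟩ := exists_sylow_of_dvd_orderOf (p := 5) (card_sylow5_eq h) g h5
    have := Subgroup.orderOf_dvd_natCard _ hgC
    rw [hC5 P] at this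
    exact Odd.of_dvd_nat (by decide) this
  by_cases h17 : 17 ∣ orderOf g
  · left
    exact Odd.of_dvd_nat (by decide) (orderOf_dvd_17 h h17)
  · right
    apply dvd_16_of _ _ h3 h5 h17
    rw [← h]
    exact orderOf_dvd_natCard g

include h hC5 hC3 in
/-- an involution commutes with no element of odd prime order -/
theorem not_commute_invol_prime {t c : G} (ht : orderOf t = 2) {q : ℕ} (hq : q.Prime)
    (hq2 : q ≠ 2) (hc : orderOf c = q) (hcomm : Commute t c) : False := by
  have hcop : (orderOf t).Coprime (orderOf c) := by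
    rw [ht, hc]
    exact (Nat.coprime_primes Nat.prime_two hq).mpr (Ne.symm hq2)
  have ho := hcomm.orderOf_mul_eq_mul_orderOf_of_coprime hcop
  rw [ht, hc] at ho
  rcases odd_or_dvd_16 h hC5 hC3 (t * c) with h1 | h1
  · rw [ho] at h1
    exact (Nat.not_odd_iff_even.mpr (even_two_mul q)) h1
  · rw [ho] at h1
    have hq8 : q ∣ 8 := by
      have : 2 * q ∣ 2 * 8 := by simpa using h1
      exact Nat.dvd_of_mul_dvd_mul_left (by norm_num) this
    have : q ∣ 2 ^ 3 := by simpa using hq8
    have := (Nat.prime_dvd_prime_iff_eq hq Nat.prime_two).mp (hq.dvd_of_dvd_pow this)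
    exact hq2 this

include h hC5 hC3 in
/-- the centralizer of an involution is a 2-group -/
theorem card_centralizer_invol_dvd {t : G} (ht : orderOf t = 2) :
    Nat.card (centralizer ({t} : Set G)) ∣ 16 := by
  have key : ∀ q : ℕ, q.Prime → q ≠ 2 → ¬ q ∣ Nat.card (centralizer ({t} : Set G)) := by
    intro q hq hq2 hdvd
    haveI : Fact q.Prime := ⟨hq⟩
    obtain ⟨⟨c, hcC⟩, hc⟩ := exists_prime_orderOf_dvd_card' q hdvd
    rw [Subgroup.orderOf_mk] at hc
    have hcomm : Commute t c := (mem_centralizer_singleton_iff.mp hcC).symm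
    exact not_commute_invol_prime h hC5 hC3 ht hq hq2 hc hcomm
  apply dvd_16_of
  · rw [← h]
    exact Subgroup.card_subgroup_dvd_card _
  · exact key 3 (by norm_num) (by norm_num)
  · exact key 5 (by norm_num) (by norm_num)
  · exact key 17 (by norm_num) (by norm_num)

end facts

end Cfsg.Agent.Helper2.S4080
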