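import Mathlib
import Cfsg.Agent.Helper2.S4080D
import Cfsg.Agent.Helper2.CyclicSylow2

set_option autoImplicit false

/-! Simple groups of order 4080: every 2-element is an involution; centralizers of involutions
are elementary abelian. -/

namespace Cfsg.Agent.Helper2.S4080

open Subgroup

variable {G : Type*} [Group G] [Finite G] [IsSimpleGroup G]

/-- every 2-element has order at most 2 -/
theorem pow_two_eq_one_of_dvd_16 (h : Nat.card G = 4080) (u : G) (hu : orderOf u ∣ 16) :
    u ^ 2 = 1 := by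
  classical
  haveI : Fact (Nat.Prime 2) := ⟨Nat.prime_two⟩
  haveI : Fact (Nat.Prime 3) := ⟨by norm_num⟩
  haveI : Fact (Nat.Prime 5) := ⟨by norm_num⟩
  haveI : Fact (Nat.Prime 17) := ⟨by norm_num⟩
  have : Fintype G := Fintype.ofFinite G
  obtain ⟨g₀, hg₀⟩ := exists_fifteen_dvd h
  obtain ⟨hN5, hC5, hN3, hC3⟩ := facts_of_fifteen_dvd h g₀ hg₀
  -- the four sets
  set T2 : Finset G := Finset.univ.filter (fun g : G => orderOf g ∣ 16) with hT2
  set A17 : Finset G := Finset.univ.filter (fun g : G => 17 ∣ orderOf g) with hA17d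
  set A5 : Finset G := Finset.univ.filter (fun g : G => 5 ∣ orderOf g) with hA5d
  set B3 : Finset G := Finset.univ.filter (fun g : G => orderOf g = 3) with hB3d
  have hA17 := mul_card_le (p := 17) (card_sylow17_eq h) 2
    (fun P => by rw [card_normalizer_sylow17 h P, card_centralizer_sylow17 h P])
    A17 (by intro g hg; simp [hA17d, hg])
  have hA5 := mul_card_le (p := 5) (card_sylow5_eq h) 2
    (fun P => by rw [hN5 P, hC5 P])
    A5 (by intro g hg; simp [hA5d, hg])
  rw [h] at hA17 hA5
  have hn3 : Nat.card (Sylow 3 G) = 136 := by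
    have := SmallOrder.card_normalizer_mul_card_sylow (default : Sylow 3 G)
    rw [hN3, h] at this
    omega
  have hB3 : 136 * (3 - 1) ≤ B3.card := by
    rw [← hn3]
    apply Cfsg.Agent.Helper2.S504.card_sylow_mul_pred_le 3 (fun P => card_sylow3_eq h P)
    · intro P Q hPQ
      exact Cfsg.Agent.Helper2.S504.inf_eq_bot_of_prime_card (by norm_num) _ _
        (card_sylow3_eq h P) (card_sylow3_eq h Q) (fun h0 => hPQ (Sylow.ext h0))
    · intro P x hx hx1
      rw [hB3d, Finset.mem_filter]
      refine ⟨Finset.mem_univ _, ?_⟩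
      apply orderOf_eq_prime _ hx1
      have h1 : (⟨x, hx⟩ : (P : Subgroup G)) ^ Nat.card (P : Subgroup G) = 1 := pow_card_eq_one'
      rw [card_sylow3_eq h P] at h1
      have h2 := congrArg Subtype.val h1
      simpa using h2
  -- disjointness
  have d1 : Disjoint T2 A17 := by
    rw [hT2, hA17d, Finset.disjoint_filter]
    intro g _ h1 h2
    have := Dvd.dvd.trans h2 h1
    omega
  have d2 : Disjoint T2 A5 := by
    rw [hT2, hA5d, Finset.disjoint_filter]
    intro g _ h1 h2
    have := Dvd.dvd.trans h2 h1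
    omega
  have d3 : Disjoint T2 B3 := by
    rw [hT2, hB3d, Finset.disjoint_filter]
    intro g _ h1 h2
    rw [h2] at h1
    omega
  have d4 : Disjoint A17 A5 := by
    rw [hA17d, hA5d, Finset.disjoint_filter]
    intro g _ h1 h2
    have := Dvd.dvd.trans h2 (orderOf_dvd_17 h h1)
    omega
  have d5 : Disjoint A17 B3 := by
    rw [hA17d, hB3d, Finset.disjoint_filter]
    intro g _ h1 h2
    rw [h2] at h1
    omega
  have d6 : Disjoint A5 B3 := by
    rw [hA5d, hB3d, Finset.disjoint_filter]
    intro g _ h1 h2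
    rw [h2] at h1
    omega
  have hcard : (T2 ∪ A17 ∪ A5 ∪ B3).card = T2.card + A17.card + A5.card + B3.card := by
    rw [Finset.card_union_of_disjoint
        (Finset.disjoint_union_left.mpr ⟨Finset.disjoint_union_left.mpr ⟨d3, d5⟩, d6⟩),
      Finset.card_union_of_disjoint (Finset.disjoint_union_left.mpr ⟨d2, d4⟩),
      Finset.card_union_of_disjoint d1]
  have hle : (T2 ∪ A17 ∪ A5 ∪ B3).card ≤ (Finset.univ : Finset G).card :=
    Finset.card_le_card (Finset.subset_univ _)
  rw [Finset.card_univ, ← Nat.card_eq_fintype_card, h] at hle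
  have hT2le : T2.card ≤ 256 := by omega
  -- an involution and its class
  obtain ⟨t, ht⟩ := exists_prime_orderOf_dvd_card' (G := G) 2 (by rw [h]; norm_num)
  have hC := card_centralizer_invol_dvd h hC5 hC3 ht
  have hcl := Cfsg.Agent.Helper2.card_isConj_mul_card_centralizer t
  rw [h] at hcl
  have hcl255 : 255 ≤ Nat.card {x : G // IsConj t x} := by
    have hle16 := Nat.le_of_dvd (by norm_num) hC
    have hpos : 0 < Nat.card (centralizer ({t} : Set G)) := Nat.card_pos
    nlinarith
  rw [Cfsg.Agent.Helper2.natCard_subtype_eq_card_filter] at hcl255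
  have hcl255' : 255 ≤ (Finset.univ.filter (fun x : G => IsConj t x)).card := hcl255
  have hsub : Finset.univ.filter (fun x : G => IsConj t x) ⊆ T2.erase 1 := by
    intro x hx
    rw [Finset.mem_filter] at hx
    obtain ⟨c, hc⟩ := isConj_iff.mp hx.2
    have hox : orderOf x = 2 := by
      rw [← hc]
      have : c * t * c⁻¹ = MulAut.conj c t := rfl
      rw [this, MulEquiv.orderOf_eq]
      exact ht
    rw [Finset.mem_erase, hT2, Finset.mem_filter]
    refine ⟨?_, Finset.mem_univ _, ?_⟩
    · intro h0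
      rw [h0, orderOf_one] at hox
      omega
    · rw [hox]; norm_num
  have h1T : (1 : G) ∈ T2 := by
    rw [hT2, Finset.mem_filter]
    exact ⟨Finset.mem_univ _, by simp⟩
  have herase : (T2.erase 1).card = T2.card - 1 := Finset.card_erase_of_mem h1T
  have heq : Finset.univ.filter (fun x : G => IsConj t x) = T2.erase 1 := by
    apply Finset.eq_of_subset_of_card_le hsub
    rw [herase]
    omega
  by_cases hu1 : u = 1
  · rw [hu1, one_pow]
  · have hmem : u ∈ T2.erase 1 := by
      rw [Finset.mem_erase, hT2, Finset.mem_filter]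
      exact ⟨hu1, Finset.mem_univ _, hu⟩
    rw [← heq, Finset.mem_filter] at hmem
    obtain ⟨c, hc⟩ := isConj_iff.mp hmem.2
    have hou : orderOf u = 2 := by
      rw [← hc]
      have : c * t * c⁻¹ = MulAut.conj c t := rfl
      rw [this, MulEquiv.orderOf_eq]
      exact ht
    rw [← hou]
    exact pow_orderOf_eq_one u

theorem centralizer_invol (h : Nat.card G = 4080) (t : G) (ht : orderOf t = 2) :
    IsMulCommutative (centralizer ({t} : Set G)) ∧
      ∀ c ∈ centralizer ({t} : Set G), c ^ 2 = 1 := by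
  haveI : Fact (Nat.Prime 3) := ⟨by norm_num⟩
  haveI : Fact (Nat.Prime 5) := ⟨by norm_num⟩
  obtain ⟨g₀, hg₀⟩ := exists_fifteen_dvd h
  obtain ⟨hN5, hC5, hN3, hC3⟩ := facts_of_fifteen_dvd h g₀ hg₀
  have hexp : ∀ c ∈ centralizer ({t} : Set G), c ^ 2 = 1 := by
    intro c hc
    have hct : Commute c t := mem_centralizer_singleton_iff.mp hc
    rcases odd_or_dvd_16 h hC5 hC3 c with hodd | h16
    · by_cases ho1 : orderOf c = 1
      · rw [orderOf_eq_one_iff.mp ho1, one_pow]
      · exfalso
        obtain ⟨q, hq, hqd⟩ := Nat.exists_prime_and_dvd ho1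
        have hq2 : q ≠ 2 := by
          rintro rfl
          exact (Nat.not_even_iff_odd.mpr hodd) (even_iff_two_dvd.mpr hqd)
        have hpos : orderOf c ≠ 0 := (orderOf_pos c).ne'
        have hx := orderOf_pow_orderOf_div hpos hqd
        have hc' : Commute t (c ^ (orderOf c / q)) := (hct.pow_left _).symm
        exact not_commute_invol_prime h hC5 hC3 ht hq hq2 hx hc'
    · exact pow_two_eq_one_of_dvd_16 h c h16
  refine ⟨⟨⟨fun a b => ?_⟩⟩, hexp⟩
  have ha : (a : G) ^ 2 = 1 := hexp a a.2
  have hb : (b : G) ^ 2 = 1 := hexp b b.2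
  have hab : ((a : G) * (b : G)) ^ 2 = 1 := hexp _ (mul_mem a.2 b.2)
  apply Subtype.ext
  rw [Subgroup.coe_mul, Subgroup.coe_mul]
  have e1 : (a : G) * (b : G) = ((a : G) * (b : G))⁻¹ := by
    rw [eq_inv_iff_mul_eq_one, ← pow_two, hab]
  have e2 : (a : G)⁻¹ = a := by
    rw [inv_eq_iff_mul_eq_one, ← pow_two, ha]
  have e3 : (b : G)⁻¹ = b := by
    rw [inv_eq_iff_mul_eq_one, ← pow_two, hb]
  rw [e1, mul_inv_rev, e2, e3]

theorem sylow2_facts (h : Nat.card G = 4080) [Fact (Nat.Prime 2)] (T : Sylow 2 G) :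
    Nat.card T = 16 ∧ ¬ IsCyclic (T : Subgroup G) ∧ ¬ (T : Subgroup G).Normal := by
  have hT : Nat.card T = 16 := card_sylow2_eq h T
  refine ⟨hT, ?_, ?_⟩
  · intro hc
    obtain ⟨g, hg⟩ := IsCyclic.exists_ofOrder_eq_natCard (α := (T : Subgroup G))
    rw [hT] at hg
    have hg' : orderOf (g : G) = 16 := by rw [Subgroup.orderOf_coe, hg]
    have := pow_two_eq_one_of_dvd_16 h (g : G) (by rw [hg'])
    have h2 := orderOf_dvd_of_pow_eq_one this
    rw [hg'] at h2
    omega
  · intro hn
    rcases hn.eq_bot_or_eq_top with h0 | h0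
    · rw [h0] at hT; simp at hT
    · rw [h0, Subgroup.card_top, h] at hT; omega

end Cfsg.Agent.Helper2.S4080
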