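import Mathlib
import Cfsg.Agent.Helper2.S504D

set_option autoImplicit false

/-! Simple groups of order 504: every 2-element is an involution; centralizers of involutions are
elementary abelian. -/

namespace Cfsg.Agent.Helper2.S504

open Subgroup

variable {G : Type*} [Group G] [Finite G] [IsSimpleGroup G]

/-- there is no element of order 4 -/
theorem orderOf_ne_four (h : Nat.card G = 504) (v : G) : orderOf v ≠ 4 := by
  intro hv
  classical
  haveI : Fact (Nat.Prime 2) := ⟨Nat.prime_two⟩
  haveI : Fact (Nat.Prime 3) := ⟨by norm_num⟩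
  haveI : Fact (Nat.Prime 7) := ⟨by norm_num⟩
  have : Fintype G := Fintype.ofFinite G
  have hsum := sum_card_orderOf_eq_card_pow_eq_one (G := G) (n := 504) (by norm_num)
  have hall : (Finset.univ.filter (fun x : G => x ^ 504 = 1)).card = 504 := by
    rw [Finset.filter_true_of_mem, Finset.card_univ, ← Nat.card_eq_fintype_card, h]
    intro x _
    rw [← h]
    exact pow_card_eq_one'
  have hsub : ({1, 2, 3, 4, 7, 9} : Finset ℕ) ⊆ Nat.divisors 504 := by decide
  have hle : ∑ m ∈ ({1, 2, 3, 4, 7, 9} : Finset ℕ),
      (Finset.univ.filter (fun x : G => orderOf x = m)).card ≤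
      ∑ m ∈ Nat.divisors 504, (Finset.univ.filter (fun x : G => orderOf x = m)).card :=
    Finset.sum_le_sum_of_subset hsub
  rw [hsum, hall] at hle
  rw [Finset.sum_insert (by decide), Finset.sum_insert (by decide), Finset.sum_insert (by decide),
    Finset.sum_insert (by decide), Finset.sum_insert (by decide), Finset.sum_singleton] at hle
  -- order 1
  have h1 : 1 ≤ (Finset.univ.filter (fun x : G => orderOf x = 1)).card :=
    Finset.card_pos.mpr ⟨1, by simp⟩
  -- order 4
  have h4 : 1 ≤ (Finset.univ.filter (fun x : G => orderOf x = 4)).card :=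
    Finset.card_pos.mpr ⟨v, by simp [hv]⟩
  -- order 7
  have h7 : 36 * (7 - 1) ≤ (Finset.univ.filter (fun x : G => orderOf x = 7)).card := by
    rw [← card_sylow7 h]
    apply card_sylow_mul_pred_le 7 (fun P => card_sylow7_eq h P)
    · intro P Q hPQ
      exact inf_eq_bot_of_prime_card (by norm_num) _ _ (card_sylow7_eq h P) (card_sylow7_eq h Q)
        (fun h0 => hPQ (Sylow.ext h0))
    · intro P x hx hx1
      rw [Finset.mem_filter]
      refine ⟨Finset.mem_univ _, ?_⟩
      apply orderOf_eq_prime _ hx1
      have h1 : (⟨x, hx⟩ : (P : Subgroup G)) ^ Nat.card (P : Subgroup G) = 1 := pow_card_eq_one'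
      rw [card_sylow7_eq h P] at h1
      have h2 := congrArg Subtype.val h1
      simpa using h2
  -- orders 3 and 9
  have h39 : 28 * (9 - 1) ≤ (Finset.univ.filter (fun x : G => orderOf x = 3)).card +
      (Finset.univ.filter (fun x : G => orderOf x = 9)).card := by
    refine le_trans ?_ (Finset.card_union_le _ _)
    rw [← card_sylow3 h]
    apply card_sylow_mul_pred_le 9 (fun P => card_sylow3_eq h P)
    · intro P Q hPQ
      exact sylow3_inf_eq_bot h P Q hPQ
    · intro P x hx hx1
      have h1 : (⟨x, hx⟩ : (P : Subgroup G)) ^ Nat.card (P : Subgroup G) = 1 := pow_card_eq_one'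
      rw [card_sylow3_eq h P] at h1
      have h2 : x ^ 9 = 1 := by
        have h2 := congrArg Subtype.val h1
        simpa using h2
      have hd : orderOf x ∣ 9 := orderOf_dvd_of_pow_eq_one h2
      have hne1 : orderOf x ≠ 1 := fun h0 => hx1 (orderOf_eq_one_iff.mp h0)
      have hle := Nat.le_of_dvd (by norm_num) hd
      rw [Finset.mem_union, Finset.mem_filter, Finset.mem_filter]
      have : orderOf x = 3 ∨ orderOf x = 9 := by
        generalize orderOf x = o at *
        interval_cases o <;> omega
      rcases this with h3 | h9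
      · exact Or.inl ⟨Finset.mem_univ _, h3⟩
      · exact Or.inr ⟨Finset.mem_univ _, h9⟩
  -- order 2
  have h2 : 63 ≤ (Finset.univ.filter (fun x : G => orderOf x = 2)).card := by
    obtain ⟨t, ht⟩ := exists_prime_orderOf_dvd_card' (G := G) 2 (by rw [h]; norm_num)
    have hC := card_centralizer_invol_dvd h ht
    have hcl := Cfsg.Agent.Helper2.card_isConj_mul_card_centralizer t
    rw [h] at hcl
    have hcl63 : 63 ≤ Nat.card {x : G // IsConj t x} := by
      have hle8 := Nat.le_of_dvd (by norm_num) hC
      have hpos : 0 < Nat.card (centralizer ({t} : Set G)) := Nat.card_pos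
      nlinarith
    rw [Cfsg.Agent.Helper2.natCard_subtype_eq_card_filter] at hcl63
    refine le_trans hcl63 (Finset.card_le_card ?_)
    intro x hx
    rw [Finset.mem_filter] at hx ⊢
    refine ⟨Finset.mem_univ _, ?_⟩
    obtain ⟨c, hc⟩ := isConj_iff.mp hx.2
    rw [← hc]
    have : c * t * c⁻¹ = MulAut.conj c t := rfl
    rw [this, MulEquiv.orderOf_eq]
    exact ht
  omega

end Cfsg.Agent.Helper2.S504
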