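import Mathlib
import Cfsg.Agent.Helper2.S504E
import Cfsg.Agent.Helper2.CyclicSylow2

set_option autoImplicit false

/-! Simple groups of order 504: centralizers of involutions are elementary abelian 2-groups. -/

namespace Cfsg.Agent.Helper2.S504

open Subgroup

variable {G : Type*} [Group G] [Finite G] [IsSimpleGroup G]

theorem pow_two_eq_one_of_orderOf_dvd_eight (h : Nat.card G = 504) (u : G)
    (hu : orderOf u ∣ 8) : u ^ 2 = 1 := by
  have hle := Nat.le_of_dvd (by norm_num) hu
  have h4 := orderOf_ne_four h u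
  have h8 : orderOf u ≠ 8 := by
    intro h8
    have := orderOf_pow' u (n := 2) (by norm_num)
    rw [h8] at this
    exact orderOf_ne_four h (u ^ 2) (by rw [this]; norm_num)
  have h2 : orderOf u ∣ 2 := by
    generalize orderOf u = o at *
    interval_cases o <;> omega
  exact orderOf_dvd_iff_pow_eq_one.mp h2

theorem centralizer_invol (h : Nat.card G = 504) (t : G) (ht : orderOf t = 2) :
    IsMulCommutative (centralizer ({t} : Set G)) ∧
      ∀ c ∈ centralizer ({t} : Set G), c ^ 2 = 1 := by
  have hexp : ∀ c ∈ centralizer ({t} : Set G), c ^ 2 = 1 := by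
    intro c hc
    have hct : Commute c t := mem_centralizer_singleton_iff.mp hc
    apply pow_two_eq_one_of_orderOf_dvd_eight h
    have hpos : orderOf c ≠ 0 := (orderOf_pos c).ne'
    apply dvd_eight_of
    · rw [← h]
      exact orderOf_dvd_natCard c
    · intro h3
      have hx := orderOf_pow_orderOf_div hpos h3
      have hc' : Commute t (c ^ (orderOf c / 3)) := (hct.pow_left _).symm
      exact not_commute_invol_three h ht hx hc'
    · intro h7
      have hy := orderOf_pow_orderOf_div hpos h7
      have hc' : Commute t (c ^ (orderOf c / 7)) := (hct.pow_left _).symm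
      have := orderOf_dvd_seven_of_commute h hy hc'
      rw [ht] at this
      omega
  refine ⟨⟨⟨fun a b => ?_⟩⟩, hexp⟩
  have ha : (a : G) ^ 2 = 1 := hexp a a.2
  have hb : (b : G) ^ 2 = 1 := hexp b b.2
  have hab : ((a : G) * (b : G)) ^ 2 = 1 := hexp _ (mul_mem a.2 b.2)
  apply Subtype.ext
  rw [Subgroup.coe_mul, Subgroup.coe_mul]
  have e1 : (a : G) * (b : G) = ((a : G) * (b : G))⁻¹ := by
    rw [eq_inv_iff_mul_eq_one, ← pow_two, hab]
  have e2 : (a : G)⁻¹ = a := by
    rw [inv_eq_iff_mul_eq_one, ← pow_two, ha]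
  have e3 : (b : G)⁻¹ = b := by
    rw [inv_eq_iff_mul_eq_one, ← pow_two, hb]
  rw [e1, mul_inv_rev, e2, e3]

theorem sylow2_facts (h : Nat.card G = 504) [Fact (Nat.Prime 2)] (T : Sylow 2 G) :
    Nat.card T = 8 ∧ ¬ IsCyclic (T : Subgroup G) ∧ ¬ (T : Subgroup G).Normal := by
  have hT : Nat.card T = 8 := by
    simpa using SylowExact.card_sylow_of_exact_pow (s := 2) (k := 3) (m := 63)
      (by rw [h]; norm_num) (by norm_num) T
  refine ⟨hT, ?_, ?_⟩
  · intro hc
    obtain ⟨H, hH⟩ := Cfsg.Agent.Helper2.exists_index_two_of_cyclic_sylow_two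
      (by rw [h]; decide) T hc
    have hne : H ≠ ⊤ := by
      rintro rfl
      rw [index_top] at hH
      omega
    have := eight_le_index h H hne
    omega
  · intro hn
    rcases hn.eq_bot_or_eq_top with h0 | h0
    · rw [h0] at hT; simp at hT
    · rw [h0, Subgroup.card_top, h] at hT; omega

end Cfsg.Agent.Helper2.S504
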