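import Mathlib
import Cfsg.Agent.Lead.SGDefs
import Cfsg.Agent.Helper9.GrossBr.Step
import Cfsg.Agent.Helper1.HallHigmanDual
import Cfsg.Agent.Helper3.ShHHgrp
import Cfsg.Agent.Helper4.SolvPSolv
import Cfsg.Agent.Helper4.UpperPSeries2
import Cfsg.Agent.Helper5.Cores

/-!
Shult–Gross (S3793), step (a) of the linear theorem: the reduction of the linear theorem
`LinHypC` for a solvable `p'`-group `H` with `O_r(H) = 1` to the linear core `LinQHyp` for an
`s`-invariant Sylow subgroup of `O_{r'}(H)`.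
-/

set_option autoImplicit false

namespace Cfsg.Agent.Helper2.SGLinC

universe u

/-- if `t` commutes with `c = x⁻¹ (t x t⁻¹)`, then `t ^ i` conjugates `x` to `x c ^ i`. -/
theorem conj_pow_eq {Γ : Type*} [Group Γ] (t x c : Γ) (hc : t * x * t⁻¹ = x * c)
    (htc : t * c * t⁻¹ = c) (i : ℕ) : t ^ i * x * (t ^ i)⁻¹ = x * c ^ i := by
  induction i with
  | zero => simp
  | succ i ih =>
    have h1 : t * c ^ i * t⁻¹ = c ^ i := by
      rw [← conj_pow, htc]
    calc t ^ (i + 1) * x * (t ^ (i + 1))⁻¹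
        = t * (t ^ i * x * (t ^ i)⁻¹) * t⁻¹ := by
          rw [pow_succ', mul_inv_rev]; group
      _ = t * (x * c ^ i) * t⁻¹ := by rw [ih]
      _ = (t * x * t⁻¹) * (t * c ^ i * t⁻¹) := by group
      _ = x * c ^ (i + 1) := by rw [hc, h1, pow_succ', mul_assoc]

/-- an element of `p`-power order... : an element `c` of a finite group of order prime to `p`
with `c ^ p = 1` is trivial. -/
theorem eq_one_of_pow_eq_one_of_coprime {Γ : Type*} [Group Γ] (H : Subgroup Γ) [Finite H]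
    {p : ℕ} (hcop : (Nat.card H).Coprime p) (c : Γ) (hc : c ∈ H) (hcp : c ^ p = 1) : c = 1 := by
  have h1 : orderOf c ∣ p := orderOf_dvd_of_pow_eq_one hcp
  have h2 : orderOf c ∣ Nat.card H := by
    have := orderOf_dvd_natCard (⟨c, hc⟩ : ↥H)
    rwa [Subgroup.orderOf_mk] at this
  have h3 : orderOf c = 1 := Nat.eq_one_of_dvd_coprimes hcop h2 h1
  exact orderOf_eq_one_iff.1 h3

set_option maxHeartbeats 1000000 in
/-- **Step (a) of the linear theorem**: `LinQHyp p` implies `LinHypC p n`. -/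
theorem linHypC_of_linQHyp {p : ℕ} (hp : p.Prime) (h : Cfsg.Agent.Lead.SG.LinQHyp.{u} p)
    (n : ℕ) : Cfsg.Agent.Helper9.GrossBr.LinHypC.{u} p n := by
  classical
  intro k _ _ r hr _ Γ _ _ W _ _ _ ρ s hs hfix H hsH hsol hcop hrp hfpf hfaith hOr
  have : Fact p.Prime := ⟨hp⟩
  -- the case `n = 0`
  rcases Nat.eq_zero_or_pos n with hn0 | hn
  · subst hn0
    have hs1 : s = 1 := by simpa using hs
    intro x _
    rw [hs1]; simp
  obtain ⟨t, ht⟩ : ∃ t : Γ, t = s ^ (p ^ (n - 1)) := ⟨_, rfl⟩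
  rw [← ht]
  have htp : t ^ p = 1 := by
    rw [ht, ← pow_mul, ← pow_succ, Nat.sub_add_cancel hn, hs]
  -- `s` normalizes `H`
  have hs1 : ∀ x, x ∈ H ↔ s * x * s⁻¹ ∈ H := fun x => Subgroup.mem_normalizer_iff.1 hsH x
  have hs2 : ∀ x ∈ H, s⁻¹ * x * s ∈ H := by
    intro x hx
    rw [hs1]
    have : s * (s⁻¹ * x * s) * s⁻¹ = x := by group
    rw [this]; exact hx
  have hsH' : ∀ i : ℕ, ∀ x ∈ H, s ^ i * x * (s ^ i)⁻¹ ∈ H := by
    intro i
    induction i with
    | zero => intro x hx; simpa using hx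
    | succ i ih =>
      intro x hx
      have : s ^ (i + 1) * x * (s ^ (i + 1))⁻¹ = s * (s ^ i * x * (s ^ i)⁻¹) * s⁻¹ := by
        rw [pow_succ', mul_inv_rev]; group
      rw [this]
      exact (hs1 _).1 (ih x hx)
  have htH : ∀ x ∈ H, t * x * t⁻¹ ∈ H := by
    intro x hx; rw [ht]; exact hsH' _ x hx
  -- the automorphism of `H` induced by `s`
  obtain ⟨e, he⟩ : ∃ e : ↥H ≃* ↥H, ∀ x : ↥H, ((e x : ↥H) : Γ) = s * x * s⁻¹ := by
    refine ⟨{ toFun := fun x => ⟨s * x * s⁻¹, (hs1 x).1 x.2⟩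
              invFun := fun x => ⟨s⁻¹ * x * s, hs2 x x.2⟩
              left_inv := fun x => Subtype.ext (by simp [mul_assoc])
              right_inv := fun x => Subtype.ext (by simp [mul_assoc])
              map_mul' := fun x y => Subtype.ext (by simp [mul_assoc]) }, fun x => rfl⟩
  -- `↥H` is `r`-solvable with `O_r = 1`
  have hrsol : Cfsg.IsPSolvable r ↥H :=
    Cfsg.Agent.Helper4.SolvPSolv.isPSolvable_of_isSolvable r hsol
  have hOr' : Cfsg.pCore r ↥H = ⊥ := by
    have hP := hOr ((Cfsg.pCore r ↥H).map H.subtype) ?_ ?_ ?_ ?_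
    · rw [eq_bot_iff]
      intro x hx
      have : (x : Γ) ∈ (Cfsg.pCore r ↥H).map H.subtype := ⟨x, hx, rfl⟩
      rw [hP, Subgroup.mem_bot] at this
      rw [Subgroup.mem_bot]
      exact Subtype.ext this
    · rintro _ ⟨x, -, rfl⟩; exact x.2
    · rintro g hg _ ⟨x, hx, rfl⟩
      have : (Cfsg.pCore r ↥H).Normal := Cfsg.Agent.Helper4.pCore_normal
      refine ⟨(⟨g, hg⟩ : ↥H) * x * (⟨g, hg⟩ : ↥H)⁻¹, ?_, rfl⟩
      exact Subgroup.Normal.conj_mem inferInstance x hx _
    · have hmap := Cfsg.Agent.Helper4.pCore_map_mulEquiv (p := r) e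
      have hmap' := Cfsg.Agent.Helper4.pCore_map_mulEquiv (p := r) e.symm
      rw [Subgroup.mem_normalizer_iff]
      intro y
      constructor
      · rintro ⟨x, hx, rfl⟩
        refine ⟨e x, ?_, he x⟩
        rw [← hmap]; exact ⟨x, hx, rfl⟩
      · rintro ⟨x, hx, hxy⟩
        refine ⟨e.symm x, ?_, ?_⟩
        · rw [← hmap']; exact ⟨x, hx, rfl⟩
        · have h1 := he (e.symm x)
          rw [MulEquiv.apply_symm_apply] at h1
          have h2 : (H.subtype x : Γ) = x := rfl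
          rw [h2] at hxy
          rw [hxy] at h1
          have h3 : (H.subtype (e.symm x) : Γ) = (e.symm x : ↥H) := rfl
          rw [h3]
          have : s * ((e.symm x : ↥H) : Γ) * s⁻¹ = s * y * s⁻¹ := h1.symm
          exact mul_left_cancel (mul_right_cancel this)
    · exact (Cfsg.Agent.Helper5.isPGroup_pCore r).map _
  have hCN := Cfsg.Agent.Helper1.centralizer_pPrimeCore_le_of_isPSolvable hrsol hOr'
  -- `N = O_{r'}(H)` inside `Γ`
  obtain ⟨N, hN⟩ : ∃ N : Subgroup Γ, N = (Cfsg.pPrimeCore r ↥H).map H.subtype := ⟨_, rfl⟩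
  have hNH : N ≤ H := by
    rw [hN]; rintro _ ⟨x, -, rfl⟩; exact x.2
  have hNmem : ∀ x : ↥H, (x : Γ) ∈ N ↔ x ∈ Cfsg.pPrimeCore r ↥H := by
    intro x
    rw [hN]
    constructor
    · rintro ⟨y, hy, hyx⟩
      have : y = x := Subtype.ext hyx
      rw [← this]; exact hy
    · intro hx; exact ⟨x, hx, rfl⟩
  have hNcard : Nat.card N = Nat.card (Cfsg.pPrimeCore r ↥H) := by
    rw [hN]
    exact (Nat.card_congr ((Cfsg.pPrimeCore r ↥H).equivMapOfInjective H.subtype
      H.subtype_injective).toEquiv).symm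
  have hNr : (Nat.card N).Coprime r := by
    rw [hNcard]; exact Cfsg.Agent.Helper1.card_pPrimeCore_coprime r
  have hNp : ¬ p ∣ Nat.card N := by
    intro hdiv
    have h1 : p ∣ Nat.card H := hdiv.trans (Subgroup.card_dvd_of_le hNH)
    have := Nat.Coprime.eq_one_of_dvd hcop.symm h1
    exact hp.one_lt.ne' this
  have hsN : s ∈ Subgroup.normalizer (N : Set Γ) := by
    have hmap := Cfsg.Agent.Helper4.pPrimeCore_map_mulEquiv (p := r) e
    have hmap' := Cfsg.Agent.Helper4.pPrimeCore_map_mulEquiv (p := r) e.symm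
    rw [Subgroup.mem_normalizer_iff]
    intro y
    constructor
    · intro hy
      have hyH : y ∈ H := hNH hy
      have h1 : (⟨y, hyH⟩ : ↥H) ∈ Cfsg.pPrimeCore r ↥H := (hNmem ⟨y, hyH⟩).1 hy
      have h2 : e ⟨y, hyH⟩ ∈ Cfsg.pPrimeCore r ↥H := by
        rw [← hmap]; exact ⟨_, h1, rfl⟩
      have h3 := (hNmem _).2 h2
      rw [he] at h3
      exact h3
    · intro hy
      have hyH : s * y * s⁻¹ ∈ H := hNH hy
      have hyH' : y ∈ H := (hs1 y).2 hyH
      have h1 : (⟨s * y * s⁻¹, hyH⟩ : ↥H) ∈ Cfsg.pPrimeCore r ↥H := (hNmem ⟨_, hyH⟩).1 hy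
      have h2 : e.symm ⟨s * y * s⁻¹, hyH⟩ ∈ Cfsg.pPrimeCore r ↥H := by
        rw [← hmap']; exact ⟨_, h1, rfl⟩
      have h4 : e.symm ⟨s * y * s⁻¹, hyH⟩ = ⟨y, hyH'⟩ := by
        rw [MulEquiv.symm_apply_eq]
        exact Subtype.ext (he ⟨y, hyH'⟩).symm
      rw [h4] at h2
      exact (hNmem ⟨y, hyH'⟩).2 h2
  have hNn : (Cfsg.pPrimeCore r ↥H).Normal := Cfsg.Agent.Helper1.pPrimeCore_normal r
  by_cases hnc : ∃ g ∈ N, t * g * t⁻¹ ≠ g
  · -- an `s`-invariant Sylow subgroup of `N` not centralized by `t`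
    exfalso
    have hsp : IsPGroup p (Subgroup.zpowers s) := by
      obtain ⟨j, -, hj⟩ := (Nat.dvd_prime_pow hp).1 (orderOf_dvd_of_pow_eq_one hs)
      apply IsPGroup.of_card (n := j)
      rw [Nat.card_zpowers, hj]
    obtain ⟨q, hq, hqp, S, hSN, hSq, hSs, g, hgS, hgt⟩ :=
      Cfsg.Agent.Helper3.Shult.exists_invariant_sylow_not_centralized N s t hsp hsN hNp hnc
    have hSH : S ≤ H := hSN.trans hNH
    have hqr : q ≠ r := by
      intro hqr
      rw [hqr] at hSq
      obtain ⟨a, ha⟩ := IsPGroup.iff_card.1 hSq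
      have h1 : Nat.card S ∣ Nat.card N := Subgroup.card_dvd_of_le hSN
      have h2 : (Nat.card S).Coprime r := Nat.Coprime.coprime_dvd_left h1 hNr
      have h3 : Nat.card S = 1 := by
        rcases Nat.eq_zero_or_pos a with ha0 | hapos
        · rw [ha, ha0, pow_zero]
        · exfalso
          have h4 : r ∣ Nat.card S := by rw [ha]; exact dvd_pow_self r hapos.ne'
          have := Nat.Coprime.eq_one_of_dvd h2.symm h4
          exact hr.out.one_lt.ne' this
      have h5 : S = ⊥ := Subgroup.card_eq_one.1 h3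
      rw [h5, Subgroup.mem_bot] at hgS
      apply hgt
      rw [hgS]; simp
    have hpk : (p : k) ≠ 0 := by
      intro h0
      have := (CharP.cast_eq_zero_iff k r p).1 h0
      exact hrp ((Nat.prime_dvd_prime_iff_eq hr.out hp).1 this)
    have hqk : (q : k) ≠ 0 := by
      intro h0
      have := (CharP.cast_eq_zero_iff k r q).1 h0
      exact hqr ((Nat.prime_dvd_prime_iff_eq hr.out hq).1 this).symm
    have hfin := h k Γ W ρ q hq hqp hpk hqk S hSq s n hn hs hSs
      (fun g hg => hfpf g (hSH hg)) (fun g hg => hfaith g (hSH hg)) hfix g hgS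
    rw [← ht] at hfin
    exact hgt hfin
  · -- `t` centralizes `N`, hence `H`
    push Not at hnc
    intro x hx
    obtain ⟨c, hc⟩ : ∃ c : Γ, c = x⁻¹ * (t * x * t⁻¹) := ⟨_, rfl⟩
    have hcH : c ∈ H := by
      rw [hc]; exact H.mul_mem (H.inv_mem hx) (htH x hx)
    have hxc : t * x * t⁻¹ = x * c := by rw [hc]; group
    -- `c` centralizes `N`
    have hcN : ∀ y ∈ N, y * c = c * y := by
      intro y hy
      have hyH : y ∈ H := hNH hy
      have h1 : x * y * x⁻¹ ∈ N := by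
        have h2 : (⟨y, hyH⟩ : ↥H) ∈ Cfsg.pPrimeCore r ↥H := (hNmem ⟨y, hyH⟩).1 hy
        have h3 := hNn.conj_mem _ h2 ⟨x, hx⟩
        exact (hNmem _).2 h3
      have h4 := hnc _ h1
      have h5 := hnc y hy
      have h6 : t * (x * y * x⁻¹) * t⁻¹ = (t * x * t⁻¹) * (t * y * t⁻¹) * (t * x * t⁻¹)⁻¹ := by
        group
      rw [h6, h5, hxc] at h4
      -- `x c y c⁻¹ x⁻¹ = x y x⁻¹`
      have h7 : c * y * c⁻¹ = y := by
        have : x * (c * y * c⁻¹) * x⁻¹ = x * y * x⁻¹ := by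
          rw [← h4]; group
        exact mul_left_cancel (mul_right_cancel this)
      exact (mul_inv_eq_iff_eq_mul.1 h7).symm
    have hcN' : c ∈ N := by
      have h1 : (⟨c, hcH⟩ : ↥H) ∈ Subgroup.centralizer (Cfsg.pPrimeCore r ↥H : Set ↥H) := by
        rw [Subgroup.mem_centralizer_iff]
        intro y hy
        apply Subtype.ext
        exact hcN y ((hNmem y).2 hy)
      exact (hNmem ⟨c, hcH⟩).2 (hCN h1)
    have htc : t * c * t⁻¹ = c := hnc c hcN'
    have h1 := conj_pow_eq t x c hxc htc p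
    rw [htp] at h1
    have h2 : c ^ p = 1 := by
      have : x = x * c ^ p := by simpa using h1
      exact (mul_eq_left.1 this.symm)
    have h3 : c = 1 := eq_one_of_pow_eq_one_of_coprime H hcop c hcH h2
    rw [h3, mul_one] at hxc
    exact mul_inv_eq_iff_eq_mul.1 hxc

end Cfsg.Agent.Helper2.SGLinC
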