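import Mathlib
import Cfsg.Prelude.Def_Local
import Cfsg.Prelude.Def_Transfer

/-!
Helper lemmas (helper2): a solvable signalizer functor on a four-group of `S₅` that is not complete.
-/

set_option autoImplicit false

namespace Cfsg.Agent.Helper2

namespace SigEx

abbrev P5 := Equiv.Perm (Fin 5)

def sS : P5 := Equiv.swap 0 1
def tS : P5 := Equiv.swap 2 3
def c1 : P5 := Equiv.swap 2 3 * Equiv.swap 3 4
def c2 : P5 := Equiv.swap 0 1 * Equiv.swap 1 4

def A4 : Subgroup P5 where
  carrier := {x | x = 1 ∨ x = sS ∨ x = tS ∨ x = sS * tS}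
  mul_mem' := by
    rintro a b (rfl | rfl | rfl | rfl) (rfl | rfl | rfl | rfl) <;>
      simp only [Set.mem_setOf_eq] <;> decide
  one_mem' := Or.inl rfl
  inv_mem' := by
    rintro a (rfl | rfl | rfl | rfl) <;> simp only [Set.mem_setOf_eq] <;> decide

theorem mem_A4 {x : P5} : x ∈ A4 ↔ x = 1 ∨ x = sS ∨ x = tS ∨ x = sS * tS := Iff.rfl

noncomputable def θ : P5 → Subgroup P5 := by
  classical
  exact fun a => if a = sS then Subgroup.zpowers c1 else if a = tS then Subgroup.zpowers c2 else ⊥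

theorem θ_s : θ sS = Subgroup.zpowers c1 := by
  unfold θ; simp

theorem θ_t : θ tS = Subgroup.zpowers c2 := by
  unfold θ
  have h : tS ≠ sS := by decide
  simp [h]

theorem θ_st : θ (sS * tS) = ⊥ := by
  unfold θ
  have h1 : sS * tS ≠ sS := by decide
  have h2 : sS * tS ≠ tS := by decide
  simp [h1, h2]

theorem mem_zpowers_of_pow_three {G : Type*} [Group G] {c x : G} (h3 : c ^ 3 = 1)
    (hx : x ∈ Subgroup.zpowers c) : x = 1 ∨ x = c ∨ x = c ^ 2 := by
  obtain ⟨k, hkx⟩ := hx
  have hkx' : c ^ k = x := hkx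
  subst hkx'
  have hk : c ^ k = c ^ (k % 3) := by
    conv_lhs => rw [← Int.mul_ediv_add_emod k 3]
    rw [zpow_add, zpow_mul]
    have : c ^ (3 : ℤ) = 1 := by
      have : c ^ (3 : ℤ) = c ^ (3 : ℕ) := by norm_cast
      rw [this, h3]
    rw [this, one_zpow, one_mul]
  have h0 : 0 ≤ k % 3 := Int.emod_nonneg _ (by norm_num)
  have h1 : k % 3 < 3 := Int.emod_lt_of_pos _ (by norm_num)
  obtain ⟨r, hr⟩ : ∃ r, r = k % 3 := ⟨_, rfl⟩
  rw [hk, ← hr]
  rw [← hr] at h0 h1
  interval_cases r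
  · left; simp
  · right; left; simp
  · right; right; norm_cast

theorem c1_pow : c1 ^ 3 = 1 := by decide
theorem c2_pow : c2 ^ 3 = 1 := by decide

theorem orderOf_c1 : orderOf c1 = 3 := by
  haveI : Fact (Nat.Prime 3) := ⟨Nat.prime_three⟩
  exact orderOf_eq_prime c1_pow (by decide)

theorem orderOf_c2 : orderOf c2 = 3 := by
  haveI : Fact (Nat.Prime 3) := ⟨Nat.prime_three⟩
  exact orderOf_eq_prime c2_pow (by decide)

theorem conj_mem_zpowers {G : Type*} [Group G] {b c : G} (h : b * c * b⁻¹ ∈ Subgroup.zpowers c)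
    {x : G} (hx : x ∈ Subgroup.zpowers c) : b * x * b⁻¹ ∈ Subgroup.zpowers c := by
  obtain ⟨k, rfl⟩ := hx
  rw [← conj_zpow]
  exact Subgroup.zpow_mem _ h k

theorem isSolvable_zpowers {G : Type*} [Group G] (c : G) : IsSolvable ↥(Subgroup.zpowers c) := by
  apply isSolvable_of_comm
  rintro ⟨a, ⟨i, rfl⟩⟩ ⟨b, ⟨j, rfl⟩⟩
  apply Subtype.ext
  change c ^ i * c ^ j = c ^ j * c ^ i
  rw [← zpow_add, ← zpow_add, add_comm]

theorem A4_conj_c1 {b : P5} (hb : b ∈ A4) : b * c1 * b⁻¹ ∈ Subgroup.zpowers c1 := by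
  rcases hb with rfl | rfl | rfl | rfl
  · simp
  · have : sS * c1 * sS⁻¹ = c1 := by decide
    rw [this]; exact Subgroup.mem_zpowers c1
  · have : tS * c1 * tS⁻¹ = c1 ^ 2 := by decide
    rw [this]; exact Subgroup.pow_mem _ (Subgroup.mem_zpowers c1) 2
  · have : sS * tS * c1 * (sS * tS)⁻¹ = c1 ^ 2 := by decide
    rw [this]; exact Subgroup.pow_mem _ (Subgroup.mem_zpowers c1) 2

theorem A4_conj_c2 {b : P5} (hb : b ∈ A4) : b * c2 * b⁻¹ ∈ Subgroup.zpowers c2 := by
  rcases hb with rfl | rfl | rfl | rfl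
  · simp
  · have : sS * c2 * sS⁻¹ = c2 ^ 2 := by decide
    rw [this]; exact Subgroup.pow_mem _ (Subgroup.mem_zpowers c2) 2
  · have : tS * c2 * tS⁻¹ = c2 := by decide
    rw [this]; exact Subgroup.mem_zpowers c2
  · have : sS * tS * c2 * (sS * tS)⁻¹ = c2 ^ 2 := by decide
    rw [this]; exact Subgroup.pow_mem _ (Subgroup.mem_zpowers c2) 2

/-- No nontrivial power of `c1` commutes with `tS` or `sS * tS`; same for `c2` with `sS`, `sS * tS`. -/
theorem eq_one_of_mem_c1 {x b : P5} (hx : x ∈ Subgroup.zpowers c1) (hb : b = tS ∨ b = sS * tS)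
    (hc : b * x = x * b) : x = 1 := by
  rcases mem_zpowers_of_pow_three c1_pow hx with rfl | rfl | rfl
  · rfl
  · exfalso; rcases hb with rfl | rfl <;> revert hc <;> decide
  · exfalso; rcases hb with rfl | rfl <;> revert hc <;> decide

theorem eq_one_of_mem_c2 {x b : P5} (hx : x ∈ Subgroup.zpowers c2) (hb : b = sS ∨ b = sS * tS)
    (hc : b * x = x * b) : x = 1 := by
  rcases mem_zpowers_of_pow_three c2_pow hx with rfl | rfl | rfl
  · rfl
  · exfalso; rcases hb with rfl | rfl <;> revert hc <;> decide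
  · exfalso; rcases hb with rfl | rfl <;> revert hc <;> decide

theorem isSignalizerFunctor : Cfsg.IsSignalizerFunctor 2 A4 θ := by
  refine ⟨?_, ?_, ?_, ?_⟩
  · intro a ha ha1
    rcases ha with rfl | rfl | rfl | rfl
    · exact absurd rfl ha1
    · rw [θ_s, Subgroup.zpowers_le, Subgroup.mem_centralizer_iff]
      intro y hy
      rw [Set.mem_singleton_iff] at hy
      subst hy
      decide
    · rw [θ_t, Subgroup.zpowers_le, Subgroup.mem_centralizer_iff]
      intro y hy
      rw [Set.mem_singleton_iff] at hy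
      subst hy
      decide
    · rw [θ_st]; exact bot_le
  · intro a ha ha1
    rcases ha with rfl | rfl | rfl | rfl
    · exact absurd rfl ha1
    · rw [θ_s, Nat.card_zpowers, orderOf_c1]; decide
    · rw [θ_t, Nat.card_zpowers, orderOf_c2]; decide
    · rw [θ_st, Subgroup.card_bot]; decide
  · intro a ha ha1 b hb x hx
    rcases ha with rfl | rfl | rfl | rfl
    · exact absurd rfl ha1
    · rw [θ_s] at hx ⊢
      exact conj_mem_zpowers (A4_conj_c1 hb) hx
    · rw [θ_t] at hx ⊢
      exact conj_mem_zpowers (A4_conj_c2 hb) hx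
    · rw [θ_st] at hx ⊢
      rw [Subgroup.mem_bot] at hx ⊢
      rw [hx]; simp
  · intro a ha ha1 b hb hb1
    rcases ha with rfl | rfl | rfl | rfl
    · exact absurd rfl ha1
    · rcases hb with rfl | rfl | rfl | rfl
      · exact absurd rfl hb1
      · exact inf_le_left
      · rintro x ⟨hx1, hx2⟩
        rw [θ_s] at hx1
        have hx2' : x ∈ Subgroup.centralizer ({tS} : Set P5) := hx2
        rw [Subgroup.mem_centralizer_iff] at hx2'
        rw [eq_one_of_mem_c1 hx1 (Or.inl rfl) (hx2' tS rfl)]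
        exact Subgroup.one_mem _
      · rintro x ⟨hx1, hx2⟩
        rw [θ_s] at hx1
        have hx2' : x ∈ Subgroup.centralizer ({sS * tS} : Set P5) := hx2
        rw [Subgroup.mem_centralizer_iff] at hx2'
        rw [eq_one_of_mem_c1 hx1 (Or.inr rfl) (hx2' _ rfl)]
        exact Subgroup.one_mem _
    · rcases hb with rfl | rfl | rfl | rfl
      · exact absurd rfl hb1
      · rintro x ⟨hx1, hx2⟩
        rw [θ_t] at hx1
        have hx2' : x ∈ Subgroup.centralizer ({sS} : Set P5) := hx2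
        rw [Subgroup.mem_centralizer_iff] at hx2'
        rw [eq_one_of_mem_c2 hx1 (Or.inl rfl) (hx2' _ rfl)]
        exact Subgroup.one_mem _
      · exact inf_le_left
      · rintro x ⟨hx1, hx2⟩
        rw [θ_t] at hx1
        have hx2' : x ∈ Subgroup.centralizer ({sS * tS} : Set P5) := hx2
        rw [Subgroup.mem_centralizer_iff] at hx2'
        rw [eq_one_of_mem_c2 hx1 (Or.inr rfl) (hx2' _ rfl)]
        exact Subgroup.one_mem _
    · rw [θ_st]
      exact inf_le_left.trans bot_le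

theorem isSolvableSignalizerFunctor : Cfsg.IsSolvableSignalizerFunctor 2 A4 θ := by
  refine ⟨isSignalizerFunctor, ?_⟩
  intro a ha ha1
  rcases ha with rfl | rfl | rfl | rfl
  · exact absurd rfl ha1
  · rw [θ_s]; exact isSolvable_zpowers c1
  · rw [θ_t]; exact isSolvable_zpowers c2
  · rw [θ_st]; infer_instance

theorem not_complete : ¬ Cfsg.IsCompleteSignalizerFunctor 2 A4 θ := by
  rintro ⟨-, W, -, hodd, hW⟩
  have hs1 : sS ≠ 1 := by decide
  have ht1 : tS ≠ 1 := by decide
  have h1 : c1 ∈ W := by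
    have h := hW sS (Or.inr (Or.inl rfl)) hs1
    rw [θ_s] at h
    have : c1 ∈ W ⊓ Subgroup.centralizer ({sS} : Set P5) := by
      rw [h]; exact Subgroup.mem_zpowers c1
    exact this.1
  have h2 : c2 ∈ W := by
    have h := hW tS (Or.inr (Or.inr (Or.inl rfl))) ht1
    rw [θ_t] at h
    have : c2 ∈ W ⊓ Subgroup.centralizer ({tS} : Set P5) := by
      rw [h]; exact Subgroup.mem_zpowers c2
    exact this.1
  have h3 : c1 * c2 * c1⁻¹ * c2 ∈ W :=
    W.mul_mem (W.mul_mem (W.mul_mem h1 h2) (W.inv_mem h1)) h2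
  have h4 : orderOf (c1 * c2 * c1⁻¹ * c2) = 2 := by
    haveI : Fact (Nat.Prime 2) := ⟨Nat.prime_two⟩
    exact orderOf_eq_prime (by decide) (by decide)
  apply hodd
  rw [← h4]
  exact Subgroup.orderOf_dvd_natCard W h3

theorem isElementaryAbelian : Cfsg.IsElementaryAbelian 2 A4 := by
  refine ⟨⟨⟨?_⟩⟩, ?_⟩
  · rintro ⟨a, ha⟩ ⟨b, hb⟩
    apply Subtype.ext
    change a * b = b * a
    rcases ha with rfl | rfl | rfl | rfl <;> rcases hb with rfl | rfl | rfl | rfl <;> decide
  · intro a ha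
    rcases ha with rfl | rfl | rfl | rfl <;> decide

theorem card_A4 : Nat.card ↥A4 = 4 := by
  classical
  have h : (A4 : Set P5) = ((({1, sS, tS, sS * tS} : Finset P5)) : Set P5) := by
    ext x
    simp only [Finset.coe_insert, Finset.coe_singleton, Set.mem_insert_iff, Set.mem_singleton_iff]
    exact mem_A4
  have h2 : Nat.card ↥A4 = Nat.card ((A4 : Set P5)) := rfl
  rw [h2, h, Nat.card_coe_set_eq, Set.ncard_coe_finset]
  decide

end SigEx

theorem exists_noncomplete_signalizer :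
    ∃ (X : Type) (_ : Group X) (_ : Finite X) (A : Subgroup X) (θ : X → Subgroup X),
      Cfsg.IsElementaryAbelian 2 A ∧ Nat.card ↥A = 4 ∧ Cfsg.IsSolvableSignalizerFunctor 2 A θ ∧
        ¬ Cfsg.IsCompleteSignalizerFunctor 2 A θ :=
  ⟨SigEx.P5, inferInstance, inferInstance, SigEx.A4, SigEx.θ, SigEx.isElementaryAbelian,
    SigEx.card_A4, SigEx.isSolvableSignalizerFunctor, SigEx.not_complete⟩

end Cfsg.Agent.Helper2
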