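import Mathlib
import Cfsg.Agent.Helper1.PaQ
import Cfsg.Agent.Helper2.PConstrained2
import Cfsg.Agent.Helper2.SigEx
import Cfsg.Agent.Helper2.HatLayer1
import Cfsg.Agent.Helper2.Layer

/-!
Helper lemmas (helper2): the group `SL(2, 3)`: `2`-constrained, `O_{2'} = 1`, all involutions central.
-/

set_option autoImplicit false

namespace Cfsg.Agent.Helper2

theorem pLayer_eq_bot_of_isSolvable {G : Type*} [Group G] (p : ℕ) (h : Group.IsSolvable G) :
    Cfsg.pLayer p G = ⊥ := by
  unfold Cfsg.pLayer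
  rw [sSup_eq_bot]
  intro K hK
  exfalso
  obtain ⟨-, hc, -⟩ := hK
  have hperf : Group.IsPerfect ↥(K.map (QuotientGroup.mk' (Cfsg.pPrimeCore p G))) := hc.2.1
  have hne := component_ne_bot hc
  haveI : Nontrivial ↥(K.map (QuotientGroup.mk' (Cfsg.pPrimeCore p G))) :=
    (Subgroup.nontrivial_iff_ne_bot _).mpr hne
  haveI := h
  have hsol : Group.IsSolvable ↥(K.map (QuotientGroup.mk' (Cfsg.pPrimeCore p G))) := inferInstance
  exact Group.IsPerfect.not_isSolvable _ hsol

namespace SL23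

abbrev X := Matrix.SpecialLinearGroup (Fin 2) (ZMod 3)

def u : X := ⟨!![1, 1; 0, 1], by decide⟩
def l : X := ⟨!![1, 0; 1, 1], by decide⟩

theorem card_X : Nat.card X = 24 := by
  rw [Nat.card_eq_fintype_card]
  decide

theorem sq_eq_one : ∀ t : X, t ^ 2 = 1 → t = 1 ∨ t = -1 := by decide

theorem neg_one_central : ∀ g : X, g * (-1) = (-1) * g := by decide

theorem u_pow : u ^ 3 = 1 := by decide
theorem l_pow : l ^ 3 = 1 := by decide

theorem orderOf_u : orderOf u = 3 := by
  haveI : Fact (Nat.Prime 3) := ⟨Nat.prime_three⟩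
  exact orderOf_eq_prime u_pow (by decide)

theorem orderOf_l : orderOf l = 3 := by
  haveI : Fact (Nat.Prime 3) := ⟨Nat.prime_three⟩
  exact orderOf_eq_prime l_pow (by decide)

theorem isSolvable_X : Group.IsSolvable X :=
  Cfsg.Agent.Helper1.isSolvable_of_card_ppow_mul_prime 2 3 Nat.prime_two Nat.prime_three 24 X card_X
    ⟨3, 1, le_refl 1, by norm_num⟩

theorem isPConstrained_X : Cfsg.IsPConstrained 2 X := by
  haveI : Fact (Nat.Prime 2) := ⟨Nat.prime_two⟩
  rw [isPConstrained_iff]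
  exact pLayer_eq_bot_of_isSolvable 2 isSolvable_X

theorem pPrimeCore_X : Cfsg.pPrimeCore 2 X = ⊥ := by
  have hcop : (Nat.card ↥(Cfsg.pPrimeCore 2 X)).Coprime 2 :=
    Cfsg.Agent.Helper1.card_pPrimeCore_coprime 2
  have hdvd : Nat.card ↥(Cfsg.pPrimeCore 2 X) ∣ 24 := by
    rw [← card_X]; exact Subgroup.card_subgroup_dvd_card _
  have hdvd3 : Nat.card ↥(Cfsg.pPrimeCore 2 X) ∣ 3 := by
    have h8 : (Nat.card ↥(Cfsg.pPrimeCore 2 X)).Coprime 8 := by
      have : (8 : ℕ) = 2 ^ 3 := by norm_num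
      rw [this]; exact Nat.Coprime.pow_right 3 hcop
    have : Nat.card ↥(Cfsg.pPrimeCore 2 X) ∣ 8 * 3 := by norm_num; exact hdvd
    exact Nat.Coprime.dvd_of_dvd_mul_left h8 this
  rcases (Nat.dvd_prime Nat.prime_three).mp hdvd3 with h1 | h3
  · exact Subgroup.card_eq_one.mp h1
  · exfalso
    have hidx : (Cfsg.pPrimeCore 2 X).index = 8 := by
      have := Subgroup.card_mul_index (Cfsg.pPrimeCore 2 X)
      rw [h3, card_X] at this
      omega
    have hmem : ∀ x : X, orderOf x = 3 → x ∈ Cfsg.pPrimeCore 2 X := by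
      intro x hx
      apply mem_of_pow_mem_of_coprime (n := 8)
      · rw [hx]; decide
      · rw [← hidx]; exact Subgroup.pow_index_mem _ x
    have hu := hmem u orderOf_u
    have hl := hmem l orderOf_l
    have heq : Subgroup.zpowers u = Cfsg.pPrimeCore 2 X := by
      apply Subgroup.eq_of_le_of_card_ge (Subgroup.zpowers_le.mpr hu)
      rw [h3, Nat.card_zpowers, orderOf_u]
    rw [← heq] at hl
    rcases SigEx.mem_zpowers_of_pow_three u_pow hl with h | h | h <;> revert h <;> decide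

theorem invol_central (t : X) (ht : orderOf t = 2) : t ∈ Subgroup.center X := by
  have h2 : t ^ 2 = 1 := by
    have := pow_orderOf_eq_one t
    rwa [ht] at this
  rcases sq_eq_one t h2 with h | h
  · exfalso
    rw [h, orderOf_one] at ht
    omega
  · rw [h, Subgroup.mem_center_iff]
    exact neg_one_central

theorem exists_order_three : ∃ Q : Subgroup X, Nat.card ↥Q = 3 ∧ ¬ (Q ≤ Cfsg.pPrimeCore 2 X) := by
  refine ⟨Subgroup.zpowers u, ?_, ?_⟩
  · rw [Nat.card_zpowers, orderOf_u]
  · rw [pPrimeCore_X]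
    intro h
    have := h (Subgroup.mem_zpowers u)
    rw [Subgroup.mem_bot] at this
    revert this
    decide

end SL23

end Cfsg.Agent.Helper2
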