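import Mathlib

set_option autoImplicit false

namespace Cfsg.Agent.Helper2.SL2Invol

open Matrix

variable {F : Type*} [Field F]

/-- the matrix `-1` of `SL₂`. -/
def negOne : Matrix.SpecialLinearGroup (Fin 2) F :=
  ⟨!![-1, 0; 0, -1], by simp [Matrix.det_fin_two]⟩

/-- the standard element of order four. -/
def J : Matrix.SpecialLinearGroup (Fin 2) F :=
  ⟨!![0, -1; 1, 0], by simp [Matrix.det_fin_two]⟩

theorem ext_iff' (x y : Matrix.SpecialLinearGroup (Fin 2) F) :
    x = y ↔ x.1 0 0 = y.1 0 0 ∧ x.1 0 1 = y.1 0 1 ∧ x.1 1 0 = y.1 1 0 ∧ x.1 1 1 = y.1 1 1 := by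
  constructor
  · rintro rfl; exact ⟨rfl, rfl, rfl, rfl⟩
  · rintro ⟨h1, h2, h3, h4⟩
    apply Subtype.ext
    ext i j
    fin_cases i <;> fin_cases j
    · exact h1
    · exact h2
    · exact h3
    · exact h4

theorem mul_entries (x y : Matrix.SpecialLinearGroup (Fin 2) F) :
    (x * y).1 0 0 = x.1 0 0 * y.1 0 0 + x.1 0 1 * y.1 1 0 ∧
    (x * y).1 0 1 = x.1 0 0 * y.1 0 1 + x.1 0 1 * y.1 1 1 ∧
    (x * y).1 1 0 = x.1 1 0 * y.1 0 0 + x.1 1 1 * y.1 1 0 ∧
    (x * y).1 1 1 = x.1 1 0 * y.1 0 1 + x.1 1 1 * y.1 1 1 := by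
  refine ⟨?_, ?_, ?_, ?_⟩ <;>
  · change (x.1 * y.1) _ _ = _
    rw [Matrix.mul_apply, Fin.sum_univ_two]

theorem det_entries (x : Matrix.SpecialLinearGroup (Fin 2) F) :
    x.1 0 0 * x.1 1 1 - x.1 0 1 * x.1 1 0 = 1 := by
  have := x.2
  rw [Matrix.det_fin_two] at this
  exact this

theorem J_sq : (J : Matrix.SpecialLinearGroup (Fin 2) F) * J = negOne := by
  rw [ext_iff']
  obtain ⟨h1, h2, h3, h4⟩ := mul_entries (J : Matrix.SpecialLinearGroup (Fin 2) F) J
  rw [h1, h2, h3, h4]
  simp [J, negOne]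

theorem negOne_sq : (negOne : Matrix.SpecialLinearGroup (Fin 2) F) * negOne = 1 := by
  rw [ext_iff']
  obtain ⟨h1, h2, h3, h4⟩ := mul_entries (negOne : Matrix.SpecialLinearGroup (Fin 2) F) negOne
  rw [h1, h2, h3, h4]
  simp [negOne]

theorem negOne_ne_one (h2 : (2 : F) ≠ 0) : (negOne : Matrix.SpecialLinearGroup (Fin 2) F) ≠ 1 := by
  intro h
  have h1 := ((ext_iff' _ _).mp h).1
  simp [negOne] at h1
  apply h2
  have : (2 : F) = 1 - (-1) := by ring
  rw [this, h1]; ring

/-- the only involution of `SL₂` over a field of odd characteristic is `-1`. -/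
theorem eq_one_or_negOne_of_sq (h2 : (2 : F) ≠ 0) (x : Matrix.SpecialLinearGroup (Fin 2) F)
    (hx : x * x = 1) : x = 1 ∨ x = negOne := by
  obtain ⟨e1, e2, e3, e4⟩ := mul_entries x x
  have hd := det_entries x
  have hx' := (ext_iff' _ _).mp hx
  rw [e1, e2, e3, e4] at hx'
  obtain ⟨g1, g2, g3, g4⟩ := hx'
  simp only [Matrix.SpecialLinearGroup.coe_one, Matrix.one_apply_eq, ne_eq, zero_ne_one,
    not_false_eq_true, Matrix.one_apply_ne, one_ne_zero] at g1 g2 g3 g4
  set a := x.1 0 0
  set b := x.1 0 1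
  set c := x.1 1 0
  set d := x.1 1 1
  have hb : b * (a + d) = 0 := by linear_combination g2
  have hc : c * (a + d) = 0 := by linear_combination g3
  have had : a + d ≠ 0 := by
    intro h
    have hd' : d = -a := by linear_combination h
    apply h2
    rw [hd'] at hd
    linear_combination (-1 : F) * g1 - hd
  have hb0 : b = 0 := by
    rcases mul_eq_zero.mp hb with h | h
    · exact h
    · exact absurd h had
  have hc0 : c = 0 := by
    rcases mul_eq_zero.mp hc with h | h
    · exact h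
    · exact absurd h had
  rw [hb0, hc0] at g1 g4 hd
  have ha2 : a * a = 1 := by linear_combination g1
  have hda : d = a := by
    have h1 : a * (d - a) = 0 := by linear_combination hd - ha2
    rcases mul_eq_zero.mp h1 with h | h
    · rw [h] at ha2; simp at ha2
    · linear_combination h
  have ha : a = 1 ∨ a = -1 := by
    have : (a - 1) * (a + 1) = 0 := by linear_combination ha2
    rcases mul_eq_zero.mp this with h | h
    · left; linear_combination h
    · right; linear_combination h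
  rcases ha with ha | ha
  · left
    rw [ext_iff']
    refine ⟨?_, hb0, hc0, ?_⟩
    · simpa using ha
    · change d = _
      rw [hda, ha]; simp
  · right
    rw [ext_iff']
    refine ⟨?_, ?_, ?_, ?_⟩
    · change a = _; rw [ha]; simp [negOne]
    · change b = _; rw [hb0]; simp [negOne]
    · change c = _; rw [hc0]; simp [negOne]
    · change d = _; rw [hda, ha]; simp [negOne]

theorem sum_two_squares [Fintype F] (hF : Fintype.card F % 2 = 1) (x : F) :
    ∃ a b : F, a ^ 2 + b ^ 2 = x := by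
  classical
  open Polynomial in
  obtain ⟨a, b, hab⟩ : ∃ a b, (X ^ 2 : F[X]).eval a + (X ^ 2 - C x : F[X]).eval b = 0 :=
    FiniteField.exists_root_sum_quadratic (degree_X_pow 2)
      (degree_X_pow_sub_C (by decide) _) hF
  refine ⟨a, b, ?_⟩
  rw [← sub_eq_zero]
  simpa only [Polynomial.eval_C, Polynomial.eval_X, Polynomial.eval_pow, Polynomial.eval_sub,
    ← add_sub_assoc] using hab

/-- every element of `SL₂` with square `-1` is conjugate to `J`. -/
theorem exists_conj_J [Fintype F] (hF : Fintype.card F % 2 = 1) (h2 : (2 : F) ≠ 0)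
    (x : Matrix.SpecialLinearGroup (Fin 2) F) (hx : x * x = negOne) :
    ∃ g : Matrix.SpecialLinearGroup (Fin 2) F, g * J * g⁻¹ = x := by
  obtain ⟨e1, e2, e3, e4⟩ := mul_entries x x
  have hd := det_entries x
  have hx' := (ext_iff' _ _).mp hx
  rw [e1, e2, e3, e4] at hx'
  obtain ⟨g1, g2, g3, g4⟩ := hx'
  simp only [negOne, Matrix.of_apply, Matrix.cons_val', Matrix.cons_val_zero,
    Matrix.cons_val_one, Matrix.cons_val_fin_one] at g1 g2 g3 g4
  set a := x.1 0 0 with ha
  set b := x.1 0 1 with hb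
  set c := x.1 1 0 with hc
  set d := x.1 1 1 with hdd
  have hb' : b * (a + d) = 0 := by linear_combination g2
  have hc' : c * (a + d) = 0 := by linear_combination g3
  have had : d = -a := by
    by_contra hne
    have hne' : a + d ≠ 0 := fun h => hne (by linear_combination h)
    have hb0 : b = 0 := by
      rcases mul_eq_zero.mp hb' with h | h
      · exact h
      · exact absurd h hne'
    have hc0 : c = 0 := by
      rcases mul_eq_zero.mp hc' with h | h
      · exact h
      · exact absurd h hne'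
    rw [hb0, hc0] at g1 g4 hd
    -- a² = -1, a d = 1 ⇒ d = -a
    have h1 : a * (a + d) = 0 := by linear_combination g1 + hd
    rcases mul_eq_zero.mp h1 with h | h
    · rw [h] at hd; simp at hd
    · exact hne' h
  have hq : a * a + b * c = -1 := g1
  -- find `v` with `c v₁² - 2 a v₁ v₂ - b v₂² = 1`
  obtain ⟨v₁, v₂, hv⟩ : ∃ v₁ v₂ : F, c * v₁ ^ 2 - 2 * a * v₁ * v₂ - b * v₂ ^ 2 = 1 := by
    by_cases hc0 : c = 0
    · have ha2 : a * a = -1 := by rw [hc0] at hq; linear_combination hq
      have ha0 : a ≠ 0 := by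
        rintro h
        rw [h] at ha2
        simp at ha2
      refine ⟨-(1 + b) / (2 * a), 1, ?_⟩
      rw [hc0]
      field_simp
      ring
    · obtain ⟨w, y, hwy⟩ := sum_two_squares hF c
      refine ⟨(w + a * y) / c, y, ?_⟩
      have hcv : c * ((w + a * y) / c) = w + a * y := by field_simp
      have hmul : c * (c * ((w + a * y) / c) ^ 2 - 2 * a * ((w + a * y) / c) * y - b * y ^ 2) =
          c * 1 := by
        linear_combination (c * ((w + a * y) / c) + w - a * y) * hcv + hwy - y ^ 2 * hq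
      exact mul_left_cancel₀ hc0 hmul
  -- the conjugating matrix
  have hdet : Matrix.det !![v₁, a * v₁ + b * v₂; v₂, c * v₁ - a * v₂] = 1 := by
    rw [Matrix.det_fin_two]
    simp only [Matrix.of_apply, Matrix.cons_val', Matrix.cons_val_zero, Matrix.cons_val_one,
      Matrix.cons_val_fin_one]
    linear_combination hv
  obtain ⟨g, hg⟩ : ∃ g : Matrix.SpecialLinearGroup (Fin 2) F,
      g.1 = !![v₁, a * v₁ + b * v₂; v₂, c * v₁ - a * v₂] := ⟨⟨_, hdet⟩, rfl⟩
  refine ⟨g, ?_⟩
  rw [mul_inv_eq_iff_eq_mul, ext_iff']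
  obtain ⟨k1, k2, k3, k4⟩ := mul_entries g J
  obtain ⟨l1, l2, l3, l4⟩ := mul_entries x g
  rw [k1, k2, k3, k4, l1, l2, l3, l4, hg]
  simp only [J, Matrix.of_apply, Matrix.cons_val', Matrix.cons_val_zero, Matrix.cons_val_one,
    Matrix.cons_val_fin_one]
  rw [← ha, ← hb, ← hc, ← hdd, had]
  refine ⟨by ring, ?_, by ring, ?_⟩
  · linear_combination (-v₁) * hq
  · linear_combination (-v₂) * hq

end Cfsg.Agent.Helper2.SL2Invol
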