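import Mathlib
import Cfsg.Agent.Helper2.SL2Invol

set_option autoImplicit false

namespace Cfsg.Agent.Helper2.SL2Central

open Cfsg.Agent.Helper2.SL2Invol

variable {G : Type*} [Group G]

theorem two_ne_zero_of_odd {F : Type*} [Field F] [Fintype F] (hF : Odd (Fintype.card F)) :
    (2 : F) ≠ 0 := by
  apply Ring.two_ne_zero
  intro h
  have h0 := FiniteField.even_card_of_char_two h
  have h1 := Nat.odd_iff.mp hF
  omega

/-- product decomposition in the join of two commuting subgroups. -/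
theorem mem_sup_of_commute {L₁ L₂ : Subgroup G}
    (hc : ∀ x ∈ L₁, ∀ y ∈ L₂, x * y = y * x) {y : G} (hy : y ∈ L₁ ⊔ L₂) :
    ∃ a ∈ L₁, ∃ b ∈ L₂, y = a * b := by
  let S : Subgroup G :=
    { carrier := {y | ∃ a ∈ L₁, ∃ b ∈ L₂, y = a * b}
      one_mem' := ⟨1, one_mem _, 1, one_mem _, by simp⟩
      mul_mem' := by
        rintro _ _ ⟨a, ha, b, hb, rfl⟩ ⟨a', ha', b', hb', rfl⟩
        refine ⟨a * a', mul_mem ha ha', b * b', mul_mem hb hb', ?_⟩
        have c1 : b * a' = a' * b := (hc a' ha' b hb).symm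
        calc a * b * (a' * b') = a * (b * a') * b' := by group
        _ = a * (a' * b) * b' := by rw [c1]
        _ = _ := by group
      inv_mem' := by
        rintro _ ⟨a, ha, b, hb, rfl⟩
        refine ⟨a⁻¹, inv_mem ha, b⁻¹, inv_mem hb, ?_⟩
        have c1 : a⁻¹ * b⁻¹ = b⁻¹ * a⁻¹ := hc _ (inv_mem ha) _ (inv_mem hb)
        rw [mul_inv_rev, c1] }
  have h1 : L₁ ≤ S := fun a ha => ⟨a, ha, 1, one_mem _, by simp⟩
  have h2 : L₂ ≤ S := fun b hb => ⟨1, one_mem _, b, hb, by simp⟩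
  exact (sup_le h1 h2) hy

section side

variable {F : Type*} [Field F] [Fintype F] (hF : Odd (Fintype.card F)) {L : Subgroup G}
  (e : ↥L ≃* Matrix.SpecialLinearGroup (Fin 2) F) {j : G} (hjL : j ∈ L) (hj1 : j ≠ 1)
  (hjj : j * j = 1)

include hF hj1 hjj in
theorem e_j : e ⟨j, hjL⟩ = negOne := by
  have h2 := two_ne_zero_of_odd hF
  have h : e ⟨j, hjL⟩ * e ⟨j, hjL⟩ = 1 := by
    rw [← map_mul]
    have : (⟨j, hjL⟩ : ↥L) * ⟨j, hjL⟩ = 1 := Subtype.ext hjj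
    rw [this, map_one]
  rcases eq_one_or_negOne_of_sq h2 _ h with h | h
  · exfalso
    apply hj1
    have := e.injective (h.trans (map_one e).symm)
    exact congrArg Subtype.val this
  · exact h

include hF hj1 hjj hjL e in
theorem sq_one {a : G} (ha : a ∈ L) (haa : a * a = 1) : a = 1 ∨ a = j := by
  have h2 := two_ne_zero_of_odd hF
  have h : e ⟨a, ha⟩ * e ⟨a, ha⟩ = 1 := by
    rw [← map_mul]
    have : (⟨a, ha⟩ : ↥L) * ⟨a, ha⟩ = 1 := Subtype.ext haa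
    rw [this, map_one]
  rcases eq_one_or_negOne_of_sq h2 _ h with h | h
  · left
    have := e.injective (h.trans (map_one e).symm)
    exact congrArg Subtype.val this
  · right
    have := e.injective (h.trans (e_j hF e hjL hj1 hjj).symm)
    exact congrArg Subtype.val this

include hF hj1 hjj hjL e in
theorem exists_sq : ∃ a ∈ L, a * a = j := by
  refine ⟨(e.symm J : ↥L), (e.symm J).2, ?_⟩
  have h : e.symm J * e.symm J = (⟨j, hjL⟩ : ↥L) := by
    rw [← map_mul, J_sq, ← e_j hF e hjL hj1 hjj, MulEquiv.symm_apply_apply]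
  exact congrArg Subtype.val h

include hF hj1 hjj hjL e in
theorem conj_of_sq {a a' : G} (ha : a ∈ L) (ha' : a' ∈ L) (haa : a * a = j) (haa' : a' * a' = j) :
    ∃ h ∈ L, h * a * h⁻¹ = a' := by
  have h2 := two_ne_zero_of_odd hF
  have hF' := Nat.odd_iff.mp hF
  have hej := e_j hF e hjL hj1 hjj
  have h1 : e ⟨a, ha⟩ * e ⟨a, ha⟩ = negOne := by
    rw [← map_mul, ← hej]
    congr 1
    exact Subtype.ext haa
  have h1' : e ⟨a', ha'⟩ * e ⟨a', ha'⟩ = negOne := by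
    rw [← map_mul, ← hej]
    congr 1
    exact Subtype.ext haa'
  obtain ⟨g, hg⟩ := exists_conj_J hF' h2 _ h1
  obtain ⟨g', hg'⟩ := exists_conj_J hF' h2 _ h1'
  -- a' = g' J g'⁻¹ = g' g⁻¹ (e a) g g'⁻¹
  have hJ : J = g⁻¹ * e ⟨a, ha⟩ * g := by rw [← hg]; group
  have key : e ⟨a', ha'⟩ = (g' * g⁻¹) * e ⟨a, ha⟩ * (g' * g⁻¹)⁻¹ := by
    rw [← hg', hJ]; group
  refine ⟨(e.symm (g' * g⁻¹) : ↥L), (e.symm (g' * g⁻¹)).2, ?_⟩
  have : e.symm (g' * g⁻¹) * ⟨a, ha⟩ * (e.symm (g' * g⁻¹))⁻¹ = (⟨a', ha'⟩ : ↥L) := by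
    apply e.injective
    rw [map_mul, map_mul, map_inv, MulEquiv.apply_symm_apply, key]
  exact congrArg Subtype.val this

end side

/-- the two classes of involutions of a central product of two `SL₂`'s. -/
theorem main {F₁ : Type*} [Field F₁] [Fintype F₁] {F₂ : Type*} [Field F₂] [Fintype F₂]
    (hF₁ : Odd (Fintype.card F₁)) (hF₂ : Odd (Fintype.card F₂)) (L₁ L₂ : Subgroup G)
    (e₁ : ↥L₁ ≃* Matrix.SpecialLinearGroup (Fin 2) F₁)
    (e₂ : ↥L₂ ≃* Matrix.SpecialLinearGroup (Fin 2) F₂)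
    (hc : ∀ x ∈ L₁, ∀ y ∈ L₂, x * y = y * x) (j : G) (hj : orderOf j = 2)
    (hm : L₁ ⊓ L₂ = Subgroup.zpowers j) :
    ∃ x ∈ L₁ ⊔ L₂, orderOf x = 2 ∧ x ≠ j ∧
      ∀ y ∈ L₁ ⊔ L₂, orderOf y = 2 → y = j ∨ ∃ g ∈ L₁ ⊔ L₂, g * x * g⁻¹ = y := by
  have hjj : j * j = 1 := by
    have := pow_orderOf_eq_one j
    rw [hj, pow_two] at this
    exact this
  have hj1 : j ≠ 1 := by
    rintro rfl
    rw [orderOf_one] at hj
    omega
  have hjm : j ∈ L₁ ⊓ L₂ := by rw [hm]; exact Subgroup.mem_zpowers j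
  have hjL₁ : j ∈ L₁ := hjm.1
  have hjL₂ : j ∈ L₂ := hjm.2
  have hjinv : j⁻¹ = j := inv_eq_of_mul_eq_one_left hjj
  -- elements of the intersection
  have hint : ∀ z, z ∈ L₁ → z ∈ L₂ → z = 1 ∨ z = j := by
    intro z h1 h2
    have hz : z ∈ Subgroup.zpowers j := by rw [← hm]; exact ⟨h1, h2⟩
    obtain ⟨k, rfl⟩ := Subgroup.mem_zpowers_iff.mp hz
    rcases Int.even_or_odd' k with ⟨m, hm' | hm'⟩
    · left
      rw [hm', zpow_mul, zpow_ofNat, pow_two, hjj, one_zpow]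
    · right
      rw [hm', zpow_add, zpow_mul, zpow_ofNat, pow_two, hjj, one_zpow, one_mul, zpow_one]
  obtain ⟨a, ha, haa⟩ := exists_sq hF₁ e₁ hjL₁ hj1 hjj
  obtain ⟨b, hb, hbb⟩ := exists_sq hF₂ e₂ hjL₂ hj1 hjj
  have hab : a * b = b * a := hc a ha b hb
  have hxx : a * b * (a * b) = 1 := by
    calc a * b * (a * b) = a * (b * a) * b := by group
    _ = a * (a * b) * b := by rw [hab]
    _ = (a * a) * (b * b) := by group
    _ = 1 := by rw [haa, hbb, hjj]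
  have hanot : ¬ (a ∈ L₂) := by
    intro h
    rcases hint a ha h with h | h
    · rw [h, one_mul] at haa; exact hj1 haa.symm
    · rw [h, hjj] at haa; exact hj1 haa.symm
  have hx1 : a * b ≠ 1 := by
    intro h
    apply hanot
    have : a = b⁻¹ := eq_inv_of_mul_eq_one_left h
    rw [this]; exact inv_mem hb
  have hxj : a * b ≠ j := by
    intro h
    apply hanot
    have : a = j * b⁻¹ := by rw [← h]; group
    rw [this]; exact mul_mem hjL₂ (inv_mem hb)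
  refine ⟨a * b, Subgroup.mul_mem_sup ha hb, ?_, hxj, ?_⟩
  · exact orderOf_eq_prime (by rw [pow_two]; exact hxx) hx1
  intro y hy hyo
  have hyy : y * y = 1 := by
    have := pow_orderOf_eq_one y
    rw [hyo, pow_two] at this
    exact this
  have hy1 : y ≠ 1 := by
    rintro rfl
    rw [orderOf_one] at hyo
    omega
  obtain ⟨a', ha', b', hb', rfl⟩ := mem_sup_of_commute hc hy
  have hab' : a' * b' = b' * a' := hc a' ha' b' hb'
  have hsq : (a' * a') * (b' * b') = 1 := by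
    calc (a' * a') * (b' * b') = a' * (a' * b') * b' := by group
    _ = a' * (b' * a') * b' := by rw [hab']
    _ = a' * b' * (a' * b') := by group
    _ = 1 := hyy
  have haL₂ : a' * a' ∈ L₂ := by
    have : a' * a' = (b' * b')⁻¹ := eq_inv_of_mul_eq_one_left hsq
    rw [this]; exact inv_mem (mul_mem hb' hb')
  rcases hint _ (mul_mem ha' ha') haL₂ with h | h
  · left
    have hb1 : b' * b' = 1 := by rw [h, one_mul] at hsq; exact hsq
    rcases sq_one hF₁ e₁ hjL₁ hj1 hjj ha' h with h1 | h1 <;>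
      rcases sq_one hF₂ e₂ hjL₂ hj1 hjj hb' hb1 with h2 | h2
    · exfalso; apply hy1; rw [h1, h2, one_mul]
    · rw [h1, h2, one_mul]
    · rw [h1, h2, mul_one]
    · exfalso; apply hy1; rw [h1, h2, hjj]
  · right
    have hbj : b' * b' = j := by
      rw [h] at hsq
      have : b' * b' = j⁻¹ := eq_inv_of_mul_eq_one_right hsq
      rw [this, hjinv]
    obtain ⟨h₁, hh₁, e1⟩ := conj_of_sq hF₁ e₁ hjL₁ hj1 hjj ha ha' haa h
    obtain ⟨h₂, hh₂, e2⟩ := conj_of_sq hF₂ e₂ hjL₂ hj1 hjj hb hb' hbb hbj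
    refine ⟨h₁ * h₂, Subgroup.mul_mem_sup hh₁ hh₂, ?_⟩
    have c1 : h₂ * a = a * h₂ := (hc a ha h₂ hh₂).symm
    have c2 : (h₂ * b * h₂⁻¹) * h₁⁻¹ = h₁⁻¹ * (h₂ * b * h₂⁻¹) :=
      (hc h₁⁻¹ (inv_mem hh₁) _ (mul_mem (mul_mem hh₂ hb) (inv_mem hh₂))).symm
    calc h₁ * h₂ * (a * b) * (h₁ * h₂)⁻¹ = h₁ * (h₂ * a) * b * h₂⁻¹ * h₁⁻¹ := by group
    _ = h₁ * (a * h₂) * b * h₂⁻¹ * h₁⁻¹ := by rw [c1]
    _ = h₁ * a * ((h₂ * b * h₂⁻¹) * h₁⁻¹) := by group
    _ = h₁ * a * (h₁⁻¹ * (h₂ * b * h₂⁻¹)) := by rw [c2]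
    _ = (h₁ * a * h₁⁻¹) * (h₂ * b * h₂⁻¹) := by group
    _ = a' * b' := by rw [e1, e2]

end Cfsg.Agent.Helper2.SL2Central
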