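import Mathlib
import Cfsg.Agent.Helper2.SL2Central
import Cfsg.Agent.Helper2.GLInvC
import Cfsg.Agent.Helper2.Quasisimple
import Cfsg.Agent.Helper7.SLTransfer
import Cfsg.Agent.Helper7.SL2Sylow

/-!
Helper lemmas (helper2): normal subgroups of a central product `SL₂(q₁) ∘ SL₂(q₂)` that are
isomorphic to one of the factors.
-/

set_option autoImplicit false

namespace Cfsg.Agent.Helper2.SL2Pair

open Cfsg.Agent.Helper2.SL2Invol

/-- abstract property of a group `H` with a distinguished normal subgroup `Q`. -/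
structure NiceGrp (H : Type*) [Group H] (Q : Subgroup H) : Prop where
  normal : Q.Normal
  dich : ∀ N : Subgroup H, N.Normal → N ≤ Subgroup.center H ∨ Q ≤ N
  cent : ∀ a : H, (∀ q ∈ Q, a * q = q * a) → a ∈ Subgroup.center H
  nonab : ∃ a b : H, a * b * a⁻¹ * b⁻¹ ∉ Subgroup.center H

theorem niceGrp_of_quasisimple {H : Type*} [Group H] (h : Cfsg.IsQuasisimple H) :
    NiceGrp H ⊤ where
  normal := inferInstance
  dich := fun N hN => by
    rcases Cfsg.Agent.Helper2.isSubnormal_quasisimple h N hN.isSubnormal with h1 | h1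
    · right; rw [h1]
    · left; exact h1
  cent := fun a ha => by
    rw [Subgroup.mem_center_iff]; intro g; exact (ha g (Subgroup.mem_top g)).symm
  nonab := by
    by_contra hne
    push Not at hne
    obtain ⟨hperf, hsimple⟩ := h
    have hle : commutator H ≤ Subgroup.center H := by
      rw [commutator_def, Subgroup.commutator_le]
      intro a _ b _
      rw [commutatorElement_def]; exact hne a b
    have htop : Subgroup.center H = ⊤ := by
      rw [eq_top_iff, ← hperf.commutator_eq_top]; exact hle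
    haveI := hsimple
    obtain ⟨a, b, hab⟩ := (IsSimpleGroup.toNontrivial : Nontrivial (H ⧸ Subgroup.center H))
    apply hab
    induction a using QuotientGroup.induction_on
    induction b using QuotientGroup.induction_on
    rw [QuotientGroup.eq, htop]; exact Subgroup.mem_top _

theorem NiceGrp.map {H H' : Type*} [Group H] [Group H'] (e : H ≃* H') {Q : Subgroup H}
    (h : NiceGrp H Q) : NiceGrp H' (Q.map e.toMonoidHom) where
  normal := by
    haveI := h.normal
    exact Subgroup.Normal.map inferInstance e.toMonoidHom e.surjective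
  dich := fun N hN => by
    haveI := hN
    rcases h.dich (N.comap e.toMonoidHom) inferInstance with h1 | h1
    · left; intro x hx
      obtain ⟨y, rfl⟩ := e.surjective x
      have hy : y ∈ Subgroup.center H := h1 hx
      rw [Subgroup.mem_center_iff] at hy ⊢
      intro g; obtain ⟨g', rfl⟩ := e.surjective g
      rw [← map_mul, ← map_mul, hy g']
    · right; rw [Subgroup.map_le_iff_le_comap]; exact h1
  cent := fun a ha => by
    obtain ⟨a', rfl⟩ := e.surjective a
    have hy : a' ∈ Subgroup.center H := h.cent a' (fun q hq => by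
      apply e.injective; rw [map_mul, map_mul]; exact ha (e q) ⟨q, hq, rfl⟩)
    rw [Subgroup.mem_center_iff] at hy ⊢
    intro g; obtain ⟨g', rfl⟩ := e.surjective g
    rw [← map_mul, ← map_mul, hy g']
  nonab := by
    obtain ⟨a, b, hab⟩ := h.nonab
    refine ⟨e a, e b, fun hc => hab ?_⟩
    rw [Subgroup.mem_center_iff] at hc ⊢
    intro g
    apply e.injective
    have := hc (e g)
    simpa [map_mul, map_inv] using this

/-! ### `SL(2, 3)` -/

abbrev S3 := Matrix.SpecialLinearGroup (Fin 2) (ZMod 3)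

set_option maxRecDepth 100000 in
theorem t1 : ∀ g h : S3, g ^ 4 = 1 → h ^ 4 = 1 → (g * h) ^ 4 = 1 := by decide

set_option maxRecDepth 100000 in
theorem t2 : Fintype.card {g : S3 // g ^ 4 = 1} = 8 := by decide

set_option maxRecDepth 100000 in
theorem d1 : ∀ x : S3, x ≠ 1 → x ≠ -1 → ∃ g : S3, (x * g * x⁻¹ * g⁻¹) ^ 2 = -1 := by decide

set_option maxRecDepth 100000 in
theorem e3 : ∀ g : S3, (∀ h : S3, h ^ 4 = 1 → g * h = h * g) → (g = 1 ∨ g = -1) := by decide

set_option maxRecDepth 100000 in
theorem d2 : ∀ u q : S3, u ^ 2 = -1 → q ^ 4 = 1 →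
    ∃ g h : S3, q = g * u * g⁻¹ * (h * u * h⁻¹) := by decide

set_option maxRecDepth 100000 in
theorem c1 : ∀ x : S3, (∀ y : S3, y * x = x * y) → x = 1 ∨ x = -1 := by decide

set_option maxRecDepth 100000 in
theorem c2 : ∀ y : S3, y * (-1) = (-1) * y := by decide

set_option maxRecDepth 100000 in
theorem c3 : ∃ a b : S3, ¬ ∀ y : S3, y * (a * b * a⁻¹ * b⁻¹) = (a * b * a⁻¹ * b⁻¹) * y := by
  decide

def Q8 : Subgroup S3 where
  carrier := {g | g ^ 4 = 1}
  mul_mem' := fun {a b} ha hb => t1 a b ha hb
  one_mem' := one_pow 4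
  inv_mem' := fun {a} ha => by
    show (a⁻¹) ^ 4 = 1
    rw [inv_pow, show a ^ 4 = 1 from ha, inv_one]

theorem card_Q8 : Nat.card Q8 = 8 := by
  show Nat.card {g : S3 // g ^ 4 = 1} = 8
  rw [Nat.card_eq_fintype_card]
  exact t2

theorem niceGrp_S3 : NiceGrp S3 Q8 where
  normal := ⟨fun q hq g => by
    show (g * q * g⁻¹) ^ 4 = 1
    rw [conj_pow, show q ^ 4 = 1 from hq, mul_one, mul_inv_cancel]⟩
  dich := fun N hN => by
    by_cases h : N ≤ Subgroup.center S3
    · left; exact h
    · right
      obtain ⟨x, hxN, hxc⟩ := SetLike.not_le_iff_exists.mp h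
      have hx1 : x ≠ 1 := by
        rintro rfl; exact hxc (one_mem _)
      have hx2 : x ≠ -1 := by
        rintro rfl
        apply hxc
        rw [Subgroup.mem_center_iff]
        exact c2
      obtain ⟨g, hg⟩ := d1 x hx1 hx2
      have huN : x * g * x⁻¹ * g⁻¹ ∈ N := by
        have h1 : g * x⁻¹ * g⁻¹ ∈ N := hN.conj_mem _ (N.inv_mem hxN) g
        have h2 : x * g * x⁻¹ * g⁻¹ = x * (g * x⁻¹ * g⁻¹) := by group
        rw [h2]; exact N.mul_mem hxN h1
      intro q hq
      obtain ⟨a, b, hab⟩ := d2 _ q hg hq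
      rw [hab]
      exact N.mul_mem (hN.conj_mem _ huN a) (hN.conj_mem _ huN b)
  cent := fun a ha => by
    rcases e3 a ha with h | h
    · rw [h]; exact one_mem _
    · rw [h, Subgroup.mem_center_iff]; exact c2
  nonab := by
    obtain ⟨a, b, hab⟩ := c3
    refine ⟨a, b, fun hc => hab ?_⟩
    rw [Subgroup.mem_center_iff] at hc
    exact hc

/-- The nice structure of `SL₂` over a field with three elements. -/
theorem exists_nice_three {F : Type*} [Field F] [Fintype F] (hF : Fintype.card F = 3) :
    ∃ Q : Subgroup (Matrix.SpecialLinearGroup (Fin 2) F), NiceGrp _ Q ∧ Nat.card Q = 8 := by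
  classical
  let φ : ZMod 3 ≃+* F := ZMod.ringEquivOfPrime F Nat.prime_three hF
  let e : S3 ≃* Matrix.SpecialLinearGroup (Fin 2) F := Cfsg.Agent.Helper7.SLTransfer.slEquiv φ
  refine ⟨Q8.map e.toMonoidHom, niceGrp_S3.map e, ?_⟩
  have := Subgroup.card_map_of_injective (K := Q8) (f := e.toMonoidHom) e.injective
  rw [this, card_Q8]

/-- The nice structure of `SL₂` over a field of odd order other than three. -/
theorem nice_of_ne_three {F : Type*} [Field F] [Fintype F] (hF : Odd (Fintype.card F))
    (h3 : Fintype.card F ≠ 3) : NiceGrp (Matrix.SpecialLinearGroup (Fin 2) F) ⊤ :=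
  niceGrp_of_quasisimple
    (Cfsg.Agent.Helper2.GLInv.isQuasisimple_SL hF (le_refl 2) (fun h => h3 h.2))

end Cfsg.Agent.Helper2.SL2Pair
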