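import Mathlib
import Cfsg.Agent.Helper2.SL2PairA

/-!
Helper lemmas (helper2): the key dichotomy for a subgroup normalised by a nice factor of a
central product.
-/

set_option autoImplicit false

namespace Cfsg.Agent.Helper2.SL2Pair

open Cfsg.Agent.Helper2.SL2Central

section Key

variable {G : Type*} [Group G] {L L' M : Subgroup G}

theorem key (hc : ∀ x ∈ L, ∀ y ∈ L', x * y = y * x)
    (hZ : ∀ z ∈ L, (∀ l ∈ L, z * l = l * z) → z ∈ L')
    (hM : M ≤ L ⊔ L') (hMn : ∀ l ∈ L, ∀ m ∈ M, l * m * l⁻¹ ∈ M)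
    (Q : Subgroup ↥L) (hQ : NiceGrp ↥L Q) :
    Q.map L.subtype ≤ M ∨ M ≤ L' := by
  -- `M` normalizes `L`
  have hML : ∀ m ∈ M, ∀ l ∈ L, m * l * m⁻¹ ∈ L := by
    intro m hm l hl
    obtain ⟨a, ha, b, hb, rfl⟩ := mem_sup_of_commute hc (hM hm)
    have h1 := hc l hl b hb
    have : a * b * l * (a * b)⁻¹ = a * l * a⁻¹ := by
      calc a * b * l * (a * b)⁻¹ = a * (b * l) * b⁻¹ * a⁻¹ := by group
        _ = a * (l * b) * b⁻¹ * a⁻¹ := by rw [h1]
        _ = _ := by group
    rw [this]; exact mul_mem (mul_mem ha hl) (inv_mem ha)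
  let N : Subgroup ↥L := M.subgroupOf L
  have hNn : N.Normal := ⟨fun x hx g => by
    have hx' : (x : G) ∈ M := Subgroup.mem_subgroupOf.mp hx
    apply Subgroup.mem_subgroupOf.mpr
    have := hMn g g.2 x hx'
    simpa using this⟩
  rcases hQ.dich N hNn with h1 | h1
  swap
  · left
    rintro _ ⟨q, hq, rfl⟩
    exact Subgroup.mem_subgroupOf.mp (h1 hq)
  right
  have hcomm : ∀ m ∈ M, ∀ l ∈ L, ∀ l' ∈ L,
      (m * l * m⁻¹ * l⁻¹) * l' = l' * (m * l * m⁻¹ * l⁻¹) := by
    intro m hm l hl l' hl'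
    have hcL : m * l * m⁻¹ * l⁻¹ ∈ L := mul_mem (hML m hm l hl) (inv_mem hl)
    have hcM : m * l * m⁻¹ * l⁻¹ ∈ M := by
      have : m * l * m⁻¹ * l⁻¹ = m * (l * m⁻¹ * l⁻¹) := by group
      rw [this]; exact mul_mem hm (hMn l hl _ (inv_mem hm))
    have hmem : (⟨_, hcL⟩ : ↥L) ∈ Subgroup.center ↥L :=
      h1 (Subgroup.mem_subgroupOf.mpr hcM)
    rw [Subgroup.mem_center_iff] at hmem
    have := hmem ⟨l', hl'⟩
    exact (congrArg Subtype.val this).symm
  -- each `m ∈ M` centralizes `Q`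
  have hmQ : ∀ m ∈ M, ∀ q ∈ Q, m * (q : G) = (q : G) * m := by
    intro m hm
    have hcen : ∀ l : ↥L, (⟨m * l * m⁻¹ * (l : G)⁻¹,
        mul_mem (hML m hm l l.2) (inv_mem l.2)⟩ : ↥L) ∈ Subgroup.center ↥L := by
      intro l
      rw [Subgroup.mem_center_iff]
      intro g
      apply Subtype.ext
      exact (hcomm m hm l l.2 g g.2).symm
    let ψ : ↥L →* ↥(Subgroup.center ↥L) := MonoidHom.mk'
      (fun l => ⟨⟨m * l * m⁻¹ * (l : G)⁻¹, mul_mem (hML m hm l l.2) (inv_mem l.2)⟩, hcen l⟩)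
      (by
        intro l l'
        apply Subtype.ext
        apply Subtype.ext
        show m * ((l * l' : ↥L) : G) * m⁻¹ * ((l * l' : ↥L) : G)⁻¹
          = (m * l * m⁻¹ * (l : G)⁻¹) * (m * l' * m⁻¹ * (l' : G)⁻¹)
        have h2 := hcomm m hm l' l'.2 (l : G)⁻¹ (inv_mem l.2)
        rw [Subgroup.coe_mul]
        calc m * ((l : G) * l') * m⁻¹ * ((l : G) * l')⁻¹
            = m * l * m⁻¹ * ((m * l' * m⁻¹ * (l' : G)⁻¹) * (l : G)⁻¹) := by group
          _ = m * l * m⁻¹ * ((l : G)⁻¹ * (m * l' * m⁻¹ * (l' : G)⁻¹)) := by rw [h2]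
          _ = _ := by group)
    have hψ : ∀ l : ↥L, ψ l = 1 ↔ m * (l : G) = (l : G) * m := by
      intro l
      constructor
      · intro h
        have h3 : m * l * m⁻¹ * (l : G)⁻¹ = 1 := by
          have h4 := congrArg (fun x : ↥(Subgroup.center ↥L) => ((x : ↥L) : G)) h
          exact h4
        calc m * (l : G) = (m * l * m⁻¹ * (l : G)⁻¹) * l * m := by group
          _ = l * m := by rw [h3, one_mul]
      · intro h
        apply Subtype.ext
        apply Subtype.ext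
        show m * l * m⁻¹ * (l : G)⁻¹ = 1
        rw [h]; group
    have hcm : ∀ x y : ↥(Subgroup.center ↥L), x * y = y * x := by
      intro x y
      apply Subtype.ext
      exact Subgroup.mem_center_iff.mp y.2 x.1
    rcases hQ.dich ψ.ker (MonoidHom.normal_ker ψ) with h2 | h2
    · exfalso
      obtain ⟨a, b, hab⟩ := hQ.nonab
      apply hab
      apply h2
      rw [MonoidHom.mem_ker, map_mul, map_mul, map_mul, map_inv, map_inv]
      rw [hcm (ψ a) (ψ b)]
      group
    · intro q hq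
      exact (hψ q).mp (MonoidHom.mem_ker.mp (h2 hq))
  intro m hm
  obtain ⟨a, ha, b, hb, rfl⟩ := mem_sup_of_commute hc (hM hm)
  have hac : (⟨a, ha⟩ : ↥L) ∈ Subgroup.center ↥L := by
    apply hQ.cent
    intro q hq
    apply Subtype.ext
    show a * (q : G) = (q : G) * a
    have h1 := hmQ _ hm q hq
    have h2 := hc q q.2 b hb
    calc a * (q : G) = a * ((q : G) * b) * b⁻¹ := by group
      _ = a * (b * q) * b⁻¹ := by rw [h2]
      _ = (a * b * q) * b⁻¹ := by group
      _ = (q * (a * b)) * b⁻¹ := by rw [h1]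
      _ = q * a := by group
  have haL' : a ∈ L' := hZ a ha (fun l hl => by
    rw [Subgroup.mem_center_iff] at hac
    exact (congrArg Subtype.val (hac ⟨l, hl⟩)).symm)
  exact mul_mem haL' hb

end Key

end Cfsg.Agent.Helper2.SL2Pair
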