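import Mathlib
import Cfsg.Agent.Helper2.SL2PairB

/-!
Helper lemmas (helper2): a normal subgroup of `SL₂(q₁) ∘ SL₂(q₂)` of the order of the first
factor is one of the two factors.
-/

set_option autoImplicit false

namespace Cfsg.Agent.Helper2.SL2Pair

open Cfsg.Agent.Helper2.SL2Central Cfsg.Agent.Helper2.SL2Invol

theorem card_strict {a b : ℕ} (ha : 1 ≤ a) (hab : a < b) :
    a * (a ^ 2 - 1) < b * (b ^ 2 - 1) := by
  have h1 : a ^ 2 - 1 ≤ b ^ 2 - 1 := Nat.sub_le_sub_right (Nat.pow_le_pow_left hab.le 2) 1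
  have h2 : 0 < b ^ 2 - 1 := by
    have h3 : 2 ≤ b := by omega
    have : 4 ≤ b ^ 2 := by nlinarith
    omega
  calc a * (a ^ 2 - 1) ≤ a * (b ^ 2 - 1) := Nat.mul_le_mul_left a h1
    _ < b * (b ^ 2 - 1) := Nat.mul_lt_mul_of_pos_right hab h2

theorem card_inj {a b : ℕ} (ha : 1 ≤ a) (hb : 1 ≤ b)
    (h : a * (a ^ 2 - 1) = b * (b ^ 2 - 1)) : a = b := by
  rcases Nat.lt_trichotomy a b with h1 | h1 | h1
  · exact absurd h (card_strict ha h1).ne
  · exact h1
  · exact absurd h.symm (card_strict hb h1).ne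

theorem center_SL2 {F : Type*} [Field F] (h2 : (2 : F) ≠ 0)
    (z : Matrix.SpecialLinearGroup (Fin 2) F)
    (hz : z ∈ Subgroup.center (Matrix.SpecialLinearGroup (Fin 2) F)) : z = 1 ∨ z = negOne := by
  apply eq_one_or_negOne_of_sq h2
  obtain ⟨r, hr, hrz⟩ := Matrix.SpecialLinearGroup.mem_center_iff.mp hz
  rw [Fintype.card_fin] at hr
  apply Subtype.ext
  rw [Matrix.SpecialLinearGroup.coe_mul, ← hrz, ← map_mul, ← sq, hr, map_one]
  rfl

section

variable {G : Type*} [Group G]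

theorem relIndex_mul_card' {H K : Subgroup G} (h : H ≤ K) :
    H.relIndex K * Nat.card H = Nat.card K := by
  have := Subgroup.relIndex_mul_relIndex (⊥ : Subgroup G) H K bot_le h
  rw [Subgroup.relIndex_bot_left, Subgroup.relIndex_bot_left] at this
  rw [mul_comm]; exact this

theorem center_le {F : Type*} [Field F] [Fintype F] (hF : Odd (Fintype.card F))
    {L L' : Subgroup G} (e : ↥L ≃* Matrix.SpecialLinearGroup (Fin 2) F) {j : G}
    (hjL : j ∈ L) (hjL' : j ∈ L') (hj1 : j ≠ 1) (hjj : j * j = 1) :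
    ∀ z ∈ L, (∀ l ∈ L, z * l = l * z) → z ∈ L' := by
  intro z hz hcz
  have h2 := two_ne_zero_of_odd hF
  have hcen : e ⟨z, hz⟩ ∈ Subgroup.center _ := by
    rw [Subgroup.mem_center_iff]
    intro g
    obtain ⟨g', rfl⟩ := e.surjective g
    rw [← map_mul, ← map_mul]
    congr 1
    apply Subtype.ext
    exact (hcz g' g'.2).symm
  rcases center_SL2 h2 _ hcen with h | h
  · have h3 := e.injective (h.trans (map_one e).symm)
    have h4 : z = 1 := congrArg Subtype.val h3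
    rw [h4]; exact one_mem _
  · have h3 := e.injective (h.trans (e_j hF e hjL hj1 hjj).symm)
    have h4 : z = j := congrArg Subtype.val h3
    rw [h4]; exact hjL'

theorem exists_nice {F : Type*} [Field F] [Fintype F] (hF : Odd (Fintype.card F))
    {L : Subgroup G} (e : ↥L ≃* Matrix.SpecialLinearGroup (Fin 2) F) :
    ∃ Q : Subgroup ↥L, NiceGrp ↥L Q ∧
      ((Fintype.card F = 3 ∧ Nat.card Q = 8) ∨ (Fintype.card F ≠ 3 ∧ Q = ⊤)) := by
  by_cases h3 : Fintype.card F = 3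
  · obtain ⟨Q, hQ, hQc⟩ := exists_nice_three h3
    refine ⟨Q.map e.symm.toMonoidHom, hQ.map e.symm, Or.inl ⟨h3, ?_⟩⟩
    have := Subgroup.card_map_of_injective (K := Q) (f := e.symm.toMonoidHom) e.symm.injective
    rw [this, hQc]
  · refine ⟨(⊤ : Subgroup _).map e.symm.toMonoidHom, (nice_of_ne_three hF h3).map e.symm,
      Or.inr ⟨h3, ?_⟩⟩
    rw [← MonoidHom.range_eq_map, MonoidHom.range_eq_top]
    exact e.symm.surjective

theorem card_L {F : Type*} [Field F] [Fintype F] {L : Subgroup G}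
    (e : ↥L ≃* Matrix.SpecialLinearGroup (Fin 2) F) :
    Nat.card L = Fintype.card F * (Fintype.card F ^ 2 - 1) := by
  rw [Nat.card_congr e.toEquiv]
  exact Cfsg.Agent.Helper7.SL2.card_SL2

theorem three_le_card {F : Type*} [Field F] [Fintype F] (hF : Odd (Fintype.card F)) :
    3 ≤ Fintype.card F := by
  have h1 : 1 < Fintype.card F := Fintype.one_lt_card
  rcases hF with ⟨k, hk⟩
  omega

theorem card_ge {q : ℕ} (hq : 3 ≤ q) : 24 ≤ q * (q ^ 2 - 1) := by
  have h1 : 9 ≤ q ^ 2 := by nlinarith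
  have h2 : 8 ≤ q ^ 2 - 1 := by omega
  calc 24 = 3 * 8 := by norm_num
    _ ≤ q * (q ^ 2 - 1) := Nat.mul_le_mul hq h2

theorem card_ge' {q : ℕ} (hq : 5 ≤ q) : 120 ≤ q * (q ^ 2 - 1) := by
  have h1 : 25 ≤ q ^ 2 := by nlinarith
  have h2 : 24 ≤ q ^ 2 - 1 := by omega
  calc 120 = 5 * 24 := by norm_num
    _ ≤ q * (q ^ 2 - 1) := Nat.mul_le_mul hq h2

theorem main [Finite G]
    {F₁ : Type*} [Field F₁] [Fintype F₁] {F₂ : Type*} [Field F₂] [Fintype F₂]
    (hF₁ : Odd (Fintype.card F₁)) (hF₂ : Odd (Fintype.card F₂)) (L₁ L₂ : Subgroup G)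
    (e₁ : ↥L₁ ≃* Matrix.SpecialLinearGroup (Fin 2) F₁)
    (e₂ : ↥L₂ ≃* Matrix.SpecialLinearGroup (Fin 2) F₂)
    (hc : ∀ x ∈ L₁, ∀ y ∈ L₂, x * y = y * x) (j : G) (hj : orderOf j = 2)
    (hm : L₁ ⊓ L₂ = Subgroup.zpowers j)
    (M : Subgroup G) (hM : M ≤ L₁ ⊔ L₂)
    (hM1 : ∀ l ∈ L₁, ∀ m ∈ M, l * m * l⁻¹ ∈ M) (hM2 : ∀ l ∈ L₂, ∀ m ∈ M, l * m * l⁻¹ ∈ M)
    (hcard : Nat.card M = Nat.card L₁) :
    M = L₁ ∨ (M = L₂ ∧ Fintype.card F₁ = Fintype.card F₂) := by
  have hjj : j * j = 1 := by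
    have := pow_orderOf_eq_one j
    rw [hj, pow_two] at this
    exact this
  have hj1 : j ≠ 1 := by
    rintro rfl
    rw [orderOf_one] at hj
    omega
  have hjm : j ∈ L₁ ⊓ L₂ := by rw [hm]; exact Subgroup.mem_zpowers j
  have hjL₁ : j ∈ L₁ := hjm.1
  have hjL₂ : j ∈ L₂ := hjm.2
  have hc' : ∀ x ∈ L₂, ∀ y ∈ L₁, x * y = y * x := fun x hx y hy => (hc y hy x hx).symm
  have hZ1 := center_le hF₁ e₁ hjL₁ hjL₂ hj1 hjj
  have hZ2 := center_le hF₂ e₂ hjL₂ hjL₁ hj1 hjj
  have hq1 := three_le_card hF₁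
  have hq2 := three_le_card hF₂
  have hcL1 := card_L e₁
  have hcL2 := card_L e₂
  obtain ⟨Q1, hQ1, hQ1c⟩ := exists_nice hF₁ e₁
  obtain ⟨Q2, hQ2, hQ2c⟩ := exists_nice hF₂ e₂
  have k1 := key hc hZ1 hM hM1 Q1 hQ1
  have k2 := key hc' hZ2 (by rw [sup_comm]; exact hM) hM2 Q2 hQ2
  have hML1 : M ≤ L₁ → M = L₁ := fun h =>
    Subgroup.eq_of_le_of_card_ge h (le_of_eq hcard.symm)
  -- `⊤`-case helper
  have htop : ∀ (L : Subgroup G) (Q : Subgroup ↥L), Q = ⊤ → Q.map L.subtype = L := by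
    intro L Q hQ
    rw [hQ, ← MonoidHom.range_eq_map, Subgroup.range_subtype]
  rcases k2 with k2 | k2
  swap
  · exact Or.inl (hML1 k2)
  rcases k1 with k1 | k1
  · -- both `Q₁` and `Q₂` lie in `M`
    rcases hQ1c with ⟨h3, hc8⟩ | ⟨h3, hQt⟩
    swap
    · left
      rw [htop L₁ Q1 hQt] at k1
      exact (Subgroup.eq_of_le_of_card_ge k1 (le_of_eq hcard)).symm
    exfalso
    have hM24 : Nat.card M = 24 := by rw [hcard, hcL1, h3]; norm_num
    rcases hQ2c with ⟨h3', hc8'⟩ | ⟨h3', hQt'⟩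
    · -- both fields have three elements
      set A := Q1.map L₁.subtype with hA
      set B := Q2.map L₂.subtype with hB
      have hAc : Nat.card A = 8 := by
        rw [hA, Subgroup.card_map_of_injective (Subgroup.subtype_injective L₁), hc8]
      have hBc : Nat.card B = 8 := by
        rw [hB, Subgroup.card_map_of_injective (Subgroup.subtype_injective L₂), hc8']
      have hAL : A ≤ L₁ := by
        rintro _ ⟨q, -, rfl⟩; exact q.2
      have hBL : B ≤ L₂ := by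
        rintro _ ⟨q, -, rfl⟩; exact q.2
      have hAB : A ⊓ B ≤ Subgroup.zpowers j := by
        rw [← hm]; exact inf_le_inf hAL hBL
      have hABc : Nat.card ↥(A ⊓ B) ≤ 2 := by
        have := Subgroup.card_le_of_le hAB
        rwa [Nat.card_zpowers, hj] at this
      have h1 : A.relIndex M * Nat.card A = Nat.card M := relIndex_mul_card' k1
      have h2 : B.relIndex M * Nat.card B = Nat.card M := relIndex_mul_card' k2
      have h3 : (A ⊓ B).relIndex M * Nat.card ↥(A ⊓ B) = Nat.card M :=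
        relIndex_mul_card' (le_trans inf_le_left k1)
      have h4 : (A ⊓ B).relIndex M ≤ A.relIndex M * B.relIndex M := Subgroup.relIndex_inf_le
      rw [hAc, hM24] at h1
      rw [hBc, hM24] at h2
      rw [hM24] at h3
      have h5 : A.relIndex M = 3 := by omega
      have h6 : B.relIndex M = 3 := by omega
      rw [h5, h6] at h4
      have h7 : 0 < Nat.card ↥(A ⊓ B) := Nat.card_pos
      nlinarith
    · rw [htop L₂ Q2 hQt'] at k2
      have h5 : 5 ≤ Fintype.card F₂ := by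
        rcases hF₂ with ⟨k, hk⟩
        omega
      have := Subgroup.card_le_of_le k2
      rw [hM24, hcL2] at this
      have := card_ge' h5
      omega
  · -- `M ≤ L₂` and `Q₂ ≤ M`
    right
    have hML2 : M = L₂ := by
      rcases hQ2c with ⟨h3', hc8'⟩ | ⟨h3', hQt'⟩
      · apply Subgroup.eq_of_le_of_card_ge k1
        rw [hcard, hcL1, hcL2, h3']
        exact card_ge hq1
      · rw [htop L₂ Q2 hQt'] at k2
        exact le_antisymm k1 k2
    refine ⟨hML2, ?_⟩
    apply card_inj (by omega) (by omega)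
    rw [← hcL1, ← hcL2, ← hcard, hML2]

end

end Cfsg.Agent.Helper2.SL2Pair
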