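import Mathlib
import Cfsg.Agent.Helper2.SL2PairC

/-!
Helper lemmas (helper2): an element of `C_G(j)` outside `L₁L₂` normalises or swaps the factors.
-/

set_option autoImplicit false

namespace Cfsg.Agent.Helper2.SL2Pair

open Cfsg.Agent.Helper2.SL2Central Cfsg.Agent.Helper2.SL2Invol

theorem final {G : Type*} [Group G] [Finite G]
    {F₁ : Type*} [Field F₁] [Fintype F₁] {F₂ : Type*} [Field F₂] [Fintype F₂]
    (hF₁ : Odd (Fintype.card F₁)) (hF₂ : Odd (Fintype.card F₂)) (L₁ L₂ : Subgroup G)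
    (e₁ : ↥L₁ ≃* Matrix.SpecialLinearGroup (Fin 2) F₁)
    (e₂ : ↥L₂ ≃* Matrix.SpecialLinearGroup (Fin 2) F₂)
    (hc : ∀ x ∈ L₁, ∀ y ∈ L₂, x * y = y * x) (j : G) (hj : orderOf j = 2)
    (hm : L₁ ⊓ L₂ = Subgroup.zpowers j)
    (hle : L₁ ⊔ L₂ ≤ Subgroup.centralizer ({j} : Set G))
    (hi : (L₁ ⊔ L₂).relIndex (Subgroup.centralizer ({j} : Set G)) = 2) (n : G)
    (hn : n ∈ Subgroup.centralizer ({j} : Set G)) (hn' : n ∉ L₁ ⊔ L₂) :
    (L₁.map (MulAut.conj n).toMonoidHom = L₁ ∧ L₂.map (MulAut.conj n).toMonoidHom = L₂) ∨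
      (L₁.map (MulAut.conj n).toMonoidHom = L₂ ∧ Fintype.card F₁ = Fintype.card F₂ ∧
        ∃ n' ∈ Subgroup.centralizer ({j} : Set G), n' ∉ L₁ ⊔ L₂ ∧
          L₁.map (MulAut.conj n').toMonoidHom = L₂ ∧ n' ^ 2 ∈ Subgroup.zpowers j) := by
  classical
  have hc' : ∀ x ∈ L₂, ∀ y ∈ L₁, x * y = y * x := fun x hx y hy => (hc y hy x hx).symm
  have hm' : L₂ ⊓ L₁ = Subgroup.zpowers j := by rw [inf_comm]; exact hm
  have hXn : ((L₁ ⊔ L₂).subgroupOf (Subgroup.centralizer ({j} : Set G))).Normal :=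
    Subgroup.normal_of_index_eq_two hi
  have hconj : ∀ c ∈ Subgroup.centralizer ({j} : Set G), ∀ x ∈ L₁ ⊔ L₂,
      c * x * c⁻¹ ∈ L₁ ⊔ L₂ := by
    intro c hc0 x hx
    have := hXn.conj_mem ⟨x, hle hx⟩ (Subgroup.mem_subgroupOf.mpr hx) ⟨c, hc0⟩
    exact Subgroup.mem_subgroupOf.mp this
  have hn2 : n ^ 2 ∈ L₁ ⊔ L₂ := by
    have := Subgroup.sq_mem_of_index_two hi
      (⟨n, hn⟩ : ↥(Subgroup.centralizer ({j} : Set G)))
    exact Subgroup.mem_subgroupOf.mp this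
  have hninv : n⁻¹ ∈ Subgroup.centralizer ({j} : Set G) := inv_mem hn
  -- `L₁` and `L₂` are normal in `L₁ ⊔ L₂`
  have hnorm1 : ∀ y ∈ L₁ ⊔ L₂, ∀ l ∈ L₁, y * l * y⁻¹ ∈ L₁ := by
    intro y hy l hl
    obtain ⟨a, ha, b, hb, rfl⟩ := mem_sup_of_commute hc hy
    have h1 := hc l hl b hb
    have : a * b * l * (a * b)⁻¹ = a * l * a⁻¹ := by
      calc a * b * l * (a * b)⁻¹ = a * (b * l) * b⁻¹ * a⁻¹ := by group
        _ = a * (l * b) * b⁻¹ * a⁻¹ := by rw [h1]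
        _ = _ := by group
    rw [this]; exact mul_mem (mul_mem ha hl) (inv_mem ha)
  have hnorm2 : ∀ y ∈ L₁ ⊔ L₂, ∀ l ∈ L₂, y * l * y⁻¹ ∈ L₂ := by
    intro y hy l hl
    obtain ⟨a, ha, b, hb, rfl⟩ := mem_sup_of_commute hc hy
    have h1 := hc a ha l hl
    have h2 := hc a ha (b * l * b⁻¹) (mul_mem (mul_mem hb hl) (inv_mem hb))
    have : a * b * l * (a * b)⁻¹ = b * l * b⁻¹ := by
      calc a * b * l * (a * b)⁻¹ = (a * (b * l * b⁻¹)) * a⁻¹ := by group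
        _ = ((b * l * b⁻¹) * a) * a⁻¹ := by rw [h2]
        _ = _ := by group
    rw [this]; exact mul_mem (mul_mem hb hl) (inv_mem hb)
  -- conjugates by `n`
  have hMle : ∀ (L : Subgroup G), L ≤ L₁ ⊔ L₂ →
      L.map (MulAut.conj n).toMonoidHom ≤ L₁ ⊔ L₂ := by
    rintro L hL _ ⟨l, hl, rfl⟩
    exact hconj n hn l (hL hl)
  have hMnorm : ∀ (L : Subgroup G), (∀ y ∈ L₁ ⊔ L₂, ∀ l ∈ L, y * l * y⁻¹ ∈ L) →
      ∀ x ∈ L₁ ⊔ L₂, ∀ m ∈ L.map (MulAut.conj n).toMonoidHom,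
        x * m * x⁻¹ ∈ L.map (MulAut.conj n).toMonoidHom := by
    rintro L hL x hx _ ⟨l, hl, rfl⟩
    have hy : n⁻¹ * x * n ∈ L₁ ⊔ L₂ := by
      have := hconj n⁻¹ hninv x hx
      rwa [inv_inv] at this
    refine ⟨(n⁻¹ * x * n) * l * (n⁻¹ * x * n)⁻¹, hL _ hy l hl, ?_⟩
    show n * ((n⁻¹ * x * n) * l * (n⁻¹ * x * n)⁻¹) * n⁻¹ = x * (n * l * n⁻¹) * x⁻¹
    group
  have hMcard : ∀ (L : Subgroup G),
      Nat.card (L.map (MulAut.conj n).toMonoidHom) = Nat.card L := fun L =>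
    Subgroup.card_map_of_injective (MulAut.conj n).injective
  have hA := main hF₁ hF₂ L₁ L₂ e₁ e₂ hc j hj hm (L₁.map (MulAut.conj n).toMonoidHom)
    (hMle L₁ le_sup_left)
    (fun l hl m hm0 => hMnorm L₁ hnorm1 l (le_sup_left (a := L₁) (b := L₂) hl) m hm0)
    (fun l hl m hm0 => hMnorm L₁ hnorm1 l (le_sup_right (a := L₁) (b := L₂) hl) m hm0)
    (hMcard L₁)
  have hB := main hF₂ hF₁ L₂ L₁ e₂ e₁ hc' j hj hm' (L₂.map (MulAut.conj n).toMonoidHom)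
    (by rw [sup_comm]; exact hMle L₂ le_sup_right)
    (fun l hl m hm0 => hMnorm L₂ hnorm2 l (le_sup_right (a := L₁) (b := L₂) hl) m hm0)
    (fun l hl m hm0 => hMnorm L₂ hnorm2 l (le_sup_left (a := L₁) (b := L₂) hl) m hm0)
    (hMcard L₂)
  -- `L₁ ≠ L₂`
  have hne : L₁ ≠ L₂ := by
    intro h
    have h1 : L₁ = Subgroup.zpowers j := by rw [← hm, ← h, inf_idem]
    have h2 : Nat.card L₁ = 2 := by rw [h1, Nat.card_zpowers, hj]
    have h3 := card_L e₁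
    have h4 := card_ge (three_le_card hF₁)
    omega
  have hinj : L₁.map (MulAut.conj n).toMonoidHom ≠ L₂.map (MulAut.conj n).toMonoidHom :=
    fun h => hne (Subgroup.map_injective (MulAut.conj n).injective h)
  rcases hA with hA | ⟨hA, hq⟩
  · left
    refine ⟨hA, ?_⟩
    rcases hB with hB | ⟨hB, -⟩
    · exact hB
    · exact absurd (hA.trans hB.symm) hinj
  right
  have hB' : L₂.map (MulAut.conj n).toMonoidHom = L₁ := by
    rcases hB with hB | ⟨hB, -⟩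
    · exact absurd (hA.trans hB.symm) hinj
    · exact hB
  refine ⟨hA, hq, ?_⟩
  obtain ⟨a, ha, b, hb, hab⟩ := mem_sup_of_commute hc hn2
  have hain : a⁻¹ ∈ L₁ := inv_mem ha
  have haC : a⁻¹ ∈ Subgroup.centralizer ({j} : Set G) := hle (le_sup_left (a := L₁) (b := L₂) hain)
  have hmem1 : ∀ l ∈ L₁, n * l * n⁻¹ ∈ L₂ := by
    intro l hl
    rw [← hA]; exact ⟨l, hl, rfl⟩
  have hmem2 : ∀ l ∈ L₂, n * l * n⁻¹ ∈ L₁ := by
    intro l hl
    rw [← hB']; exact ⟨l, hl, rfl⟩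
  refine ⟨a⁻¹ * n, mul_mem haC hn, ?_, ?_, ?_⟩
  · intro h
    apply hn'
    have : n = a * (a⁻¹ * n) := by group
    rw [this]
    exact mul_mem (le_sup_left (a := L₁) (b := L₂) ha) h
  · ext x
    constructor
    · rintro ⟨l, hl, rfl⟩
      show (a⁻¹ * n) * l * (a⁻¹ * n)⁻¹ ∈ L₂
      have h1 := hmem1 l hl
      have h2 := hc a⁻¹ hain _ h1
      have : (a⁻¹ * n) * l * (a⁻¹ * n)⁻¹ = (a⁻¹ * (n * l * n⁻¹)) * a := by group
      rw [this, h2]
      have : (n * l * n⁻¹) * a⁻¹ * a = n * l * n⁻¹ := by group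
      rw [this]; exact h1
    · intro hx
      have hx' : x ∈ L₁.map (MulAut.conj n).toMonoidHom := by rw [hA]; exact hx
      obtain ⟨l, hl, rfl⟩ := hx'
      refine ⟨l, hl, ?_⟩
      show (a⁻¹ * n) * l * (a⁻¹ * n)⁻¹ = n * l * n⁻¹
      have h1 := hmem1 l hl
      have h2 := hc a⁻¹ hain _ h1
      have : (a⁻¹ * n) * l * (a⁻¹ * n)⁻¹ = (a⁻¹ * (n * l * n⁻¹)) * a := by group
      rw [this, h2]
      group
  · -- the square
    set c := n * a⁻¹ * n⁻¹ with hcdef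
    have hcL : c ∈ L₂ := hmem1 _ hain
    have hb' : n * b * n⁻¹ ∈ L₁ := hmem2 b hb
    have ha' : n * a * n⁻¹ ∈ L₂ := hmem1 a ha
    have hsq : (a⁻¹ * n) ^ 2 = c * b := by
      have h1 : (a⁻¹ * n) ^ 2 = a⁻¹ * (n * a⁻¹ * n⁻¹) * n ^ 2 := by
        rw [pow_two, pow_two]; group
      rw [h1, hab, ← hcdef]
      have h2 := hc a⁻¹ hain c hcL
      calc a⁻¹ * c * (a * b) = (a⁻¹ * c) * a * b := by group
        _ = (c * a⁻¹) * a * b := by rw [h2]
        _ = c * b := by group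
    -- `n` commutes with `n ^ 2`
    have hcomm : (n * a * n⁻¹) * (n * b * n⁻¹) = a * b := by
      have : (n * a * n⁻¹) * (n * b * n⁻¹) = n * (a * b) * n⁻¹ := by group
      rw [this, ← hab]; group
    have h3 : (n * b * n⁻¹) * (n * a * n⁻¹) = a * b := by
      rw [hc _ hb' _ ha']; exact hcomm
    have hbc : b * c = a⁻¹ * (n * b * n⁻¹) := by
      have hcinv : c = (n * a * n⁻¹)⁻¹ := by rw [hcdef]; group
      rw [hcinv]
      have : b = a⁻¹ * ((n * b * n⁻¹) * (n * a * n⁻¹)) := by rw [h3]; group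
      calc b * (n * a * n⁻¹)⁻¹
          = a⁻¹ * ((n * b * n⁻¹) * (n * a * n⁻¹)) * (n * a * n⁻¹)⁻¹ := by rw [← this]
        _ = _ := by group
    have hbcz : b * c ∈ Subgroup.zpowers j := by
      rw [← hm]
      refine ⟨?_, mul_mem hb hcL⟩
      rw [hbc]; exact mul_mem hain hb'
    have hbC : b ∈ Subgroup.centralizer ({j} : Set G) :=
      hle (le_sup_right (a := L₁) (b := L₂) hb)
    have hbj : b * j = j * b := by
      have := Subgroup.mem_centralizer_iff.mp hbC j rfl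
      exact this.symm
    have hbz : ∀ z ∈ Subgroup.zpowers j, b * z = z * b := by
      intro z hz
      obtain ⟨k, rfl⟩ := Subgroup.mem_zpowers_iff.mp hz
      exact ((Commute.zpow_right (show Commute b j from hbj) k)).eq
    rw [hsq]
    have : c * b = b⁻¹ * (b * c) * b := by group
    rw [this, mul_assoc, ← hbz _ hbcz]
    have : b⁻¹ * (b * (b * c)) = b * c := by group
    rw [this]; exact hbcz

end Cfsg.Agent.Helper2.SL2Pair
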