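import Mathlib

set_option autoImplicit false

/-!
Block embedding `diag(A, 1)` of `m × m` matrices into `(m+1) × (m+1)` matrices (last index special).
-/

namespace Cfsg.Agent.Helper2.SLStd

open Matrix

variable {F : Type*} [Field F] {m : ℕ}

/-- The block matrix `diag(A, 1)`. -/
def embL (A : Matrix (Fin m) (Fin m) F) : Matrix (Fin (m + 1)) (Fin (m + 1)) F :=
  Matrix.of fun i j =>
    Fin.lastCases (Fin.lastCases (1 : F) (fun _ => 0) j)
      (fun i' => Fin.lastCases (0 : F) (fun j' => A i' j') j) i

@[simp] theorem embL_last_last (A : Matrix (Fin m) (Fin m) F) :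
    embL A (Fin.last m) (Fin.last m) = 1 := by
  simp [embL]
@[simp] theorem embL_last_castSucc (A : Matrix (Fin m) (Fin m) F) (j : Fin m) :
    embL A (Fin.last m) j.castSucc = 0 := by
  simp [embL]
@[simp] theorem embL_castSucc_last (A : Matrix (Fin m) (Fin m) F) (i : Fin m) :
    embL A i.castSucc (Fin.last m) = 0 := by
  simp [embL]
@[simp] theorem embL_castSucc_castSucc (A : Matrix (Fin m) (Fin m) F) (i j : Fin m) :
    embL A i.castSucc j.castSucc = A i j := by
  simp [embL]

theorem embL_mul (A B : Matrix (Fin m) (Fin m) F) : embL A * embL B = embL (A * B) := by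
  ext i j
  refine Fin.lastCases ?_ (fun i' => ?_) i <;> refine Fin.lastCases ?_ (fun j' => ?_) j <;>
    simp [Matrix.mul_apply, Fin.sum_univ_castSucc]

theorem embL_one : embL (1 : Matrix (Fin m) (Fin m) F) = 1 := by
  ext i j
  refine Fin.lastCases ?_ (fun i' => ?_) i <;> refine Fin.lastCases ?_ (fun j' => ?_) j <;>
    simp [Matrix.one_apply, Fin.castSucc_ne_last, (Fin.castSucc_ne_last _).symm]

theorem embL_injective : Function.Injective (embL : Matrix (Fin m) (Fin m) F → _) := by
  intro A B h
  ext i j
  have := congrFun (congrFun h i.castSucc) j.castSucc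
  simpa using this

/-- Laplace expansion when the last row is `(0, …, 0, a)`. -/
theorem det_of_last_row_zero (g : Matrix (Fin (m + 1)) (Fin (m + 1)) F)
    (h : ∀ j : Fin m, g (Fin.last m) j.castSucc = 0) :
    g.det = g (Fin.last m) (Fin.last m) * (g.submatrix Fin.castSucc Fin.castSucc).det := by
  rw [Matrix.det_succ_row g (Fin.last m), Fin.sum_univ_castSucc]
  have h0 : ∑ j : Fin m, (-1 : F) ^ ((Fin.last m : ℕ) + (j.castSucc : ℕ)) *
      g (Fin.last m) j.castSucc *
      (g.submatrix (Fin.last m).succAbove j.castSucc.succAbove).det = 0 := by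
    apply Finset.sum_eq_zero
    intro j _
    rw [h j, mul_zero, zero_mul]
  rw [h0, zero_add, Fin.succAbove_last]
  have : ((-1 : F)) ^ ((Fin.last m : ℕ) + (Fin.last m : ℕ)) = 1 := by
    rw [← two_mul, pow_mul]; simp
  rw [this, one_mul]

theorem det_embL (A : Matrix (Fin m) (Fin m) F) : (embL A).det = A.det := by
  rw [det_of_last_row_zero _ (fun j => embL_last_castSucc A j)]
  have : (embL A).submatrix Fin.castSucc Fin.castSucc = A := by
    ext i j
    simp
  rw [this]
  simp

theorem eq_embL_of_block {g : Matrix (Fin (m + 1)) (Fin (m + 1)) F}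
    (hll : g (Fin.last m) (Fin.last m) = 1)
    (hg : ∀ j : Fin m, g (Fin.last m) j.castSucc = 0 ∧ g j.castSucc (Fin.last m) = 0) :
    embL (g.submatrix Fin.castSucc Fin.castSucc) = g := by
  ext i j
  refine Fin.lastCases ?_ (fun i' => ?_) i <;> refine Fin.lastCases ?_ (fun j' => ?_) j
  · simp [hll]
  · simp [(hg j').1]
  · simp [(hg i').2]
  · simp

end Cfsg.Agent.Helper2.SLStd
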