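import Mathlib
import Cfsg.Agent.Helper2.CharPLocal

set_option autoImplicit false

namespace Cfsg.Agent.Helper2.TransvCent

open Cfsg.Agent.Helper5

variable {n : ℕ} {F : Type*} [Field F]

/-- An element commuting with the transvection `1 + E_ij` has `i`-th column supported at `i`. -/
theorem col_of_commute {i j : Fin n} (hij : i ≠ j)
    (x : Matrix (Fin n) (Fin n) F)
    (hx : x * Matrix.transvection i j 1 = Matrix.transvection i j 1 * x)
    (a : Fin n) (ha : a ≠ i) : x a i = 0 := by
  have h1 := congrFun (congrFun hx a) j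
  rw [Matrix.mul_transvection_apply_same, Matrix.transvection_mul_apply_of_ne _ _ _ _ ha] at h1
  simpa using h1

/-- If `x` commutes with `1 + E_ik` then the `k`-th row of `x` is `x i i` times the `k`-th unit row. -/
theorem row_of_commute {i k : Fin n} (hik : i ≠ k)
    (x : Matrix (Fin n) (Fin n) F)
    (hx : x * Matrix.transvection i k 1 = Matrix.transvection i k 1 * x)
    (b : Fin n) : x k b = x i i * (1 : Matrix (Fin n) (Fin n) F) k b := by
  have h1 := congrFun (congrFun hx i) b
  rw [Matrix.transvection_mul_apply_same] at h1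
  by_cases hb : b = k
  · subst hb
    rw [Matrix.mul_transvection_apply_same] at h1
    simp only [one_mul, Matrix.one_apply_eq, mul_one] at h1 ⊢
    exact (add_left_cancel h1).symm
  · rw [Matrix.mul_transvection_apply_of_ne _ _ _ _ hb] at h1
    rw [Matrix.one_apply_ne (Ne.symm hb), mul_zero]
    simpa using h1.symm


/-- Matrices agreeing with the identity outside row `i`, and on the `(i,i)` entry. -/
def IsRowT (i : Fin n) (g : Matrix (Fin n) (Fin n) F) : Prop :=
  (∀ a, a ≠ i → ∀ b, g a b = (1 : Matrix (Fin n) (Fin n) F) a b) ∧ g i i = 1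

theorem IsRowT.one (i : Fin n) : IsRowT i (1 : Matrix (Fin n) (Fin n) F) :=
  ⟨fun _ _ _ => rfl, Matrix.one_apply_eq i⟩

theorem IsRowT.col {i : Fin n} {g : Matrix (Fin n) (Fin n) F} (hg : IsRowT i g) (a : Fin n) :
    g a i = (1 : Matrix (Fin n) (Fin n) F) a i := by
  by_cases ha : a = i
  · subst ha; rw [hg.2, Matrix.one_apply_eq]
  · exact hg.1 a ha i

theorem IsRowT.mul_apply {i : Fin n} {g h : Matrix (Fin n) (Fin n) F} (hg : IsRowT i g)
    (a : Fin n) (ha : a ≠ i) (b : Fin n) : (g * h) a b = h a b := by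
  rw [Matrix.mul_apply]
  rw [Finset.sum_eq_single a]
  · rw [hg.1 a ha a, Matrix.one_apply_eq, one_mul]
  · intro k _ hk
    rw [hg.1 a ha k, Matrix.one_apply_ne (Ne.symm hk), zero_mul]
  · intro h1; exact absurd (Finset.mem_univ a) h1

theorem IsRowT.mul_apply_col {i : Fin n} {g h : Matrix (Fin n) (Fin n) F} (hh : IsRowT i h)
    (a : Fin n) : (g * h) a i = g a i := by
  rw [Matrix.mul_apply]
  rw [Finset.sum_eq_single i]
  · rw [hh.2, mul_one]
  · intro k _ hk
    rw [hh.1 k hk i, Matrix.one_apply_ne hk, mul_zero]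
  · intro h1; exact absurd (Finset.mem_univ i) h1

theorem IsRowT.mul {i : Fin n} {g h : Matrix (Fin n) (Fin n) F} (hg : IsRowT i g)
    (hh : IsRowT i h) : IsRowT i (g * h) := by
  refine ⟨fun a ha b => ?_, ?_⟩
  · rw [hg.mul_apply a ha b]; exact hh.1 a ha b
  · rw [hh.mul_apply_col i]; exact hg.2

theorem IsRowT.of_mul_eq_one {i : Fin n} {g h : Matrix (Fin n) (Fin n) F} (hg : IsRowT i g)
    (h1 : g * h = 1) (h2 : h * g = 1) : IsRowT i h := by
  refine ⟨fun a ha b => ?_, ?_⟩
  · rw [← hg.mul_apply (h := h) a ha b, h1]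
  · rw [← hg.mul_apply_col (g := h) i, h2, Matrix.one_apply_eq]

theorem IsRowT.transvection {i k : Fin n} (hik : i ≠ k) :
    IsRowT i (Matrix.transvection i k (1 : F)) := by
  refine ⟨fun a ha b => ?_, ?_⟩
  · rw [Matrix.transvection, Matrix.add_apply,
      Matrix.single_apply_of_ne (h := fun h => ha h.1.symm), add_zero]
  · rw [Matrix.transvection, Matrix.add_apply,
      Matrix.single_apply_of_ne (h := fun h => hik h.2.symm), add_zero, Matrix.one_apply_eq]

/-- In characteristic two, such matrices square to one. -/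
theorem IsRowT.sq [CharP F 2] {i : Fin n} {g : Matrix (Fin n) (Fin n) F} (hg : IsRowT i g) :
    g * g = 1 := by
  ext a b
  by_cases ha : a = i
  · subst ha
    by_cases hb : b = a
    · subst hb
      rw [hg.mul_apply_col b, hg.2, Matrix.one_apply_eq]
    · rw [Matrix.mul_apply, Matrix.one_apply_ne (Ne.symm hb)]
      have hsum : ∑ k, g a k * g k b = ∑ k, (if k = a then g a b else if k = b then g a b else 0) := by
        apply Finset.sum_congr rfl
        intro k _
        by_cases hka : k = a
        · subst hka; rw [hg.2, one_mul, if_pos rfl]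
        · rw [if_neg hka, hg.1 k hka b]
          by_cases hkb : k = b
          · subst hkb; rw [Matrix.one_apply_eq, mul_one, if_pos rfl]
          · rw [Matrix.one_apply_ne hkb, mul_zero, if_neg hkb]
      rw [hsum]
      have h3 : ∀ k : Fin n, (if k = a then g a b else if k = b then g a b else 0) =
          (if k = a then g a b else 0) + (if k = b then g a b else 0) := by
        intro k
        by_cases hka : k = a
        · subst hka; rw [if_pos rfl, if_pos rfl, if_neg (Ne.symm hb), add_zero]
        · rw [if_neg hka, if_neg hka, zero_add]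
      simp_rw [h3]
      rw [Finset.sum_add_distrib, Finset.sum_ite_eq', Finset.sum_ite_eq']
      simp only [Finset.mem_univ, if_true]
      exact CharTwo.add_self_eq_zero _
  · rw [hg.mul_apply a ha b, hg.1 a ha b]


theorem mul_apply_col_of_col {i : Fin n} {x y : Matrix (Fin n) (Fin n) F}
    (hy : ∀ a, a ≠ i → y a i = 0) (a : Fin n) : (x * y) a i = x a i * y i i := by
  rw [Matrix.mul_apply, Finset.sum_eq_single i]
  · intro k _ hk
    rw [hy k hk, mul_zero]
  · intro h1; exact absurd (Finset.mem_univ i) h1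

theorem IsRowT.conj {i : Fin n} {g x y : Matrix (Fin n) (Fin n) F} (hg : IsRowT i g)
    (hx : ∀ a, a ≠ i → x a i = 0) (hy : ∀ a, a ≠ i → y a i = 0) (hxy : x * y = 1) :
    IsRowT i (x * g * y) := by
  have h1 : ∀ a, a ≠ i → ∀ l, (x * g) a l = x a l := by
    intro a ha l
    rw [Matrix.mul_apply]
    have : ∑ k, x a k * g k l = ∑ k, x a k * (1 : Matrix (Fin n) (Fin n) F) k l := by
      apply Finset.sum_congr rfl
      intro k _
      by_cases hk : k = i
      · subst hk; rw [hx a ha, zero_mul, zero_mul]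
      · rw [hg.1 k hk l]
    rw [this, ← Matrix.mul_apply, Matrix.mul_one]
  refine ⟨fun a ha b => ?_, ?_⟩
  · rw [Matrix.mul_apply]
    have : ∑ l, (x * g) a l * y l b = ∑ l, x a l * y l b :=
      Finset.sum_congr rfl (fun l _ => by rw [h1 a ha l])
    rw [this, ← Matrix.mul_apply, hxy]
  · rw [mul_apply_col_of_col hy, hg.mul_apply_col i, ← mul_apply_col_of_col hy, hxy,
      Matrix.one_apply_eq]


section grp

/-- The group of "row transvections" inside the centralizer of `t`. -/
def rowT (i : Fin n) (t : Matrix.SpecialLinearGroup (Fin n) F) :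
    Subgroup ↥(Subgroup.centralizer ({t} : Set (Matrix.SpecialLinearGroup (Fin n) F))) where
  carrier := {g | IsRowT i ((g : Matrix.SpecialLinearGroup (Fin n) F) : Matrix (Fin n) (Fin n) F)}
  one_mem' := by
    show IsRowT i _
    simpa using IsRowT.one i
  mul_mem' := by
    intro a b ha hb
    show IsRowT i _
    have := IsRowT.mul ha hb
    simpa using this
  inv_mem' := by
    intro a ha
    show IsRowT i _
    rw [Subgroup.coe_inv]
    apply IsRowT.of_mul_eq_one ha
    · rw [← Matrix.SpecialLinearGroup.coe_mul, mul_inv_cancel, Matrix.SpecialLinearGroup.coe_one]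
    · rw [← Matrix.SpecialLinearGroup.coe_mul, inv_mul_cancel, Matrix.SpecialLinearGroup.coe_one]

theorem mem_rowT {i : Fin n} {t : Matrix.SpecialLinearGroup (Fin n) F}
    (g : ↥(Subgroup.centralizer ({t} : Set (Matrix.SpecialLinearGroup (Fin n) F)))) :
    g ∈ rowT i t ↔ IsRowT i ((g : Matrix.SpecialLinearGroup (Fin n) F) : Matrix (Fin n) (Fin n) F) :=
  Iff.rfl

theorem col_of_mem_centralizer {i j : Fin n} (hij : i ≠ j)
    {t : Matrix.SpecialLinearGroup (Fin n) F}
    (ht : (t : Matrix (Fin n) (Fin n) F) = Matrix.transvection i j 1)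
    (x : Matrix.SpecialLinearGroup (Fin n) F)
    (hx : x ∈ Subgroup.centralizer ({t} : Set (Matrix.SpecialLinearGroup (Fin n) F)))
    (a : Fin n) (ha : a ≠ i) : (x : Matrix (Fin n) (Fin n) F) a i = 0 := by
  have h1 : t * x = x * t := Subgroup.mem_centralizer_iff.mp hx t rfl
  have h2 := congrArg (fun z : Matrix.SpecialLinearGroup (Fin n) F => (z : Matrix (Fin n) (Fin n) F)) h1
  simp only [Matrix.SpecialLinearGroup.coe_mul, ht] at h2
  exact col_of_commute hij _ h2.symm a ha


theorem eq_one_of_ne_zero_of_card_two [Fintype F] (hF : Fintype.card F = 2) (a : F) (ha : a ≠ 0) :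
    a = 1 := by
  classical
  by_contra h1
  have h2 : ({0, 1, a} : Finset F).card ≤ Fintype.card F := Finset.card_le_univ _
  rw [Finset.card_insert_of_notMem, Finset.card_insert_of_notMem, Finset.card_singleton] at h2
  · omega
  · simp only [Finset.mem_singleton]; exact fun h => h1 h.symm
  · simp only [Finset.mem_insert, Finset.mem_singleton, not_or]
    exact ⟨zero_ne_one, fun h => ha h.symm⟩

theorem transvection_mem_centralizer {i j k : Fin n} (hij : i ≠ j) (hik : i ≠ k)
    {t : Matrix.SpecialLinearGroup (Fin n) F}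
    (ht : (t : Matrix (Fin n) (Fin n) F) = Matrix.transvection i j 1)
    (u : Matrix.SpecialLinearGroup (Fin n) F)
    (hu : (u : Matrix (Fin n) (Fin n) F) = Matrix.transvection i k 1) :
    u ∈ Subgroup.centralizer ({t} : Set (Matrix.SpecialLinearGroup (Fin n) F)) := by
  rw [Subgroup.mem_centralizer_iff]
  intro h hh
  rw [Set.mem_singleton_iff] at hh
  subst hh
  apply Subtype.ext
  rw [Matrix.SpecialLinearGroup.coe_mul, Matrix.SpecialLinearGroup.coe_mul, ht, hu]
  have e1 : (Matrix.single i j (1 : F) : Matrix (Fin n) (Fin n) F) * Matrix.single i k (1 : F) = 0 :=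
    Matrix.single_mul_single_of_ne _ _ _ _ (Ne.symm hij) _
  have e2 : (Matrix.single i k (1 : F) : Matrix (Fin n) (Fin n) F) * Matrix.single i j (1 : F) = 0 :=
    Matrix.single_mul_single_of_ne _ _ _ _ (Ne.symm hik) _
  simp only [Matrix.transvection, Matrix.add_mul, Matrix.mul_add, Matrix.one_mul, Matrix.mul_one,
    e1, e2]
  abel

theorem hasCharP_centralizer [Fintype F] [DecidableEq F] (hF : Fintype.card F = 2)
    {i j : Fin n} (hij : i ≠ j) (t : Matrix.SpecialLinearGroup (Fin n) F)
    (ht : (t : Matrix (Fin n) (Fin n) F) = Matrix.transvection i j 1) :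
    HasCharP 2 ↥(Subgroup.centralizer ({t} : Set (Matrix.SpecialLinearGroup (Fin n) F))) := by
  haveI : Fact (Nat.Prime 2) := ⟨Nat.prime_two⟩
  haveI : CharP F 2 := charP_of_card_eq_prime hF
  have hnorm : (rowT i t).Normal := by
    constructor
    intro g hg x
    rw [mem_rowT] at hg ⊢
    rw [Subgroup.coe_mul, Subgroup.coe_mul, Matrix.SpecialLinearGroup.coe_mul,
      Matrix.SpecialLinearGroup.coe_mul, Subgroup.coe_inv]
    apply hg.conj
    · exact col_of_mem_centralizer hij ht _ x.2
    · exact col_of_mem_centralizer hij ht _ (inv_mem x.2)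
    · rw [← Matrix.SpecialLinearGroup.coe_mul, mul_inv_cancel, Matrix.SpecialLinearGroup.coe_one]
  have hp : IsPGroup 2 ↥(rowT i t) := by
    intro g
    refine ⟨1, ?_⟩
    apply Subtype.ext
    apply Subtype.ext
    apply Subtype.ext
    rw [pow_one, pow_two, Subgroup.coe_mul, Subgroup.coe_mul, Matrix.SpecialLinearGroup.coe_mul,
      Subgroup.coe_one, Subgroup.coe_one, Matrix.SpecialLinearGroup.coe_one]
    exact ((mem_rowT g.1).mp g.2).sq
  have hle : rowT i t ≤ Cfsg.pCore 2 _ := le_pCore hnorm hp
  intro x hx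
  apply hle
  rw [mem_rowT]
  have hcol := col_of_mem_centralizer hij ht _ x.2
  have hcoli := col_of_mem_centralizer hij ht _ (inv_mem x.2)
  -- x i i = 1
  have hxii : ((x : Matrix.SpecialLinearGroup (Fin n) F) : Matrix (Fin n) (Fin n) F) i i = 1 := by
    apply eq_one_of_ne_zero_of_card_two hF
    intro h0
    have h1 : (((x : Matrix.SpecialLinearGroup (Fin n) F)⁻¹ : Matrix.SpecialLinearGroup (Fin n) F) : Matrix (Fin n) (Fin n) F) * ((x : Matrix.SpecialLinearGroup (Fin n) F) : Matrix (Fin n) (Fin n) F) = 1 := by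
      rw [← Matrix.SpecialLinearGroup.coe_mul, inv_mul_cancel, Matrix.SpecialLinearGroup.coe_one]
    have h2 := congrFun (congrFun h1 i) i
    rw [mul_apply_col_of_col hcol, h0, mul_zero, Matrix.one_apply_eq] at h2
    exact zero_ne_one h2
  refine ⟨fun k hk b => ?_, hxii⟩
  -- the transvection `1 + E_ik`
  have hdet : (Matrix.transvection i k (1 : F)).det = 1 := Matrix.det_transvection_of_ne i k (Ne.symm hk) 1
  set u : Matrix.SpecialLinearGroup (Fin n) F := ⟨Matrix.transvection i k (1 : F), hdet⟩ with hu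
  have huX : u ∈ Subgroup.centralizer ({t} : Set (Matrix.SpecialLinearGroup (Fin n) F)) :=
    transvection_mem_centralizer hij (Ne.symm hk) ht u rfl
  have huV : (⟨u, huX⟩ : ↥(Subgroup.centralizer ({t} : Set (Matrix.SpecialLinearGroup (Fin n) F)))) ∈ rowT i t := by
    rw [mem_rowT]
    exact IsRowT.transvection (Ne.symm hk)
  have h3 := Subgroup.mem_centralizer_iff.mp hx _ (hle huV)
  have h4 := congrArg (fun z : ↥(Subgroup.centralizer ({t} : Set (Matrix.SpecialLinearGroup (Fin n) F))) => ((z : Matrix.SpecialLinearGroup (Fin n) F) : Matrix (Fin n) (Fin n) F)) h3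
  simp only [Subgroup.coe_mul, Matrix.SpecialLinearGroup.coe_mul] at h4
  have h5 := row_of_commute (Ne.symm hk) _ h4.symm b
  rw [h5, hxii, one_mul]

end grp

end Cfsg.Agent.Helper2.TransvCent
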