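import Mathlib
import Cfsg.Agent.Helper2.SLStdA
import Cfsg.Agent.Helper2.TransvCent

set_option autoImplicit false

/-!
The block subgroup `L = {diag(A, 1)} ≅ SL_m(F)` of `SL_{m+1}(F)` and its centralizer.
-/

namespace Cfsg.Agent.Helper2.SLStd

open Matrix

variable {F : Type*} [Field F] {m : ℕ}

/-- The matrix `diag(-1, …, -1, 1)`. -/
def tM (F : Type*) [Field F] (m : ℕ) : Matrix (Fin (m + 1)) (Fin (m + 1)) F :=
  Matrix.diagonal (fun i : Fin (m + 1) => if (i : ℕ) + 1 = m + 1 then (1 : F) else -1)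

theorem tM_diag_last : (if ((Fin.last m : Fin (m + 1)) : ℕ) + 1 = m + 1 then (1 : F) else -1) = 1 := by
  rw [if_pos]; simp

theorem tM_diag_castSucc (j : Fin m) :
    (if ((j.castSucc : Fin (m + 1)) : ℕ) + 1 = m + 1 then (1 : F) else -1) = -1 := by
  rw [if_neg]
  have := j.2
  simp only [Fin.val_castSucc]
  omega

/-- Block-diagonal matrices. -/
def IsBlk (g : Matrix (Fin (m + 1)) (Fin (m + 1)) F) : Prop :=
  ∀ j : Fin m, g (Fin.last m) j.castSucc = 0 ∧ g j.castSucc (Fin.last m) = 0

theorem isBlk_of_comm (h2 : (2 : F) ≠ 0) {g : Matrix (Fin (m + 1)) (Fin (m + 1)) F}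
    (hg : tM F m * g = g * tM F m) : IsBlk g := by
  intro j
  constructor
  · have h1 := congrFun (congrFun hg (Fin.last m)) j.castSucc
    rw [tM, Matrix.diagonal_mul, Matrix.mul_diagonal, tM_diag_last, tM_diag_castSucc] at h1
    have h3 : (2 : F) * g (Fin.last m) j.castSucc = 0 := by linear_combination h1
    rcases mul_eq_zero.mp h3 with h | h
    · exact absurd h h2
    · exact h
  · have h1 := congrFun (congrFun hg j.castSucc) (Fin.last m)
    rw [tM, Matrix.diagonal_mul, Matrix.mul_diagonal, tM_diag_last, tM_diag_castSucc] at h1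
    have h3 : (2 : F) * g j.castSucc (Fin.last m) = 0 := by linear_combination (-1 : F) * h1
    rcases mul_eq_zero.mp h3 with h | h
    · exact absurd h h2
    · exact h

theorem tM_mul_embL (A : Matrix (Fin m) (Fin m) F) : tM F m * embL A = embL A * tM F m := by
  ext i j
  rw [tM, Matrix.diagonal_mul, Matrix.mul_diagonal]
  refine Fin.lastCases ?_ (fun i' => ?_) i <;> refine Fin.lastCases ?_ (fun j' => ?_) j
  · exact mul_comm _ _
  · rw [embL_last_castSucc]; simp
  · rw [embL_castSucc_last]; simp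
  · rw [tM_diag_castSucc, tM_diag_castSucc]; ring

theorem mul_last_last {g h : Matrix (Fin (m + 1)) (Fin (m + 1)) F} (hg : IsBlk g) :
    (g * h) (Fin.last m) (Fin.last m) = g (Fin.last m) (Fin.last m) * h (Fin.last m) (Fin.last m) := by
  rw [Matrix.mul_apply, Fin.sum_univ_castSucc]
  have : ∑ j : Fin m, g (Fin.last m) j.castSucc * h j.castSucc (Fin.last m) = 0 := by
    apply Finset.sum_eq_zero
    intro j _
    rw [(hg j).1, zero_mul]
  rw [this, zero_add]

/-- The embedding `SL_m(F) → SL_{m+1}(F)`. -/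
def phiS (F : Type*) [Field F] (m : ℕ) :
    SpecialLinearGroup (Fin m) F →* SpecialLinearGroup (Fin (m + 1)) F :=
  MonoidHom.mk' (fun A => ⟨embL (A : Matrix (Fin m) (Fin m) F), by rw [det_embL]; exact A.2⟩) (by
    intro A B
    apply Subtype.ext
    change embL ((A * B : SpecialLinearGroup (Fin m) F) : Matrix (Fin m) (Fin m) F) = embL (A : Matrix (Fin m) (Fin m) F) * embL (B : Matrix (Fin m) (Fin m) F)
    rw [embL_mul]
    rfl)

theorem phiS_val (A : SpecialLinearGroup (Fin m) F) :
    ((phiS F m A : SpecialLinearGroup (Fin (m + 1)) F) : Matrix (Fin (m + 1)) (Fin (m + 1)) F) =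
      embL A.1 := rfl

theorem phiS_injective : Function.Injective (phiS F m) := by
  intro A B h
  apply Subtype.ext
  apply embL_injective
  have := congrArg (fun x : SpecialLinearGroup (Fin (m + 1)) F =>
    (x : Matrix (Fin (m + 1)) (Fin (m + 1)) F)) h
  simpa [phiS_val] using this

/-- The block subgroup `L ≅ SL_m(F)`. -/
def L (F : Type*) [Field F] (m : ℕ) : Subgroup (SpecialLinearGroup (Fin (m + 1)) F) :=
  (phiS F m).range

theorem mem_L_iff (g : SpecialLinearGroup (Fin (m + 1)) F) :
    g ∈ L F m ↔ IsBlk (g : Matrix (Fin (m + 1)) (Fin (m + 1)) F) ∧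
      (g : Matrix (Fin (m + 1)) (Fin (m + 1)) F) (Fin.last m) (Fin.last m) = 1 := by
  constructor
  · rintro ⟨A, rfl⟩
    rw [phiS_val]
    exact ⟨fun j => ⟨embL_last_castSucc _ j, embL_castSucc_last _ j⟩, embL_last_last _⟩
  · rintro ⟨hb, hll⟩
    have hsub : ((g : Matrix (Fin (m + 1)) (Fin (m + 1)) F).submatrix
        Fin.castSucc Fin.castSucc).det = 1 := by
      have := det_of_last_row_zero (g : Matrix (Fin (m + 1)) (Fin (m + 1)) F) (fun j => (hb j).1)
      rw [g.2, hll, one_mul] at this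
      exact this.symm
    refine ⟨⟨_, hsub⟩, ?_⟩
    apply Subtype.ext
    exact eq_embL_of_block hll hb

end Cfsg.Agent.Helper2.SLStd
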