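import Mathlib
import Cfsg.Agent.Helper2.SLStdB

set_option autoImplicit false

/-!
The centralizer of the block subgroup `L` in `SL_{m+1}(F)` consists of diagonal matrices
`diag(λ, …, λ, μ)`.
-/

namespace Cfsg.Agent.Helper2.SLStd

open Matrix

variable {F : Type*} [Field F] {m : ℕ}

/-- Matrices of the form `diag(λ, …, λ, μ)`. -/
def IsDg (g : Matrix (Fin (m + 1)) (Fin (m + 1)) F) : Prop :=
  (∀ a b, a ≠ b → g a b = 0) ∧
    ∀ j j' : Fin m, g j.castSucc j.castSucc = g j'.castSucc j'.castSucc

theorem IsDg.eq_diagonal {g : Matrix (Fin (m + 1)) (Fin (m + 1)) F} (hg : IsDg g) :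
    g = Matrix.diagonal (fun i => g i i) := by
  ext a b
  by_cases hab : a = b
  · subst hab; rw [Matrix.diagonal_apply_eq]
  · rw [Matrix.diagonal_apply_ne _ hab, hg.1 a b hab]

theorem IsDg.commute {g h : Matrix (Fin (m + 1)) (Fin (m + 1)) F} (hg : IsDg g) (hh : IsDg h) :
    g * h = h * g := by
  rw [hg.eq_diagonal, hh.eq_diagonal, Matrix.diagonal_mul_diagonal, Matrix.diagonal_mul_diagonal]
  congr 1
  ext i
  exact mul_comm _ _

/-- The transvection `1 + E_{ik}` (`i ≠ k` among the first `m` indices) lies in `L`. -/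
theorem transvection_mem_L {i k : Fin m} (hik : i ≠ k)
    (u : SpecialLinearGroup (Fin (m + 1)) F)
    (hu : (u : Matrix (Fin (m + 1)) (Fin (m + 1)) F) =
      Matrix.transvection i.castSucc k.castSucc (1 : F)) : u ∈ L F m := by
  rw [mem_L_iff, hu]
  refine ⟨fun j => ⟨?_, ?_⟩, ?_⟩
  · rw [Matrix.transvection, Matrix.add_apply, Matrix.one_apply_ne (Fin.castSucc_ne_last j).symm,
      Matrix.single_apply_of_ne (h := fun h => Fin.castSucc_ne_last i h.1), add_zero]
  · rw [Matrix.transvection, Matrix.add_apply, Matrix.one_apply_ne (Fin.castSucc_ne_last j),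
      Matrix.single_apply_of_ne (h := fun h => Fin.castSucc_ne_last k h.2), add_zero]
  · rw [Matrix.transvection, Matrix.add_apply, Matrix.one_apply_eq,
      Matrix.single_apply_of_ne (h := fun h => Fin.castSucc_ne_last k h.2), add_zero]

theorem exists_transvection {i k : Fin m} (hik : i ≠ k) :
    ∃ u : SpecialLinearGroup (Fin (m + 1)) F, u ∈ L F m ∧
      (u : Matrix (Fin (m + 1)) (Fin (m + 1)) F) =
        Matrix.transvection i.castSucc k.castSucc (1 : F) := by
  have hne : (i.castSucc : Fin (m + 1)) ≠ k.castSucc := fun h => hik (Fin.castSucc_injective _ h)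
  have hdet : (Matrix.transvection i.castSucc k.castSucc (1 : F)).det = 1 :=
    Matrix.det_transvection_of_ne _ _ hne 1
  exact ⟨⟨_, hdet⟩, transvection_mem_L hik _ rfl, rfl⟩

/-- Elements centralizing `L` are of the form `diag(λ, …, λ, μ)`. -/
theorem isDg_of_mem_centralizer (hm : 2 ≤ m) (g : SpecialLinearGroup (Fin (m + 1)) F)
    (hg : g ∈ Subgroup.centralizer (L F m : Set (SpecialLinearGroup (Fin (m + 1)) F))) :
    IsDg (g : Matrix (Fin (m + 1)) (Fin (m + 1)) F) := by
  have hcomm : ∀ {i k : Fin m}, i ≠ k →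
      (g : Matrix (Fin (m + 1)) (Fin (m + 1)) F) * Matrix.transvection i.castSucc k.castSucc (1 : F) =
        Matrix.transvection i.castSucc k.castSucc (1 : F) * (g : Matrix (Fin (m + 1)) (Fin (m + 1)) F) := by
    intro i k hik
    obtain ⟨u, huL, hu⟩ := exists_transvection (F := F) hik
    have h1 := Subgroup.mem_centralizer_iff.mp hg u huL
    have h2 := congrArg (fun z : SpecialLinearGroup (Fin (m + 1)) F =>
      (z : Matrix (Fin (m + 1)) (Fin (m + 1)) F)) h1
    simp only [Matrix.SpecialLinearGroup.coe_mul, hu] at h2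
    exact h2.symm
  have hother : ∀ j : Fin m, ∃ k : Fin m, j ≠ k := by
    intro j
    by_cases hj : (j : ℕ) = 0
    · refine ⟨⟨1, by omega⟩, ?_⟩
      intro h
      have := congrArg Fin.val h
      simp only at this
      omega
    · refine ⟨⟨0, by omega⟩, ?_⟩
      intro h
      have := congrArg Fin.val h
      simp only at this
      omega
  have hne : ∀ {i k : Fin m}, i ≠ k → (i.castSucc : Fin (m + 1)) ≠ k.castSucc :=
    fun hik h => hik (Fin.castSucc_injective _ h)
  refine ⟨?_, ?_⟩
  · intro a b hab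
    revert hab
    refine Fin.lastCases ?_ (fun j => ?_) b
    · -- column `last`
      refine Fin.lastCases ?_ (fun k => ?_) a
      · intro h; exact absurd rfl h
      · intro _
        obtain ⟨i, hki⟩ := hother k
        have := Cfsg.Agent.Helper2.TransvCent.row_of_commute (hne (Ne.symm hki)) _
          (hcomm (Ne.symm hki)) (Fin.last m)
        rw [this, Matrix.one_apply_ne (Fin.castSucc_ne_last k), mul_zero]
    · intro hab
      obtain ⟨k, hjk⟩ := hother j
      exact Cfsg.Agent.Helper2.TransvCent.col_of_commute (hne hjk) _ (hcomm hjk) a hab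
  · intro j j'
    by_cases hjj : j = j'
    · rw [hjj]
    · have := Cfsg.Agent.Helper2.TransvCent.row_of_commute (hne hjj) _ (hcomm hjj) j'.castSucc
      rw [this, Matrix.one_apply_eq, mul_one]

end Cfsg.Agent.Helper2.SLStd
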