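import Mathlib
import Cfsg.Agent.Helper2.SLStdC

set_option autoImplicit false

namespace Cfsg.Agent.Helper2.SLStd

open Matrix

variable {F : Type*} [Field F] {m : ℕ}

/-- The only involution of the form `diag(λ, …, λ, μ)` in `SL_{m+1}(F)`, `m` even, is `t`. -/
theorem eq_tM_of_isDg_invol (hm : Even m) (y : SpecialLinearGroup (Fin (m + 1)) F)
    (hy : IsDg (y : Matrix (Fin (m + 1)) (Fin (m + 1)) F)) (hyy : y * y = 1) (hy1 : y ≠ 1) :
    (y : Matrix (Fin (m + 1)) (Fin (m + 1)) F) = tM F m := by
  set d : Fin (m + 1) → F := fun i => (y : Matrix (Fin (m + 1)) (Fin (m + 1)) F) i i with hd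
  have hdiag : (y : Matrix (Fin (m + 1)) (Fin (m + 1)) F) = Matrix.diagonal d := hy.eq_diagonal
  have hsq : ∀ i, d i * d i = 1 := by
    intro i
    have h1 := congrArg (fun z : SpecialLinearGroup (Fin (m + 1)) F =>
      (z : Matrix (Fin (m + 1)) (Fin (m + 1)) F) i i) hyy
    simp only [Matrix.SpecialLinearGroup.coe_mul, Matrix.SpecialLinearGroup.coe_one,
      Matrix.one_apply_eq] at h1
    rw [hdiag, Matrix.diagonal_mul_diagonal, Matrix.diagonal_apply_eq] at h1
    exact h1
  have hdet : (∏ j : Fin m, d j.castSucc) * d (Fin.last m) = 1 := by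
    have h1 := y.2
    rw [hdiag, Matrix.det_diagonal, Fin.prod_univ_castSucc] at h1
    exact h1
  -- all `d j.castSucc` are equal
  have heq : ∀ j j' : Fin m, d j.castSucc = d j'.castSucc := hy.2
  have hpm : ∀ i, d i = 1 ∨ d i = -1 := fun i => mul_self_eq_one_iff.mp (hsq i)
  have hprod : (∏ j : Fin m, d j.castSucc) = 1 := by
    rcases Nat.eq_zero_or_pos m with h0 | hpos
    · subst h0; simp
    · have hc : ∀ j : Fin m, d j.castSucc = d (⟨0, hpos⟩ : Fin m).castSucc := fun j => heq j _
      have hpm' := hpm (⟨0, hpos⟩ : Fin m).castSucc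
      rw [Finset.prod_congr rfl (fun j _ => hc j), Finset.prod_const, Finset.card_univ,
        Fintype.card_fin]
      generalize d (⟨0, hpos⟩ : Fin m).castSucc = c at *
      have hcc : c * c = 1 := by
        rcases hpm' with h | h <;> rw [h] <;> ring
      obtain ⟨k, hk⟩ := hm
      rw [hk, ← two_mul, pow_mul, pow_two, hcc, one_pow]
  rw [hprod, one_mul] at hdet
  -- the common value is `-1`
  have hneg : ∀ j : Fin m, d j.castSucc = -1 := by
    intro j
    rcases hpm j.castSucc with h | h
    · exfalso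
      apply hy1
      apply Subtype.ext
      rw [hdiag, Matrix.SpecialLinearGroup.coe_one, ← Matrix.diagonal_one]
      congr 1
      ext i
      refine Fin.lastCases ?_ (fun j' => ?_) i
      · exact hdet
      · rw [heq j' j, h]
    · exact h
  rw [hdiag, tM]
  congr 1
  ext i
  refine Fin.lastCases ?_ (fun j' => ?_) i
  · rw [hdet, tM_diag_last]
  · rw [hneg j', tM_diag_castSucc]

end Cfsg.Agent.Helper2.SLStd
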