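import Mathlib
import Cfsg.Agent.Helper2.SLStdD
import Cfsg.Agent.Helper2.GLInvC
import Cfsg.Agent.Helper2.Layer
import Cfsg.Agent.Helper2.StrEmb

set_option autoImplicit false

namespace Cfsg.Agent.Helper2.SLStd

open Matrix

theorem not_comm_of_isQuasisimple {H : Type*} [Group H] (h : Cfsg.IsQuasisimple H) :
    ¬ ∀ a b : H, a * b = b * a := by
  intro hc
  have h1 : commutator H = ⊥ := by
    rw [commutator_def, Subgroup.commutator_eq_bot_iff_le_centralizer]
    intro a _
    rw [Subgroup.mem_centralizer_iff]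
    intro b _
    exact hc b a
  have h2 : (⊤ : Subgroup H) = ⊥ := by rw [← h.1.1, h1]
  have h3 : ∀ a : H, a = 1 := by
    intro a
    have : a ∈ (⊤ : Subgroup H) := Subgroup.mem_top a
    rw [h2] at this
    exact Subgroup.mem_bot.mp this
  have : Nontrivial (H ⧸ Subgroup.center H) := h.2.toNontrivial
  obtain ⟨a, b, hab⟩ := this
  apply hab
  induction a using QuotientGroup.induction_on with | _ a => ?_
  induction b using QuotientGroup.induction_on with | _ b => ?_
  rw [h3 a, h3 b]

theorem normalizer_le_normalizer_centralizer {G : Type*} [Group G] (L : Subgroup G) :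
    Subgroup.normalizer (L : Set G) ≤
      Subgroup.normalizer (Subgroup.centralizer (L : Set G) : Set G) := by
  intro g hg
  have key : ∀ g : G, g ∈ Subgroup.normalizer (L : Set G) → ∀ c ∈ Subgroup.centralizer (L : Set G),
      g * c * g⁻¹ ∈ Subgroup.centralizer (L : Set G) := by
    intro g hg c hc
    rw [Subgroup.mem_centralizer_iff]
    intro l hl
    have hl' : g⁻¹ * l * g⁻¹⁻¹ ∈ L :=
      (Subgroup.mem_normalizer_iff.mp (inv_mem hg) l).mp hl
    rw [inv_inv] at hl'
    have h1 := Subgroup.mem_centralizer_iff.mp hc _ hl'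
    calc l * (g * c * g⁻¹) = g * ((g⁻¹ * l * g) * c) * g⁻¹ := by group
      _ = g * (c * (g⁻¹ * l * g)) * g⁻¹ := by rw [h1]
      _ = g * c * g⁻¹ * l := by group
  rw [Subgroup.mem_normalizer_iff]
  intro c
  constructor
  · exact key g hg c
  · intro h
    have := key g⁻¹ (inv_mem hg) _ h
    have e : g⁻¹ * (g * c * g⁻¹) * g⁻¹⁻¹ = c := by group
    rw [e] at this
    exact this

variable {F : Type*} [Field F] [Fintype F] [DecidableEq F] {m : ℕ}

section main

variable (hF : Odd (Fintype.card F)) (hm : 6 ≤ m) (hme : Even m)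
  (t : SpecialLinearGroup (Fin (m + 1)) F)
  (ht : (t : Matrix (Fin (m + 1)) (Fin (m + 1)) F) = tM F m)

include ht in
theorem comm_of_mem_cent {x : SpecialLinearGroup (Fin (m + 1)) F}
    (hx : x ∈ Subgroup.centralizer ({t} : Set (SpecialLinearGroup (Fin (m + 1)) F))) :
    tM F m * (x : Matrix (Fin (m + 1)) (Fin (m + 1)) F) =
      (x : Matrix (Fin (m + 1)) (Fin (m + 1)) F) * tM F m := by
  have h := Subgroup.mem_centralizer_iff.mp hx t rfl
  have h2 := congrArg (fun z : SpecialLinearGroup (Fin (m + 1)) F =>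
    (z : Matrix (Fin (m + 1)) (Fin (m + 1)) F)) h
  simp only [Matrix.SpecialLinearGroup.coe_mul, ht] at h2
  exact h2

include ht in
theorem mem_cent_of_comm {x : SpecialLinearGroup (Fin (m + 1)) F}
    (hx : tM F m * (x : Matrix (Fin (m + 1)) (Fin (m + 1)) F) =
      (x : Matrix (Fin (m + 1)) (Fin (m + 1)) F) * tM F m) :
    x ∈ Subgroup.centralizer ({t} : Set (SpecialLinearGroup (Fin (m + 1)) F)) := by
  rw [Subgroup.mem_centralizer_iff]
  intro h hh
  rw [Set.mem_singleton_iff] at hh
  subst hh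
  apply Subtype.ext
  rw [Matrix.SpecialLinearGroup.coe_mul, Matrix.SpecialLinearGroup.coe_mul, ht]
  exact hx

include ht in
theorem L_le_cent :
    L F m ≤ Subgroup.centralizer ({t} : Set (SpecialLinearGroup (Fin (m + 1)) F)) := by
  rintro _ ⟨A, rfl⟩
  apply mem_cent_of_comm t ht
  rw [phiS_val]
  exact tM_mul_embL _

include hF ht in
theorem cent_le_normalizer_L :
    Subgroup.centralizer ({t} : Set (SpecialLinearGroup (Fin (m + 1)) F)) ≤
      Subgroup.normalizer (L F m : Set (SpecialLinearGroup (Fin (m + 1)) F)) := by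
  have h2 := Cfsg.Agent.Helper2.GLInv.two_ne_zero_of_odd hF
  have key : ∀ x : SpecialLinearGroup (Fin (m + 1)) F,
      x ∈ Subgroup.centralizer ({t} : Set (SpecialLinearGroup (Fin (m + 1)) F)) →
      ∀ g ∈ L F m, x * g * x⁻¹ ∈ L F m := by
    intro x hx g hg
    have hgX := L_le_cent t ht hg
    have hmem : x * g * x⁻¹ ∈
        Subgroup.centralizer ({t} : Set (SpecialLinearGroup (Fin (m + 1)) F)) :=
      mul_mem (mul_mem hx hgX) (inv_mem hx)
    rw [mem_L_iff]
    refine ⟨isBlk_of_comm h2 (comm_of_mem_cent t ht hmem), ?_⟩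
    have hxb := isBlk_of_comm h2 (comm_of_mem_cent t ht hx)
    have hxgb := isBlk_of_comm h2 (comm_of_mem_cent t ht (mul_mem hx hgX))
    rw [Matrix.SpecialLinearGroup.coe_mul] at hxgb
    rw [Matrix.SpecialLinearGroup.coe_mul, Matrix.SpecialLinearGroup.coe_mul,
      mul_last_last hxgb, mul_last_last hxb, ((mem_L_iff g).mp hg).2, mul_one,
      ← mul_last_last hxb, ← Matrix.SpecialLinearGroup.coe_mul, mul_inv_cancel,
      Matrix.SpecialLinearGroup.coe_one, Matrix.one_apply_eq]
  intro x hx
  rw [Subgroup.mem_normalizer_iff]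
  intro g
  constructor
  · exact key x hx g
  · intro h
    have := key x⁻¹ (inv_mem hx) _ h
    have e : x⁻¹ * (x * g * x⁻¹) * x⁻¹⁻¹ = g := by group
    rw [e] at this
    exact this

include hF hm in
theorem isQuasisimple_L : Cfsg.IsQuasisimple ↥(L F m) := by
  have hq : Cfsg.IsQuasisimple (SpecialLinearGroup (Fin m) F) :=
    Cfsg.Agent.Helper2.GLInv.isQuasisimple_SL hF (by omega) (by omega)
  exact Cfsg.Agent.Helper2.isQuasisimple_of_mulEquiv (MonoidHom.ofInjective phiS_injective) hq

end main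

end Cfsg.Agent.Helper2.SLStd
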