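import Mathlib
import Cfsg.Agent.Helper2.SLStdE

set_option autoImplicit false

namespace Cfsg.Agent.Helper2.SLStd

open Matrix

variable {F : Type*} [Field F] [Fintype F] [DecidableEq F] {m : ℕ}

section main

variable (hF : Odd (Fintype.card F)) (hm : 6 ≤ m) (hme : Even m)
  (t : SpecialLinearGroup (Fin (m + 1)) F)
  (ht : (t : Matrix (Fin (m + 1)) (Fin (m + 1)) F) = tM F m)

include ht in
theorem t_mem_centralizer_L :
    t ∈ Subgroup.centralizer (L F m : Set (SpecialLinearGroup (Fin (m + 1)) F)) := by
  rw [Subgroup.mem_centralizer_iff]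
  intro g hg
  have := Subgroup.mem_centralizer_iff.mp (L_le_cent t ht hg) t rfl
  exact this.symm

include ht in
theorem t_mul_self : t * t = 1 := by
  apply Subtype.ext
  rw [Matrix.SpecialLinearGroup.coe_mul, ht, Matrix.SpecialLinearGroup.coe_one, tM,
    Matrix.diagonal_mul_diagonal, ← Matrix.diagonal_one]
  congr 1
  ext i
  split_ifs <;> simp

include hF hm ht in
theorem t_ne_one : t ≠ 1 := by
  have h2 := Cfsg.Agent.Helper2.GLInv.two_ne_zero_of_odd hF
  intro h
  have h1 := congrArg (fun z : SpecialLinearGroup (Fin (m + 1)) F =>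
    (z : Matrix (Fin (m + 1)) (Fin (m + 1)) F) (⟨0, by omega⟩ : Fin m).castSucc
      (⟨0, by omega⟩ : Fin m).castSucc) h
  simp only [ht, Matrix.SpecialLinearGroup.coe_one, Matrix.one_apply_eq] at h1
  rw [tM, Matrix.diagonal_apply_eq, tM_diag_castSucc] at h1
  apply h2
  linear_combination (-1 : F) * h1

include hF hm ht in
theorem orderOf_t : orderOf t = 2 := by
  apply orderOf_eq_prime
  · rw [pow_two]; exact t_mul_self t ht
  · exact t_ne_one hF hm t ht

include hm hme ht in
/-- `t` is the only involution of `C(L)`. -/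
theorem eq_t_of_invol {y : SpecialLinearGroup (Fin (m + 1)) F}
    (hy : y ∈ Subgroup.centralizer (L F m : Set (SpecialLinearGroup (Fin (m + 1)) F)))
    (hy2 : orderOf y = 2) : y = t := by
  apply Subtype.ext
  rw [ht]
  apply eq_tM_of_isDg_invol hme y (isDg_of_mem_centralizer (by omega) y hy)
  · rw [← pow_two, ← hy2]; exact pow_orderOf_eq_one y
  · intro h
    rw [h, orderOf_one] at hy2
    omega

include hF hm ht in
/-- The layer of `C(t)` is `L`. -/
theorem layer_cent :
    Cfsg.layer ↥(Subgroup.centralizer ({t} : Set (SpecialLinearGroup (Fin (m + 1)) F))) =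
      (L F m).subgroupOf (Subgroup.centralizer ({t} : Set (SpecialLinearGroup (Fin (m + 1)) F))) := by
  have hLX := L_le_cent t ht
  have hnorm : ((L F m).subgroupOf
      (Subgroup.centralizer ({t} : Set (SpecialLinearGroup (Fin (m + 1)) F)))).Normal :=
    (Subgroup.normal_subgroupOf_iff_le_normalizer hLX).mpr (cent_le_normalizer_L hF t ht)
  have hcomp : Cfsg.IsComponent ((L F m).subgroupOf
      (Subgroup.centralizer ({t} : Set (SpecialLinearGroup (Fin (m + 1)) F)))) := by
    refine ⟨hnorm.isSubnormal, ?_⟩
    exact Cfsg.Agent.Helper2.isQuasisimple_of_mulEquiv (Subgroup.subgroupOfEquivOfLe hLX).symm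
      (isQuasisimple_L hF hm)
  apply le_antisymm
  · apply sSup_le
    intro K hK
    by_contra hne
    have hKne : K ≠ (L F m).subgroupOf
        (Subgroup.centralizer ({t} : Set (SpecialLinearGroup (Fin (m + 1)) F))) := by
      rintro rfl
      exact hne le_rfl
    have hcm := Cfsg.Agent.Helper2.components_commute hK hcomp hKne
    rw [Subgroup.commutator_eq_bot_iff_le_centralizer] at hcm
    apply Cfsg.Agent.Helper2.component_not_commutative hK
    have hdg : ∀ a ∈ K, IsDg (((a : ↥(Subgroup.centralizer
        ({t} : Set (SpecialLinearGroup (Fin (m + 1)) F)))) :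
        SpecialLinearGroup (Fin (m + 1)) F) : Matrix (Fin (m + 1)) (Fin (m + 1)) F) := by
      intro a ha
      apply isDg_of_mem_centralizer (by omega)
      rw [Subgroup.mem_centralizer_iff]
      intro l hl
      have h1 := Subgroup.mem_centralizer_iff.mp (hcm ha) ⟨l, hLX hl⟩
        (Subgroup.mem_subgroupOf.mpr hl)
      exact congrArg Subtype.val h1
    intro a ha b hb
    apply Subtype.ext
    apply Subtype.ext
    rw [Subgroup.coe_mul, Subgroup.coe_mul, Matrix.SpecialLinearGroup.coe_mul,
      Matrix.SpecialLinearGroup.coe_mul]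
    exact (hdg a ha).commute (hdg b hb)
  · exact le_sSup hcomp

end main

end Cfsg.Agent.Helper2.SLStd
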