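import Mathlib
import Cfsg.Agent.Helper2.SLStdF
import Cfsg.Agent.Helper2.InvolConj

set_option autoImplicit false

namespace Cfsg.Agent.Helper2.SLStd

open Matrix

variable {F : Type*} [Field F] [Fintype F] [DecidableEq F] {m : ℕ}

section main

variable (hF : Odd (Fintype.card F)) (hm : 6 ≤ m) (hme : Even m)
  (t : SpecialLinearGroup (Fin (m + 1)) F)
  (ht : (t : Matrix (Fin (m + 1)) (Fin (m + 1)) F) = tM F m)

include hF hm hme ht in
/-- Elements normalizing `C(L)` centralize `t`. -/
theorem normalizer_centralizer_L_le :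
    Subgroup.normalizer (Subgroup.centralizer (L F m : Set (SpecialLinearGroup (Fin (m + 1)) F)) :
        Set (SpecialLinearGroup (Fin (m + 1)) F)) ≤
      Subgroup.centralizer ({t} : Set (SpecialLinearGroup (Fin (m + 1)) F)) := by
  intro g hg
  have h1 : g * t * g⁻¹ ∈ Subgroup.centralizer (L F m : Set (SpecialLinearGroup (Fin (m + 1)) F)) :=
    (Subgroup.mem_normalizer_iff.mp hg t).mp (t_mem_centralizer_L t ht)
  have h2 : orderOf (g * t * g⁻¹) = 2 := by
    rw [Cfsg.Agent.Helper2.orderOf_conj_eq]; exact orderOf_t hF hm t ht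
  have h3 := eq_t_of_invol hm hme t ht h1 h2
  rw [Subgroup.mem_centralizer_iff]
  intro h hh
  rw [Set.mem_singleton_iff] at hh
  subst hh
  calc h * g = (g * h * g⁻¹) * g := by rw [h3]
    _ = g * h := by group

include hF hm hme ht in
theorem isStandardSubgroup_L : Cfsg.IsStandardSubgroup (L F m) := by
  have hLX := L_le_cent t ht
  have hXN := cent_le_normalizer_L hF t ht
  have hNC := normalizer_centralizer_L_le hF hm hme t ht
  refine ⟨isQuasisimple_L hF hm, ⟨?_, ?_⟩, ?_, ?_⟩
  · -- even order
    exact Cfsg.Agent.Helper2.even_card_of_invol _ (t_mem_centralizer_L t ht) (orderOf_t hF hm t ht)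
  · intro g hg
    rw [← Nat.not_even_iff_odd]
    intro he
    obtain ⟨y, hy, hy2⟩ := Cfsg.Agent.Helper2.exists_invol_of_even_card _ he
    obtain ⟨hy1, hy3⟩ := Subgroup.mem_inf.mp hy
    obtain ⟨w, hw, hwy⟩ := Subgroup.mem_map.mp hy3
    have hyt := eq_t_of_invol hm hme t ht hy1 hy2
    have hw2 : orderOf w = 2 := by
      rw [← hy2, ← hwy]
      exact (Cfsg.Agent.Helper2.orderOf_conj_eq g w).symm
    have hwt := eq_t_of_invol hm hme t ht hw hw2
    apply hg
    apply (hXN.trans (normalizer_le_normalizer_centralizer _))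
    rw [Subgroup.mem_centralizer_iff]
    intro h hh
    rw [Set.mem_singleton_iff] at hh
    subst hh
    have e : g * h * g⁻¹ = h := by
      have : (MulAut.conj g).toMonoidHom w = g * w * g⁻¹ := rfl
      rw [this, hwt, hyt] at hwy
      exact hwy
    calc h * g = (g * h * g⁻¹) * g := by rw [e]
      _ = g * h := by group
  · intro g _ hbot
    rw [Subgroup.commutator_comm, Subgroup.commutator_eq_bot_iff_le_centralizer] at hbot
    apply not_comm_of_isQuasisimple (isQuasisimple_L hF hm)
    intro a b
    have ha : (MulAut.conj g).toMonoidHom a ∈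
        Subgroup.centralizer (L F m : Set (SpecialLinearGroup (Fin (m + 1)) F)) :=
      hbot (Subgroup.mem_map_of_mem _ a.2)
    have hb : (MulAut.conj g).toMonoidHom b ∈
        Subgroup.centralizer (L F m : Set (SpecialLinearGroup (Fin (m + 1)) F)) :=
      hbot (Subgroup.mem_map_of_mem _ b.2)
    have hda := isDg_of_mem_centralizer (by omega) _ ha
    have hdb := isDg_of_mem_centralizer (by omega) _ hb
    have hc : (MulAut.conj g).toMonoidHom (a : SpecialLinearGroup (Fin (m + 1)) F) *
        (MulAut.conj g).toMonoidHom (b : SpecialLinearGroup (Fin (m + 1)) F) =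
        (MulAut.conj g).toMonoidHom (b : SpecialLinearGroup (Fin (m + 1)) F) *
        (MulAut.conj g).toMonoidHom (a : SpecialLinearGroup (Fin (m + 1)) F) := by
      apply Subtype.ext
      rw [Matrix.SpecialLinearGroup.coe_mul, Matrix.SpecialLinearGroup.coe_mul]
      exact hda.commute hdb
    rw [← map_mul, ← map_mul] at hc
    have hinj : Function.Injective (MulAut.conj g).toMonoidHom := (MulAut.conj g).injective
    exact Subtype.ext (hinj hc)
  · apply le_antisymm
    · exact normalizer_le_normalizer_centralizer _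
    · exact hNC.trans hXN

include hF hm hme ht in
theorem isStandardSubgroup_layer :
    Cfsg.IsStandardSubgroup ((Cfsg.layer ↥(Subgroup.centralizer
      ({t} : Set (SpecialLinearGroup (Fin (m + 1)) F)))).map
      (Subgroup.centralizer ({t} : Set (SpecialLinearGroup (Fin (m + 1)) F))).subtype) := by
  rw [layer_cent hF hm t ht, Subgroup.map_subgroupOf_eq_of_le (L_le_cent t ht)]
  exact isStandardSubgroup_L hF hm hme t ht

end main

end Cfsg.Agent.Helper2.SLStd
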