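import Mathlib
import Cfsg.Agent.Helper2.SimpleSmall2
import Cfsg.Agent.S0499

/-!
# Orders of simple groups: the routine cases 2..300 (generated; helper2, for S0496)
-/

set_option autoImplicit false
set_option maxRecDepth 4096
set_option synthInstance.maxSize 2048

namespace Cfsg.Agent.Helper2.SimpleSmall2

open Cfsg.Agent.Helper2

theorem no_simple_rangeA {G : Type*} [Group G] [Finite G] [IsSimpleGroup G]
    (hG : ¬ IsMulCommutative G) (n : ℕ) (hn : Nat.card G = n) (hlo : 2 ≤ n) (hhi : n ≤ 300)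
    (h60 : n ≠ 60) (h168 : n ≠ 168) : False := by
  interval_cases n
  · exact false_of_prime_pow hG 2 1 (by norm_num) (hn.trans (by norm_num))
  · exact false_of_prime_pow hG 3 1 (by norm_num) (hn.trans (by norm_num))
  · exact false_of_prime_pow hG 2 2 (by norm_num) (hn.trans (by norm_num))
  · exact false_of_prime_pow hG 5 1 (by norm_num) (hn.trans (by norm_num))
  · exact false_of_two_primes hG 2 3 1 1 (by norm_num) (by norm_num) (hn.trans (by norm_num))
  · exact false_of_prime_pow hG 7 1 (by norm_num) (hn.trans (by norm_num))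
  · exact false_of_prime_pow hG 2 3 (by norm_num) (hn.trans (by norm_num))
  · exact false_of_prime_pow hG 3 2 (by norm_num) (hn.trans (by norm_num))
  · exact false_of_two_primes hG 2 5 1 1 (by norm_num) (by norm_num) (hn.trans (by norm_num))
  · exact false_of_prime_pow hG 11 1 (by norm_num) (hn.trans (by norm_num))
  · exact false_of_two_primes hG 2 3 2 1 (by norm_num) (by norm_num) (hn.trans (by norm_num))
  · exact false_of_prime_pow hG 13 1 (by norm_num) (hn.trans (by norm_num))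
  · exact false_of_two_primes hG 2 7 1 1 (by norm_num) (by norm_num) (hn.trans (by norm_num))
  · exact false_of_two_primes hG 3 5 1 1 (by norm_num) (by norm_num) (hn.trans (by norm_num))
  · exact false_of_prime_pow hG 2 4 (by norm_num) (hn.trans (by norm_num))
  · exact false_of_prime_pow hG 17 1 (by norm_num) (hn.trans (by norm_num))
  · exact false_of_two_primes hG 2 3 1 2 (by norm_num) (by norm_num) (hn.trans (by norm_num))
  · exact false_of_prime_pow hG 19 1 (by norm_num) (hn.trans (by norm_num))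
  · exact false_of_two_primes hG 2 5 2 1 (by norm_num) (by norm_num) (hn.trans (by norm_num))
  · exact false_of_two_primes hG 3 7 1 1 (by norm_num) (by norm_num) (hn.trans (by norm_num))
  · exact false_of_two_primes hG 2 11 1 1 (by norm_num) (by norm_num) (hn.trans (by norm_num))
  · exact false_of_prime_pow hG 23 1 (by norm_num) (hn.trans (by norm_num))
  · exact false_of_two_primes hG 2 3 3 1 (by norm_num) (by norm_num) (hn.trans (by norm_num))
  · exact false_of_prime_pow hG 5 2 (by norm_num) (hn.trans (by norm_num))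
  · exact false_of_two_primes hG 2 13 1 1 (by norm_num) (by norm_num) (hn.trans (by norm_num))
  · exact false_of_prime_pow hG 3 3 (by norm_num) (hn.trans (by norm_num))
  · exact false_of_two_primes hG 2 7 2 1 (by norm_num) (by norm_num) (hn.trans (by norm_num))
  · exact false_of_prime_pow hG 29 1 (by norm_num) (hn.trans (by norm_num))
  · obtain ⟨d, h1, h2, h3, h4, h5⟩ := SimpleSmall.sylow_count (G := G) 5 1 6 (by norm_num) (hn.trans (by norm_num)) (by norm_num) (by norm_num) (by norm_num)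
    have hle : d ≤ 6 := Nat.le_of_dvd (by norm_num) h1
    have h4' : d ≤ 20 → 5 ^ 1 * 6 ∣ d.factorial := fun _ => h4
    have key : ∀ d ≤ 6, ¬ (d ∣ 6 ∧ d % 5 = 1 ∧ d ≠ 1 ∧ (d ≤ 20 → 5 ^ 1 * 6 ∣ d.factorial) ∧ (1 = 1 → ¬ Nat.Coprime (5 ^ 1 * 6 / d) (5 - 1))) := by decide
    exact key d hle ⟨h1, h2, h3, h4', h5⟩
  · exact false_of_prime_pow hG 31 1 (by norm_num) (hn.trans (by norm_num))
  · exact false_of_prime_pow hG 2 5 (by norm_num) (hn.trans (by norm_num))
  · exact false_of_two_primes hG 3 11 1 1 (by norm_num) (by norm_num) (hn.trans (by norm_num))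
  · exact false_of_two_primes hG 2 17 1 1 (by norm_num) (by norm_num) (hn.trans (by norm_num))
  · exact false_of_two_primes hG 5 7 1 1 (by norm_num) (by norm_num) (hn.trans (by norm_num))
  · exact false_of_two_primes hG 2 3 2 2 (by norm_num) (by norm_num) (hn.trans (by norm_num))
  · exact false_of_prime_pow hG 37 1 (by norm_num) (hn.trans (by norm_num))
  · exact false_of_two_primes hG 2 19 1 1 (by norm_num) (by norm_num) (hn.trans (by norm_num))
  · exact false_of_two_primes hG 3 13 1 1 (by norm_num) (by norm_num) (hn.trans (by norm_num))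
  · exact false_of_two_primes hG 2 5 3 1 (by norm_num) (by norm_num) (hn.trans (by norm_num))
  · exact false_of_prime_pow hG 41 1 (by norm_num) (hn.trans (by norm_num))
  · obtain ⟨d, h1, h2, h3, h4, h5⟩ := SimpleSmall.sylow_count (G := G) 7 1 6 (by norm_num) (hn.trans (by norm_num)) (by norm_num) (by norm_num) (by norm_num)
    have hle : d ≤ 6 := Nat.le_of_dvd (by norm_num) h1
    have h4' : d ≤ 20 → 7 ^ 1 * 6 ∣ d.factorial := fun _ => h4
    have key : ∀ d ≤ 6, ¬ (d ∣ 6 ∧ d % 7 = 1 ∧ d ≠ 1 ∧ (d ≤ 20 → 7 ^ 1 * 6 ∣ d.factorial) ∧ (1 = 1 → ¬ Nat.Coprime (7 ^ 1 * 6 / d) (7 - 1))) := by decide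
    exact key d hle ⟨h1, h2, h3, h4', h5⟩
  · exact false_of_prime_pow hG 43 1 (by norm_num) (hn.trans (by norm_num))
  · exact false_of_two_primes hG 2 11 2 1 (by norm_num) (by norm_num) (hn.trans (by norm_num))
  · exact false_of_two_primes hG 3 5 2 1 (by norm_num) (by norm_num) (hn.trans (by norm_num))
  · exact false_of_two_primes hG 2 23 1 1 (by norm_num) (by norm_num) (hn.trans (by norm_num))
  · exact false_of_prime_pow hG 47 1 (by norm_num) (hn.trans (by norm_num))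
  · exact false_of_two_primes hG 2 3 4 1 (by norm_num) (by norm_num) (hn.trans (by norm_num))
  · exact false_of_prime_pow hG 7 2 (by norm_num) (hn.trans (by norm_num))
  · exact false_of_two_primes hG 2 5 1 2 (by norm_num) (by norm_num) (hn.trans (by norm_num))
  · exact false_of_two_primes hG 3 17 1 1 (by norm_num) (by norm_num) (hn.trans (by norm_num))
  · exact false_of_two_primes hG 2 13 2 1 (by norm_num) (by norm_num) (hn.trans (by norm_num))
  · exact false_of_prime_pow hG 53 1 (by norm_num) (hn.trans (by norm_num))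
  · exact false_of_two_primes hG 2 3 1 3 (by norm_num) (by norm_num) (hn.trans (by norm_num))
  · exact false_of_two_primes hG 5 11 1 1 (by norm_num) (by norm_num) (hn.trans (by norm_num))
  · exact false_of_two_primes hG 2 7 3 1 (by norm_num) (by norm_num) (hn.trans (by norm_num))
  · exact false_of_two_primes hG 3 19 1 1 (by norm_num) (by norm_num) (hn.trans (by norm_num))
  · exact false_of_two_primes hG 2 29 1 1 (by norm_num) (by norm_num) (hn.trans (by norm_num))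
  · exact false_of_prime_pow hG 59 1 (by norm_num) (hn.trans (by norm_num))
  · exact absurd rfl h60
  · exact false_of_prime_pow hG 61 1 (by norm_num) (hn.trans (by norm_num))
  · exact false_of_two_primes hG 2 31 1 1 (by norm_num) (by norm_num) (hn.trans (by norm_num))
  · exact false_of_two_primes hG 3 7 2 1 (by norm_num) (by norm_num) (hn.trans (by norm_num))
  · exact false_of_prime_pow hG 2 6 (by norm_num) (hn.trans (by norm_num))
  · exact false_of_two_primes hG 5 13 1 1 (by norm_num) (by norm_num) (hn.trans (by norm_num))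
  · obtain ⟨d, h1, h2, h3, h4, h5⟩ := SimpleSmall.sylow_count (G := G) 11 1 6 (by norm_num) (hn.trans (by norm_num)) (by norm_num) (by norm_num) (by norm_num)
    have hle : d ≤ 6 := Nat.le_of_dvd (by norm_num) h1
    have h4' : d ≤ 20 → 11 ^ 1 * 6 ∣ d.factorial := fun _ => h4
    have key : ∀ d ≤ 6, ¬ (d ∣ 6 ∧ d % 11 = 1 ∧ d ≠ 1 ∧ (d ≤ 20 → 11 ^ 1 * 6 ∣ d.factorial) ∧ (1 = 1 → ¬ Nat.Coprime (11 ^ 1 * 6 / d) (11 - 1))) := by decide
    exact key d hle ⟨h1, h2, h3, h4', h5⟩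
  · exact false_of_prime_pow hG 67 1 (by norm_num) (hn.trans (by norm_num))
  · exact false_of_two_primes hG 2 17 2 1 (by norm_num) (by norm_num) (hn.trans (by norm_num))
  · exact false_of_two_primes hG 3 23 1 1 (by norm_num) (by norm_num) (hn.trans (by norm_num))
  · obtain ⟨d, h1, h2, h3, h4, h5⟩ := SimpleSmall.sylow_count (G := G) 7 1 10 (by norm_num) (hn.trans (by norm_num)) (by norm_num) (by norm_num) (by norm_num)
    have hle : d ≤ 10 := Nat.le_of_dvd (by norm_num) h1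
    have h4' : d ≤ 20 → 7 ^ 1 * 10 ∣ d.factorial := fun _ => h4
    have key : ∀ d ≤ 10, ¬ (d ∣ 10 ∧ d % 7 = 1 ∧ d ≠ 1 ∧ (d ≤ 20 → 7 ^ 1 * 10 ∣ d.factorial) ∧ (1 = 1 → ¬ Nat.Coprime (7 ^ 1 * 10 / d) (7 - 1))) := by decide
    exact key d hle ⟨h1, h2, h3, h4', h5⟩
  · exact false_of_prime_pow hG 71 1 (by norm_num) (hn.trans (by norm_num))
  · exact false_of_two_primes hG 2 3 3 2 (by norm_num) (by norm_num) (hn.trans (by norm_num))
  · exact false_of_prime_pow hG 73 1 (by norm_num) (hn.trans (by norm_num))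
  · exact false_of_two_primes hG 2 37 1 1 (by norm_num) (by norm_num) (hn.trans (by norm_num))
  · exact false_of_two_primes hG 3 5 1 2 (by norm_num) (by norm_num) (hn.trans (by norm_num))
  · exact false_of_two_primes hG 2 19 2 1 (by norm_num) (by norm_num) (hn.trans (by norm_num))
  · exact false_of_two_primes hG 7 11 1 1 (by norm_num) (by norm_num) (hn.trans (by norm_num))
  · obtain ⟨d, h1, h2, h3, h4, h5⟩ := SimpleSmall.sylow_count (G := G) 13 1 6 (by norm_num) (hn.trans (by norm_num)) (by norm_num) (by norm_num) (by norm_num)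
    have hle : d ≤ 6 := Nat.le_of_dvd (by norm_num) h1
    have h4' : d ≤ 20 → 13 ^ 1 * 6 ∣ d.factorial := fun _ => h4
    have key : ∀ d ≤ 6, ¬ (d ∣ 6 ∧ d % 13 = 1 ∧ d ≠ 1 ∧ (d ≤ 20 → 13 ^ 1 * 6 ∣ d.factorial) ∧ (1 = 1 → ¬ Nat.Coprime (13 ^ 1 * 6 / d) (13 - 1))) := by decide
    exact key d hle ⟨h1, h2, h3, h4', h5⟩
  · exact false_of_prime_pow hG 79 1 (by norm_num) (hn.trans (by norm_num))
  · exact false_of_two_primes hG 2 5 4 1 (by norm_num) (by norm_num) (hn.trans (by norm_num))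
  · exact false_of_prime_pow hG 3 4 (by norm_num) (hn.trans (by norm_num))
  · exact false_of_two_primes hG 2 41 1 1 (by norm_num) (by norm_num) (hn.trans (by norm_num))
  · exact false_of_prime_pow hG 83 1 (by norm_num) (hn.trans (by norm_num))
  · obtain ⟨d, h1, h2, h3, h4, h5⟩ := SimpleSmall.sylow_count (G := G) 7 1 12 (by norm_num) (hn.trans (by norm_num)) (by norm_num) (by norm_num) (by norm_num)
    have hle : d ≤ 12 := Nat.le_of_dvd (by norm_num) h1
    have h4' : d ≤ 20 → 7 ^ 1 * 12 ∣ d.factorial := fun _ => h4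
    have key : ∀ d ≤ 12, ¬ (d ∣ 12 ∧ d % 7 = 1 ∧ d ≠ 1 ∧ (d ≤ 20 → 7 ^ 1 * 12 ∣ d.factorial) ∧ (1 = 1 → ¬ Nat.Coprime (7 ^ 1 * 12 / d) (7 - 1))) := by decide
    exact key d hle ⟨h1, h2, h3, h4', h5⟩
  · exact false_of_two_primes hG 5 17 1 1 (by norm_num) (by norm_num) (hn.trans (by norm_num))
  · exact false_of_two_primes hG 2 43 1 1 (by norm_num) (by norm_num) (hn.trans (by norm_num))
  · exact false_of_two_primes hG 3 29 1 1 (by norm_num) (by norm_num) (hn.trans (by norm_num))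
  · exact false_of_two_primes hG 2 11 3 1 (by norm_num) (by norm_num) (hn.trans (by norm_num))
  · exact false_of_prime_pow hG 89 1 (by norm_num) (hn.trans (by norm_num))
  · obtain ⟨d, h1, h2, h3, h4, h5⟩ := SimpleSmall.sylow_count (G := G) 5 1 18 (by norm_num) (hn.trans (by norm_num)) (by norm_num) (by norm_num) (by norm_num)
    have hle : d ≤ 18 := Nat.le_of_dvd (by norm_num) h1
    have h4' : d ≤ 20 → 5 ^ 1 * 18 ∣ d.factorial := fun _ => h4
    have key : ∀ d ≤ 18, ¬ (d ∣ 18 ∧ d % 5 = 1 ∧ d ≠ 1 ∧ (d ≤ 20 → 5 ^ 1 * 18 ∣ d.factorial) ∧ (1 = 1 → ¬ Nat.Coprime (5 ^ 1 * 18 / d) (5 - 1))) := by decide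
    exact key d hle ⟨h1, h2, h3, h4', h5⟩
  · exact false_of_two_primes hG 7 13 1 1 (by norm_num) (by norm_num) (hn.trans (by norm_num))
  · exact false_of_two_primes hG 2 23 2 1 (by norm_num) (by norm_num) (hn.trans (by norm_num))
  · exact false_of_two_primes hG 3 31 1 1 (by norm_num) (by norm_num) (hn.trans (by norm_num))
  · exact false_of_two_primes hG 2 47 1 1 (by norm_num) (by norm_num) (hn.trans (by norm_num))
  · exact false_of_two_primes hG 5 19 1 1 (by norm_num) (by norm_num) (hn.trans (by norm_num))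
  · exact false_of_two_primes hG 2 3 5 1 (by norm_num) (by norm_num) (hn.trans (by norm_num))
  · exact false_of_prime_pow hG 97 1 (by norm_num) (hn.trans (by norm_num))
  · exact false_of_two_primes hG 2 7 1 2 (by norm_num) (by norm_num) (hn.trans (by norm_num))
  · exact false_of_two_primes hG 3 11 2 1 (by norm_num) (by norm_num) (hn.trans (by norm_num))
  · exact false_of_two_primes hG 2 5 2 2 (by norm_num) (by norm_num) (hn.trans (by norm_num))
  · exact false_of_prime_pow hG 101 1 (by norm_num) (hn.trans (by norm_num))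
  · obtain ⟨d, h1, h2, h3, h4, h5⟩ := SimpleSmall.sylow_count (G := G) 17 1 6 (by norm_num) (hn.trans (by norm_num)) (by norm_num) (by norm_num) (by norm_num)
    have hle : d ≤ 6 := Nat.le_of_dvd (by norm_num) h1
    have h4' : d ≤ 20 → 17 ^ 1 * 6 ∣ d.factorial := fun _ => h4
    have key : ∀ d ≤ 6, ¬ (d ∣ 6 ∧ d % 17 = 1 ∧ d ≠ 1 ∧ (d ≤ 20 → 17 ^ 1 * 6 ∣ d.factorial) ∧ (1 = 1 → ¬ Nat.Coprime (17 ^ 1 * 6 / d) (17 - 1))) := by decide
    exact key d hle ⟨h1, h2, h3, h4', h5⟩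
  · exact false_of_prime_pow hG 103 1 (by norm_num) (hn.trans (by norm_num))
  · exact false_of_two_primes hG 2 13 3 1 (by norm_num) (by norm_num) (hn.trans (by norm_num))
  · obtain ⟨d, h1, h2, h3, h4, h5⟩ := SimpleSmall.sylow_count (G := G) 7 1 15 (by norm_num) (hn.trans (by norm_num)) (by norm_num) (by norm_num) (by norm_num)
    have hle : d ≤ 15 := Nat.le_of_dvd (by norm_num) h1
    have h4' : d ≤ 20 → 7 ^ 1 * 15 ∣ d.factorial := fun _ => h4
    have key : ∀ d ≤ 15, ¬ (d ∣ 15 ∧ d % 7 = 1 ∧ d ≠ 1 ∧ (d ≤ 20 → 7 ^ 1 * 15 ∣ d.factorial) ∧ (1 = 1 → ¬ Nat.Coprime (7 ^ 1 * 15 / d) (7 - 1))) := by decide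
    exact key d hle ⟨h1, h2, h3, h4', h5⟩
  · exact false_of_two_primes hG 2 53 1 1 (by norm_num) (by norm_num) (hn.trans (by norm_num))
  · exact false_of_prime_pow hG 107 1 (by norm_num) (hn.trans (by norm_num))
  · exact false_of_two_primes hG 2 3 2 3 (by norm_num) (by norm_num) (hn.trans (by norm_num))
  · exact false_of_prime_pow hG 109 1 (by norm_num) (hn.trans (by norm_num))
  · obtain ⟨d, h1, h2, h3, h4, h5⟩ := SimpleSmall.sylow_count (G := G) 11 1 10 (by norm_num) (hn.trans (by norm_num)) (by norm_num) (by norm_num) (by norm_num)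
    have hle : d ≤ 10 := Nat.le_of_dvd (by norm_num) h1
    have h4' : d ≤ 20 → 11 ^ 1 * 10 ∣ d.factorial := fun _ => h4
    have key : ∀ d ≤ 10, ¬ (d ∣ 10 ∧ d % 11 = 1 ∧ d ≠ 1 ∧ (d ≤ 20 → 11 ^ 1 * 10 ∣ d.factorial) ∧ (1 = 1 → ¬ Nat.Coprime (11 ^ 1 * 10 / d) (11 - 1))) := by decide
    exact key d hle ⟨h1, h2, h3, h4', h5⟩
  · exact false_of_two_primes hG 3 37 1 1 (by norm_num) (by norm_num) (hn.trans (by norm_num))
  · exact false_of_two_primes hG 2 7 4 1 (by norm_num) (by norm_num) (hn.trans (by norm_num))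
  · exact false_of_prime_pow hG 113 1 (by norm_num) (hn.trans (by norm_num))
  · obtain ⟨d, h1, h2, h3, h4, h5⟩ := SimpleSmall.sylow_count (G := G) 19 1 6 (by norm_num) (hn.trans (by norm_num)) (by norm_num) (by norm_num) (by norm_num)
    have hle : d ≤ 6 := Nat.le_of_dvd (by norm_num) h1
    have h4' : d ≤ 20 → 19 ^ 1 * 6 ∣ d.factorial := fun _ => h4
    have key : ∀ d ≤ 6, ¬ (d ∣ 6 ∧ d % 19 = 1 ∧ d ≠ 1 ∧ (d ≤ 20 → 19 ^ 1 * 6 ∣ d.factorial) ∧ (1 = 1 → ¬ Nat.Coprime (19 ^ 1 * 6 / d) (19 - 1))) := by decide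
    exact key d hle ⟨h1, h2, h3, h4', h5⟩
  · exact false_of_two_primes hG 5 23 1 1 (by norm_num) (by norm_num) (hn.trans (by norm_num))
  · exact false_of_two_primes hG 2 29 2 1 (by norm_num) (by norm_num) (hn.trans (by norm_num))
  · exact false_of_two_primes hG 3 13 2 1 (by norm_num) (by norm_num) (hn.trans (by norm_num))
  · exact false_of_two_primes hG 2 59 1 1 (by norm_num) (by norm_num) (hn.trans (by norm_num))
  · exact false_of_two_primes hG 7 17 1 1 (by norm_num) (by norm_num) (hn.trans (by norm_num))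
  · have : Fact (Nat.Prime 5) := ⟨by norm_num⟩
    obtain ⟨d, -, h1, h2, h3, h4, h5, h6, h7, h8, h9⟩ := sylow_count3 (G := G) hG 5 1 24 (hn.trans (by norm_num)) (by norm_num) (by norm_num) (by norm_num)
    have hle : d ≤ 24 := Nat.le_of_dvd (by norm_num) h1
    have h4' : d ≤ 20 → 5 ^ 1 * 24 ∣ d.factorial := fun _ => h4
    clear h4
    interval_cases d <;> revert h1 h2 h3 h4' h5 h6 <;> decide
  · exact false_of_prime_pow hG 11 2 (by norm_num) (hn.trans (by norm_num))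
  · exact false_of_two_primes hG 2 61 1 1 (by norm_num) (by norm_num) (hn.trans (by norm_num))
  · exact false_of_two_primes hG 3 41 1 1 (by norm_num) (by norm_num) (hn.trans (by norm_num))
  · exact false_of_two_primes hG 2 31 2 1 (by norm_num) (by norm_num) (hn.trans (by norm_num))
  · exact false_of_prime_pow hG 5 3 (by norm_num) (hn.trans (by norm_num))
  · obtain ⟨d, h1, h2, h3, h4, h5⟩ := SimpleSmall.sylow_count (G := G) 7 1 18 (by norm_num) (hn.trans (by norm_num)) (by norm_num) (by norm_num) (by norm_num)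
    have hle : d ≤ 18 := Nat.le_of_dvd (by norm_num) h1
    have h4' : d ≤ 20 → 7 ^ 1 * 18 ∣ d.factorial := fun _ => h4
    have key : ∀ d ≤ 18, ¬ (d ∣ 18 ∧ d % 7 = 1 ∧ d ≠ 1 ∧ (d ≤ 20 → 7 ^ 1 * 18 ∣ d.factorial) ∧ (1 = 1 → ¬ Nat.Coprime (7 ^ 1 * 18 / d) (7 - 1))) := by decide
    exact key d hle ⟨h1, h2, h3, h4', h5⟩
  · exact false_of_prime_pow hG 127 1 (by norm_num) (hn.trans (by norm_num))
  · exact false_of_prime_pow hG 2 7 (by norm_num) (hn.trans (by norm_num))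
  · exact false_of_two_primes hG 3 43 1 1 (by norm_num) (by norm_num) (hn.trans (by norm_num))
  · obtain ⟨d, h1, h2, h3, h4, h5⟩ := SimpleSmall.sylow_count (G := G) 13 1 10 (by norm_num) (hn.trans (by norm_num)) (by norm_num) (by norm_num) (by norm_num)
    have hle : d ≤ 10 := Nat.le_of_dvd (by norm_num) h1
    have h4' : d ≤ 20 → 13 ^ 1 * 10 ∣ d.factorial := fun _ => h4
    have key : ∀ d ≤ 10, ¬ (d ∣ 10 ∧ d % 13 = 1 ∧ d ≠ 1 ∧ (d ≤ 20 → 13 ^ 1 * 10 ∣ d.factorial) ∧ (1 = 1 → ¬ Nat.Coprime (13 ^ 1 * 10 / d) (13 - 1))) := by decide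
    exact key d hle ⟨h1, h2, h3, h4', h5⟩
  · exact false_of_prime_pow hG 131 1 (by norm_num) (hn.trans (by norm_num))
  · obtain ⟨d, h1, h2, h3, h4, h5⟩ := SimpleSmall.sylow_count (G := G) 11 1 12 (by norm_num) (hn.trans (by norm_num)) (by norm_num) (by norm_num) (by norm_num)
    have hle : d ≤ 12 := Nat.le_of_dvd (by norm_num) h1
    have h4' : d ≤ 20 → 11 ^ 1 * 12 ∣ d.factorial := fun _ => h4
    have key : ∀ d ≤ 12, ¬ (d ∣ 12 ∧ d % 11 = 1 ∧ d ≠ 1 ∧ (d ≤ 20 → 11 ^ 1 * 12 ∣ d.factorial) ∧ (1 = 1 → ¬ Nat.Coprime (11 ^ 1 * 12 / d) (11 - 1))) := by decide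
    exact key d hle ⟨h1, h2, h3, h4', h5⟩
  · exact false_of_two_primes hG 7 19 1 1 (by norm_num) (by norm_num) (hn.trans (by norm_num))
  · exact false_of_two_primes hG 2 67 1 1 (by norm_num) (by norm_num) (hn.trans (by norm_num))
  · exact false_of_two_primes hG 3 5 3 1 (by norm_num) (by norm_num) (hn.trans (by norm_num))
  · exact false_of_two_primes hG 2 17 3 1 (by norm_num) (by norm_num) (hn.trans (by norm_num))
  · exact false_of_prime_pow hG 137 1 (by norm_num) (hn.trans (by norm_num))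
  · obtain ⟨d, h1, h2, h3, h4, h5⟩ := SimpleSmall.sylow_count (G := G) 23 1 6 (by norm_num) (hn.trans (by norm_num)) (by norm_num) (by norm_num) (by norm_num)
    have hle : d ≤ 6 := Nat.le_of_dvd (by norm_num) h1
    have h4' : d ≤ 20 → 23 ^ 1 * 6 ∣ d.factorial := fun _ => h4
    have key : ∀ d ≤ 6, ¬ (d ∣ 6 ∧ d % 23 = 1 ∧ d ≠ 1 ∧ (d ≤ 20 → 23 ^ 1 * 6 ∣ d.factorial) ∧ (1 = 1 → ¬ Nat.Coprime (23 ^ 1 * 6 / d) (23 - 1))) := by decide
    exact key d hle ⟨h1, h2, h3, h4', h5⟩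
  · exact false_of_prime_pow hG 139 1 (by norm_num) (hn.trans (by norm_num))
  · obtain ⟨d, h1, h2, h3, h4, h5⟩ := SimpleSmall.sylow_count (G := G) 7 1 20 (by norm_num) (hn.trans (by norm_num)) (by norm_num) (by norm_num) (by norm_num)
    have hle : d ≤ 20 := Nat.le_of_dvd (by norm_num) h1
    have h4' : d ≤ 20 → 7 ^ 1 * 20 ∣ d.factorial := fun _ => h4
    have key : ∀ d ≤ 20, ¬ (d ∣ 20 ∧ d % 7 = 1 ∧ d ≠ 1 ∧ (d ≤ 20 → 7 ^ 1 * 20 ∣ d.factorial) ∧ (1 = 1 → ¬ Nat.Coprime (7 ^ 1 * 20 / d) (7 - 1))) := by decide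
    exact key d hle ⟨h1, h2, h3, h4', h5⟩
  · exact false_of_two_primes hG 3 47 1 1 (by norm_num) (by norm_num) (hn.trans (by norm_num))
  · exact false_of_two_primes hG 2 71 1 1 (by norm_num) (by norm_num) (hn.trans (by norm_num))
  · exact false_of_two_primes hG 11 13 1 1 (by norm_num) (by norm_num) (hn.trans (by norm_num))
  · exact false_of_two_primes hG 2 3 4 2 (by norm_num) (by norm_num) (hn.trans (by norm_num))
  · exact false_of_two_primes hG 5 29 1 1 (by norm_num) (by norm_num) (hn.trans (by norm_num))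
  · exact false_of_two_primes hG 2 73 1 1 (by norm_num) (by norm_num) (hn.trans (by norm_num))
  · exact false_of_two_primes hG 3 7 1 2 (by norm_num) (by norm_num) (hn.trans (by norm_num))
  · exact false_of_two_primes hG 2 37 2 1 (by norm_num) (by norm_num) (hn.trans (by norm_num))
  · exact false_of_prime_pow hG 149 1 (by norm_num) (hn.trans (by norm_num))
  · obtain ⟨d, h1, h2, h3, h4, h5⟩ := SimpleSmall.sylow_count (G := G) 5 2 6 (by norm_num) (hn.trans (by norm_num)) (by norm_num) (by norm_num) (by norm_num)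
    have hle : d ≤ 6 := Nat.le_of_dvd (by norm_num) h1
    have h4' : d ≤ 20 → 5 ^ 2 * 6 ∣ d.factorial := fun _ => h4
    have key : ∀ d ≤ 6, ¬ (d ∣ 6 ∧ d % 5 = 1 ∧ d ≠ 1 ∧ (d ≤ 20 → 5 ^ 2 * 6 ∣ d.factorial) ∧ (2 = 1 → ¬ Nat.Coprime (5 ^ 2 * 6 / d) (5 - 1))) := by decide
    exact key d hle ⟨h1, h2, h3, h4', h5⟩
  · exact false_of_prime_pow hG 151 1 (by norm_num) (hn.trans (by norm_num))
  · exact false_of_two_primes hG 2 19 3 1 (by norm_num) (by norm_num) (hn.trans (by norm_num))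
  · exact false_of_two_primes hG 3 17 2 1 (by norm_num) (by norm_num) (hn.trans (by norm_num))
  · obtain ⟨d, h1, h2, h3, h4, h5⟩ := SimpleSmall.sylow_count (G := G) 11 1 14 (by norm_num) (hn.trans (by norm_num)) (by norm_num) (by norm_num) (by norm_num)
    have hle : d ≤ 14 := Nat.le_of_dvd (by norm_num) h1
    have h4' : d ≤ 20 → 11 ^ 1 * 14 ∣ d.factorial := fun _ => h4
    have key : ∀ d ≤ 14, ¬ (d ∣ 14 ∧ d % 11 = 1 ∧ d ≠ 1 ∧ (d ≤ 20 → 11 ^ 1 * 14 ∣ d.factorial) ∧ (1 = 1 → ¬ Nat.Coprime (11 ^ 1 * 14 / d) (11 - 1))) := by decide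
    exact key d hle ⟨h1, h2, h3, h4', h5⟩
  · exact false_of_two_primes hG 5 31 1 1 (by norm_num) (by norm_num) (hn.trans (by norm_num))
  · obtain ⟨d, h1, h2, h3, h4, h5⟩ := SimpleSmall.sylow_count (G := G) 13 1 12 (by norm_num) (hn.trans (by norm_num)) (by norm_num) (by norm_num) (by norm_num)
    have hle : d ≤ 12 := Nat.le_of_dvd (by norm_num) h1
    have h4' : d ≤ 20 → 13 ^ 1 * 12 ∣ d.factorial := fun _ => h4
    have key : ∀ d ≤ 12, ¬ (d ∣ 12 ∧ d % 13 = 1 ∧ d ≠ 1 ∧ (d ≤ 20 → 13 ^ 1 * 12 ∣ d.factorial) ∧ (1 = 1 → ¬ Nat.Coprime (13 ^ 1 * 12 / d) (13 - 1))) := by decide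
    exact key d hle ⟨h1, h2, h3, h4', h5⟩
  · exact false_of_prime_pow hG 157 1 (by norm_num) (hn.trans (by norm_num))
  · exact false_of_two_primes hG 2 79 1 1 (by norm_num) (by norm_num) (hn.trans (by norm_num))
  · exact false_of_two_primes hG 3 53 1 1 (by norm_num) (by norm_num) (hn.trans (by norm_num))
  · exact false_of_two_primes hG 2 5 5 1 (by norm_num) (by norm_num) (hn.trans (by norm_num))
  · exact false_of_two_primes hG 7 23 1 1 (by norm_num) (by norm_num) (hn.trans (by norm_num))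
  · exact false_of_two_primes hG 2 3 1 4 (by norm_num) (by norm_num) (hn.trans (by norm_num))
  · exact false_of_prime_pow hG 163 1 (by norm_num) (hn.trans (by norm_num))
  · exact false_of_two_primes hG 2 41 2 1 (by norm_num) (by norm_num) (hn.trans (by norm_num))
  · obtain ⟨d, h1, h2, h3, h4, h5⟩ := SimpleSmall.sylow_count (G := G) 11 1 15 (by norm_num) (hn.trans (by norm_num)) (by norm_num) (by norm_num) (by norm_num)
    have hle : d ≤ 15 := Nat.le_of_dvd (by norm_num) h1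
    have h4' : d ≤ 20 → 11 ^ 1 * 15 ∣ d.factorial := fun _ => h4
    have key : ∀ d ≤ 15, ¬ (d ∣ 15 ∧ d % 11 = 1 ∧ d ≠ 1 ∧ (d ≤ 20 → 11 ^ 1 * 15 ∣ d.factorial) ∧ (1 = 1 → ¬ Nat.Coprime (11 ^ 1 * 15 / d) (11 - 1))) := by decide
    exact key d hle ⟨h1, h2, h3, h4', h5⟩
  · exact false_of_two_primes hG 2 83 1 1 (by norm_num) (by norm_num) (hn.trans (by norm_num))
  · exact false_of_prime_pow hG 167 1 (by norm_num) (hn.trans (by norm_num))
  · exact absurd rfl h168
  · exact false_of_prime_pow hG 13 2 (by norm_num) (hn.trans (by norm_num))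
  · obtain ⟨d, h1, h2, h3, h4, h5⟩ := SimpleSmall.sylow_count (G := G) 17 1 10 (by norm_num) (hn.trans (by norm_num)) (by norm_num) (by norm_num) (by norm_num)
    have hle : d ≤ 10 := Nat.le_of_dvd (by norm_num) h1
    have h4' : d ≤ 20 → 17 ^ 1 * 10 ∣ d.factorial := fun _ => h4
    have key : ∀ d ≤ 10, ¬ (d ∣ 10 ∧ d % 17 = 1 ∧ d ≠ 1 ∧ (d ≤ 20 → 17 ^ 1 * 10 ∣ d.factorial) ∧ (1 = 1 → ¬ Nat.Coprime (17 ^ 1 * 10 / d) (17 - 1))) := by decide
    exact key d hle ⟨h1, h2, h3, h4', h5⟩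
  · exact false_of_two_primes hG 3 19 2 1 (by norm_num) (by norm_num) (hn.trans (by norm_num))
  · exact false_of_two_primes hG 2 43 2 1 (by norm_num) (by norm_num) (hn.trans (by norm_num))
  · exact false_of_prime_pow hG 173 1 (by norm_num) (hn.trans (by norm_num))
  · obtain ⟨d, h1, h2, h3, h4, h5⟩ := SimpleSmall.sylow_count (G := G) 29 1 6 (by norm_num) (hn.trans (by norm_num)) (by norm_num) (by norm_num) (by norm_num)
    have hle : d ≤ 6 := Nat.le_of_dvd (by norm_num) h1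
    have h4' : d ≤ 20 → 29 ^ 1 * 6 ∣ d.factorial := fun _ => h4
    have key : ∀ d ≤ 6, ¬ (d ∣ 6 ∧ d % 29 = 1 ∧ d ≠ 1 ∧ (d ≤ 20 → 29 ^ 1 * 6 ∣ d.factorial) ∧ (1 = 1 → ¬ Nat.Coprime (29 ^ 1 * 6 / d) (29 - 1))) := by decide
    exact key d hle ⟨h1, h2, h3, h4', h5⟩
  · exact false_of_two_primes hG 5 7 2 1 (by norm_num) (by norm_num) (hn.trans (by norm_num))
  · exact false_of_two_primes hG 2 11 4 1 (by norm_num) (by norm_num) (hn.trans (by norm_num))
  · exact false_of_two_primes hG 3 59 1 1 (by norm_num) (by norm_num) (hn.trans (by norm_num))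
  · exact false_of_two_primes hG 2 89 1 1 (by norm_num) (by norm_num) (hn.trans (by norm_num))
  · exact false_of_prime_pow hG 179 1 (by norm_num) (hn.trans (by norm_num))
  · have : Fact (Nat.Prime 5) := ⟨by norm_num⟩
    obtain ⟨d, -, h1, h2, h3, h4, h5, h6, h7, h8, h9⟩ := sylow_count3 (G := G) hG 5 1 36 (hn.trans (by norm_num)) (by norm_num) (by norm_num) (by norm_num)
    have hle : d ≤ 36 := Nat.le_of_dvd (by norm_num) h1
    have h4' : d ≤ 20 → 5 ^ 1 * 36 ∣ d.factorial := fun _ => h4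
    clear h4
    interval_cases d <;> revert h1 h2 h3 h4' h5 h6 <;> decide
  · exact false_of_prime_pow hG 181 1 (by norm_num) (hn.trans (by norm_num))
  · obtain ⟨d, h1, h2, h3, h4, h5⟩ := SimpleSmall.sylow_count (G := G) 13 1 14 (by norm_num) (hn.trans (by norm_num)) (by norm_num) (by norm_num) (by norm_num)
    have hle : d ≤ 14 := Nat.le_of_dvd (by norm_num) h1
    have h4' : d ≤ 20 → 13 ^ 1 * 14 ∣ d.factorial := fun _ => h4
    have key : ∀ d ≤ 14, ¬ (d ∣ 14 ∧ d % 13 = 1 ∧ d ≠ 1 ∧ (d ≤ 20 → 13 ^ 1 * 14 ∣ d.factorial) ∧ (1 = 1 → ¬ Nat.Coprime (13 ^ 1 * 14 / d) (13 - 1))) := by decide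
    exact key d hle ⟨h1, h2, h3, h4', h5⟩
  · exact false_of_two_primes hG 3 61 1 1 (by norm_num) (by norm_num) (hn.trans (by norm_num))
  · exact false_of_two_primes hG 2 23 3 1 (by norm_num) (by norm_num) (hn.trans (by norm_num))
  · exact false_of_two_primes hG 5 37 1 1 (by norm_num) (by norm_num) (hn.trans (by norm_num))
  · obtain ⟨d, h1, h2, h3, h4, h5⟩ := SimpleSmall.sylow_count (G := G) 31 1 6 (by norm_num) (hn.trans (by norm_num)) (by norm_num) (by norm_num) (by norm_num)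
    have hle : d ≤ 6 := Nat.le_of_dvd (by norm_num) h1
    have h4' : d ≤ 20 → 31 ^ 1 * 6 ∣ d.factorial := fun _ => h4
    have key : ∀ d ≤ 6, ¬ (d ∣ 6 ∧ d % 31 = 1 ∧ d ≠ 1 ∧ (d ≤ 20 → 31 ^ 1 * 6 ∣ d.factorial) ∧ (1 = 1 → ¬ Nat.Coprime (31 ^ 1 * 6 / d) (31 - 1))) := by decide
    exact key d hle ⟨h1, h2, h3, h4', h5⟩
  · exact false_of_two_primes hG 11 17 1 1 (by norm_num) (by norm_num) (hn.trans (by norm_num))
  · exact false_of_two_primes hG 2 47 2 1 (by norm_num) (by norm_num) (hn.trans (by norm_num))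
  · exact false_of_two_primes hG 3 7 3 1 (by norm_num) (by norm_num) (hn.trans (by norm_num))
  · obtain ⟨d, h1, h2, h3, h4, h5⟩ := SimpleSmall.sylow_count (G := G) 19 1 10 (by norm_num) (hn.trans (by norm_num)) (by norm_num) (by norm_num) (by norm_num)
    have hle : d ≤ 10 := Nat.le_of_dvd (by norm_num) h1
    have h4' : d ≤ 20 → 19 ^ 1 * 10 ∣ d.factorial := fun _ => h4
    have key : ∀ d ≤ 10, ¬ (d ∣ 10 ∧ d % 19 = 1 ∧ d ≠ 1 ∧ (d ≤ 20 → 19 ^ 1 * 10 ∣ d.factorial) ∧ (1 = 1 → ¬ Nat.Coprime (19 ^ 1 * 10 / d) (19 - 1))) := by decide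
    exact key d hle ⟨h1, h2, h3, h4', h5⟩
  · exact false_of_prime_pow hG 191 1 (by norm_num) (hn.trans (by norm_num))
  · exact false_of_two_primes hG 2 3 6 1 (by norm_num) (by norm_num) (hn.trans (by norm_num))
  · exact false_of_prime_pow hG 193 1 (by norm_num) (hn.trans (by norm_num))
  · exact false_of_two_primes hG 2 97 1 1 (by norm_num) (by norm_num) (hn.trans (by norm_num))
  · obtain ⟨d, h1, h2, h3, h4, h5⟩ := SimpleSmall.sylow_count (G := G) 13 1 15 (by norm_num) (hn.trans (by norm_num)) (by norm_num) (by norm_num) (by norm_num)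
    have hle : d ≤ 15 := Nat.le_of_dvd (by norm_num) h1
    have h4' : d ≤ 20 → 13 ^ 1 * 15 ∣ d.factorial := fun _ => h4
    have key : ∀ d ≤ 15, ¬ (d ∣ 15 ∧ d % 13 = 1 ∧ d ≠ 1 ∧ (d ≤ 20 → 13 ^ 1 * 15 ∣ d.factorial) ∧ (1 = 1 → ¬ Nat.Coprime (13 ^ 1 * 15 / d) (13 - 1))) := by decide
    exact key d hle ⟨h1, h2, h3, h4', h5⟩
  · exact false_of_two_primes hG 2 7 2 2 (by norm_num) (by norm_num) (hn.trans (by norm_num))
  · exact false_of_prime_pow hG 197 1 (by norm_num) (hn.trans (by norm_num))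
  · obtain ⟨d, h1, h2, h3, h4, h5⟩ := SimpleSmall.sylow_count (G := G) 11 1 18 (by norm_num) (hn.trans (by norm_num)) (by norm_num) (by norm_num) (by norm_num)
    have hle : d ≤ 18 := Nat.le_of_dvd (by norm_num) h1
    have h4' : d ≤ 20 → 11 ^ 1 * 18 ∣ d.factorial := fun _ => h4
    have key : ∀ d ≤ 18, ¬ (d ∣ 18 ∧ d % 11 = 1 ∧ d ≠ 1 ∧ (d ≤ 20 → 11 ^ 1 * 18 ∣ d.factorial) ∧ (1 = 1 → ¬ Nat.Coprime (11 ^ 1 * 18 / d) (11 - 1))) := by decide
    exact key d hle ⟨h1, h2, h3, h4', h5⟩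
  · exact false_of_prime_pow hG 199 1 (by norm_num) (hn.trans (by norm_num))
  · exact false_of_two_primes hG 2 5 3 2 (by norm_num) (by norm_num) (hn.trans (by norm_num))
  · exact false_of_two_primes hG 3 67 1 1 (by norm_num) (by norm_num) (hn.trans (by norm_num))
  · exact false_of_two_primes hG 2 101 1 1 (by norm_num) (by norm_num) (hn.trans (by norm_num))
  · exact false_of_two_primes hG 7 29 1 1 (by norm_num) (by norm_num) (hn.trans (by norm_num))
  · obtain ⟨d, h1, h2, h3, h4, h5⟩ := SimpleSmall.sylow_count (G := G) 17 1 12 (by norm_num) (hn.trans (by norm_num)) (by norm_num) (by norm_num) (by norm_num)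
    have hle : d ≤ 12 := Nat.le_of_dvd (by norm_num) h1
    have h4' : d ≤ 20 → 17 ^ 1 * 12 ∣ d.factorial := fun _ => h4
    have key : ∀ d ≤ 12, ¬ (d ∣ 12 ∧ d % 17 = 1 ∧ d ≠ 1 ∧ (d ≤ 20 → 17 ^ 1 * 12 ∣ d.factorial) ∧ (1 = 1 → ¬ Nat.Coprime (17 ^ 1 * 12 / d) (17 - 1))) := by decide
    exact key d hle ⟨h1, h2, h3, h4', h5⟩
  · exact false_of_two_primes hG 5 41 1 1 (by norm_num) (by norm_num) (hn.trans (by norm_num))
  · exact false_of_two_primes hG 2 103 1 1 (by norm_num) (by norm_num) (hn.trans (by norm_num))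
  · exact false_of_two_primes hG 3 23 2 1 (by norm_num) (by norm_num) (hn.trans (by norm_num))
  · exact false_of_two_primes hG 2 13 4 1 (by norm_num) (by norm_num) (hn.trans (by norm_num))
  · exact false_of_two_primes hG 11 19 1 1 (by norm_num) (by norm_num) (hn.trans (by norm_num))
  · obtain ⟨d, h1, h2, h3, h4, h5⟩ := SimpleSmall.sylow_count (G := G) 2 1 105 (by norm_num) (hn.trans (by norm_num)) (by norm_num) (by norm_num) (by norm_num)
    exact h5 rfl (by simp)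
  · exact false_of_prime_pow hG 211 1 (by norm_num) (hn.trans (by norm_num))
  · exact false_of_two_primes hG 2 53 2 1 (by norm_num) (by norm_num) (hn.trans (by norm_num))
  · exact false_of_two_primes hG 3 71 1 1 (by norm_num) (by norm_num) (hn.trans (by norm_num))
  · exact false_of_two_primes hG 2 107 1 1 (by norm_num) (by norm_num) (hn.trans (by norm_num))
  · exact false_of_two_primes hG 5 43 1 1 (by norm_num) (by norm_num) (hn.trans (by norm_num))
  · exact false_of_two_primes hG 2 3 3 3 (by norm_num) (by norm_num) (hn.trans (by norm_num))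
  · exact false_of_two_primes hG 7 31 1 1 (by norm_num) (by norm_num) (hn.trans (by norm_num))
  · exact false_of_two_primes hG 2 109 1 1 (by norm_num) (by norm_num) (hn.trans (by norm_num))
  · exact false_of_two_primes hG 3 73 1 1 (by norm_num) (by norm_num) (hn.trans (by norm_num))
  · obtain ⟨d, h1, h2, h3, h4, h5⟩ := SimpleSmall.sylow_count (G := G) 11 1 20 (by norm_num) (hn.trans (by norm_num)) (by norm_num) (by norm_num) (by norm_num)
    have hle : d ≤ 20 := Nat.le_of_dvd (by norm_num) h1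
    have h4' : d ≤ 20 → 11 ^ 1 * 20 ∣ d.factorial := fun _ => h4
    have key : ∀ d ≤ 20, ¬ (d ∣ 20 ∧ d % 11 = 1 ∧ d ≠ 1 ∧ (d ≤ 20 → 11 ^ 1 * 20 ∣ d.factorial) ∧ (1 = 1 → ¬ Nat.Coprime (11 ^ 1 * 20 / d) (11 - 1))) := by decide
    exact key d hle ⟨h1, h2, h3, h4', h5⟩
  · exact false_of_two_primes hG 13 17 1 1 (by norm_num) (by norm_num) (hn.trans (by norm_num))
  · obtain ⟨d, h1, h2, h3, h4, h5⟩ := SimpleSmall.sylow_count (G := G) 37 1 6 (by norm_num) (hn.trans (by norm_num)) (by norm_num) (by norm_num) (by norm_num)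
    have hle : d ≤ 6 := Nat.le_of_dvd (by norm_num) h1
    have h4' : d ≤ 20 → 37 ^ 1 * 6 ∣ d.factorial := fun _ => h4
    have key : ∀ d ≤ 6, ¬ (d ∣ 6 ∧ d % 37 = 1 ∧ d ≠ 1 ∧ (d ≤ 20 → 37 ^ 1 * 6 ∣ d.factorial) ∧ (1 = 1 → ¬ Nat.Coprime (37 ^ 1 * 6 / d) (37 - 1))) := by decide
    exact key d hle ⟨h1, h2, h3, h4', h5⟩
  · exact false_of_prime_pow hG 223 1 (by norm_num) (hn.trans (by norm_num))
  · exact false_of_two_primes hG 2 7 5 1 (by norm_num) (by norm_num) (hn.trans (by norm_num))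
  · exact false_of_two_primes hG 3 5 2 2 (by norm_num) (by norm_num) (hn.trans (by norm_num))
  · exact false_of_two_primes hG 2 113 1 1 (by norm_num) (by norm_num) (hn.trans (by norm_num))
  · exact false_of_prime_pow hG 227 1 (by norm_num) (hn.trans (by norm_num))
  · obtain ⟨d, h1, h2, h3, h4, h5⟩ := SimpleSmall.sylow_count (G := G) 19 1 12 (by norm_num) (hn.trans (by norm_num)) (by norm_num) (by norm_num) (by norm_num)
    have hle : d ≤ 12 := Nat.le_of_dvd (by norm_num) h1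
    have h4' : d ≤ 20 → 19 ^ 1 * 12 ∣ d.factorial := fun _ => h4
    have key : ∀ d ≤ 12, ¬ (d ∣ 12 ∧ d % 19 = 1 ∧ d ≠ 1 ∧ (d ≤ 20 → 19 ^ 1 * 12 ∣ d.factorial) ∧ (1 = 1 → ¬ Nat.Coprime (19 ^ 1 * 12 / d) (19 - 1))) := by decide
    exact key d hle ⟨h1, h2, h3, h4', h5⟩
  · exact false_of_prime_pow hG 229 1 (by norm_num) (hn.trans (by norm_num))
  · obtain ⟨d, h1, h2, h3, h4, h5⟩ := SimpleSmall.sylow_count (G := G) 23 1 10 (by norm_num) (hn.trans (by norm_num)) (by norm_num) (by norm_num) (by norm_num)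
    have hle : d ≤ 10 := Nat.le_of_dvd (by norm_num) h1
    have h4' : d ≤ 20 → 23 ^ 1 * 10 ∣ d.factorial := fun _ => h4
    have key : ∀ d ≤ 10, ¬ (d ∣ 10 ∧ d % 23 = 1 ∧ d ≠ 1 ∧ (d ≤ 20 → 23 ^ 1 * 10 ∣ d.factorial) ∧ (1 = 1 → ¬ Nat.Coprime (23 ^ 1 * 10 / d) (23 - 1))) := by decide
    exact key d hle ⟨h1, h2, h3, h4', h5⟩
  · obtain ⟨d, h1, h2, h3, h4, h5⟩ := SimpleSmall.sylow_count (G := G) 11 1 21 (by norm_num) (hn.trans (by norm_num)) (by norm_num) (by norm_num) (by norm_num)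
    have hle : d ≤ 21 := Nat.le_of_dvd (by norm_num) h1
    have h4' : d ≤ 20 → 11 ^ 1 * 21 ∣ d.factorial := fun _ => h4
    have key : ∀ d ≤ 21, ¬ (d ∣ 21 ∧ d % 11 = 1 ∧ d ≠ 1 ∧ (d ≤ 20 → 11 ^ 1 * 21 ∣ d.factorial) ∧ (1 = 1 → ¬ Nat.Coprime (11 ^ 1 * 21 / d) (11 - 1))) := by decide
    exact key d hle ⟨h1, h2, h3, h4', h5⟩
  · exact false_of_two_primes hG 2 29 3 1 (by norm_num) (by norm_num) (hn.trans (by norm_num))
  · exact false_of_prime_pow hG 233 1 (by norm_num) (hn.trans (by norm_num))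
  · obtain ⟨d, h1, h2, h3, h4, h5⟩ := SimpleSmall.sylow_count (G := G) 13 1 18 (by norm_num) (hn.trans (by norm_num)) (by norm_num) (by norm_num) (by norm_num)
    have hle : d ≤ 18 := Nat.le_of_dvd (by norm_num) h1
    have h4' : d ≤ 20 → 13 ^ 1 * 18 ∣ d.factorial := fun _ => h4
    have key : ∀ d ≤ 18, ¬ (d ∣ 18 ∧ d % 13 = 1 ∧ d ≠ 1 ∧ (d ≤ 20 → 13 ^ 1 * 18 ∣ d.factorial) ∧ (1 = 1 → ¬ Nat.Coprime (13 ^ 1 * 18 / d) (13 - 1))) := by decide
    exact key d hle ⟨h1, h2, h3, h4', h5⟩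
  · exact false_of_two_primes hG 5 47 1 1 (by norm_num) (by norm_num) (hn.trans (by norm_num))
  · exact false_of_two_primes hG 2 59 2 1 (by norm_num) (by norm_num) (hn.trans (by norm_num))
  · exact false_of_two_primes hG 3 79 1 1 (by norm_num) (by norm_num) (hn.trans (by norm_num))
  · obtain ⟨d, h1, h2, h3, h4, h5⟩ := SimpleSmall.sylow_count (G := G) 17 1 14 (by norm_num) (hn.trans (by norm_num)) (by norm_num) (by norm_num) (by norm_num)
    have hle : d ≤ 14 := Nat.le_of_dvd (by norm_num) h1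
    have h4' : d ≤ 20 → 17 ^ 1 * 14 ∣ d.factorial := fun _ => h4
    have key : ∀ d ≤ 14, ¬ (d ∣ 14 ∧ d % 17 = 1 ∧ d ≠ 1 ∧ (d ≤ 20 → 17 ^ 1 * 14 ∣ d.factorial) ∧ (1 = 1 → ¬ Nat.Coprime (17 ^ 1 * 14 / d) (17 - 1))) := by decide
    exact key d hle ⟨h1, h2, h3, h4', h5⟩
  · exact false_of_prime_pow hG 239 1 (by norm_num) (hn.trans (by norm_num))
  · have : Fact (Nat.Prime 5) := ⟨by norm_num⟩
    obtain ⟨d, -, h1, h2, h3, h4, h5, h6, h7, h8, h9⟩ := sylow_count3 (G := G) hG 5 1 48 (hn.trans (by norm_num)) (by norm_num) (by norm_num) (by norm_num)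
    have hle : d ≤ 48 := Nat.le_of_dvd (by norm_num) h1
    have h4' : d ≤ 20 → 5 ^ 1 * 48 ∣ d.factorial := fun _ => h4
    clear h4
    interval_cases d <;> revert h1 h2 h3 h4' h5 h6 <;> decide
  · exact false_of_prime_pow hG 241 1 (by norm_num) (hn.trans (by norm_num))
  · exact false_of_two_primes hG 2 11 1 2 (by norm_num) (by norm_num) (hn.trans (by norm_num))
  · exact false_of_prime_pow hG 3 5 (by norm_num) (hn.trans (by norm_num))
  · exact false_of_two_primes hG 2 61 2 1 (by norm_num) (by norm_num) (hn.trans (by norm_num))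
  · exact false_of_two_primes hG 5 7 1 2 (by norm_num) (by norm_num) (hn.trans (by norm_num))
  · obtain ⟨d, h1, h2, h3, h4, h5⟩ := SimpleSmall.sylow_count (G := G) 41 1 6 (by norm_num) (hn.trans (by norm_num)) (by norm_num) (by norm_num) (by norm_num)
    have hle : d ≤ 6 := Nat.le_of_dvd (by norm_num) h1
    have h4' : d ≤ 20 → 41 ^ 1 * 6 ∣ d.factorial := fun _ => h4
    have key : ∀ d ≤ 6, ¬ (d ∣ 6 ∧ d % 41 = 1 ∧ d ≠ 1 ∧ (d ≤ 20 → 41 ^ 1 * 6 ∣ d.factorial) ∧ (1 = 1 → ¬ Nat.Coprime (41 ^ 1 * 6 / d) (41 - 1))) := by decide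
    exact key d hle ⟨h1, h2, h3, h4', h5⟩
  · exact false_of_two_primes hG 13 19 1 1 (by norm_num) (by norm_num) (hn.trans (by norm_num))
  · exact false_of_two_primes hG 2 31 3 1 (by norm_num) (by norm_num) (hn.trans (by norm_num))
  · exact false_of_two_primes hG 3 83 1 1 (by norm_num) (by norm_num) (hn.trans (by norm_num))
  · exact false_of_two_primes hG 2 5 1 3 (by norm_num) (by norm_num) (hn.trans (by norm_num))
  · exact false_of_prime_pow hG 251 1 (by norm_num) (hn.trans (by norm_num))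
  · obtain ⟨d, h1, h2, h3, h4, h5⟩ := SimpleSmall.sylow_count (G := G) 7 1 36 (by norm_num) (hn.trans (by norm_num)) (by norm_num) (by norm_num) (by norm_num)
    have hle : d ≤ 36 := Nat.le_of_dvd (by norm_num) h1
    have h4' : d ≤ 20 → 7 ^ 1 * 36 ∣ d.factorial := fun _ => h4
    have key : ∀ d ≤ 36, ¬ (d ∣ 36 ∧ d % 7 = 1 ∧ d ≠ 1 ∧ (d ≤ 20 → 7 ^ 1 * 36 ∣ d.factorial) ∧ (1 = 1 → ¬ Nat.Coprime (7 ^ 1 * 36 / d) (7 - 1))) := by decide
    exact key d hle ⟨h1, h2, h3, h4', h5⟩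
  · exact false_of_two_primes hG 11 23 1 1 (by norm_num) (by norm_num) (hn.trans (by norm_num))
  · exact false_of_two_primes hG 2 127 1 1 (by norm_num) (by norm_num) (hn.trans (by norm_num))
  · obtain ⟨d, h1, h2, h3, h4, h5⟩ := SimpleSmall.sylow_count (G := G) 17 1 15 (by norm_num) (hn.trans (by norm_num)) (by norm_num) (by norm_num) (by norm_num)
    have hle : d ≤ 15 := Nat.le_of_dvd (by norm_num) h1
    have h4' : d ≤ 20 → 17 ^ 1 * 15 ∣ d.factorial := fun _ => h4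
    have key : ∀ d ≤ 15, ¬ (d ∣ 15 ∧ d % 17 = 1 ∧ d ≠ 1 ∧ (d ≤ 20 → 17 ^ 1 * 15 ∣ d.factorial) ∧ (1 = 1 → ¬ Nat.Coprime (17 ^ 1 * 15 / d) (17 - 1))) := by decide
    exact key d hle ⟨h1, h2, h3, h4', h5⟩
  · exact false_of_prime_pow hG 2 8 (by norm_num) (hn.trans (by norm_num))
  · exact false_of_prime_pow hG 257 1 (by norm_num) (hn.trans (by norm_num))
  · obtain ⟨d, h1, h2, h3, h4, h5⟩ := SimpleSmall.sylow_count (G := G) 43 1 6 (by norm_num) (hn.trans (by norm_num)) (by norm_num) (by norm_num) (by norm_num)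
    have hle : d ≤ 6 := Nat.le_of_dvd (by norm_num) h1
    have h4' : d ≤ 20 → 43 ^ 1 * 6 ∣ d.factorial := fun _ => h4
    have key : ∀ d ≤ 6, ¬ (d ∣ 6 ∧ d % 43 = 1 ∧ d ≠ 1 ∧ (d ≤ 20 → 43 ^ 1 * 6 ∣ d.factorial) ∧ (1 = 1 → ¬ Nat.Coprime (43 ^ 1 * 6 / d) (43 - 1))) := by decide
    exact key d hle ⟨h1, h2, h3, h4', h5⟩
  · exact false_of_two_primes hG 7 37 1 1 (by norm_num) (by norm_num) (hn.trans (by norm_num))
  · obtain ⟨d, h1, h2, h3, h4, h5⟩ := SimpleSmall.sylow_count (G := G) 13 1 20 (by norm_num) (hn.trans (by norm_num)) (by norm_num) (by norm_num) (by norm_num)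
    have hle : d ≤ 20 := Nat.le_of_dvd (by norm_num) h1
    have h4' : d ≤ 20 → 13 ^ 1 * 20 ∣ d.factorial := fun _ => h4
    have key : ∀ d ≤ 20, ¬ (d ∣ 20 ∧ d % 13 = 1 ∧ d ≠ 1 ∧ (d ≤ 20 → 13 ^ 1 * 20 ∣ d.factorial) ∧ (1 = 1 → ¬ Nat.Coprime (13 ^ 1 * 20 / d) (13 - 1))) := by decide
    exact key d hle ⟨h1, h2, h3, h4', h5⟩
  · exact false_of_two_primes hG 3 29 2 1 (by norm_num) (by norm_num) (hn.trans (by norm_num))
  · exact false_of_two_primes hG 2 131 1 1 (by norm_num) (by norm_num) (hn.trans (by norm_num))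
  · exact false_of_prime_pow hG 263 1 (by norm_num) (hn.trans (by norm_num))
  · have : Fact (Nat.Prime 11) := ⟨by norm_num⟩
    obtain ⟨d, -, h1, h2, h3, h4, h5, h6, h7, h8, h9⟩ := sylow_count3 (G := G) hG 11 1 24 (hn.trans (by norm_num)) (by norm_num) (by norm_num) (by norm_num)
    have hle : d ≤ 24 := Nat.le_of_dvd (by norm_num) h1
    have h4' : d ≤ 20 → 11 ^ 1 * 24 ∣ d.factorial := fun _ => h4
    clear h4
    interval_cases d <;> revert h1 h2 h3 h4' h5 h6 <;> decide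
  · exact false_of_two_primes hG 5 53 1 1 (by norm_num) (by norm_num) (hn.trans (by norm_num))
  · obtain ⟨d, h1, h2, h3, h4, h5⟩ := SimpleSmall.sylow_count (G := G) 19 1 14 (by norm_num) (hn.trans (by norm_num)) (by norm_num) (by norm_num) (by norm_num)
    have hle : d ≤ 14 := Nat.le_of_dvd (by norm_num) h1
    have h4' : d ≤ 20 → 19 ^ 1 * 14 ∣ d.factorial := fun _ => h4
    have key : ∀ d ≤ 14, ¬ (d ∣ 14 ∧ d % 19 = 1 ∧ d ≠ 1 ∧ (d ≤ 20 → 19 ^ 1 * 14 ∣ d.factorial) ∧ (1 = 1 → ¬ Nat.Coprime (19 ^ 1 * 14 / d) (19 - 1))) := by decide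
    exact key d hle ⟨h1, h2, h3, h4', h5⟩
  · exact false_of_two_primes hG 3 89 1 1 (by norm_num) (by norm_num) (hn.trans (by norm_num))
  · exact false_of_two_primes hG 2 67 2 1 (by norm_num) (by norm_num) (hn.trans (by norm_num))
  · exact false_of_prime_pow hG 269 1 (by norm_num) (hn.trans (by norm_num))
  · obtain ⟨d, h1, h2, h3, h4, h5⟩ := SimpleSmall.sylow_count (G := G) 5 1 54 (by norm_num) (hn.trans (by norm_num)) (by norm_num) (by norm_num) (by norm_num)
    have hle : d ≤ 54 := Nat.le_of_dvd (by norm_num) h1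
    have h4' : d ≤ 20 → 5 ^ 1 * 54 ∣ d.factorial := fun _ => h4
    have key : ∀ d ≤ 54, ¬ (d ∣ 54 ∧ d % 5 = 1 ∧ d ≠ 1 ∧ (d ≤ 20 → 5 ^ 1 * 54 ∣ d.factorial) ∧ (1 = 1 → ¬ Nat.Coprime (5 ^ 1 * 54 / d) (5 - 1))) := by decide
    exact key d hle ⟨h1, h2, h3, h4', h5⟩
  · exact false_of_prime_pow hG 271 1 (by norm_num) (hn.trans (by norm_num))
  · exact false_of_two_primes hG 2 17 4 1 (by norm_num) (by norm_num) (hn.trans (by norm_num))
  · obtain ⟨d, h1, h2, h3, h4, h5⟩ := SimpleSmall.sylow_count (G := G) 13 1 21 (by norm_num) (hn.trans (by norm_num)) (by norm_num) (by norm_num) (by norm_num)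
    have hle : d ≤ 21 := Nat.le_of_dvd (by norm_num) h1
    have h4' : d ≤ 20 → 13 ^ 1 * 21 ∣ d.factorial := fun _ => h4
    have key : ∀ d ≤ 21, ¬ (d ∣ 21 ∧ d % 13 = 1 ∧ d ≠ 1 ∧ (d ≤ 20 → 13 ^ 1 * 21 ∣ d.factorial) ∧ (1 = 1 → ¬ Nat.Coprime (13 ^ 1 * 21 / d) (13 - 1))) := by decide
    exact key d hle ⟨h1, h2, h3, h4', h5⟩
  · exact false_of_two_primes hG 2 137 1 1 (by norm_num) (by norm_num) (hn.trans (by norm_num))
  · exact false_of_two_primes hG 5 11 2 1 (by norm_num) (by norm_num) (hn.trans (by norm_num))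
  · obtain ⟨d, h1, h2, h3, h4, h5⟩ := SimpleSmall.sylow_count (G := G) 23 1 12 (by norm_num) (hn.trans (by norm_num)) (by norm_num) (by norm_num) (by norm_num)
    have hle : d ≤ 12 := Nat.le_of_dvd (by norm_num) h1
    have h4' : d ≤ 20 → 23 ^ 1 * 12 ∣ d.factorial := fun _ => h4
    have key : ∀ d ≤ 12, ¬ (d ∣ 12 ∧ d % 23 = 1 ∧ d ≠ 1 ∧ (d ≤ 20 → 23 ^ 1 * 12 ∣ d.factorial) ∧ (1 = 1 → ¬ Nat.Coprime (23 ^ 1 * 12 / d) (23 - 1))) := by decide
    exact key d hle ⟨h1, h2, h3, h4', h5⟩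
  · exact false_of_prime_pow hG 277 1 (by norm_num) (hn.trans (by norm_num))
  · exact false_of_two_primes hG 2 139 1 1 (by norm_num) (by norm_num) (hn.trans (by norm_num))
  · exact false_of_two_primes hG 3 31 2 1 (by norm_num) (by norm_num) (hn.trans (by norm_num))
  · obtain ⟨d, h1, h2, h3, h4, h5⟩ := SimpleSmall.sylow_count (G := G) 7 1 40 (by norm_num) (hn.trans (by norm_num)) (by norm_num) (by norm_num) (by norm_num)
    have hle : d ≤ 40 := Nat.le_of_dvd (by norm_num) h1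
    have h4' : d ≤ 20 → 7 ^ 1 * 40 ∣ d.factorial := fun _ => h4
    have key : ∀ d ≤ 40, ¬ (d ∣ 40 ∧ d % 7 = 1 ∧ d ≠ 1 ∧ (d ≤ 20 → 7 ^ 1 * 40 ∣ d.factorial) ∧ (1 = 1 → ¬ Nat.Coprime (7 ^ 1 * 40 / d) (7 - 1))) := by decide
    exact key d hle ⟨h1, h2, h3, h4', h5⟩
  · exact false_of_prime_pow hG 281 1 (by norm_num) (hn.trans (by norm_num))
  · obtain ⟨d, h1, h2, h3, h4, h5⟩ := SimpleSmall.sylow_count (G := G) 47 1 6 (by norm_num) (hn.trans (by norm_num)) (by norm_num) (by norm_num) (by norm_num)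
    have hle : d ≤ 6 := Nat.le_of_dvd (by norm_num) h1
    have h4' : d ≤ 20 → 47 ^ 1 * 6 ∣ d.factorial := fun _ => h4
    have key : ∀ d ≤ 6, ¬ (d ∣ 6 ∧ d % 47 = 1 ∧ d ≠ 1 ∧ (d ≤ 20 → 47 ^ 1 * 6 ∣ d.factorial) ∧ (1 = 1 → ¬ Nat.Coprime (47 ^ 1 * 6 / d) (47 - 1))) := by decide
    exact key d hle ⟨h1, h2, h3, h4', h5⟩
  · exact false_of_prime_pow hG 283 1 (by norm_num) (hn.trans (by norm_num))
  · exact false_of_two_primes hG 2 71 2 1 (by norm_num) (by norm_num) (hn.trans (by norm_num))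
  · obtain ⟨d, h1, h2, h3, h4, h5⟩ := SimpleSmall.sylow_count (G := G) 19 1 15 (by norm_num) (hn.trans (by norm_num)) (by norm_num) (by norm_num) (by norm_num)
    have hle : d ≤ 15 := Nat.le_of_dvd (by norm_num) h1
    have h4' : d ≤ 20 → 19 ^ 1 * 15 ∣ d.factorial := fun _ => h4
    have key : ∀ d ≤ 15, ¬ (d ∣ 15 ∧ d % 19 = 1 ∧ d ≠ 1 ∧ (d ≤ 20 → 19 ^ 1 * 15 ∣ d.factorial) ∧ (1 = 1 → ¬ Nat.Coprime (19 ^ 1 * 15 / d) (19 - 1))) := by decide
    exact key d hle ⟨h1, h2, h3, h4', h5⟩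
  · obtain ⟨d, h1, h2, h3, h4, h5⟩ := SimpleSmall.sylow_count (G := G) 13 1 22 (by norm_num) (hn.trans (by norm_num)) (by norm_num) (by norm_num) (by norm_num)
    have hle : d ≤ 22 := Nat.le_of_dvd (by norm_num) h1
    have h4' : d ≤ 20 → 13 ^ 1 * 22 ∣ d.factorial := fun _ => h4
    have key : ∀ d ≤ 22, ¬ (d ∣ 22 ∧ d % 13 = 1 ∧ d ≠ 1 ∧ (d ≤ 20 → 13 ^ 1 * 22 ∣ d.factorial) ∧ (1 = 1 → ¬ Nat.Coprime (13 ^ 1 * 22 / d) (13 - 1))) := by decide
    exact key d hle ⟨h1, h2, h3, h4', h5⟩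
  · exact false_of_two_primes hG 7 41 1 1 (by norm_num) (by norm_num) (hn.trans (by norm_num))
  · exact false_of_two_primes hG 2 3 5 2 (by norm_num) (by norm_num) (hn.trans (by norm_num))
  · exact false_of_prime_pow hG 17 2 (by norm_num) (hn.trans (by norm_num))
  · obtain ⟨d, h1, h2, h3, h4, h5⟩ := SimpleSmall.sylow_count (G := G) 29 1 10 (by norm_num) (hn.trans (by norm_num)) (by norm_num) (by norm_num) (by norm_num)
    have hle : d ≤ 10 := Nat.le_of_dvd (by norm_num) h1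
    have h4' : d ≤ 20 → 29 ^ 1 * 10 ∣ d.factorial := fun _ => h4
    have key : ∀ d ≤ 10, ¬ (d ∣ 10 ∧ d % 29 = 1 ∧ d ≠ 1 ∧ (d ≤ 20 → 29 ^ 1 * 10 ∣ d.factorial) ∧ (1 = 1 → ¬ Nat.Coprime (29 ^ 1 * 10 / d) (29 - 1))) := by decide
    exact key d hle ⟨h1, h2, h3, h4', h5⟩
  · exact false_of_two_primes hG 3 97 1 1 (by norm_num) (by norm_num) (hn.trans (by norm_num))
  · exact false_of_two_primes hG 2 73 2 1 (by norm_num) (by norm_num) (hn.trans (by norm_num))
  · exact false_of_prime_pow hG 293 1 (by norm_num) (hn.trans (by norm_num))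
  · obtain ⟨d, h1, h2, h3, h4, h5⟩ := SimpleSmall.sylow_count (G := G) 7 2 6 (by norm_num) (hn.trans (by norm_num)) (by norm_num) (by norm_num) (by norm_num)
    have hle : d ≤ 6 := Nat.le_of_dvd (by norm_num) h1
    have h4' : d ≤ 20 → 7 ^ 2 * 6 ∣ d.factorial := fun _ => h4
    have key : ∀ d ≤ 6, ¬ (d ∣ 6 ∧ d % 7 = 1 ∧ d ≠ 1 ∧ (d ≤ 20 → 7 ^ 2 * 6 ∣ d.factorial) ∧ (2 = 1 → ¬ Nat.Coprime (7 ^ 2 * 6 / d) (7 - 1))) := by decide
    exact key d hle ⟨h1, h2, h3, h4', h5⟩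
  · exact false_of_two_primes hG 5 59 1 1 (by norm_num) (by norm_num) (hn.trans (by norm_num))
  · exact false_of_two_primes hG 2 37 3 1 (by norm_num) (by norm_num) (hn.trans (by norm_num))
  · exact false_of_two_primes hG 3 11 3 1 (by norm_num) (by norm_num) (hn.trans (by norm_num))
  · exact false_of_two_primes hG 2 149 1 1 (by norm_num) (by norm_num) (hn.trans (by norm_num))
  · exact false_of_two_primes hG 13 23 1 1 (by norm_num) (by norm_num) (hn.trans (by norm_num))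
  · obtain ⟨d, h1, h2, h3, h4, h5⟩ := SimpleSmall.sylow_count (G := G) 5 2 12 (by norm_num) (hn.trans (by norm_num)) (by norm_num) (by norm_num) (by norm_num)
    have hle : d ≤ 12 := Nat.le_of_dvd (by norm_num) h1
    have h4' : d ≤ 20 → 5 ^ 2 * 12 ∣ d.factorial := fun _ => h4
    have key : ∀ d ≤ 12, ¬ (d ∣ 12 ∧ d % 5 = 1 ∧ d ≠ 1 ∧ (d ≤ 20 → 5 ^ 2 * 12 ∣ d.factorial) ∧ (2 = 1 → ¬ Nat.Coprime (5 ^ 2 * 12 / d) (5 - 1))) := by decide
    exact key d hle ⟨h1, h2, h3, h4', h5⟩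

end Cfsg.Agent.Helper2.SimpleSmall2
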