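import Mathlib
import Cfsg.Agent.Helper2.SimpleSmall2
import Cfsg.Agent.S0499

/-!
# Orders of simple groups: the routine cases 301..600 (generated; helper2, for S0496)
-/

set_option autoImplicit false
set_option maxRecDepth 4096
set_option synthInstance.maxSize 2048

namespace Cfsg.Agent.Helper2.SimpleSmall2

open Cfsg.Agent.Helper2

theorem no_simple_rangeB {G : Type*} [Group G] [Finite G] [IsSimpleGroup G]
    (hG : ¬ IsMulCommutative G) (n : ℕ) (hn : Nat.card G = n) (hlo : 301 ≤ n) (hhi : n ≤ 600)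
    (h360 : n ≠ 360) (h504 : n ≠ 504) : False := by
  interval_cases n
  · exact false_of_two_primes hG 7 43 1 1 (by norm_num) (by norm_num) (hn.trans (by norm_num))
  · exact false_of_two_primes hG 2 151 1 1 (by norm_num) (by norm_num) (hn.trans (by norm_num))
  · exact false_of_two_primes hG 3 101 1 1 (by norm_num) (by norm_num) (hn.trans (by norm_num))
  · exact false_of_two_primes hG 2 19 4 1 (by norm_num) (by norm_num) (hn.trans (by norm_num))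
  · exact false_of_two_primes hG 5 61 1 1 (by norm_num) (by norm_num) (hn.trans (by norm_num))
  · obtain ⟨d, h1, h2, h3, h4, h5⟩ := SimpleSmall.sylow_count (G := G) 17 1 18 (by norm_num) (hn.trans (by norm_num)) (by norm_num) (by norm_num) (by norm_num)
    have hle : d ≤ 18 := Nat.le_of_dvd (by norm_num) h1
    have h4' : d ≤ 20 → 17 ^ 1 * 18 ∣ d.factorial := fun _ => h4
    have key : ∀ d ≤ 18, ¬ (d ∣ 18 ∧ d % 17 = 1 ∧ d ≠ 1 ∧ (d ≤ 20 → 17 ^ 1 * 18 ∣ d.factorial) ∧ (1 = 1 → ¬ Nat.Coprime (17 ^ 1 * 18 / d) (17 - 1))) := by decide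
    exact key d hle ⟨h1, h2, h3, h4', h5⟩
  · exact false_of_prime_pow hG 307 1 (by norm_num) (hn.trans (by norm_num))
  · obtain ⟨d, h1, h2, h3, h4, h5⟩ := SimpleSmall.sylow_count (G := G) 11 1 28 (by norm_num) (hn.trans (by norm_num)) (by norm_num) (by norm_num) (by norm_num)
    have hle : d ≤ 28 := Nat.le_of_dvd (by norm_num) h1
    have h4' : d ≤ 20 → 11 ^ 1 * 28 ∣ d.factorial := fun _ => h4
    have key : ∀ d ≤ 28, ¬ (d ∣ 28 ∧ d % 11 = 1 ∧ d ≠ 1 ∧ (d ≤ 20 → 11 ^ 1 * 28 ∣ d.factorial) ∧ (1 = 1 → ¬ Nat.Coprime (11 ^ 1 * 28 / d) (11 - 1))) := by decide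
    exact key d hle ⟨h1, h2, h3, h4', h5⟩
  · exact false_of_two_primes hG 3 103 1 1 (by norm_num) (by norm_num) (hn.trans (by norm_num))
  · obtain ⟨d, h1, h2, h3, h4, h5⟩ := SimpleSmall.sylow_count (G := G) 31 1 10 (by norm_num) (hn.trans (by norm_num)) (by norm_num) (by norm_num) (by norm_num)
    have hle : d ≤ 10 := Nat.le_of_dvd (by norm_num) h1
    have h4' : d ≤ 20 → 31 ^ 1 * 10 ∣ d.factorial := fun _ => h4
    have key : ∀ d ≤ 10, ¬ (d ∣ 10 ∧ d % 31 = 1 ∧ d ≠ 1 ∧ (d ≤ 20 → 31 ^ 1 * 10 ∣ d.factorial) ∧ (1 = 1 → ¬ Nat.Coprime (31 ^ 1 * 10 / d) (31 - 1))) := by decide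
    exact key d hle ⟨h1, h2, h3, h4', h5⟩
  · exact false_of_prime_pow hG 311 1 (by norm_num) (hn.trans (by norm_num))
  · obtain ⟨d, h1, h2, h3, h4, h5⟩ := SimpleSmall.sylow_count (G := G) 13 1 24 (by norm_num) (hn.trans (by norm_num)) (by norm_num) (by norm_num) (by norm_num)
    have hle : d ≤ 24 := Nat.le_of_dvd (by norm_num) h1
    have h4' : d ≤ 20 → 13 ^ 1 * 24 ∣ d.factorial := fun _ => h4
    have key : ∀ d ≤ 24, ¬ (d ∣ 24 ∧ d % 13 = 1 ∧ d ≠ 1 ∧ (d ≤ 20 → 13 ^ 1 * 24 ∣ d.factorial) ∧ (1 = 1 → ¬ Nat.Coprime (13 ^ 1 * 24 / d) (13 - 1))) := by decide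
    exact key d hle ⟨h1, h2, h3, h4', h5⟩
  · exact false_of_prime_pow hG 313 1 (by norm_num) (hn.trans (by norm_num))
  · exact false_of_two_primes hG 2 157 1 1 (by norm_num) (by norm_num) (hn.trans (by norm_num))
  · obtain ⟨d, h1, h2, h3, h4, h5⟩ := SimpleSmall.sylow_count (G := G) 5 1 63 (by norm_num) (hn.trans (by norm_num)) (by norm_num) (by norm_num) (by norm_num)
    have hle : d ≤ 63 := Nat.le_of_dvd (by norm_num) h1
    have h4' : d ≤ 20 → 5 ^ 1 * 63 ∣ d.factorial := fun _ => h4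
    have key : ∀ d ≤ 63, ¬ (d ∣ 63 ∧ d % 5 = 1 ∧ d ≠ 1 ∧ (d ≤ 20 → 5 ^ 1 * 63 ∣ d.factorial) ∧ (1 = 1 → ¬ Nat.Coprime (5 ^ 1 * 63 / d) (5 - 1))) := by decide
    exact key d hle ⟨h1, h2, h3, h4', h5⟩
  · exact false_of_two_primes hG 2 79 2 1 (by norm_num) (by norm_num) (hn.trans (by norm_num))
  · exact false_of_prime_pow hG 317 1 (by norm_num) (hn.trans (by norm_num))
  · obtain ⟨d, h1, h2, h3, h4, h5⟩ := SimpleSmall.sylow_count (G := G) 53 1 6 (by norm_num) (hn.trans (by norm_num)) (by norm_num) (by norm_num) (by norm_num)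
    have hle : d ≤ 6 := Nat.le_of_dvd (by norm_num) h1
    have h4' : d ≤ 20 → 53 ^ 1 * 6 ∣ d.factorial := fun _ => h4
    have key : ∀ d ≤ 6, ¬ (d ∣ 6 ∧ d % 53 = 1 ∧ d ≠ 1 ∧ (d ≤ 20 → 53 ^ 1 * 6 ∣ d.factorial) ∧ (1 = 1 → ¬ Nat.Coprime (53 ^ 1 * 6 / d) (53 - 1))) := by decide
    exact key d hle ⟨h1, h2, h3, h4', h5⟩
  · exact false_of_two_primes hG 11 29 1 1 (by norm_num) (by norm_num) (hn.trans (by norm_num))
  · exact false_of_two_primes hG 2 5 6 1 (by norm_num) (by norm_num) (hn.trans (by norm_num))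
  · exact false_of_two_primes hG 3 107 1 1 (by norm_num) (by norm_num) (hn.trans (by norm_num))
  · obtain ⟨d, h1, h2, h3, h4, h5⟩ := SimpleSmall.sylow_count (G := G) 23 1 14 (by norm_num) (hn.trans (by norm_num)) (by norm_num) (by norm_num) (by norm_num)
    have hle : d ≤ 14 := Nat.le_of_dvd (by norm_num) h1
    have h4' : d ≤ 20 → 23 ^ 1 * 14 ∣ d.factorial := fun _ => h4
    have key : ∀ d ≤ 14, ¬ (d ∣ 14 ∧ d % 23 = 1 ∧ d ≠ 1 ∧ (d ≤ 20 → 23 ^ 1 * 14 ∣ d.factorial) ∧ (1 = 1 → ¬ Nat.Coprime (23 ^ 1 * 14 / d) (23 - 1))) := by decide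
    exact key d hle ⟨h1, h2, h3, h4', h5⟩
  · exact false_of_two_primes hG 17 19 1 1 (by norm_num) (by norm_num) (hn.trans (by norm_num))
  · exact false_of_two_primes hG 2 3 2 4 (by norm_num) (by norm_num) (hn.trans (by norm_num))
  · exact false_of_two_primes hG 5 13 2 1 (by norm_num) (by norm_num) (hn.trans (by norm_num))
  · exact false_of_two_primes hG 2 163 1 1 (by norm_num) (by norm_num) (hn.trans (by norm_num))
  · exact false_of_two_primes hG 3 109 1 1 (by norm_num) (by norm_num) (hn.trans (by norm_num))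
  · exact false_of_two_primes hG 2 41 3 1 (by norm_num) (by norm_num) (hn.trans (by norm_num))
  · exact false_of_two_primes hG 7 47 1 1 (by norm_num) (by norm_num) (hn.trans (by norm_num))
  · obtain ⟨d, h1, h2, h3, h4, h5⟩ := SimpleSmall.sylow_count (G := G) 11 1 30 (by norm_num) (hn.trans (by norm_num)) (by norm_num) (by norm_num) (by norm_num)
    have hle : d ≤ 30 := Nat.le_of_dvd (by norm_num) h1
    have h4' : d ≤ 20 → 11 ^ 1 * 30 ∣ d.factorial := fun _ => h4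
    have key : ∀ d ≤ 30, ¬ (d ∣ 30 ∧ d % 11 = 1 ∧ d ≠ 1 ∧ (d ≤ 20 → 11 ^ 1 * 30 ∣ d.factorial) ∧ (1 = 1 → ¬ Nat.Coprime (11 ^ 1 * 30 / d) (11 - 1))) := by decide
    exact key d hle ⟨h1, h2, h3, h4', h5⟩
  · exact false_of_prime_pow hG 331 1 (by norm_num) (hn.trans (by norm_num))
  · exact false_of_two_primes hG 2 83 2 1 (by norm_num) (by norm_num) (hn.trans (by norm_num))
  · exact false_of_two_primes hG 3 37 2 1 (by norm_num) (by norm_num) (hn.trans (by norm_num))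
  · exact false_of_two_primes hG 2 167 1 1 (by norm_num) (by norm_num) (hn.trans (by norm_num))
  · exact false_of_two_primes hG 5 67 1 1 (by norm_num) (by norm_num) (hn.trans (by norm_num))
  · have : Fact (Nat.Prime 7) := ⟨by norm_num⟩
    obtain ⟨d, -, h1, h2, h3, h4, h5, h6, h7, h8, h9⟩ := sylow_count3 (G := G) hG 7 1 48 (hn.trans (by norm_num)) (by norm_num) (by norm_num) (by norm_num)
    have hle : d ≤ 48 := Nat.le_of_dvd (by norm_num) h1
    have h4' : d ≤ 20 → 7 ^ 1 * 48 ∣ d.factorial := fun _ => h4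
    clear h4
    interval_cases d <;> revert h1 h2 h3 h4' h5 h6 <;> decide
  · exact false_of_prime_pow hG 337 1 (by norm_num) (hn.trans (by norm_num))
  · exact false_of_two_primes hG 2 13 1 2 (by norm_num) (by norm_num) (hn.trans (by norm_num))
  · exact false_of_two_primes hG 3 113 1 1 (by norm_num) (by norm_num) (hn.trans (by norm_num))
  · obtain ⟨d, h1, h2, h3, h4, h5⟩ := SimpleSmall.sylow_count (G := G) 17 1 20 (by norm_num) (hn.trans (by norm_num)) (by norm_num) (by norm_num) (by norm_num)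
    have hle : d ≤ 20 := Nat.le_of_dvd (by norm_num) h1
    have h4' : d ≤ 20 → 17 ^ 1 * 20 ∣ d.factorial := fun _ => h4
    have key : ∀ d ≤ 20, ¬ (d ∣ 20 ∧ d % 17 = 1 ∧ d ≠ 1 ∧ (d ≤ 20 → 17 ^ 1 * 20 ∣ d.factorial) ∧ (1 = 1 → ¬ Nat.Coprime (17 ^ 1 * 20 / d) (17 - 1))) := by decide
    exact key d hle ⟨h1, h2, h3, h4', h5⟩
  · exact false_of_two_primes hG 11 31 1 1 (by norm_num) (by norm_num) (hn.trans (by norm_num))
  · obtain ⟨d, h1, h2, h3, h4, h5⟩ := SimpleSmall.sylow_count (G := G) 19 1 18 (by norm_num) (hn.trans (by norm_num)) (by norm_num) (by norm_num) (by norm_num)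
    have hle : d ≤ 18 := Nat.le_of_dvd (by norm_num) h1
    have h4' : d ≤ 20 → 19 ^ 1 * 18 ∣ d.factorial := fun _ => h4
    have key : ∀ d ≤ 18, ¬ (d ∣ 18 ∧ d % 19 = 1 ∧ d ≠ 1 ∧ (d ≤ 20 → 19 ^ 1 * 18 ∣ d.factorial) ∧ (1 = 1 → ¬ Nat.Coprime (19 ^ 1 * 18 / d) (19 - 1))) := by decide
    exact key d hle ⟨h1, h2, h3, h4', h5⟩
  · exact false_of_prime_pow hG 7 3 (by norm_num) (hn.trans (by norm_num))
  · exact false_of_two_primes hG 2 43 3 1 (by norm_num) (by norm_num) (hn.trans (by norm_num))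
  · obtain ⟨d, h1, h2, h3, h4, h5⟩ := SimpleSmall.sylow_count (G := G) 23 1 15 (by norm_num) (hn.trans (by norm_num)) (by norm_num) (by norm_num) (by norm_num)
    have hle : d ≤ 15 := Nat.le_of_dvd (by norm_num) h1
    have h4' : d ≤ 20 → 23 ^ 1 * 15 ∣ d.factorial := fun _ => h4
    have key : ∀ d ≤ 15, ¬ (d ∣ 15 ∧ d % 23 = 1 ∧ d ≠ 1 ∧ (d ≤ 20 → 23 ^ 1 * 15 ∣ d.factorial) ∧ (1 = 1 → ¬ Nat.Coprime (23 ^ 1 * 15 / d) (23 - 1))) := by decide
    exact key d hle ⟨h1, h2, h3, h4', h5⟩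
  · exact false_of_two_primes hG 2 173 1 1 (by norm_num) (by norm_num) (hn.trans (by norm_num))
  · exact false_of_prime_pow hG 347 1 (by norm_num) (hn.trans (by norm_num))
  · obtain ⟨d, h1, h2, h3, h4, h5⟩ := SimpleSmall.sylow_count (G := G) 29 1 12 (by norm_num) (hn.trans (by norm_num)) (by norm_num) (by norm_num) (by norm_num)
    have hle : d ≤ 12 := Nat.le_of_dvd (by norm_num) h1
    have h4' : d ≤ 20 → 29 ^ 1 * 12 ∣ d.factorial := fun _ => h4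
    have key : ∀ d ≤ 12, ¬ (d ∣ 12 ∧ d % 29 = 1 ∧ d ≠ 1 ∧ (d ≤ 20 → 29 ^ 1 * 12 ∣ d.factorial) ∧ (1 = 1 → ¬ Nat.Coprime (29 ^ 1 * 12 / d) (29 - 1))) := by decide
    exact key d hle ⟨h1, h2, h3, h4', h5⟩
  · exact false_of_prime_pow hG 349 1 (by norm_num) (hn.trans (by norm_num))
  · obtain ⟨d, h1, h2, h3, h4, h5⟩ := SimpleSmall.sylow_count (G := G) 5 2 14 (by norm_num) (hn.trans (by norm_num)) (by norm_num) (by norm_num) (by norm_num)
    have hle : d ≤ 14 := Nat.le_of_dvd (by norm_num) h1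
    have h4' : d ≤ 20 → 5 ^ 2 * 14 ∣ d.factorial := fun _ => h4
    have key : ∀ d ≤ 14, ¬ (d ∣ 14 ∧ d % 5 = 1 ∧ d ≠ 1 ∧ (d ≤ 20 → 5 ^ 2 * 14 ∣ d.factorial) ∧ (2 = 1 → ¬ Nat.Coprime (5 ^ 2 * 14 / d) (5 - 1))) := by decide
    exact key d hle ⟨h1, h2, h3, h4', h5⟩
  · exact false_of_two_primes hG 3 13 3 1 (by norm_num) (by norm_num) (hn.trans (by norm_num))
  · exact false_of_two_primes hG 2 11 5 1 (by norm_num) (by norm_num) (hn.trans (by norm_num))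
  · exact false_of_prime_pow hG 353 1 (by norm_num) (hn.trans (by norm_num))
  · obtain ⟨d, h1, h2, h3, h4, h5⟩ := SimpleSmall.sylow_count (G := G) 59 1 6 (by norm_num) (hn.trans (by norm_num)) (by norm_num) (by norm_num) (by norm_num)
    have hle : d ≤ 6 := Nat.le_of_dvd (by norm_num) h1
    have h4' : d ≤ 20 → 59 ^ 1 * 6 ∣ d.factorial := fun _ => h4
    have key : ∀ d ≤ 6, ¬ (d ∣ 6 ∧ d % 59 = 1 ∧ d ≠ 1 ∧ (d ≤ 20 → 59 ^ 1 * 6 ∣ d.factorial) ∧ (1 = 1 → ¬ Nat.Coprime (59 ^ 1 * 6 / d) (59 - 1))) := by decide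
    exact key d hle ⟨h1, h2, h3, h4', h5⟩
  · exact false_of_two_primes hG 5 71 1 1 (by norm_num) (by norm_num) (hn.trans (by norm_num))
  · exact false_of_two_primes hG 2 89 2 1 (by norm_num) (by norm_num) (hn.trans (by norm_num))
  · obtain ⟨d, h1, h2, h3, h4, h5⟩ := SimpleSmall.sylow_count (G := G) 17 1 21 (by norm_num) (hn.trans (by norm_num)) (by norm_num) (by norm_num) (by norm_num)
    have hle : d ≤ 21 := Nat.le_of_dvd (by norm_num) h1
    have h4' : d ≤ 20 → 17 ^ 1 * 21 ∣ d.factorial := fun _ => h4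
    have key : ∀ d ≤ 21, ¬ (d ∣ 21 ∧ d % 17 = 1 ∧ d ≠ 1 ∧ (d ≤ 20 → 17 ^ 1 * 21 ∣ d.factorial) ∧ (1 = 1 → ¬ Nat.Coprime (17 ^ 1 * 21 / d) (17 - 1))) := by decide
    exact key d hle ⟨h1, h2, h3, h4', h5⟩
  · exact false_of_two_primes hG 2 179 1 1 (by norm_num) (by norm_num) (hn.trans (by norm_num))
  · exact false_of_prime_pow hG 359 1 (by norm_num) (hn.trans (by norm_num))
  · exact absurd rfl h360
  · exact false_of_prime_pow hG 19 2 (by norm_num) (hn.trans (by norm_num))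
  · exact false_of_two_primes hG 2 181 1 1 (by norm_num) (by norm_num) (hn.trans (by norm_num))
  · exact false_of_two_primes hG 3 11 1 2 (by norm_num) (by norm_num) (hn.trans (by norm_num))
  · obtain ⟨d, h1, h2, h3, h4, h5⟩ := SimpleSmall.sylow_count (G := G) 7 1 52 (by norm_num) (hn.trans (by norm_num)) (by norm_num) (by norm_num) (by norm_num)
    have hle : d ≤ 52 := Nat.le_of_dvd (by norm_num) h1
    have h4' : d ≤ 20 → 7 ^ 1 * 52 ∣ d.factorial := fun _ => h4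
    have key : ∀ d ≤ 52, ¬ (d ∣ 52 ∧ d % 7 = 1 ∧ d ≠ 1 ∧ (d ≤ 20 → 7 ^ 1 * 52 ∣ d.factorial) ∧ (1 = 1 → ¬ Nat.Coprime (7 ^ 1 * 52 / d) (7 - 1))) := by decide
    exact key d hle ⟨h1, h2, h3, h4', h5⟩
  · exact false_of_two_primes hG 5 73 1 1 (by norm_num) (by norm_num) (hn.trans (by norm_num))
  · obtain ⟨d, h1, h2, h3, h4, h5⟩ := SimpleSmall.sylow_count (G := G) 61 1 6 (by norm_num) (hn.trans (by norm_num)) (by norm_num) (by norm_num) (by norm_num)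
    have hle : d ≤ 6 := Nat.le_of_dvd (by norm_num) h1
    have h4' : d ≤ 20 → 61 ^ 1 * 6 ∣ d.factorial := fun _ => h4
    have key : ∀ d ≤ 6, ¬ (d ∣ 6 ∧ d % 61 = 1 ∧ d ≠ 1 ∧ (d ≤ 20 → 61 ^ 1 * 6 ∣ d.factorial) ∧ (1 = 1 → ¬ Nat.Coprime (61 ^ 1 * 6 / d) (61 - 1))) := by decide
    exact key d hle ⟨h1, h2, h3, h4', h5⟩
  · exact false_of_prime_pow hG 367 1 (by norm_num) (hn.trans (by norm_num))
  · exact false_of_two_primes hG 2 23 4 1 (by norm_num) (by norm_num) (hn.trans (by norm_num))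
  · exact false_of_two_primes hG 3 41 2 1 (by norm_num) (by norm_num) (hn.trans (by norm_num))
  · obtain ⟨d, h1, h2, h3, h4, h5⟩ := SimpleSmall.sylow_count (G := G) 37 1 10 (by norm_num) (hn.trans (by norm_num)) (by norm_num) (by norm_num) (by norm_num)
    have hle : d ≤ 10 := Nat.le_of_dvd (by norm_num) h1
    have h4' : d ≤ 20 → 37 ^ 1 * 10 ∣ d.factorial := fun _ => h4
    have key : ∀ d ≤ 10, ¬ (d ∣ 10 ∧ d % 37 = 1 ∧ d ≠ 1 ∧ (d ≤ 20 → 37 ^ 1 * 10 ∣ d.factorial) ∧ (1 = 1 → ¬ Nat.Coprime (37 ^ 1 * 10 / d) (37 - 1))) := by decide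
    exact key d hle ⟨h1, h2, h3, h4', h5⟩
  · exact false_of_two_primes hG 7 53 1 1 (by norm_num) (by norm_num) (hn.trans (by norm_num))
  · obtain ⟨d, h1, h2, h3, h4, h5⟩ := SimpleSmall.sylow_count (G := G) 31 1 12 (by norm_num) (hn.trans (by norm_num)) (by norm_num) (by norm_num) (by norm_num)
    have hle : d ≤ 12 := Nat.le_of_dvd (by norm_num) h1
    have h4' : d ≤ 20 → 31 ^ 1 * 12 ∣ d.factorial := fun _ => h4
    have key : ∀ d ≤ 12, ¬ (d ∣ 12 ∧ d % 31 = 1 ∧ d ≠ 1 ∧ (d ≤ 20 → 31 ^ 1 * 12 ∣ d.factorial) ∧ (1 = 1 → ¬ Nat.Coprime (31 ^ 1 * 12 / d) (31 - 1))) := by decide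
    exact key d hle ⟨h1, h2, h3, h4', h5⟩
  · exact false_of_prime_pow hG 373 1 (by norm_num) (hn.trans (by norm_num))
  · obtain ⟨d, h1, h2, h3, h4, h5⟩ := SimpleSmall.sylow_count (G := G) 17 1 22 (by norm_num) (hn.trans (by norm_num)) (by norm_num) (by norm_num) (by norm_num)
    have hle : d ≤ 22 := Nat.le_of_dvd (by norm_num) h1
    have h4' : d ≤ 20 → 17 ^ 1 * 22 ∣ d.factorial := fun _ => h4
    have key : ∀ d ≤ 22, ¬ (d ∣ 22 ∧ d % 17 = 1 ∧ d ≠ 1 ∧ (d ≤ 20 → 17 ^ 1 * 22 ∣ d.factorial) ∧ (1 = 1 → ¬ Nat.Coprime (17 ^ 1 * 22 / d) (17 - 1))) := by decide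
    exact key d hle ⟨h1, h2, h3, h4', h5⟩
  · exact false_of_two_primes hG 3 5 1 3 (by norm_num) (by norm_num) (hn.trans (by norm_num))
  · exact false_of_two_primes hG 2 47 3 1 (by norm_num) (by norm_num) (hn.trans (by norm_num))
  · exact false_of_two_primes hG 13 29 1 1 (by norm_num) (by norm_num) (hn.trans (by norm_num))
  · obtain ⟨d, h1, h2, h3, h4, h5⟩ := SimpleSmall.sylow_count (G := G) 3 3 14 (by norm_num) (hn.trans (by norm_num)) (by norm_num) (by norm_num) (by norm_num)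
    have hle : d ≤ 14 := Nat.le_of_dvd (by norm_num) h1
    have h4' : d ≤ 20 → 3 ^ 3 * 14 ∣ d.factorial := fun _ => h4
    have key : ∀ d ≤ 14, ¬ (d ∣ 14 ∧ d % 3 = 1 ∧ d ≠ 1 ∧ (d ≤ 20 → 3 ^ 3 * 14 ∣ d.factorial) ∧ (3 = 1 → ¬ Nat.Coprime (3 ^ 3 * 14 / d) (3 - 1))) := by decide
    exact key d hle ⟨h1, h2, h3, h4', h5⟩
  · exact false_of_prime_pow hG 379 1 (by norm_num) (hn.trans (by norm_num))
  · obtain ⟨d, h1, h2, h3, h4, h5⟩ := SimpleSmall.sylow_count (G := G) 19 1 20 (by norm_num) (hn.trans (by norm_num)) (by norm_num) (by norm_num) (by norm_num)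
    have hle : d ≤ 20 := Nat.le_of_dvd (by norm_num) h1
    have h4' : d ≤ 20 → 19 ^ 1 * 20 ∣ d.factorial := fun _ => h4
    have key : ∀ d ≤ 20, ¬ (d ∣ 20 ∧ d % 19 = 1 ∧ d ≠ 1 ∧ (d ≤ 20 → 19 ^ 1 * 20 ∣ d.factorial) ∧ (1 = 1 → ¬ Nat.Coprime (19 ^ 1 * 20 / d) (19 - 1))) := by decide
    exact key d hle ⟨h1, h2, h3, h4', h5⟩
  · exact false_of_two_primes hG 3 127 1 1 (by norm_num) (by norm_num) (hn.trans (by norm_num))
  · exact false_of_two_primes hG 2 191 1 1 (by norm_num) (by norm_num) (hn.trans (by norm_num))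
  · exact false_of_prime_pow hG 383 1 (by norm_num) (hn.trans (by norm_num))
  · exact false_of_two_primes hG 2 3 7 1 (by norm_num) (by norm_num) (hn.trans (by norm_num))
  · obtain ⟨d, h1, h2, h3, h4, h5⟩ := SimpleSmall.sylow_count (G := G) 11 1 35 (by norm_num) (hn.trans (by norm_num)) (by norm_num) (by norm_num) (by norm_num)
    have hle : d ≤ 35 := Nat.le_of_dvd (by norm_num) h1
    have h4' : d ≤ 20 → 11 ^ 1 * 35 ∣ d.factorial := fun _ => h4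
    have key : ∀ d ≤ 35, ¬ (d ∣ 35 ∧ d % 11 = 1 ∧ d ≠ 1 ∧ (d ≤ 20 → 11 ^ 1 * 35 ∣ d.factorial) ∧ (1 = 1 → ¬ Nat.Coprime (11 ^ 1 * 35 / d) (11 - 1))) := by decide
    exact key d hle ⟨h1, h2, h3, h4', h5⟩
  · exact false_of_two_primes hG 2 193 1 1 (by norm_num) (by norm_num) (hn.trans (by norm_num))
  · exact false_of_two_primes hG 3 43 2 1 (by norm_num) (by norm_num) (hn.trans (by norm_num))
  · exact false_of_two_primes hG 2 97 2 1 (by norm_num) (by norm_num) (hn.trans (by norm_num))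
  · exact false_of_prime_pow hG 389 1 (by norm_num) (hn.trans (by norm_num))
  · obtain ⟨d, h1, h2, h3, h4, h5⟩ := SimpleSmall.sylow_count (G := G) 13 1 30 (by norm_num) (hn.trans (by norm_num)) (by norm_num) (by norm_num) (by norm_num)
    have hle : d ≤ 30 := Nat.le_of_dvd (by norm_num) h1
    have h4' : d ≤ 20 → 13 ^ 1 * 30 ∣ d.factorial := fun _ => h4
    have key : ∀ d ≤ 30, ¬ (d ∣ 30 ∧ d % 13 = 1 ∧ d ≠ 1 ∧ (d ≤ 20 → 13 ^ 1 * 30 ∣ d.factorial) ∧ (1 = 1 → ¬ Nat.Coprime (13 ^ 1 * 30 / d) (13 - 1))) := by decide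
    exact key d hle ⟨h1, h2, h3, h4', h5⟩
  · exact false_of_two_primes hG 17 23 1 1 (by norm_num) (by norm_num) (hn.trans (by norm_num))
  · exact false_of_two_primes hG 2 7 3 2 (by norm_num) (by norm_num) (hn.trans (by norm_num))
  · exact false_of_two_primes hG 3 131 1 1 (by norm_num) (by norm_num) (hn.trans (by norm_num))
  · exact false_of_two_primes hG 2 197 1 1 (by norm_num) (by norm_num) (hn.trans (by norm_num))
  · exact false_of_two_primes hG 5 79 1 1 (by norm_num) (by norm_num) (hn.trans (by norm_num))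
  · obtain ⟨d, h1, h2, h3, h4, h5⟩ := SimpleSmall.sylow_count (G := G) 11 1 36 (by norm_num) (hn.trans (by norm_num)) (by norm_num) (by norm_num) (by norm_num)
    have hle : d ≤ 36 := Nat.le_of_dvd (by norm_num) h1
    have h4' : d ≤ 20 → 11 ^ 1 * 36 ∣ d.factorial := fun _ => h4
    have key : ∀ d ≤ 36, ¬ (d ∣ 36 ∧ d % 11 = 1 ∧ d ≠ 1 ∧ (d ≤ 20 → 11 ^ 1 * 36 ∣ d.factorial) ∧ (1 = 1 → ¬ Nat.Coprime (11 ^ 1 * 36 / d) (11 - 1))) := by decide
    exact key d hle ⟨h1, h2, h3, h4', h5⟩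
  · exact false_of_prime_pow hG 397 1 (by norm_num) (hn.trans (by norm_num))
  · exact false_of_two_primes hG 2 199 1 1 (by norm_num) (by norm_num) (hn.trans (by norm_num))
  · obtain ⟨d, h1, h2, h3, h4, h5⟩ := SimpleSmall.sylow_count (G := G) 19 1 21 (by norm_num) (hn.trans (by norm_num)) (by norm_num) (by norm_num) (by norm_num)
    have hle : d ≤ 21 := Nat.le_of_dvd (by norm_num) h1
    have h4' : d ≤ 20 → 19 ^ 1 * 21 ∣ d.factorial := fun _ => h4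
    have key : ∀ d ≤ 21, ¬ (d ∣ 21 ∧ d % 19 = 1 ∧ d ≠ 1 ∧ (d ≤ 20 → 19 ^ 1 * 21 ∣ d.factorial) ∧ (1 = 1 → ¬ Nat.Coprime (19 ^ 1 * 21 / d) (19 - 1))) := by decide
    exact key d hle ⟨h1, h2, h3, h4', h5⟩
  · exact false_of_two_primes hG 2 5 4 2 (by norm_num) (by norm_num) (hn.trans (by norm_num))
  · exact false_of_prime_pow hG 401 1 (by norm_num) (hn.trans (by norm_num))
  · obtain ⟨d, h1, h2, h3, h4, h5⟩ := SimpleSmall.sylow_count (G := G) 67 1 6 (by norm_num) (hn.trans (by norm_num)) (by norm_num) (by norm_num) (by norm_num)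
    have hle : d ≤ 6 := Nat.le_of_dvd (by norm_num) h1
    have h4' : d ≤ 20 → 67 ^ 1 * 6 ∣ d.factorial := fun _ => h4
    have key : ∀ d ≤ 6, ¬ (d ∣ 6 ∧ d % 67 = 1 ∧ d ≠ 1 ∧ (d ≤ 20 → 67 ^ 1 * 6 ∣ d.factorial) ∧ (1 = 1 → ¬ Nat.Coprime (67 ^ 1 * 6 / d) (67 - 1))) := by decide
    exact key d hle ⟨h1, h2, h3, h4', h5⟩
  · exact false_of_two_primes hG 13 31 1 1 (by norm_num) (by norm_num) (hn.trans (by norm_num))
  · exact false_of_two_primes hG 2 101 2 1 (by norm_num) (by norm_num) (hn.trans (by norm_num))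
  · exact false_of_two_primes hG 3 5 4 1 (by norm_num) (by norm_num) (hn.trans (by norm_num))
  · obtain ⟨d, h1, h2, h3, h4, h5⟩ := SimpleSmall.sylow_count (G := G) 29 1 14 (by norm_num) (hn.trans (by norm_num)) (by norm_num) (by norm_num) (by norm_num)
    have hle : d ≤ 14 := Nat.le_of_dvd (by norm_num) h1
    have h4' : d ≤ 20 → 29 ^ 1 * 14 ∣ d.factorial := fun _ => h4
    have key : ∀ d ≤ 14, ¬ (d ∣ 14 ∧ d % 29 = 1 ∧ d ≠ 1 ∧ (d ≤ 20 → 29 ^ 1 * 14 ∣ d.factorial) ∧ (1 = 1 → ¬ Nat.Coprime (29 ^ 1 * 14 / d) (29 - 1))) := by decide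
    exact key d hle ⟨h1, h2, h3, h4', h5⟩
  · exact false_of_two_primes hG 11 37 1 1 (by norm_num) (by norm_num) (hn.trans (by norm_num))
  · obtain ⟨d, h1, h2, h3, h4, h5⟩ := SimpleSmall.sylow_count (G := G) 17 1 24 (by norm_num) (hn.trans (by norm_num)) (by norm_num) (by norm_num) (by norm_num)
    have hle : d ≤ 24 := Nat.le_of_dvd (by norm_num) h1
    have h4' : d ≤ 20 → 17 ^ 1 * 24 ∣ d.factorial := fun _ => h4
    have key : ∀ d ≤ 24, ¬ (d ∣ 24 ∧ d % 17 = 1 ∧ d ≠ 1 ∧ (d ≤ 20 → 17 ^ 1 * 24 ∣ d.factorial) ∧ (1 = 1 → ¬ Nat.Coprime (17 ^ 1 * 24 / d) (17 - 1))) := by decide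
    exact key d hle ⟨h1, h2, h3, h4', h5⟩
  · exact false_of_prime_pow hG 409 1 (by norm_num) (hn.trans (by norm_num))
  · obtain ⟨d, h1, h2, h3, h4, h5⟩ := SimpleSmall.sylow_count (G := G) 41 1 10 (by norm_num) (hn.trans (by norm_num)) (by norm_num) (by norm_num) (by norm_num)
    have hle : d ≤ 10 := Nat.le_of_dvd (by norm_num) h1
    have h4' : d ≤ 20 → 41 ^ 1 * 10 ∣ d.factorial := fun _ => h4
    have key : ∀ d ≤ 10, ¬ (d ∣ 10 ∧ d % 41 = 1 ∧ d ≠ 1 ∧ (d ≤ 20 → 41 ^ 1 * 10 ∣ d.factorial) ∧ (1 = 1 → ¬ Nat.Coprime (41 ^ 1 * 10 / d) (41 - 1))) := by decide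
    exact key d hle ⟨h1, h2, h3, h4', h5⟩
  · exact false_of_two_primes hG 3 137 1 1 (by norm_num) (by norm_num) (hn.trans (by norm_num))
  · exact false_of_two_primes hG 2 103 2 1 (by norm_num) (by norm_num) (hn.trans (by norm_num))
  · exact false_of_two_primes hG 7 59 1 1 (by norm_num) (by norm_num) (hn.trans (by norm_num))
  · obtain ⟨d, h1, h2, h3, h4, h5⟩ := SimpleSmall.sylow_count (G := G) 23 1 18 (by norm_num) (hn.trans (by norm_num)) (by norm_num) (by norm_num) (by norm_num)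
    have hle : d ≤ 18 := Nat.le_of_dvd (by norm_num) h1
    have h4' : d ≤ 20 → 23 ^ 1 * 18 ∣ d.factorial := fun _ => h4
    have key : ∀ d ≤ 18, ¬ (d ∣ 18 ∧ d % 23 = 1 ∧ d ≠ 1 ∧ (d ≤ 20 → 23 ^ 1 * 18 ∣ d.factorial) ∧ (1 = 1 → ¬ Nat.Coprime (23 ^ 1 * 18 / d) (23 - 1))) := by decide
    exact key d hle ⟨h1, h2, h3, h4', h5⟩
  · exact false_of_two_primes hG 5 83 1 1 (by norm_num) (by norm_num) (hn.trans (by norm_num))
  · exact false_of_two_primes hG 2 13 5 1 (by norm_num) (by norm_num) (hn.trans (by norm_num))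
  · exact false_of_two_primes hG 3 139 1 1 (by norm_num) (by norm_num) (hn.trans (by norm_num))
  · obtain ⟨d, h1, h2, h3, h4, h5⟩ := SimpleSmall.sylow_count (G := G) 19 1 22 (by norm_num) (hn.trans (by norm_num)) (by norm_num) (by norm_num) (by norm_num)
    have hle : d ≤ 22 := Nat.le_of_dvd (by norm_num) h1
    have h4' : d ≤ 20 → 19 ^ 1 * 22 ∣ d.factorial := fun _ => h4
    have key : ∀ d ≤ 22, ¬ (d ∣ 22 ∧ d % 19 = 1 ∧ d ≠ 1 ∧ (d ≤ 20 → 19 ^ 1 * 22 ∣ d.factorial) ∧ (1 = 1 → ¬ Nat.Coprime (19 ^ 1 * 22 / d) (19 - 1))) := by decide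
    exact key d hle ⟨h1, h2, h3, h4', h5⟩
  · exact false_of_prime_pow hG 419 1 (by norm_num) (hn.trans (by norm_num))
  · have : Fact (Nat.Prime 7) := ⟨by norm_num⟩
    obtain ⟨d, -, h1, h2, h3, h4, h5, h6, h7, h8, h9⟩ := sylow_count3 (G := G) hG 7 1 60 (hn.trans (by norm_num)) (by norm_num) (by norm_num) (by norm_num)
    have hle : d ≤ 60 := Nat.le_of_dvd (by norm_num) h1
    have h4' : d ≤ 20 → 7 ^ 1 * 60 ∣ d.factorial := fun _ => h4
    clear h4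
    interval_cases d <;> revert h1 h2 h3 h4' h5 h8 <;> decide
  · exact false_of_prime_pow hG 421 1 (by norm_num) (hn.trans (by norm_num))
  · exact false_of_two_primes hG 2 211 1 1 (by norm_num) (by norm_num) (hn.trans (by norm_num))
  · exact false_of_two_primes hG 3 47 2 1 (by norm_num) (by norm_num) (hn.trans (by norm_num))
  · exact false_of_two_primes hG 2 53 3 1 (by norm_num) (by norm_num) (hn.trans (by norm_num))
  · exact false_of_two_primes hG 5 17 2 1 (by norm_num) (by norm_num) (hn.trans (by norm_num))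
  · obtain ⟨d, h1, h2, h3, h4, h5⟩ := SimpleSmall.sylow_count (G := G) 71 1 6 (by norm_num) (hn.trans (by norm_num)) (by norm_num) (by norm_num) (by norm_num)
    have hle : d ≤ 6 := Nat.le_of_dvd (by norm_num) h1
    have h4' : d ≤ 20 → 71 ^ 1 * 6 ∣ d.factorial := fun _ => h4
    have key : ∀ d ≤ 6, ¬ (d ∣ 6 ∧ d % 71 = 1 ∧ d ≠ 1 ∧ (d ≤ 20 → 71 ^ 1 * 6 ∣ d.factorial) ∧ (1 = 1 → ¬ Nat.Coprime (71 ^ 1 * 6 / d) (71 - 1))) := by decide
    exact key d hle ⟨h1, h2, h3, h4', h5⟩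
  · exact false_of_two_primes hG 7 61 1 1 (by norm_num) (by norm_num) (hn.trans (by norm_num))
  · exact false_of_two_primes hG 2 107 2 1 (by norm_num) (by norm_num) (hn.trans (by norm_num))
  · obtain ⟨d, h1, h2, h3, h4, h5⟩ := SimpleSmall.sylow_count (G := G) 13 1 33 (by norm_num) (hn.trans (by norm_num)) (by norm_num) (by norm_num) (by norm_num)
    have hle : d ≤ 33 := Nat.le_of_dvd (by norm_num) h1
    have h4' : d ≤ 20 → 13 ^ 1 * 33 ∣ d.factorial := fun _ => h4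
    have key : ∀ d ≤ 33, ¬ (d ∣ 33 ∧ d % 13 = 1 ∧ d ≠ 1 ∧ (d ≤ 20 → 13 ^ 1 * 33 ∣ d.factorial) ∧ (1 = 1 → ¬ Nat.Coprime (13 ^ 1 * 33 / d) (13 - 1))) := by decide
    exact key d hle ⟨h1, h2, h3, h4', h5⟩
  · obtain ⟨d, h1, h2, h3, h4, h5⟩ := SimpleSmall.sylow_count (G := G) 43 1 10 (by norm_num) (hn.trans (by norm_num)) (by norm_num) (by norm_num) (by norm_num)
    have hle : d ≤ 10 := Nat.le_of_dvd (by norm_num) h1
    have h4' : d ≤ 20 → 43 ^ 1 * 10 ∣ d.factorial := fun _ => h4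
    have key : ∀ d ≤ 10, ¬ (d ∣ 10 ∧ d % 43 = 1 ∧ d ≠ 1 ∧ (d ≤ 20 → 43 ^ 1 * 10 ∣ d.factorial) ∧ (1 = 1 → ¬ Nat.Coprime (43 ^ 1 * 10 / d) (43 - 1))) := by decide
    exact key d hle ⟨h1, h2, h3, h4', h5⟩
  · exact false_of_prime_pow hG 431 1 (by norm_num) (hn.trans (by norm_num))
  · exact false_of_two_primes hG 2 3 4 3 (by norm_num) (by norm_num) (hn.trans (by norm_num))
  · exact false_of_prime_pow hG 433 1 (by norm_num) (hn.trans (by norm_num))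
  · obtain ⟨d, h1, h2, h3, h4, h5⟩ := SimpleSmall.sylow_count (G := G) 31 1 14 (by norm_num) (hn.trans (by norm_num)) (by norm_num) (by norm_num) (by norm_num)
    have hle : d ≤ 14 := Nat.le_of_dvd (by norm_num) h1
    have h4' : d ≤ 20 → 31 ^ 1 * 14 ∣ d.factorial := fun _ => h4
    have key : ∀ d ≤ 14, ¬ (d ∣ 14 ∧ d % 31 = 1 ∧ d ≠ 1 ∧ (d ≤ 20 → 31 ^ 1 * 14 ∣ d.factorial) ∧ (1 = 1 → ¬ Nat.Coprime (31 ^ 1 * 14 / d) (31 - 1))) := by decide
    exact key d hle ⟨h1, h2, h3, h4', h5⟩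
  · obtain ⟨d, h1, h2, h3, h4, h5⟩ := SimpleSmall.sylow_count (G := G) 29 1 15 (by norm_num) (hn.trans (by norm_num)) (by norm_num) (by norm_num) (by norm_num)
    have hle : d ≤ 15 := Nat.le_of_dvd (by norm_num) h1
    have h4' : d ≤ 20 → 29 ^ 1 * 15 ∣ d.factorial := fun _ => h4
    have key : ∀ d ≤ 15, ¬ (d ∣ 15 ∧ d % 29 = 1 ∧ d ≠ 1 ∧ (d ≤ 20 → 29 ^ 1 * 15 ∣ d.factorial) ∧ (1 = 1 → ¬ Nat.Coprime (29 ^ 1 * 15 / d) (29 - 1))) := by decide
    exact key d hle ⟨h1, h2, h3, h4', h5⟩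
  · exact false_of_two_primes hG 2 109 2 1 (by norm_num) (by norm_num) (hn.trans (by norm_num))
  · exact false_of_two_primes hG 19 23 1 1 (by norm_num) (by norm_num) (hn.trans (by norm_num))
  · obtain ⟨d, h1, h2, h3, h4, h5⟩ := SimpleSmall.sylow_count (G := G) 73 1 6 (by norm_num) (hn.trans (by norm_num)) (by norm_num) (by norm_num) (by norm_num)
    have hle : d ≤ 6 := Nat.le_of_dvd (by norm_num) h1
    have h4' : d ≤ 20 → 73 ^ 1 * 6 ∣ d.factorial := fun _ => h4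
    have key : ∀ d ≤ 6, ¬ (d ∣ 6 ∧ d % 73 = 1 ∧ d ≠ 1 ∧ (d ≤ 20 → 73 ^ 1 * 6 ∣ d.factorial) ∧ (1 = 1 → ¬ Nat.Coprime (73 ^ 1 * 6 / d) (73 - 1))) := by decide
    exact key d hle ⟨h1, h2, h3, h4', h5⟩
  · exact false_of_prime_pow hG 439 1 (by norm_num) (hn.trans (by norm_num))
  · obtain ⟨d, h1, h2, h3, h4, h5⟩ := SimpleSmall.sylow_count (G := G) 11 1 40 (by norm_num) (hn.trans (by norm_num)) (by norm_num) (by norm_num) (by norm_num)
    have hle : d ≤ 40 := Nat.le_of_dvd (by norm_num) h1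
    have h4' : d ≤ 20 → 11 ^ 1 * 40 ∣ d.factorial := fun _ => h4
    have key : ∀ d ≤ 40, ¬ (d ∣ 40 ∧ d % 11 = 1 ∧ d ≠ 1 ∧ (d ≤ 20 → 11 ^ 1 * 40 ∣ d.factorial) ∧ (1 = 1 → ¬ Nat.Coprime (11 ^ 1 * 40 / d) (11 - 1))) := by decide
    exact key d hle ⟨h1, h2, h3, h4', h5⟩
  · exact false_of_two_primes hG 3 7 2 2 (by norm_num) (by norm_num) (hn.trans (by norm_num))
  · obtain ⟨d, h1, h2, h3, h4, h5⟩ := SimpleSmall.sylow_count (G := G) 17 1 26 (by norm_num) (hn.trans (by norm_num)) (by norm_num) (by norm_num) (by norm_num)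
    have hle : d ≤ 26 := Nat.le_of_dvd (by norm_num) h1
    have h4' : d ≤ 20 → 17 ^ 1 * 26 ∣ d.factorial := fun _ => h4
    have key : ∀ d ≤ 26, ¬ (d ∣ 26 ∧ d % 17 = 1 ∧ d ≠ 1 ∧ (d ≤ 20 → 17 ^ 1 * 26 ∣ d.factorial) ∧ (1 = 1 → ¬ Nat.Coprime (17 ^ 1 * 26 / d) (17 - 1))) := by decide
    exact key d hle ⟨h1, h2, h3, h4', h5⟩
  · exact false_of_prime_pow hG 443 1 (by norm_num) (hn.trans (by norm_num))
  · obtain ⟨d, h1, h2, h3, h4, h5⟩ := SimpleSmall.sylow_count (G := G) 37 1 12 (by norm_num) (hn.trans (by norm_num)) (by norm_num) (by norm_num) (by norm_num)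
    have hle : d ≤ 12 := Nat.le_of_dvd (by norm_num) h1
    have h4' : d ≤ 20 → 37 ^ 1 * 12 ∣ d.factorial := fun _ => h4
    have key : ∀ d ≤ 12, ¬ (d ∣ 12 ∧ d % 37 = 1 ∧ d ≠ 1 ∧ (d ≤ 20 → 37 ^ 1 * 12 ∣ d.factorial) ∧ (1 = 1 → ¬ Nat.Coprime (37 ^ 1 * 12 / d) (37 - 1))) := by decide
    exact key d hle ⟨h1, h2, h3, h4', h5⟩
  · exact false_of_two_primes hG 5 89 1 1 (by norm_num) (by norm_num) (hn.trans (by norm_num))
  · exact false_of_two_primes hG 2 223 1 1 (by norm_num) (by norm_num) (hn.trans (by norm_num))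
  · exact false_of_two_primes hG 3 149 1 1 (by norm_num) (by norm_num) (hn.trans (by norm_num))
  · exact false_of_two_primes hG 2 7 6 1 (by norm_num) (by norm_num) (hn.trans (by norm_num))
  · exact false_of_prime_pow hG 449 1 (by norm_num) (hn.trans (by norm_num))
  · obtain ⟨d, h1, h2, h3, h4, h5⟩ := SimpleSmall.sylow_count (G := G) 5 2 18 (by norm_num) (hn.trans (by norm_num)) (by norm_num) (by norm_num) (by norm_num)
    have hle : d ≤ 18 := Nat.le_of_dvd (by norm_num) h1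
    have h4' : d ≤ 20 → 5 ^ 2 * 18 ∣ d.factorial := fun _ => h4
    have key : ∀ d ≤ 18, ¬ (d ∣ 18 ∧ d % 5 = 1 ∧ d ≠ 1 ∧ (d ≤ 20 → 5 ^ 2 * 18 ∣ d.factorial) ∧ (2 = 1 → ¬ Nat.Coprime (5 ^ 2 * 18 / d) (5 - 1))) := by decide
    exact key d hle ⟨h1, h2, h3, h4', h5⟩
  · exact false_of_two_primes hG 11 41 1 1 (by norm_num) (by norm_num) (hn.trans (by norm_num))
  · exact false_of_two_primes hG 2 113 2 1 (by norm_num) (by norm_num) (hn.trans (by norm_num))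
  · exact false_of_two_primes hG 3 151 1 1 (by norm_num) (by norm_num) (hn.trans (by norm_num))
  · exact false_of_two_primes hG 2 227 1 1 (by norm_num) (by norm_num) (hn.trans (by norm_num))
  · obtain ⟨d, h1, h2, h3, h4, h5⟩ := SimpleSmall.sylow_count (G := G) 13 1 35 (by norm_num) (hn.trans (by norm_num)) (by norm_num) (by norm_num) (by norm_num)
    have hle : d ≤ 35 := Nat.le_of_dvd (by norm_num) h1
    have h4' : d ≤ 20 → 13 ^ 1 * 35 ∣ d.factorial := fun _ => h4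
    have key : ∀ d ≤ 35, ¬ (d ∣ 35 ∧ d % 13 = 1 ∧ d ≠ 1 ∧ (d ≤ 20 → 13 ^ 1 * 35 ∣ d.factorial) ∧ (1 = 1 → ¬ Nat.Coprime (13 ^ 1 * 35 / d) (13 - 1))) := by decide
    exact key d hle ⟨h1, h2, h3, h4', h5⟩
  · obtain ⟨d, h1, h2, h3, h4, h5⟩ := SimpleSmall.sylow_count (G := G) 19 1 24 (by norm_num) (hn.trans (by norm_num)) (by norm_num) (by norm_num) (by norm_num)
    have hle : d ≤ 24 := Nat.le_of_dvd (by norm_num) h1
    have h4' : d ≤ 20 → 19 ^ 1 * 24 ∣ d.factorial := fun _ => h4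
    have key : ∀ d ≤ 24, ¬ (d ∣ 24 ∧ d % 19 = 1 ∧ d ≠ 1 ∧ (d ≤ 20 → 19 ^ 1 * 24 ∣ d.factorial) ∧ (1 = 1 → ¬ Nat.Coprime (19 ^ 1 * 24 / d) (19 - 1))) := by decide
    exact key d hle ⟨h1, h2, h3, h4', h5⟩
  · exact false_of_prime_pow hG 457 1 (by norm_num) (hn.trans (by norm_num))
  · exact false_of_two_primes hG 2 229 1 1 (by norm_num) (by norm_num) (hn.trans (by norm_num))
  · exact false_of_two_primes hG 3 17 3 1 (by norm_num) (by norm_num) (hn.trans (by norm_num))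
  · obtain ⟨d, h1, h2, h3, h4, h5⟩ := SimpleSmall.sylow_count (G := G) 23 1 20 (by norm_num) (hn.trans (by norm_num)) (by norm_num) (by norm_num) (by norm_num)
    have hle : d ≤ 20 := Nat.le_of_dvd (by norm_num) h1
    have h4' : d ≤ 20 → 23 ^ 1 * 20 ∣ d.factorial := fun _ => h4
    have key : ∀ d ≤ 20, ¬ (d ∣ 20 ∧ d % 23 = 1 ∧ d ≠ 1 ∧ (d ≤ 20 → 23 ^ 1 * 20 ∣ d.factorial) ∧ (1 = 1 → ¬ Nat.Coprime (23 ^ 1 * 20 / d) (23 - 1))) := by decide
    exact key d hle ⟨h1, h2, h3, h4', h5⟩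
  · exact false_of_prime_pow hG 461 1 (by norm_num) (hn.trans (by norm_num))
  · obtain ⟨d, h1, h2, h3, h4, h5⟩ := SimpleSmall.sylow_count (G := G) 11 1 42 (by norm_num) (hn.trans (by norm_num)) (by norm_num) (by norm_num) (by norm_num)
    have hle : d ≤ 42 := Nat.le_of_dvd (by norm_num) h1
    have h4' : d ≤ 20 → 11 ^ 1 * 42 ∣ d.factorial := fun _ => h4
    have key : ∀ d ≤ 42, ¬ (d ∣ 42 ∧ d % 11 = 1 ∧ d ≠ 1 ∧ (d ≤ 20 → 11 ^ 1 * 42 ∣ d.factorial) ∧ (1 = 1 → ¬ Nat.Coprime (11 ^ 1 * 42 / d) (11 - 1))) := by decide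
    exact key d hle ⟨h1, h2, h3, h4', h5⟩
  · exact false_of_prime_pow hG 463 1 (by norm_num) (hn.trans (by norm_num))
  · exact false_of_two_primes hG 2 29 4 1 (by norm_num) (by norm_num) (hn.trans (by norm_num))
  · obtain ⟨d, h1, h2, h3, h4, h5⟩ := SimpleSmall.sylow_count (G := G) 31 1 15 (by norm_num) (hn.trans (by norm_num)) (by norm_num) (by norm_num) (by norm_num)
    have hle : d ≤ 15 := Nat.le_of_dvd (by norm_num) h1
    have h4' : d ≤ 20 → 31 ^ 1 * 15 ∣ d.factorial := fun _ => h4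
    have key : ∀ d ≤ 15, ¬ (d ∣ 15 ∧ d % 31 = 1 ∧ d ≠ 1 ∧ (d ≤ 20 → 31 ^ 1 * 15 ∣ d.factorial) ∧ (1 = 1 → ¬ Nat.Coprime (31 ^ 1 * 15 / d) (31 - 1))) := by decide
    exact key d hle ⟨h1, h2, h3, h4', h5⟩
  · exact false_of_two_primes hG 2 233 1 1 (by norm_num) (by norm_num) (hn.trans (by norm_num))
  · exact false_of_prime_pow hG 467 1 (by norm_num) (hn.trans (by norm_num))
  · obtain ⟨d, h1, h2, h3, h4, h5⟩ := SimpleSmall.sylow_count (G := G) 13 1 36 (by norm_num) (hn.trans (by norm_num)) (by norm_num) (by norm_num) (by norm_num)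
    have hle : d ≤ 36 := Nat.le_of_dvd (by norm_num) h1
    have h4' : d ≤ 20 → 13 ^ 1 * 36 ∣ d.factorial := fun _ => h4
    have key : ∀ d ≤ 36, ¬ (d ∣ 36 ∧ d % 13 = 1 ∧ d ≠ 1 ∧ (d ≤ 20 → 13 ^ 1 * 36 ∣ d.factorial) ∧ (1 = 1 → ¬ Nat.Coprime (13 ^ 1 * 36 / d) (13 - 1))) := by decide
    exact key d hle ⟨h1, h2, h3, h4', h5⟩
  · exact false_of_two_primes hG 7 67 1 1 (by norm_num) (by norm_num) (hn.trans (by norm_num))
  · obtain ⟨d, h1, h2, h3, h4, h5⟩ := SimpleSmall.sylow_count (G := G) 47 1 10 (by norm_num) (hn.trans (by norm_num)) (by norm_num) (by norm_num) (by norm_num)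
    have hle : d ≤ 10 := Nat.le_of_dvd (by norm_num) h1
    have h4' : d ≤ 20 → 47 ^ 1 * 10 ∣ d.factorial := fun _ => h4
    have key : ∀ d ≤ 10, ¬ (d ∣ 10 ∧ d % 47 = 1 ∧ d ≠ 1 ∧ (d ≤ 20 → 47 ^ 1 * 10 ∣ d.factorial) ∧ (1 = 1 → ¬ Nat.Coprime (47 ^ 1 * 10 / d) (47 - 1))) := by decide
    exact key d hle ⟨h1, h2, h3, h4', h5⟩
  · exact false_of_two_primes hG 3 157 1 1 (by norm_num) (by norm_num) (hn.trans (by norm_num))
  · exact false_of_two_primes hG 2 59 3 1 (by norm_num) (by norm_num) (hn.trans (by norm_num))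
  · exact false_of_two_primes hG 11 43 1 1 (by norm_num) (by norm_num) (hn.trans (by norm_num))
  · obtain ⟨d, h1, h2, h3, h4, h5⟩ := SimpleSmall.sylow_count (G := G) 79 1 6 (by norm_num) (hn.trans (by norm_num)) (by norm_num) (by norm_num) (by norm_num)
    have hle : d ≤ 6 := Nat.le_of_dvd (by norm_num) h1
    have h4' : d ≤ 20 → 79 ^ 1 * 6 ∣ d.factorial := fun _ => h4
    have key : ∀ d ≤ 6, ¬ (d ∣ 6 ∧ d % 79 = 1 ∧ d ≠ 1 ∧ (d ≤ 20 → 79 ^ 1 * 6 ∣ d.factorial) ∧ (1 = 1 → ¬ Nat.Coprime (79 ^ 1 * 6 / d) (79 - 1))) := by decide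
    exact key d hle ⟨h1, h2, h3, h4', h5⟩
  · exact false_of_two_primes hG 5 19 2 1 (by norm_num) (by norm_num) (hn.trans (by norm_num))
  · obtain ⟨d, h1, h2, h3, h4, h5⟩ := SimpleSmall.sylow_count (G := G) 17 1 28 (by norm_num) (hn.trans (by norm_num)) (by norm_num) (by norm_num) (by norm_num)
    have hle : d ≤ 28 := Nat.le_of_dvd (by norm_num) h1
    have h4' : d ≤ 20 → 17 ^ 1 * 28 ∣ d.factorial := fun _ => h4
    have key : ∀ d ≤ 28, ¬ (d ∣ 28 ∧ d % 17 = 1 ∧ d ≠ 1 ∧ (d ≤ 20 → 17 ^ 1 * 28 ∣ d.factorial) ∧ (1 = 1 → ¬ Nat.Coprime (17 ^ 1 * 28 / d) (17 - 1))) := by decide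
    exact key d hle ⟨h1, h2, h3, h4', h5⟩
  · exact false_of_two_primes hG 3 53 2 1 (by norm_num) (by norm_num) (hn.trans (by norm_num))
  · exact false_of_two_primes hG 2 239 1 1 (by norm_num) (by norm_num) (hn.trans (by norm_num))
  · exact false_of_prime_pow hG 479 1 (by norm_num) (hn.trans (by norm_num))
  · have : Fact (Nat.Prime 2) := ⟨by norm_num⟩
    obtain ⟨d, -, h1, h2, h3, h4, h5, h6, h7, h8, h9⟩ := sylow_count3 (G := G) hG 2 5 15 (hn.trans (by norm_num)) (by norm_num) (by norm_num) (by norm_num)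
    have hle : d ≤ 15 := Nat.le_of_dvd (by norm_num) h1
    have h4' : d ≤ 20 → 2 ^ 5 * 15 ∣ d.factorial := fun _ => h4
    clear h4
    interval_cases d <;> revert h1 h2 h3 h4' h5 h7 <;> decide
  · exact false_of_two_primes hG 13 37 1 1 (by norm_num) (by norm_num) (hn.trans (by norm_num))
  · exact false_of_two_primes hG 2 241 1 1 (by norm_num) (by norm_num) (hn.trans (by norm_num))
  · obtain ⟨d, h1, h2, h3, h4, h5⟩ := SimpleSmall.sylow_count (G := G) 23 1 21 (by norm_num) (hn.trans (by norm_num)) (by norm_num) (by norm_num) (by norm_num)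
    have hle : d ≤ 21 := Nat.le_of_dvd (by norm_num) h1
    have h4' : d ≤ 20 → 23 ^ 1 * 21 ∣ d.factorial := fun _ => h4
    have key : ∀ d ≤ 21, ¬ (d ∣ 21 ∧ d % 23 = 1 ∧ d ≠ 1 ∧ (d ≤ 20 → 23 ^ 1 * 21 ∣ d.factorial) ∧ (1 = 1 → ¬ Nat.Coprime (23 ^ 1 * 21 / d) (23 - 1))) := by decide
    exact key d hle ⟨h1, h2, h3, h4', h5⟩
  · exact false_of_two_primes hG 2 11 2 2 (by norm_num) (by norm_num) (hn.trans (by norm_num))
  · exact false_of_two_primes hG 5 97 1 1 (by norm_num) (by norm_num) (hn.trans (by norm_num))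
  · exact false_of_two_primes hG 2 3 1 5 (by norm_num) (by norm_num) (hn.trans (by norm_num))
  · exact false_of_prime_pow hG 487 1 (by norm_num) (hn.trans (by norm_num))
  · exact false_of_two_primes hG 2 61 3 1 (by norm_num) (by norm_num) (hn.trans (by norm_num))
  · exact false_of_two_primes hG 3 163 1 1 (by norm_num) (by norm_num) (hn.trans (by norm_num))
  · obtain ⟨d, h1, h2, h3, h4, h5⟩ := SimpleSmall.sylow_count (G := G) 7 2 10 (by norm_num) (hn.trans (by norm_num)) (by norm_num) (by norm_num) (by norm_num)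
    have hle : d ≤ 10 := Nat.le_of_dvd (by norm_num) h1
    have h4' : d ≤ 20 → 7 ^ 2 * 10 ∣ d.factorial := fun _ => h4
    have key : ∀ d ≤ 10, ¬ (d ∣ 10 ∧ d % 7 = 1 ∧ d ≠ 1 ∧ (d ≤ 20 → 7 ^ 2 * 10 ∣ d.factorial) ∧ (2 = 1 → ¬ Nat.Coprime (7 ^ 2 * 10 / d) (7 - 1))) := by decide
    exact key d hle ⟨h1, h2, h3, h4', h5⟩
  · exact false_of_prime_pow hG 491 1 (by norm_num) (hn.trans (by norm_num))
  · obtain ⟨d, h1, h2, h3, h4, h5⟩ := SimpleSmall.sylow_count (G := G) 41 1 12 (by norm_num) (hn.trans (by norm_num)) (by norm_num) (by norm_num) (by norm_num)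
    have hle : d ≤ 12 := Nat.le_of_dvd (by norm_num) h1
    have h4' : d ≤ 20 → 41 ^ 1 * 12 ∣ d.factorial := fun _ => h4
    have key : ∀ d ≤ 12, ¬ (d ∣ 12 ∧ d % 41 = 1 ∧ d ≠ 1 ∧ (d ≤ 20 → 41 ^ 1 * 12 ∣ d.factorial) ∧ (1 = 1 → ¬ Nat.Coprime (41 ^ 1 * 12 / d) (41 - 1))) := by decide
    exact key d hle ⟨h1, h2, h3, h4', h5⟩
  · exact false_of_two_primes hG 17 29 1 1 (by norm_num) (by norm_num) (hn.trans (by norm_num))
  · obtain ⟨d, h1, h2, h3, h4, h5⟩ := SimpleSmall.sylow_count (G := G) 19 1 26 (by norm_num) (hn.trans (by norm_num)) (by norm_num) (by norm_num) (by norm_num)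
    have hle : d ≤ 26 := Nat.le_of_dvd (by norm_num) h1
    have h4' : d ≤ 20 → 19 ^ 1 * 26 ∣ d.factorial := fun _ => h4
    have key : ∀ d ≤ 26, ¬ (d ∣ 26 ∧ d % 19 = 1 ∧ d ≠ 1 ∧ (d ≤ 20 → 19 ^ 1 * 26 ∣ d.factorial) ∧ (1 = 1 → ¬ Nat.Coprime (19 ^ 1 * 26 / d) (19 - 1))) := by decide
    exact key d hle ⟨h1, h2, h3, h4', h5⟩
  · obtain ⟨d, h1, h2, h3, h4, h5⟩ := SimpleSmall.sylow_count (G := G) 11 1 45 (by norm_num) (hn.trans (by norm_num)) (by norm_num) (by norm_num) (by norm_num)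
    have hle : d ≤ 45 := Nat.le_of_dvd (by norm_num) h1
    have h4' : d ≤ 20 → 11 ^ 1 * 45 ∣ d.factorial := fun _ => h4
    have key : ∀ d ≤ 45, ¬ (d ∣ 45 ∧ d % 11 = 1 ∧ d ≠ 1 ∧ (d ≤ 20 → 11 ^ 1 * 45 ∣ d.factorial) ∧ (1 = 1 → ¬ Nat.Coprime (11 ^ 1 * 45 / d) (11 - 1))) := by decide
    exact key d hle ⟨h1, h2, h3, h4', h5⟩
  · exact false_of_two_primes hG 2 31 4 1 (by norm_num) (by norm_num) (hn.trans (by norm_num))
  · exact false_of_two_primes hG 7 71 1 1 (by norm_num) (by norm_num) (hn.trans (by norm_num))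
  · obtain ⟨d, h1, h2, h3, h4, h5⟩ := SimpleSmall.sylow_count (G := G) 83 1 6 (by norm_num) (hn.trans (by norm_num)) (by norm_num) (by norm_num) (by norm_num)
    have hle : d ≤ 6 := Nat.le_of_dvd (by norm_num) h1
    have h4' : d ≤ 20 → 83 ^ 1 * 6 ∣ d.factorial := fun _ => h4
    have key : ∀ d ≤ 6, ¬ (d ∣ 6 ∧ d % 83 = 1 ∧ d ≠ 1 ∧ (d ≤ 20 → 83 ^ 1 * 6 ∣ d.factorial) ∧ (1 = 1 → ¬ Nat.Coprime (83 ^ 1 * 6 / d) (83 - 1))) := by decide
    exact key d hle ⟨h1, h2, h3, h4', h5⟩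
  · exact false_of_prime_pow hG 499 1 (by norm_num) (hn.trans (by norm_num))
  · exact false_of_two_primes hG 2 5 2 3 (by norm_num) (by norm_num) (hn.trans (by norm_num))
  · exact false_of_two_primes hG 3 167 1 1 (by norm_num) (by norm_num) (hn.trans (by norm_num))
  · exact false_of_two_primes hG 2 251 1 1 (by norm_num) (by norm_num) (hn.trans (by norm_num))
  · exact false_of_prime_pow hG 503 1 (by norm_num) (hn.trans (by norm_num))
  · exact absurd rfl h504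
  · exact false_of_two_primes hG 5 101 1 1 (by norm_num) (by norm_num) (hn.trans (by norm_num))
  · obtain ⟨d, h1, h2, h3, h4, h5⟩ := SimpleSmall.sylow_count (G := G) 23 1 22 (by norm_num) (hn.trans (by norm_num)) (by norm_num) (by norm_num) (by norm_num)
    have hle : d ≤ 22 := Nat.le_of_dvd (by norm_num) h1
    have h4' : d ≤ 20 → 23 ^ 1 * 22 ∣ d.factorial := fun _ => h4
    have key : ∀ d ≤ 22, ¬ (d ∣ 22 ∧ d % 23 = 1 ∧ d ≠ 1 ∧ (d ≤ 20 → 23 ^ 1 * 22 ∣ d.factorial) ∧ (1 = 1 → ¬ Nat.Coprime (23 ^ 1 * 22 / d) (23 - 1))) := by decide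
    exact key d hle ⟨h1, h2, h3, h4', h5⟩
  · exact false_of_two_primes hG 3 13 1 2 (by norm_num) (by norm_num) (hn.trans (by norm_num))
  · exact false_of_two_primes hG 2 127 2 1 (by norm_num) (by norm_num) (hn.trans (by norm_num))
  · exact false_of_prime_pow hG 509 1 (by norm_num) (hn.trans (by norm_num))
  · obtain ⟨d, h1, h2, h3, h4, h5⟩ := SimpleSmall.sylow_count (G := G) 17 1 30 (by norm_num) (hn.trans (by norm_num)) (by norm_num) (by norm_num) (by norm_num)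
    have hle : d ≤ 30 := Nat.le_of_dvd (by norm_num) h1
    have h4' : d ≤ 20 → 17 ^ 1 * 30 ∣ d.factorial := fun _ => h4
    have key : ∀ d ≤ 30, ¬ (d ∣ 30 ∧ d % 17 = 1 ∧ d ≠ 1 ∧ (d ≤ 20 → 17 ^ 1 * 30 ∣ d.factorial) ∧ (1 = 1 → ¬ Nat.Coprime (17 ^ 1 * 30 / d) (17 - 1))) := by decide
    exact key d hle ⟨h1, h2, h3, h4', h5⟩
  · exact false_of_two_primes hG 7 73 1 1 (by norm_num) (by norm_num) (hn.trans (by norm_num))
  · exact false_of_prime_pow hG 2 9 (by norm_num) (hn.trans (by norm_num))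
  · exact false_of_two_primes hG 3 19 3 1 (by norm_num) (by norm_num) (hn.trans (by norm_num))
  · exact false_of_two_primes hG 2 257 1 1 (by norm_num) (by norm_num) (hn.trans (by norm_num))
  · exact false_of_two_primes hG 5 103 1 1 (by norm_num) (by norm_num) (hn.trans (by norm_num))
  · obtain ⟨d, h1, h2, h3, h4, h5⟩ := SimpleSmall.sylow_count (G := G) 43 1 12 (by norm_num) (hn.trans (by norm_num)) (by norm_num) (by norm_num) (by norm_num)
    have hle : d ≤ 12 := Nat.le_of_dvd (by norm_num) h1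
    have h4' : d ≤ 20 → 43 ^ 1 * 12 ∣ d.factorial := fun _ => h4
    have key : ∀ d ≤ 12, ¬ (d ∣ 12 ∧ d % 43 = 1 ∧ d ≠ 1 ∧ (d ≤ 20 → 43 ^ 1 * 12 ∣ d.factorial) ∧ (1 = 1 → ¬ Nat.Coprime (43 ^ 1 * 12 / d) (43 - 1))) := by decide
    exact key d hle ⟨h1, h2, h3, h4', h5⟩
  · exact false_of_two_primes hG 11 47 1 1 (by norm_num) (by norm_num) (hn.trans (by norm_num))
  · obtain ⟨d, h1, h2, h3, h4, h5⟩ := SimpleSmall.sylow_count (G := G) 37 1 14 (by norm_num) (hn.trans (by norm_num)) (by norm_num) (by norm_num) (by norm_num)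
    have hle : d ≤ 14 := Nat.le_of_dvd (by norm_num) h1
    have h4' : d ≤ 20 → 37 ^ 1 * 14 ∣ d.factorial := fun _ => h4
    have key : ∀ d ≤ 14, ¬ (d ∣ 14 ∧ d % 37 = 1 ∧ d ≠ 1 ∧ (d ≤ 20 → 37 ^ 1 * 14 ∣ d.factorial) ∧ (1 = 1 → ¬ Nat.Coprime (37 ^ 1 * 14 / d) (37 - 1))) := by decide
    exact key d hle ⟨h1, h2, h3, h4', h5⟩
  · exact false_of_two_primes hG 3 173 1 1 (by norm_num) (by norm_num) (hn.trans (by norm_num))
  · obtain ⟨d, h1, h2, h3, h4, h5⟩ := SimpleSmall.sylow_count (G := G) 13 1 40 (by norm_num) (hn.trans (by norm_num)) (by norm_num) (by norm_num) (by norm_num)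
    have hle : d ≤ 40 := Nat.le_of_dvd (by norm_num) h1
    have h4' : d ≤ 20 → 13 ^ 1 * 40 ∣ d.factorial := fun _ => h4
    have key : ∀ d ≤ 40, ¬ (d ∣ 40 ∧ d % 13 = 1 ∧ d ≠ 1 ∧ (d ≤ 20 → 13 ^ 1 * 40 ∣ d.factorial) ∧ (1 = 1 → ¬ Nat.Coprime (13 ^ 1 * 40 / d) (13 - 1))) := by decide
    exact key d hle ⟨h1, h2, h3, h4', h5⟩
  · exact false_of_prime_pow hG 521 1 (by norm_num) (hn.trans (by norm_num))
  · obtain ⟨d, h1, h2, h3, h4, h5⟩ := SimpleSmall.sylow_count (G := G) 29 1 18 (by norm_num) (hn.trans (by norm_num)) (by norm_num) (by norm_num) (by norm_num)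
    have hle : d ≤ 18 := Nat.le_of_dvd (by norm_num) h1
    have h4' : d ≤ 20 → 29 ^ 1 * 18 ∣ d.factorial := fun _ => h4
    have key : ∀ d ≤ 18, ¬ (d ∣ 18 ∧ d % 29 = 1 ∧ d ≠ 1 ∧ (d ≤ 20 → 29 ^ 1 * 18 ∣ d.factorial) ∧ (1 = 1 → ¬ Nat.Coprime (29 ^ 1 * 18 / d) (29 - 1))) := by decide
    exact key d hle ⟨h1, h2, h3, h4', h5⟩
  · exact false_of_prime_pow hG 523 1 (by norm_num) (hn.trans (by norm_num))
  · exact false_of_two_primes hG 2 131 2 1 (by norm_num) (by norm_num) (hn.trans (by norm_num))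
  · obtain ⟨d, h1, h2, h3, h4, h5⟩ := SimpleSmall.sylow_count (G := G) 7 1 75 (by norm_num) (hn.trans (by norm_num)) (by norm_num) (by norm_num) (by norm_num)
    have hle : d ≤ 75 := Nat.le_of_dvd (by norm_num) h1
    have h4' : d ≤ 20 → 7 ^ 1 * 75 ∣ d.factorial := fun _ => h4
    have key : ∀ d ≤ 75, ¬ (d ∣ 75 ∧ d % 7 = 1 ∧ d ≠ 1 ∧ (d ≤ 20 → 7 ^ 1 * 75 ∣ d.factorial) ∧ (1 = 1 → ¬ Nat.Coprime (7 ^ 1 * 75 / d) (7 - 1))) := by decide
    exact key d hle ⟨h1, h2, h3, h4', h5⟩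
  · exact false_of_two_primes hG 2 263 1 1 (by norm_num) (by norm_num) (hn.trans (by norm_num))
  · exact false_of_two_primes hG 17 31 1 1 (by norm_num) (by norm_num) (hn.trans (by norm_num))
  · have : Fact (Nat.Prime 11) := ⟨by norm_num⟩
    obtain ⟨d, -, h1, h2, h3, h4, h5, h6, h7, h8, h9⟩ := sylow_count3 (G := G) hG 11 1 48 (hn.trans (by norm_num)) (by norm_num) (by norm_num) (by norm_num)
    have hle : d ≤ 48 := Nat.le_of_dvd (by norm_num) h1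
    have h4' : d ≤ 20 → 11 ^ 1 * 48 ∣ d.factorial := fun _ => h4
    clear h4
    interval_cases d <;> revert h1 h2 h3 h4' h5 h6 <;> decide
  · exact false_of_prime_pow hG 23 2 (by norm_num) (hn.trans (by norm_num))
  · obtain ⟨d, h1, h2, h3, h4, h5⟩ := SimpleSmall.sylow_count (G := G) 53 1 10 (by norm_num) (hn.trans (by norm_num)) (by norm_num) (by norm_num) (by norm_num)
    have hle : d ≤ 10 := Nat.le_of_dvd (by norm_num) h1
    have h4' : d ≤ 20 → 53 ^ 1 * 10 ∣ d.factorial := fun _ => h4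
    have key : ∀ d ≤ 10, ¬ (d ∣ 10 ∧ d % 53 = 1 ∧ d ≠ 1 ∧ (d ≤ 20 → 53 ^ 1 * 10 ∣ d.factorial) ∧ (1 = 1 → ¬ Nat.Coprime (53 ^ 1 * 10 / d) (53 - 1))) := by decide
    exact key d hle ⟨h1, h2, h3, h4', h5⟩
  · exact false_of_two_primes hG 3 59 2 1 (by norm_num) (by norm_num) (hn.trans (by norm_num))
  · obtain ⟨d, h1, h2, h3, h4, h5⟩ := SimpleSmall.sylow_count (G := G) 19 1 28 (by norm_num) (hn.trans (by norm_num)) (by norm_num) (by norm_num) (by norm_num)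
    have hle : d ≤ 28 := Nat.le_of_dvd (by norm_num) h1
    have h4' : d ≤ 20 → 19 ^ 1 * 28 ∣ d.factorial := fun _ => h4
    have key : ∀ d ≤ 28, ¬ (d ∣ 28 ∧ d % 19 = 1 ∧ d ≠ 1 ∧ (d ≤ 20 → 19 ^ 1 * 28 ∣ d.factorial) ∧ (1 = 1 → ¬ Nat.Coprime (19 ^ 1 * 28 / d) (19 - 1))) := by decide
    exact key d hle ⟨h1, h2, h3, h4', h5⟩
  · exact false_of_two_primes hG 13 41 1 1 (by norm_num) (by norm_num) (hn.trans (by norm_num))
  · obtain ⟨d, h1, h2, h3, h4, h5⟩ := SimpleSmall.sylow_count (G := G) 89 1 6 (by norm_num) (hn.trans (by norm_num)) (by norm_num) (by norm_num) (by norm_num)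
    have hle : d ≤ 6 := Nat.le_of_dvd (by norm_num) h1
    have h4' : d ≤ 20 → 89 ^ 1 * 6 ∣ d.factorial := fun _ => h4
    have key : ∀ d ≤ 6, ¬ (d ∣ 6 ∧ d % 89 = 1 ∧ d ≠ 1 ∧ (d ≤ 20 → 89 ^ 1 * 6 ∣ d.factorial) ∧ (1 = 1 → ¬ Nat.Coprime (89 ^ 1 * 6 / d) (89 - 1))) := by decide
    exact key d hle ⟨h1, h2, h3, h4', h5⟩
  · exact false_of_two_primes hG 5 107 1 1 (by norm_num) (by norm_num) (hn.trans (by norm_num))
  · exact false_of_two_primes hG 2 67 3 1 (by norm_num) (by norm_num) (hn.trans (by norm_num))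
  · exact false_of_two_primes hG 3 179 1 1 (by norm_num) (by norm_num) (hn.trans (by norm_num))
  · exact false_of_two_primes hG 2 269 1 1 (by norm_num) (by norm_num) (hn.trans (by norm_num))
  · exact false_of_two_primes hG 7 11 2 1 (by norm_num) (by norm_num) (hn.trans (by norm_num))
  · obtain ⟨d, h1, h2, h3, h4, h5⟩ := SimpleSmall.sylow_count (G := G) 5 1 108 (by norm_num) (hn.trans (by norm_num)) (by norm_num) (by norm_num) (by norm_num)
    have hle : d ≤ 108 := Nat.le_of_dvd (by norm_num) h1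
    have h4' : d ≤ 20 → 5 ^ 1 * 108 ∣ d.factorial := fun _ => h4
    have key : ∀ d ≤ 108, ¬ (d ∣ 108 ∧ d % 5 = 1 ∧ d ≠ 1 ∧ (d ≤ 20 → 5 ^ 1 * 108 ∣ d.factorial) ∧ (1 = 1 → ¬ Nat.Coprime (5 ^ 1 * 108 / d) (5 - 1))) := by decide
    exact key d hle ⟨h1, h2, h3, h4', h5⟩
  · exact false_of_prime_pow hG 541 1 (by norm_num) (hn.trans (by norm_num))
  · exact false_of_two_primes hG 2 271 1 1 (by norm_num) (by norm_num) (hn.trans (by norm_num))
  · exact false_of_two_primes hG 3 181 1 1 (by norm_num) (by norm_num) (hn.trans (by norm_num))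
  · exact false_of_two_primes hG 2 17 5 1 (by norm_num) (by norm_num) (hn.trans (by norm_num))
  · exact false_of_two_primes hG 5 109 1 1 (by norm_num) (by norm_num) (hn.trans (by norm_num))
  · obtain ⟨d, h1, h2, h3, h4, h5⟩ := SimpleSmall.sylow_count (G := G) 7 1 78 (by norm_num) (hn.trans (by norm_num)) (by norm_num) (by norm_num) (by norm_num)
    have hle : d ≤ 78 := Nat.le_of_dvd (by norm_num) h1
    have h4' : d ≤ 20 → 7 ^ 1 * 78 ∣ d.factorial := fun _ => h4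
    have key : ∀ d ≤ 78, ¬ (d ∣ 78 ∧ d % 7 = 1 ∧ d ≠ 1 ∧ (d ≤ 20 → 7 ^ 1 * 78 ∣ d.factorial) ∧ (1 = 1 → ¬ Nat.Coprime (7 ^ 1 * 78 / d) (7 - 1))) := by decide
    exact key d hle ⟨h1, h2, h3, h4', h5⟩
  · exact false_of_prime_pow hG 547 1 (by norm_num) (hn.trans (by norm_num))
  · exact false_of_two_primes hG 2 137 2 1 (by norm_num) (by norm_num) (hn.trans (by norm_num))
  · exact false_of_two_primes hG 3 61 2 1 (by norm_num) (by norm_num) (hn.trans (by norm_num))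
  · obtain ⟨d, h1, h2, h3, h4, h5⟩ := SimpleSmall.sylow_count (G := G) 11 1 50 (by norm_num) (hn.trans (by norm_num)) (by norm_num) (by norm_num) (by norm_num)
    have hle : d ≤ 50 := Nat.le_of_dvd (by norm_num) h1
    have h4' : d ≤ 20 → 11 ^ 1 * 50 ∣ d.factorial := fun _ => h4
    have key : ∀ d ≤ 50, ¬ (d ∣ 50 ∧ d % 11 = 1 ∧ d ≠ 1 ∧ (d ≤ 20 → 11 ^ 1 * 50 ∣ d.factorial) ∧ (1 = 1 → ¬ Nat.Coprime (11 ^ 1 * 50 / d) (11 - 1))) := by decide
    exact key d hle ⟨h1, h2, h3, h4', h5⟩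
  · exact false_of_two_primes hG 19 29 1 1 (by norm_num) (by norm_num) (hn.trans (by norm_num))
  · obtain ⟨d, h1, h2, h3, h4, h5⟩ := SimpleSmall.sylow_count (G := G) 23 1 24 (by norm_num) (hn.trans (by norm_num)) (by norm_num) (by norm_num) (by norm_num)
    have hle : d ≤ 24 := Nat.le_of_dvd (by norm_num) h1
    have h4' : d ≤ 20 → 23 ^ 1 * 24 ∣ d.factorial := fun _ => h4
    have key : ∀ d ≤ 24, ¬ (d ∣ 24 ∧ d % 23 = 1 ∧ d ≠ 1 ∧ (d ≤ 20 → 23 ^ 1 * 24 ∣ d.factorial) ∧ (1 = 1 → ¬ Nat.Coprime (23 ^ 1 * 24 / d) (23 - 1))) := by decide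
    exact key d hle ⟨h1, h2, h3, h4', h5⟩
  · exact false_of_two_primes hG 7 79 1 1 (by norm_num) (by norm_num) (hn.trans (by norm_num))
  · exact false_of_two_primes hG 2 277 1 1 (by norm_num) (by norm_num) (hn.trans (by norm_num))
  · obtain ⟨d, h1, h2, h3, h4, h5⟩ := SimpleSmall.sylow_count (G := G) 37 1 15 (by norm_num) (hn.trans (by norm_num)) (by norm_num) (by norm_num) (by norm_num)
    have hle : d ≤ 15 := Nat.le_of_dvd (by norm_num) h1
    have h4' : d ≤ 20 → 37 ^ 1 * 15 ∣ d.factorial := fun _ => h4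
    have key : ∀ d ≤ 15, ¬ (d ∣ 15 ∧ d % 37 = 1 ∧ d ≠ 1 ∧ (d ≤ 20 → 37 ^ 1 * 15 ∣ d.factorial) ∧ (1 = 1 → ¬ Nat.Coprime (37 ^ 1 * 15 / d) (37 - 1))) := by decide
    exact key d hle ⟨h1, h2, h3, h4', h5⟩
  · exact false_of_two_primes hG 2 139 2 1 (by norm_num) (by norm_num) (hn.trans (by norm_num))
  · exact false_of_prime_pow hG 557 1 (by norm_num) (hn.trans (by norm_num))
  · obtain ⟨d, h1, h2, h3, h4, h5⟩ := SimpleSmall.sylow_count (G := G) 31 1 18 (by norm_num) (hn.trans (by norm_num)) (by norm_num) (by norm_num) (by norm_num)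
    have hle : d ≤ 18 := Nat.le_of_dvd (by norm_num) h1
    have h4' : d ≤ 20 → 31 ^ 1 * 18 ∣ d.factorial := fun _ => h4
    have key : ∀ d ≤ 18, ¬ (d ∣ 18 ∧ d % 31 = 1 ∧ d ≠ 1 ∧ (d ≤ 20 → 31 ^ 1 * 18 ∣ d.factorial) ∧ (1 = 1 → ¬ Nat.Coprime (31 ^ 1 * 18 / d) (31 - 1))) := by decide
    exact key d hle ⟨h1, h2, h3, h4', h5⟩
  · exact false_of_two_primes hG 13 43 1 1 (by norm_num) (by norm_num) (hn.trans (by norm_num))
  · have : Fact (Nat.Prime 7) := ⟨by norm_num⟩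
    obtain ⟨d, -, h1, h2, h3, h4, h5, h6, h7, h8, h9⟩ := sylow_count3 (G := G) hG 7 1 80 (hn.trans (by norm_num)) (by norm_num) (by norm_num) (by norm_num)
    have hle : d ≤ 80 := Nat.le_of_dvd (by norm_num) h1
    have h4' : d ≤ 20 → 7 ^ 1 * 80 ∣ d.factorial := fun _ => h4
    clear h4
    interval_cases d <;> revert h1 h2 h3 h4' h5 h6 <;> decide
  · obtain ⟨d, h1, h2, h3, h4, h5⟩ := SimpleSmall.sylow_count (G := G) 17 1 33 (by norm_num) (hn.trans (by norm_num)) (by norm_num) (by norm_num) (by norm_num)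
    have hle : d ≤ 33 := Nat.le_of_dvd (by norm_num) h1
    have h4' : d ≤ 20 → 17 ^ 1 * 33 ∣ d.factorial := fun _ => h4
    have key : ∀ d ≤ 33, ¬ (d ∣ 33 ∧ d % 17 = 1 ∧ d ≠ 1 ∧ (d ≤ 20 → 17 ^ 1 * 33 ∣ d.factorial) ∧ (1 = 1 → ¬ Nat.Coprime (17 ^ 1 * 33 / d) (17 - 1))) := by decide
    exact key d hle ⟨h1, h2, h3, h4', h5⟩
  · exact false_of_two_primes hG 2 281 1 1 (by norm_num) (by norm_num) (hn.trans (by norm_num))
  · exact false_of_prime_pow hG 563 1 (by norm_num) (hn.trans (by norm_num))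
  · obtain ⟨d, h1, h2, h3, h4, h5⟩ := SimpleSmall.sylow_count (G := G) 47 1 12 (by norm_num) (hn.trans (by norm_num)) (by norm_num) (by norm_num) (by norm_num)
    have hle : d ≤ 12 := Nat.le_of_dvd (by norm_num) h1
    have h4' : d ≤ 20 → 47 ^ 1 * 12 ∣ d.factorial := fun _ => h4
    have key : ∀ d ≤ 12, ¬ (d ∣ 12 ∧ d % 47 = 1 ∧ d ≠ 1 ∧ (d ≤ 20 → 47 ^ 1 * 12 ∣ d.factorial) ∧ (1 = 1 → ¬ Nat.Coprime (47 ^ 1 * 12 / d) (47 - 1))) := by decide
    exact key d hle ⟨h1, h2, h3, h4', h5⟩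
  · exact false_of_two_primes hG 5 113 1 1 (by norm_num) (by norm_num) (hn.trans (by norm_num))
  · exact false_of_two_primes hG 2 283 1 1 (by norm_num) (by norm_num) (hn.trans (by norm_num))
  · exact false_of_two_primes hG 3 7 4 1 (by norm_num) (by norm_num) (hn.trans (by norm_num))
  · exact false_of_two_primes hG 2 71 3 1 (by norm_num) (by norm_num) (hn.trans (by norm_num))
  · exact false_of_prime_pow hG 569 1 (by norm_num) (hn.trans (by norm_num))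
  · obtain ⟨d, h1, h2, h3, h4, h5⟩ := SimpleSmall.sylow_count (G := G) 19 1 30 (by norm_num) (hn.trans (by norm_num)) (by norm_num) (by norm_num) (by norm_num)
    have hle : d ≤ 30 := Nat.le_of_dvd (by norm_num) h1
    have h4' : d ≤ 20 → 19 ^ 1 * 30 ∣ d.factorial := fun _ => h4
    have key : ∀ d ≤ 30, ¬ (d ∣ 30 ∧ d % 19 = 1 ∧ d ≠ 1 ∧ (d ≤ 20 → 19 ^ 1 * 30 ∣ d.factorial) ∧ (1 = 1 → ¬ Nat.Coprime (19 ^ 1 * 30 / d) (19 - 1))) := by decide
    exact key d hle ⟨h1, h2, h3, h4', h5⟩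
  · exact false_of_prime_pow hG 571 1 (by norm_num) (hn.trans (by norm_num))
  · obtain ⟨d, h1, h2, h3, h4, h5⟩ := SimpleSmall.sylow_count (G := G) 13 1 44 (by norm_num) (hn.trans (by norm_num)) (by norm_num) (by norm_num) (by norm_num)
    have hle : d ≤ 44 := Nat.le_of_dvd (by norm_num) h1
    have h4' : d ≤ 20 → 13 ^ 1 * 44 ∣ d.factorial := fun _ => h4
    have key : ∀ d ≤ 44, ¬ (d ∣ 44 ∧ d % 13 = 1 ∧ d ≠ 1 ∧ (d ≤ 20 → 13 ^ 1 * 44 ∣ d.factorial) ∧ (1 = 1 → ¬ Nat.Coprime (13 ^ 1 * 44 / d) (13 - 1))) := by decide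
    exact key d hle ⟨h1, h2, h3, h4', h5⟩
  · exact false_of_two_primes hG 3 191 1 1 (by norm_num) (by norm_num) (hn.trans (by norm_num))
  · obtain ⟨d, h1, h2, h3, h4, h5⟩ := SimpleSmall.sylow_count (G := G) 41 1 14 (by norm_num) (hn.trans (by norm_num)) (by norm_num) (by norm_num) (by norm_num)
    have hle : d ≤ 14 := Nat.le_of_dvd (by norm_num) h1
    have h4' : d ≤ 20 → 41 ^ 1 * 14 ∣ d.factorial := fun _ => h4
    have key : ∀ d ≤ 14, ¬ (d ∣ 14 ∧ d % 41 = 1 ∧ d ≠ 1 ∧ (d ≤ 20 → 41 ^ 1 * 14 ∣ d.factorial) ∧ (1 = 1 → ¬ Nat.Coprime (41 ^ 1 * 14 / d) (41 - 1))) := by decide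
    exact key d hle ⟨h1, h2, h3, h4', h5⟩
  · exact false_of_two_primes hG 5 23 2 1 (by norm_num) (by norm_num) (hn.trans (by norm_num))
  · exact false_of_two_primes hG 2 3 6 2 (by norm_num) (by norm_num) (hn.trans (by norm_num))
  · exact false_of_prime_pow hG 577 1 (by norm_num) (hn.trans (by norm_num))
  · exact false_of_two_primes hG 2 17 1 2 (by norm_num) (by norm_num) (hn.trans (by norm_num))
  · exact false_of_two_primes hG 3 193 1 1 (by norm_num) (by norm_num) (hn.trans (by norm_num))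
  · obtain ⟨d, h1, h2, h3, h4, h5⟩ := SimpleSmall.sylow_count (G := G) 29 1 20 (by norm_num) (hn.trans (by norm_num)) (by norm_num) (by norm_num) (by norm_num)
    have hle : d ≤ 20 := Nat.le_of_dvd (by norm_num) h1
    have h4' : d ≤ 20 → 29 ^ 1 * 20 ∣ d.factorial := fun _ => h4
    have key : ∀ d ≤ 20, ¬ (d ∣ 20 ∧ d % 29 = 1 ∧ d ≠ 1 ∧ (d ≤ 20 → 29 ^ 1 * 20 ∣ d.factorial) ∧ (1 = 1 → ¬ Nat.Coprime (29 ^ 1 * 20 / d) (29 - 1))) := by decide
    exact key d hle ⟨h1, h2, h3, h4', h5⟩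
  · exact false_of_two_primes hG 7 83 1 1 (by norm_num) (by norm_num) (hn.trans (by norm_num))
  · obtain ⟨d, h1, h2, h3, h4, h5⟩ := SimpleSmall.sylow_count (G := G) 97 1 6 (by norm_num) (hn.trans (by norm_num)) (by norm_num) (by norm_num) (by norm_num)
    have hle : d ≤ 6 := Nat.le_of_dvd (by norm_num) h1
    have h4' : d ≤ 20 → 97 ^ 1 * 6 ∣ d.factorial := fun _ => h4
    have key : ∀ d ≤ 6, ¬ (d ∣ 6 ∧ d % 97 = 1 ∧ d ≠ 1 ∧ (d ≤ 20 → 97 ^ 1 * 6 ∣ d.factorial) ∧ (1 = 1 → ¬ Nat.Coprime (97 ^ 1 * 6 / d) (97 - 1))) := by decide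
    exact key d hle ⟨h1, h2, h3, h4', h5⟩
  · exact false_of_two_primes hG 11 53 1 1 (by norm_num) (by norm_num) (hn.trans (by norm_num))
  · exact false_of_two_primes hG 2 73 3 1 (by norm_num) (by norm_num) (hn.trans (by norm_num))
  · obtain ⟨d, h1, h2, h3, h4, h5⟩ := SimpleSmall.sylow_count (G := G) 13 1 45 (by norm_num) (hn.trans (by norm_num)) (by norm_num) (by norm_num) (by norm_num)
    have hle : d ≤ 45 := Nat.le_of_dvd (by norm_num) h1
    have h4' : d ≤ 20 → 13 ^ 1 * 45 ∣ d.factorial := fun _ => h4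
    have key : ∀ d ≤ 45, ¬ (d ∣ 45 ∧ d % 13 = 1 ∧ d ≠ 1 ∧ (d ≤ 20 → 13 ^ 1 * 45 ∣ d.factorial) ∧ (1 = 1 → ¬ Nat.Coprime (13 ^ 1 * 45 / d) (13 - 1))) := by decide
    exact key d hle ⟨h1, h2, h3, h4', h5⟩
  · exact false_of_two_primes hG 2 293 1 1 (by norm_num) (by norm_num) (hn.trans (by norm_num))
  · exact false_of_prime_pow hG 587 1 (by norm_num) (hn.trans (by norm_num))
  · obtain ⟨d, h1, h2, h3, h4, h5⟩ := SimpleSmall.sylow_count (G := G) 7 2 12 (by norm_num) (hn.trans (by norm_num)) (by norm_num) (by norm_num) (by norm_num)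
    have hle : d ≤ 12 := Nat.le_of_dvd (by norm_num) h1
    have h4' : d ≤ 20 → 7 ^ 2 * 12 ∣ d.factorial := fun _ => h4
    have key : ∀ d ≤ 12, ¬ (d ∣ 12 ∧ d % 7 = 1 ∧ d ≠ 1 ∧ (d ≤ 20 → 7 ^ 2 * 12 ∣ d.factorial) ∧ (2 = 1 → ¬ Nat.Coprime (7 ^ 2 * 12 / d) (7 - 1))) := by decide
    exact key d hle ⟨h1, h2, h3, h4', h5⟩
  · exact false_of_two_primes hG 19 31 1 1 (by norm_num) (by norm_num) (hn.trans (by norm_num))
  · obtain ⟨d, h1, h2, h3, h4, h5⟩ := SimpleSmall.sylow_count (G := G) 59 1 10 (by norm_num) (hn.trans (by norm_num)) (by norm_num) (by norm_num) (by norm_num)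
    have hle : d ≤ 10 := Nat.le_of_dvd (by norm_num) h1
    have h4' : d ≤ 20 → 59 ^ 1 * 10 ∣ d.factorial := fun _ => h4
    have key : ∀ d ≤ 10, ¬ (d ∣ 10 ∧ d % 59 = 1 ∧ d ≠ 1 ∧ (d ≤ 20 → 59 ^ 1 * 10 ∣ d.factorial) ∧ (1 = 1 → ¬ Nat.Coprime (59 ^ 1 * 10 / d) (59 - 1))) := by decide
    exact key d hle ⟨h1, h2, h3, h4', h5⟩
  · exact false_of_two_primes hG 3 197 1 1 (by norm_num) (by norm_num) (hn.trans (by norm_num))
  · exact false_of_two_primes hG 2 37 4 1 (by norm_num) (by norm_num) (hn.trans (by norm_num))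
  · exact false_of_prime_pow hG 593 1 (by norm_num) (hn.trans (by norm_num))
  · obtain ⟨d, h1, h2, h3, h4, h5⟩ := SimpleSmall.sylow_count (G := G) 11 1 54 (by norm_num) (hn.trans (by norm_num)) (by norm_num) (by norm_num) (by norm_num)
    have hle : d ≤ 54 := Nat.le_of_dvd (by norm_num) h1
    have h4' : d ≤ 20 → 11 ^ 1 * 54 ∣ d.factorial := fun _ => h4
    have key : ∀ d ≤ 54, ¬ (d ∣ 54 ∧ d % 11 = 1 ∧ d ≠ 1 ∧ (d ≤ 20 → 11 ^ 1 * 54 ∣ d.factorial) ∧ (1 = 1 → ¬ Nat.Coprime (11 ^ 1 * 54 / d) (11 - 1))) := by decide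
    exact key d hle ⟨h1, h2, h3, h4', h5⟩
  · obtain ⟨d, h1, h2, h3, h4, h5⟩ := SimpleSmall.sylow_count (G := G) 17 1 35 (by norm_num) (hn.trans (by norm_num)) (by norm_num) (by norm_num) (by norm_num)
    have hle : d ≤ 35 := Nat.le_of_dvd (by norm_num) h1
    have h4' : d ≤ 20 → 17 ^ 1 * 35 ∣ d.factorial := fun _ => h4
    have key : ∀ d ≤ 35, ¬ (d ∣ 35 ∧ d % 17 = 1 ∧ d ≠ 1 ∧ (d ≤ 20 → 17 ^ 1 * 35 ∣ d.factorial) ∧ (1 = 1 → ¬ Nat.Coprime (17 ^ 1 * 35 / d) (17 - 1))) := by decide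
    exact key d hle ⟨h1, h2, h3, h4', h5⟩
  · exact false_of_two_primes hG 2 149 2 1 (by norm_num) (by norm_num) (hn.trans (by norm_num))
  · exact false_of_two_primes hG 3 199 1 1 (by norm_num) (by norm_num) (hn.trans (by norm_num))
  · obtain ⟨d, h1, h2, h3, h4, h5⟩ := SimpleSmall.sylow_count (G := G) 23 1 26 (by norm_num) (hn.trans (by norm_num)) (by norm_num) (by norm_num) (by norm_num)
    have hle : d ≤ 26 := Nat.le_of_dvd (by norm_num) h1
    have h4' : d ≤ 20 → 23 ^ 1 * 26 ∣ d.factorial := fun _ => h4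
    have key : ∀ d ≤ 26, ¬ (d ∣ 26 ∧ d % 23 = 1 ∧ d ≠ 1 ∧ (d ≤ 20 → 23 ^ 1 * 26 ∣ d.factorial) ∧ (1 = 1 → ¬ Nat.Coprime (23 ^ 1 * 26 / d) (23 - 1))) := by decide
    exact key d hle ⟨h1, h2, h3, h4', h5⟩
  · exact false_of_prime_pow hG 599 1 (by norm_num) (hn.trans (by norm_num))
  · obtain ⟨d, h1, h2, h3, h4, h5⟩ := SimpleSmall.sylow_count (G := G) 5 2 24 (by norm_num) (hn.trans (by norm_num)) (by norm_num) (by norm_num) (by norm_num)
    have hle : d ≤ 24 := Nat.le_of_dvd (by norm_num) h1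
    have h4' : d ≤ 20 → 5 ^ 2 * 24 ∣ d.factorial := fun _ => h4
    have key : ∀ d ≤ 24, ¬ (d ∣ 24 ∧ d % 5 = 1 ∧ d ≠ 1 ∧ (d ≤ 20 → 5 ^ 2 * 24 ∣ d.factorial) ∧ (2 = 1 → ¬ Nat.Coprime (5 ^ 2 * 24 / d) (5 - 1))) := by decide
    exact key d hle ⟨h1, h2, h3, h4', h5⟩

end Cfsg.Agent.Helper2.SimpleSmall2
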