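import Mathlib
import Cfsg.Agent.Helper2.SimpleSmall2
import Cfsg.Agent.S0499

/-!
# Orders of simple groups: the routine cases 601..850 (generated; helper2, for S0496)
-/

set_option autoImplicit false
set_option maxRecDepth 4096
set_option synthInstance.maxSize 2048

namespace Cfsg.Agent.Helper2.SimpleSmall2

open Cfsg.Agent.Helper2

theorem no_simple_rangeC {G : Type*} [Group G] [Finite G] [IsSimpleGroup G]
    (hG : ¬ IsMulCommutative G) (n : ℕ) (hn : Nat.card G = n) (hlo : 601 ≤ n) (hhi : n ≤ 850)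
    (h660 : n ≠ 660) (h720 : n ≠ 720) (h756 : n ≠ 756) : False := by
  interval_cases n
  · exact false_of_prime_pow hG 601 1 (by norm_num) (hn.trans (by norm_num))
  · obtain ⟨d, h1, h2, h3, h4, h5⟩ := SimpleSmall.sylow_count (G := G) 43 1 14 (by norm_num) (hn.trans (by norm_num)) (by norm_num) (by norm_num) (by norm_num)
    have hle : d ≤ 14 := Nat.le_of_dvd (by norm_num) h1
    have h4' : d ≤ 20 → 43 ^ 1 * 14 ∣ d.factorial := fun _ => h4
    have key : ∀ d ≤ 14, ¬ (d ∣ 14 ∧ d % 43 = 1 ∧ d ≠ 1 ∧ (d ≤ 20 → 43 ^ 1 * 14 ∣ d.factorial) ∧ (1 = 1 → ¬ Nat.Coprime (43 ^ 1 * 14 / d) (43 - 1))) := by decide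
    exact key d hle ⟨h1, h2, h3, h4', h5⟩
  · exact false_of_two_primes hG 3 67 2 1 (by norm_num) (by norm_num) (hn.trans (by norm_num))
  · exact false_of_two_primes hG 2 151 2 1 (by norm_num) (by norm_num) (hn.trans (by norm_num))
  · exact false_of_two_primes hG 5 11 1 2 (by norm_num) (by norm_num) (hn.trans (by norm_num))
  · obtain ⟨d, h1, h2, h3, h4, h5⟩ := SimpleSmall.sylow_count (G := G) 101 1 6 (by norm_num) (hn.trans (by norm_num)) (by norm_num) (by norm_num) (by norm_num)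
    have hle : d ≤ 6 := Nat.le_of_dvd (by norm_num) h1
    have h4' : d ≤ 20 → 101 ^ 1 * 6 ∣ d.factorial := fun _ => h4
    have key : ∀ d ≤ 6, ¬ (d ∣ 6 ∧ d % 101 = 1 ∧ d ≠ 1 ∧ (d ≤ 20 → 101 ^ 1 * 6 ∣ d.factorial) ∧ (1 = 1 → ¬ Nat.Coprime (101 ^ 1 * 6 / d) (101 - 1))) := by decide
    exact key d hle ⟨h1, h2, h3, h4', h5⟩
  · exact false_of_prime_pow hG 607 1 (by norm_num) (hn.trans (by norm_num))
  · exact false_of_two_primes hG 2 19 5 1 (by norm_num) (by norm_num) (hn.trans (by norm_num))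
  · obtain ⟨d, h1, h2, h3, h4, h5⟩ := SimpleSmall.sylow_count (G := G) 29 1 21 (by norm_num) (hn.trans (by norm_num)) (by norm_num) (by norm_num) (by norm_num)
    have hle : d ≤ 21 := Nat.le_of_dvd (by norm_num) h1
    have h4' : d ≤ 20 → 29 ^ 1 * 21 ∣ d.factorial := fun _ => h4
    have key : ∀ d ≤ 21, ¬ (d ∣ 21 ∧ d % 29 = 1 ∧ d ≠ 1 ∧ (d ≤ 20 → 29 ^ 1 * 21 ∣ d.factorial) ∧ (1 = 1 → ¬ Nat.Coprime (29 ^ 1 * 21 / d) (29 - 1))) := by decide
    exact key d hle ⟨h1, h2, h3, h4', h5⟩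
  · obtain ⟨d, h1, h2, h3, h4, h5⟩ := SimpleSmall.sylow_count (G := G) 61 1 10 (by norm_num) (hn.trans (by norm_num)) (by norm_num) (by norm_num) (by norm_num)
    have hle : d ≤ 10 := Nat.le_of_dvd (by norm_num) h1
    have h4' : d ≤ 20 → 61 ^ 1 * 10 ∣ d.factorial := fun _ => h4
    have key : ∀ d ≤ 10, ¬ (d ∣ 10 ∧ d % 61 = 1 ∧ d ≠ 1 ∧ (d ≤ 20 → 61 ^ 1 * 10 ∣ d.factorial) ∧ (1 = 1 → ¬ Nat.Coprime (61 ^ 1 * 10 / d) (61 - 1))) := by decide
    exact key d hle ⟨h1, h2, h3, h4', h5⟩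
  · exact false_of_two_primes hG 13 47 1 1 (by norm_num) (by norm_num) (hn.trans (by norm_num))
  · have : Fact (Nat.Prime 17) := ⟨by norm_num⟩
    obtain ⟨d, hd, h1, h2, h3, h4, h5, -⟩ := sylow_count3 (G := G) hG 17 1 36 (hn.trans (by norm_num)) (by norm_num) (by norm_num) (by norm_num)
    have hle : d ≤ 36 := Nat.le_of_dvd (by norm_num) h1
    have h4' : d ≤ 20 → 17 ^ 1 * 36 ∣ d.factorial := fun _ => h4
    have key : ∀ d ≤ 36, (d ∣ 36 ∧ d % 17 = 1 ∧ d ≠ 1 ∧ (d ≤ 20 → 17 ^ 1 * 36 ∣ d.factorial) ∧ (1 = 1 → ¬ Nat.Coprime (17 ^ 1 * 36 / d) (17 - 1))) → d = 18 := by decide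
    have hd18 := key d hle ⟨h1, h2, h3, h4', h5⟩
    subst hd18
    rcases card_sylow_eq_succ (G := G) 17 2 (hn.trans (by norm_num)) (by norm_num) (by norm_num) hd with h | h | ⟨q, hq, -, h, -⟩
    · omega
    · omega
    · interval_cases q <;> omega
  · exact false_of_prime_pow hG 613 1 (by norm_num) (hn.trans (by norm_num))
  · exact false_of_two_primes hG 2 307 1 1 (by norm_num) (by norm_num) (hn.trans (by norm_num))
  · obtain ⟨d, h1, h2, h3, h4, h5⟩ := SimpleSmall.sylow_count (G := G) 41 1 15 (by norm_num) (hn.trans (by norm_num)) (by norm_num) (by norm_num) (by norm_num)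
    have hle : d ≤ 15 := Nat.le_of_dvd (by norm_num) h1
    have h4' : d ≤ 20 → 41 ^ 1 * 15 ∣ d.factorial := fun _ => h4
    have key : ∀ d ≤ 15, ¬ (d ∣ 15 ∧ d % 41 = 1 ∧ d ≠ 1 ∧ (d ≤ 20 → 41 ^ 1 * 15 ∣ d.factorial) ∧ (1 = 1 → ¬ Nat.Coprime (41 ^ 1 * 15 / d) (41 - 1))) := by decide
    exact key d hle ⟨h1, h2, h3, h4', h5⟩
  · obtain ⟨d, h1, h2, h3, h4, h5⟩ := SimpleSmall.sylow_count (G := G) 11 1 56 (by norm_num) (hn.trans (by norm_num)) (by norm_num) (by norm_num) (by norm_num)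
    have hle : d ≤ 56 := Nat.le_of_dvd (by norm_num) h1
    have h4' : d ≤ 20 → 11 ^ 1 * 56 ∣ d.factorial := fun _ => h4
    have key : ∀ d ≤ 56, ¬ (d ∣ 56 ∧ d % 11 = 1 ∧ d ≠ 1 ∧ (d ≤ 20 → 11 ^ 1 * 56 ∣ d.factorial) ∧ (1 = 1 → ¬ Nat.Coprime (11 ^ 1 * 56 / d) (11 - 1))) := by decide
    exact key d hle ⟨h1, h2, h3, h4', h5⟩
  · exact false_of_prime_pow hG 617 1 (by norm_num) (hn.trans (by norm_num))
  · obtain ⟨d, h1, h2, h3, h4, h5⟩ := SimpleSmall.sylow_count (G := G) 103 1 6 (by norm_num) (hn.trans (by norm_num)) (by norm_num) (by norm_num) (by norm_num)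
    have hle : d ≤ 6 := Nat.le_of_dvd (by norm_num) h1
    have h4' : d ≤ 20 → 103 ^ 1 * 6 ∣ d.factorial := fun _ => h4
    have key : ∀ d ≤ 6, ¬ (d ∣ 6 ∧ d % 103 = 1 ∧ d ≠ 1 ∧ (d ≤ 20 → 103 ^ 1 * 6 ∣ d.factorial) ∧ (1 = 1 → ¬ Nat.Coprime (103 ^ 1 * 6 / d) (103 - 1))) := by decide
    exact key d hle ⟨h1, h2, h3, h4', h5⟩
  · exact false_of_prime_pow hG 619 1 (by norm_num) (hn.trans (by norm_num))
  · obtain ⟨d, h1, h2, h3, h4, h5⟩ := SimpleSmall.sylow_count (G := G) 31 1 20 (by norm_num) (hn.trans (by norm_num)) (by norm_num) (by norm_num) (by norm_num)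
    have hle : d ≤ 20 := Nat.le_of_dvd (by norm_num) h1
    have h4' : d ≤ 20 → 31 ^ 1 * 20 ∣ d.factorial := fun _ => h4
    have key : ∀ d ≤ 20, ¬ (d ∣ 20 ∧ d % 31 = 1 ∧ d ≠ 1 ∧ (d ≤ 20 → 31 ^ 1 * 20 ∣ d.factorial) ∧ (1 = 1 → ¬ Nat.Coprime (31 ^ 1 * 20 / d) (31 - 1))) := by decide
    exact key d hle ⟨h1, h2, h3, h4', h5⟩
  · exact false_of_two_primes hG 3 23 3 1 (by norm_num) (by norm_num) (hn.trans (by norm_num))
  · exact false_of_two_primes hG 2 311 1 1 (by norm_num) (by norm_num) (hn.trans (by norm_num))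
  · exact false_of_two_primes hG 7 89 1 1 (by norm_num) (by norm_num) (hn.trans (by norm_num))
  · obtain ⟨d, h1, h2, h3, h4, h5⟩ := SimpleSmall.sylow_count (G := G) 13 1 48 (by norm_num) (hn.trans (by norm_num)) (by norm_num) (by norm_num) (by norm_num)
    have hle : d ≤ 48 := Nat.le_of_dvd (by norm_num) h1
    have h4' : d ≤ 20 → 13 ^ 1 * 48 ∣ d.factorial := fun _ => h4
    have key : ∀ d ≤ 48, ¬ (d ∣ 48 ∧ d % 13 = 1 ∧ d ≠ 1 ∧ (d ≤ 20 → 13 ^ 1 * 48 ∣ d.factorial) ∧ (1 = 1 → ¬ Nat.Coprime (13 ^ 1 * 48 / d) (13 - 1))) := by decide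
    exact key d hle ⟨h1, h2, h3, h4', h5⟩
  · exact false_of_prime_pow hG 5 4 (by norm_num) (hn.trans (by norm_num))
  · exact false_of_two_primes hG 2 313 1 1 (by norm_num) (by norm_num) (hn.trans (by norm_num))
  · obtain ⟨d, h1, h2, h3, h4, h5⟩ := SimpleSmall.sylow_count (G := G) 19 1 33 (by norm_num) (hn.trans (by norm_num)) (by norm_num) (by norm_num) (by norm_num)
    have hle : d ≤ 33 := Nat.le_of_dvd (by norm_num) h1
    have h4' : d ≤ 20 → 19 ^ 1 * 33 ∣ d.factorial := fun _ => h4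
    have key : ∀ d ≤ 33, ¬ (d ∣ 33 ∧ d % 19 = 1 ∧ d ≠ 1 ∧ (d ≤ 20 → 19 ^ 1 * 33 ∣ d.factorial) ∧ (1 = 1 → ¬ Nat.Coprime (19 ^ 1 * 33 / d) (19 - 1))) := by decide
    exact key d hle ⟨h1, h2, h3, h4', h5⟩
  · exact false_of_two_primes hG 2 157 2 1 (by norm_num) (by norm_num) (hn.trans (by norm_num))
  · exact false_of_two_primes hG 17 37 1 1 (by norm_num) (by norm_num) (hn.trans (by norm_num))
  · obtain ⟨d, h1, h2, h3, h4, h5⟩ := SimpleSmall.sylow_count (G := G) 2 1 315 (by norm_num) (hn.trans (by norm_num)) (by norm_num) (by norm_num) (by norm_num)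
    exact h5 rfl (by simp)
  · exact false_of_prime_pow hG 631 1 (by norm_num) (hn.trans (by norm_num))
  · exact false_of_two_primes hG 2 79 3 1 (by norm_num) (by norm_num) (hn.trans (by norm_num))
  · exact false_of_two_primes hG 3 211 1 1 (by norm_num) (by norm_num) (hn.trans (by norm_num))
  · exact false_of_two_primes hG 2 317 1 1 (by norm_num) (by norm_num) (hn.trans (by norm_num))
  · exact false_of_two_primes hG 5 127 1 1 (by norm_num) (by norm_num) (hn.trans (by norm_num))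
  · obtain ⟨d, h1, h2, h3, h4, h5⟩ := SimpleSmall.sylow_count (G := G) 53 1 12 (by norm_num) (hn.trans (by norm_num)) (by norm_num) (by norm_num) (by norm_num)
    have hle : d ≤ 12 := Nat.le_of_dvd (by norm_num) h1
    have h4' : d ≤ 20 → 53 ^ 1 * 12 ∣ d.factorial := fun _ => h4
    have key : ∀ d ≤ 12, ¬ (d ∣ 12 ∧ d % 53 = 1 ∧ d ≠ 1 ∧ (d ≤ 20 → 53 ^ 1 * 12 ∣ d.factorial) ∧ (1 = 1 → ¬ Nat.Coprime (53 ^ 1 * 12 / d) (53 - 1))) := by decide
    exact key d hle ⟨h1, h2, h3, h4', h5⟩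
  · exact false_of_two_primes hG 7 13 2 1 (by norm_num) (by norm_num) (hn.trans (by norm_num))
  · obtain ⟨d, h1, h2, h3, h4, h5⟩ := SimpleSmall.sylow_count (G := G) 29 1 22 (by norm_num) (hn.trans (by norm_num)) (by norm_num) (by norm_num) (by norm_num)
    have hle : d ≤ 22 := Nat.le_of_dvd (by norm_num) h1
    have h4' : d ≤ 20 → 29 ^ 1 * 22 ∣ d.factorial := fun _ => h4
    have key : ∀ d ≤ 22, ¬ (d ∣ 22 ∧ d % 29 = 1 ∧ d ≠ 1 ∧ (d ≤ 20 → 29 ^ 1 * 22 ∣ d.factorial) ∧ (1 = 1 → ¬ Nat.Coprime (29 ^ 1 * 22 / d) (29 - 1))) := by decide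
    exact key d hle ⟨h1, h2, h3, h4', h5⟩
  · exact false_of_two_primes hG 3 71 2 1 (by norm_num) (by norm_num) (hn.trans (by norm_num))
  · exact false_of_two_primes hG 2 5 7 1 (by norm_num) (by norm_num) (hn.trans (by norm_num))
  · exact false_of_prime_pow hG 641 1 (by norm_num) (hn.trans (by norm_num))
  · obtain ⟨d, h1, h2, h3, h4, h5⟩ := SimpleSmall.sylow_count (G := G) 107 1 6 (by norm_num) (hn.trans (by norm_num)) (by norm_num) (by norm_num) (by norm_num)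
    have hle : d ≤ 6 := Nat.le_of_dvd (by norm_num) h1
    have h4' : d ≤ 20 → 107 ^ 1 * 6 ∣ d.factorial := fun _ => h4
    have key : ∀ d ≤ 6, ¬ (d ∣ 6 ∧ d % 107 = 1 ∧ d ≠ 1 ∧ (d ≤ 20 → 107 ^ 1 * 6 ∣ d.factorial) ∧ (1 = 1 → ¬ Nat.Coprime (107 ^ 1 * 6 / d) (107 - 1))) := by decide
    exact key d hle ⟨h1, h2, h3, h4', h5⟩
  · exact false_of_prime_pow hG 643 1 (by norm_num) (hn.trans (by norm_num))
  · obtain ⟨d, h1, h2, h3, h4, h5⟩ := SimpleSmall.sylow_count (G := G) 23 1 28 (by norm_num) (hn.trans (by norm_num)) (by norm_num) (by norm_num) (by norm_num)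
    have hle : d ≤ 28 := Nat.le_of_dvd (by norm_num) h1
    have h4' : d ≤ 20 → 23 ^ 1 * 28 ∣ d.factorial := fun _ => h4
    have key : ∀ d ≤ 28, ¬ (d ∣ 28 ∧ d % 23 = 1 ∧ d ≠ 1 ∧ (d ≤ 20 → 23 ^ 1 * 28 ∣ d.factorial) ∧ (1 = 1 → ¬ Nat.Coprime (23 ^ 1 * 28 / d) (23 - 1))) := by decide
    exact key d hle ⟨h1, h2, h3, h4', h5⟩
  · obtain ⟨d, h1, h2, h3, h4, h5⟩ := SimpleSmall.sylow_count (G := G) 43 1 15 (by norm_num) (hn.trans (by norm_num)) (by norm_num) (by norm_num) (by norm_num)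
    have hle : d ≤ 15 := Nat.le_of_dvd (by norm_num) h1
    have h4' : d ≤ 20 → 43 ^ 1 * 15 ∣ d.factorial := fun _ => h4
    have key : ∀ d ≤ 15, ¬ (d ∣ 15 ∧ d % 43 = 1 ∧ d ≠ 1 ∧ (d ≤ 20 → 43 ^ 1 * 15 ∣ d.factorial) ∧ (1 = 1 → ¬ Nat.Coprime (43 ^ 1 * 15 / d) (43 - 1))) := by decide
    exact key d hle ⟨h1, h2, h3, h4', h5⟩
  · obtain ⟨d, h1, h2, h3, h4, h5⟩ := SimpleSmall.sylow_count (G := G) 19 1 34 (by norm_num) (hn.trans (by norm_num)) (by norm_num) (by norm_num) (by norm_num)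
    have hle : d ≤ 34 := Nat.le_of_dvd (by norm_num) h1
    have h4' : d ≤ 20 → 19 ^ 1 * 34 ∣ d.factorial := fun _ => h4
    have key : ∀ d ≤ 34, ¬ (d ∣ 34 ∧ d % 19 = 1 ∧ d ≠ 1 ∧ (d ≤ 20 → 19 ^ 1 * 34 ∣ d.factorial) ∧ (1 = 1 → ¬ Nat.Coprime (19 ^ 1 * 34 / d) (19 - 1))) := by decide
    exact key d hle ⟨h1, h2, h3, h4', h5⟩
  · exact false_of_prime_pow hG 647 1 (by norm_num) (hn.trans (by norm_num))
  · exact false_of_two_primes hG 2 3 3 4 (by norm_num) (by norm_num) (hn.trans (by norm_num))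
  · exact false_of_two_primes hG 11 59 1 1 (by norm_num) (by norm_num) (hn.trans (by norm_num))
  · obtain ⟨d, h1, h2, h3, h4, h5⟩ := SimpleSmall.sylow_count (G := G) 13 1 50 (by norm_num) (hn.trans (by norm_num)) (by norm_num) (by norm_num) (by norm_num)
    have hle : d ≤ 50 := Nat.le_of_dvd (by norm_num) h1
    have h4' : d ≤ 20 → 13 ^ 1 * 50 ∣ d.factorial := fun _ => h4
    have key : ∀ d ≤ 50, ¬ (d ∣ 50 ∧ d % 13 = 1 ∧ d ≠ 1 ∧ (d ≤ 20 → 13 ^ 1 * 50 ∣ d.factorial) ∧ (1 = 1 → ¬ Nat.Coprime (13 ^ 1 * 50 / d) (13 - 1))) := by decide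
    exact key d hle ⟨h1, h2, h3, h4', h5⟩
  · obtain ⟨d, h1, h2, h3, h4, h5⟩ := SimpleSmall.sylow_count (G := G) 31 1 21 (by norm_num) (hn.trans (by norm_num)) (by norm_num) (by norm_num) (by norm_num)
    have hle : d ≤ 21 := Nat.le_of_dvd (by norm_num) h1
    have h4' : d ≤ 20 → 31 ^ 1 * 21 ∣ d.factorial := fun _ => h4
    have key : ∀ d ≤ 21, ¬ (d ∣ 21 ∧ d % 31 = 1 ∧ d ≠ 1 ∧ (d ≤ 20 → 31 ^ 1 * 21 ∣ d.factorial) ∧ (1 = 1 → ¬ Nat.Coprime (31 ^ 1 * 21 / d) (31 - 1))) := by decide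
    exact key d hle ⟨h1, h2, h3, h4', h5⟩
  · exact false_of_two_primes hG 2 163 2 1 (by norm_num) (by norm_num) (hn.trans (by norm_num))
  · exact false_of_prime_pow hG 653 1 (by norm_num) (hn.trans (by norm_num))
  · obtain ⟨d, h1, h2, h3, h4, h5⟩ := SimpleSmall.sylow_count (G := G) 109 1 6 (by norm_num) (hn.trans (by norm_num)) (by norm_num) (by norm_num) (by norm_num)
    have hle : d ≤ 6 := Nat.le_of_dvd (by norm_num) h1
    have h4' : d ≤ 20 → 109 ^ 1 * 6 ∣ d.factorial := fun _ => h4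
    have key : ∀ d ≤ 6, ¬ (d ∣ 6 ∧ d % 109 = 1 ∧ d ≠ 1 ∧ (d ≤ 20 → 109 ^ 1 * 6 ∣ d.factorial) ∧ (1 = 1 → ¬ Nat.Coprime (109 ^ 1 * 6 / d) (109 - 1))) := by decide
    exact key d hle ⟨h1, h2, h3, h4', h5⟩
  · exact false_of_two_primes hG 5 131 1 1 (by norm_num) (by norm_num) (hn.trans (by norm_num))
  · exact false_of_two_primes hG 2 41 4 1 (by norm_num) (by norm_num) (hn.trans (by norm_num))
  · exact false_of_two_primes hG 3 73 2 1 (by norm_num) (by norm_num) (hn.trans (by norm_num))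
  · obtain ⟨d, h1, h2, h3, h4, h5⟩ := SimpleSmall.sylow_count (G := G) 47 1 14 (by norm_num) (hn.trans (by norm_num)) (by norm_num) (by norm_num) (by norm_num)
    have hle : d ≤ 14 := Nat.le_of_dvd (by norm_num) h1
    have h4' : d ≤ 20 → 47 ^ 1 * 14 ∣ d.factorial := fun _ => h4
    have key : ∀ d ≤ 14, ¬ (d ∣ 14 ∧ d % 47 = 1 ∧ d ≠ 1 ∧ (d ≤ 20 → 47 ^ 1 * 14 ∣ d.factorial) ∧ (1 = 1 → ¬ Nat.Coprime (47 ^ 1 * 14 / d) (47 - 1))) := by decide
    exact key d hle ⟨h1, h2, h3, h4', h5⟩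
  · exact false_of_prime_pow hG 659 1 (by norm_num) (hn.trans (by norm_num))
  · exact absurd rfl h660
  · exact false_of_prime_pow hG 661 1 (by norm_num) (hn.trans (by norm_num))
  · exact false_of_two_primes hG 2 331 1 1 (by norm_num) (by norm_num) (hn.trans (by norm_num))
  · obtain ⟨d, h1, h2, h3, h4, h5⟩ := SimpleSmall.sylow_count (G := G) 17 1 39 (by norm_num) (hn.trans (by norm_num)) (by norm_num) (by norm_num) (by norm_num)
    have hle : d ≤ 39 := Nat.le_of_dvd (by norm_num) h1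
    have h4' : d ≤ 20 → 17 ^ 1 * 39 ∣ d.factorial := fun _ => h4
    have key : ∀ d ≤ 39, ¬ (d ∣ 39 ∧ d % 17 = 1 ∧ d ≠ 1 ∧ (d ≤ 20 → 17 ^ 1 * 39 ∣ d.factorial) ∧ (1 = 1 → ¬ Nat.Coprime (17 ^ 1 * 39 / d) (17 - 1))) := by decide
    exact key d hle ⟨h1, h2, h3, h4', h5⟩
  · exact false_of_two_primes hG 2 83 3 1 (by norm_num) (by norm_num) (hn.trans (by norm_num))
  · obtain ⟨d, h1, h2, h3, h4, h5⟩ := SimpleSmall.sylow_count (G := G) 19 1 35 (by norm_num) (hn.trans (by norm_num)) (by norm_num) (by norm_num) (by norm_num)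
    have hle : d ≤ 35 := Nat.le_of_dvd (by norm_num) h1
    have h4' : d ≤ 20 → 19 ^ 1 * 35 ∣ d.factorial := fun _ => h4
    have key : ∀ d ≤ 35, ¬ (d ∣ 35 ∧ d % 19 = 1 ∧ d ≠ 1 ∧ (d ≤ 20 → 19 ^ 1 * 35 ∣ d.factorial) ∧ (1 = 1 → ¬ Nat.Coprime (19 ^ 1 * 35 / d) (19 - 1))) := by decide
    exact key d hle ⟨h1, h2, h3, h4', h5⟩
  · obtain ⟨d, h1, h2, h3, h4, h5⟩ := SimpleSmall.sylow_count (G := G) 37 1 18 (by norm_num) (hn.trans (by norm_num)) (by norm_num) (by norm_num) (by norm_num)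
    have hle : d ≤ 18 := Nat.le_of_dvd (by norm_num) h1
    have h4' : d ≤ 20 → 37 ^ 1 * 18 ∣ d.factorial := fun _ => h4
    have key : ∀ d ≤ 18, ¬ (d ∣ 18 ∧ d % 37 = 1 ∧ d ≠ 1 ∧ (d ≤ 20 → 37 ^ 1 * 18 ∣ d.factorial) ∧ (1 = 1 → ¬ Nat.Coprime (37 ^ 1 * 18 / d) (37 - 1))) := by decide
    exact key d hle ⟨h1, h2, h3, h4', h5⟩
  · exact false_of_two_primes hG 23 29 1 1 (by norm_num) (by norm_num) (hn.trans (by norm_num))
  · exact false_of_two_primes hG 2 167 2 1 (by norm_num) (by norm_num) (hn.trans (by norm_num))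
  · exact false_of_two_primes hG 3 223 1 1 (by norm_num) (by norm_num) (hn.trans (by norm_num))
  · obtain ⟨d, h1, h2, h3, h4, h5⟩ := SimpleSmall.sylow_count (G := G) 67 1 10 (by norm_num) (hn.trans (by norm_num)) (by norm_num) (by norm_num) (by norm_num)
    have hle : d ≤ 10 := Nat.le_of_dvd (by norm_num) h1
    have h4' : d ≤ 20 → 67 ^ 1 * 10 ∣ d.factorial := fun _ => h4
    have key : ∀ d ≤ 10, ¬ (d ∣ 10 ∧ d % 67 = 1 ∧ d ≠ 1 ∧ (d ≤ 20 → 67 ^ 1 * 10 ∣ d.factorial) ∧ (1 = 1 → ¬ Nat.Coprime (67 ^ 1 * 10 / d) (67 - 1))) := by decide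
    exact key d hle ⟨h1, h2, h3, h4', h5⟩
  · exact false_of_two_primes hG 11 61 1 1 (by norm_num) (by norm_num) (hn.trans (by norm_num))
  · have : Fact (Nat.Prime 7) := ⟨by norm_num⟩
    obtain ⟨d, -, h1, h2, h3, h4, h5, h6, h7, h8, h9⟩ := sylow_count3 (G := G) hG 7 1 96 (hn.trans (by norm_num)) (by norm_num) (by norm_num) (by norm_num)
    have hle : d ≤ 96 := Nat.le_of_dvd (by norm_num) h1
    have h4' : d ≤ 20 → 7 ^ 1 * 96 ∣ d.factorial := fun _ => h4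
    clear h4
    interval_cases d <;> revert h1 h2 h3 h4' h5 h6 <;> decide
  · exact false_of_prime_pow hG 673 1 (by norm_num) (hn.trans (by norm_num))
  · exact false_of_two_primes hG 2 337 1 1 (by norm_num) (by norm_num) (hn.trans (by norm_num))
  · exact false_of_two_primes hG 3 5 3 2 (by norm_num) (by norm_num) (hn.trans (by norm_num))
  · exact false_of_two_primes hG 2 13 2 2 (by norm_num) (by norm_num) (hn.trans (by norm_num))
  · exact false_of_prime_pow hG 677 1 (by norm_num) (hn.trans (by norm_num))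
  · obtain ⟨d, h1, h2, h3, h4, h5⟩ := SimpleSmall.sylow_count (G := G) 113 1 6 (by norm_num) (hn.trans (by norm_num)) (by norm_num) (by norm_num) (by norm_num)
    have hle : d ≤ 6 := Nat.le_of_dvd (by norm_num) h1
    have h4' : d ≤ 20 → 113 ^ 1 * 6 ∣ d.factorial := fun _ => h4
    have key : ∀ d ≤ 6, ¬ (d ∣ 6 ∧ d % 113 = 1 ∧ d ≠ 1 ∧ (d ≤ 20 → 113 ^ 1 * 6 ∣ d.factorial) ∧ (1 = 1 → ¬ Nat.Coprime (113 ^ 1 * 6 / d) (113 - 1))) := by decide
    exact key d hle ⟨h1, h2, h3, h4', h5⟩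
  · exact false_of_two_primes hG 7 97 1 1 (by norm_num) (by norm_num) (hn.trans (by norm_num))
  · obtain ⟨d, h1, h2, h3, h4, h5⟩ := SimpleSmall.sylow_count (G := G) 17 1 40 (by norm_num) (hn.trans (by norm_num)) (by norm_num) (by norm_num) (by norm_num)
    have hle : d ≤ 40 := Nat.le_of_dvd (by norm_num) h1
    have h4' : d ≤ 20 → 17 ^ 1 * 40 ∣ d.factorial := fun _ => h4
    have key : ∀ d ≤ 40, ¬ (d ∣ 40 ∧ d % 17 = 1 ∧ d ≠ 1 ∧ (d ≤ 20 → 17 ^ 1 * 40 ∣ d.factorial) ∧ (1 = 1 → ¬ Nat.Coprime (17 ^ 1 * 40 / d) (17 - 1))) := by decide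
    exact key d hle ⟨h1, h2, h3, h4', h5⟩
  · exact false_of_two_primes hG 3 227 1 1 (by norm_num) (by norm_num) (hn.trans (by norm_num))
  · obtain ⟨d, h1, h2, h3, h4, h5⟩ := SimpleSmall.sylow_count (G := G) 31 1 22 (by norm_num) (hn.trans (by norm_num)) (by norm_num) (by norm_num) (by norm_num)
    have hle : d ≤ 22 := Nat.le_of_dvd (by norm_num) h1
    have h4' : d ≤ 20 → 31 ^ 1 * 22 ∣ d.factorial := fun _ => h4
    have key : ∀ d ≤ 22, ¬ (d ∣ 22 ∧ d % 31 = 1 ∧ d ≠ 1 ∧ (d ≤ 20 → 31 ^ 1 * 22 ∣ d.factorial) ∧ (1 = 1 → ¬ Nat.Coprime (31 ^ 1 * 22 / d) (31 - 1))) := by decide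
    exact key d hle ⟨h1, h2, h3, h4', h5⟩
  · exact false_of_prime_pow hG 683 1 (by norm_num) (hn.trans (by norm_num))
  · obtain ⟨d, h1, h2, h3, h4, h5⟩ := SimpleSmall.sylow_count (G := G) 19 1 36 (by norm_num) (hn.trans (by norm_num)) (by norm_num) (by norm_num) (by norm_num)
    have hle : d ≤ 36 := Nat.le_of_dvd (by norm_num) h1
    have h4' : d ≤ 20 → 19 ^ 1 * 36 ∣ d.factorial := fun _ => h4
    have key : ∀ d ≤ 36, ¬ (d ∣ 36 ∧ d % 19 = 1 ∧ d ≠ 1 ∧ (d ≤ 20 → 19 ^ 1 * 36 ∣ d.factorial) ∧ (1 = 1 → ¬ Nat.Coprime (19 ^ 1 * 36 / d) (19 - 1))) := by decide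
    exact key d hle ⟨h1, h2, h3, h4', h5⟩
  · exact false_of_two_primes hG 5 137 1 1 (by norm_num) (by norm_num) (hn.trans (by norm_num))
  · exact false_of_two_primes hG 2 7 1 3 (by norm_num) (by norm_num) (hn.trans (by norm_num))
  · exact false_of_two_primes hG 3 229 1 1 (by norm_num) (by norm_num) (hn.trans (by norm_num))
  · exact false_of_two_primes hG 2 43 4 1 (by norm_num) (by norm_num) (hn.trans (by norm_num))
  · exact false_of_two_primes hG 13 53 1 1 (by norm_num) (by norm_num) (hn.trans (by norm_num))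
  · obtain ⟨d, h1, h2, h3, h4, h5⟩ := SimpleSmall.sylow_count (G := G) 23 1 30 (by norm_num) (hn.trans (by norm_num)) (by norm_num) (by norm_num) (by norm_num)
    have hle : d ≤ 30 := Nat.le_of_dvd (by norm_num) h1
    have h4' : d ≤ 20 → 23 ^ 1 * 30 ∣ d.factorial := fun _ => h4
    have key : ∀ d ≤ 30, ¬ (d ∣ 30 ∧ d % 23 = 1 ∧ d ≠ 1 ∧ (d ≤ 20 → 23 ^ 1 * 30 ∣ d.factorial) ∧ (1 = 1 → ¬ Nat.Coprime (23 ^ 1 * 30 / d) (23 - 1))) := by decide
    exact key d hle ⟨h1, h2, h3, h4', h5⟩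
  · exact false_of_prime_pow hG 691 1 (by norm_num) (hn.trans (by norm_num))
  · exact false_of_two_primes hG 2 173 2 1 (by norm_num) (by norm_num) (hn.trans (by norm_num))
  · obtain ⟨d, h1, h2, h3, h4, h5⟩ := SimpleSmall.sylow_count (G := G) 11 1 63 (by norm_num) (hn.trans (by norm_num)) (by norm_num) (by norm_num) (by norm_num)
    have hle : d ≤ 63 := Nat.le_of_dvd (by norm_num) h1
    have h4' : d ≤ 20 → 11 ^ 1 * 63 ∣ d.factorial := fun _ => h4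
    have key : ∀ d ≤ 63, ¬ (d ∣ 63 ∧ d % 11 = 1 ∧ d ≠ 1 ∧ (d ≤ 20 → 11 ^ 1 * 63 ∣ d.factorial) ∧ (1 = 1 → ¬ Nat.Coprime (11 ^ 1 * 63 / d) (11 - 1))) := by decide
    exact key d hle ⟨h1, h2, h3, h4', h5⟩
  · exact false_of_two_primes hG 2 347 1 1 (by norm_num) (by norm_num) (hn.trans (by norm_num))
  · exact false_of_two_primes hG 5 139 1 1 (by norm_num) (by norm_num) (hn.trans (by norm_num))
  · obtain ⟨d, h1, h2, h3, h4, h5⟩ := SimpleSmall.sylow_count (G := G) 29 1 24 (by norm_num) (hn.trans (by norm_num)) (by norm_num) (by norm_num) (by norm_num)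
    have hle : d ≤ 24 := Nat.le_of_dvd (by norm_num) h1
    have h4' : d ≤ 20 → 29 ^ 1 * 24 ∣ d.factorial := fun _ => h4
    have key : ∀ d ≤ 24, ¬ (d ∣ 24 ∧ d % 29 = 1 ∧ d ≠ 1 ∧ (d ≤ 20 → 29 ^ 1 * 24 ∣ d.factorial) ∧ (1 = 1 → ¬ Nat.Coprime (29 ^ 1 * 24 / d) (29 - 1))) := by decide
    exact key d hle ⟨h1, h2, h3, h4', h5⟩
  · exact false_of_two_primes hG 17 41 1 1 (by norm_num) (by norm_num) (hn.trans (by norm_num))
  · exact false_of_two_primes hG 2 349 1 1 (by norm_num) (by norm_num) (hn.trans (by norm_num))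
  · exact false_of_two_primes hG 3 233 1 1 (by norm_num) (by norm_num) (hn.trans (by norm_num))
  · obtain ⟨d, h1, h2, h3, h4, h5⟩ := SimpleSmall.sylow_count (G := G) 5 2 28 (by norm_num) (hn.trans (by norm_num)) (by norm_num) (by norm_num) (by norm_num)
    have hle : d ≤ 28 := Nat.le_of_dvd (by norm_num) h1
    have h4' : d ≤ 20 → 5 ^ 2 * 28 ∣ d.factorial := fun _ => h4
    have key : ∀ d ≤ 28, ¬ (d ∣ 28 ∧ d % 5 = 1 ∧ d ≠ 1 ∧ (d ≤ 20 → 5 ^ 2 * 28 ∣ d.factorial) ∧ (2 = 1 → ¬ Nat.Coprime (5 ^ 2 * 28 / d) (5 - 1))) := by decide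
    exact key d hle ⟨h1, h2, h3, h4', h5⟩
  · exact false_of_prime_pow hG 701 1 (by norm_num) (hn.trans (by norm_num))
  · obtain ⟨d, h1, h2, h3, h4, h5⟩ := SimpleSmall.sylow_count (G := G) 2 1 351 (by norm_num) (hn.trans (by norm_num)) (by norm_num) (by norm_num) (by norm_num)
    exact h5 rfl (by simp)
  · exact false_of_two_primes hG 19 37 1 1 (by norm_num) (by norm_num) (hn.trans (by norm_num))
  · exact false_of_two_primes hG 2 11 6 1 (by norm_num) (by norm_num) (hn.trans (by norm_num))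
  · obtain ⟨d, h1, h2, h3, h4, h5⟩ := SimpleSmall.sylow_count (G := G) 47 1 15 (by norm_num) (hn.trans (by norm_num)) (by norm_num) (by norm_num) (by norm_num)
    have hle : d ≤ 15 := Nat.le_of_dvd (by norm_num) h1
    have h4' : d ≤ 20 → 47 ^ 1 * 15 ∣ d.factorial := fun _ => h4
    have key : ∀ d ≤ 15, ¬ (d ∣ 15 ∧ d % 47 = 1 ∧ d ≠ 1 ∧ (d ≤ 20 → 47 ^ 1 * 15 ∣ d.factorial) ∧ (1 = 1 → ¬ Nat.Coprime (47 ^ 1 * 15 / d) (47 - 1))) := by decide
    exact key d hle ⟨h1, h2, h3, h4', h5⟩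
  · exact false_of_two_primes hG 2 353 1 1 (by norm_num) (by norm_num) (hn.trans (by norm_num))
  · exact false_of_two_primes hG 7 101 1 1 (by norm_num) (by norm_num) (hn.trans (by norm_num))
  · obtain ⟨d, h1, h2, h3, h4, h5⟩ := SimpleSmall.sylow_count (G := G) 59 1 12 (by norm_num) (hn.trans (by norm_num)) (by norm_num) (by norm_num) (by norm_num)
    have hle : d ≤ 12 := Nat.le_of_dvd (by norm_num) h1
    have h4' : d ≤ 20 → 59 ^ 1 * 12 ∣ d.factorial := fun _ => h4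
    have key : ∀ d ≤ 12, ¬ (d ∣ 12 ∧ d % 59 = 1 ∧ d ≠ 1 ∧ (d ≤ 20 → 59 ^ 1 * 12 ∣ d.factorial) ∧ (1 = 1 → ¬ Nat.Coprime (59 ^ 1 * 12 / d) (59 - 1))) := by decide
    exact key d hle ⟨h1, h2, h3, h4', h5⟩
  · exact false_of_prime_pow hG 709 1 (by norm_num) (hn.trans (by norm_num))
  · obtain ⟨d, h1, h2, h3, h4, h5⟩ := SimpleSmall.sylow_count (G := G) 71 1 10 (by norm_num) (hn.trans (by norm_num)) (by norm_num) (by norm_num) (by norm_num)
    have hle : d ≤ 10 := Nat.le_of_dvd (by norm_num) h1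
    have h4' : d ≤ 20 → 71 ^ 1 * 10 ∣ d.factorial := fun _ => h4
    have key : ∀ d ≤ 10, ¬ (d ∣ 10 ∧ d % 71 = 1 ∧ d ≠ 1 ∧ (d ≤ 20 → 71 ^ 1 * 10 ∣ d.factorial) ∧ (1 = 1 → ¬ Nat.Coprime (71 ^ 1 * 10 / d) (71 - 1))) := by decide
    exact key d hle ⟨h1, h2, h3, h4', h5⟩
  · exact false_of_two_primes hG 3 79 2 1 (by norm_num) (by norm_num) (hn.trans (by norm_num))
  · exact false_of_two_primes hG 2 89 3 1 (by norm_num) (by norm_num) (hn.trans (by norm_num))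
  · exact false_of_two_primes hG 23 31 1 1 (by norm_num) (by norm_num) (hn.trans (by norm_num))
  · obtain ⟨d, h1, h2, h3, h4, h5⟩ := SimpleSmall.sylow_count (G := G) 17 1 42 (by norm_num) (hn.trans (by norm_num)) (by norm_num) (by norm_num) (by norm_num)
    have hle : d ≤ 42 := Nat.le_of_dvd (by norm_num) h1
    have h4' : d ≤ 20 → 17 ^ 1 * 42 ∣ d.factorial := fun _ => h4
    have key : ∀ d ≤ 42, ¬ (d ∣ 42 ∧ d % 17 = 1 ∧ d ≠ 1 ∧ (d ≤ 20 → 17 ^ 1 * 42 ∣ d.factorial) ∧ (1 = 1 → ¬ Nat.Coprime (17 ^ 1 * 42 / d) (17 - 1))) := by decide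
    exact key d hle ⟨h1, h2, h3, h4', h5⟩
  · obtain ⟨d, h1, h2, h3, h4, h5⟩ := SimpleSmall.sylow_count (G := G) 13 1 55 (by norm_num) (hn.trans (by norm_num)) (by norm_num) (by norm_num) (by norm_num)
    have hle : d ≤ 55 := Nat.le_of_dvd (by norm_num) h1
    have h4' : d ≤ 20 → 13 ^ 1 * 55 ∣ d.factorial := fun _ => h4
    have key : ∀ d ≤ 55, ¬ (d ∣ 55 ∧ d % 13 = 1 ∧ d ≠ 1 ∧ (d ≤ 20 → 13 ^ 1 * 55 ∣ d.factorial) ∧ (1 = 1 → ¬ Nat.Coprime (13 ^ 1 * 55 / d) (13 - 1))) := by decide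
    exact key d hle ⟨h1, h2, h3, h4', h5⟩
  · exact false_of_two_primes hG 2 179 2 1 (by norm_num) (by norm_num) (hn.trans (by norm_num))
  · exact false_of_two_primes hG 3 239 1 1 (by norm_num) (by norm_num) (hn.trans (by norm_num))
  · exact false_of_two_primes hG 2 359 1 1 (by norm_num) (by norm_num) (hn.trans (by norm_num))
  · exact false_of_prime_pow hG 719 1 (by norm_num) (hn.trans (by norm_num))
  · exact absurd rfl h720
  · exact false_of_two_primes hG 7 103 1 1 (by norm_num) (by norm_num) (hn.trans (by norm_num))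
  · exact false_of_two_primes hG 2 19 1 2 (by norm_num) (by norm_num) (hn.trans (by norm_num))
  · exact false_of_two_primes hG 3 241 1 1 (by norm_num) (by norm_num) (hn.trans (by norm_num))
  · exact false_of_two_primes hG 2 181 2 1 (by norm_num) (by norm_num) (hn.trans (by norm_num))
  · exact false_of_two_primes hG 5 29 2 1 (by norm_num) (by norm_num) (hn.trans (by norm_num))
  · obtain ⟨d, h1, h2, h3, h4, h5⟩ := SimpleSmall.sylow_count (G := G) 11 2 6 (by norm_num) (hn.trans (by norm_num)) (by norm_num) (by norm_num) (by norm_num)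
    have hle : d ≤ 6 := Nat.le_of_dvd (by norm_num) h1
    have h4' : d ≤ 20 → 11 ^ 2 * 6 ∣ d.factorial := fun _ => h4
    have key : ∀ d ≤ 6, ¬ (d ∣ 6 ∧ d % 11 = 1 ∧ d ≠ 1 ∧ (d ≤ 20 → 11 ^ 2 * 6 ∣ d.factorial) ∧ (2 = 1 → ¬ Nat.Coprime (11 ^ 2 * 6 / d) (11 - 1))) := by decide
    exact key d hle ⟨h1, h2, h3, h4', h5⟩
  · exact false_of_prime_pow hG 727 1 (by norm_num) (hn.trans (by norm_num))
  · obtain ⟨d, h1, h2, h3, h4, h5⟩ := SimpleSmall.sylow_count (G := G) 7 1 104 (by norm_num) (hn.trans (by norm_num)) (by norm_num) (by norm_num) (by norm_num)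
    have hle : d ≤ 104 := Nat.le_of_dvd (by norm_num) h1
    have h4' : d ≤ 20 → 7 ^ 1 * 104 ∣ d.factorial := fun _ => h4
    have key : ∀ d ≤ 104, ¬ (d ∣ 104 ∧ d % 7 = 1 ∧ d ≠ 1 ∧ (d ≤ 20 → 7 ^ 1 * 104 ∣ d.factorial) ∧ (1 = 1 → ¬ Nat.Coprime (7 ^ 1 * 104 / d) (7 - 1))) := by decide
    exact key d hle ⟨h1, h2, h3, h4', h5⟩
  · exact false_of_prime_pow hG 3 6 (by norm_num) (hn.trans (by norm_num))
  · obtain ⟨d, h1, h2, h3, h4, h5⟩ := SimpleSmall.sylow_count (G := G) 73 1 10 (by norm_num) (hn.trans (by norm_num)) (by norm_num) (by norm_num) (by norm_num)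
    have hle : d ≤ 10 := Nat.le_of_dvd (by norm_num) h1
    have h4' : d ≤ 20 → 73 ^ 1 * 10 ∣ d.factorial := fun _ => h4
    have key : ∀ d ≤ 10, ¬ (d ∣ 10 ∧ d % 73 = 1 ∧ d ≠ 1 ∧ (d ≤ 20 → 73 ^ 1 * 10 ∣ d.factorial) ∧ (1 = 1 → ¬ Nat.Coprime (73 ^ 1 * 10 / d) (73 - 1))) := by decide
    exact key d hle ⟨h1, h2, h3, h4', h5⟩
  · exact false_of_two_primes hG 17 43 1 1 (by norm_num) (by norm_num) (hn.trans (by norm_num))
  · obtain ⟨d, h1, h2, h3, h4, h5⟩ := SimpleSmall.sylow_count (G := G) 61 1 12 (by norm_num) (hn.trans (by norm_num)) (by norm_num) (by norm_num) (by norm_num)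
    have hle : d ≤ 12 := Nat.le_of_dvd (by norm_num) h1
    have h4' : d ≤ 20 → 61 ^ 1 * 12 ∣ d.factorial := fun _ => h4
    have key : ∀ d ≤ 12, ¬ (d ∣ 12 ∧ d % 61 = 1 ∧ d ≠ 1 ∧ (d ≤ 20 → 61 ^ 1 * 12 ∣ d.factorial) ∧ (1 = 1 → ¬ Nat.Coprime (61 ^ 1 * 12 / d) (61 - 1))) := by decide
    exact key d hle ⟨h1, h2, h3, h4', h5⟩
  · exact false_of_prime_pow hG 733 1 (by norm_num) (hn.trans (by norm_num))
  · exact false_of_two_primes hG 2 367 1 1 (by norm_num) (by norm_num) (hn.trans (by norm_num))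
  · obtain ⟨d, h1, h2, h3, h4, h5⟩ := SimpleSmall.sylow_count (G := G) 5 1 147 (by norm_num) (hn.trans (by norm_num)) (by norm_num) (by norm_num) (by norm_num)
    have hle : d ≤ 147 := Nat.le_of_dvd (by norm_num) h1
    have h4' : d ≤ 20 → 5 ^ 1 * 147 ∣ d.factorial := fun _ => h4
    have key : ∀ d ≤ 147, ¬ (d ∣ 147 ∧ d % 5 = 1 ∧ d ≠ 1 ∧ (d ≤ 20 → 5 ^ 1 * 147 ∣ d.factorial) ∧ (1 = 1 → ¬ Nat.Coprime (5 ^ 1 * 147 / d) (5 - 1))) := by decide
    exact key d hle ⟨h1, h2, h3, h4', h5⟩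
  · exact false_of_two_primes hG 2 23 5 1 (by norm_num) (by norm_num) (hn.trans (by norm_num))
  · exact false_of_two_primes hG 11 67 1 1 (by norm_num) (by norm_num) (hn.trans (by norm_num))
  · obtain ⟨d, h1, h2, h3, h4, h5⟩ := SimpleSmall.sylow_count (G := G) 41 1 18 (by norm_num) (hn.trans (by norm_num)) (by norm_num) (by norm_num) (by norm_num)
    have hle : d ≤ 18 := Nat.le_of_dvd (by norm_num) h1
    have h4' : d ≤ 20 → 41 ^ 1 * 18 ∣ d.factorial := fun _ => h4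
    have key : ∀ d ≤ 18, ¬ (d ∣ 18 ∧ d % 41 = 1 ∧ d ≠ 1 ∧ (d ≤ 20 → 41 ^ 1 * 18 ∣ d.factorial) ∧ (1 = 1 → ¬ Nat.Coprime (41 ^ 1 * 18 / d) (41 - 1))) := by decide
    exact key d hle ⟨h1, h2, h3, h4', h5⟩
  · exact false_of_prime_pow hG 739 1 (by norm_num) (hn.trans (by norm_num))
  · obtain ⟨d, h1, h2, h3, h4, h5⟩ := SimpleSmall.sylow_count (G := G) 37 1 20 (by norm_num) (hn.trans (by norm_num)) (by norm_num) (by norm_num) (by norm_num)
    have hle : d ≤ 20 := Nat.le_of_dvd (by norm_num) h1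
    have h4' : d ≤ 20 → 37 ^ 1 * 20 ∣ d.factorial := fun _ => h4
    have key : ∀ d ≤ 20, ¬ (d ∣ 20 ∧ d % 37 = 1 ∧ d ≠ 1 ∧ (d ≤ 20 → 37 ^ 1 * 20 ∣ d.factorial) ∧ (1 = 1 → ¬ Nat.Coprime (37 ^ 1 * 20 / d) (37 - 1))) := by decide
    exact key d hle ⟨h1, h2, h3, h4', h5⟩
  · obtain ⟨d, h1, h2, h3, h4, h5⟩ := SimpleSmall.sylow_count (G := G) 19 1 39 (by norm_num) (hn.trans (by norm_num)) (by norm_num) (by norm_num) (by norm_num)
    have hle : d ≤ 39 := Nat.le_of_dvd (by norm_num) h1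
    have h4' : d ≤ 20 → 19 ^ 1 * 39 ∣ d.factorial := fun _ => h4
    have key : ∀ d ≤ 39, ¬ (d ∣ 39 ∧ d % 19 = 1 ∧ d ≠ 1 ∧ (d ≤ 20 → 19 ^ 1 * 39 ∣ d.factorial) ∧ (1 = 1 → ¬ Nat.Coprime (19 ^ 1 * 39 / d) (19 - 1))) := by decide
    exact key d hle ⟨h1, h2, h3, h4', h5⟩
  · obtain ⟨d, h1, h2, h3, h4, h5⟩ := SimpleSmall.sylow_count (G := G) 53 1 14 (by norm_num) (hn.trans (by norm_num)) (by norm_num) (by norm_num) (by norm_num)
    have hle : d ≤ 14 := Nat.le_of_dvd (by norm_num) h1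
    have h4' : d ≤ 20 → 53 ^ 1 * 14 ∣ d.factorial := fun _ => h4
    have key : ∀ d ≤ 14, ¬ (d ∣ 14 ∧ d % 53 = 1 ∧ d ≠ 1 ∧ (d ≤ 20 → 53 ^ 1 * 14 ∣ d.factorial) ∧ (1 = 1 → ¬ Nat.Coprime (53 ^ 1 * 14 / d) (53 - 1))) := by decide
    exact key d hle ⟨h1, h2, h3, h4', h5⟩
  · exact false_of_prime_pow hG 743 1 (by norm_num) (hn.trans (by norm_num))
  · obtain ⟨d, h1, h2, h3, h4, h5⟩ := SimpleSmall.sylow_count (G := G) 31 1 24 (by norm_num) (hn.trans (by norm_num)) (by norm_num) (by norm_num) (by norm_num)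
    have hle : d ≤ 24 := Nat.le_of_dvd (by norm_num) h1
    have h4' : d ≤ 20 → 31 ^ 1 * 24 ∣ d.factorial := fun _ => h4
    have key : ∀ d ≤ 24, ¬ (d ∣ 24 ∧ d % 31 = 1 ∧ d ≠ 1 ∧ (d ≤ 20 → 31 ^ 1 * 24 ∣ d.factorial) ∧ (1 = 1 → ¬ Nat.Coprime (31 ^ 1 * 24 / d) (31 - 1))) := by decide
    exact key d hle ⟨h1, h2, h3, h4', h5⟩
  · exact false_of_two_primes hG 5 149 1 1 (by norm_num) (by norm_num) (hn.trans (by norm_num))
  · exact false_of_two_primes hG 2 373 1 1 (by norm_num) (by norm_num) (hn.trans (by norm_num))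
  · exact false_of_two_primes hG 3 83 2 1 (by norm_num) (by norm_num) (hn.trans (by norm_num))
  · obtain ⟨d, h1, h2, h3, h4, h5⟩ := SimpleSmall.sylow_count (G := G) 17 1 44 (by norm_num) (hn.trans (by norm_num)) (by norm_num) (by norm_num) (by norm_num)
    have hle : d ≤ 44 := Nat.le_of_dvd (by norm_num) h1
    have h4' : d ≤ 20 → 17 ^ 1 * 44 ∣ d.factorial := fun _ => h4
    have key : ∀ d ≤ 44, ¬ (d ∣ 44 ∧ d % 17 = 1 ∧ d ≠ 1 ∧ (d ≤ 20 → 17 ^ 1 * 44 ∣ d.factorial) ∧ (1 = 1 → ¬ Nat.Coprime (17 ^ 1 * 44 / d) (17 - 1))) := by decide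
    exact key d hle ⟨h1, h2, h3, h4', h5⟩
  · exact false_of_two_primes hG 7 107 1 1 (by norm_num) (by norm_num) (hn.trans (by norm_num))
  · obtain ⟨d, h1, h2, h3, h4, h5⟩ := SimpleSmall.sylow_count (G := G) 5 3 6 (by norm_num) (hn.trans (by norm_num)) (by norm_num) (by norm_num) (by norm_num)
    have hle : d ≤ 6 := Nat.le_of_dvd (by norm_num) h1
    have h4' : d ≤ 20 → 5 ^ 3 * 6 ∣ d.factorial := fun _ => h4
    have key : ∀ d ≤ 6, ¬ (d ∣ 6 ∧ d % 5 = 1 ∧ d ≠ 1 ∧ (d ≤ 20 → 5 ^ 3 * 6 ∣ d.factorial) ∧ (3 = 1 → ¬ Nat.Coprime (5 ^ 3 * 6 / d) (5 - 1))) := by decide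
    exact key d hle ⟨h1, h2, h3, h4', h5⟩
  · exact false_of_prime_pow hG 751 1 (by norm_num) (hn.trans (by norm_num))
  · exact false_of_two_primes hG 2 47 4 1 (by norm_num) (by norm_num) (hn.trans (by norm_num))
  · exact false_of_two_primes hG 3 251 1 1 (by norm_num) (by norm_num) (hn.trans (by norm_num))
  · obtain ⟨d, h1, h2, h3, h4, h5⟩ := SimpleSmall.sylow_count (G := G) 29 1 26 (by norm_num) (hn.trans (by norm_num)) (by norm_num) (by norm_num) (by norm_num)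
    have hle : d ≤ 26 := Nat.le_of_dvd (by norm_num) h1
    have h4' : d ≤ 20 → 29 ^ 1 * 26 ∣ d.factorial := fun _ => h4
    have key : ∀ d ≤ 26, ¬ (d ∣ 26 ∧ d % 29 = 1 ∧ d ≠ 1 ∧ (d ≤ 20 → 29 ^ 1 * 26 ∣ d.factorial) ∧ (1 = 1 → ¬ Nat.Coprime (29 ^ 1 * 26 / d) (29 - 1))) := by decide
    exact key d hle ⟨h1, h2, h3, h4', h5⟩
  · exact false_of_two_primes hG 5 151 1 1 (by norm_num) (by norm_num) (hn.trans (by norm_num))
  · exact absurd rfl h756
  · exact false_of_prime_pow hG 757 1 (by norm_num) (hn.trans (by norm_num))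
  · exact false_of_two_primes hG 2 379 1 1 (by norm_num) (by norm_num) (hn.trans (by norm_num))
  · obtain ⟨d, h1, h2, h3, h4, h5⟩ := SimpleSmall.sylow_count (G := G) 23 1 33 (by norm_num) (hn.trans (by norm_num)) (by norm_num) (by norm_num) (by norm_num)
    have hle : d ≤ 33 := Nat.le_of_dvd (by norm_num) h1
    have h4' : d ≤ 20 → 23 ^ 1 * 33 ∣ d.factorial := fun _ => h4
    have key : ∀ d ≤ 33, ¬ (d ∣ 33 ∧ d % 23 = 1 ∧ d ≠ 1 ∧ (d ≤ 20 → 23 ^ 1 * 33 ∣ d.factorial) ∧ (1 = 1 → ¬ Nat.Coprime (23 ^ 1 * 33 / d) (23 - 1))) := by decide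
    exact key d hle ⟨h1, h2, h3, h4', h5⟩
  · rcases Cfsg.Agent.S0499.result hG (by rw [hn]; decide) with h | h | h <;>
      (rw [hn] at h; revert h; decide)
  · exact false_of_prime_pow hG 761 1 (by norm_num) (hn.trans (by norm_num))
  · obtain ⟨d, h1, h2, h3, h4, h5⟩ := SimpleSmall.sylow_count (G := G) 127 1 6 (by norm_num) (hn.trans (by norm_num)) (by norm_num) (by norm_num) (by norm_num)
    have hle : d ≤ 6 := Nat.le_of_dvd (by norm_num) h1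
    have h4' : d ≤ 20 → 127 ^ 1 * 6 ∣ d.factorial := fun _ => h4
    have key : ∀ d ≤ 6, ¬ (d ∣ 6 ∧ d % 127 = 1 ∧ d ≠ 1 ∧ (d ≤ 20 → 127 ^ 1 * 6 ∣ d.factorial) ∧ (1 = 1 → ¬ Nat.Coprime (127 ^ 1 * 6 / d) (127 - 1))) := by decide
    exact key d hle ⟨h1, h2, h3, h4', h5⟩
  · exact false_of_two_primes hG 7 109 1 1 (by norm_num) (by norm_num) (hn.trans (by norm_num))
  · exact false_of_two_primes hG 2 191 2 1 (by norm_num) (by norm_num) (hn.trans (by norm_num))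
  · obtain ⟨d, h1, h2, h3, h4, h5⟩ := SimpleSmall.sylow_count (G := G) 17 1 45 (by norm_num) (hn.trans (by norm_num)) (by norm_num) (by norm_num) (by norm_num)
    have hle : d ≤ 45 := Nat.le_of_dvd (by norm_num) h1
    have h4' : d ≤ 20 → 17 ^ 1 * 45 ∣ d.factorial := fun _ => h4
    have key : ∀ d ≤ 45, ¬ (d ∣ 45 ∧ d % 17 = 1 ∧ d ≠ 1 ∧ (d ≤ 20 → 17 ^ 1 * 45 ∣ d.factorial) ∧ (1 = 1 → ¬ Nat.Coprime (17 ^ 1 * 45 / d) (17 - 1))) := by decide
    exact key d hle ⟨h1, h2, h3, h4', h5⟩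
  · exact false_of_two_primes hG 2 383 1 1 (by norm_num) (by norm_num) (hn.trans (by norm_num))
  · exact false_of_two_primes hG 13 59 1 1 (by norm_num) (by norm_num) (hn.trans (by norm_num))
  · exact false_of_two_primes hG 2 3 8 1 (by norm_num) (by norm_num) (hn.trans (by norm_num))
  · exact false_of_prime_pow hG 769 1 (by norm_num) (hn.trans (by norm_num))
  · obtain ⟨d, h1, h2, h3, h4, h5⟩ := SimpleSmall.sylow_count (G := G) 11 1 70 (by norm_num) (hn.trans (by norm_num)) (by norm_num) (by norm_num) (by norm_num)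
    have hle : d ≤ 70 := Nat.le_of_dvd (by norm_num) h1
    have h4' : d ≤ 20 → 11 ^ 1 * 70 ∣ d.factorial := fun _ => h4
    have key : ∀ d ≤ 70, ¬ (d ∣ 70 ∧ d % 11 = 1 ∧ d ≠ 1 ∧ (d ≤ 20 → 11 ^ 1 * 70 ∣ d.factorial) ∧ (1 = 1 → ¬ Nat.Coprime (11 ^ 1 * 70 / d) (11 - 1))) := by decide
    exact key d hle ⟨h1, h2, h3, h4', h5⟩
  · exact false_of_two_primes hG 3 257 1 1 (by norm_num) (by norm_num) (hn.trans (by norm_num))
  · exact false_of_two_primes hG 2 193 2 1 (by norm_num) (by norm_num) (hn.trans (by norm_num))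
  · exact false_of_prime_pow hG 773 1 (by norm_num) (hn.trans (by norm_num))
  · obtain ⟨d, h1, h2, h3, h4, h5⟩ := SimpleSmall.sylow_count (G := G) 43 1 18 (by norm_num) (hn.trans (by norm_num)) (by norm_num) (by norm_num) (by norm_num)
    have hle : d ≤ 18 := Nat.le_of_dvd (by norm_num) h1
    have h4' : d ≤ 20 → 43 ^ 1 * 18 ∣ d.factorial := fun _ => h4
    have key : ∀ d ≤ 18, ¬ (d ∣ 18 ∧ d % 43 = 1 ∧ d ≠ 1 ∧ (d ≤ 20 → 43 ^ 1 * 18 ∣ d.factorial) ∧ (1 = 1 → ¬ Nat.Coprime (43 ^ 1 * 18 / d) (43 - 1))) := by decide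
    exact key d hle ⟨h1, h2, h3, h4', h5⟩
  · exact false_of_two_primes hG 5 31 2 1 (by norm_num) (by norm_num) (hn.trans (by norm_num))
  · exact false_of_two_primes hG 2 97 3 1 (by norm_num) (by norm_num) (hn.trans (by norm_num))
  · obtain ⟨d, h1, h2, h3, h4, h5⟩ := SimpleSmall.sylow_count (G := G) 37 1 21 (by norm_num) (hn.trans (by norm_num)) (by norm_num) (by norm_num) (by norm_num)
    have hle : d ≤ 21 := Nat.le_of_dvd (by norm_num) h1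
    have h4' : d ≤ 20 → 37 ^ 1 * 21 ∣ d.factorial := fun _ => h4
    have key : ∀ d ≤ 21, ¬ (d ∣ 21 ∧ d % 37 = 1 ∧ d ≠ 1 ∧ (d ≤ 20 → 37 ^ 1 * 21 ∣ d.factorial) ∧ (1 = 1 → ¬ Nat.Coprime (37 ^ 1 * 21 / d) (37 - 1))) := by decide
    exact key d hle ⟨h1, h2, h3, h4', h5⟩
  · exact false_of_two_primes hG 2 389 1 1 (by norm_num) (by norm_num) (hn.trans (by norm_num))
  · exact false_of_two_primes hG 19 41 1 1 (by norm_num) (by norm_num) (hn.trans (by norm_num))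
  · obtain ⟨d, h1, h2, h3, h4, h5⟩ := SimpleSmall.sylow_count (G := G) 13 1 60 (by norm_num) (hn.trans (by norm_num)) (by norm_num) (by norm_num) (by norm_num)
    have hle : d ≤ 60 := Nat.le_of_dvd (by norm_num) h1
    have h4' : d ≤ 20 → 13 ^ 1 * 60 ∣ d.factorial := fun _ => h4
    have key : ∀ d ≤ 60, ¬ (d ∣ 60 ∧ d % 13 = 1 ∧ d ≠ 1 ∧ (d ≤ 20 → 13 ^ 1 * 60 ∣ d.factorial) ∧ (1 = 1 → ¬ Nat.Coprime (13 ^ 1 * 60 / d) (13 - 1))) := by decide
    exact key d hle ⟨h1, h2, h3, h4', h5⟩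
  · exact false_of_two_primes hG 11 71 1 1 (by norm_num) (by norm_num) (hn.trans (by norm_num))
  · obtain ⟨d, h1, h2, h3, h4, h5⟩ := SimpleSmall.sylow_count (G := G) 23 1 34 (by norm_num) (hn.trans (by norm_num)) (by norm_num) (by norm_num) (by norm_num)
    have hle : d ≤ 34 := Nat.le_of_dvd (by norm_num) h1
    have h4' : d ≤ 20 → 23 ^ 1 * 34 ∣ d.factorial := fun _ => h4
    have key : ∀ d ≤ 34, ¬ (d ∣ 34 ∧ d % 23 = 1 ∧ d ≠ 1 ∧ (d ≤ 20 → 23 ^ 1 * 34 ∣ d.factorial) ∧ (1 = 1 → ¬ Nat.Coprime (23 ^ 1 * 34 / d) (23 - 1))) := by decide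
    exact key d hle ⟨h1, h2, h3, h4', h5⟩
  · exact false_of_two_primes hG 3 29 3 1 (by norm_num) (by norm_num) (hn.trans (by norm_num))
  · exact false_of_two_primes hG 2 7 4 2 (by norm_num) (by norm_num) (hn.trans (by norm_num))
  · exact false_of_two_primes hG 5 157 1 1 (by norm_num) (by norm_num) (hn.trans (by norm_num))
  · obtain ⟨d, h1, h2, h3, h4, h5⟩ := SimpleSmall.sylow_count (G := G) 131 1 6 (by norm_num) (hn.trans (by norm_num)) (by norm_num) (by norm_num) (by norm_num)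
    have hle : d ≤ 6 := Nat.le_of_dvd (by norm_num) h1
    have h4' : d ≤ 20 → 131 ^ 1 * 6 ∣ d.factorial := fun _ => h4
    have key : ∀ d ≤ 6, ¬ (d ∣ 6 ∧ d % 131 = 1 ∧ d ≠ 1 ∧ (d ≤ 20 → 131 ^ 1 * 6 ∣ d.factorial) ∧ (1 = 1 → ¬ Nat.Coprime (131 ^ 1 * 6 / d) (131 - 1))) := by decide
    exact key d hle ⟨h1, h2, h3, h4', h5⟩
  · exact false_of_prime_pow hG 787 1 (by norm_num) (hn.trans (by norm_num))
  · exact false_of_two_primes hG 2 197 2 1 (by norm_num) (by norm_num) (hn.trans (by norm_num))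
  · exact false_of_two_primes hG 3 263 1 1 (by norm_num) (by norm_num) (hn.trans (by norm_num))
  · obtain ⟨d, h1, h2, h3, h4, h5⟩ := SimpleSmall.sylow_count (G := G) 79 1 10 (by norm_num) (hn.trans (by norm_num)) (by norm_num) (by norm_num) (by norm_num)
    have hle : d ≤ 10 := Nat.le_of_dvd (by norm_num) h1
    have h4' : d ≤ 20 → 79 ^ 1 * 10 ∣ d.factorial := fun _ => h4
    have key : ∀ d ≤ 10, ¬ (d ∣ 10 ∧ d % 79 = 1 ∧ d ≠ 1 ∧ (d ≤ 20 → 79 ^ 1 * 10 ∣ d.factorial) ∧ (1 = 1 → ¬ Nat.Coprime (79 ^ 1 * 10 / d) (79 - 1))) := by decide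
    exact key d hle ⟨h1, h2, h3, h4', h5⟩
  · exact false_of_two_primes hG 7 113 1 1 (by norm_num) (by norm_num) (hn.trans (by norm_num))
  · have : Fact (Nat.Prime 11) := ⟨by norm_num⟩
    obtain ⟨d, -, h1, h2, h3, h4, h5, h6, h7, h8, h9⟩ := sylow_count3 (G := G) hG 11 1 72 (hn.trans (by norm_num)) (by norm_num) (by norm_num) (by norm_num)
    have hle : d ≤ 72 := Nat.le_of_dvd (by norm_num) h1
    have h4' : d ≤ 20 → 11 ^ 1 * 72 ∣ d.factorial := fun _ => h4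
    clear h4
    interval_cases d <;> revert h1 h2 h3 h4' h5 h6 <;> decide
  · exact false_of_two_primes hG 13 61 1 1 (by norm_num) (by norm_num) (hn.trans (by norm_num))
  · exact false_of_two_primes hG 2 397 1 1 (by norm_num) (by norm_num) (hn.trans (by norm_num))
  · obtain ⟨d, h1, h2, h3, h4, h5⟩ := SimpleSmall.sylow_count (G := G) 53 1 15 (by norm_num) (hn.trans (by norm_num)) (by norm_num) (by norm_num) (by norm_num)
    have hle : d ≤ 15 := Nat.le_of_dvd (by norm_num) h1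
    have h4' : d ≤ 20 → 53 ^ 1 * 15 ∣ d.factorial := fun _ => h4
    have key : ∀ d ≤ 15, ¬ (d ∣ 15 ∧ d % 53 = 1 ∧ d ≠ 1 ∧ (d ≤ 20 → 53 ^ 1 * 15 ∣ d.factorial) ∧ (1 = 1 → ¬ Nat.Coprime (53 ^ 1 * 15 / d) (53 - 1))) := by decide
    exact key d hle ⟨h1, h2, h3, h4', h5⟩
  · exact false_of_two_primes hG 2 199 2 1 (by norm_num) (by norm_num) (hn.trans (by norm_num))
  · exact false_of_prime_pow hG 797 1 (by norm_num) (hn.trans (by norm_num))
  · obtain ⟨d, h1, h2, h3, h4, h5⟩ := SimpleSmall.sylow_count (G := G) 19 1 42 (by norm_num) (hn.trans (by norm_num)) (by norm_num) (by norm_num) (by norm_num)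
    have hle : d ≤ 42 := Nat.le_of_dvd (by norm_num) h1
    have h4' : d ≤ 20 → 19 ^ 1 * 42 ∣ d.factorial := fun _ => h4
    have key : ∀ d ≤ 42, ¬ (d ∣ 42 ∧ d % 19 = 1 ∧ d ≠ 1 ∧ (d ≤ 20 → 19 ^ 1 * 42 ∣ d.factorial) ∧ (1 = 1 → ¬ Nat.Coprime (19 ^ 1 * 42 / d) (19 - 1))) := by decide
    exact key d hle ⟨h1, h2, h3, h4', h5⟩
  · exact false_of_two_primes hG 17 47 1 1 (by norm_num) (by norm_num) (hn.trans (by norm_num))
  · exact false_of_two_primes hG 2 5 5 2 (by norm_num) (by norm_num) (hn.trans (by norm_num))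
  · exact false_of_two_primes hG 3 89 2 1 (by norm_num) (by norm_num) (hn.trans (by norm_num))
  · exact false_of_two_primes hG 2 401 1 1 (by norm_num) (by norm_num) (hn.trans (by norm_num))
  · exact false_of_two_primes hG 11 73 1 1 (by norm_num) (by norm_num) (hn.trans (by norm_num))
  · obtain ⟨d, h1, h2, h3, h4, h5⟩ := SimpleSmall.sylow_count (G := G) 67 1 12 (by norm_num) (hn.trans (by norm_num)) (by norm_num) (by norm_num) (by norm_num)
    have hle : d ≤ 12 := Nat.le_of_dvd (by norm_num) h1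
    have h4' : d ≤ 20 → 67 ^ 1 * 12 ∣ d.factorial := fun _ => h4
    have key : ∀ d ≤ 12, ¬ (d ∣ 12 ∧ d % 67 = 1 ∧ d ≠ 1 ∧ (d ≤ 20 → 67 ^ 1 * 12 ∣ d.factorial) ∧ (1 = 1 → ¬ Nat.Coprime (67 ^ 1 * 12 / d) (67 - 1))) := by decide
    exact key d hle ⟨h1, h2, h3, h4', h5⟩
  · obtain ⟨d, h1, h2, h3, h4, h5⟩ := SimpleSmall.sylow_count (G := G) 23 1 35 (by norm_num) (hn.trans (by norm_num)) (by norm_num) (by norm_num) (by norm_num)
    have hle : d ≤ 35 := Nat.le_of_dvd (by norm_num) h1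
    have h4' : d ≤ 20 → 23 ^ 1 * 35 ∣ d.factorial := fun _ => h4
    have key : ∀ d ≤ 35, ¬ (d ∣ 35 ∧ d % 23 = 1 ∧ d ≠ 1 ∧ (d ≤ 20 → 23 ^ 1 * 35 ∣ d.factorial) ∧ (1 = 1 → ¬ Nat.Coprime (23 ^ 1 * 35 / d) (23 - 1))) := by decide
    exact key d hle ⟨h1, h2, h3, h4', h5⟩
  · obtain ⟨d, h1, h2, h3, h4, h5⟩ := SimpleSmall.sylow_count (G := G) 31 1 26 (by norm_num) (hn.trans (by norm_num)) (by norm_num) (by norm_num) (by norm_num)
    have hle : d ≤ 26 := Nat.le_of_dvd (by norm_num) h1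
    have h4' : d ≤ 20 → 31 ^ 1 * 26 ∣ d.factorial := fun _ => h4
    have key : ∀ d ≤ 26, ¬ (d ∣ 26 ∧ d % 31 = 1 ∧ d ≠ 1 ∧ (d ≤ 20 → 31 ^ 1 * 26 ∣ d.factorial) ∧ (1 = 1 → ¬ Nat.Coprime (31 ^ 1 * 26 / d) (31 - 1))) := by decide
    exact key d hle ⟨h1, h2, h3, h4', h5⟩
  · exact false_of_two_primes hG 3 269 1 1 (by norm_num) (by norm_num) (hn.trans (by norm_num))
  · exact false_of_two_primes hG 2 101 3 1 (by norm_num) (by norm_num) (hn.trans (by norm_num))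
  · exact false_of_prime_pow hG 809 1 (by norm_num) (hn.trans (by norm_num))
  · obtain ⟨d, h1, h2, h3, h4, h5⟩ := SimpleSmall.sylow_count (G := G) 2 1 405 (by norm_num) (hn.trans (by norm_num)) (by norm_num) (by norm_num) (by norm_num)
    exact h5 rfl (by simp)
  · exact false_of_prime_pow hG 811 1 (by norm_num) (hn.trans (by norm_num))
  · obtain ⟨d, h1, h2, h3, h4, h5⟩ := SimpleSmall.sylow_count (G := G) 29 1 28 (by norm_num) (hn.trans (by norm_num)) (by norm_num) (by norm_num) (by norm_num)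
    have hle : d ≤ 28 := Nat.le_of_dvd (by norm_num) h1
    have h4' : d ≤ 20 → 29 ^ 1 * 28 ∣ d.factorial := fun _ => h4
    have key : ∀ d ≤ 28, ¬ (d ∣ 28 ∧ d % 29 = 1 ∧ d ≠ 1 ∧ (d ≤ 20 → 29 ^ 1 * 28 ∣ d.factorial) ∧ (1 = 1 → ¬ Nat.Coprime (29 ^ 1 * 28 / d) (29 - 1))) := by decide
    exact key d hle ⟨h1, h2, h3, h4', h5⟩
  · exact false_of_two_primes hG 3 271 1 1 (by norm_num) (by norm_num) (hn.trans (by norm_num))
  · obtain ⟨d, h1, h2, h3, h4, h5⟩ := SimpleSmall.sylow_count (G := G) 37 1 22 (by norm_num) (hn.trans (by norm_num)) (by norm_num) (by norm_num) (by norm_num)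
    have hle : d ≤ 22 := Nat.le_of_dvd (by norm_num) h1
    have h4' : d ≤ 20 → 37 ^ 1 * 22 ∣ d.factorial := fun _ => h4
    have key : ∀ d ≤ 22, ¬ (d ∣ 22 ∧ d % 37 = 1 ∧ d ≠ 1 ∧ (d ≤ 20 → 37 ^ 1 * 22 ∣ d.factorial) ∧ (1 = 1 → ¬ Nat.Coprime (37 ^ 1 * 22 / d) (37 - 1))) := by decide
    exact key d hle ⟨h1, h2, h3, h4', h5⟩
  · exact false_of_two_primes hG 5 163 1 1 (by norm_num) (by norm_num) (hn.trans (by norm_num))
  · obtain ⟨d, h1, h2, h3, h4, h5⟩ := SimpleSmall.sylow_count (G := G) 17 1 48 (by norm_num) (hn.trans (by norm_num)) (by norm_num) (by norm_num) (by norm_num)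
    have hle : d ≤ 48 := Nat.le_of_dvd (by norm_num) h1
    have h4' : d ≤ 20 → 17 ^ 1 * 48 ∣ d.factorial := fun _ => h4
    have key : ∀ d ≤ 48, ¬ (d ∣ 48 ∧ d % 17 = 1 ∧ d ≠ 1 ∧ (d ≤ 20 → 17 ^ 1 * 48 ∣ d.factorial) ∧ (1 = 1 → ¬ Nat.Coprime (17 ^ 1 * 48 / d) (17 - 1))) := by decide
    exact key d hle ⟨h1, h2, h3, h4', h5⟩
  · exact false_of_two_primes hG 19 43 1 1 (by norm_num) (by norm_num) (hn.trans (by norm_num))
  · exact false_of_two_primes hG 2 409 1 1 (by norm_num) (by norm_num) (hn.trans (by norm_num))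
  · obtain ⟨d, h1, h2, h3, h4, h5⟩ := SimpleSmall.sylow_count (G := G) 13 1 63 (by norm_num) (hn.trans (by norm_num)) (by norm_num) (by norm_num) (by norm_num)
    have hle : d ≤ 63 := Nat.le_of_dvd (by norm_num) h1
    have h4' : d ≤ 20 → 13 ^ 1 * 63 ∣ d.factorial := fun _ => h4
    have key : ∀ d ≤ 63, ¬ (d ∣ 63 ∧ d % 13 = 1 ∧ d ≠ 1 ∧ (d ≤ 20 → 13 ^ 1 * 63 ∣ d.factorial) ∧ (1 = 1 → ¬ Nat.Coprime (13 ^ 1 * 63 / d) (13 - 1))) := by decide
    exact key d hle ⟨h1, h2, h3, h4', h5⟩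
  · obtain ⟨d, h1, h2, h3, h4, h5⟩ := SimpleSmall.sylow_count (G := G) 41 1 20 (by norm_num) (hn.trans (by norm_num)) (by norm_num) (by norm_num) (by norm_num)
    have hle : d ≤ 20 := Nat.le_of_dvd (by norm_num) h1
    have h4' : d ≤ 20 → 41 ^ 1 * 20 ∣ d.factorial := fun _ => h4
    have key : ∀ d ≤ 20, ¬ (d ∣ 20 ∧ d % 41 = 1 ∧ d ≠ 1 ∧ (d ≤ 20 → 41 ^ 1 * 20 ∣ d.factorial) ∧ (1 = 1 → ¬ Nat.Coprime (41 ^ 1 * 20 / d) (41 - 1))) := by decide
    exact key d hle ⟨h1, h2, h3, h4', h5⟩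
  · exact false_of_prime_pow hG 821 1 (by norm_num) (hn.trans (by norm_num))
  · obtain ⟨d, h1, h2, h3, h4, h5⟩ := SimpleSmall.sylow_count (G := G) 137 1 6 (by norm_num) (hn.trans (by norm_num)) (by norm_num) (by norm_num) (by norm_num)
    have hle : d ≤ 6 := Nat.le_of_dvd (by norm_num) h1
    have h4' : d ≤ 20 → 137 ^ 1 * 6 ∣ d.factorial := fun _ => h4
    have key : ∀ d ≤ 6, ¬ (d ∣ 6 ∧ d % 137 = 1 ∧ d ≠ 1 ∧ (d ≤ 20 → 137 ^ 1 * 6 ∣ d.factorial) ∧ (1 = 1 → ¬ Nat.Coprime (137 ^ 1 * 6 / d) (137 - 1))) := by decide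
    exact key d hle ⟨h1, h2, h3, h4', h5⟩
  · exact false_of_prime_pow hG 823 1 (by norm_num) (hn.trans (by norm_num))
  · exact false_of_two_primes hG 2 103 3 1 (by norm_num) (by norm_num) (hn.trans (by norm_num))
  · obtain ⟨d, h1, h2, h3, h4, h5⟩ := SimpleSmall.sylow_count (G := G) 11 1 75 (by norm_num) (hn.trans (by norm_num)) (by norm_num) (by norm_num) (by norm_num)
    have hle : d ≤ 75 := Nat.le_of_dvd (by norm_num) h1
    have h4' : d ≤ 20 → 11 ^ 1 * 75 ∣ d.factorial := fun _ => h4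
    have key : ∀ d ≤ 75, ¬ (d ∣ 75 ∧ d % 11 = 1 ∧ d ≠ 1 ∧ (d ≤ 20 → 11 ^ 1 * 75 ∣ d.factorial) ∧ (1 = 1 → ¬ Nat.Coprime (11 ^ 1 * 75 / d) (11 - 1))) := by decide
    exact key d hle ⟨h1, h2, h3, h4', h5⟩
  · obtain ⟨d, h1, h2, h3, h4, h5⟩ := SimpleSmall.sylow_count (G := G) 59 1 14 (by norm_num) (hn.trans (by norm_num)) (by norm_num) (by norm_num) (by norm_num)
    have hle : d ≤ 14 := Nat.le_of_dvd (by norm_num) h1
    have h4' : d ≤ 20 → 59 ^ 1 * 14 ∣ d.factorial := fun _ => h4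
    have key : ∀ d ≤ 14, ¬ (d ∣ 14 ∧ d % 59 = 1 ∧ d ≠ 1 ∧ (d ≤ 20 → 59 ^ 1 * 14 ∣ d.factorial) ∧ (1 = 1 → ¬ Nat.Coprime (59 ^ 1 * 14 / d) (59 - 1))) := by decide
    exact key d hle ⟨h1, h2, h3, h4', h5⟩
  · exact false_of_prime_pow hG 827 1 (by norm_num) (hn.trans (by norm_num))
  · obtain ⟨d, h1, h2, h3, h4, h5⟩ := SimpleSmall.sylow_count (G := G) 23 1 36 (by norm_num) (hn.trans (by norm_num)) (by norm_num) (by norm_num) (by norm_num)
    have hle : d ≤ 36 := Nat.le_of_dvd (by norm_num) h1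
    have h4' : d ≤ 20 → 23 ^ 1 * 36 ∣ d.factorial := fun _ => h4
    have key : ∀ d ≤ 36, ¬ (d ∣ 36 ∧ d % 23 = 1 ∧ d ≠ 1 ∧ (d ≤ 20 → 23 ^ 1 * 36 ∣ d.factorial) ∧ (1 = 1 → ¬ Nat.Coprime (23 ^ 1 * 36 / d) (23 - 1))) := by decide
    exact key d hle ⟨h1, h2, h3, h4', h5⟩
  · exact false_of_prime_pow hG 829 1 (by norm_num) (hn.trans (by norm_num))
  · obtain ⟨d, h1, h2, h3, h4, h5⟩ := SimpleSmall.sylow_count (G := G) 83 1 10 (by norm_num) (hn.trans (by norm_num)) (by norm_num) (by norm_num) (by norm_num)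
    have hle : d ≤ 10 := Nat.le_of_dvd (by norm_num) h1
    have h4' : d ≤ 20 → 83 ^ 1 * 10 ∣ d.factorial := fun _ => h4
    have key : ∀ d ≤ 10, ¬ (d ∣ 10 ∧ d % 83 = 1 ∧ d ≠ 1 ∧ (d ≤ 20 → 83 ^ 1 * 10 ∣ d.factorial) ∧ (1 = 1 → ¬ Nat.Coprime (83 ^ 1 * 10 / d) (83 - 1))) := by decide
    exact key d hle ⟨h1, h2, h3, h4', h5⟩
  · exact false_of_two_primes hG 3 277 1 1 (by norm_num) (by norm_num) (hn.trans (by norm_num))
  · exact false_of_two_primes hG 2 13 6 1 (by norm_num) (by norm_num) (hn.trans (by norm_num))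
  · exact false_of_two_primes hG 7 17 2 1 (by norm_num) (by norm_num) (hn.trans (by norm_num))
  · obtain ⟨d, h1, h2, h3, h4, h5⟩ := SimpleSmall.sylow_count (G := G) 139 1 6 (by norm_num) (hn.trans (by norm_num)) (by norm_num) (by norm_num) (by norm_num)
    have hle : d ≤ 6 := Nat.le_of_dvd (by norm_num) h1
    have h4' : d ≤ 20 → 139 ^ 1 * 6 ∣ d.factorial := fun _ => h4
    have key : ∀ d ≤ 6, ¬ (d ∣ 6 ∧ d % 139 = 1 ∧ d ≠ 1 ∧ (d ≤ 20 → 139 ^ 1 * 6 ∣ d.factorial) ∧ (1 = 1 → ¬ Nat.Coprime (139 ^ 1 * 6 / d) (139 - 1))) := by decide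
    exact key d hle ⟨h1, h2, h3, h4', h5⟩
  · exact false_of_two_primes hG 5 167 1 1 (by norm_num) (by norm_num) (hn.trans (by norm_num))
  · obtain ⟨d, h1, h2, h3, h4, h5⟩ := SimpleSmall.sylow_count (G := G) 19 1 44 (by norm_num) (hn.trans (by norm_num)) (by norm_num) (by norm_num) (by norm_num)
    have hle : d ≤ 44 := Nat.le_of_dvd (by norm_num) h1
    have h4' : d ≤ 20 → 19 ^ 1 * 44 ∣ d.factorial := fun _ => h4
    have key : ∀ d ≤ 44, ¬ (d ∣ 44 ∧ d % 19 = 1 ∧ d ≠ 1 ∧ (d ≤ 20 → 19 ^ 1 * 44 ∣ d.factorial) ∧ (1 = 1 → ¬ Nat.Coprime (19 ^ 1 * 44 / d) (19 - 1))) := by decide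
    exact key d hle ⟨h1, h2, h3, h4', h5⟩
  · exact false_of_two_primes hG 3 31 3 1 (by norm_num) (by norm_num) (hn.trans (by norm_num))
  · exact false_of_two_primes hG 2 419 1 1 (by norm_num) (by norm_num) (hn.trans (by norm_num))
  · exact false_of_prime_pow hG 839 1 (by norm_num) (hn.trans (by norm_num))
  · have : Fact (Nat.Prime 7) := ⟨by norm_num⟩
    obtain ⟨d, -, h1, h2, h3, h4, h5, h6, h7, h8, h9⟩ := sylow_count3 (G := G) hG 7 1 120 (hn.trans (by norm_num)) (by norm_num) (by norm_num) (by norm_num)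
    have hle : d ≤ 120 := Nat.le_of_dvd (by norm_num) h1
    have h4' : d ≤ 20 → 7 ^ 1 * 120 ∣ d.factorial := fun _ => h4
    clear h4
    interval_cases d <;> revert h1 h2 h3 h4' h5 h6 h8 <;> decide
  · exact false_of_prime_pow hG 29 2 (by norm_num) (hn.trans (by norm_num))
  · exact false_of_two_primes hG 2 421 1 1 (by norm_num) (by norm_num) (hn.trans (by norm_num))
  · exact false_of_two_primes hG 3 281 1 1 (by norm_num) (by norm_num) (hn.trans (by norm_num))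
  · exact false_of_two_primes hG 2 211 2 1 (by norm_num) (by norm_num) (hn.trans (by norm_num))
  · exact false_of_two_primes hG 5 13 1 2 (by norm_num) (by norm_num) (hn.trans (by norm_num))
  · obtain ⟨d, h1, h2, h3, h4, h5⟩ := SimpleSmall.sylow_count (G := G) 47 1 18 (by norm_num) (hn.trans (by norm_num)) (by norm_num) (by norm_num) (by norm_num)
    have hle : d ≤ 18 := Nat.le_of_dvd (by norm_num) h1
    have h4' : d ≤ 20 → 47 ^ 1 * 18 ∣ d.factorial := fun _ => h4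
    have key : ∀ d ≤ 18, ¬ (d ∣ 18 ∧ d % 47 = 1 ∧ d ≠ 1 ∧ (d ≤ 20 → 47 ^ 1 * 18 ∣ d.factorial) ∧ (1 = 1 → ¬ Nat.Coprime (47 ^ 1 * 18 / d) (47 - 1))) := by decide
    exact key d hle ⟨h1, h2, h3, h4', h5⟩
  · exact false_of_two_primes hG 7 11 1 2 (by norm_num) (by norm_num) (hn.trans (by norm_num))
  · exact false_of_two_primes hG 2 53 4 1 (by norm_num) (by norm_num) (hn.trans (by norm_num))
  · exact false_of_two_primes hG 3 283 1 1 (by norm_num) (by norm_num) (hn.trans (by norm_num))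
  · obtain ⟨d, h1, h2, h3, h4, h5⟩ := SimpleSmall.sylow_count (G := G) 5 2 34 (by norm_num) (hn.trans (by norm_num)) (by norm_num) (by norm_num) (by norm_num)
    have hle : d ≤ 34 := Nat.le_of_dvd (by norm_num) h1
    have h4' : d ≤ 20 → 5 ^ 2 * 34 ∣ d.factorial := fun _ => h4
    have key : ∀ d ≤ 34, ¬ (d ∣ 34 ∧ d % 5 = 1 ∧ d ≠ 1 ∧ (d ≤ 20 → 5 ^ 2 * 34 ∣ d.factorial) ∧ (2 = 1 → ¬ Nat.Coprime (5 ^ 2 * 34 / d) (5 - 1))) := by decide
    exact key d hle ⟨h1, h2, h3, h4', h5⟩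

end Cfsg.Agent.Helper2.SimpleSmall2
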