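import Mathlib
import Cfsg.Agent.Helper2.SimpleSmall2
import Cfsg.Agent.S0499

/-!
# Orders of simple groups: the routine cases 851..1092 (generated; helper2, for S0496)
-/

set_option autoImplicit false
set_option maxRecDepth 4096
set_option synthInstance.maxSize 2048

namespace Cfsg.Agent.Helper2.SimpleSmall2

open Cfsg.Agent.Helper2

theorem no_simple_rangeD {G : Type*} [Group G] [Finite G] [IsSimpleGroup G]
    (hG : ¬ IsMulCommutative G) (n : ℕ) (hn : Nat.card G = n) (hlo : 851 ≤ n) (hhi : n ≤ 1092)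
    (h1008 : n ≠ 1008) (h1040 : n ≠ 1040) (h1080 : n ≠ 1080) (h1092 : n ≠ 1092) : False := by
  interval_cases n
  · exact false_of_two_primes hG 23 37 1 1 (by norm_num) (by norm_num) (hn.trans (by norm_num))
  · obtain ⟨d, h1, h2, h3, h4, h5⟩ := SimpleSmall.sylow_count (G := G) 71 1 12 (by norm_num) (hn.trans (by norm_num)) (by norm_num) (by norm_num) (by norm_num)
    have hle : d ≤ 12 := Nat.le_of_dvd (by norm_num) h1
    have h4' : d ≤ 20 → 71 ^ 1 * 12 ∣ d.factorial := fun _ => h4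
    have key : ∀ d ≤ 12, ¬ (d ∣ 12 ∧ d % 71 = 1 ∧ d ≠ 1 ∧ (d ≤ 20 → 71 ^ 1 * 12 ∣ d.factorial) ∧ (1 = 1 → ¬ Nat.Coprime (71 ^ 1 * 12 / d) (71 - 1))) := by decide
    exact key d hle ⟨h1, h2, h3, h4', h5⟩
  · exact false_of_prime_pow hG 853 1 (by norm_num) (hn.trans (by norm_num))
  · obtain ⟨d, h1, h2, h3, h4, h5⟩ := SimpleSmall.sylow_count (G := G) 61 1 14 (by norm_num) (hn.trans (by norm_num)) (by norm_num) (by norm_num) (by norm_num)
    have hle : d ≤ 14 := Nat.le_of_dvd (by norm_num) h1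
    have h4' : d ≤ 20 → 61 ^ 1 * 14 ∣ d.factorial := fun _ => h4
    have key : ∀ d ≤ 14, ¬ (d ∣ 14 ∧ d % 61 = 1 ∧ d ≠ 1 ∧ (d ≤ 20 → 61 ^ 1 * 14 ∣ d.factorial) ∧ (1 = 1 → ¬ Nat.Coprime (61 ^ 1 * 14 / d) (61 - 1))) := by decide
    exact key d hle ⟨h1, h2, h3, h4', h5⟩
  · obtain ⟨d, h1, h2, h3, h4, h5⟩ := SimpleSmall.sylow_count (G := G) 19 1 45 (by norm_num) (hn.trans (by norm_num)) (by norm_num) (by norm_num) (by norm_num)
    have hle : d ≤ 45 := Nat.le_of_dvd (by norm_num) h1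
    have h4' : d ≤ 20 → 19 ^ 1 * 45 ∣ d.factorial := fun _ => h4
    have key : ∀ d ≤ 45, ¬ (d ∣ 45 ∧ d % 19 = 1 ∧ d ≠ 1 ∧ (d ≤ 20 → 19 ^ 1 * 45 ∣ d.factorial) ∧ (1 = 1 → ¬ Nat.Coprime (19 ^ 1 * 45 / d) (19 - 1))) := by decide
    exact key d hle ⟨h1, h2, h3, h4', h5⟩
  · exact false_of_two_primes hG 2 107 3 1 (by norm_num) (by norm_num) (hn.trans (by norm_num))
  · exact false_of_prime_pow hG 857 1 (by norm_num) (hn.trans (by norm_num))
  · obtain ⟨d, h1, h2, h3, h4, h5⟩ := SimpleSmall.sylow_count (G := G) 13 1 66 (by norm_num) (hn.trans (by norm_num)) (by norm_num) (by norm_num) (by norm_num)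
    have hle : d ≤ 66 := Nat.le_of_dvd (by norm_num) h1
    have h4' : d ≤ 20 → 13 ^ 1 * 66 ∣ d.factorial := fun _ => h4
    have key : ∀ d ≤ 66, ¬ (d ∣ 66 ∧ d % 13 = 1 ∧ d ≠ 1 ∧ (d ≤ 20 → 13 ^ 1 * 66 ∣ d.factorial) ∧ (1 = 1 → ¬ Nat.Coprime (13 ^ 1 * 66 / d) (13 - 1))) := by decide
    exact key d hle ⟨h1, h2, h3, h4', h5⟩
  · exact false_of_prime_pow hG 859 1 (by norm_num) (hn.trans (by norm_num))
  · obtain ⟨d, h1, h2, h3, h4, h5⟩ := SimpleSmall.sylow_count (G := G) 43 1 20 (by norm_num) (hn.trans (by norm_num)) (by norm_num) (by norm_num) (by norm_num)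
    have hle : d ≤ 20 := Nat.le_of_dvd (by norm_num) h1
    have h4' : d ≤ 20 → 43 ^ 1 * 20 ∣ d.factorial := fun _ => h4
    have key : ∀ d ≤ 20, ¬ (d ∣ 20 ∧ d % 43 = 1 ∧ d ≠ 1 ∧ (d ≤ 20 → 43 ^ 1 * 20 ∣ d.factorial) ∧ (1 = 1 → ¬ Nat.Coprime (43 ^ 1 * 20 / d) (43 - 1))) := by decide
    exact key d hle ⟨h1, h2, h3, h4', h5⟩
  · obtain ⟨d, h1, h2, h3, h4, h5⟩ := SimpleSmall.sylow_count (G := G) 41 1 21 (by norm_num) (hn.trans (by norm_num)) (by norm_num) (by norm_num) (by norm_num)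
    have hle : d ≤ 21 := Nat.le_of_dvd (by norm_num) h1
    have h4' : d ≤ 20 → 41 ^ 1 * 21 ∣ d.factorial := fun _ => h4
    have key : ∀ d ≤ 21, ¬ (d ∣ 21 ∧ d % 41 = 1 ∧ d ≠ 1 ∧ (d ≤ 20 → 41 ^ 1 * 21 ∣ d.factorial) ∧ (1 = 1 → ¬ Nat.Coprime (41 ^ 1 * 21 / d) (41 - 1))) := by decide
    exact key d hle ⟨h1, h2, h3, h4', h5⟩
  · exact false_of_two_primes hG 2 431 1 1 (by norm_num) (by norm_num) (hn.trans (by norm_num))
  · exact false_of_prime_pow hG 863 1 (by norm_num) (hn.trans (by norm_num))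
  · exact false_of_two_primes hG 2 3 5 3 (by norm_num) (by norm_num) (hn.trans (by norm_num))
  · exact false_of_two_primes hG 5 173 1 1 (by norm_num) (by norm_num) (hn.trans (by norm_num))
  · exact false_of_two_primes hG 2 433 1 1 (by norm_num) (by norm_num) (hn.trans (by norm_num))
  · exact false_of_two_primes hG 3 17 1 2 (by norm_num) (by norm_num) (hn.trans (by norm_num))
  · obtain ⟨d, h1, h2, h3, h4, h5⟩ := SimpleSmall.sylow_count (G := G) 31 1 28 (by norm_num) (hn.trans (by norm_num)) (by norm_num) (by norm_num) (by norm_num)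
    have hle : d ≤ 28 := Nat.le_of_dvd (by norm_num) h1
    have h4' : d ≤ 20 → 31 ^ 1 * 28 ∣ d.factorial := fun _ => h4
    have key : ∀ d ≤ 28, ¬ (d ∣ 28 ∧ d % 31 = 1 ∧ d ≠ 1 ∧ (d ≤ 20 → 31 ^ 1 * 28 ∣ d.factorial) ∧ (1 = 1 → ¬ Nat.Coprime (31 ^ 1 * 28 / d) (31 - 1))) := by decide
    exact key d hle ⟨h1, h2, h3, h4', h5⟩
  · exact false_of_two_primes hG 11 79 1 1 (by norm_num) (by norm_num) (hn.trans (by norm_num))
  · obtain ⟨d, h1, h2, h3, h4, h5⟩ := SimpleSmall.sylow_count (G := G) 29 1 30 (by norm_num) (hn.trans (by norm_num)) (by norm_num) (by norm_num) (by norm_num)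
    have hle : d ≤ 30 := Nat.le_of_dvd (by norm_num) h1
    have h4' : d ≤ 20 → 29 ^ 1 * 30 ∣ d.factorial := fun _ => h4
    have key : ∀ d ≤ 30, ¬ (d ∣ 30 ∧ d % 29 = 1 ∧ d ≠ 1 ∧ (d ≤ 20 → 29 ^ 1 * 30 ∣ d.factorial) ∧ (1 = 1 → ¬ Nat.Coprime (29 ^ 1 * 30 / d) (29 - 1))) := by decide
    exact key d hle ⟨h1, h2, h3, h4', h5⟩
  · exact false_of_two_primes hG 13 67 1 1 (by norm_num) (by norm_num) (hn.trans (by norm_num))
  · exact false_of_two_primes hG 2 109 3 1 (by norm_num) (by norm_num) (hn.trans (by norm_num))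
  · exact false_of_two_primes hG 3 97 2 1 (by norm_num) (by norm_num) (hn.trans (by norm_num))
  · obtain ⟨d, h1, h2, h3, h4, h5⟩ := SimpleSmall.sylow_count (G := G) 23 1 38 (by norm_num) (hn.trans (by norm_num)) (by norm_num) (by norm_num) (by norm_num)
    have hle : d ≤ 38 := Nat.le_of_dvd (by norm_num) h1
    have h4' : d ≤ 20 → 23 ^ 1 * 38 ∣ d.factorial := fun _ => h4
    have key : ∀ d ≤ 38, ¬ (d ∣ 38 ∧ d % 23 = 1 ∧ d ≠ 1 ∧ (d ≤ 20 → 23 ^ 1 * 38 ∣ d.factorial) ∧ (1 = 1 → ¬ Nat.Coprime (23 ^ 1 * 38 / d) (23 - 1))) := by decide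
    exact key d hle ⟨h1, h2, h3, h4', h5⟩
  · exact false_of_two_primes hG 5 7 3 1 (by norm_num) (by norm_num) (hn.trans (by norm_num))
  · obtain ⟨d, h1, h2, h3, h4, h5⟩ := SimpleSmall.sylow_count (G := G) 73 1 12 (by norm_num) (hn.trans (by norm_num)) (by norm_num) (by norm_num) (by norm_num)
    have hle : d ≤ 12 := Nat.le_of_dvd (by norm_num) h1
    have h4' : d ≤ 20 → 73 ^ 1 * 12 ∣ d.factorial := fun _ => h4
    have key : ∀ d ≤ 12, ¬ (d ∣ 12 ∧ d % 73 = 1 ∧ d ≠ 1 ∧ (d ≤ 20 → 73 ^ 1 * 12 ∣ d.factorial) ∧ (1 = 1 → ¬ Nat.Coprime (73 ^ 1 * 12 / d) (73 - 1))) := by decide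
    exact key d hle ⟨h1, h2, h3, h4', h5⟩
  · exact false_of_prime_pow hG 877 1 (by norm_num) (hn.trans (by norm_num))
  · exact false_of_two_primes hG 2 439 1 1 (by norm_num) (by norm_num) (hn.trans (by norm_num))
  · exact false_of_two_primes hG 3 293 1 1 (by norm_num) (by norm_num) (hn.trans (by norm_num))
  · obtain ⟨d, h1, h2, h3, h4, h5⟩ := SimpleSmall.sylow_count (G := G) 11 1 80 (by norm_num) (hn.trans (by norm_num)) (by norm_num) (by norm_num) (by norm_num)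
    have hle : d ≤ 80 := Nat.le_of_dvd (by norm_num) h1
    have h4' : d ≤ 20 → 11 ^ 1 * 80 ∣ d.factorial := fun _ => h4
    have key : ∀ d ≤ 80, ¬ (d ∣ 80 ∧ d % 11 = 1 ∧ d ≠ 1 ∧ (d ≤ 20 → 11 ^ 1 * 80 ∣ d.factorial) ∧ (1 = 1 → ¬ Nat.Coprime (11 ^ 1 * 80 / d) (11 - 1))) := by decide
    exact key d hle ⟨h1, h2, h3, h4', h5⟩
  · exact false_of_prime_pow hG 881 1 (by norm_num) (hn.trans (by norm_num))
  · obtain ⟨d, h1, h2, h3, h4, h5⟩ := SimpleSmall.sylow_count (G := G) 7 2 18 (by norm_num) (hn.trans (by norm_num)) (by norm_num) (by norm_num) (by norm_num)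
    have hle : d ≤ 18 := Nat.le_of_dvd (by norm_num) h1
    have h4' : d ≤ 20 → 7 ^ 2 * 18 ∣ d.factorial := fun _ => h4
    have key : ∀ d ≤ 18, ¬ (d ∣ 18 ∧ d % 7 = 1 ∧ d ≠ 1 ∧ (d ≤ 20 → 7 ^ 2 * 18 ∣ d.factorial) ∧ (2 = 1 → ¬ Nat.Coprime (7 ^ 2 * 18 / d) (7 - 1))) := by decide
    exact key d hle ⟨h1, h2, h3, h4', h5⟩
  · exact false_of_prime_pow hG 883 1 (by norm_num) (hn.trans (by norm_num))
  · obtain ⟨d, h1, h2, h3, h4, h5⟩ := SimpleSmall.sylow_count (G := G) 17 1 52 (by norm_num) (hn.trans (by norm_num)) (by norm_num) (by norm_num) (by norm_num)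
    have hle : d ≤ 52 := Nat.le_of_dvd (by norm_num) h1
    have h4' : d ≤ 20 → 17 ^ 1 * 52 ∣ d.factorial := fun _ => h4
    have key : ∀ d ≤ 52, ¬ (d ∣ 52 ∧ d % 17 = 1 ∧ d ≠ 1 ∧ (d ≤ 20 → 17 ^ 1 * 52 ∣ d.factorial) ∧ (1 = 1 → ¬ Nat.Coprime (17 ^ 1 * 52 / d) (17 - 1))) := by decide
    exact key d hle ⟨h1, h2, h3, h4', h5⟩
  · obtain ⟨d, h1, h2, h3, h4, h5⟩ := SimpleSmall.sylow_count (G := G) 59 1 15 (by norm_num) (hn.trans (by norm_num)) (by norm_num) (by norm_num) (by norm_num)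
    have hle : d ≤ 15 := Nat.le_of_dvd (by norm_num) h1
    have h4' : d ≤ 20 → 59 ^ 1 * 15 ∣ d.factorial := fun _ => h4
    have key : ∀ d ≤ 15, ¬ (d ∣ 15 ∧ d % 59 = 1 ∧ d ≠ 1 ∧ (d ≤ 20 → 59 ^ 1 * 15 ∣ d.factorial) ∧ (1 = 1 → ¬ Nat.Coprime (59 ^ 1 * 15 / d) (59 - 1))) := by decide
    exact key d hle ⟨h1, h2, h3, h4', h5⟩
  · exact false_of_two_primes hG 2 443 1 1 (by norm_num) (by norm_num) (hn.trans (by norm_num))
  · exact false_of_prime_pow hG 887 1 (by norm_num) (hn.trans (by norm_num))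
  · obtain ⟨d, h1, h2, h3, h4, h5⟩ := SimpleSmall.sylow_count (G := G) 37 1 24 (by norm_num) (hn.trans (by norm_num)) (by norm_num) (by norm_num) (by norm_num)
    have hle : d ≤ 24 := Nat.le_of_dvd (by norm_num) h1
    have h4' : d ≤ 20 → 37 ^ 1 * 24 ∣ d.factorial := fun _ => h4
    have key : ∀ d ≤ 24, ¬ (d ∣ 24 ∧ d % 37 = 1 ∧ d ≠ 1 ∧ (d ≤ 20 → 37 ^ 1 * 24 ∣ d.factorial) ∧ (1 = 1 → ¬ Nat.Coprime (37 ^ 1 * 24 / d) (37 - 1))) := by decide
    exact key d hle ⟨h1, h2, h3, h4', h5⟩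
  · exact false_of_two_primes hG 7 127 1 1 (by norm_num) (by norm_num) (hn.trans (by norm_num))
  · obtain ⟨d, h1, h2, h3, h4, h5⟩ := SimpleSmall.sylow_count (G := G) 89 1 10 (by norm_num) (hn.trans (by norm_num)) (by norm_num) (by norm_num) (by norm_num)
    have hle : d ≤ 10 := Nat.le_of_dvd (by norm_num) h1
    have h4' : d ≤ 20 → 89 ^ 1 * 10 ∣ d.factorial := fun _ => h4
    have key : ∀ d ≤ 10, ¬ (d ∣ 10 ∧ d % 89 = 1 ∧ d ≠ 1 ∧ (d ≤ 20 → 89 ^ 1 * 10 ∣ d.factorial) ∧ (1 = 1 → ¬ Nat.Coprime (89 ^ 1 * 10 / d) (89 - 1))) := by decide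
    exact key d hle ⟨h1, h2, h3, h4', h5⟩
  · exact false_of_two_primes hG 3 11 4 1 (by norm_num) (by norm_num) (hn.trans (by norm_num))
  · exact false_of_two_primes hG 2 223 2 1 (by norm_num) (by norm_num) (hn.trans (by norm_num))
  · exact false_of_two_primes hG 19 47 1 1 (by norm_num) (by norm_num) (hn.trans (by norm_num))
  · obtain ⟨d, h1, h2, h3, h4, h5⟩ := SimpleSmall.sylow_count (G := G) 149 1 6 (by norm_num) (hn.trans (by norm_num)) (by norm_num) (by norm_num) (by norm_num)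
    have hle : d ≤ 6 := Nat.le_of_dvd (by norm_num) h1
    have h4' : d ≤ 20 → 149 ^ 1 * 6 ∣ d.factorial := fun _ => h4
    have key : ∀ d ≤ 6, ¬ (d ∣ 6 ∧ d % 149 = 1 ∧ d ≠ 1 ∧ (d ≤ 20 → 149 ^ 1 * 6 ∣ d.factorial) ∧ (1 = 1 → ¬ Nat.Coprime (149 ^ 1 * 6 / d) (149 - 1))) := by decide
    exact key d hle ⟨h1, h2, h3, h4', h5⟩
  · exact false_of_two_primes hG 5 179 1 1 (by norm_num) (by norm_num) (hn.trans (by norm_num))
  · exact false_of_two_primes hG 2 7 7 1 (by norm_num) (by norm_num) (hn.trans (by norm_num))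
  · obtain ⟨d, h1, h2, h3, h4, h5⟩ := SimpleSmall.sylow_count (G := G) 23 1 39 (by norm_num) (hn.trans (by norm_num)) (by norm_num) (by norm_num) (by norm_num)
    have hle : d ≤ 39 := Nat.le_of_dvd (by norm_num) h1
    have h4' : d ≤ 20 → 23 ^ 1 * 39 ∣ d.factorial := fun _ => h4
    have key : ∀ d ≤ 39, ¬ (d ∣ 39 ∧ d % 23 = 1 ∧ d ≠ 1 ∧ (d ≤ 20 → 23 ^ 1 * 39 ∣ d.factorial) ∧ (1 = 1 → ¬ Nat.Coprime (23 ^ 1 * 39 / d) (23 - 1))) := by decide
    exact key d hle ⟨h1, h2, h3, h4', h5⟩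
  · exact false_of_two_primes hG 2 449 1 1 (by norm_num) (by norm_num) (hn.trans (by norm_num))
  · exact false_of_two_primes hG 29 31 1 1 (by norm_num) (by norm_num) (hn.trans (by norm_num))
  · have : Fact (Nat.Prime 5) := ⟨by norm_num⟩
    obtain ⟨d, -, h1, h2, h3, h4, h5, h6, h7, h8, h9⟩ := sylow_count3 (G := G) hG 5 2 36 (hn.trans (by norm_num)) (by norm_num) (by norm_num) (by norm_num)
    have hle : d ≤ 36 := Nat.le_of_dvd (by norm_num) h1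
    have h4' : d ≤ 20 → 5 ^ 2 * 36 ∣ d.factorial := fun _ => h4
    clear h4
    interval_cases d <;> revert h1 h2 h3 h4' h5 h9 <;> decide
  · exact false_of_two_primes hG 17 53 1 1 (by norm_num) (by norm_num) (hn.trans (by norm_num))
  · obtain ⟨d, h1, h2, h3, h4, h5⟩ := SimpleSmall.sylow_count (G := G) 41 1 22 (by norm_num) (hn.trans (by norm_num)) (by norm_num) (by norm_num) (by norm_num)
    have hle : d ≤ 22 := Nat.le_of_dvd (by norm_num) h1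
    have h4' : d ≤ 20 → 41 ^ 1 * 22 ∣ d.factorial := fun _ => h4
    have key : ∀ d ≤ 22, ¬ (d ∣ 22 ∧ d % 41 = 1 ∧ d ≠ 1 ∧ (d ≤ 20 → 41 ^ 1 * 22 ∣ d.factorial) ∧ (1 = 1 → ¬ Nat.Coprime (41 ^ 1 * 22 / d) (41 - 1))) := by decide
    exact key d hle ⟨h1, h2, h3, h4', h5⟩
  · obtain ⟨d, h1, h2, h3, h4, h5⟩ := SimpleSmall.sylow_count (G := G) 43 1 21 (by norm_num) (hn.trans (by norm_num)) (by norm_num) (by norm_num) (by norm_num)
    have hle : d ≤ 21 := Nat.le_of_dvd (by norm_num) h1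
    have h4' : d ≤ 20 → 43 ^ 1 * 21 ∣ d.factorial := fun _ => h4
    have key : ∀ d ≤ 21, ¬ (d ∣ 21 ∧ d % 43 = 1 ∧ d ≠ 1 ∧ (d ≤ 20 → 43 ^ 1 * 21 ∣ d.factorial) ∧ (1 = 1 → ¬ Nat.Coprime (43 ^ 1 * 21 / d) (43 - 1))) := by decide
    exact key d hle ⟨h1, h2, h3, h4', h5⟩
  · exact false_of_two_primes hG 2 113 3 1 (by norm_num) (by norm_num) (hn.trans (by norm_num))
  · exact false_of_two_primes hG 5 181 1 1 (by norm_num) (by norm_num) (hn.trans (by norm_num))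
  · obtain ⟨d, h1, h2, h3, h4, h5⟩ := SimpleSmall.sylow_count (G := G) 151 1 6 (by norm_num) (hn.trans (by norm_num)) (by norm_num) (by norm_num) (by norm_num)
    have hle : d ≤ 6 := Nat.le_of_dvd (by norm_num) h1
    have h4' : d ≤ 20 → 151 ^ 1 * 6 ∣ d.factorial := fun _ => h4
    have key : ∀ d ≤ 6, ¬ (d ∣ 6 ∧ d % 151 = 1 ∧ d ≠ 1 ∧ (d ≤ 20 → 151 ^ 1 * 6 ∣ d.factorial) ∧ (1 = 1 → ¬ Nat.Coprime (151 ^ 1 * 6 / d) (151 - 1))) := by decide
    exact key d hle ⟨h1, h2, h3, h4', h5⟩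
  · exact false_of_prime_pow hG 907 1 (by norm_num) (hn.trans (by norm_num))
  · exact false_of_two_primes hG 2 227 2 1 (by norm_num) (by norm_num) (hn.trans (by norm_num))
  · exact false_of_two_primes hG 3 101 2 1 (by norm_num) (by norm_num) (hn.trans (by norm_num))
  · obtain ⟨d, h1, h2, h3, h4, h5⟩ := SimpleSmall.sylow_count (G := G) 13 1 70 (by norm_num) (hn.trans (by norm_num)) (by norm_num) (by norm_num) (by norm_num)
    have hle : d ≤ 70 := Nat.le_of_dvd (by norm_num) h1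
    have h4' : d ≤ 20 → 13 ^ 1 * 70 ∣ d.factorial := fun _ => h4
    have key : ∀ d ≤ 70, ¬ (d ∣ 70 ∧ d % 13 = 1 ∧ d ≠ 1 ∧ (d ≤ 20 → 13 ^ 1 * 70 ∣ d.factorial) ∧ (1 = 1 → ¬ Nat.Coprime (13 ^ 1 * 70 / d) (13 - 1))) := by decide
    exact key d hle ⟨h1, h2, h3, h4', h5⟩
  · exact false_of_prime_pow hG 911 1 (by norm_num) (hn.trans (by norm_num))
  · obtain ⟨d, h1, h2, h3, h4, h5⟩ := SimpleSmall.sylow_count (G := G) 19 1 48 (by norm_num) (hn.trans (by norm_num)) (by norm_num) (by norm_num) (by norm_num)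
    have hle : d ≤ 48 := Nat.le_of_dvd (by norm_num) h1
    have h4' : d ≤ 20 → 19 ^ 1 * 48 ∣ d.factorial := fun _ => h4
    have key : ∀ d ≤ 48, ¬ (d ∣ 48 ∧ d % 19 = 1 ∧ d ≠ 1 ∧ (d ≤ 20 → 19 ^ 1 * 48 ∣ d.factorial) ∧ (1 = 1 → ¬ Nat.Coprime (19 ^ 1 * 48 / d) (19 - 1))) := by decide
    exact key d hle ⟨h1, h2, h3, h4', h5⟩
  · exact false_of_two_primes hG 11 83 1 1 (by norm_num) (by norm_num) (hn.trans (by norm_num))
  · exact false_of_two_primes hG 2 457 1 1 (by norm_num) (by norm_num) (hn.trans (by norm_num))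
  · obtain ⟨d, h1, h2, h3, h4, h5⟩ := SimpleSmall.sylow_count (G := G) 61 1 15 (by norm_num) (hn.trans (by norm_num)) (by norm_num) (by norm_num) (by norm_num)
    have hle : d ≤ 15 := Nat.le_of_dvd (by norm_num) h1
    have h4' : d ≤ 20 → 61 ^ 1 * 15 ∣ d.factorial := fun _ => h4
    have key : ∀ d ≤ 15, ¬ (d ∣ 15 ∧ d % 61 = 1 ∧ d ≠ 1 ∧ (d ≤ 20 → 61 ^ 1 * 15 ∣ d.factorial) ∧ (1 = 1 → ¬ Nat.Coprime (61 ^ 1 * 15 / d) (61 - 1))) := by decide
    exact key d hle ⟨h1, h2, h3, h4', h5⟩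
  · exact false_of_two_primes hG 2 229 2 1 (by norm_num) (by norm_num) (hn.trans (by norm_num))
  · exact false_of_two_primes hG 7 131 1 1 (by norm_num) (by norm_num) (hn.trans (by norm_num))
  · obtain ⟨d, h1, h2, h3, h4, h5⟩ := SimpleSmall.sylow_count (G := G) 17 1 54 (by norm_num) (hn.trans (by norm_num)) (by norm_num) (by norm_num) (by norm_num)
    have hle : d ≤ 54 := Nat.le_of_dvd (by norm_num) h1
    have h4' : d ≤ 20 → 17 ^ 1 * 54 ∣ d.factorial := fun _ => h4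
    have key : ∀ d ≤ 54, ¬ (d ∣ 54 ∧ d % 17 = 1 ∧ d ≠ 1 ∧ (d ≤ 20 → 17 ^ 1 * 54 ∣ d.factorial) ∧ (1 = 1 → ¬ Nat.Coprime (17 ^ 1 * 54 / d) (17 - 1))) := by decide
    exact key d hle ⟨h1, h2, h3, h4', h5⟩
  · exact false_of_prime_pow hG 919 1 (by norm_num) (hn.trans (by norm_num))
  · obtain ⟨d, h1, h2, h3, h4, h5⟩ := SimpleSmall.sylow_count (G := G) 23 1 40 (by norm_num) (hn.trans (by norm_num)) (by norm_num) (by norm_num) (by norm_num)
    have hle : d ≤ 40 := Nat.le_of_dvd (by norm_num) h1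
    have h4' : d ≤ 20 → 23 ^ 1 * 40 ∣ d.factorial := fun _ => h4
    have key : ∀ d ≤ 40, ¬ (d ∣ 40 ∧ d % 23 = 1 ∧ d ≠ 1 ∧ (d ≤ 20 → 23 ^ 1 * 40 ∣ d.factorial) ∧ (1 = 1 → ¬ Nat.Coprime (23 ^ 1 * 40 / d) (23 - 1))) := by decide
    exact key d hle ⟨h1, h2, h3, h4', h5⟩
  · exact false_of_two_primes hG 3 307 1 1 (by norm_num) (by norm_num) (hn.trans (by norm_num))
  · exact false_of_two_primes hG 2 461 1 1 (by norm_num) (by norm_num) (hn.trans (by norm_num))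
  · exact false_of_two_primes hG 13 71 1 1 (by norm_num) (by norm_num) (hn.trans (by norm_num))
  · obtain ⟨d, h1, h2, h3, h4, h5⟩ := SimpleSmall.sylow_count (G := G) 11 1 84 (by norm_num) (hn.trans (by norm_num)) (by norm_num) (by norm_num) (by norm_num)
    have hle : d ≤ 84 := Nat.le_of_dvd (by norm_num) h1
    have h4' : d ≤ 20 → 11 ^ 1 * 84 ∣ d.factorial := fun _ => h4
    have key : ∀ d ≤ 84, ¬ (d ∣ 84 ∧ d % 11 = 1 ∧ d ≠ 1 ∧ (d ≤ 20 → 11 ^ 1 * 84 ∣ d.factorial) ∧ (1 = 1 → ¬ Nat.Coprime (11 ^ 1 * 84 / d) (11 - 1))) := by decide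
    exact key d hle ⟨h1, h2, h3, h4', h5⟩
  · exact false_of_two_primes hG 5 37 2 1 (by norm_num) (by norm_num) (hn.trans (by norm_num))
  · exact false_of_two_primes hG 2 463 1 1 (by norm_num) (by norm_num) (hn.trans (by norm_num))
  · exact false_of_two_primes hG 3 103 2 1 (by norm_num) (by norm_num) (hn.trans (by norm_num))
  · exact false_of_two_primes hG 2 29 5 1 (by norm_num) (by norm_num) (hn.trans (by norm_num))
  · exact false_of_prime_pow hG 929 1 (by norm_num) (hn.trans (by norm_num))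
  · obtain ⟨d, h1, h2, h3, h4, h5⟩ := SimpleSmall.sylow_count (G := G) 31 1 30 (by norm_num) (hn.trans (by norm_num)) (by norm_num) (by norm_num) (by norm_num)
    have hle : d ≤ 30 := Nat.le_of_dvd (by norm_num) h1
    have h4' : d ≤ 20 → 31 ^ 1 * 30 ∣ d.factorial := fun _ => h4
    have key : ∀ d ≤ 30, ¬ (d ∣ 30 ∧ d % 31 = 1 ∧ d ≠ 1 ∧ (d ≤ 20 → 31 ^ 1 * 30 ∣ d.factorial) ∧ (1 = 1 → ¬ Nat.Coprime (31 ^ 1 * 30 / d) (31 - 1))) := by decide
    exact key d hle ⟨h1, h2, h3, h4', h5⟩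
  · exact false_of_two_primes hG 7 19 2 1 (by norm_num) (by norm_num) (hn.trans (by norm_num))
  · exact false_of_two_primes hG 2 233 2 1 (by norm_num) (by norm_num) (hn.trans (by norm_num))
  · exact false_of_two_primes hG 3 311 1 1 (by norm_num) (by norm_num) (hn.trans (by norm_num))
  · exact false_of_two_primes hG 2 467 1 1 (by norm_num) (by norm_num) (hn.trans (by norm_num))
  · obtain ⟨d, h1, h2, h3, h4, h5⟩ := SimpleSmall.sylow_count (G := G) 17 1 55 (by norm_num) (hn.trans (by norm_num)) (by norm_num) (by norm_num) (by norm_num)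
    have hle : d ≤ 55 := Nat.le_of_dvd (by norm_num) h1
    have h4' : d ≤ 20 → 17 ^ 1 * 55 ∣ d.factorial := fun _ => h4
    have key : ∀ d ≤ 55, ¬ (d ∣ 55 ∧ d % 17 = 1 ∧ d ≠ 1 ∧ (d ≤ 20 → 17 ^ 1 * 55 ∣ d.factorial) ∧ (1 = 1 → ¬ Nat.Coprime (17 ^ 1 * 55 / d) (17 - 1))) := by decide
    exact key d hle ⟨h1, h2, h3, h4', h5⟩
  · obtain ⟨d, h1, h2, h3, h4, h5⟩ := SimpleSmall.sylow_count (G := G) 13 1 72 (by norm_num) (hn.trans (by norm_num)) (by norm_num) (by norm_num) (by norm_num)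
    have hle : d ≤ 72 := Nat.le_of_dvd (by norm_num) h1
    have h4' : d ≤ 20 → 13 ^ 1 * 72 ∣ d.factorial := fun _ => h4
    have key : ∀ d ≤ 72, ¬ (d ∣ 72 ∧ d % 13 = 1 ∧ d ≠ 1 ∧ (d ≤ 20 → 13 ^ 1 * 72 ∣ d.factorial) ∧ (1 = 1 → ¬ Nat.Coprime (13 ^ 1 * 72 / d) (13 - 1))) := by decide
    exact key d hle ⟨h1, h2, h3, h4', h5⟩
  · exact false_of_prime_pow hG 937 1 (by norm_num) (hn.trans (by norm_num))
  · obtain ⟨d, h1, h2, h3, h4, h5⟩ := SimpleSmall.sylow_count (G := G) 67 1 14 (by norm_num) (hn.trans (by norm_num)) (by norm_num) (by norm_num) (by norm_num)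
    have hle : d ≤ 14 := Nat.le_of_dvd (by norm_num) h1
    have h4' : d ≤ 20 → 67 ^ 1 * 14 ∣ d.factorial := fun _ => h4
    have key : ∀ d ≤ 14, ¬ (d ∣ 14 ∧ d % 67 = 1 ∧ d ≠ 1 ∧ (d ≤ 20 → 67 ^ 1 * 14 ∣ d.factorial) ∧ (1 = 1 → ¬ Nat.Coprime (67 ^ 1 * 14 / d) (67 - 1))) := by decide
    exact key d hle ⟨h1, h2, h3, h4', h5⟩
  · exact false_of_two_primes hG 3 313 1 1 (by norm_num) (by norm_num) (hn.trans (by norm_num))
  · obtain ⟨d, h1, h2, h3, h4, h5⟩ := SimpleSmall.sylow_count (G := G) 47 1 20 (by norm_num) (hn.trans (by norm_num)) (by norm_num) (by norm_num) (by norm_num)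
    have hle : d ≤ 20 := Nat.le_of_dvd (by norm_num) h1
    have h4' : d ≤ 20 → 47 ^ 1 * 20 ∣ d.factorial := fun _ => h4
    have key : ∀ d ≤ 20, ¬ (d ∣ 20 ∧ d % 47 = 1 ∧ d ≠ 1 ∧ (d ≤ 20 → 47 ^ 1 * 20 ∣ d.factorial) ∧ (1 = 1 → ¬ Nat.Coprime (47 ^ 1 * 20 / d) (47 - 1))) := by decide
    exact key d hle ⟨h1, h2, h3, h4', h5⟩
  · exact false_of_prime_pow hG 941 1 (by norm_num) (hn.trans (by norm_num))
  · obtain ⟨d, h1, h2, h3, h4, h5⟩ := SimpleSmall.sylow_count (G := G) 157 1 6 (by norm_num) (hn.trans (by norm_num)) (by norm_num) (by norm_num) (by norm_num)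
    have hle : d ≤ 6 := Nat.le_of_dvd (by norm_num) h1
    have h4' : d ≤ 20 → 157 ^ 1 * 6 ∣ d.factorial := fun _ => h4
    have key : ∀ d ≤ 6, ¬ (d ∣ 6 ∧ d % 157 = 1 ∧ d ≠ 1 ∧ (d ≤ 20 → 157 ^ 1 * 6 ∣ d.factorial) ∧ (1 = 1 → ¬ Nat.Coprime (157 ^ 1 * 6 / d) (157 - 1))) := by decide
    exact key d hle ⟨h1, h2, h3, h4', h5⟩
  · exact false_of_two_primes hG 23 41 1 1 (by norm_num) (by norm_num) (hn.trans (by norm_num))
  · exact false_of_two_primes hG 2 59 4 1 (by norm_num) (by norm_num) (hn.trans (by norm_num))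
  · obtain ⟨d, h1, h2, h3, h4, h5⟩ := SimpleSmall.sylow_count (G := G) 3 3 35 (by norm_num) (hn.trans (by norm_num)) (by norm_num) (by norm_num) (by norm_num)
    have hle : d ≤ 35 := Nat.le_of_dvd (by norm_num) h1
    have h4' : d ≤ 20 → 3 ^ 3 * 35 ∣ d.factorial := fun _ => h4
    have key : ∀ d ≤ 35, ¬ (d ∣ 35 ∧ d % 3 = 1 ∧ d ≠ 1 ∧ (d ≤ 20 → 3 ^ 3 * 35 ∣ d.factorial) ∧ (3 = 1 → ¬ Nat.Coprime (3 ^ 3 * 35 / d) (3 - 1))) := by decide
    exact key d hle ⟨h1, h2, h3, h4', h5⟩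
  · obtain ⟨d, h1, h2, h3, h4, h5⟩ := SimpleSmall.sylow_count (G := G) 43 1 22 (by norm_num) (hn.trans (by norm_num)) (by norm_num) (by norm_num) (by norm_num)
    have hle : d ≤ 22 := Nat.le_of_dvd (by norm_num) h1
    have h4' : d ≤ 20 → 43 ^ 1 * 22 ∣ d.factorial := fun _ => h4
    have key : ∀ d ≤ 22, ¬ (d ∣ 22 ∧ d % 43 = 1 ∧ d ≠ 1 ∧ (d ≤ 20 → 43 ^ 1 * 22 ∣ d.factorial) ∧ (1 = 1 → ¬ Nat.Coprime (43 ^ 1 * 22 / d) (43 - 1))) := by decide
    exact key d hle ⟨h1, h2, h3, h4', h5⟩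
  · exact false_of_prime_pow hG 947 1 (by norm_num) (hn.trans (by norm_num))
  · obtain ⟨d, h1, h2, h3, h4, h5⟩ := SimpleSmall.sylow_count (G := G) 79 1 12 (by norm_num) (hn.trans (by norm_num)) (by norm_num) (by norm_num) (by norm_num)
    have hle : d ≤ 12 := Nat.le_of_dvd (by norm_num) h1
    have h4' : d ≤ 20 → 79 ^ 1 * 12 ∣ d.factorial := fun _ => h4
    have key : ∀ d ≤ 12, ¬ (d ∣ 12 ∧ d % 79 = 1 ∧ d ≠ 1 ∧ (d ≤ 20 → 79 ^ 1 * 12 ∣ d.factorial) ∧ (1 = 1 → ¬ Nat.Coprime (79 ^ 1 * 12 / d) (79 - 1))) := by decide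
    exact key d hle ⟨h1, h2, h3, h4', h5⟩
  · exact false_of_two_primes hG 13 73 1 1 (by norm_num) (by norm_num) (hn.trans (by norm_num))
  · obtain ⟨d, h1, h2, h3, h4, h5⟩ := SimpleSmall.sylow_count (G := G) 5 2 38 (by norm_num) (hn.trans (by norm_num)) (by norm_num) (by norm_num) (by norm_num)
    have hle : d ≤ 38 := Nat.le_of_dvd (by norm_num) h1
    have h4' : d ≤ 20 → 5 ^ 2 * 38 ∣ d.factorial := fun _ => h4
    have key : ∀ d ≤ 38, ¬ (d ∣ 38 ∧ d % 5 = 1 ∧ d ≠ 1 ∧ (d ≤ 20 → 5 ^ 2 * 38 ∣ d.factorial) ∧ (2 = 1 → ¬ Nat.Coprime (5 ^ 2 * 38 / d) (5 - 1))) := by decide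
    exact key d hle ⟨h1, h2, h3, h4', h5⟩
  · exact false_of_two_primes hG 3 317 1 1 (by norm_num) (by norm_num) (hn.trans (by norm_num))
  · obtain ⟨d, h1, h2, h3, h4, h5⟩ := SimpleSmall.sylow_count (G := G) 17 1 56 (by norm_num) (hn.trans (by norm_num)) (by norm_num) (by norm_num) (by norm_num)
    have hle : d ≤ 56 := Nat.le_of_dvd (by norm_num) h1
    have h4' : d ≤ 20 → 17 ^ 1 * 56 ∣ d.factorial := fun _ => h4
    have key : ∀ d ≤ 56, ¬ (d ∣ 56 ∧ d % 17 = 1 ∧ d ≠ 1 ∧ (d ≤ 20 → 17 ^ 1 * 56 ∣ d.factorial) ∧ (1 = 1 → ¬ Nat.Coprime (17 ^ 1 * 56 / d) (17 - 1))) := by decide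
    exact key d hle ⟨h1, h2, h3, h4', h5⟩
  · exact false_of_prime_pow hG 953 1 (by norm_num) (hn.trans (by norm_num))
  · obtain ⟨d, h1, h2, h3, h4, h5⟩ := SimpleSmall.sylow_count (G := G) 53 1 18 (by norm_num) (hn.trans (by norm_num)) (by norm_num) (by norm_num) (by norm_num)
    have hle : d ≤ 18 := Nat.le_of_dvd (by norm_num) h1
    have h4' : d ≤ 20 → 53 ^ 1 * 18 ∣ d.factorial := fun _ => h4
    have key : ∀ d ≤ 18, ¬ (d ∣ 18 ∧ d % 53 = 1 ∧ d ≠ 1 ∧ (d ≤ 20 → 53 ^ 1 * 18 ∣ d.factorial) ∧ (1 = 1 → ¬ Nat.Coprime (53 ^ 1 * 18 / d) (53 - 1))) := by decide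
    exact key d hle ⟨h1, h2, h3, h4', h5⟩
  · exact false_of_two_primes hG 5 191 1 1 (by norm_num) (by norm_num) (hn.trans (by norm_num))
  · exact false_of_two_primes hG 2 239 2 1 (by norm_num) (by norm_num) (hn.trans (by norm_num))
  · obtain ⟨d, h1, h2, h3, h4, h5⟩ := SimpleSmall.sylow_count (G := G) 29 1 33 (by norm_num) (hn.trans (by norm_num)) (by norm_num) (by norm_num) (by norm_num)
    have hle : d ≤ 33 := Nat.le_of_dvd (by norm_num) h1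
    have h4' : d ≤ 20 → 29 ^ 1 * 33 ∣ d.factorial := fun _ => h4
    have key : ∀ d ≤ 33, ¬ (d ∣ 33 ∧ d % 29 = 1 ∧ d ≠ 1 ∧ (d ≤ 20 → 29 ^ 1 * 33 ∣ d.factorial) ∧ (1 = 1 → ¬ Nat.Coprime (29 ^ 1 * 33 / d) (29 - 1))) := by decide
    exact key d hle ⟨h1, h2, h3, h4', h5⟩
  · exact false_of_two_primes hG 2 479 1 1 (by norm_num) (by norm_num) (hn.trans (by norm_num))
  · exact false_of_two_primes hG 7 137 1 1 (by norm_num) (by norm_num) (hn.trans (by norm_num))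
  · have : Fact (Nat.Prime 2) := ⟨by norm_num⟩
    obtain ⟨d, -, h1, h2, h3, h4, h5, h6, h7, h8, h9⟩ := sylow_count3 (G := G) hG 2 6 15 (hn.trans (by norm_num)) (by norm_num) (by norm_num) (by norm_num)
    have hle : d ≤ 15 := Nat.le_of_dvd (by norm_num) h1
    have h4' : d ≤ 20 → 2 ^ 6 * 15 ∣ d.factorial := fun _ => h4
    clear h4
    interval_cases d <;> revert h1 h2 h3 h4' h5 h7 <;> decide
  · exact false_of_prime_pow hG 31 2 (by norm_num) (hn.trans (by norm_num))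
  · obtain ⟨d, h1, h2, h3, h4, h5⟩ := SimpleSmall.sylow_count (G := G) 37 1 26 (by norm_num) (hn.trans (by norm_num)) (by norm_num) (by norm_num) (by norm_num)
    have hle : d ≤ 26 := Nat.le_of_dvd (by norm_num) h1
    have h4' : d ≤ 20 → 37 ^ 1 * 26 ∣ d.factorial := fun _ => h4
    have key : ∀ d ≤ 26, ¬ (d ∣ 26 ∧ d % 37 = 1 ∧ d ≠ 1 ∧ (d ≤ 20 → 37 ^ 1 * 26 ∣ d.factorial) ∧ (1 = 1 → ¬ Nat.Coprime (37 ^ 1 * 26 / d) (37 - 1))) := by decide
    exact key d hle ⟨h1, h2, h3, h4', h5⟩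
  · exact false_of_two_primes hG 3 107 2 1 (by norm_num) (by norm_num) (hn.trans (by norm_num))
  · exact false_of_two_primes hG 2 241 2 1 (by norm_num) (by norm_num) (hn.trans (by norm_num))
  · exact false_of_two_primes hG 5 193 1 1 (by norm_num) (by norm_num) (hn.trans (by norm_num))
  · obtain ⟨d, h1, h2, h3, h4, h5⟩ := SimpleSmall.sylow_count (G := G) 23 1 42 (by norm_num) (hn.trans (by norm_num)) (by norm_num) (by norm_num) (by norm_num)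
    have hle : d ≤ 42 := Nat.le_of_dvd (by norm_num) h1
    have h4' : d ≤ 20 → 23 ^ 1 * 42 ∣ d.factorial := fun _ => h4
    have key : ∀ d ≤ 42, ¬ (d ∣ 42 ∧ d % 23 = 1 ∧ d ≠ 1 ∧ (d ≤ 20 → 23 ^ 1 * 42 ∣ d.factorial) ∧ (1 = 1 → ¬ Nat.Coprime (23 ^ 1 * 42 / d) (23 - 1))) := by decide
    exact key d hle ⟨h1, h2, h3, h4', h5⟩
  · exact false_of_prime_pow hG 967 1 (by norm_num) (hn.trans (by norm_num))
  · exact false_of_two_primes hG 2 11 3 2 (by norm_num) (by norm_num) (hn.trans (by norm_num))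
  · obtain ⟨d, h1, h2, h3, h4, h5⟩ := SimpleSmall.sylow_count (G := G) 19 1 51 (by norm_num) (hn.trans (by norm_num)) (by norm_num) (by norm_num) (by norm_num)
    have hle : d ≤ 51 := Nat.le_of_dvd (by norm_num) h1
    have h4' : d ≤ 20 → 19 ^ 1 * 51 ∣ d.factorial := fun _ => h4
    have key : ∀ d ≤ 51, ¬ (d ∣ 51 ∧ d % 19 = 1 ∧ d ≠ 1 ∧ (d ≤ 20 → 19 ^ 1 * 51 ∣ d.factorial) ∧ (1 = 1 → ¬ Nat.Coprime (19 ^ 1 * 51 / d) (19 - 1))) := by decide
    exact key d hle ⟨h1, h2, h3, h4', h5⟩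
  · obtain ⟨d, h1, h2, h3, h4, h5⟩ := SimpleSmall.sylow_count (G := G) 97 1 10 (by norm_num) (hn.trans (by norm_num)) (by norm_num) (by norm_num) (by norm_num)
    have hle : d ≤ 10 := Nat.le_of_dvd (by norm_num) h1
    have h4' : d ≤ 20 → 97 ^ 1 * 10 ∣ d.factorial := fun _ => h4
    have key : ∀ d ≤ 10, ¬ (d ∣ 10 ∧ d % 97 = 1 ∧ d ≠ 1 ∧ (d ≤ 20 → 97 ^ 1 * 10 ∣ d.factorial) ∧ (1 = 1 → ¬ Nat.Coprime (97 ^ 1 * 10 / d) (97 - 1))) := by decide
    exact key d hle ⟨h1, h2, h3, h4', h5⟩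
  · exact false_of_prime_pow hG 971 1 (by norm_num) (hn.trans (by norm_num))
  · exact false_of_two_primes hG 2 3 2 5 (by norm_num) (by norm_num) (hn.trans (by norm_num))
  · exact false_of_two_primes hG 7 139 1 1 (by norm_num) (by norm_num) (hn.trans (by norm_num))
  · exact false_of_two_primes hG 2 487 1 1 (by norm_num) (by norm_num) (hn.trans (by norm_num))
  · obtain ⟨d, h1, h2, h3, h4, h5⟩ := SimpleSmall.sylow_count (G := G) 5 2 39 (by norm_num) (hn.trans (by norm_num)) (by norm_num) (by norm_num) (by norm_num)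
    have hle : d ≤ 39 := Nat.le_of_dvd (by norm_num) h1
    have h4' : d ≤ 20 → 5 ^ 2 * 39 ∣ d.factorial := fun _ => h4
    have key : ∀ d ≤ 39, ¬ (d ∣ 39 ∧ d % 5 = 1 ∧ d ≠ 1 ∧ (d ≤ 20 → 5 ^ 2 * 39 ∣ d.factorial) ∧ (2 = 1 → ¬ Nat.Coprime (5 ^ 2 * 39 / d) (5 - 1))) := by decide
    exact key d hle ⟨h1, h2, h3, h4', h5⟩
  · exact false_of_two_primes hG 2 61 4 1 (by norm_num) (by norm_num) (hn.trans (by norm_num))
  · exact false_of_prime_pow hG 977 1 (by norm_num) (hn.trans (by norm_num))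
  · obtain ⟨d, h1, h2, h3, h4, h5⟩ := SimpleSmall.sylow_count (G := G) 163 1 6 (by norm_num) (hn.trans (by norm_num)) (by norm_num) (by norm_num) (by norm_num)
    have hle : d ≤ 6 := Nat.le_of_dvd (by norm_num) h1
    have h4' : d ≤ 20 → 163 ^ 1 * 6 ∣ d.factorial := fun _ => h4
    have key : ∀ d ≤ 6, ¬ (d ∣ 6 ∧ d % 163 = 1 ∧ d ≠ 1 ∧ (d ≤ 20 → 163 ^ 1 * 6 ∣ d.factorial) ∧ (1 = 1 → ¬ Nat.Coprime (163 ^ 1 * 6 / d) (163 - 1))) := by decide
    exact key d hle ⟨h1, h2, h3, h4', h5⟩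
  · exact false_of_two_primes hG 11 89 1 1 (by norm_num) (by norm_num) (hn.trans (by norm_num))
  · obtain ⟨d, h1, h2, h3, h4, h5⟩ := SimpleSmall.sylow_count (G := G) 7 2 20 (by norm_num) (hn.trans (by norm_num)) (by norm_num) (by norm_num) (by norm_num)
    have hle : d ≤ 20 := Nat.le_of_dvd (by norm_num) h1
    have h4' : d ≤ 20 → 7 ^ 2 * 20 ∣ d.factorial := fun _ => h4
    have key : ∀ d ≤ 20, ¬ (d ∣ 20 ∧ d % 7 = 1 ∧ d ≠ 1 ∧ (d ≤ 20 → 7 ^ 2 * 20 ∣ d.factorial) ∧ (2 = 1 → ¬ Nat.Coprime (7 ^ 2 * 20 / d) (7 - 1))) := by decide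
    exact key d hle ⟨h1, h2, h3, h4', h5⟩
  · exact false_of_two_primes hG 3 109 2 1 (by norm_num) (by norm_num) (hn.trans (by norm_num))
  · exact false_of_two_primes hG 2 491 1 1 (by norm_num) (by norm_num) (hn.trans (by norm_num))
  · exact false_of_prime_pow hG 983 1 (by norm_num) (hn.trans (by norm_num))
  · obtain ⟨d, h1, h2, h3, h4, h5⟩ := SimpleSmall.sylow_count (G := G) 41 1 24 (by norm_num) (hn.trans (by norm_num)) (by norm_num) (by norm_num) (by norm_num)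
    have hle : d ≤ 24 := Nat.le_of_dvd (by norm_num) h1
    have h4' : d ≤ 20 → 41 ^ 1 * 24 ∣ d.factorial := fun _ => h4
    have key : ∀ d ≤ 24, ¬ (d ∣ 24 ∧ d % 41 = 1 ∧ d ≠ 1 ∧ (d ≤ 20 → 41 ^ 1 * 24 ∣ d.factorial) ∧ (1 = 1 → ¬ Nat.Coprime (41 ^ 1 * 24 / d) (41 - 1))) := by decide
    exact key d hle ⟨h1, h2, h3, h4', h5⟩
  · exact false_of_two_primes hG 5 197 1 1 (by norm_num) (by norm_num) (hn.trans (by norm_num))
  · obtain ⟨d, h1, h2, h3, h4, h5⟩ := SimpleSmall.sylow_count (G := G) 29 1 34 (by norm_num) (hn.trans (by norm_num)) (by norm_num) (by norm_num) (by norm_num)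
    have hle : d ≤ 34 := Nat.le_of_dvd (by norm_num) h1
    have h4' : d ≤ 20 → 29 ^ 1 * 34 ∣ d.factorial := fun _ => h4
    have key : ∀ d ≤ 34, ¬ (d ∣ 34 ∧ d % 29 = 1 ∧ d ≠ 1 ∧ (d ≤ 20 → 29 ^ 1 * 34 ∣ d.factorial) ∧ (1 = 1 → ¬ Nat.Coprime (29 ^ 1 * 34 / d) (29 - 1))) := by decide
    exact key d hle ⟨h1, h2, h3, h4', h5⟩
  · obtain ⟨d, h1, h2, h3, h4, h5⟩ := SimpleSmall.sylow_count (G := G) 47 1 21 (by norm_num) (hn.trans (by norm_num)) (by norm_num) (by norm_num) (by norm_num)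
    have hle : d ≤ 21 := Nat.le_of_dvd (by norm_num) h1
    have h4' : d ≤ 20 → 47 ^ 1 * 21 ∣ d.factorial := fun _ => h4
    have key : ∀ d ≤ 21, ¬ (d ∣ 21 ∧ d % 47 = 1 ∧ d ≠ 1 ∧ (d ≤ 20 → 47 ^ 1 * 21 ∣ d.factorial) ∧ (1 = 1 → ¬ Nat.Coprime (47 ^ 1 * 21 / d) (47 - 1))) := by decide
    exact key d hle ⟨h1, h2, h3, h4', h5⟩
  · obtain ⟨d, h1, h2, h3, h4, h5⟩ := SimpleSmall.sylow_count (G := G) 19 1 52 (by norm_num) (hn.trans (by norm_num)) (by norm_num) (by norm_num) (by norm_num)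
    have hle : d ≤ 52 := Nat.le_of_dvd (by norm_num) h1
    have h4' : d ≤ 20 → 19 ^ 1 * 52 ∣ d.factorial := fun _ => h4
    have key : ∀ d ≤ 52, ¬ (d ∣ 52 ∧ d % 19 = 1 ∧ d ≠ 1 ∧ (d ≤ 20 → 19 ^ 1 * 52 ∣ d.factorial) ∧ (1 = 1 → ¬ Nat.Coprime (19 ^ 1 * 52 / d) (19 - 1))) := by decide
    exact key d hle ⟨h1, h2, h3, h4', h5⟩
  · exact false_of_two_primes hG 23 43 1 1 (by norm_num) (by norm_num) (hn.trans (by norm_num))
  · obtain ⟨d, h1, h2, h3, h4, h5⟩ := SimpleSmall.sylow_count (G := G) 2 1 495 (by norm_num) (hn.trans (by norm_num)) (by norm_num) (by norm_num) (by norm_num)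
    exact h5 rfl (by simp)
  · exact false_of_prime_pow hG 991 1 (by norm_num) (hn.trans (by norm_num))
  · exact false_of_two_primes hG 2 31 5 1 (by norm_num) (by norm_num) (hn.trans (by norm_num))
  · exact false_of_two_primes hG 3 331 1 1 (by norm_num) (by norm_num) (hn.trans (by norm_num))
  · obtain ⟨d, h1, h2, h3, h4, h5⟩ := SimpleSmall.sylow_count (G := G) 71 1 14 (by norm_num) (hn.trans (by norm_num)) (by norm_num) (by norm_num) (by norm_num)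
    have hle : d ≤ 14 := Nat.le_of_dvd (by norm_num) h1
    have h4' : d ≤ 20 → 71 ^ 1 * 14 ∣ d.factorial := fun _ => h4
    have key : ∀ d ≤ 14, ¬ (d ∣ 14 ∧ d % 71 = 1 ∧ d ≠ 1 ∧ (d ≤ 20 → 71 ^ 1 * 14 ∣ d.factorial) ∧ (1 = 1 → ¬ Nat.Coprime (71 ^ 1 * 14 / d) (71 - 1))) := by decide
    exact key d hle ⟨h1, h2, h3, h4', h5⟩
  · exact false_of_two_primes hG 5 199 1 1 (by norm_num) (by norm_num) (hn.trans (by norm_num))
  · obtain ⟨d, h1, h2, h3, h4, h5⟩ := SimpleSmall.sylow_count (G := G) 83 1 12 (by norm_num) (hn.trans (by norm_num)) (by norm_num) (by norm_num) (by norm_num)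
    have hle : d ≤ 12 := Nat.le_of_dvd (by norm_num) h1
    have h4' : d ≤ 20 → 83 ^ 1 * 12 ∣ d.factorial := fun _ => h4
    have key : ∀ d ≤ 12, ¬ (d ∣ 12 ∧ d % 83 = 1 ∧ d ≠ 1 ∧ (d ≤ 20 → 83 ^ 1 * 12 ∣ d.factorial) ∧ (1 = 1 → ¬ Nat.Coprime (83 ^ 1 * 12 / d) (83 - 1))) := by decide
    exact key d hle ⟨h1, h2, h3, h4', h5⟩
  · exact false_of_prime_pow hG 997 1 (by norm_num) (hn.trans (by norm_num))
  · exact false_of_two_primes hG 2 499 1 1 (by norm_num) (by norm_num) (hn.trans (by norm_num))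
  · exact false_of_two_primes hG 3 37 3 1 (by norm_num) (by norm_num) (hn.trans (by norm_num))
  · exact false_of_two_primes hG 2 5 3 3 (by norm_num) (by norm_num) (hn.trans (by norm_num))
  · obtain ⟨d, h1, h2, h3, h4, h5⟩ := SimpleSmall.sylow_count (G := G) 13 1 77 (by norm_num) (hn.trans (by norm_num)) (by norm_num) (by norm_num) (by norm_num)
    have hle : d ≤ 77 := Nat.le_of_dvd (by norm_num) h1
    have h4' : d ≤ 20 → 13 ^ 1 * 77 ∣ d.factorial := fun _ => h4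
    have key : ∀ d ≤ 77, ¬ (d ∣ 77 ∧ d % 13 = 1 ∧ d ≠ 1 ∧ (d ≤ 20 → 13 ^ 1 * 77 ∣ d.factorial) ∧ (1 = 1 → ¬ Nat.Coprime (13 ^ 1 * 77 / d) (13 - 1))) := by decide
    exact key d hle ⟨h1, h2, h3, h4', h5⟩
  · obtain ⟨d, h1, h2, h3, h4, h5⟩ := SimpleSmall.sylow_count (G := G) 167 1 6 (by norm_num) (hn.trans (by norm_num)) (by norm_num) (by norm_num) (by norm_num)
    have hle : d ≤ 6 := Nat.le_of_dvd (by norm_num) h1
    have h4' : d ≤ 20 → 167 ^ 1 * 6 ∣ d.factorial := fun _ => h4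
    have key : ∀ d ≤ 6, ¬ (d ∣ 6 ∧ d % 167 = 1 ∧ d ≠ 1 ∧ (d ≤ 20 → 167 ^ 1 * 6 ∣ d.factorial) ∧ (1 = 1 → ¬ Nat.Coprime (167 ^ 1 * 6 / d) (167 - 1))) := by decide
    exact key d hle ⟨h1, h2, h3, h4', h5⟩
  · exact false_of_two_primes hG 17 59 1 1 (by norm_num) (by norm_num) (hn.trans (by norm_num))
  · exact false_of_two_primes hG 2 251 2 1 (by norm_num) (by norm_num) (hn.trans (by norm_num))
  · obtain ⟨d, h1, h2, h3, h4, h5⟩ := SimpleSmall.sylow_count (G := G) 67 1 15 (by norm_num) (hn.trans (by norm_num)) (by norm_num) (by norm_num) (by norm_num)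
    have hle : d ≤ 15 := Nat.le_of_dvd (by norm_num) h1
    have h4' : d ≤ 20 → 67 ^ 1 * 15 ∣ d.factorial := fun _ => h4
    have key : ∀ d ≤ 15, ¬ (d ∣ 15 ∧ d % 67 = 1 ∧ d ≠ 1 ∧ (d ≤ 20 → 67 ^ 1 * 15 ∣ d.factorial) ∧ (1 = 1 → ¬ Nat.Coprime (67 ^ 1 * 15 / d) (67 - 1))) := by decide
    exact key d hle ⟨h1, h2, h3, h4', h5⟩
  · exact false_of_two_primes hG 2 503 1 1 (by norm_num) (by norm_num) (hn.trans (by norm_num))
  · exact false_of_two_primes hG 19 53 1 1 (by norm_num) (by norm_num) (hn.trans (by norm_num))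
  · exact absurd rfl h1008
  · exact false_of_prime_pow hG 1009 1 (by norm_num) (hn.trans (by norm_num))
  · obtain ⟨d, h1, h2, h3, h4, h5⟩ := SimpleSmall.sylow_count (G := G) 101 1 10 (by norm_num) (hn.trans (by norm_num)) (by norm_num) (by norm_num) (by norm_num)
    have hle : d ≤ 10 := Nat.le_of_dvd (by norm_num) h1
    have h4' : d ≤ 20 → 101 ^ 1 * 10 ∣ d.factorial := fun _ => h4
    have key : ∀ d ≤ 10, ¬ (d ∣ 10 ∧ d % 101 = 1 ∧ d ≠ 1 ∧ (d ≤ 20 → 101 ^ 1 * 10 ∣ d.factorial) ∧ (1 = 1 → ¬ Nat.Coprime (101 ^ 1 * 10 / d) (101 - 1))) := by decide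
    exact key d hle ⟨h1, h2, h3, h4', h5⟩
  · exact false_of_two_primes hG 3 337 1 1 (by norm_num) (by norm_num) (hn.trans (by norm_num))
  · obtain ⟨d, h1, h2, h3, h4, h5⟩ := SimpleSmall.sylow_count (G := G) 23 1 44 (by norm_num) (hn.trans (by norm_num)) (by norm_num) (by norm_num) (by norm_num)
    have hle : d ≤ 44 := Nat.le_of_dvd (by norm_num) h1
    have h4' : d ≤ 20 → 23 ^ 1 * 44 ∣ d.factorial := fun _ => h4
    have key : ∀ d ≤ 44, ¬ (d ∣ 44 ∧ d % 23 = 1 ∧ d ≠ 1 ∧ (d ≤ 20 → 23 ^ 1 * 44 ∣ d.factorial) ∧ (1 = 1 → ¬ Nat.Coprime (23 ^ 1 * 44 / d) (23 - 1))) := by decide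
    exact key d hle ⟨h1, h2, h3, h4', h5⟩
  · exact false_of_prime_pow hG 1013 1 (by norm_num) (hn.trans (by norm_num))
  · obtain ⟨d, h1, h2, h3, h4, h5⟩ := SimpleSmall.sylow_count (G := G) 13 2 6 (by norm_num) (hn.trans (by norm_num)) (by norm_num) (by norm_num) (by norm_num)
    have hle : d ≤ 6 := Nat.le_of_dvd (by norm_num) h1
    have h4' : d ≤ 20 → 13 ^ 2 * 6 ∣ d.factorial := fun _ => h4
    have key : ∀ d ≤ 6, ¬ (d ∣ 6 ∧ d % 13 = 1 ∧ d ≠ 1 ∧ (d ≤ 20 → 13 ^ 2 * 6 ∣ d.factorial) ∧ (2 = 1 → ¬ Nat.Coprime (13 ^ 2 * 6 / d) (13 - 1))) := by decide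
    exact key d hle ⟨h1, h2, h3, h4', h5⟩
  · obtain ⟨d, h1, h2, h3, h4, h5⟩ := SimpleSmall.sylow_count (G := G) 29 1 35 (by norm_num) (hn.trans (by norm_num)) (by norm_num) (by norm_num) (by norm_num)
    have hle : d ≤ 35 := Nat.le_of_dvd (by norm_num) h1
    have h4' : d ≤ 20 → 29 ^ 1 * 35 ∣ d.factorial := fun _ => h4
    have key : ∀ d ≤ 35, ¬ (d ∣ 35 ∧ d % 29 = 1 ∧ d ≠ 1 ∧ (d ≤ 20 → 29 ^ 1 * 35 ∣ d.factorial) ∧ (1 = 1 → ¬ Nat.Coprime (29 ^ 1 * 35 / d) (29 - 1))) := by decide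
    exact key d hle ⟨h1, h2, h3, h4', h5⟩
  · exact false_of_two_primes hG 2 127 3 1 (by norm_num) (by norm_num) (hn.trans (by norm_num))
  · exact false_of_two_primes hG 3 113 2 1 (by norm_num) (by norm_num) (hn.trans (by norm_num))
  · exact false_of_two_primes hG 2 509 1 1 (by norm_num) (by norm_num) (hn.trans (by norm_num))
  · exact false_of_prime_pow hG 1019 1 (by norm_num) (hn.trans (by norm_num))
  · obtain ⟨d, h1, h2, h3, h4, h5⟩ := SimpleSmall.sylow_count (G := G) 17 1 60 (by norm_num) (hn.trans (by norm_num)) (by norm_num) (by norm_num) (by norm_num)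
    have hle : d ≤ 60 := Nat.le_of_dvd (by norm_num) h1
    have h4' : d ≤ 20 → 17 ^ 1 * 60 ∣ d.factorial := fun _ => h4
    have key : ∀ d ≤ 60, ¬ (d ∣ 60 ∧ d % 17 = 1 ∧ d ≠ 1 ∧ (d ≤ 20 → 17 ^ 1 * 60 ∣ d.factorial) ∧ (1 = 1 → ¬ Nat.Coprime (17 ^ 1 * 60 / d) (17 - 1))) := by decide
    exact key d hle ⟨h1, h2, h3, h4', h5⟩
  · exact false_of_prime_pow hG 1021 1 (by norm_num) (hn.trans (by norm_num))
  · obtain ⟨d, h1, h2, h3, h4, h5⟩ := SimpleSmall.sylow_count (G := G) 73 1 14 (by norm_num) (hn.trans (by norm_num)) (by norm_num) (by norm_num) (by norm_num)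
    have hle : d ≤ 14 := Nat.le_of_dvd (by norm_num) h1
    have h4' : d ≤ 20 → 73 ^ 1 * 14 ∣ d.factorial := fun _ => h4
    have key : ∀ d ≤ 14, ¬ (d ∣ 14 ∧ d % 73 = 1 ∧ d ≠ 1 ∧ (d ≤ 20 → 73 ^ 1 * 14 ∣ d.factorial) ∧ (1 = 1 → ¬ Nat.Coprime (73 ^ 1 * 14 / d) (73 - 1))) := by decide
    exact key d hle ⟨h1, h2, h3, h4', h5⟩
  · obtain ⟨d, h1, h2, h3, h4, h5⟩ := SimpleSmall.sylow_count (G := G) 31 1 33 (by norm_num) (hn.trans (by norm_num)) (by norm_num) (by norm_num) (by norm_num)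
    have hle : d ≤ 33 := Nat.le_of_dvd (by norm_num) h1
    have h4' : d ≤ 20 → 31 ^ 1 * 33 ∣ d.factorial := fun _ => h4
    have key : ∀ d ≤ 33, ¬ (d ∣ 33 ∧ d % 31 = 1 ∧ d ≠ 1 ∧ (d ≤ 20 → 31 ^ 1 * 33 ∣ d.factorial) ∧ (1 = 1 → ¬ Nat.Coprime (31 ^ 1 * 33 / d) (31 - 1))) := by decide
    exact key d hle ⟨h1, h2, h3, h4', h5⟩
  · exact false_of_prime_pow hG 2 10 (by norm_num) (hn.trans (by norm_num))
  · exact false_of_two_primes hG 5 41 2 1 (by norm_num) (by norm_num) (hn.trans (by norm_num))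
  · obtain ⟨d, h1, h2, h3, h4, h5⟩ := SimpleSmall.sylow_count (G := G) 19 1 54 (by norm_num) (hn.trans (by norm_num)) (by norm_num) (by norm_num) (by norm_num)
    have hle : d ≤ 54 := Nat.le_of_dvd (by norm_num) h1
    have h4' : d ≤ 20 → 19 ^ 1 * 54 ∣ d.factorial := fun _ => h4
    have key : ∀ d ≤ 54, ¬ (d ∣ 54 ∧ d % 19 = 1 ∧ d ≠ 1 ∧ (d ≤ 20 → 19 ^ 1 * 54 ∣ d.factorial) ∧ (1 = 1 → ¬ Nat.Coprime (19 ^ 1 * 54 / d) (19 - 1))) := by decide
    exact key d hle ⟨h1, h2, h3, h4', h5⟩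
  · exact false_of_two_primes hG 13 79 1 1 (by norm_num) (by norm_num) (hn.trans (by norm_num))
  · exact false_of_two_primes hG 2 257 2 1 (by norm_num) (by norm_num) (hn.trans (by norm_num))
  · exact false_of_two_primes hG 3 7 1 3 (by norm_num) (by norm_num) (hn.trans (by norm_num))
  · obtain ⟨d, h1, h2, h3, h4, h5⟩ := SimpleSmall.sylow_count (G := G) 103 1 10 (by norm_num) (hn.trans (by norm_num)) (by norm_num) (by norm_num) (by norm_num)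
    have hle : d ≤ 10 := Nat.le_of_dvd (by norm_num) h1
    have h4' : d ≤ 20 → 103 ^ 1 * 10 ∣ d.factorial := fun _ => h4
    have key : ∀ d ≤ 10, ¬ (d ∣ 10 ∧ d % 103 = 1 ∧ d ≠ 1 ∧ (d ≤ 20 → 103 ^ 1 * 10 ∣ d.factorial) ∧ (1 = 1 → ¬ Nat.Coprime (103 ^ 1 * 10 / d) (103 - 1))) := by decide
    exact key d hle ⟨h1, h2, h3, h4', h5⟩
  · exact false_of_prime_pow hG 1031 1 (by norm_num) (hn.trans (by norm_num))
  · obtain ⟨d, h1, h2, h3, h4, h5⟩ := SimpleSmall.sylow_count (G := G) 43 1 24 (by norm_num) (hn.trans (by norm_num)) (by norm_num) (by norm_num) (by norm_num)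
    have hle : d ≤ 24 := Nat.le_of_dvd (by norm_num) h1
    have h4' : d ≤ 20 → 43 ^ 1 * 24 ∣ d.factorial := fun _ => h4
    have key : ∀ d ≤ 24, ¬ (d ∣ 24 ∧ d % 43 = 1 ∧ d ≠ 1 ∧ (d ≤ 20 → 43 ^ 1 * 24 ∣ d.factorial) ∧ (1 = 1 → ¬ Nat.Coprime (43 ^ 1 * 24 / d) (43 - 1))) := by decide
    exact key d hle ⟨h1, h2, h3, h4', h5⟩
  · exact false_of_prime_pow hG 1033 1 (by norm_num) (hn.trans (by norm_num))
  · obtain ⟨d, h1, h2, h3, h4, h5⟩ := SimpleSmall.sylow_count (G := G) 47 1 22 (by norm_num) (hn.trans (by norm_num)) (by norm_num) (by norm_num) (by norm_num)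
    have hle : d ≤ 22 := Nat.le_of_dvd (by norm_num) h1
    have h4' : d ≤ 20 → 47 ^ 1 * 22 ∣ d.factorial := fun _ => h4
    have key : ∀ d ≤ 22, ¬ (d ∣ 22 ∧ d % 47 = 1 ∧ d ≠ 1 ∧ (d ≤ 20 → 47 ^ 1 * 22 ∣ d.factorial) ∧ (1 = 1 → ¬ Nat.Coprime (47 ^ 1 * 22 / d) (47 - 1))) := by decide
    exact key d hle ⟨h1, h2, h3, h4', h5⟩
  · obtain ⟨d, h1, h2, h3, h4, h5⟩ := SimpleSmall.sylow_count (G := G) 23 1 45 (by norm_num) (hn.trans (by norm_num)) (by norm_num) (by norm_num) (by norm_num)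
    have hle : d ≤ 45 := Nat.le_of_dvd (by norm_num) h1
    have h4' : d ≤ 20 → 23 ^ 1 * 45 ∣ d.factorial := fun _ => h4
    have key : ∀ d ≤ 45, ¬ (d ∣ 45 ∧ d % 23 = 1 ∧ d ≠ 1 ∧ (d ≤ 20 → 23 ^ 1 * 45 ∣ d.factorial) ∧ (1 = 1 → ¬ Nat.Coprime (23 ^ 1 * 45 / d) (23 - 1))) := by decide
    exact key d hle ⟨h1, h2, h3, h4', h5⟩
  · obtain ⟨d, h1, h2, h3, h4, h5⟩ := SimpleSmall.sylow_count (G := G) 37 1 28 (by norm_num) (hn.trans (by norm_num)) (by norm_num) (by norm_num) (by norm_num)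
    have hle : d ≤ 28 := Nat.le_of_dvd (by norm_num) h1
    have h4' : d ≤ 20 → 37 ^ 1 * 28 ∣ d.factorial := fun _ => h4
    have key : ∀ d ≤ 28, ¬ (d ∣ 28 ∧ d % 37 = 1 ∧ d ≠ 1 ∧ (d ≤ 20 → 37 ^ 1 * 28 ∣ d.factorial) ∧ (1 = 1 → ¬ Nat.Coprime (37 ^ 1 * 28 / d) (37 - 1))) := by decide
    exact key d hle ⟨h1, h2, h3, h4', h5⟩
  · exact false_of_two_primes hG 17 61 1 1 (by norm_num) (by norm_num) (hn.trans (by norm_num))
  · obtain ⟨d, h1, h2, h3, h4, h5⟩ := SimpleSmall.sylow_count (G := G) 173 1 6 (by norm_num) (hn.trans (by norm_num)) (by norm_num) (by norm_num) (by norm_num)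
    have hle : d ≤ 6 := Nat.le_of_dvd (by norm_num) h1
    have h4' : d ≤ 20 → 173 ^ 1 * 6 ∣ d.factorial := fun _ => h4
    have key : ∀ d ≤ 6, ¬ (d ∣ 6 ∧ d % 173 = 1 ∧ d ≠ 1 ∧ (d ≤ 20 → 173 ^ 1 * 6 ∣ d.factorial) ∧ (1 = 1 → ¬ Nat.Coprime (173 ^ 1 * 6 / d) (173 - 1))) := by decide
    exact key d hle ⟨h1, h2, h3, h4', h5⟩
  · exact false_of_prime_pow hG 1039 1 (by norm_num) (hn.trans (by norm_num))
  · exact absurd rfl h1040
  · exact false_of_two_primes hG 3 347 1 1 (by norm_num) (by norm_num) (hn.trans (by norm_num))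
  · exact false_of_two_primes hG 2 521 1 1 (by norm_num) (by norm_num) (hn.trans (by norm_num))
  · exact false_of_two_primes hG 7 149 1 1 (by norm_num) (by norm_num) (hn.trans (by norm_num))
  · obtain ⟨d, h1, h2, h3, h4, h5⟩ := SimpleSmall.sylow_count (G := G) 29 1 36 (by norm_num) (hn.trans (by norm_num)) (by norm_num) (by norm_num) (by norm_num)
    have hle : d ≤ 36 := Nat.le_of_dvd (by norm_num) h1
    have h4' : d ≤ 20 → 29 ^ 1 * 36 ∣ d.factorial := fun _ => h4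
    have key : ∀ d ≤ 36, ¬ (d ∣ 36 ∧ d % 29 = 1 ∧ d ≠ 1 ∧ (d ≤ 20 → 29 ^ 1 * 36 ∣ d.factorial) ∧ (1 = 1 → ¬ Nat.Coprime (29 ^ 1 * 36 / d) (29 - 1))) := by decide
    exact key d hle ⟨h1, h2, h3, h4', h5⟩
  · obtain ⟨d, h1, h2, h3, h4, h5⟩ := SimpleSmall.sylow_count (G := G) 19 1 55 (by norm_num) (hn.trans (by norm_num)) (by norm_num) (by norm_num) (by norm_num)
    have hle : d ≤ 55 := Nat.le_of_dvd (by norm_num) h1
    have h4' : d ≤ 20 → 19 ^ 1 * 55 ∣ d.factorial := fun _ => h4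
    have key : ∀ d ≤ 55, ¬ (d ∣ 55 ∧ d % 19 = 1 ∧ d ≠ 1 ∧ (d ≤ 20 → 19 ^ 1 * 55 ∣ d.factorial) ∧ (1 = 1 → ¬ Nat.Coprime (19 ^ 1 * 55 / d) (19 - 1))) := by decide
    exact key d hle ⟨h1, h2, h3, h4', h5⟩
  · exact false_of_two_primes hG 2 523 1 1 (by norm_num) (by norm_num) (hn.trans (by norm_num))
  · exact false_of_two_primes hG 3 349 1 1 (by norm_num) (by norm_num) (hn.trans (by norm_num))
  · exact false_of_two_primes hG 2 131 3 1 (by norm_num) (by norm_num) (hn.trans (by norm_num))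
  · exact false_of_prime_pow hG 1049 1 (by norm_num) (hn.trans (by norm_num))
  · obtain ⟨d, h1, h2, h3, h4, h5⟩ := SimpleSmall.sylow_count (G := G) 2 1 525 (by norm_num) (hn.trans (by norm_num)) (by norm_num) (by norm_num) (by norm_num)
    exact h5 rfl (by simp)
  · exact false_of_prime_pow hG 1051 1 (by norm_num) (hn.trans (by norm_num))
  · exact false_of_two_primes hG 2 263 2 1 (by norm_num) (by norm_num) (hn.trans (by norm_num))
  · exact false_of_two_primes hG 3 13 4 1 (by norm_num) (by norm_num) (hn.trans (by norm_num))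
  · obtain ⟨d, h1, h2, h3, h4, h5⟩ := SimpleSmall.sylow_count (G := G) 31 1 34 (by norm_num) (hn.trans (by norm_num)) (by norm_num) (by norm_num) (by norm_num)
    have hle : d ≤ 34 := Nat.le_of_dvd (by norm_num) h1
    have h4' : d ≤ 20 → 31 ^ 1 * 34 ∣ d.factorial := fun _ => h4
    have key : ∀ d ≤ 34, ¬ (d ∣ 34 ∧ d % 31 = 1 ∧ d ≠ 1 ∧ (d ≤ 20 → 31 ^ 1 * 34 ∣ d.factorial) ∧ (1 = 1 → ¬ Nat.Coprime (31 ^ 1 * 34 / d) (31 - 1))) := by decide
    exact key d hle ⟨h1, h2, h3, h4', h5⟩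
  · exact false_of_two_primes hG 5 211 1 1 (by norm_num) (by norm_num) (hn.trans (by norm_num))
  · have : Fact (Nat.Prime 11) := ⟨by norm_num⟩
    obtain ⟨d, -, h1, h2, h3, h4, h5, h6, h7, h8, h9⟩ := sylow_count3 (G := G) hG 11 1 96 (hn.trans (by norm_num)) (by norm_num) (by norm_num) (by norm_num)
    have hle : d ≤ 96 := Nat.le_of_dvd (by norm_num) h1
    have h4' : d ≤ 20 → 11 ^ 1 * 96 ∣ d.factorial := fun _ => h4
    clear h4
    interval_cases d <;> revert h1 h2 h3 h4' h5 h6 <;> decide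
  · exact false_of_two_primes hG 7 151 1 1 (by norm_num) (by norm_num) (hn.trans (by norm_num))
  · exact false_of_two_primes hG 2 23 1 2 (by norm_num) (by norm_num) (hn.trans (by norm_num))
  · exact false_of_two_primes hG 3 353 1 1 (by norm_num) (by norm_num) (hn.trans (by norm_num))
  · obtain ⟨d, h1, h2, h3, h4, h5⟩ := SimpleSmall.sylow_count (G := G) 53 1 20 (by norm_num) (hn.trans (by norm_num)) (by norm_num) (by norm_num) (by norm_num)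
    have hle : d ≤ 20 := Nat.le_of_dvd (by norm_num) h1
    have h4' : d ≤ 20 → 53 ^ 1 * 20 ∣ d.factorial := fun _ => h4
    have key : ∀ d ≤ 20, ¬ (d ∣ 20 ∧ d % 53 = 1 ∧ d ≠ 1 ∧ (d ≤ 20 → 53 ^ 1 * 20 ∣ d.factorial) ∧ (1 = 1 → ¬ Nat.Coprime (53 ^ 1 * 20 / d) (53 - 1))) := by decide
    exact key d hle ⟨h1, h2, h3, h4', h5⟩
  · exact false_of_prime_pow hG 1061 1 (by norm_num) (hn.trans (by norm_num))
  · obtain ⟨d, h1, h2, h3, h4, h5⟩ := SimpleSmall.sylow_count (G := G) 59 1 18 (by norm_num) (hn.trans (by norm_num)) (by norm_num) (by norm_num) (by norm_num)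
    have hle : d ≤ 18 := Nat.le_of_dvd (by norm_num) h1
    have h4' : d ≤ 20 → 59 ^ 1 * 18 ∣ d.factorial := fun _ => h4
    have key : ∀ d ≤ 18, ¬ (d ∣ 18 ∧ d % 59 = 1 ∧ d ≠ 1 ∧ (d ≤ 20 → 59 ^ 1 * 18 ∣ d.factorial) ∧ (1 = 1 → ¬ Nat.Coprime (59 ^ 1 * 18 / d) (59 - 1))) := by decide
    exact key d hle ⟨h1, h2, h3, h4', h5⟩
  · exact false_of_prime_pow hG 1063 1 (by norm_num) (hn.trans (by norm_num))
  · obtain ⟨d, h1, h2, h3, h4, h5⟩ := SimpleSmall.sylow_count (G := G) 19 1 56 (by norm_num) (hn.trans (by norm_num)) (by norm_num) (by norm_num) (by norm_num)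
    have hle : d ≤ 56 := Nat.le_of_dvd (by norm_num) h1
    have h4' : d ≤ 20 → 19 ^ 1 * 56 ∣ d.factorial := fun _ => h4
    have key : ∀ d ≤ 56, ¬ (d ∣ 56 ∧ d % 19 = 1 ∧ d ≠ 1 ∧ (d ≤ 20 → 19 ^ 1 * 56 ∣ d.factorial) ∧ (1 = 1 → ¬ Nat.Coprime (19 ^ 1 * 56 / d) (19 - 1))) := by decide
    exact key d hle ⟨h1, h2, h3, h4', h5⟩
  · obtain ⟨d, h1, h2, h3, h4, h5⟩ := SimpleSmall.sylow_count (G := G) 71 1 15 (by norm_num) (hn.trans (by norm_num)) (by norm_num) (by norm_num) (by norm_num)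
    have hle : d ≤ 15 := Nat.le_of_dvd (by norm_num) h1
    have h4' : d ≤ 20 → 71 ^ 1 * 15 ∣ d.factorial := fun _ => h4
    have key : ∀ d ≤ 15, ¬ (d ∣ 15 ∧ d % 71 = 1 ∧ d ≠ 1 ∧ (d ≤ 20 → 71 ^ 1 * 15 ∣ d.factorial) ∧ (1 = 1 → ¬ Nat.Coprime (71 ^ 1 * 15 / d) (71 - 1))) := by decide
    exact key d hle ⟨h1, h2, h3, h4', h5⟩
  · obtain ⟨d, h1, h2, h3, h4, h5⟩ := SimpleSmall.sylow_count (G := G) 41 1 26 (by norm_num) (hn.trans (by norm_num)) (by norm_num) (by norm_num) (by norm_num)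
    have hle : d ≤ 26 := Nat.le_of_dvd (by norm_num) h1
    have h4' : d ≤ 20 → 41 ^ 1 * 26 ∣ d.factorial := fun _ => h4
    have key : ∀ d ≤ 26, ¬ (d ∣ 26 ∧ d % 41 = 1 ∧ d ≠ 1 ∧ (d ≤ 20 → 41 ^ 1 * 26 ∣ d.factorial) ∧ (1 = 1 → ¬ Nat.Coprime (41 ^ 1 * 26 / d) (41 - 1))) := by decide
    exact key d hle ⟨h1, h2, h3, h4', h5⟩
  · exact false_of_two_primes hG 11 97 1 1 (by norm_num) (by norm_num) (hn.trans (by norm_num))
  · obtain ⟨d, h1, h2, h3, h4, h5⟩ := SimpleSmall.sylow_count (G := G) 89 1 12 (by norm_num) (hn.trans (by norm_num)) (by norm_num) (by norm_num) (by norm_num)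
    have hle : d ≤ 12 := Nat.le_of_dvd (by norm_num) h1
    have h4' : d ≤ 20 → 89 ^ 1 * 12 ∣ d.factorial := fun _ => h4
    have key : ∀ d ≤ 12, ¬ (d ∣ 12 ∧ d % 89 = 1 ∧ d ≠ 1 ∧ (d ≤ 20 → 89 ^ 1 * 12 ∣ d.factorial) ∧ (1 = 1 → ¬ Nat.Coprime (89 ^ 1 * 12 / d) (89 - 1))) := by decide
    exact key d hle ⟨h1, h2, h3, h4', h5⟩
  · exact false_of_prime_pow hG 1069 1 (by norm_num) (hn.trans (by norm_num))
  · obtain ⟨d, h1, h2, h3, h4, h5⟩ := SimpleSmall.sylow_count (G := G) 107 1 10 (by norm_num) (hn.trans (by norm_num)) (by norm_num) (by norm_num) (by norm_num)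
    have hle : d ≤ 10 := Nat.le_of_dvd (by norm_num) h1
    have h4' : d ≤ 20 → 107 ^ 1 * 10 ∣ d.factorial := fun _ => h4
    have key : ∀ d ≤ 10, ¬ (d ∣ 10 ∧ d % 107 = 1 ∧ d ≠ 1 ∧ (d ≤ 20 → 107 ^ 1 * 10 ∣ d.factorial) ∧ (1 = 1 → ¬ Nat.Coprime (107 ^ 1 * 10 / d) (107 - 1))) := by decide
    exact key d hle ⟨h1, h2, h3, h4', h5⟩
  · obtain ⟨d, h1, h2, h3, h4, h5⟩ := SimpleSmall.sylow_count (G := G) 17 1 63 (by norm_num) (hn.trans (by norm_num)) (by norm_num) (by norm_num) (by norm_num)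
    have hle : d ≤ 63 := Nat.le_of_dvd (by norm_num) h1
    have h4' : d ≤ 20 → 17 ^ 1 * 63 ∣ d.factorial := fun _ => h4
    have key : ∀ d ≤ 63, ¬ (d ∣ 63 ∧ d % 17 = 1 ∧ d ≠ 1 ∧ (d ≤ 20 → 17 ^ 1 * 63 ∣ d.factorial) ∧ (1 = 1 → ¬ Nat.Coprime (17 ^ 1 * 63 / d) (17 - 1))) := by decide
    exact key d hle ⟨h1, h2, h3, h4', h5⟩
  · exact false_of_two_primes hG 2 67 4 1 (by norm_num) (by norm_num) (hn.trans (by norm_num))
  · exact false_of_two_primes hG 29 37 1 1 (by norm_num) (by norm_num) (hn.trans (by norm_num))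
  · obtain ⟨d, h1, h2, h3, h4, h5⟩ := SimpleSmall.sylow_count (G := G) 179 1 6 (by norm_num) (hn.trans (by norm_num)) (by norm_num) (by norm_num) (by norm_num)
    have hle : d ≤ 6 := Nat.le_of_dvd (by norm_num) h1
    have h4' : d ≤ 20 → 179 ^ 1 * 6 ∣ d.factorial := fun _ => h4
    have key : ∀ d ≤ 6, ¬ (d ∣ 6 ∧ d % 179 = 1 ∧ d ≠ 1 ∧ (d ≤ 20 → 179 ^ 1 * 6 ∣ d.factorial) ∧ (1 = 1 → ¬ Nat.Coprime (179 ^ 1 * 6 / d) (179 - 1))) := by decide
    exact key d hle ⟨h1, h2, h3, h4', h5⟩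
  · exact false_of_two_primes hG 5 43 2 1 (by norm_num) (by norm_num) (hn.trans (by norm_num))
  · exact false_of_two_primes hG 2 269 2 1 (by norm_num) (by norm_num) (hn.trans (by norm_num))
  · exact false_of_two_primes hG 3 359 1 1 (by norm_num) (by norm_num) (hn.trans (by norm_num))
  · obtain ⟨d, h1, h2, h3, h4, h5⟩ := SimpleSmall.sylow_count (G := G) 11 1 98 (by norm_num) (hn.trans (by norm_num)) (by norm_num) (by norm_num) (by norm_num)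
    have hle : d ≤ 98 := Nat.le_of_dvd (by norm_num) h1
    have h4' : d ≤ 20 → 11 ^ 1 * 98 ∣ d.factorial := fun _ => h4
    have key : ∀ d ≤ 98, ¬ (d ∣ 98 ∧ d % 11 = 1 ∧ d ≠ 1 ∧ (d ≤ 20 → 11 ^ 1 * 98 ∣ d.factorial) ∧ (1 = 1 → ¬ Nat.Coprime (11 ^ 1 * 98 / d) (11 - 1))) := by decide
    exact key d hle ⟨h1, h2, h3, h4', h5⟩
  · exact false_of_two_primes hG 13 83 1 1 (by norm_num) (by norm_num) (hn.trans (by norm_num))
  · exact absurd rfl h1080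
  · exact false_of_two_primes hG 23 47 1 1 (by norm_num) (by norm_num) (hn.trans (by norm_num))
  · exact false_of_two_primes hG 2 541 1 1 (by norm_num) (by norm_num) (hn.trans (by norm_num))
  · exact false_of_two_primes hG 3 19 1 2 (by norm_num) (by norm_num) (hn.trans (by norm_num))
  · exact false_of_two_primes hG 2 271 2 1 (by norm_num) (by norm_num) (hn.trans (by norm_num))
  · obtain ⟨d, h1, h2, h3, h4, h5⟩ := SimpleSmall.sylow_count (G := G) 31 1 35 (by norm_num) (hn.trans (by norm_num)) (by norm_num) (by norm_num) (by norm_num)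
    have hle : d ≤ 35 := Nat.le_of_dvd (by norm_num) h1
    have h4' : d ≤ 20 → 31 ^ 1 * 35 ∣ d.factorial := fun _ => h4
    have key : ∀ d ≤ 35, ¬ (d ∣ 35 ∧ d % 31 = 1 ∧ d ≠ 1 ∧ (d ≤ 20 → 31 ^ 1 * 35 ∣ d.factorial) ∧ (1 = 1 → ¬ Nat.Coprime (31 ^ 1 * 35 / d) (31 - 1))) := by decide
    exact key d hle ⟨h1, h2, h3, h4', h5⟩
  · obtain ⟨d, h1, h2, h3, h4, h5⟩ := SimpleSmall.sylow_count (G := G) 181 1 6 (by norm_num) (hn.trans (by norm_num)) (by norm_num) (by norm_num) (by norm_num)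
    have hle : d ≤ 6 := Nat.le_of_dvd (by norm_num) h1
    have h4' : d ≤ 20 → 181 ^ 1 * 6 ∣ d.factorial := fun _ => h4
    have key : ∀ d ≤ 6, ¬ (d ∣ 6 ∧ d % 181 = 1 ∧ d ≠ 1 ∧ (d ≤ 20 → 181 ^ 1 * 6 ∣ d.factorial) ∧ (1 = 1 → ¬ Nat.Coprime (181 ^ 1 * 6 / d) (181 - 1))) := by decide
    exact key d hle ⟨h1, h2, h3, h4', h5⟩
  · exact false_of_prime_pow hG 1087 1 (by norm_num) (hn.trans (by norm_num))
  · exact false_of_two_primes hG 2 17 6 1 (by norm_num) (by norm_num) (hn.trans (by norm_num))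
  · exact false_of_two_primes hG 3 11 2 2 (by norm_num) (by norm_num) (hn.trans (by norm_num))
  · obtain ⟨d, h1, h2, h3, h4, h5⟩ := SimpleSmall.sylow_count (G := G) 109 1 10 (by norm_num) (hn.trans (by norm_num)) (by norm_num) (by norm_num) (by norm_num)
    have hle : d ≤ 10 := Nat.le_of_dvd (by norm_num) h1
    have h4' : d ≤ 20 → 109 ^ 1 * 10 ∣ d.factorial := fun _ => h4
    have key : ∀ d ≤ 10, ¬ (d ∣ 10 ∧ d % 109 = 1 ∧ d ≠ 1 ∧ (d ≤ 20 → 109 ^ 1 * 10 ∣ d.factorial) ∧ (1 = 1 → ¬ Nat.Coprime (109 ^ 1 * 10 / d) (109 - 1))) := by decide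
    exact key d hle ⟨h1, h2, h3, h4', h5⟩
  · exact false_of_prime_pow hG 1091 1 (by norm_num) (hn.trans (by norm_num))
  · exact absurd rfl h1092

end Cfsg.Agent.Helper2.SimpleSmall2
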