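import Mathlib
import Cfsg.Agent.Helper5.SaDefs

set_option autoImplicit false
set_option linter.unusedVariables false

/-! S4025 (helper5's project), piece N3 `arith` (helper2). -/

namespace Cfsg.Agent.Helper5.Sa

theorem h2_pow_lb (p : ℕ) (hp : 2 ≤ p) : ∀ n, 6 ≤ n → (n + 1) * p ^ 2 ≤ p ^ (n - 1) := by
  intro n hn
  induction n, hn using Nat.le_induction with
  | base =>
    have e : p ^ (6 - 1) = p ^ 3 * p ^ 2 := by
      show p ^ 5 = p ^ 3 * p ^ 2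
      ring
    rw [e]
    have h8 : 8 ≤ p ^ 3 :=
      calc 8 = 2 ^ 3 := rfl
        _ ≤ p ^ 3 := Nat.pow_le_pow_left hp 3
    exact Nat.mul_le_mul_right _ (by omega)
  | succ n hn ih =>
    have e : n + 1 - 1 = (n - 1) + 1 := by omega
    rw [e, pow_succ]
    calc (n + 1 + 1) * p ^ 2 ≤ 2 * ((n + 1) * p ^ 2) := by
          have : n + 1 + 1 ≤ 2 * (n + 1) := by omega
          calc (n + 1 + 1) * p ^ 2 ≤ (2 * (n + 1)) * p ^ 2 := Nat.mul_le_mul_right _ this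
            _ = 2 * ((n + 1) * p ^ 2) := by ring
      _ ≤ 2 * p ^ (n - 1) := Nat.mul_le_mul_left 2 ih
      _ ≤ p ^ (n - 1) * p := by rw [mul_comm]; exact Nat.mul_le_mul_left _ hp

theorem arith (p n N₂ : ℕ) (hp : p.Prime) (hn : 3 ≤ n)
    (h1 : N₂ * ((p ^ 2 - 1) * (p ^ 2 - p)) = (p ^ n - 1) * (p ^ n - p))
    (h2 : N₂ * (p - 1) ∣ (p ^ n - 1) * n) : n = 3 ∨ (n = 5 ∧ p = 2) := by
  have hp2 : 2 ≤ p := hp.two_le
  obtain ⟨m, rfl⟩ : ∃ m, n = m + 1 := ⟨n - 1, by omega⟩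
  have hP1 : 1 ≤ p ^ m := Nat.one_le_pow _ _ (by omega)
  have e1 : p ^ 2 - p = p * (p - 1) := by rw [Nat.mul_sub_one, sq]
  have e2 : p ^ (m + 1) - p = p * (p ^ m - 1) := by rw [Nat.mul_sub_one, pow_succ']
  rw [e1, e2] at h1
  have h3 : N₂ * ((p ^ 2 - 1) * (p - 1)) = (p ^ (m + 1) - 1) * (p ^ m - 1) := by
    apply Nat.eq_of_mul_eq_mul_left (show 0 < p by omega)
    calc p * (N₂ * ((p ^ 2 - 1) * (p - 1))) = N₂ * ((p ^ 2 - 1) * (p * (p - 1))) := by ring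
      _ = (p ^ (m + 1) - 1) * (p * (p ^ m - 1)) := h1
      _ = p * ((p ^ (m + 1) - 1) * (p ^ m - 1)) := by ring
  have hpos : 0 < p ^ (m + 1) - 1 := by
    have : 2 ≤ p ^ (m + 1) :=
      calc 2 ≤ p := hp2
        _ = p ^ 1 := (pow_one p).symm
        _ ≤ p ^ (m + 1) := Nat.pow_le_pow_right (by omega) (by omega)
    omega
  have h4 : (p ^ m - 1) ∣ (m + 1) * (p ^ 2 - 1) := by
    have h5 : (p ^ (m + 1) - 1) * (p ^ m - 1) ∣
        (p ^ (m + 1) - 1) * ((m + 1) * (p ^ 2 - 1)) := by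
      rw [← h3]
      have := Nat.mul_dvd_mul_right h2 (p ^ 2 - 1)
      convert this using 1 <;> ring
    exact Nat.dvd_of_mul_dvd_mul_left hpos h5
  have hsq4 : 4 ≤ p ^ 2 :=
    calc 4 = 2 ^ 2 := rfl
      _ ≤ p ^ 2 := Nat.pow_le_pow_left hp2 2
  have hm2 : 2 ≤ m := by omega
  rcases Nat.lt_or_ge m 3 with hm | hm
  · left; omega
  rcases Nat.lt_or_ge m 4 with hm' | hm'
  · -- `m = 3`, `n = 4`
    exfalso
    have hm3 : m = 3 := by omega
    subst hm3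
    obtain ⟨q, rfl⟩ : ∃ q, p = q + 1 := ⟨p - 1, by omega⟩
    have hq : 1 ≤ q := by omega
    have e3 : (q + 1) ^ 3 - 1 = q * (q ^ 2 + 3 * q + 3) := by
      apply Nat.sub_eq_of_eq_add; ring
    have e4 : (q + 1) ^ 2 - 1 = q * (q + 2) := by
      apply Nat.sub_eq_of_eq_add; ring
    rw [e3, e4] at h4
    have h6 : q * (q ^ 2 + 3 * q + 3) ∣ q * (4 * (q + 2)) := by
      convert h4 using 1; ring
    have h7 : (q ^ 2 + 3 * q + 3) ∣ 4 * (q + 2) := Nat.dvd_of_mul_dvd_mul_left hq h6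
    have h8 : (q ^ 2 + 3 * q + 3) ∣ 4 * (q + 2) * (q + 1) := Dvd.dvd.mul_right h7 _
    have h9 : (q ^ 2 + 3 * q + 3) ∣ 4 * (q + 2) * (q + 1) + 4 := by
      have : 4 * (q + 2) * (q + 1) + 4 = (q ^ 2 + 3 * q + 3) * 4 := by ring
      rw [this]; exact Dvd.intro _ rfl
    have h10 : (q ^ 2 + 3 * q + 3) ∣ 4 := (Nat.dvd_add_right h8).mp h9
    have h11 := Nat.le_of_dvd (by norm_num) h10
    nlinarith
  rcases Nat.lt_or_ge m 5 with hm'' | hm''
  · -- `m = 4`, `n = 5`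
    right
    have hm4 : m = 4 := by omega
    subst hm4
    refine ⟨rfl, ?_⟩
    obtain ⟨s, hs⟩ : ∃ s, p ^ 2 = s + 1 := ⟨p ^ 2 - 1, by omega⟩
    have hs3 : 3 ≤ s := by omega
    have e5 : p ^ 4 - 1 = s * (s + 2) := by
      apply Nat.sub_eq_of_eq_add
      have : p ^ 4 = (p ^ 2) ^ 2 := by ring
      rw [this, hs]; ring
    have e6 : p ^ 2 - 1 = s := by omega
    rw [e5, e6] at h4
    have h6 : s * (s + 2) ∣ s * 5 := by
      convert h4 using 1; ring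
    have h7 : s + 2 ∣ 5 := Nat.dvd_of_mul_dvd_mul_left (by omega) h6
    have h8 := Nat.le_of_dvd (by norm_num) h7
    have hs' : s = 3 := by omega
    have hp4 : p ^ 2 = 4 := by omega
    have : p < 3 := by
      by_contra hcon
      have : 3 ≤ p := by omega
      have : 9 ≤ p ^ 2 :=
        calc 9 = 3 ^ 2 := rfl
          _ ≤ p ^ 2 := Nat.pow_le_pow_left this 2
      omega
    omega
  · -- `m ≥ 5`, `n ≥ 6`
    exfalso
    have hlb := h2_pow_lb p hp2 (m + 1) (by omega)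
    rw [Nat.add_sub_cancel] at hlb
    have hpos2 : 0 < (m + 1) * (p ^ 2 - 1) := Nat.mul_pos (by omega) (by omega)
    have hle := Nat.le_of_dvd hpos2 h4
    have h6 : (m + 1) * (p ^ 2 - 1) ≤ (m + 1) * p ^ 2 := Nat.mul_le_mul_left _ (Nat.sub_le _ _)
    have h7 : (m + 1 + 1) * p ^ 2 = (m + 1) * p ^ 2 + p ^ 2 := by ring
    omega

end Cfsg.Agent.Helper5.Sa
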