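import Mathlib
import Cfsg.Agent.Helper5.SaDefs

set_option autoImplicit false
set_option linter.unusedVariables false

/-! S4025 (helper5's project), piece F `fusion` (helper2): Burnside's fusion theorem for subgroups
of an abelian Sylow subgroup, transferred to `N_G(P)`. -/

namespace Cfsg.Agent.Helper5.Sa

/-- Burnside's fusion theorem for subgroups of an abelian Sylow subgroup. -/
theorem h2_burnside {G : Type*} [Group G] [Finite G] {p : ℕ} [Fact p.Prime] (P : Sylow p G)
    (hab : ∀ a ∈ P, ∀ b ∈ P, a * b = b * a)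
    (H K : Subgroup G) (hH : H ≤ P) (hK : K ≤ P) (g : G)
    (hg : K = H.map (MulAut.conj g).toMonoidHom) :
    ∃ x ∈ Subgroup.normalizer ((P : Subgroup G) : Set G),
      K = H.map (MulAut.conj x).toMonoidHom := by
  have h1 : (P : Subgroup G) ≤ Subgroup.centralizer (K : Set G) := by
    intro a ha
    rw [Subgroup.mem_centralizer_iff]
    intro k hk
    exact hab k (hK hk) a ha
  have h2 : ((g • P : Sylow p G) : Subgroup G) ≤ Subgroup.centralizer (K : Set G) := by
    intro a ha
    rw [Sylow.coe_subgroup_smul, Subgroup.mem_smul_pointwise_iff_exists] at ha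
    obtain ⟨a', ha', rfl⟩ := ha
    rw [Subgroup.mem_centralizer_iff]
    intro k hk
    rw [SetLike.mem_coe, hg] at hk
    obtain ⟨h', hh', rfl⟩ := Subgroup.mem_map.mp hk
    have hc : h' * a' = a' * h' := hab h' (hH hh') a' ha'
    simp only [MulEquiv.coe_toMonoidHom, MulAut.conj_apply, MulAut.smul_def]
    calc g * h' * g⁻¹ * (g * a' * g⁻¹) = g * (h' * a') * g⁻¹ := by group
      _ = g * (a' * h') * g⁻¹ := by rw [hc]
      _ = g * a' * g⁻¹ * (g * h' * g⁻¹) := by group
  obtain ⟨c, hc⟩ := MulAction.exists_smul_eq (Subgroup.centralizer (K : Set G))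
    ((g • P).subtype h2) (P.subtype h1)
  simp_rw [Sylow.smul_subtype, Subgroup.smul_def, smul_smul] at hc
  have hx : (c : G) * g ∈ Subgroup.normalizer ((P : Subgroup G) : Set G) :=
    Sylow.smul_eq_iff_mem_normalizer.mp (Sylow.subtype_injective hc)
  refine ⟨(c : G) * g, hx, ?_⟩
  have key : ∀ h' ∈ H, g * h' * g⁻¹ ∈ K ∧
      (c : G) * g * h' * ((c : G) * g)⁻¹ = g * h' * g⁻¹ := by
    intro h' hh'
    have hk0 : g * h' * g⁻¹ ∈ K := by
      rw [hg]
      exact Subgroup.mem_map.mpr ⟨h', hh', by simp [MulAut.conj_apply]⟩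
    refine ⟨hk0, ?_⟩
    have hcomm : (g * h' * g⁻¹) * (c : G) = (c : G) * (g * h' * g⁻¹) :=
      (Subgroup.mem_centralizer_iff.mp c.2) _ hk0
    calc (c : G) * g * h' * ((c : G) * g)⁻¹ = ((c : G) * (g * h' * g⁻¹)) * (c : G)⁻¹ := by group
      _ = (g * h' * g⁻¹) * (c : G) * (c : G)⁻¹ := by rw [hcomm]
      _ = g * h' * g⁻¹ := by group
  ext k
  constructor
  · intro hk
    have hk' := hk
    rw [hg] at hk'
    obtain ⟨h', hh', rfl⟩ := Subgroup.mem_map.mp hk'
    refine Subgroup.mem_map.mpr ⟨h', hh', ?_⟩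
    simp only [MulEquiv.coe_toMonoidHom, MulAut.conj_apply]
    exact (key h' hh').2
  · intro hk
    obtain ⟨h', hh', rfl⟩ := Subgroup.mem_map.mp hk
    simp only [MulEquiv.coe_toMonoidHom, MulAut.conj_apply]
    rw [(key h' hh').2]
    exact (key h' hh').1

theorem fusion {G : Type*} [Group G] [Finite G] {p : ℕ} [Fact p.Prime]
    (hC : ∀ H K : Subgroup G, IsPGroup p H → IsPGroup p K → Nat.card H = Nat.card K →
      ∃ g : G, K = H.map (MulAut.conj g).toMonoidHom) (P : Sylow p G)
    (hel : Cfsg.IsElementaryAbelian p (P : Subgroup G)) :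
    ((P : Subgroup G).subgroupOf (Subgroup.normalizer ((P : Subgroup G) : Set G))).Normal ∧
    IsPGroup p ((P : Subgroup G).subgroupOf (Subgroup.normalizer ((P : Subgroup G) : Set G))) ∧
    (((P : Subgroup G).subgroupOf (Subgroup.normalizer ((P : Subgroup G) : Set G))).index).Coprime p ∧
    Nat.card ((P : Subgroup G).subgroupOf (Subgroup.normalizer ((P : Subgroup G) : Set G))) =
      Nat.card P ∧
    Cfsg.IsElementaryAbelian p
      ((P : Subgroup G).subgroupOf (Subgroup.normalizer ((P : Subgroup G) : Set G))) ∧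
    (∀ H K : Subgroup (Subgroup.normalizer ((P : Subgroup G) : Set G)),
      H ≤ (P : Subgroup G).subgroupOf (Subgroup.normalizer ((P : Subgroup G) : Set G)) →
      K ≤ (P : Subgroup G).subgroupOf (Subgroup.normalizer ((P : Subgroup G) : Set G)) →
      Nat.card H = Nat.card K →
      ∃ x : Subgroup.normalizer ((P : Subgroup G) : Set G),
        K = H.map (MulAut.conj x).toMonoidHom) := by
  have hp : p.Prime := Fact.out
  have hab : ∀ a ∈ P, ∀ b ∈ P, a * b = b * a := by
    intro a ha b hb
    have := hel.1.is_comm.comm ⟨a, ha⟩ ⟨b, hb⟩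
    exact congrArg Subtype.val this
  have hPN : (P : Subgroup G) ≤ Subgroup.normalizer ((P : Subgroup G) : Set G) :=
    Subgroup.le_normalizer
  refine ⟨Subgroup.normal_in_normalizer, P.isPGroup'.comap_subtype, ?_, ?_, ?_, ?_⟩
  · have h1 : ((P : Subgroup G).subgroupOf
        (Subgroup.normalizer ((P : Subgroup G) : Set G))).index ∣ (P : Subgroup G).index :=
      Subgroup.relIndex_dvd_index_of_le hPN
    have h2 : ¬ p ∣ (P : Subgroup G).index := P.not_dvd_index
    exact ((Nat.Prime.coprime_iff_not_dvd hp).mpr (fun h => h2 (dvd_trans h h1))).symm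
  · exact Nat.card_congr (Subgroup.subgroupOfEquivOfLe hPN).toEquiv
  · refine ⟨⟨⟨fun a b => ?_⟩⟩, ?_⟩
    · apply Subtype.ext
      apply Subtype.ext
      exact hab _ a.2 _ b.2
    · intro a ha
      apply Subtype.ext
      rw [Subgroup.coe_pow]
      exact hel.2 _ ha
  · intro H K hH hK hcard
    have hinj : Function.Injective
        (Subgroup.normalizer ((P : Subgroup G) : Set G)).subtype := Subtype.coe_injective
    have hH' : H.map (Subgroup.normalizer ((P : Subgroup G) : Set G)).subtype ≤ P := by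
      rintro _ ⟨h', hh', rfl⟩
      exact hH hh'
    have hK' : K.map (Subgroup.normalizer ((P : Subgroup G) : Set G)).subtype ≤ P := by
      rintro _ ⟨h', hh', rfl⟩
      exact hK hh'
    have hcard' : Nat.card (H.map (Subgroup.normalizer ((P : Subgroup G) : Set G)).subtype) =
        Nat.card (K.map (Subgroup.normalizer ((P : Subgroup G) : Set G)).subtype) := by
      rw [Subgroup.card_map_of_injective hinj, Subgroup.card_map_of_injective hinj, hcard]
    obtain ⟨g, hg⟩ := hC _ _ (P.isPGroup'.to_le hH') (P.isPGroup'.to_le hK') hcard'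
    obtain ⟨x, hx, hxK⟩ := h2_burnside P hab _ _ hH' hK' g hg
    refine ⟨⟨x, hx⟩, ?_⟩
    apply Subgroup.map_injective hinj
    rw [hxK, Subgroup.map_map, Subgroup.map_map]
    congr 1

end Cfsg.Agent.Helper5.Sa
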