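import Mathlib
import Cfsg.Agent.Helper2.SmallOrder
import Cfsg.Agent.Helper4.ClassSize
import Cfsg.Agent.Lead.SylowLemmas

set_option autoImplicit false

/-! Groups with a self-centralizing element of prime order: counting elements of order `p`. -/

namespace Cfsg.Agent.Helper2.SelfCent

theorem card_eq_mul_of_fibers {α β : Type*} [Finite α] [Finite β] (f : α → β) (k : ℕ)
    (h : ∀ b, Nat.card {a // f a = b} = k) : Nat.card α = Nat.card β * k := by
  classical
  haveI := Fintype.ofFinite β
  rw [← Nat.card_congr (Equiv.sigmaFiberEquiv f), Nat.card_sigma]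
  simp only [h, Finset.sum_const, Finset.card_univ, smul_eq_mul, Nat.card_eq_fintype_card]

theorem card_ne {α : Type*} [Finite α] (a : α) : Nat.card {x : α // x ≠ a} = Nat.card α - 1 := by
  classical
  haveI := Fintype.ofFinite α
  rw [Nat.card_eq_fintype_card, Nat.card_eq_fintype_card, Fintype.card_subtype_compl,
    Fintype.card_subtype_eq]

variable {G : Type*} [Group G] [Finite G] {p : ℕ} [hp : Fact p.Prime] (z : G)

section
variable (hz : orderOf z = p) (hC : Subgroup.centralizer ({z} : Set G) = Subgroup.zpowers z)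
include hz hC

theorem mem_zpowers_of_commute (y : G) (h : y * z = z * y) : y ∈ Subgroup.zpowers z := by
  rw [← hC, Subgroup.mem_centralizer_iff]
  intro x hx
  rw [Set.mem_singleton_iff] at hx
  rw [hx]; exact h.symm

/-- `⟨z⟩` is a Sylow `p`-subgroup -/
theorem exists_sylow : ∃ P : Sylow p G, (P : Subgroup G) = Subgroup.zpowers z := by
  have hcard : Nat.card (Subgroup.zpowers z) = p := by rw [Nat.card_zpowers, hz]
  have hPp : IsPGroup p (Subgroup.zpowers z) := IsPGroup.of_card (n := 1) (by rw [hcard, pow_one])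
  obtain ⟨Q, hQ⟩ := hPp.exists_le_sylow
  refine ⟨Q, le_antisymm ?_ hQ⟩
  have hzQ : z ∈ (Q : Subgroup G) := hQ (Subgroup.mem_zpowers z)
  haveI : Nontrivial ↥(Q : Subgroup G) := by
    refine ⟨⟨⟨z, hzQ⟩, 1, ?_⟩⟩
    intro h
    have h1 : z = 1 := congrArg Subtype.val h
    rw [h1, orderOf_one] at hz
    exact hp.out.one_lt.ne hz
  haveI : Nontrivial (Subgroup.center ↥(Q : Subgroup G)) := Q.isPGroup'.center_nontrivial
  obtain ⟨⟨y, hyc⟩, hy1⟩ := exists_ne (1 : Subgroup.center ↥(Q : Subgroup G))
  have hy1' : (y : G) ≠ 1 := by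
    intro h
    apply hy1
    exact Subtype.ext (Subtype.ext h)
  have hyz : (y : G) ∈ Subgroup.zpowers z := by
    apply mem_zpowers_of_commute z hz hC
    have := Subgroup.mem_center_iff.mp hyc ⟨z, hzQ⟩
    exact (congrArg Subtype.val this).symm
  -- `y` generates `⟨z⟩`
  haveI : Fact (Nat.card (Subgroup.zpowers z)).Prime := by rw [hcard]; exact hp
  have hgen : Subgroup.zpowers (⟨(y : G), hyz⟩ : Subgroup.zpowers z) = ⊤ :=
    zpowers_eq_top_of_prime_card rfl (by
      intro h
      exact hy1' (congrArg Subtype.val h))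
  have hzy : ∃ k : ℤ, (y : G) ^ k = z := by
    have h1 : (⟨z, Subgroup.mem_zpowers z⟩ : Subgroup.zpowers z) ∈
        Subgroup.zpowers (⟨(y : G), hyz⟩ : Subgroup.zpowers z) := by rw [hgen]; trivial
    obtain ⟨k, hk⟩ := Subgroup.mem_zpowers_iff.mp h1
    exact ⟨k, by have := congrArg Subtype.val hk; simpa using this⟩
  obtain ⟨k, hk⟩ := hzy
  intro q hq
  apply mem_zpowers_of_commute z hz hC
  have h1 := Subgroup.mem_center_iff.mp hyc ⟨q, hq⟩
  have h2 : q * (y : G) = (y : G) * q := congrArg Subtype.val h1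
  have h3 : Commute q (y : G) := h2
  rw [← hk]
  exact h3.zpow_right k

theorem factorization_eq_one : (Nat.card G).factorization p = 1 := by
  obtain ⟨P, hP⟩ := exists_sylow z hz hC
  have h1 := P.card_eq_multiplicity
  rw [hP, Nat.card_zpowers, hz] at h1
  have h2 : p ^ 1 = p ^ (Nat.card G).factorization p := by rw [pow_one]; exact h1
  exact (Nat.pow_right_injective hp.out.two_le h2).symm

/-- every element of order `p` has centralizer of order `p` -/
theorem card_centralizer (g : G) (hg : orderOf g = p) :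
    Nat.card (Subgroup.centralizer ({g} : Set G)) = p := by
  obtain ⟨P, hP⟩ := exists_sylow z hz hC
  have hgp : IsPGroup p (Subgroup.zpowers g) :=
    IsPGroup.of_card (n := 1) (by rw [Nat.card_zpowers, hg, pow_one])
  obtain ⟨x, hx⟩ := Cfsg.Agent.Lead.exists_conj_le_sylow P (Subgroup.zpowers g) hgp
  rw [hP] at hx
  have hmem : x * g * x⁻¹ ∈ Subgroup.zpowers z := hx ⟨g, Subgroup.mem_zpowers g, rfl⟩
  have hne : x * g * x⁻¹ ≠ 1 := by
    intro h
    have : g = 1 := by
      have h2 : g = x⁻¹ * (x * g * x⁻¹) * x := by group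
      rw [h2, h]; group
    rw [this, orderOf_one] at hg
    exact hp.out.one_lt.ne hg
  have hcard : Nat.card (Subgroup.zpowers z) = p := by rw [Nat.card_zpowers, hz]
  haveI : Fact (Nat.card (Subgroup.zpowers z)).Prime := by rw [hcard]; exact hp
  have hgen : Subgroup.zpowers (⟨x * g * x⁻¹, hmem⟩ : Subgroup.zpowers z) = ⊤ :=
    zpowers_eq_top_of_prime_card rfl (by
      intro h
      exact hne (congrArg Subtype.val h))
  obtain ⟨k, hk⟩ : ∃ k : ℤ, (x * g * x⁻¹) ^ k = z := by
    have h1 : (⟨z, Subgroup.mem_zpowers z⟩ : Subgroup.zpowers z) ∈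
        Subgroup.zpowers (⟨x * g * x⁻¹, hmem⟩ : Subgroup.zpowers z) := by rw [hgen]; trivial
    obtain ⟨k, hk⟩ := Subgroup.mem_zpowers_iff.mp h1
    exact ⟨k, by have := congrArg Subtype.val hk; simpa using this⟩
  obtain ⟨l, hl⟩ := Subgroup.mem_zpowers_iff.mp hmem
  -- the centralizers of `z` and of the conjugate of `g` agree
  have hceq : Subgroup.centralizer ({x * g * x⁻¹} : Set G) = Subgroup.centralizer ({z} : Set G) := by
    ext y
    rw [Subgroup.mem_centralizer_iff, Subgroup.mem_centralizer_iff]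
    constructor
    · intro h w hw
      rw [Set.mem_singleton_iff] at hw
      have h1 : Commute (x * g * x⁻¹) y := h _ rfl
      rw [hw, ← hk]
      exact h1.zpow_left k
    · intro h w hw
      rw [Set.mem_singleton_iff] at hw
      have h1 : Commute z y := h _ rfl
      rw [hw, ← hl]
      exact h1.zpow_left l
  have hidx : (Subgroup.centralizer ({g} : Set G)).index =
      (Subgroup.centralizer ({x * g * x⁻¹} : Set G)).index := by
    rw [Cfsg.Agent.Helper4.index_centralizer_eq_card_conj,
      Cfsg.Agent.Helper4.index_centralizer_eq_card_conj]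
    apply Nat.card_congr
    refine Equiv.subtypeEquivRight ?_
    intro y
    have hconj : IsConj g (x * g * x⁻¹) := isConj_iff.mpr ⟨x, rfl⟩
    exact ⟨fun h => hconj.symm.trans h, fun h => hconj.trans h⟩
  have h1 := (Subgroup.centralizer ({g} : Set G)).card_mul_index
  have h2 := (Subgroup.centralizer ({x * g * x⁻¹} : Set G)).card_mul_index
  rw [hidx] at h1
  have hc2 : Nat.card (Subgroup.centralizer ({x * g * x⁻¹} : Set G)) = p := by
    rw [hceq, hC, hcard]
  rw [hc2] at h2
  have hpos : 0 < (Subgroup.centralizer ({x * g * x⁻¹} : Set G)).index := by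
    rw [Nat.pos_iff_ne_zero]
    exact Subgroup.index_ne_zero_of_finite
  exact Nat.eq_of_mul_eq_mul_right hpos (h1.trans h2.symm)

end

end Cfsg.Agent.Helper2.SelfCent
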