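import Mathlib
import Cfsg.Agent.Helper2.SelfCent

set_option autoImplicit false

/-! Groups with a self-centralizing element of prime order: the counting formula. -/

namespace Cfsg.Agent.Helper2.SelfCent

variable {G : Type*} [Group G] [Finite G] {p : ℕ} [hp : Fact p.Prime] (z : G)
  (hz : orderOf z = p) (hC : Subgroup.centralizer ({z} : Set G) = Subgroup.zpowers z)
include hz hC

theorem card_sylow_eq (Q : Sylow p G) : Nat.card (Q : Subgroup G) = p := by
  rw [Q.card_eq_multiplicity, factorization_eq_one z hz hC, pow_one]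

/-- the number of elements of order `p` -/
theorem card_order_p_sylow :
    Nat.card {g : G // orderOf g = p} = Nat.card (Sylow p G) * (p - 1) := by
  have hfac := factorization_eq_one z hz hC
  let f : {g : G // orderOf g = p} → Sylow p G := fun g =>
    Sylow.ofCard (Subgroup.zpowers g.1) (by rw [Nat.card_zpowers, g.2, hfac, pow_one])
  apply card_eq_mul_of_fibers f
  intro Q
  have hQc := card_sylow_eq z hz hC Q
  have hne1 : Nat.card {x : ↥(Q : Subgroup G) // x ≠ 1} = p - 1 := by
    rw [card_ne, hQc]
  rw [← hne1]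
  apply Nat.card_congr
  refine
    { toFun := fun a => ⟨⟨a.1.1, ?_⟩, ?_⟩
      invFun := fun x => ⟨⟨x.1.1, ?_⟩, ?_⟩
      left_inv := fun a => by rfl
      right_inv := fun x => by rfl }
  · have h1 : (f a.1 : Subgroup G) = (Q : Subgroup G) := by rw [a.2]
    rw [← h1]
    exact Subgroup.mem_zpowers _
  · intro h
    have h1 : a.1.1 = 1 := congrArg Subtype.val h
    have h2 := a.1.2
    rw [h1, orderOf_one] at h2
    exact hp.out.one_lt.ne h2
  · have h0 : orderOf x.1 ∣ Nat.card ↥(Q : Subgroup G) := orderOf_dvd_natCard _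
    have h1 : orderOf x.1 ∣ p := by rw [hQc] at h0; exact h0
    rcases (Nat.dvd_prime hp.out).mp h1 with h | h
    · exfalso
      exact x.2 (orderOf_eq_one_iff.mp h)
    · exact (Subgroup.orderOf_coe x.1).trans h
  · have ho : orderOf (x.1 : G) = p := by
      have h0 : orderOf x.1 ∣ Nat.card ↥(Q : Subgroup G) := orderOf_dvd_natCard _
      have h1 : orderOf x.1 ∣ p := by rw [hQc] at h0; exact h0
      rcases (Nat.dvd_prime hp.out).mp h1 with h | h
      · exfalso
        exact x.2 (orderOf_eq_one_iff.mp h)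
      · exact (Subgroup.orderOf_coe x.1).trans h
    apply Sylow.ext
    change Subgroup.zpowers (x.1 : G) = (Q : Subgroup G)
    apply Subgroup.eq_of_le_of_card_ge
    · rw [Subgroup.zpowers_le]; exact x.1.2
    · rw [Nat.card_zpowers, ho, hQc]

/-- the number of elements of order `p`, by conjugacy classes -/
theorem card_order_p_classes :
    Nat.card {g : G // orderOf g = p} =
      Nat.card {c : ConjClasses G // ∃ g : G, ConjClasses.mk g = c ∧ orderOf g = p} *
        (Nat.card G / p) := by
  let f : {g : G // orderOf g = p} →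
      {c : ConjClasses G // ∃ g : G, ConjClasses.mk g = c ∧ orderOf g = p} :=
    fun a => ⟨ConjClasses.mk a.1, a.1, rfl, a.2⟩
  apply card_eq_mul_of_fibers f
  rintro ⟨c, g₀, rfl, hg₀⟩
  have hidx : (Subgroup.centralizer ({g₀} : Set G)).index = Nat.card G / p := by
    have h1 := (Subgroup.centralizer ({g₀} : Set G)).card_mul_index
    rw [card_centralizer z hz hC g₀ hg₀] at h1
    exact (Nat.div_eq_of_eq_mul_right hp.out.pos h1.symm).symm
  rw [← hidx, Cfsg.Agent.Helper4.index_centralizer_eq_card_conj]
  apply Nat.card_congr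
  refine
    { toFun := fun a => ⟨a.1.1, ?_⟩
      invFun := fun y => ⟨⟨y.1, ?_⟩, ?_⟩
      left_inv := fun a => by rfl
      right_inv := fun y => by rfl }
  · have h1 : ConjClasses.mk a.1.1 = ConjClasses.mk g₀ := congrArg Subtype.val a.2
    exact (ConjClasses.mk_eq_mk_iff_isConj.mp h1).symm
  · obtain ⟨x, hx⟩ := isConj_iff.mp y.2
    have h1 : x * g₀ * x⁻¹ = MulAut.conj x g₀ := rfl
    rw [← hx, h1, MulEquiv.orderOf_eq]
    exact hg₀
  · apply Subtype.ext
    exact ConjClasses.mk_eq_mk_iff_isConj.mpr y.2.symm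

theorem main :
    ∃ n t : ℕ, t = Nat.card {c : ConjClasses G // ∃ g : G, ConjClasses.mk g = c ∧ orderOf g = p} ∧
      t ∣ p - 1 ∧ Nat.card (Sylow p G) = 1 + n * p ∧
      Nat.card G * t = (p - 1) * p * (1 + n * p) := by
  obtain ⟨P, hP⟩ := exists_sylow z hz hC
  set nS := Nat.card (Sylow p G) with hnS
  set t := Nat.card {c : ConjClasses G // ∃ g : G, ConjClasses.mk g = c ∧ orderOf g = p} with ht
  have hnSpos : 1 ≤ nS := Nat.card_pos
  have hmod : nS ≡ 1 [MOD p] := card_sylow_modEq_one p G
  have hdvd : p ∣ nS - 1 := (Nat.modEq_iff_dvd' hnSpos).mp hmod.symm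
  obtain ⟨n, hn⟩ := hdvd
  have hnS' : nS = 1 + n * p := by rw [mul_comm]; omega
  have hE1 := card_order_p_sylow z hz hC
  have hE2 := card_order_p_classes z hz hC
  have hpG : p ∣ Nat.card G := by
    have h1 := Subgroup.card_subgroup_dvd_card (Subgroup.zpowers z)
    rwa [Nat.card_zpowers, hz] at h1
  have hidx : p * (Nat.card G / p) = Nat.card G := Nat.mul_div_cancel' hpG
  have hmain : Nat.card G * t = (p - 1) * p * nS := by
    calc Nat.card G * t = p * (Nat.card G / p) * t := by rw [hidx]
      _ = p * (t * (Nat.card G / p)) := by ring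
      _ = p * (nS * (p - 1)) := by rw [← hE2, hE1]
      _ = (p - 1) * p * nS := by ring
  -- the normalizer
  have hcardP : Nat.card (P : Subgroup G) = p := card_sylow_eq z hz hC P
  have hPc : IsCyclic (P : Subgroup G) := by
    haveI : Fact (Nat.card (P : Subgroup G)).Prime := by rw [hcardP]; exact hp
    exact isCyclic_of_prime_card rfl
  have he := Cfsg.Agent.Helper2.SmallOrder.relIndex_centralizer_normalizer_dvd (P : Subgroup G) hPc
  rw [hcardP, Nat.totient_prime hp.out] at he
  set N := Subgroup.normalizer ((P : Subgroup G) : Set G) with hN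
  set C := Subgroup.centralizer ((P : Subgroup G) : Set G) with hCdef
  have hCN : C ≤ N := Subgroup.centralizer_le_normalizer _
  have hCeq : C = Subgroup.zpowers z := by
    apply le_antisymm
    · intro y hy
      apply mem_zpowers_of_commute z hz hC
      have := Subgroup.mem_centralizer_iff.mp hy z (by rw [hP]; exact Subgroup.mem_zpowers z)
      exact this.symm
    · intro y hy
      rw [hCdef, Subgroup.mem_centralizer_iff]
      intro w hw
      rw [SetLike.mem_coe, hP] at hw
      obtain ⟨k, rfl⟩ := Subgroup.mem_zpowers_iff.mp hw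
      obtain ⟨l, rfl⟩ := Subgroup.mem_zpowers_iff.mp hy
      rw [← zpow_add, ← zpow_add, add_comm]
  have hcardC : Nat.card C = p := by rw [hCeq, Nat.card_zpowers, hz]
  have hcardN : Nat.card N = C.relIndex N * p := by
    have h1 := (C.subgroupOf N).card_mul_index
    have h2 : Nat.card (C.subgroupOf N) = Nat.card C :=
      Nat.card_congr (Subgroup.subgroupOfEquivOfLe hCN).toEquiv
    rw [h2, hcardC] at h1
    rw [← h1]; exact mul_comm _ _
  have hG := Cfsg.Agent.Helper2.SmallOrder.card_normalizer_mul_card_sylow P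
  rw [← hN, hcardN, ← hnS] at hG
  refine ⟨n, t, rfl, ?_, hnS', by rw [← hnS']; exact hmain⟩
  -- `t * e = p - 1`
  have h1 : C.relIndex N * p * nS * t = (p - 1) * p * nS := by rw [hG]; exact hmain
  have h2 : (C.relIndex N * t) * (p * nS) = (p - 1) * (p * nS) := by
    calc (C.relIndex N * t) * (p * nS) = C.relIndex N * p * nS * t := by ring
      _ = (p - 1) * p * nS := h1
      _ = (p - 1) * (p * nS) := by ring
  have hpos : 0 < p * nS := Nat.mul_pos hp.out.pos hnSpos
  have h3 := Nat.eq_of_mul_eq_mul_right hpos h2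
  exact ⟨C.relIndex N, by rw [← h3]; exact mul_comm _ _⟩

end Cfsg.Agent.Helper2.SelfCent
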