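import Mathlib
import Cfsg.Prelude.Def_LieExceptional
import Cfsg.Agent.Helper2.Sharp3A
import Cfsg.Agent.Helper2.Sh3OddD

/-!
# Sharply triply transitive groups of even degree at least six are Zassenhaus groups
-/

set_option autoImplicit false
set_option linter.style.haveILetI false
set_option linter.unusedSectionVars false

namespace Cfsg.Agent.Helper2.Sh3Sim

open MulAction Cfsg.Agent.Helper2.Sharp3 Cfsg.Agent.Helper2.Sh3Odd

variable {G Ω : Type*} [Group G] [MulAction G Ω] [Fintype Ω]

/-- the order of a two-point stabiliser of a sharply triply transitive group -/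
theorem card_two_point_sharp (h : SharpThree G Ω) (h4 : 4 ≤ Fintype.card Ω) {a b : Ω}
    (hab : a ≠ b) :
    Nat.card ↥(stabilizer G a ⊓ stabilizer G b : Subgroup G) + 2 = Fintype.card Ω := by
  classical
  obtain ⟨c, hca, hcb, -⟩ := exists_ne_three h4 a b b
  set H : Subgroup G := stabilizer G a ⊓ stabilizer G b with hH
  have hmemH : ∀ h' : G, h' ∈ H ↔ h' • a = a ∧ h' • b = b := by
    intro h'
    rw [hH, Subgroup.mem_inf, mem_stabilizer_iff, mem_stabilizer_iff]
  let φ : H → (({a, b} : Set Ω)ᶜ : Set Ω) := fun u => ⟨(u : G) • c, by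
    intro e
    have hu := (hmemH u).1 u.2
    rcases e with e | e
    · have e' : (u : G) • c = a := e
      have : (u : G) • c = (u : G) • a := by rw [e', hu.1]
      exact hca (smul_left_cancel _ this)
    · have e' : (u : G) • c = b := e
      have : (u : G) • c = (u : G) • b := by rw [e', hu.2]
      exact hcb (smul_left_cancel _ this)⟩
  have hφ : Function.Bijective φ := by
    constructor
    · intro u v huv
      have huv' : (u : G) • c = (v : G) • c := congrArg Subtype.val huv
      have hu := (hmemH u).1 u.2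
      have hv := (hmemH v).1 v.2
      have h1 : ((v : G)⁻¹ * (u : G)) • c = c := by rw [mul_smul, huv', inv_smul_smul]
      have h2 : ((v : G)⁻¹ * (u : G)) • a = a := by
        rw [mul_smul, hu.1, inv_smul_eq_iff, hv.1]
      have h3 : ((v : G)⁻¹ * (u : G)) • b = b := by
        rw [mul_smul, hu.2, inv_smul_eq_iff, hv.2]
      have h4 := h.sharp _ a b c hab (Ne.symm hca) (Ne.symm hcb) h2 h3 h1
      exact Subtype.ext (inv_mul_eq_one.mp h4).symm
    · rintro ⟨z, hz⟩
      have hza : z ≠ a := fun e => hz (Or.inl e)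
      have hzb : z ≠ b := fun e => hz (Or.inr e)
      obtain ⟨u, hu1, hu2, hu3⟩ := h.trans a b c a b z hab (Ne.symm hca) (Ne.symm hcb) hab
        (Ne.symm hza) (Ne.symm hzb)
      exact ⟨⟨u, (hmemH u).2 ⟨hu1, hu2⟩⟩, Subtype.ext hu3⟩
  rw [Nat.card_eq_of_bijective φ hφ, Nat.card_coe_set_eq, Set.ncard_compl,
    Set.ncard_pair hab, Nat.card_eq_fintype_card]
  omega

/-- a sharply triply transitive group of even degree at least six has no regular normal
subgroup -/
theorem noreg_of_sharpThree [Finite G] (h : SharpThree G Ω) (heven : Even (Fintype.card Ω))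
    (h6 : 6 ≤ Fintype.card Ω) (R : Subgroup G) (hRn : R.Normal) (hRt : IsPretransitive R Ω) :
    ∃ a : Ω, stabilizer R a ≠ ⊥ := by
  classical
  by_contra hcon
  push_neg at hcon
  have h4 : 4 ≤ Fintype.card Ω := by omega
  have hpos : 0 < Fintype.card Ω := by omega
  obtain ⟨a⟩ : Nonempty Ω := Fintype.card_pos_iff.mp hpos
  have hex : ∀ x : Ω, ∃ r ∈ R, r • a = x := by
    intro x
    obtain ⟨r, hr⟩ := MulAction.exists_smul_eq R a x
    exact ⟨r, r.2, hr⟩
  have huniq : ∀ r ∈ R, ∀ r' ∈ R, ∀ x : Ω, r • x = r' • x → r = r' := by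
    intro r hr r' hr' x hx
    have hmem : (⟨r'⁻¹ * r, R.mul_mem (R.inv_mem hr') hr⟩ : R) ∈ stabilizer R x := by
      rw [mem_stabilizer_iff]
      show (r'⁻¹ * r) • x = x
      rw [mul_smul, hx, inv_smul_smul]
    rw [hcon x, Subgroup.mem_bot] at hmem
    have h1 : r'⁻¹ * r = 1 := congrArg Subtype.val hmem
    exact (inv_mul_eq_one.mp h1).symm
  -- exponent two
  have hexp : ∀ r ∈ R, r * r = 1 := by
    intro r hr
    by_contra hr2
    have hr1 : r ≠ 1 := by
      rintro rfl
      exact hr2 (mul_one 1)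
    have hxa : r • a ≠ a := by
      intro e
      apply hr1
      exact huniq r hr 1 R.one_mem a (by rw [one_smul]; exact e)
    have hya : (r * r) • a ≠ a := by
      intro e
      apply hr2
      exact huniq (r * r) (R.mul_mem hr hr) 1 R.one_mem a (by rw [one_smul]; exact e)
    have hyx : (r * r) • a ≠ r • a := by
      intro e
      have h1 := huniq (r * r) (R.mul_mem hr hr) r hr a e
      apply hr1
      exact mul_left_cancel (h1.trans (mul_one r).symm)
    obtain ⟨w, hwa, hwx, -⟩ := exists_ne_three h4 a (r • a) (r • a)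
    obtain ⟨w', hw'a, hw'x, hw'w⟩ := exists_ne_three h4 a (r • a) w
    obtain ⟨g, hga, hgx, hgw⟩ := h.trans a (r • a) w a (r • a) w' (Ne.symm hxa) (Ne.symm hwa)
      (Ne.symm hwx) (Ne.symm hxa) (Ne.symm hw'a) (Ne.symm hw'x)
    have hg1 : g ≠ 1 := by
      rintro rfl
      rw [one_smul] at hgw
      exact hw'w hgw.symm
    have hgia : g⁻¹ • a = a := by rw [inv_smul_eq_iff, hga]
    have hconj : g * r * g⁻¹ = r := by
      apply huniq _ (hRn.conj_mem r hr g) r hr a
      rw [mul_smul, mul_smul, hgia, hgx]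
    have hgy : g • ((r * r) • a) = (r * r) • a := by
      have e1 : g * (r * r) = (g * r * g⁻¹) * (g * r * g⁻¹) * g := by group
      rw [← mul_smul, e1, hconj, mul_smul, hga]
    exact hg1 (h.sharp g a (r • a) ((r * r) • a) (Ne.symm hxa) (Ne.symm hya) (Ne.symm hyx)
      hga hgx hgy)
  have hinv : ∀ r ∈ R, r⁻¹ = r := fun r hr => inv_eq_of_mul_eq_one_right (hexp r hr)
  have hcomm : ∀ r ∈ R, ∀ r' ∈ R, r * r' = r' * r := by
    intro r hr r' hr'
    have h2 : r * r' = (r * r')⁻¹ := (hinv _ (R.mul_mem hr hr')).symm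
    rw [mul_inv_rev, hinv r hr, hinv r' hr'] at h2
    exact h2
  -- an involution in a two-point stabiliser
  obtain ⟨b, hba, -, -⟩ := exists_ne_three h4 a a a
  have hab : a ≠ b := Ne.symm hba
  have hE := card_two_point_sharp h h4 hab
  have hEeven : Even (Nat.card ↥(stabilizer G a ⊓ stabilizer G b : Subgroup G)) := by
    obtain ⟨k, hk⟩ := heven
    exact ⟨k - 1, by omega⟩
  haveI : Fact (Nat.Prime 2) := ⟨Nat.prime_two⟩
  obtain ⟨z, hz⟩ := exists_prime_orderOf_dvd_card'
    (G := ↥(stabilizer G a ⊓ stabilizer G b : Subgroup G)) 2 (even_iff_two_dvd.1 hEeven)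
  have hz2 : (z : G) * (z : G) = 1 := by
    have h1 : z * z = 1 := by rw [← pow_two, ← hz, pow_orderOf_eq_one]
    exact congrArg Subtype.val h1
  have hz1 : (z : G) ≠ 1 := by
    intro e
    have h1 : z = 1 := Subtype.ext e
    rw [h1, orderOf_one] at hz
    omega
  have hzmem := z.2
  rw [Subgroup.mem_inf, mem_stabilizer_iff, mem_stabilizer_iff] at hzmem
  obtain ⟨hza, hzb⟩ := hzmem
  have hzfix : ∀ x : Ω, (z : G) • x = x → x = a ∨ x = b := by
    intro x hx
    by_contra hc
    push_neg at hc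
    exact hz1 (h.sharp z a b x hab (Ne.symm hc.1) (Ne.symm hc.2) hza hzb hx)
  obtain ⟨rb, hrb, hrbb⟩ := hex b
  have hC : ∀ r ∈ R, (z : G) * r * (z : G)⁻¹ = r → r = 1 ∨ r = rb := by
    intro r hr hc
    have h1 : (z : G) • (r • a) = r • a := by
      have e : (z : G) * r = ((z : G) * r * (z : G)⁻¹) * z := by group
      rw [← mul_smul, e, hc, mul_smul, hza]
    rcases hzfix _ h1 with e | e
    · left
      exact huniq r hr 1 R.one_mem a (by rw [one_smul]; exact e)
    · right
      exact huniq r hr rb hrb a (by rw [hrbb]; exact e)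
  have hcj : ∀ r ∈ R, (z : G) * r * (z : G)⁻¹ ∈ R := fun r hr => hRn.conj_mem r hr z
  have hfR : ∀ r ∈ R, r * ((z : G) * r * (z : G)⁻¹) ∈ R := fun r hr => R.mul_mem hr (hcj r hr)
  have hfC : ∀ r ∈ R, r * ((z : G) * r * (z : G)⁻¹) = 1 ∨ r * ((z : G) * r * (z : G)⁻¹) = rb := by
    intro r hr
    apply hC _ (hfR r hr)
    have e1 : (z : G) * (r * ((z : G) * r * (z : G)⁻¹)) * (z : G)⁻¹ =
        ((z : G) * r * (z : G)⁻¹) * (((z : G) * (z : G)) * r * ((z : G) * (z : G))⁻¹) := by group
    rw [e1, hz2, one_mul, inv_one, mul_one]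
    exact hcomm _ (hcj r hr) r hr
  have hfib : ∀ r ∈ R, ∀ r' ∈ R,
      r * ((z : G) * r * (z : G)⁻¹) = r' * ((z : G) * r' * (z : G)⁻¹) → r = r' ∨ r = r' * rb := by
    intro r hr r' hr' e
    have hmem := R.mul_mem hr' hr
    have hc : (z : G) * (r' * r) * (z : G)⁻¹ = r' * r := by
      set A := (z : G) * r * (z : G)⁻¹ with hA
      set B := (z : G) * r' * (z : G)⁻¹ with hB
      have hAR : A ∈ R := hcj r hr
      have hBR : B ∈ R := hcj r' hr'
      have e2 : (z : G) * (r' * r) * (z : G)⁻¹ = B * A := by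
        rw [hA, hB]
        group
      have e3 : A = r * (r' * B) := by
        calc A = (r * r) * A := by rw [hexp r hr, one_mul]
          _ = r * (r * A) := mul_assoc _ _ _
          _ = r * (r' * B) := by rw [e]
      rw [e2, e3]
      calc B * (r * (r' * B)) = (B * r) * (r' * B) := (mul_assoc _ _ _).symm
        _ = (r * B) * (r' * B) := by rw [hcomm B hBR r hr]
        _ = r * (B * r') * B := by simp only [mul_assoc]
        _ = r * (r' * B) * B := by rw [hcomm B hBR r' hr']
        _ = r * r' * (B * B) := by simp only [mul_assoc]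
        _ = r * r' := by rw [hexp B hBR, mul_one]
        _ = r' * r := hcomm r hr r' hr'
    rcases hC _ hmem hc with h1 | h1
    · left
      have h2 := eq_inv_of_mul_eq_one_right h1
      rw [hinv r' hr'] at h2
      exact h2
    · right
      have h2 : r = r'⁻¹ * rb := by
        rw [← h1]
        group
      rw [hinv r' hr'] at h2
      exact h2
  -- choose a representative of the second fibre
  obtain ⟨r₁, hr₁, hr₁f⟩ : ∃ r₁ ∈ R, ∀ r ∈ R, r * ((z : G) * r * (z : G)⁻¹) = rb →
      r * ((z : G) * r * (z : G)⁻¹) = r₁ * ((z : G) * r₁ * (z : G)⁻¹) := by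
    by_cases hex1 : ∃ r₁ ∈ R, r₁ * ((z : G) * r₁ * (z : G)⁻¹) = rb
    · obtain ⟨r₁, hr₁, e⟩ := hex1
      exact ⟨r₁, hr₁, fun r _ er => er.trans e.symm⟩
    · push_neg at hex1
      exact ⟨1, R.one_mem, fun r hr er => absurd er (hex1 r hr)⟩
  have hsub : (Finset.univ : Finset Ω) ⊆ {a, b, r₁ • a, (r₁ * rb) • a} := by
    intro x _
    obtain ⟨r, hr, hrx⟩ := hex x
    simp only [Finset.mem_insert, Finset.mem_singleton]
    rcases hfC r hr with e | e
    · have e0 : r * ((z : G) * r * (z : G)⁻¹) = 1 * ((z : G) * 1 * (z : G)⁻¹) := by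
        rw [e]
        group
      rcases hfib r hr 1 R.one_mem e0 with h1 | h1
      · left
        rw [← hrx, h1, one_smul]
      · right; left
        rw [← hrx, h1, one_mul, hrbb]
    · rcases hfib r hr r₁ hr₁ (hr₁f r hr e) with h1 | h1
      · right; right; left
        rw [← hrx, h1]
      · right; right; right
        rw [← hrx, h1]
  have hle := Finset.card_le_card hsub
  have h4' : ({a, b, r₁ • a, (r₁ * rb) • a} : Finset Ω).card ≤ 4 := Finset.card_le_four
  rw [Finset.card_univ] at hle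
  omega

/-- a sharply triply transitive group of even degree at least six is a Zassenhaus group -/
theorem zassenhaus_of_sharpThree [Finite G] (h : SharpThree G Ω) (heven : Even (Fintype.card Ω))
    (h6 : 6 ≤ Fintype.card Ω) : Cfsg.IsZassenhausGroup G Ω := by
  classical
  have h4 : 4 ≤ Fintype.card Ω := by omega
  have hpos : 0 < Fintype.card Ω := by omega
  obtain ⟨a⟩ : Nonempty Ω := Fintype.card_pos_iff.mp hpos
  obtain ⟨b, hba, -, -⟩ := exists_ne_three h4 a a a
  obtain ⟨c, hca, hcb, -⟩ := exists_ne_three h4 a b b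
  obtain ⟨d, hda, hdb, hdc⟩ := exists_ne_three h4 a b c
  refine ⟨⟨?_⟩, two_pretransitive_of_sharpThree h h4,
    fun g x y z hxy hyz hxz => h.sharp g x y z hxy hxz hyz, ?_,
    fun R hRn hRt => noreg_of_sharpThree h heven h6 R hRn hRt⟩
  · intro g g' hgg'
    have h1 : ∀ x : Ω, (g'⁻¹ * g) • x = x := by
      intro x
      rw [mul_smul, hgg' x, inv_smul_smul]
    have h2 := h.sharp (g'⁻¹ * g) a b c (Ne.symm hba) (Ne.symm hca) (Ne.symm hcb) (h1 a) (h1 b)
      (h1 c)
    exact (inv_mul_eq_one.mp h2).symm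
  · obtain ⟨g, hga, hgb, hgc⟩ := h.trans a b c a b d (Ne.symm hba) (Ne.symm hca) (Ne.symm hcb)
      (Ne.symm hba) (Ne.symm hda) (Ne.symm hdb)
    refine ⟨g, ?_, a, b, Ne.symm hba, hga, hgb⟩
    rintro rfl
    rw [one_smul] at hgc
    exact hdc hgc.symm

end Cfsg.Agent.Helper2.Sh3Sim
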