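import Mathlib
import Cfsg.Agent.Helper2.Sh3SimH
import Cfsg.Agent.Helper2.Sh3OddD
import Cfsg.Agent.S0740

/-!
# Sharply triply transitive Zassenhaus groups of even degree: the two-point stabiliser has a
normal subgroup of index two
-/

set_option autoImplicit false
set_option linter.style.haveILetI false
set_option linter.unusedSectionVars false

namespace Cfsg.Agent.Helper2.Sh3Sim

open MulAction Cfsg.Agent.Helper6 Cfsg.Agent.Helper2.Sh3Odd

universe u v

variable {G : Type u} {Ω : Type v} [Group G] [MulAction G Ω]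

/-- two involutions in a two-point stabiliser acting freely on an abelian regular normal subgroup
of the point stabiliser coincide -/
theorem invol_unique
    (hp3 : ∀ g : G, ∀ a b c : Ω, a ≠ b → b ≠ c → a ≠ c → g • a = a → g • b = b → g • c = c → g = 1)
    {a b : Ω} (hab : a ≠ b) (N : Subgroup G) (hNa : ∀ n ∈ N, n • a = a)
    (hNfree : ∀ n ∈ N, ∀ y : Ω, y ≠ a → n • y = y → n = 1)
    (hNnorm : ∀ g : G, g • a = a → ∀ n ∈ N, g * n * g⁻¹ ∈ N)
    (hNcomm : ∀ n ∈ N, ∀ m ∈ N, n * m = m * n) (hN1 : ∃ x ∈ N, x ≠ 1)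
    (t t' : G) (hta : t • a = a) (htb : t • b = b) (ht2 : t * t = 1) (ht1 : t ≠ 1)
    (hta' : t' • a = a) (htb' : t' • b = b) (ht2' : t' * t' = 1) (ht1' : t' ≠ 1) : t = t' := by
  have hfpf : ∀ h : G, h • a = a → h • b = b → ∀ x ∈ N, x ≠ 1 → h * x * h⁻¹ = x → h = 1 := by
    intro h hha hhb x hx hx1 hconj
    have hxa : x • a = a := hNa x hx
    have hcomm : h * x = x * h := by
      have : h * x = (h * x * h⁻¹) * h := by group
      rw [this, hconj]
    have h3 : h • (x • b) = x • b := by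
      rw [← mul_smul, hcomm, mul_smul, hhb]
    have hxb : x • b ≠ b := fun e => hx1 (hNfree x hx b (Ne.symm hab) e)
    have hxba : x • b ≠ a := by
      intro e
      apply hab
      have : x • b = x • a := by rw [e, hxa]
      exact (smul_left_cancel _ this).symm
    exact hp3 h a b (x • b) hab (Ne.symm hxb) (Ne.symm hxba) hha hhb h3
  have hinvert : ∀ u : G, u • a = a → u • b = b → u * u = 1 → u ≠ 1 →
      ∀ x ∈ N, u * x * u⁻¹ = x⁻¹ := by
    intro u hua hub hu2 hu1 x hx
    have hcx : u * x * u⁻¹ ∈ N := hNnorm u hua x hx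
    have hy : x * (u * x * u⁻¹) ∈ N := N.mul_mem hx hcx
    have hfix : u * (x * (u * x * u⁻¹)) * u⁻¹ = x * (u * x * u⁻¹) := by
      have e1 : u * (x * (u * x * u⁻¹)) * u⁻¹ = (u * x * u⁻¹) * ((u * u) * x * (u * u)⁻¹) := by
        group
      rw [e1, hu2, one_mul, inv_one, mul_one]
      exact hNcomm _ hcx x hx
    have hy1 : x * (u * x * u⁻¹) = 1 := by
      by_contra hne
      exact hu1 (hfpf u hua hub _ hy hne hfix)
    exact eq_inv_of_mul_eq_one_right hy1
  obtain ⟨x, hx, hx1⟩ := hN1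
  have h1 : (t' * t) * x * (t' * t)⁻¹ = x := by
    have e1 : (t' * t) * x * (t' * t)⁻¹ = t' * (t * x * t⁻¹) * t'⁻¹ := by group
    rw [e1, hinvert t hta htb ht2 ht1 x hx, hinvert t' hta' htb' ht2' ht1' x⁻¹ (N.inv_mem hx),
      inv_inv]
  have h2 : t' * t = 1 := hfpf (t' * t) (by rw [mul_smul, hta, hta']) (by rw [mul_smul, htb, htb'])
    x hx hx1 h1
  have h3 : t'⁻¹ = t' := inv_eq_of_mul_eq_one_right ht2'
  have h4 := eq_inv_of_mul_eq_one_right h2
  rw [h3] at h4
  exact h4

/-- In a sharply triply transitive Zassenhaus group of even degree, the two-point stabiliser has a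
normal subgroup of index two normalised by an element interchanging the two points and fixing a
third. -/
theorem index_two_of_sharp [Finite G] [Fintype Ω] (hZ : Cfsg.IsZassenhausGroup G Ω)
    {a b c : Ω} (hab : a ≠ b) (hca : c ≠ a) (hcb : c ≠ b)
    (heven : Even (Nat.card ↥(stabilizer G a ⊓ stabilizer G b : Subgroup G)))
    (he2 : Nat.card ↥(stabilizer G a ⊓ stabilizer G b : Subgroup G) + 2 = Fintype.card Ω)
    (s : G) (hsa : s • a = b) (hsb : s • b = a) (hsc : s • c = c) :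
    ∃ E₀ : Subgroup G, E₀ ≤ stabilizer G a ⊓ stabilizer G b ∧
      (∀ k ∈ stabilizer G a ⊓ stabilizer G b, ∀ x ∈ E₀, k * x * k⁻¹ ∈ E₀) ∧
      2 * Nat.card E₀ = Nat.card ↥(stabilizer G a ⊓ stabilizer G b : Subgroup G) ∧
      ∀ x ∈ E₀, s * x * s⁻¹ ∈ E₀ := by
  classical
  haveI : Fintype G := Fintype.ofFinite G
  have hp3 := hZ.2.2.1
  have h2t := hZ.2.1
  rw [is_two_pretransitive_iff] at h2t
  have hepos : 0 < Nat.card ↥(stabilizer G a ⊓ stabilizer G b : Subgroup G) := Nat.card_pos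
  have he2' : 2 ≤ Nat.card ↥(stabilizer G a ⊓ stabilizer G b : Subgroup G) := by
    obtain ⟨k, hk⟩ := heven
    omega
  have h4 : 4 ≤ Fintype.card Ω := by omega
  have hd' : Fintype.card Ω - 2 ≤ 2 * Nat.card ↥(stabilizer G a ⊓ stabilizer G b) := by omega
  obtain ⟨K, hKn, hKtop, hKN⟩ := exists_normal_of_sharp hZ hab heven he2
  -- `s` is an involution with exactly two fixed points
  have hs2 : s * s = 1 := hp3 (s * s) a b c hab (Ne.symm hcb) (Ne.symm hca)
    (by rw [mul_smul, hsa, hsb]) (by rw [mul_smul, hsb, hsa]) (by rw [mul_smul, hsc, hsc])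
  have hs1 : s ≠ 1 := by
    rintro rfl
    rw [one_smul] at hsa
    exact hab hsa
  have hsinv : s⁻¹ = s := inv_eq_of_mul_eq_one_right hs2
  have hord : orderOf s = 2 := orderOf_eq_prime (by rw [pow_two]; exact hs2) hs1
  have hΩeven : Even (Fintype.card Ω) := by
    rw [← he2]
    exact heven.add (by decide)
  obtain ⟨-, hfixcount, -⟩ := Cfsg.Agent.S0740.result hZ hab
  have hfc := (hfixcount s hord hsa hsb).2 hΩeven
  have hexc' : ∃ c' : Ω, c' ≠ c ∧ s • c' = c' := by
    rcases hfc with h0 | h2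
    · exfalso
      rcases Nat.card_eq_zero.mp h0 with h | h
      · exact h.false ⟨c, hsc⟩
      · exact h.not_finite inferInstance
    · rw [Nat.card_eq_two_iff] at h2
      obtain ⟨x, y, hxy, -⟩ := h2
      by_cases hxc : (x : Ω) = c
      · refine ⟨y, ?_, y.2⟩
        intro e
        exact hxy (Subtype.ext (hxc.trans e.symm))
      · exact ⟨x, hxc, x.2⟩
  obtain ⟨c', hc'c, hsc'⟩ := hexc'
  have hsfix : ∀ x : Ω, s • x = x → x = c ∨ x = c' := by
    intro x hx
    by_contra hcon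
    push_neg at hcon
    exact hs1 (hp3 s c c' x (Ne.symm hc'c) (Ne.symm hcon.2) (Ne.symm hcon.1) hsc hsc' hx)
  -- the kernel at `a`
  obtain ⟨N, hNa, hNfree, hNtrans, hNnorm, hNcomm, hNcard, -⟩ :=
    Cfsg.Agent.Helper2.ZasPSL.exists_kernel_data hZ hab hd' h4
  have hNK : N ≤ K := by
    intro n hn
    by_cases hn1 : n = 1
    · rw [hn1]
      exact K.one_mem
    · apply hKN n (hNa n hn)
      intro x hx
      by_contra hxa
      exact hn1 (hNfree n hn x hxa hx)
  have hN1 : ∃ x ∈ N, x ≠ 1 := by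
    by_contra hcon
    push_neg at hcon
    have hNbot : N = ⊥ := by
      rw [Subgroup.eq_bot_iff_forall]
      exact hcon
    rw [hNbot, Subgroup.card_bot] at hNcard
    omega
  -- `K` is doubly transitive
  have hT : ∀ p y z : Ω, y ≠ p → z ≠ p → ∃ κ ∈ K, κ • p = p ∧ κ • y = z := by
    intro p y z hy hz
    obtain ⟨g, hg⟩ : ∃ g : G, g • a = p := by
      by_cases hpa : p = a
      · exact ⟨1, by rw [one_smul, hpa]⟩
      · obtain ⟨g, hg, -⟩ := h2t hab hpa
        exact ⟨g, hg⟩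
    have hy' : g⁻¹ • y ≠ a := by
      intro e
      apply hy
      rw [← hg, ← e, smul_inv_smul]
    have hz' : g⁻¹ • z ≠ a := by
      intro e
      apply hz
      rw [← hg, ← e, smul_inv_smul]
    obtain ⟨n, hn, hnyz⟩ := hNtrans _ _ hy' hz'
    refine ⟨g * n * g⁻¹, hKn.conj_mem n (hNK hn) g, ?_, ?_⟩
    · rw [mul_smul, mul_smul, ← hg, inv_smul_smul, hNa n hn]
    · rw [mul_smul, mul_smul, hnyz, smul_inv_smul]
  have h2T : ∀ x y x' y' : Ω, x ≠ y → x' ≠ y' → ∃ κ ∈ K, κ • x = x' ∧ κ • y = y' := by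
    intro x y x' y' hxy hxy'
    by_cases hxx : x = x'
    · obtain ⟨κ, hκ, hκx, hκy⟩ := hT x y y' (Ne.symm hxy) (by rw [hxx]; exact Ne.symm hxy')
      exact ⟨κ, hκ, by rw [hκx, hxx], hκy⟩
    · obtain ⟨p, hpx, hpx', -⟩ := exists_ne_three h4 x x' x'
      obtain ⟨κ₁, hκ₁, -, hκ₁x⟩ := hT p x x' (Ne.symm hpx) (Ne.symm hpx')
      have hy₁ : κ₁ • y ≠ x' := by
        intro e
        apply hxy
        rw [← hκ₁x] at e
        exact (smul_left_cancel _ e).symm
      obtain ⟨κ₂, hκ₂, hκ₂x, hκ₂y⟩ := hT x' (κ₁ • y) y' hy₁ (Ne.symm hxy')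
      exact ⟨κ₂ * κ₁, K.mul_mem hκ₂ hκ₁, by rw [mul_smul, hκ₁x, hκ₂x], by rw [mul_smul, hκ₂y]⟩
  have hfact : ∀ x y : Ω, x ≠ y → ∀ g : G, ∃ κ ∈ K, (κ⁻¹ * g) • x = x ∧ (κ⁻¹ * g) • y = y := by
    intro x y hxy g
    have hg : g • x ≠ g • y := fun e => hxy (smul_left_cancel g e)
    obtain ⟨κ, hκ, h1, h2⟩ := h2T x y (g • x) (g • y) hxy hg
    exact ⟨κ, hκ, by rw [mul_smul, ← h1, inv_smul_smul], by rw [mul_smul, ← h2, inv_smul_smul]⟩
  -- `s` is central in the stabiliser of its two fixed points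
  have hcentral : ∀ k : G, k • c = c → k • c' = c' → k * s = s * k := by
    intro k hkc hkc'
    obtain ⟨g, hga, hgb⟩ := h2t hab (Ne.symm hc'c)
    have hgia : g⁻¹ • c = a := by rw [← hga, inv_smul_smul]
    have hgib : g⁻¹ • c' = b := by rw [← hgb, inv_smul_smul]
    have hkic : k⁻¹ • c = c := by rw [inv_smul_eq_iff, hkc]
    have hkic' : k⁻¹ • c' = c' := by rw [inv_smul_eq_iff, hkc']
    have e := invol_unique hp3 hab N hNa hNfree hNnorm hNcomm hN1 (g⁻¹ * s * g)
      (g⁻¹ * (k * s * k⁻¹) * g)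
      (by rw [mul_smul, mul_smul, hga, hsc, hgia])
      (by rw [mul_smul, mul_smul, hgb, hsc', hgib])
      (by
        have : g⁻¹ * s * g * (g⁻¹ * s * g) = g⁻¹ * (s * s) * g := by group
        rw [this, hs2]
        group)
      (by
        intro h
        apply hs1
        have : s = g * (g⁻¹ * s * g) * g⁻¹ := by group
        rw [this, h]
        group)
      (by rw [mul_smul, mul_smul, mul_smul, mul_smul, hga, hkic, hsc, hkc, hgia])
      (by rw [mul_smul, mul_smul, mul_smul, mul_smul, hgb, hkic', hsc', hkc', hgib])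
      (by
        have : g⁻¹ * (k * s * k⁻¹) * g * (g⁻¹ * (k * s * k⁻¹) * g) =
            g⁻¹ * (k * (s * s) * k⁻¹) * g := by group
        rw [this, hs2]
        group)
      (by
        intro h
        apply hs1
        have : s = k⁻¹ * (g * (g⁻¹ * (k * s * k⁻¹) * g) * g⁻¹) * k := by group
        rw [this, h]
        group)
    have e2 : s = k * s * k⁻¹ := by
      have h1 : g * (g⁻¹ * s * g) * g⁻¹ = g * (g⁻¹ * (k * s * k⁻¹) * g) * g⁻¹ := by rw [e]
      have h2 : g * (g⁻¹ * s * g) * g⁻¹ = s := by group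
      have h3 : g * (g⁻¹ * (k * s * k⁻¹) * g) * g⁻¹ = k * s * k⁻¹ := by group
      rw [h2, h3] at h1
      exact h1
    have : k * s = (k * s * k⁻¹) * k := by group
    rw [this, ← e2]
  -- `s` is central modulo `K`
  have hmodK : ∀ g : G, s * g * s⁻¹ * g⁻¹ ∈ K := by
    intro g
    obtain ⟨κ, hκ, h1, h2⟩ := hfact c c' (Ne.symm hc'c) g
    have hks := hcentral (κ⁻¹ * g) h1 h2
    have hks' : (κ⁻¹ * g) * s⁻¹ = s⁻¹ * (κ⁻¹ * g) := by
      rw [hsinv]
      exact hks
    have e1 : s * g * s⁻¹ * g⁻¹ = (s * κ * s⁻¹) * κ⁻¹ := by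
      calc s * g * s⁻¹ * g⁻¹ = s * κ * ((κ⁻¹ * g) * s⁻¹) * g⁻¹ := by group
        _ = s * κ * (s⁻¹ * (κ⁻¹ * g)) * g⁻¹ := by rw [hks']
        _ = (s * κ * s⁻¹) * κ⁻¹ := by group
    rw [e1]
    exact K.mul_mem (hKn.conj_mem κ hκ s) (K.inv_mem hκ)
  -- the two-point stabiliser
  set E : Subgroup G := stabilizer G a ⊓ stabilizer G b with hE
  have hmemE : ∀ k : G, k ∈ E ↔ k • a = a ∧ k • b = b := by
    intro k
    rw [hE, Subgroup.mem_inf, mem_stabilizer_iff, mem_stabilizer_iff]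
  have hsia : s⁻¹ • a = b := by rw [hsinv, hsa]
  have hsib : s⁻¹ • b = a := by rw [hsinv, hsb]
  have hconjE : ∀ k ∈ E, s * k * s⁻¹ ∈ E := by
    intro k hk
    rw [hmemE] at hk ⊢
    constructor
    · rw [mul_smul, mul_smul, hsia, hk.2, hsb]
    · rw [mul_smul, mul_smul, hsib, hk.1, hsa]
  refine ⟨E ⊓ K, inf_le_left, ?_, ?_, ?_⟩
  · intro k hk x hx
    rw [Subgroup.mem_inf] at hx ⊢
    exact ⟨E.mul_mem (E.mul_mem hk hx.1) (E.inv_mem hk), hKn.conj_mem x hx.2 k⟩
  · -- the index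
    have hmE₀ : ∀ k ∈ E, s * k * s⁻¹ * k⁻¹ ∈ E ⊓ K := by
      intro k hk
      rw [Subgroup.mem_inf]
      exact ⟨E.mul_mem (hconjE k hk) (E.inv_mem hk), hmodK k⟩
    have hinjE : ∀ k ∈ E, ∀ k' ∈ E, k • c = k' • c → k = k' := by
      intro k hk k' hk' e
      rw [hmemE] at hk hk'
      have h1 : (k'⁻¹ * k) • c = c := by rw [mul_smul, e, inv_smul_smul]
      have h2 : (k'⁻¹ * k) • a = a := by rw [mul_smul, hk.1, inv_smul_eq_iff, hk'.1]
      have h3 : (k'⁻¹ * k) • b = b := by rw [mul_smul, hk.2, inv_smul_eq_iff, hk'.2]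
      have h4 := hp3 _ a b c hab (Ne.symm hcb) (Ne.symm hca) h2 h3 h1
      exact (inv_mul_eq_one.mp h4).symm
    let SE : Finset G := Finset.univ.filter (fun k => k ∈ E)
    let m : G → G := fun k => s * k * s⁻¹ * k⁻¹
    have hSEcard : SE.card = Nat.card E := by
      rw [Nat.card_eq_fintype_card, Fintype.card_subtype]
    have himg : SE.image m ⊆ Finset.univ.filter (fun k => k ∈ E ⊓ K) := by
      intro y hy
      rw [Finset.mem_image] at hy
      obtain ⟨k, hk, rfl⟩ := hy
      rw [Finset.mem_filter] at hk ⊢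
      exact ⟨Finset.mem_univ _, hmE₀ k hk.2⟩
    have hE₀card : (Finset.univ.filter (fun k : G => k ∈ E ⊓ K)).card = Nat.card ↥(E ⊓ K) := by
      rw [Nat.card_eq_fintype_card, Fintype.card_subtype]
    have hfibre : ∀ y ∈ SE.image m, (SE.filter (fun k => m k = y)).card ≤ 2 := by
      intro y hy
      rw [Finset.mem_image] at hy
      obtain ⟨k₀, hk₀, rfl⟩ := hy
      rw [Finset.mem_filter] at hk₀
      have hsub : (SE.filter (fun k => m k = m k₀)).image (fun k => k • c) ⊆
          {k₀ • c, k₀ • c'} := by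
        intro x hx
        rw [Finset.mem_image] at hx
        obtain ⟨k, hk, rfl⟩ := hx
        rw [Finset.mem_filter, Finset.mem_filter] at hk
        obtain ⟨⟨-, hkE⟩, hmk⟩ := hk
        have e' : k * s⁻¹ * k⁻¹ = k₀ * s⁻¹ * k₀⁻¹ := by
          have h1 : s * (k * s⁻¹ * k⁻¹) = s * (k₀ * s⁻¹ * k₀⁻¹) := by
            have h2 : s * (k * s⁻¹ * k⁻¹) = m k := by
              show _ = s * k * s⁻¹ * k⁻¹
              group
            have h3 : s * (k₀ * s⁻¹ * k₀⁻¹) = m k₀ := by
              show _ = s * k₀ * s⁻¹ * k₀⁻¹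
              group
            rw [h2, h3, hmk]
          exact mul_left_cancel h1
        have hxs : (k₀⁻¹ * k) * s = s * (k₀⁻¹ * k) := by
          have h1 : k₀⁻¹ * k * s⁻¹ = s⁻¹ * (k₀⁻¹ * k) := by
            calc k₀⁻¹ * k * s⁻¹ = k₀⁻¹ * (k * s⁻¹ * k⁻¹) * k := by group
              _ = k₀⁻¹ * (k₀ * s⁻¹ * k₀⁻¹) * k := by rw [e']
              _ = s⁻¹ * (k₀⁻¹ * k) := by group
          rw [hsinv] at h1
          exact h1
        have hfix : s • ((k₀⁻¹ * k) • c) = (k₀⁻¹ * k) • c := by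
          rw [← mul_smul, ← hxs, mul_smul, hsc]
        simp only [Finset.mem_insert, Finset.mem_singleton]
        rcases hsfix _ hfix with h1 | h1
        · left
          have := congrArg (fun z => k₀ • z) h1
          simp only [mul_smul, smul_inv_smul] at this
          exact this
        · right
          have := congrArg (fun z => k₀ • z) h1
          simp only [mul_smul, smul_inv_smul] at this
          exact this
      have hinj : Set.InjOn (fun k : G => k • c) (SE.filter (fun k => m k = m k₀) : Set G) := by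
        intro k hk k' hk' e
        simp only [Finset.coe_filter, Set.mem_setOf_eq, SE, Finset.mem_filter, Finset.mem_univ,
          true_and] at hk hk'
        exact hinjE k hk.1 k' hk'.1 e
      rw [← Finset.card_image_of_injOn hinj]
      exact (Finset.card_le_card hsub).trans Finset.card_le_two
    have hle : Nat.card E ≤ 2 * Nat.card ↥(E ⊓ K) := by
      rw [← hSEcard, ← hE₀card]
      exact (Finset.card_le_mul_card_image SE 2 hfibre).trans
        (Nat.mul_le_mul_left 2 (Finset.card_le_card himg))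
    -- `E ⊓ K ≠ E`
    have hne : E ⊓ K ≠ E := by
      intro h
      apply hKtop
      rw [eq_top_iff]
      intro g _
      obtain ⟨κ, hκ, h1, h2⟩ := hfact a b hab g
      have hkE : κ⁻¹ * g ∈ E := (hmemE _).2 ⟨h1, h2⟩
      rw [← h] at hkE
      have : g = κ * (κ⁻¹ * g) := by group
      rw [this]
      exact K.mul_mem hκ (Subgroup.mem_inf.mp hkE).2
    have hdvd : Nat.card ↥(E ⊓ K) ∣ Nat.card E := Subgroup.card_dvd_of_le inf_le_left
    obtain ⟨j, hj⟩ := hdvd
    have hpos0 : 0 < Nat.card ↥(E ⊓ K) := Nat.card_pos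
    have hj1 : j ≠ 1 := by
      intro h1
      rw [h1, mul_one] at hj
      exact hne (Subgroup.eq_of_le_of_card_ge inf_le_left (le_of_eq hj))
    have hj0 : j ≠ 0 := by
      intro h0
      rw [h0, mul_zero] at hj
      omega
    have hj2 : j ≤ 2 := by
      by_contra hcon
      have h3 : 3 ≤ j := by omega
      have : Nat.card ↥(E ⊓ K) * 3 ≤ Nat.card ↥(E ⊓ K) * j := Nat.mul_le_mul_left _ h3
      omega
    have : j = 2 := by omega
    rw [hj, this]
    ring
  · intro x hx
    rw [Subgroup.mem_inf] at hx ⊢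
    exact ⟨hconjE x hx.1, hKn.conj_mem x hx.2 s⟩

end Cfsg.Agent.Helper2.Sh3Sim
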