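import Mathlib
import Cfsg.Agent.Helper2.GenHyper

set_option autoImplicit false

namespace Cfsg.Agent.Helper2

open Cfsg.Agent.Helper1

variable {G : Type*} [Group G] [Finite G]

/-- Hyperplanes exist in elementary abelian groups of order `> 1`. -/
theorem exists_hyperplane {p : ℕ} [hp : Fact p.Prime] {B : Subgroup G}
    (hB : Cfsg.IsElementaryAbelian p B) (hB1 : B ≠ ⊥) :
    ∃ D : Subgroup G, D ≤ B ∧ D.relIndex B = p := by
  obtain ⟨a, haB, ha1⟩ : ∃ a ∈ B, a ≠ 1 := by
    by_contra hno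
    apply hB1
    rw [eq_bot_iff]
    intro x hx
    rw [Subgroup.mem_bot]
    by_contra hx1
    exact hno ⟨x, hx, hx1⟩
  have hcomm : ∀ x ∈ B, ∀ y ∈ B, x * y = y * x := by
    intro x hx y hy
    have := hB.1.is_comm.comm ⟨x, hx⟩ ⟨y, hy⟩
    exact congrArg Subtype.val this
  obtain ⟨A', hA'B, hdisj, hsup⟩ := exists_complement_zpowers hB haB ha1
  refine ⟨A', hA'B, ?_⟩
  have hza : Subgroup.zpowers a ≤ B := Subgroup.zpowers_le.mpr haB
  have hcardza : Nat.card (Subgroup.zpowers a) = p := by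
    rw [Nat.card_zpowers, orderOf_eq_of_elementary hB haB ha1]
  have hcardB : Nat.card B = Nat.card A' * p := by
    have := card_sup_of_le_normalizer (N := Subgroup.zpowers a) (A := A')
      (le_normalizer_of_comm hcomm hA'B hza) (by rw [inf_comm]; exact hdisj)
    rw [hsup, hcardza] at this
    exact this
  have h1 := relIndex_mul_card_of_le hA'B
  rw [hcardB, mul_comm] at h1
  exact Nat.eq_of_mul_eq_mul_left Nat.card_pos h1

theorem exists_hyperplane_le {p : ℕ} [hp : Fact p.Prime] {B : Subgroup G}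
    (hB : Cfsg.IsElementaryAbelian p B) (hB1 : B ≠ ⊥) (D : Subgroup G) (hDB : D ≤ B)
    (hidx : D.relIndex B ≤ p) : ∃ D' : Subgroup G, D' ≤ D ∧ D' ≤ B ∧ D'.relIndex B = p := by
  by_cases h : D.relIndex B = p
  · exact ⟨D, le_rfl, hDB, h⟩
  · have hlt : D.relIndex B < p := lt_of_le_of_ne hidx h
    obtain ⟨k, hk⟩ := IsPGroup.iff_card.mp (isPGroup_of_elementary hB)
    have h1 := relIndex_mul_card_of_le hDB
    have hdvd : D.relIndex B ∣ p ^ k := by rw [← hk, ← h1]; exact dvd_mul_right _ _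
    obtain ⟨j, -, hj⟩ := (Nat.dvd_prime_pow hp.out).mp hdvd
    have hj0 : j = 0 := by
      by_contra hne
      have : p ≤ p ^ j := Nat.le_self_pow hne p
      omega
    rw [hj0, pow_zero] at hj
    have hDeq : D = B := by
      apply Subgroup.eq_of_le_of_card_ge hDB
      rw [← h1, hj, one_mul]
    obtain ⟨D', hD'B, hD'⟩ := exists_hyperplane hB hB1
    exact ⟨D', hDeq ▸ hD'B, hD'B, hD'⟩

theorem signalizer_family_gen (p : ℕ) [hp : Fact p.Prime] (A : Subgroup G)
    (θ : G → Subgroup G) (X : Subgroup G) (hX : X ∈ Cfsg.signalizerFamily p A θ) (B : Subgroup G)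
    (hB : B ≤ A) (hBel : Cfsg.IsElementaryAbelian p B) (hB1 : B ≠ ⊥) :
    X = ⨆ D : {D : Subgroup G // D ≤ B ∧ D.relIndex B = p},
      X ⊓ Cfsg.signalizerInf (D : Subgroup G) θ := by
  obtain ⟨hXs, hXp, hXi, hXb⟩ := hX
  apply le_antisymm
  · have hAX : A ≤ Subgroup.normalizer (X : Set G) := le_normalizer_of_conj_mem hXi
    refine (le_iSup_hyperplane_centralizers p _ B X rfl hBel hXp (hB.trans hAX)).trans ?_
    apply iSup_le
    rintro ⟨D, hDB, hidx⟩
    obtain ⟨D', hD'D, hD'B, hD'⟩ := exists_hyperplane_le hBel hB1 D hDB hidx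
    refine le_trans ?_ (le_iSup (fun D : {D : Subgroup G // D ≤ B ∧ D.relIndex B = p} =>
      X ⊓ Cfsg.signalizerInf (D : Subgroup G) θ) ⟨D', hD'B, hD'⟩)
    rintro x ⟨hxX, hxD⟩
    have hxX' : x ∈ X := hxX
    have hxD' : x ∈ Subgroup.centralizer (D : Set G) := hxD
    refine ⟨hxX, ?_⟩
    change x ∈ Cfsg.signalizerInf D' θ
    unfold Cfsg.signalizerInf
    rw [Subgroup.mem_iInf]
    rintro ⟨d, hdD', hd1⟩
    apply hXb d (hB (hD'B hdD')) hd1
    have hxd : x ∈ Subgroup.centralizer ({d} : Set G) := by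
      rw [Subgroup.mem_centralizer_singleton_iff]
      exact (Subgroup.mem_centralizer_iff.mp hxD' d (hD'D hdD')).symm
    exact ⟨hxX', hxd⟩
  · exact iSup_le fun _ => inf_le_left

end Cfsg.Agent.Helper2
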