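import Mathlib
import Cfsg.Prelude.Def_Balance
import Cfsg.Agent.Helper1.SylowInt
import Cfsg.Agent.Helper2.Signalizer2
import Cfsg.Agent.Helper4.NormalizerGrow

set_option autoImplicit false

/-! The Transitivity Theorem for solvable signalizer functors. -/

namespace Cfsg.Agent.Helper2.SigTrans

open Cfsg.Agent.Helper1 Cfsg.Agent.Helper2

variable {G : Type*} [Group G] {p : ℕ} {A : Subgroup G} {θ : G → Subgroup G}

/-- An `A`-invariant subgroup of a member of the family is in the family. -/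
theorem mem_family_of_le [Finite G] {U V : Subgroup G} (hU : U ∈ Cfsg.signalizerFamily p A θ)
    (hVU : V ≤ U) (hV : ∀ b ∈ A, ∀ u ∈ V, b * u * b⁻¹ ∈ V) :
    V ∈ Cfsg.signalizerFamily p A θ := by
  obtain ⟨hs, hp', -, hb⟩ := hU
  exact ⟨isSolvable_of_le hVU hs, fun h => hp' (h.trans (Subgroup.card_dvd_of_le hVU)), hV,
    fun a ha ha1 => (inf_le_inf_right _ hVU).trans (hb a ha ha1)⟩

theorem theta_mem_family (hθ : Cfsg.IsSolvableSignalizerFunctor p A θ) {a : G} (ha : a ∈ A)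
    (ha1 : a ≠ 1) : θ a ∈ Cfsg.signalizerFamily p A θ := by
  obtain ⟨⟨-, h2, h3, h4⟩, h5⟩ := hθ
  exact ⟨h5 a ha ha1, h2 a ha ha1, h3 a ha ha1, fun b hb hb1 => h4 a ha ha1 b hb hb1⟩

theorem inf_centralizer_le_signalizerInf {U : Subgroup G}
    (hU : U ∈ Cfsg.signalizerFamily p A θ) :
    U ⊓ Subgroup.centralizer (A : Set G) ≤ Cfsg.signalizerInf A θ := by
  intro x hx
  unfold Cfsg.signalizerInf
  rw [Subgroup.mem_iInf]
  rintro ⟨a, ha, ha1⟩
  apply hU.2.2.2 a ha ha1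
  refine Subgroup.mem_inf.mpr ⟨hx.1, ?_⟩
  rw [Subgroup.mem_centralizer_singleton_iff]
  exact (Subgroup.mem_centralizer_iff.mp hx.2 a ha).symm

theorem signalizerInf_le {a : G} (ha : a ∈ A) (ha1 : a ≠ 1) : Cfsg.signalizerInf A θ ≤ θ a :=
  iInf_le (fun a : {a : G // a ∈ A ∧ a ≠ 1} => θ (a : G)) ⟨a, ha, ha1⟩

theorem signalizerInf_commute (hθ : Cfsg.IsSignalizerFunctor p A θ) {c : G}
    (hc : c ∈ Cfsg.signalizerInf A θ) {b : G} (hb : b ∈ A) : b * c = c * b := by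
  by_cases hb1 : b = 1
  · rw [hb1, one_mul, mul_one]
  · have := hθ.1 b hb hb1 (signalizerInf_le hb hb1 hc)
    exact (Subgroup.mem_centralizer_singleton_iff.mp this).symm

/-- The family is invariant under conjugation by `signalizerInf`. -/
theorem cj_mem_family [Finite G] (hθ : Cfsg.IsSignalizerFunctor p A θ) {U : Subgroup G}
    (hU : U ∈ Cfsg.signalizerFamily p A θ) {c : G} (hc : c ∈ Cfsg.signalizerInf A θ) :
    cj c U ∈ Cfsg.signalizerFamily p A θ := by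
  obtain ⟨hs, hp', hi, hb⟩ := hU
  refine ⟨?_, ?_, ?_, ?_⟩
  · have e : U ≃* ↥(cj c U) := U.equivMapOfInjective _ (MulAut.conj c).injective
    exact Group.isSolvable_of_surjective (f := e.toMonoidHom) e.surjective
  · rw [Subgroup.card_map_of_injective (MulAut.conj c).injective]
    exact hp'
  · intro b hbA x hx
    rw [mem_cj_iff] at hx ⊢
    have hcomm := signalizerInf_commute hθ hc hbA
    have h1 := hi b hbA _ hx
    have e : c⁻¹ * (b * x * b⁻¹) * c = b * (c⁻¹ * x * c) * b⁻¹ := by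
      have h2 : c⁻¹ * b = b * c⁻¹ := by
        rw [inv_mul_eq_iff_eq_mul, ← mul_assoc, ← hcomm, mul_assoc, mul_inv_cancel, mul_one]
      have h3 : b⁻¹ * c = c * b⁻¹ := by
        rw [inv_mul_eq_iff_eq_mul, ← mul_assoc, hcomm, mul_assoc, mul_inv_cancel, mul_one]
      calc c⁻¹ * (b * x * b⁻¹) * c = (c⁻¹ * b) * x * (b⁻¹ * c) := by group
        _ = (b * c⁻¹) * x * (c * b⁻¹) := by rw [h2, h3]
        _ = b * (c⁻¹ * x * c) * b⁻¹ := by group
    rw [e]; exact h1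
  · intro a ha ha1 x hx
    obtain ⟨hx1, hx2⟩ := Subgroup.mem_inf.mp hx
    have hx1' : x ∈ cj c U := hx1
    rw [mem_cj_iff] at hx1'
    have hca : a * c = c * a := signalizerInf_commute hθ hc ha
    have hxa : a * x = x * a := (Subgroup.mem_centralizer_singleton_iff.mp hx2).symm
    have hcθ : c ∈ θ a := signalizerInf_le ha ha1 hc
    have h1 : c⁻¹ * x * c ∈ θ a := by
      apply hb a ha ha1
      refine Subgroup.mem_inf.mpr ⟨hx1', ?_⟩
      rw [Subgroup.mem_centralizer_singleton_iff]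
      symm
      have h2 : a * c⁻¹ = c⁻¹ * a := by
        rw [eq_inv_mul_iff_mul_eq, ← mul_assoc, ← hca, mul_assoc, mul_inv_cancel, mul_one]
      calc a * (c⁻¹ * x * c) = (a * c⁻¹) * x * c := by group
        _ = c⁻¹ * (a * x) * c := by rw [h2]; group
        _ = c⁻¹ * x * (a * c) := by rw [hxa]; group
        _ = c⁻¹ * x * c * a := by rw [hca]; group
    have e : x = c * (c⁻¹ * x * c) * c⁻¹ := by group
    rw [e]
    exact (θ a).mul_mem ((θ a).mul_mem hcθ h1) ((θ a).inv_mem hcθ)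

theorem isSolvable_zpowers' (c : G) : IsSolvable ↥(Subgroup.zpowers c) := by
  apply isSolvable_of_comm
  rintro ⟨a, ⟨i, rfl⟩⟩ ⟨b, ⟨j, rfl⟩⟩
  apply Subtype.ext
  change c ^ i * c ^ j = c ^ j * c ^ i
  rw [← zpow_add, ← zpow_add, add_comm]

/-- If `D` is in the family and `H ≤ θ a` is an `A`-invariant subgroup normalizing `D`, then `DH` is
in the family. -/
theorem sup_mem_family [Finite G] [hp : Fact p.Prime] (hA : Cfsg.IsElementaryAbelian p A)
    (hθ : Cfsg.IsSolvableSignalizerFunctor p A θ) {D H : Subgroup G} {a : G} (ha : a ∈ A)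
    (ha1 : a ≠ 1) (hD : D ∈ Cfsg.signalizerFamily p A θ) (hHθ : H ≤ θ a)
    (hHinv : ∀ b ∈ A, ∀ u ∈ H, b * u * b⁻¹ ∈ H)
    (hHD : H ≤ Subgroup.normalizer (D : Set G)) :
    D ⊔ H ∈ Cfsg.signalizerFamily p A θ := by
  obtain ⟨⟨h1, h2, h3, h4⟩, h5⟩ := hθ
  obtain ⟨hDs, hDp, hDi, hDb⟩ := hD
  have hHp : ¬ p ∣ Nat.card H := fun h => h2 a ha ha1 (h.trans (Subgroup.card_dvd_of_le hHθ))
  have hinv : ∀ b ∈ A, ∀ u ∈ D ⊔ H, b * u * b⁻¹ ∈ D ⊔ H := by
    intro b hb u hu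
    obtain ⟨d, hd, h, hh, rfl⟩ := mem_sup_of_le_normalizer hHD hu
    have e : b * (d * h) * b⁻¹ = (b * d * b⁻¹) * (b * h * b⁻¹) := by group
    rw [e]
    exact Subgroup.mul_mem _ (Subgroup.mem_sup_left (hDi b hb d hd))
      (Subgroup.mem_sup_right (hHinv b hb h hh))
  have hcard : ¬ p ∣ Nat.card ↥(D ⊔ H) := by
    intro h
    have h' := h.trans (card_sup_dvd_of_le_normalizer hHD)
    rcases (Nat.Prime.dvd_mul hp.out).mp h' with h'' | h''
    · exact hDp h''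
    · exact hHp h''
  refine ⟨isSolvable_sup_of_le_normalizer hDs (isSolvable_of_le hHθ (h5 a ha ha1)) hHD, hcard,
    hinv, ?_⟩
  intro b hb hb1 x hx
  obtain ⟨hx1, hx2⟩ := Subgroup.mem_inf.mp hx
  obtain ⟨d, hd, h, hh, hxdh⟩ := mem_sup_of_le_normalizer hHD hx1
  have hzA : Subgroup.zpowers b ≤ A := Subgroup.zpowers_le.mpr hb
  have hzK : Subgroup.zpowers b ≤ Subgroup.normalizer ((D ⊔ H : Subgroup G) : Set G) :=
    hzA.trans (le_normalizer_of_conj_mem hinv)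
  have hzD : Subgroup.zpowers b ≤ Subgroup.normalizer (D : Set G) :=
    hzA.trans (le_normalizer_of_conj_mem hDi)
  have hzH : Subgroup.zpowers b ≤ Subgroup.normalizer (H : Set G) :=
    hzA.trans (le_normalizer_of_conj_mem hHinv)
  have hxz : x ∈ Subgroup.centralizer ((Subgroup.zpowers b : Subgroup G) : Set G) := by
    rw [centralizer_zpowers_eq]; exact hx2
  obtain ⟨d', hd', h', hh', hx'⟩ := coprime_fixed_points_mul (Subgroup.zpowers b) (D ⊔ H) hzK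
    (card_zpowers_coprime hA hb hb1 hcard) (Or.inl (isSolvable_zpowers' b)) D H le_sup_left
    le_sup_right hzD hzH x d h hd hh hxdh hxz
  rw [centralizer_zpowers_eq] at hd' hh'
  rw [hx']
  apply (θ b).mul_mem
  · exact hDb b hb hb1 hd'
  · apply h4 a ha ha1 b hb hb1
    exact Subgroup.mem_inf.mpr ⟨hHθ (Subgroup.mem_inf.mp hh').1, (Subgroup.mem_inf.mp hh').2⟩

/-- Every `q`-subgroup in the family lies in a maximal one. -/
theorem exists_maximal_ge [Finite G] (q : ℕ) {T : Subgroup G}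
    (hT : T ∈ Cfsg.signalizerFamily p A θ) (hTq : IsPGroup q T) :
    ∃ R ∈ Cfsg.signalizerFamily p A θ, IsPGroup q R ∧ T ≤ R ∧
      ∀ R' ∈ Cfsg.signalizerFamily p A θ, IsPGroup q ↥R' → R ≤ R' → R' = R := by
  obtain ⟨R, hTR, hR⟩ := Set.Finite.exists_le_maximal
    (Set.toFinite {R : Subgroup G | R ∈ Cfsg.signalizerFamily p A θ ∧ IsPGroup q R})
    (show T ∈ {R : Subgroup G | R ∈ Cfsg.signalizerFamily p A θ ∧ IsPGroup q R} from ⟨hT, hTq⟩)
  refine ⟨R, hR.1.1, hR.1.2, hTR, ?_⟩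
  intro R' hR' hR'q hle
  exact le_antisymm (hR.2 (show R' ∈ {R : Subgroup G | R ∈ Cfsg.signalizerFamily p A θ ∧
    IsPGroup q R} from ⟨hR', hR'q⟩) hle) hle

/-- Some hyperplane of `A` has a centralizer in `N` not contained in `D`. -/
theorem exists_hyperplane_not_le [Finite G] [hp : Fact p.Prime]
    (hA : Cfsg.IsElementaryAbelian p A) {N D : Subgroup G} (hN : ¬ p ∣ Nat.card N)
    (hAN : A ≤ Subgroup.normalizer (N : Set G)) (h : ¬ N ≤ D) :
    ∃ B : Subgroup G, B ≤ A ∧ B.relIndex A ≤ p ∧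
      ¬ (N ⊓ Subgroup.centralizer (B : Set G) ≤ D) := by
  by_contra hcon
  push_neg at hcon
  apply h
  refine (le_iSup_hyperplane_centralizers p _ A N rfl hA hN hAN).trans ?_
  apply iSup_le
  rintro ⟨B, hBA, hBi⟩
  exact hcon B hBA hBi

/-- With `|A| ≥ p³`, a single `a ∈ A#` works for two subgroups at once. -/
theorem exists_elt_not_le [Finite G] [hp : Fact p.Prime]
    (hA : Cfsg.IsElementaryAbelian p A) (hA3 : p ^ 3 ≤ Nat.card ↥A) {N₁ N₂ D : Subgroup G}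
    (hN₁ : ¬ p ∣ Nat.card N₁) (hN₂ : ¬ p ∣ Nat.card N₂)
    (hAN₁ : A ≤ Subgroup.normalizer (N₁ : Set G)) (hAN₂ : A ≤ Subgroup.normalizer (N₂ : Set G))
    (h₁ : ¬ N₁ ≤ D) (h₂ : ¬ N₂ ≤ D) :
    ∃ a ∈ A, a ≠ 1 ∧ ¬ (N₁ ⊓ Subgroup.centralizer ({a} : Set G) ≤ D) ∧
      ¬ (N₂ ⊓ Subgroup.centralizer ({a} : Set G) ≤ D) := by
  obtain ⟨B₁, hB₁A, hB₁i, hB₁⟩ := exists_hyperplane_not_le hA hN₁ hAN₁ h₁
  obtain ⟨B₂, hB₂A, hB₂i, hB₂⟩ := exists_hyperplane_not_le hA hN₂ hAN₂ h₂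
  have hne : B₁ ⊓ B₂ ≠ ⊥ := by
    intro hbot
    have h1 := Subgroup.relIndex_inf_le (H := B₁) (K := B₂) (L := A)
    rw [hbot, Subgroup.relIndex_bot_left] at h1
    have h2 : B₁.relIndex A * B₂.relIndex A ≤ p * p := Nat.mul_le_mul hB₁i hB₂i
    have h3 : p * p < p ^ 3 := by
      have := hp.out.two_le
      have h4 : 0 < p * p := by positivity
      calc p * p = p * p * 1 := by ring
        _ < p * p * p := Nat.mul_lt_mul_of_pos_left (by omega) h4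
        _ = p ^ 3 := by ring
    omega
  obtain ⟨⟨a, haB⟩, ha1⟩ := (Subgroup.ne_bot_iff_exists_ne_one).mp hne
  have ha1' : a ≠ 1 := fun h => ha1 (Subtype.ext h)
  obtain ⟨haB₁, haB₂⟩ := Subgroup.mem_inf.mp haB
  refine ⟨a, hB₁A haB₁, ha1', ?_, ?_⟩
  · intro hle
    apply hB₁
    refine le_trans ?_ hle
    apply inf_le_inf_left
    intro x hx
    rw [Subgroup.mem_centralizer_singleton_iff]
    exact (Subgroup.mem_centralizer_iff.mp hx a haB₁).symm
  · intro hle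
    apply hB₂
    refine le_trans ?_ hle
    apply inf_le_inf_left
    intro x hx
    rw [Subgroup.mem_centralizer_singleton_iff]
    exact (Subgroup.mem_centralizer_iff.mp hx a haB₂).symm

/-- Maximal `q`-subgroups in the family. -/
def IsMaxQ (p : ℕ) (A : Subgroup G) (θ : G → Subgroup G) (q : ℕ) (Q : Subgroup G) : Prop :=
  Q ∈ Cfsg.signalizerFamily p A θ ∧ IsPGroup q Q ∧
    ∀ R ∈ Cfsg.signalizerFamily p A θ, IsPGroup q ↥R → Q ≤ R → R = Q

theorem isMaxQ_cj [Finite G] (hθ : Cfsg.IsSignalizerFunctor p A θ) {q : ℕ} {Q : Subgroup G}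
    (hQ : IsMaxQ p A θ q Q) {c : G} (hc : c ∈ Cfsg.signalizerInf A θ) :
    IsMaxQ p A θ q (cj c Q) := by
  refine ⟨cj_mem_family hθ hQ.1 hc, isPGroup_cj hQ.2.1 c, ?_⟩
  intro R hR hRq hle
  have hc' : c⁻¹ ∈ Cfsg.signalizerInf A θ := Subgroup.inv_mem _ hc
  have h1 : Q ≤ cj c⁻¹ R := by
    have := cj_mono hle c⁻¹
    rwa [cj_cj, inv_mul_cancel, cj_one] at this
  have h2 := hQ.2.2 (cj c⁻¹ R) (cj_mem_family hθ hR hc') (isPGroup_cj hRq c⁻¹) h1
  rw [← h2, cj_cj, mul_inv_cancel, cj_one]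

theorem inv_sup {X Y : Subgroup G} (hX : ∀ b ∈ A, ∀ u ∈ X, b * u * b⁻¹ ∈ X)
    (hY : ∀ b ∈ A, ∀ u ∈ Y, b * u * b⁻¹ ∈ Y) : ∀ b ∈ A, ∀ u ∈ X ⊔ Y, b * u * b⁻¹ ∈ X ⊔ Y := by
  intro b hb u hu
  have h : cj b (X ⊔ Y) ≤ X ⊔ Y := by
    unfold cj
    rw [Subgroup.map_sup]
    exact sup_le_sup ((cj_le_iff _ _ _).mpr (hX b hb)) ((cj_le_iff _ _ _).mpr (hY b hb))
  exact (cj_le_iff _ _ _).mp h u hu

theorem inv_inf {X Y : Subgroup G} (hX : ∀ b ∈ A, ∀ u ∈ X, b * u * b⁻¹ ∈ X)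
    (hY : ∀ b ∈ A, ∀ u ∈ Y, b * u * b⁻¹ ∈ Y) : ∀ b ∈ A, ∀ u ∈ X ⊓ Y, b * u * b⁻¹ ∈ X ⊓ Y :=
  fun b hb u hu => Subgroup.mem_inf.mpr
    ⟨hX b hb u (Subgroup.mem_inf.mp hu).1, hY b hb u (Subgroup.mem_inf.mp hu).2⟩

theorem inv_centralizer (hA : Cfsg.IsElementaryAbelian p A) {a : G} (ha : a ∈ A) :
    ∀ b ∈ A, ∀ u ∈ Subgroup.centralizer ({a} : Set G),
      b * u * b⁻¹ ∈ Subgroup.centralizer ({a} : Set G) := by
  intro b hb u hu
  rw [Subgroup.mem_centralizer_singleton_iff] at hu ⊢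
  have hab : a * b = b * a := by
    have := hA.1.is_comm.comm ⟨a, ha⟩ ⟨b, hb⟩
    exact congrArg Subtype.val this
  have hab' : b⁻¹ * a = a * b⁻¹ := by
    rw [inv_mul_eq_iff_eq_mul, ← mul_assoc, ← hab, mul_assoc, mul_inv_cancel, mul_one]
  calc b * u * b⁻¹ * a = b * u * (b⁻¹ * a) := by group
    _ = b * (u * a) * b⁻¹ := by rw [hab']; group
    _ = (b * a) * u * b⁻¹ := by rw [hu]; group
    _ = a * (b * u * b⁻¹) := by rw [← hab]; group

theorem inv_normalizer {D : Subgroup G} (hD : ∀ b ∈ A, ∀ u ∈ D, b * u * b⁻¹ ∈ D) :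
    ∀ b ∈ A, ∀ u ∈ Subgroup.normalizer (D : Set G),
      b * u * b⁻¹ ∈ Subgroup.normalizer (D : Set G) := by
  intro b hb u hu
  have hbN : b ∈ Subgroup.normalizer (D : Set G) := le_normalizer_of_conj_mem hD hb
  exact Subgroup.mul_mem _ (Subgroup.mul_mem _ hbN hu) (Subgroup.inv_mem _ hbN)

end Cfsg.Agent.Helper2.SigTrans
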