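import Mathlib
import Cfsg.Agent.Helper2.SigTrans

set_option autoImplicit false

/-! The Transitivity Theorem for solvable signalizer functors: main induction. -/

namespace Cfsg.Agent.Helper2.SigTrans

open Cfsg.Agent.Helper1 Cfsg.Agent.Helper2
open scoped Pointwise

variable {G : Type*} [Group G] {p : ℕ} {A : Subgroup G} {θ : G → Subgroup G}

theorem transitivity_aux [Finite G] [hp : Fact p.Prime] (hA : Cfsg.IsElementaryAbelian p A)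
    (hA3 : p ^ 3 ≤ Nat.card ↥A) (hθ : Cfsg.IsSolvableSignalizerFunctor p A θ) (q : ℕ)
    [hq : Fact q.Prime] :
    ∀ (m : ℕ) (Q₁ Q₂ : Subgroup G), IsMaxQ p A θ q Q₁ → IsMaxQ p A θ q Q₂ →
      Nat.card G - Nat.card ↥(Q₁ ⊓ Q₂) = m → ∃ c ∈ Cfsg.signalizerInf A θ, cj c Q₁ = Q₂ := by
  intro m
  induction m using Nat.strong_induction_on with
  | _ m ih =>
  intro Q₁ Q₂ hQ₁ hQ₂ hm
  by_cases heq : Q₁ = Q₂
  · exact ⟨1, Subgroup.one_mem _, by rw [cj_one, heq]⟩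
  have hθ' : Cfsg.IsSignalizerFunctor p A θ := hθ.1
  set D := Q₁ ⊓ Q₂ with hD
  have hD₁ : D < Q₁ := by
    refine lt_of_le_of_ne inf_le_left (fun h => heq ?_)
    have hle : Q₁ ≤ Q₂ := by rw [← h]; exact inf_le_right
    exact (hQ₁.2.2 Q₂ hQ₂.1 hQ₂.2.1 hle).symm
  have hD₂ : D < Q₂ := by
    refine lt_of_le_of_ne inf_le_right (fun h => heq ?_)
    have hle : Q₂ ≤ Q₁ := by rw [← h]; exact inf_le_left
    exact hQ₂.2.2 Q₁ hQ₁.1 hQ₁.2.1 hle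
  have hQ₁inv := hQ₁.1.2.2.1
  have hQ₂inv := hQ₂.1.2.2.1
  have hDinv : ∀ b ∈ A, ∀ u ∈ D, b * u * b⁻¹ ∈ D := inv_inf hQ₁inv hQ₂inv
  have hDfam : D ∈ Cfsg.signalizerFamily p A θ := mem_family_of_le hQ₁.1 inf_le_left hDinv
  have hNDinv := inv_normalizer hDinv
  -- normalizers grow
  have hN₁ : ¬ (Q₁ ⊓ Subgroup.normalizer (D : Set G) ≤ D) := by
    obtain ⟨x, hxQ, hxN, hxD⟩ := Cfsg.Agent.Helper4.exists_mem_normalizer_not_mem Q₁ hQ₁.2.1 D hD₁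
    exact fun h => hxD (h (Subgroup.mem_inf.mpr ⟨hxQ, hxN⟩))
  have hN₂ : ¬ (Q₂ ⊓ Subgroup.normalizer (D : Set G) ≤ D) := by
    obtain ⟨x, hxQ, hxN, hxD⟩ := Cfsg.Agent.Helper4.exists_mem_normalizer_not_mem Q₂ hQ₂.2.1 D hD₂
    exact fun h => hxD (h (Subgroup.mem_inf.mpr ⟨hxQ, hxN⟩))
  have hN₁p : ¬ p ∣ Nat.card ↥(Q₁ ⊓ Subgroup.normalizer (D : Set G)) :=
    fun h => hQ₁.1.2.1 (h.trans (Subgroup.card_dvd_of_le inf_le_left))
  have hN₂p : ¬ p ∣ Nat.card ↥(Q₂ ⊓ Subgroup.normalizer (D : Set G)) :=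
    fun h => hQ₂.1.2.1 (h.trans (Subgroup.card_dvd_of_le inf_le_left))
  have hN₁inv := inv_inf hQ₁inv hNDinv
  have hN₂inv := inv_inf hQ₂inv hNDinv
  obtain ⟨a, haA, ha1, hna₁, hna₂⟩ := exists_elt_not_le hA hA3 hN₁p hN₂p
    (le_normalizer_of_conj_mem hN₁inv) (le_normalizer_of_conj_mem hN₂inv) hN₁ hN₂
  have hCinv := inv_centralizer hA haA
  have hθainv : ∀ b ∈ A, ∀ u ∈ θ a, b * u * b⁻¹ ∈ θ a := hθ'.2.2.1 a haA ha1
  -- the group X = D H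
  set H := θ a ⊓ Subgroup.normalizer (D : Set G) with hH
  have hHinv := inv_inf hθainv hNDinv
  have hXfam : D ⊔ H ∈ Cfsg.signalizerFamily p A θ :=
    sup_mem_family hA hθ haA ha1 hDfam inf_le_left hHinv inf_le_right
  set X := D ⊔ H with hX
  have hXinv := hXfam.2.2.1
  have hAX : A ≤ Subgroup.normalizer (X : Set G) := le_normalizer_of_conj_mem hXinv
  have hcop : (Nat.card A).Coprime (Nat.card X) := by
    obtain ⟨k, hk⟩ := IsPGroup.iff_card.mp (isPGroup_of_elementary hA)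
    rw [hk]
    exact Nat.Coprime.pow_left k ((Nat.Prime.coprime_iff_not_dvd hp.out).mpr hXfam.2.1)
  have hAsolv : Group.IsSolvable A := by
    haveI := hA.1
    exact isSolvable_of_comm (fun x y => mul_comm' x y)
  -- the subgroups M_i
  have key : ∀ Q : Subgroup G, IsMaxQ p A θ q Q → D ≤ Q →
      ¬ (Q ⊓ Subgroup.normalizer (D : Set G) ⊓ Subgroup.centralizer ({a} : Set G) ≤ D) →
      ∃ T : Subgroup G, T ≤ X ∧ IsPGroup q T ∧ (∀ b ∈ A, ∀ u ∈ T, b * u * b⁻¹ ∈ T) ∧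
        (∃ P : Sylow q X, (P : Subgroup X).map X.subtype = T) ∧
        D < T ⊓ Q := by
    intro Q hQ hDQ hna
    set K := Q ⊓ Subgroup.normalizer (D : Set G) ⊓ Subgroup.centralizer ({a} : Set G) with hK
    have hKinv := inv_inf (inv_inf hQ.1.2.2.1 hNDinv) hCinv
    have hKH : K ≤ H := by
      intro x hx
      obtain ⟨hx1, hx2⟩ := Subgroup.mem_inf.mp hx
      obtain ⟨hx3, hx4⟩ := Subgroup.mem_inf.mp hx1
      exact Subgroup.mem_inf.mpr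
        ⟨hQ.1.2.2.2 a haA ha1 (Subgroup.mem_inf.mpr ⟨hx3, hx2⟩), hx4⟩
    have hMX : D ⊔ K ≤ X := sup_le_sup_left hKH D
    have hMQ : D ⊔ K ≤ Q := sup_le hDQ (inf_le_left.trans inf_le_left)
    have hMq : IsPGroup q ↥(D ⊔ K) := hQ.2.1.to_le hMQ
    have hMinv := inv_sup hDinv hKinv
    obtain ⟨P, hMP, hPA⟩ := exists_invariant_sylow_ge A X hAX hcop (Or.inl hAsolv) (D ⊔ K) hMX
      hMq (le_normalizer_of_conj_mem hMinv)
    refine ⟨(P : Subgroup X).map X.subtype, Subgroup.map_subtype_le _, ?_,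
      conj_mem_of_le_normalizer hPA, ⟨P, rfl⟩, ?_⟩
    · exact P.2.map _
    · refine lt_of_le_of_ne (le_inf (le_sup_left.trans hMP) hDQ) ?_
      intro hcon
      apply hna
      have : K ≤ (P : Subgroup X).map X.subtype ⊓ Q :=
        le_inf (le_sup_right.trans hMP) (inf_le_left.trans inf_le_left)
      rw [← hcon] at this
      exact this
  obtain ⟨T₁, hT₁X, hT₁q, hT₁inv, ⟨P₁, hP₁⟩, hT₁D⟩ := key Q₁ hQ₁ inf_le_left hna₁
  obtain ⟨T₂, hT₂X, hT₂q, hT₂inv, ⟨P₂, hP₂⟩, hT₂D⟩ := key Q₂ hQ₂ inf_le_right hna₂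
  -- conjugate T₁ to T₂ inside X by an element of C_X(A)
  obtain ⟨k, hk, hk'⟩ := exists_conj_sylow_map X P₁ P₂
  rw [hP₁, hP₂] at hk'
  obtain ⟨c, hc, hc'⟩ := glauberman_conj_subgroup A X hAX hcop (Or.inl hAsolv) T₁ T₂
    (fun b hb => conj_smul_eq_of_mem_normalizer (le_normalizer_of_conj_mem hT₁inv hb))
    (fun b hb => conj_smul_eq_of_mem_normalizer (le_normalizer_of_conj_mem hT₂inv hb)) k hk hk'
  have hcI : c ∈ Cfsg.signalizerInf A θ := inf_centralizer_le_signalizerInf hXfam hc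
  have hcT : cj c T₁ = T₂ := hc'
  -- maximal R₁ above T₁
  obtain ⟨R₁, hR₁fam, hR₁q, hT₁R₁, hR₁max⟩ :=
    exists_maximal_ge q (mem_family_of_le hXfam hT₁X hT₁inv) hT₁q
  have hR₁ : IsMaxQ p A θ q R₁ := ⟨hR₁fam, hR₁q, hR₁max⟩
  have hR₂ : IsMaxQ p A θ q (cj c R₁) := isMaxQ_cj hθ' hR₁ hcI
  have hcardG : ∀ S : Subgroup G, Nat.card S ≤ Nat.card G := fun S => Subgroup.card_le_card_group S
  -- Q₁ ~ R₁
  have h1 : ∃ c₁ ∈ Cfsg.signalizerInf A θ, cj c₁ Q₁ = R₁ := by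
    have hlt : Nat.card D < Nat.card ↥(Q₁ ⊓ R₁) := by
      have hle : T₁ ⊓ Q₁ ≤ Q₁ ⊓ R₁ := le_inf inf_le_right (inf_le_left.trans hT₁R₁)
      exact lt_of_lt_of_le (card_lt_card_of_lt hT₁D) (Subgroup.card_le_of_le hle)
    have := hcardG (Q₁ ⊓ R₁)
    exact ih (Nat.card G - Nat.card ↥(Q₁ ⊓ R₁)) (by omega) Q₁ R₁ hQ₁ hR₁ rfl
  -- cj c R₁ ~ Q₂
  have h2 : ∃ c₂ ∈ Cfsg.signalizerInf A θ, cj c₂ (cj c R₁) = Q₂ := by
    have hlt : Nat.card D < Nat.card ↥(cj c R₁ ⊓ Q₂) := by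
      have hle : T₂ ⊓ Q₂ ≤ cj c R₁ ⊓ Q₂ := by
        refine le_inf (inf_le_left.trans ?_) inf_le_right
        rw [← hcT]
        exact cj_mono hT₁R₁ c
      exact lt_of_lt_of_le (card_lt_card_of_lt hT₂D) (Subgroup.card_le_of_le hle)
    have := hcardG (cj c R₁ ⊓ Q₂)
    exact ih (Nat.card G - Nat.card ↥(cj c R₁ ⊓ Q₂)) (by omega) (cj c R₁) Q₂ hR₂ hQ₂ rfl
  obtain ⟨c₁, hc₁, hc₁'⟩ := h1
  obtain ⟨c₂, hc₂, hc₂'⟩ := h2
  refine ⟨c₂ * (c * c₁), Subgroup.mul_mem _ hc₂ (Subgroup.mul_mem _ hcI hc₁), ?_⟩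
  rw [← cj_cj, ← cj_cj, hc₁', hc₂']

end Cfsg.Agent.Helper2.SigTrans
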