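import Mathlib
import Cfsg.Agent.Helper2.SigTrans2

set_option autoImplicit false

/-! Consequences of the Transitivity Theorem. -/

namespace Cfsg.Agent.Helper2.SigTrans

open Cfsg.Agent.Helper1 Cfsg.Agent.Helper2
open scoped Pointwise

variable {G : Type*} [Group G] {p : ℕ} {A : Subgroup G} {θ : G → Subgroup G}

theorem coprime_of_family [Finite G] [hp : Fact p.Prime] (hA : Cfsg.IsElementaryAbelian p A)
    {H : Subgroup G} (hH : H ∈ Cfsg.signalizerFamily p A θ) :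
    (Nat.card A).Coprime (Nat.card H) := by
  obtain ⟨k, hk⟩ := IsPGroup.iff_card.mp (isPGroup_of_elementary hA)
  rw [hk]
  exact Nat.Coprime.pow_left k ((Nat.Prime.coprime_iff_not_dvd hp.out).mpr hH.2.1)

theorem isSolvable_of_elementary (hA : Cfsg.IsElementaryAbelian p A) : Group.IsSolvable A := by
  haveI := hA.1
  exact isSolvable_of_comm (fun x y => mul_comm' x y)

/-- A conjugate of `Q` under `signalizerInf` meets a member `H` of the family in a Sylow subgroup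
containing a prescribed invariant `q`-subgroup. -/
theorem sylow_of_family [Finite G] [hp : Fact p.Prime] (hA : Cfsg.IsElementaryAbelian p A)
    (hA3 : p ^ 3 ≤ Nat.card ↥A) (hθ : Cfsg.IsSolvableSignalizerFunctor p A θ) (q : ℕ)
    [hq : Fact q.Prime] {Q : Subgroup G} (hQ : IsMaxQ p A θ q Q) {H : Subgroup G}
    (hH : H ∈ Cfsg.signalizerFamily p A θ) (U : Subgroup G) (hUH : U ≤ H) (hUq : IsPGroup q U)
    (hUinv : ∀ b ∈ A, ∀ u ∈ U, b * u * b⁻¹ ∈ U) :
    ∃ c ∈ Cfsg.signalizerInf A θ, ∃ S : Sylow q ↥H,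
      U ≤ (S : Subgroup ↥H).map H.subtype ∧ (S : Subgroup ↥H).map H.subtype = cj c Q ⊓ H := by
  have hAH : A ≤ Subgroup.normalizer (H : Set G) := le_normalizer_of_conj_mem hH.2.2.1
  obtain ⟨S, hUS, hSA⟩ := exists_invariant_sylow_ge A H hAH (coprime_of_family hA hH)
    (Or.inl (isSolvable_of_elementary hA)) U hUH hUq (le_normalizer_of_conj_mem hUinv)
  have hTH : (S : Subgroup ↥H).map H.subtype ≤ H := Subgroup.map_subtype_le _
  have hTfam := mem_family_of_le hH hTH (conj_mem_of_le_normalizer hSA)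
  have hTq : IsPGroup q ↥((S : Subgroup ↥H).map H.subtype) := S.2.map _
  obtain ⟨R, hRfam, hRq, hTR, hRmax⟩ := exists_maximal_ge q hTfam hTq
  obtain ⟨c, hc, hcQ⟩ := transitivity_aux hA hA3 hθ q _ Q R hQ ⟨hRfam, hRq, hRmax⟩ rfl
  refine ⟨c, hc, S, hUS, ?_⟩
  rw [hcQ]
  apply le_antisymm (le_inf hTR hTH)
  have h1 : IsPGroup q ↥((R ⊓ H).subgroupOf H) := (hRq.to_le inf_le_left).comap_subtype
  have h2 : (S : Subgroup ↥H) ≤ (R ⊓ H).subgroupOf H := by
    intro x hx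
    rw [Subgroup.mem_subgroupOf]
    exact le_inf hTR hTH (Subgroup.mem_map_of_mem _ hx)
  have h3 := S.is_maximal' h1 h2
  have h4 : ((R ⊓ H).subgroupOf H).map H.subtype = R ⊓ H :=
    Subgroup.map_subgroupOf_eq_of_le inf_le_right
  rw [← h4, h3]

theorem exists_ne_one_of_ne_bot {B : Subgroup G} (hB : B ≠ ⊥) : ∃ b ∈ B, b ≠ 1 := by
  obtain ⟨⟨b, hb⟩, hb1⟩ := (Subgroup.ne_bot_iff_exists_ne_one).mp hB
  exact ⟨b, hb, fun h => hb1 (Subtype.ext h)⟩

/-- `θ(C_G(B))` is in the family. -/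
theorem signalizerInf_mem_family [Finite G] (hθ : Cfsg.IsSolvableSignalizerFunctor p A θ)
    {B : Subgroup G} (hBA : B ≤ A) (hB : B ≠ ⊥) :
    Cfsg.signalizerInf B θ ∈ Cfsg.signalizerFamily p A θ := by
  obtain ⟨b, hb, hb1⟩ := exists_ne_one_of_ne_bot hB
  have hle : Cfsg.signalizerInf B θ ≤ θ b := signalizerInf_le hb hb1
  refine mem_family_of_le (theta_mem_family hθ (hBA hb) hb1) hle ?_
  intro a ha x hx
  unfold Cfsg.signalizerInf at hx ⊢
  rw [Subgroup.mem_iInf] at hx ⊢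
  rintro ⟨b', hb', hb'1⟩
  exact hθ.1.2.2.1 b' (hBA hb') hb'1 a ha x (hx ⟨b', hb', hb'1⟩)

theorem signalizerInf_mono {B : Subgroup G} (hBA : B ≤ A) :
    Cfsg.signalizerInf A θ ≤ Cfsg.signalizerInf B θ := by
  intro x hx
  unfold Cfsg.signalizerInf at hx ⊢
  rw [Subgroup.mem_iInf] at hx ⊢
  rintro ⟨b, hb, hb1⟩
  exact hx ⟨b, hBA hb, hb1⟩

/-- `Q ∩ θ(C_G(B)) = C_Q(B)` for `Q` in the family. -/
theorem inf_signalizerInf_eq (hθ : Cfsg.IsSignalizerFunctor p A θ) {Q : Subgroup G}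
    (hQ : Q ∈ Cfsg.signalizerFamily p A θ) {B : Subgroup G} (hBA : B ≤ A) :
    Q ⊓ Cfsg.signalizerInf B θ = Q ⊓ Subgroup.centralizer (B : Set G) := by
  apply le_antisymm
  · apply inf_le_inf_left
    intro x hx
    rw [Subgroup.mem_centralizer_iff]
    intro b hb
    by_cases hb1 : b = 1
    · rw [hb1, one_mul, mul_one]
    · have h1 : x ∈ θ b := signalizerInf_le hb hb1 hx
      have h2 := hθ.1 b (hBA hb) hb1 h1
      exact (Subgroup.mem_centralizer_singleton_iff.mp h2).symm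
  · intro x hx
    obtain ⟨hx1, hx2⟩ := Subgroup.mem_inf.mp hx
    refine Subgroup.mem_inf.mpr ⟨hx1, ?_⟩
    unfold Cfsg.signalizerInf
    rw [Subgroup.mem_iInf]
    rintro ⟨b, hb, hb1⟩
    apply hQ.2.2.2 b (hBA hb) hb1
    refine Subgroup.mem_inf.mpr ⟨hx1, ?_⟩
    rw [Subgroup.mem_centralizer_singleton_iff]
    exact (Subgroup.mem_centralizer_iff.mp hx2 b hb).symm

/-- `C_Q(B)` is a Sylow `q`-subgroup of `θ(C_G(B))`. -/
theorem sylow_signalizerInf [Finite G] [hp : Fact p.Prime] (hA : Cfsg.IsElementaryAbelian p A)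
    (hA3 : p ^ 3 ≤ Nat.card ↥A) (hθ : Cfsg.IsSolvableSignalizerFunctor p A θ) (q : ℕ)
    [hq : Fact q.Prime] {Q : Subgroup G} (hQ : IsMaxQ p A θ q Q) {B : Subgroup G} (hBA : B ≤ A)
    (hB : B ≠ ⊥) :
    ∃ S : Sylow q ↥(Cfsg.signalizerInf B θ),
      (S : Subgroup ↥(Cfsg.signalizerInf B θ)).map (Cfsg.signalizerInf B θ).subtype =
        Q ⊓ Subgroup.centralizer (B : Set G) := by
  set H := Cfsg.signalizerInf B θ with hH
  have hHfam : H ∈ Cfsg.signalizerFamily p A θ := signalizerInf_mem_family hθ hBA hB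
  have hUinv : ∀ b ∈ A, ∀ u ∈ Q ⊓ H, b * u * b⁻¹ ∈ Q ⊓ H := inv_inf hQ.1.2.2.1 hHfam.2.2.1
  obtain ⟨c, hc, S, hUS, hS⟩ := sylow_of_family hA hA3 hθ q hQ hHfam (Q ⊓ H) inf_le_right
    (hQ.2.1.to_le inf_le_left) hUinv
  refine ⟨S, ?_⟩
  rw [← inf_signalizerInf_eq hθ.1 hQ.1 hBA]
  symm
  apply Subgroup.eq_of_le_of_card_ge hUS
  have hcH : c ∈ H := signalizerInf_mono hBA hc
  have h1 : cj c H = H := (mem_normalizer_iff_cj H c).mp (Subgroup.le_normalizer hcH)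
  have h2 : cj c (Q ⊓ H) = cj c Q ⊓ H := by
    unfold cj
    rw [Subgroup.map_inf _ _ _ (MulAut.conj c).injective]
    exact congrArg (fun K => Subgroup.map (MulAut.conj c).toMonoidHom Q ⊓ K) h1
  rw [hS, ← h2]
  exact le_of_eq (Subgroup.card_map_of_injective (MulAut.conj c).injective)

theorem bot_mem_family : (⊥ : Subgroup G) ∈ Cfsg.signalizerFamily p A θ ∨ p = 1 := by
  by_cases hp1 : p = 1
  · exact Or.inr hp1
  · left
    refine ⟨inferInstance, ?_, ?_, ?_⟩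
    · rw [Subgroup.card_bot]
      exact fun h => hp1 (Nat.dvd_one.mp h)
    · intro b _ u hu
      rw [Subgroup.mem_bot] at hu ⊢
      rw [hu, mul_one, mul_inv_cancel]
    · intro a _ _
      exact inf_le_left.trans bot_le

/-- `θ(C_G(⟨a⟩)) = θ a`. -/
theorem signalizerInf_zpowers (hθ : Cfsg.IsSignalizerFunctor p A θ) {a : G} (ha : a ∈ A)
    (ha1 : a ≠ 1) : Cfsg.signalizerInf (Subgroup.zpowers a) θ = θ a := by
  apply le_antisymm
  · exact signalizerInf_le (Subgroup.mem_zpowers a) ha1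
  · intro x hx
    unfold Cfsg.signalizerInf
    rw [Subgroup.mem_iInf]
    rintro ⟨b, hb, hb1⟩
    have hbA : b ∈ A := (Subgroup.zpowers_le.mpr ha) hb
    apply hθ.2.2.2 a ha ha1 b hbA hb1
    refine Subgroup.mem_inf.mpr ⟨hx, ?_⟩
    have h1 := hθ.1 a ha ha1 hx
    rw [Subgroup.mem_centralizer_singleton_iff] at h1 ⊢
    obtain ⟨k, rfl⟩ := Subgroup.mem_zpowers_iff.mp hb
    exact ((Commute.zpow_right (show Commute x a from h1) k).eq)

/-- If every `θ a` is a `q`-group then `θ` is complete. -/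
theorem complete_of_qgroups [Finite G] [hp : Fact p.Prime] (hA : Cfsg.IsElementaryAbelian p A)
    (hA3 : p ^ 3 ≤ Nat.card ↥A) (hθ : Cfsg.IsSolvableSignalizerFunctor p A θ) (q : ℕ)
    [hq : Fact q.Prime] (hθq : ∀ a ∈ A, a ≠ 1 → IsPGroup q ↥(θ a)) :
    Cfsg.IsCompleteSignalizerFunctor p A θ := by
  have hbot : (⊥ : Subgroup G) ∈ Cfsg.signalizerFamily p A θ := by
    rcases bot_mem_family (p := p) (A := A) (θ := θ) with h | h
    · exact h
    · exact absurd h hp.out.one_lt.ne'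
  obtain ⟨Q, hQfam, hQq, -, hQmax⟩ := exists_maximal_ge q hbot IsPGroup.of_bot
  have hQ : IsMaxQ p A θ q Q := ⟨hQfam, hQq, hQmax⟩
  refine ⟨hθ.1, Q, hQfam.2.2.1, hQfam.2.1, ?_⟩
  intro a ha ha1
  have hzA : Subgroup.zpowers a ≤ A := Subgroup.zpowers_le.mpr ha
  have hz1 : Subgroup.zpowers a ≠ ⊥ := by
    intro h
    exact ha1 (Subgroup.zpowers_eq_bot.mp h)
  obtain ⟨S, hS⟩ := sylow_signalizerInf hA hA3 hθ q hQ hzA hz1
  rw [centralizer_zpowers_eq] at hS
  rw [← hS]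
  have hHq : IsPGroup q ↥(Cfsg.signalizerInf (Subgroup.zpowers a) θ) := by
    rw [signalizerInf_zpowers hθ.1 ha ha1]
    exact hθq a ha ha1
  have h1 : (⊤ : Subgroup ↥(Cfsg.signalizerInf (Subgroup.zpowers a) θ)) = S :=
    S.is_maximal' (hHq.to_subgroup ⊤) le_top
  rw [← h1, ← MonoidHom.range_eq_map, Subgroup.range_subtype]
  exact signalizerInf_zpowers hθ.1 ha ha1

end Cfsg.Agent.Helper2.SigTrans
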