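import Mathlib
import Cfsg.Prelude.Def_Solvable
import Cfsg.Prelude.Def_CaseTheorems

set_option autoImplicit false
open Pointwise

/-!
# S4385, PIECE 2: core-freeness from the `y`-hypotheses (for helper3's `SimsSkel`)
-/

namespace Cfsg.Agent.Helper2.SimsCore

variable {G : Type*} [Group G]

/-- `conj g • N = N` iff `g` normalizes `N`. -/
theorem conj_smul_eq_iff {N : Subgroup G} {g : G} :
    MulAut.conj g • N = N ↔ g ∈ Subgroup.normalizer (N : Set G) := by
  rw [Subgroup.mem_normalizer_iff_map_conj_eq]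
  rfl

/-- The normalizer of a conjugate. -/
theorem mem_normalizer_conj_smul_iff {N : Subgroup G} {y g : G} :
    g ∈ Subgroup.normalizer ((MulAut.conj y • N : Subgroup G) : Set G) ↔
      y⁻¹ * g * y ∈ Subgroup.normalizer (N : Set G) := by
  rw [← conj_smul_eq_iff, ← conj_smul_eq_iff]
  constructor
  · intro h
    have h1 : MulAut.conj (y⁻¹ * g * y) • N
        = MulAut.conj y⁻¹ • (MulAut.conj g • (MulAut.conj y • N)) := by
      rw [← mul_smul, ← mul_smul, ← map_mul, ← map_mul]
    rw [h1, h, ← mul_smul, ← map_mul]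
    simp
  · intro h
    have h1 : MulAut.conj g • (MulAut.conj y • N)
        = MulAut.conj y • (MulAut.conj (y⁻¹ * g * y) • N) := by
      rw [← mul_smul, ← mul_smul, ← map_mul, ← map_mul]
      congr 2
      group
    rw [h1, h]

/-- The pointwise action commutes with `iSup`. -/
theorem smul_iSup' {ι : Sort*} (a : MulAut G) (s : ι → Subgroup G) :
    a • (⨆ i, s i) = ⨆ i, a • s i :=
  Subgroup.map_iSup (MulDistribMulAction.toMonoidEnd (MulAut G) G a : G →* G) s

variable [Finite G]

/-- PIECE 2 (core-freeness from the `y`-hypotheses). -/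
theorem core_free (H P : Subgroup G) (hPH : P ≤ H) (y : G)
    (hy2 : y ^ 2 ∈ P ⊔ Subgroup.centralizer (P : Set G)) (hyN : MulAut.conj y • P = P)
    (hyQ : ∀ Q : Subgroup G, Q ≤ P → (Q.subgroupOf H).Normal → MulAut.conj y • Q = Q → Q = ⊥)
    (N : Subgroup G) (hNP : N ≤ P) (hN1 : ∀ h ∈ H, MulAut.conj h • N = N)
    (hN2 : ∀ h ∈ H, MulAut.conj (y * h * y⁻¹) • N = N) : N = ⊥ := by
  classical
  -- the family
  let Fam : Subgroup G → Prop := fun N =>
    N ≤ P ∧ (∀ h ∈ H, h ∈ Subgroup.normalizer (N : Set G)) ∧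
      (∀ h ∈ H, y * h * y⁻¹ ∈ Subgroup.normalizer (N : Set G))
  -- closure of the family under `conj y`
  have hclos : ∀ N : Subgroup G, Fam N → Fam (MulAut.conj y • N) := by
    rintro N ⟨hNP, h1, h2⟩
    have hPn : P ≤ Subgroup.normalizer (N : Set G) := fun x hx => h1 x (hPH hx)
    have hCn : Subgroup.centralizer (P : Set G) ≤ Subgroup.normalizer (N : Set G) :=
      (Subgroup.centralizer_le (show (N : Set G) ⊆ P from hNP)).trans
        (Subgroup.centralizer_le_normalizer _)
    have hy2n : y ^ 2 ∈ Subgroup.normalizer (N : Set G) := (sup_le hPn hCn) hy2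
    refine ⟨?_, ?_, ?_⟩
    · calc MulAut.conj y • N ≤ MulAut.conj y • P :=
            Subgroup.pointwise_smul_le_pointwise_smul_iff.mpr hNP
        _ = P := hyN
    · intro h hh
      rw [mem_normalizer_conj_smul_iff]
      have e : y⁻¹ * h * y = (y ^ 2)⁻¹ * (y * h * y⁻¹) * y ^ 2 := by group
      rw [e]
      exact Subgroup.mul_mem _ (Subgroup.mul_mem _ (Subgroup.inv_mem _ hy2n) (h2 h hh)) hy2n
    · intro h hh
      rw [mem_normalizer_conj_smul_iff]
      have e : y⁻¹ * (y * h * y⁻¹) * y = h := by group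
      rw [e]
      exact h1 h hh
  -- the join of the family
  let J : Subgroup G := ⨆ N : {N : Subgroup G // Fam N}, (N : Subgroup G)
  have hJP : J ≤ P := iSup_le fun N => N.2.1
  have hJH : ∀ h ∈ H, h ∈ Subgroup.normalizer (J : Set G) := by
    intro h hh
    rw [← conj_smul_eq_iff]
    have hle : ∀ g ∈ H, MulAut.conj g • J ≤ J := by
      intro g hg
      rw [smul_iSup']
      refine iSup_le fun N => ?_
      have : MulAut.conj g • (N : Subgroup G) = N := conj_smul_eq_iff.mpr (N.2.2.1 g hg)
      rw [this]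
      exact le_iSup (fun N : {N : Subgroup G // Fam N} => (N : Subgroup G)) N
    refine le_antisymm (hle h hh) ?_
    rw [Subgroup.subset_pointwise_smul_iff, ← map_inv]
    exact hle h⁻¹ (H.inv_mem hh)
  have hJy : MulAut.conj y • J = J := by
    have hle : MulAut.conj y • J ≤ J := by
      rw [smul_iSup']
      refine iSup_le fun N => ?_
      exact le_iSup (fun N : {N : Subgroup G // Fam N} => (N : Subgroup G))
        ⟨MulAut.conj y • (N : Subgroup G), hclos N N.2⟩
    refine Subgroup.eq_of_le_of_card_ge hle ?_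
    exact le_of_eq (Nat.card_congr (Subgroup.equivSMul (MulAut.conj y) J).toEquiv)
  have hJn : (J.subgroupOf H).Normal := by
    constructor
    intro n hn g
    rw [Subgroup.mem_subgroupOf] at hn ⊢
    have hg := hJH g g.2
    rw [Subgroup.mem_normalizer_iff] at hg
    have := (hg n).mp hn
    simpa using this
  have hJ : J = ⊥ := hyQ J hJP hJn hJy
  have hNF : Fam N := ⟨hNP, fun h hh => conj_smul_eq_iff.mp (hN1 h hh),
    fun h hh => conj_smul_eq_iff.mp (hN2 h hh)⟩
  have : N ≤ J := le_iSup (fun N : {N : Subgroup G // Fam N} => (N : Subgroup G)) ⟨N, hNF⟩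
  rw [hJ] at this
  exact le_bot_iff.mp this

end Cfsg.Agent.Helper2.SimsCore
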