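import Mathlib
import Cfsg.Prelude.Def_Solvable
import Cfsg.Prelude.Def_CaseTheorems

set_option autoImplicit false
open Pointwise

/-!
# S4385, PIECE 1: dihedral facts (for helper3's `SimsSkel`)
-/

namespace Cfsg.Agent.Helper2.SimsDih

open DihedralGroup

section dihedral

variable {n : ℕ}

/-- For even `n = 2m`, `r m` is a central involution of `DihedralGroup n`. -/
theorem central_invol (m : ℕ) (hm : 0 < m) (hn : n = 2 * m) :
    (r (m : ZMod n) : DihedralGroup n) ≠ 1 ∧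
      (r (m : ZMod n) : DihedralGroup n) * r (m : ZMod n) = 1 ∧
      ∀ g : DihedralGroup n, g * r (m : ZMod n) = r (m : ZMod n) * g := by
  have h2 : (m : ZMod n) + (m : ZMod n) = 0 := by
    have : ((m + m : ℕ) : ZMod n) = 0 := by
      rw [show m + m = n by omega]; exact ZMod.natCast_self n
    simpa using this
  refine ⟨?_, ?_, ?_⟩
  · intro h
    rw [one_def] at h
    have h0 : (m : ZMod n) = 0 := DihedralGroup.r.inj h
    rw [ZMod.natCast_eq_zero_iff] at h0
    have := Nat.le_of_dvd hm h0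
    omega
  · rw [r_mul_r, h2, r_zero]
  · intro g
    cases g with
    | r i => rw [r_mul_r, r_mul_r, add_comm]
    | sr i =>
      rw [sr_mul_r, r_mul_sr]
      congr 1
      have : (m : ZMod n) = -(m : ZMod n) := eq_neg_of_add_eq_zero_left h2
      rw [sub_eq_add_neg, ← this]

/-- For odd `n`, a subgroup containing a reflection and `r (-2)` is everything. -/
theorem eq_top_of_sr_of_r (hodd : Odd n) (D' : Subgroup (DihedralGroup n)) (i : ZMod n)
    (h1 : sr i ∈ D') (h2 : r (-2 : ZMod n) ∈ D') : D' = ⊤ := by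
  obtain ⟨k, hk⟩ := hodd
  have : NeZero n := ⟨by omega⟩
  set u : ZMod n := ((k + 1 : ℕ) : ZMod n) with hu
  have hu2 : (2 : ZMod n) * u = 1 := by
    have : ((2 * (k + 1) : ℕ) : ZMod n) = 1 := by
      rw [show 2 * (k + 1) = n + 1 by omega]
      push_cast
      rw [ZMod.natCast_self]; simp
    rw [hu]; push_cast at this ⊢; exact this
  have hr : ∀ j : ZMod n, r j ∈ D' := by
    intro j
    set t : ZMod n := -(u * j) with ht
    have h3 : (r (-2 : ZMod n)) ^ t.val ∈ D' := D'.pow_mem h2 _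
    rw [r_pow, ZMod.natCast_zmod_val] at h3
    have : (-2 : ZMod n) * t = j := by
      rw [ht]
      calc (-2 : ZMod n) * -(u * j) = (2 * u) * j := by ring
        _ = j := by rw [hu2, one_mul]
    rwa [this] at h3
  rw [eq_top_iff]
  intro g _
  cases g with
  | r j => exact hr j
  | sr j =>
    have : sr j = sr i * r (j - i) := by rw [sr_mul_r]; congr 1; ring
    rw [this]
    exact D'.mul_mem h1 (hr _)

/-- A `2`-element of `DihedralGroup n`, `n` odd, that is a rotation is trivial. -/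
theorem r_eq_one_of_pow_two (hodd : Odd n) (j : ZMod n) (k : ℕ)
    (h : (r j : DihedralGroup n) ^ (2 ^ k) = 1) : (r j : DihedralGroup n) = 1 := by
  have hn : (r j : DihedralGroup n) ^ n = 1 := by
    rw [r_pow, ZMod.natCast_self, mul_zero, r_zero]
  have h1 : orderOf (r j : DihedralGroup n) ∣ 2 ^ k := orderOf_dvd_of_pow_eq_one h
  have h2 : orderOf (r j : DihedralGroup n) ∣ n := orderOf_dvd_of_pow_eq_one hn
  have hc : Nat.Coprime (2 ^ k) n := Nat.Coprime.pow_left k (Nat.coprime_two_left.mpr hodd)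
  have : orderOf (r j : DihedralGroup n) = 1 := Nat.eq_one_of_dvd_coprimes hc h1 h2
  exact orderOf_eq_one_iff.mp this

end dihedral

section abstract

variable {A : Type*} [Group A] [Finite A]

/-- The dihedral facts inside an abstract finite group `A` with `A ⧸ O₂(A) ≃* D₂ₙ`. -/
theorem dih_abstract (n : ℕ) (hn : 2 ≤ n)
    (φ : A ⧸ Cfsg.pCore 2 A ≃* DihedralGroup n) (P' : Subgroup A) (hP : IsPGroup 2 P')
    (hsyl : ¬ 2 ∣ P'.index) :
    Cfsg.pCore 2 A ≤ P' ∧ Odd n ∧ Nat.card P' = 2 * Nat.card (Cfsg.pCore 2 A) ∧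
      Nat.card A = n * Nat.card P' ∧ ∃ ρ : A, P' ⊔ MulAut.conj ρ • P' = ⊤ := by
  classical
  set K : Subgroup A := Cfsg.pCore 2 A with hK
  have hK2 : IsPGroup 2 K := Sylow.sSup_of_normal _ (fun H hH => hH.2) (fun H hH => hH.1)
  -- the projection
  let π : A →* DihedralGroup n := φ.toMonoidHom.comp (QuotientGroup.mk' K)
  have hπs : Function.Surjective π := φ.surjective.comp (QuotientGroup.mk'_surjective K)
  have hπk : ∀ a : A, π a = 1 ↔ a ∈ K := by
    intro a
    show φ (QuotientGroup.mk' K a) = 1 ↔ a ∈ K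
    rw [MulEquiv.map_eq_one_iff, QuotientGroup.mk'_apply, QuotientGroup.eq_one_iff]
  -- `K ≤ P'`
  have hKP : K ≤ P' := by
    have h := hK2.le_sylow_of_normal (IsPGroup.toSylow hP hsyl)
    exact h
  -- `n` is odd
  have hodd : Odd n := by
    by_contra hne
    rw [Nat.not_odd_iff_even] at hne
    obtain ⟨m, hm⟩ := hne
    have hm0 : 0 < m := by omega
    obtain ⟨hz1, hz2, hzc⟩ := central_invol (n := n) m hm0 (by omega)
    set z : DihedralGroup n := r (m : ZMod n) with hz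
    have hZn : (Subgroup.zpowers z).Normal := by
      constructor
      intro x hx g
      obtain ⟨k, rfl⟩ := Subgroup.mem_zpowers_iff.mp hx
      have hc : Commute g z := hzc g
      have : g * z ^ k * g⁻¹ = z ^ k := by
        rw [(hc.zpow_right k).eq, mul_inv_cancel_right]
      rw [this]; exact Subgroup.zpow_mem_zpowers z k
    let N : Subgroup A := (Subgroup.zpowers z).comap π
    have hNn : N.Normal := hZn.comap π
    have hN2 : IsPGroup 2 N := by
      rintro ⟨x, hx⟩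
      have hx' : π x ∈ Subgroup.zpowers z := hx
      obtain ⟨k, hk⟩ := Subgroup.mem_zpowers_iff.mp hx'
      have hzz : z ^ (2 : ℕ) = 1 := by rw [pow_two]; exact hz2
      have h2 : π (x ^ 2) = 1 := by
        rw [map_pow, ← hk, ← zpow_natCast, ← zpow_mul, mul_comm, zpow_mul, zpow_natCast, hzz,
          one_zpow]
      have h3 : x ^ 2 ∈ K := (hπk _).mp h2
      obtain ⟨j, hj⟩ := hK2 ⟨x ^ 2, h3⟩
      refine ⟨j + 1, ?_⟩
      apply Subtype.ext
      have h4 : (x ^ 2) ^ (2 ^ j) = 1 := by simpa using congrArg Subtype.val hj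
      show x ^ (2 ^ (j + 1)) = 1
      rw [pow_succ', pow_mul]; exact h4
    have hNK : N ≤ K := le_sSup ⟨hNn, hN2⟩
    obtain ⟨a, ha⟩ := hπs z
    have haN : a ∈ N := by
      show π a ∈ Subgroup.zpowers z
      rw [ha]; exact Subgroup.mem_zpowers z
    have h5 := (hπk a).mpr (hNK haN)
    rw [ha] at h5; exact hz1 h5
  -- counting
  have hcardA : Nat.card A = Nat.card K * (2 * n) := by
    rw [Subgroup.card_eq_card_quotient_mul_card_subgroup K, Nat.card_congr φ.toEquiv,
      DihedralGroup.nat_card, mul_comm]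
  obtain ⟨a, ha⟩ := IsPGroup.exists_card_eq hP
  obtain ⟨b, hb⟩ := IsPGroup.exists_card_eq hK2
  have hidx : Nat.card P' * P'.index = Nat.card A := Subgroup.card_mul_index P'
  have hab : a = b + 1 := by
    have e : 2 ^ a * P'.index = 2 ^ (b + 1) * n := by
      rw [← ha, hidx, hcardA, hb, pow_succ]; ring
    have hc1 : Nat.Coprime (2 ^ a) n := Nat.Coprime.pow_left a (Nat.coprime_two_left.mpr hodd)
    have hc2 : Nat.Coprime (2 ^ (b + 1)) P'.index :=
      Nat.Coprime.pow_left _ ((Nat.Prime.coprime_iff_not_dvd Nat.prime_two).mpr hsyl)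
    have h1 : 2 ^ a ∣ 2 ^ (b + 1) := hc1.dvd_of_dvd_mul_right ⟨P'.index, e.symm⟩
    have h2 : 2 ^ (b + 1) ∣ 2 ^ a := hc2.dvd_of_dvd_mul_right ⟨n, e⟩
    have h1' := (Nat.pow_dvd_pow_iff_le_right (by norm_num : 1 < 2)).mp h1
    have h2' := (Nat.pow_dvd_pow_iff_le_right (by norm_num : 1 < 2)).mp h2
    omega
  have hcardP : Nat.card P' = 2 * Nat.card K := by
    rw [ha, hb, hab, pow_succ]; ring
  have hcardA' : Nat.card A = n * Nat.card P' := by
    rw [hcardA, hcardP]; ring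
  refine ⟨hKP, hodd, hcardP, hcardA', ?_⟩
  -- an element of `P'` outside `K`
  obtain ⟨x, hxP, hxK⟩ : ∃ x ∈ P', x ∉ K := by
    by_contra hcon
    push Not at hcon
    have h1 : P' ≤ K := hcon
    have h2 := Subgroup.card_le_of_le h1
    have h3 : 0 < Nat.card K := Nat.card_pos
    omega
  obtain ⟨kx, hkx⟩ := hP ⟨x, hxP⟩
  have hx2 : x ^ (2 ^ kx) = 1 := by simpa using congrArg Subtype.val hkx
  have hπx : π x ≠ 1 := fun h => hxK ((hπk x).mp h)
  obtain ⟨i, hi⟩ : ∃ i, π x = sr i := by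
    cases hπ : π x with
    | r j =>
      exfalso
      apply hπx
      rw [hπ]
      apply r_eq_one_of_pow_two hodd j kx
      rw [← hπ, ← map_pow, hx2, map_one]
    | sr i => exact ⟨i, rfl⟩
  obtain ⟨ρ, hρ⟩ := hπs (r 1)
  refine ⟨ρ, ?_⟩
  set L : Subgroup A := P' ⊔ MulAut.conj ρ • P' with hL
  have hxL : x ∈ L := (le_sup_left : P' ≤ L) hxP
  have hxL' : ρ * x * ρ⁻¹ ∈ L := by
    apply (le_sup_right : MulAut.conj ρ • P' ≤ L)
    rw [Subgroup.mem_smul_pointwise_iff_exists]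
    exact ⟨x, hxP, by simp [MulAut.smul_def, MulAut.conj_apply]⟩
  have hD : L.map π = ⊤ := by
    apply eq_top_of_sr_of_r hodd _ i
    · exact ⟨x, hxL, hi⟩
    · refine ⟨x * (ρ * x * ρ⁻¹), L.mul_mem hxL hxL', ?_⟩
      rw [map_mul, map_mul, map_mul, map_inv, hi, hρ, r_mul_sr, inv_r, sr_mul_r, sr_mul_sr]
      congr 1
      ring
  rw [eq_top_iff]
  intro a _
  have h1 : π a ∈ L.map π := by rw [hD]; trivial
  obtain ⟨l, hl, hla⟩ := h1
  have h2 : l⁻¹ * a ∈ K := (hπk _).mp (by rw [map_mul, map_inv, hla, inv_mul_cancel])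
  have h3 : a = l * (l⁻¹ * a) := by group
  rw [h3]
  exact L.mul_mem hl ((le_sup_left : P' ≤ L) (hKP h2))

end abstract

variable {G : Type*} [Group G] [Finite G]

/-- PIECE 1 (dihedral facts). -/
theorem dih_facts (H : Subgroup G) (hO : Cfsg.pCore 2 ↥H ≠ ⊥) (n : ℕ) (hn : 2 ≤ n)
    (hdih : Nonempty (↥H ⧸ Cfsg.pCore 2 ↥H ≃* DihedralGroup n))
    (P : Subgroup G) (hPH : P ≤ H) (hP : IsPGroup 2 P) (hPsyl : ¬ 2 ∣ P.relIndex H) :
    ∃ Q : Subgroup G, Q = (Cfsg.pCore 2 ↥H).map H.subtype ∧ Q ≠ ⊥ ∧ Q ≤ P ∧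
      (∀ h ∈ H, MulAut.conj h • Q = Q) ∧ Odd n ∧
      Nat.card P = 2 * Nat.card Q ∧ Nat.card H = n * Nat.card P ∧
      ∃ r ∈ H, P ⊔ MulAut.conj r • P = H := by
  obtain ⟨φ⟩ := hdih
  set P' : Subgroup H := P.subgroupOf H with hP'def
  have hP' : IsPGroup 2 P' := hP.comap_subtype
  have hidx : ¬ 2 ∣ P'.index := hPsyl
  obtain ⟨hKP, hodd, hcP, hcA, ρ, hρ⟩ := dih_abstract n hn φ P' hP' hidx
  set K : Subgroup H := Cfsg.pCore 2 ↥H with hK
  have e1 : Nat.card P' = Nat.card P :=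
    Nat.card_congr (Subgroup.subgroupOfEquivOfLe hPH).toEquiv
  have e2 : Nat.card (K.map H.subtype) = Nat.card K :=
    Nat.card_congr (K.equivMapOfInjective H.subtype H.subtype_injective).symm.toEquiv
  have hle : ∀ h ∈ H, MulAut.conj h • K.map H.subtype ≤ K.map H.subtype := by
    rintro h hh _ ⟨_, ⟨k, hk, rfl⟩, rfl⟩
    refine ⟨(⟨h, hh⟩ : H) * k * (⟨h, hh⟩ : H)⁻¹, ?_, ?_⟩
    · exact (inferInstance : K.Normal).conj_mem k hk _
    · simp [MulAut.smul_def, MulAut.conj_apply]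
  refine ⟨K.map H.subtype, rfl, ?_, ?_, ?_, hodd, ?_, ?_, ?_⟩
  · intro h
    apply hO
    exact (Subgroup.map_eq_bot_iff_of_injective K H.subtype_injective).mp h
  · rintro _ ⟨k, hk, rfl⟩
    exact hKP hk
  · intro h hh
    refine le_antisymm (hle h hh) ?_
    rw [Subgroup.subset_pointwise_smul_iff, ← map_inv]
    exact hle h⁻¹ (H.inv_mem hh)
  · rw [← e1, e2]; exact hcP
  · rw [← e1]; exact hcA
  · refine ⟨ρ, ρ.2, ?_⟩
    have h1 := congrArg (Subgroup.map H.subtype) hρ
    rw [Subgroup.map_sup, hP'def, Subgroup.map_subgroupOf_eq_of_le hPH,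
      Subgroup.conj_smul_subgroupOf hPH ρ,
      Subgroup.map_subgroupOf_eq_of_le (Subgroup.conj_smul_le_of_le hPH ρ),
      ← MonoidHom.range_eq_map, Subgroup.range_subtype] at h1
    exact h1

end Cfsg.Agent.Helper2.SimsDih
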