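import Cfsg.Agent.Helper3.Sims.Calc0

/-!
# Sims' theorem (dihedral form): the centre of a window (piece Z1 of S4385)

`center_window`: with `j = l - 1 + n`, an element of `Y 0 j` commuting with `X 0, …, X j` lies in
`Y n (l-1)`.
-/

set_option autoImplicit false
open Pointwise

namespace Cfsg.Agent.Helper2.SimsZ1

open Cfsg.Agent.Helper3.SimsW

variable {G : Type*} [Group G]

/-- replacing `a` by `c * a` with `c` commuting with `a` and `b` does not change `[a, b]` -/
theorem comm_mul_left_eq {a b c : G} (hca : Commute c a) (hcb : Commute c b) :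
    (c * a) * b * (c * a)⁻¹ * b⁻¹ = a * b * a⁻¹ * b⁻¹ := by
  have hc : Commute c (a * b * a⁻¹) := (hca.mul_right hcb).mul_right hca.inv_right
  calc (c * a) * b * (c * a)⁻¹ * b⁻¹ = (c * (a * b * a⁻¹)) * c⁻¹ * b⁻¹ := by group
    _ = ((a * b * a⁻¹) * c) * c⁻¹ * b⁻¹ := by rw [hc.eq]
    _ = a * b * a⁻¹ * b⁻¹ := by group

/-- replacing `b` by `d * b` with `d` commuting with `a` and `b` does not change `[a, b]` -/
theorem comm_mul_right_eq {a b d : G} (hda : Commute d a) (hdb : Commute d b) :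
    a * (d * b) * a⁻¹ * (d * b)⁻¹ = a * b * a⁻¹ * b⁻¹ := by
  have h1 : a * (d * b) = d * (a * b) := by
    rw [← mul_assoc, ← hda.eq, mul_assoc]
  have h2 : (d * b)⁻¹ = b⁻¹ * d⁻¹ := mul_inv_rev d b
  have h3 : d * (a * b) * a⁻¹ * (b⁻¹ * d⁻¹) = d * (a * b * a⁻¹ * b⁻¹) * d⁻¹ := by group
  have hc : Commute d (a * b * a⁻¹ * b⁻¹) :=
    ((hda.mul_right hdb).mul_right hda.inv_right).mul_right hdb.inv_right
  rw [h1, h2, h3, hc.eq]
  group

variable [Finite G] {P : Subgroup G} {γ : G} {t : ℕ} {z : G}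

/-- PIECE Z1 (centre of a window): with `j = l - 1 + n`, an element of `Y 0 j` commuting with
`X 0, …, X j` lies in `Y n (l-1)`. -/
theorem center_window (L : Line P γ t z) {l : ℕ} (hl1 : 1 ≤ l) (hlt : l < t) (hC : Comm γ t z l)
    (hN : ¬ Commute (X γ t z 0) (X γ t z l)) (n : ℕ) (hj : (l : ℤ) - 1 + n ≤ (t : ℤ) - 1) (w : G)
    (hw : w ∈ Y P γ t 0 ((l : ℤ) - 1 + n))
    (hc : ∀ k : ℤ, 0 ≤ k → k ≤ (l : ℤ) - 1 + n → Commute w (X γ t z k)) :
    w ∈ Y P γ t (n : ℤ) ((l : ℤ) - 1) := by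
  induction n generalizing w with
  | zero => simpa using hw
  | succ n ih =>
    have hl1' : (1 : ℤ) ≤ l := by exact_mod_cast hl1
    have hlt' : (l : ℤ) < t := by exact_mod_cast hlt
    have hn0 : (0 : ℤ) ≤ n := Int.natCast_nonneg n
    have hjeq : (l : ℤ) - 1 + ((n + 1 : ℕ) : ℤ) = (l : ℤ) + n := by push_cast; ring
    rw [hjeq] at hj hw hc
    have hgoal : ((n + 1 : ℕ) : ℤ) = (n : ℤ) + 1 := by push_cast; ring
    rw [hgoal]
    have hjt : (l : ℤ) - 1 + n ≤ (t : ℤ) - 1 := by omega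
    -- the three windows
    have hcase : ∀ {x : G}, x ∈ Y P γ t 0 ((l : ℤ) + n) →
        (∀ k : ℤ, 0 ≤ k → k ≤ (l : ℤ) + n → Commute x (X γ t z k)) →
        (x ∈ Y P γ t 0 ((l : ℤ) - 1 + n) ∨ x ∈ Y P γ t 1 ((l : ℤ) + n)) →
        x ∈ Y P γ t ((n : ℤ) + 1) ((l : ℤ) - 1) := by
      intro x hx hxc hor
      rcases hor with hA | hB
      · -- case A
        have h1 := ih hjt x hA (fun k hk1 hk2 => hxc k hk1 (by omega))
        by_cases hnl : (n : ℤ) ≤ (l : ℤ) - 1
        · rcases L.decomp_left hnl (by omega) h1 with h | h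
          · exact h
          · exfalso
            -- `X n = u * x⁻¹`
            have hxc' : Commute (X γ t z ((l : ℤ) + n)) x :=
              (hxc ((l : ℤ) + n) (by omega) le_rfl).symm
            have huc : Commute (X γ t z ((l : ℤ) + n)) (X γ t z n * x) := by
              refine L.commute_window (a := (n : ℤ) + 1) (b := (l : ℤ) - 1) (by omega) ?_ _ h
              intro k hk1 hk2
              exact hC.comm (by omega) (by omega)
            have hXn : X γ t z n = (X γ t z n * x) * x⁻¹ := by group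
            have h2 : Commute (X γ t z ((l : ℤ) + n)) (X γ t z n) := by
              rw [hXn]
              exact huc.mul_right hxc'.inv_right
            have h3 : Commute (X γ t z ((0 : ℤ) + n)) (X γ t z ((l : ℤ) + n)) := by
              rw [zero_add]; exact h2.symm
            exact hN ((comm_shift γ t z 0 l n).1 h3)
        · have hbot := L.Y_eq_bot (P := P) (γ := γ) (z := z) (a := (n : ℤ)) (b := (l : ℤ) - 1)
            (by omega)
          rw [hbot] at h1
          rw [Subgroup.mem_bot.1 h1]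
          exact Subgroup.one_mem _
      · -- case B
        have hx' : γ⁻¹ * x * γ ∈ Y P γ t 0 ((l : ℤ) - 1 + n) := by
          have h0 := smul_Y_one P γ t 0 ((l : ℤ) - 1 + n)
          have e1 : (0 : ℤ) + 1 = 1 := by ring
          have e2 : (l : ℤ) - 1 + n + 1 = (l : ℤ) + n := by ring
          rw [e1, e2] at h0
          rw [← h0, mem_conj_smul] at hB
          exact hB
        have hxc' : ∀ k : ℤ, 0 ≤ k → k ≤ (l : ℤ) - 1 + n → Commute (γ⁻¹ * x * γ) (X γ t z k) := by
          intro k hk1 hk2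
          have h1 := hxc (k + 1) (by omega) (by omega)
          rw [← X_succ] at h1
          have e : x = γ * (γ⁻¹ * x * γ) * γ⁻¹ := by group
          rw [e, Commute.conj_iff] at h1
          exact h1
        have h1 := ih hjt (γ⁻¹ * x * γ) hx' hxc'
        have h2 : x ∈ Y P γ t ((n : ℤ) + 1) (l : ℤ) := by
          have h0 := smul_Y_one P γ t (n : ℤ) ((l : ℤ) - 1)
          have e2 : (l : ℤ) - 1 + 1 = (l : ℤ) := by ring
          rw [e2] at h0
          rw [← h0, mem_conj_smul]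
          exact h1
        by_cases hnl : (n : ℤ) + 1 ≤ (l : ℤ)
        · rcases L.decomp_right hnl (by omega) h2 with h | h
          · exact h
          · exfalso
            have hx0 : Commute (X γ t z 0) x := (hxc 0 le_rfl (by omega)).symm
            have hu0 : Commute (X γ t z 0) (x * X γ t z l) := by
              refine L.commute_window (a := (n : ℤ) + 1) (b := (l : ℤ) - 1) (by omega) ?_ _ h
              intro k hk1 hk2
              exact hC.comm (by omega) (by omega)
            have hXl : X γ t z l = x⁻¹ * (x * X γ t z l) := by group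
            apply hN
            rw [hXl]
            exact hx0.inv_right.mul_right hu0
        · have hbot := L.Y_eq_bot (P := P) (γ := γ) (z := z) (a := (n : ℤ) + 1) (b := (l : ℤ))
            (by omega)
          rw [hbot] at h2
          rw [Subgroup.mem_bot.1 h2]
          exact Subgroup.one_mem _
    by_cases hor : w ∈ Y P γ t 0 ((l : ℤ) - 1 + n) ∨ w ∈ Y P γ t 1 ((l : ℤ) + n)
    · exact hcase hw hc hor
    · -- case C
      exfalso
      push Not at hor
      obtain ⟨hwA0, hwA1⟩ := hor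
      have hidx0 : (Y P γ t 0 ((l : ℤ) - 1 + n)).relIndex (Y P γ t 0 ((l : ℤ) + n)) = 2 := by
        have := L.relIndex_right (a := 0) (b := (l : ℤ) + n) (by omega) (by omega)
        have e : (l : ℤ) + n - 1 = (l : ℤ) - 1 + n := by ring
        rwa [e] at this
      have hidx1 : (Y P γ t 1 ((l : ℤ) + n)).relIndex (Y P γ t 0 ((l : ℤ) + n)) = 2 := by
        have := L.relIndex_left (a := 0) (b := (l : ℤ) + n) (by omega) (by omega)
        have e : (0 : ℤ) + 1 = 1 := by ring
        rwa [e] at this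
      have hA0B : Y P γ t 0 ((l : ℤ) - 1 + n) ≤ Y P γ t 0 ((l : ℤ) + n) :=
        Y_mono P γ t le_rfl (by omega)
      -- `w` is central in `Y 0 j`
      have hwcent : ∀ u ∈ Y P γ t 0 ((l : ℤ) + n), Commute w u :=
        L.commute_window (by omega) hc
      -- every element of `Y 0 j` is in `Y 1 j` up to `w`
      have hsplit1 : ∀ a ∈ Y P γ t 0 ((l : ℤ) + n),
          ∃ c : G, (∀ u ∈ Y P γ t 0 ((l : ℤ) + n), Commute c u) ∧
            c * a ∈ Y P γ t 1 ((l : ℤ) + n) := by
        intro a ha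
        by_cases haA : a ∈ Y P γ t 1 ((l : ℤ) + n)
        · exact ⟨1, fun u _ => Commute.one_left u, by simpa using haA⟩
        · refine ⟨w, hwcent, ?_⟩
          rw [mul_mem_iff_of_relIndex_two hidx1 hw ha]
          tauto
      set S : Set G := {s | ∃ a ∈ Y P γ t 0 ((l : ℤ) - 1 + n), ∃ b ∈ Y P γ t 0 ((l : ℤ) - 1 + n),
        s = a * b * a⁻¹ * b⁻¹} with hSdef
      have hconj : ∀ a₁ ∈ Y P γ t 1 ((l : ℤ) + n), γ⁻¹ * a₁ * γ ∈ Y P γ t 0 ((l : ℤ) - 1 + n) := by
        intro a₁ ha₁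
        have h0 := smul_Y_one P γ t 0 ((l : ℤ) - 1 + n)
        have e1 : (0 : ℤ) + 1 = 1 := by ring
        have e2 : (l : ℤ) - 1 + n + 1 = (l : ℤ) + n := by ring
        rw [e1, e2] at h0
        rw [← h0, mem_conj_smul] at ha₁
        exact ha₁
      have hinv : ∀ s ∈ S, ∃ s' ∈ S, s = γ * s' * γ⁻¹ := by
        rintro s ⟨a, ha, b, hb, rfl⟩
        obtain ⟨c, hcc, hca⟩ := hsplit1 a (hA0B ha)
        obtain ⟨d, hdc, hdb⟩ := hsplit1 b (hA0B hb)
        refine ⟨(γ⁻¹ * (c * a) * γ) * (γ⁻¹ * (d * b) * γ) * (γ⁻¹ * (c * a) * γ)⁻¹ *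
          (γ⁻¹ * (d * b) * γ)⁻¹, ⟨_, hconj _ hca, _, hconj _ hdb, rfl⟩, ?_⟩
        have e1 : γ * ((γ⁻¹ * (c * a) * γ) * (γ⁻¹ * (d * b) * γ) * (γ⁻¹ * (c * a) * γ)⁻¹ *
            (γ⁻¹ * (d * b) * γ)⁻¹) * γ⁻¹ = (c * a) * (d * b) * (c * a)⁻¹ * (d * b)⁻¹ := by group
        rw [e1]
        have hBmem : c * a ∈ Y P γ t 0 ((l : ℤ) + n) :=
          Y_mono P γ t (by omega) le_rfl hca
        rw [comm_mul_right_eq (hdc _ hBmem) (hdc _ (hA0B hb)),
          comm_mul_left_eq (hcc _ (hA0B ha)) (hcc _ (hA0B hb))]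
      have hS : ∀ s ∈ S, s ∈ Y P γ t 0 ((l : ℤ) - 1 + n) := by
        rintro s ⟨a, ha, b, hb, rfl⟩
        exact Subgroup.mul_mem _ (Subgroup.mul_mem _ (Subgroup.mul_mem _ ha hb)
          (Subgroup.inv_mem _ ha)) (Subgroup.inv_mem _ hb)
      have htriv := L.inv_set_trivial S hinv (a := 0) (b := (l : ℤ) - 1 + n) (by omega) hS
      have habel : ∀ a ∈ Y P γ t 0 ((l : ℤ) - 1 + n), ∀ b ∈ Y P γ t 0 ((l : ℤ) - 1 + n),
          Commute a b := by
        intro a ha b hb
        have h1 : a * b * a⁻¹ * b⁻¹ = 1 := htriv _ ⟨a, ha, b, hb, rfl⟩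
        have h2 : a * b = (a * b * a⁻¹ * b⁻¹) * (b * a) := by group
        rw [h1, one_mul] at h2
        exact h2
      have hX0 : X γ t z 0 ∈ Y P γ t 0 ((l : ℤ) - 1 + n) := L.X_mem' le_rfl (by omega)
      have hXl : X γ t z l ∈ Y P γ t 0 ((l : ℤ) + n) := L.X_mem' (by omega) (by omega)
      by_cases hXlA : X γ t z l ∈ Y P γ t 0 ((l : ℤ) - 1 + n)
      · exact hN (habel _ hX0 _ hXlA)
      · have hu : w * X γ t z l ∈ Y P γ t 0 ((l : ℤ) - 1 + n) := by
          rw [mul_mem_iff_of_relIndex_two hidx0 hw hXl]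
          tauto
        have hx0w : Commute (X γ t z 0) w := (hc 0 le_rfl (by omega)).symm
        have hXl' : X γ t z l = w⁻¹ * (w * X γ t z l) := by group
        apply hN
        rw [hXl']
        exact hx0w.inv_right.mul_right (habel _ hX0 _ hu)

end Cfsg.Agent.Helper2.SimsZ1
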