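import Cfsg.Agent.Helper3.SpOPerp
import Cfsg.Agent.Helper3.TensOmBA

set_option autoImplicit false
set_option linter.unusedSectionVars false
set_option linter.unusedVariables false

/-! S5666, case `dim U = 2` (helper4's direct route), step (S5) (helper2): for a nondegenerate
plane `P ≤ V = U ⊗ W` perpendicular to `U ⊗ z` which is not a fibre, some `u ≠ 0` is *good*: no
nonzero `p ∈ P` is perpendicular to `u ⊗ z^⊥`. -/

namespace Cfsg.Agent.Helper2.SpOSing

open Module Cfsg.Agent.Helper7.ExtF Cfsg.Agent.Helper8.Tens Cfsg.Agent.Helper6.SpO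
  Cfsg.Agent.Helper3.TensOm

variable {F : Type*} [Field F] {U W V : Type*} [AddCommGroup U] [Module F U]
  [AddCommGroup W] [Module F W] [AddCommGroup V] [Module F V]
  {t : U →ₗ[F] W →ₗ[F] V} {B : LinearMap.BilinForm F V} {f₁ : LinearMap.BilinForm F U}
  {f₂ : LinearMap.BilinForm F W} {X : Subgroup (V ≃ₗ[F] V)}

/-- the form `B` against a pure tensor, by the contraction `evU`. -/
theorem B_pure_evU (ht : IsTensorProduct t) (h : Hyp t B f₁ f₂ X) (p : V) (u : U) (w : W) :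
    B p (t u w) = f₂ (evU ht (f₁.flip u) p) w := by
  rw [H3.B_pure ht h u w p, Cfsg.Agent.Helper9.TensFlip.ev_flip]

/-- in a symplectic plane, `u = f₁ u u₂ • u₁ - f₁ u u₁ • u₂` for a hyperbolic pair. -/
theorem plane_expand [FiniteDimensional F U] (alt₁ : ∀ u, f₁ u u = 0) (hU : finrank F U = 2)
    {u₁ u₂ : U} (h12 : f₁ u₁ u₂ = 1) (u : U) : u = f₁ u u₂ • u₁ - f₁ u u₁ • u₂ := by
  have h21 : f₁ u₂ u₁ = -1 := by rw [alt_skew f₁ alt₁, h12]
  set φ : U →ₗ[F] F × F := (f₁.flip u₁).prod (f₁.flip u₂) with hφ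
  have hφa : ∀ x, φ x = (f₁ x u₁, f₁ x u₂) := fun x => rfl
  have hsurj : Function.Surjective φ := by
    rintro ⟨a, b⟩
    refine ⟨(-a) • u₂ + b • u₁, ?_⟩
    rw [hφa]
    simp only [map_add, map_smul, LinearMap.add_apply, LinearMap.smul_apply, smul_eq_mul, h21,
      h12, alt₁]
    ext <;> simp
  have hker : LinearMap.ker φ = ⊥ := by
    have h1 := LinearMap.finrank_range_add_finrank_ker φ
    rw [LinearMap.range_eq_top.mpr hsurj, finrank_top, Module.finrank_prod,
      Module.finrank_self, hU] at h1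
    exact Submodule.finrank_eq_zero.mp (by omega)
  have hx : u - (f₁ u u₂ • u₁ - f₁ u u₁ • u₂) ∈ LinearMap.ker φ := by
    rw [LinearMap.mem_ker, hφa]
    simp only [map_sub, map_smul, LinearMap.sub_apply, LinearMap.smul_apply, smul_eq_mul, h21,
      h12, alt₁]
    ext <;> simp
  rw [hker, Submodule.mem_bot] at hx
  exact sub_eq_zero.mp hx

/-- the expansion of a vector of `V = U ⊗ W` along a hyperbolic pair of the plane `U`. -/
theorem tensor_expand [FiniteDimensional F U] (ht : IsTensorProduct t) (alt₁ : ∀ u, f₁ u u = 0)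
    (hU : finrank F U = 2) {u₁ u₂ : U} (h12 : f₁ u₁ u₂ = 1) (p : V) :
    p = t u₁ (evU ht (f₁.flip u₂) p) - t u₂ (evU ht (f₁.flip u₁) p) := by
  refine ht.inductionOn p ?_ ?_ ?_
  · simp
  · intro u w
    have e1 : (f₁.flip u₂) u = f₁ u u₂ := rfl
    have e2 : (f₁.flip u₁) u = f₁ u u₁ := rfl
    rw [evU_t, evU_t, e1, e2]
    conv_lhs => rw [plane_expand alt₁ hU h12 u]
    simp only [map_sub, map_smul, LinearMap.sub_apply, LinearMap.smul_apply]
  · intro x y hx hy
    have e : t u₁ (evU ht (f₁.flip u₂) (x + y)) - t u₂ (evU ht (f₁.flip u₁) (x + y))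
        = (t u₁ (evU ht (f₁.flip u₂) x) - t u₂ (evU ht (f₁.flip u₁) x))
          + (t u₁ (evU ht (f₁.flip u₂) y) - t u₂ (evU ht (f₁.flip u₁) y)) := by
      simp only [map_add]
      abel
    rw [e, ← hx, ← hy]

/-- **(S5)**: a good `u`. -/
theorem exists_good [FiniteDimensional F U] [FiniteDimensional F W] [FiniteDimensional F V]
    (ht : IsTensorProduct t) (h : Hyp t B f₁ f₂ X) (hU : finrank F U = 2)
    (P : Submodule F V) (hP2 : finrank F P = 2)
    (hPnd : ∀ p ∈ P, (∀ p' ∈ P, B p p' = 0) → p = 0)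
    {z : W} (hz : z ≠ 0) (hPz : ∀ p ∈ P, ∀ u, B p (t u z) = 0)
    (W' : Submodule F W)
    (hW' : ∀ W'' : Submodule F W, W' ≤ W'' ↔ ∀ p ∈ P, ∀ u : U, evU ht (f₁.flip u) p ∈ W'')
    (hzW : z ∉ W' ∨ 3 ≤ finrank F W') (hnf : ¬ ∃ w' : W, w' ≠ 0 ∧ P = fib t w') :
    ∃ u : U, u ≠ 0 ∧ ∀ p ∈ P, (∀ w, f₂ w z = 0 → B p (t u w) = 0) → p = 0 := by
  by_contra hbad
  push Not at hbad
  -- a hyperbolic pair of `U`
  have hpos : 0 < finrank F U := by omega
  obtain ⟨u₁, hu₁⟩ := (Module.finrank_pos_iff_exists_ne_zero (R := F) (M := U)).mp hpos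
  obtain ⟨u₂, h12⟩ := exists_pair f₁ h.nd₁ hu₁
  have h21 : f₁ u₂ u₁ = -1 := by rw [alt_skew f₁ h.alt₁, h12]
  have hu₂ : u₂ ≠ 0 := by
    rintro rfl
    rw [map_zero] at h12
    exact zero_ne_one h12
  have hu₃ : u₁ + u₂ ≠ 0 := by
    intro h0
    have h1 : f₁ (u₁ + u₂) u₂ = 1 := by
      rw [map_add, LinearMap.add_apply, h12, h.alt₁, add_zero]
    rw [h0, map_zero, LinearMap.zero_apply] at h1
    exact zero_ne_one h1
  have hexp := tensor_expand ht h.alt₁ hU h12
  -- contraction of a bad vector lies on the line of `z`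
  have hline : ∀ u : U, ∀ p : V, (∀ w, f₂ w z = 0 → B p (t u w) = 0) →
      ∃ a : F, evU ht (f₁.flip u) p = a • z := by
    intro u p hp
    by_contra hcon
    push Not at hcon
    obtain ⟨v, hv1, hv2⟩ := exists_perp_not_perp f₂ h.nd₂ hz hcon
    apply hv2
    rw [← B_pure_evU ht h]
    exact hp v (by rw [h.symm₂, hv1])
  -- Lemma C: a vector of `P` with both contractions on the line of `z` vanishes
  have hC : ∀ p ∈ P, ∀ α β : F, evU ht (f₁.flip u₁) p = α • z → evU ht (f₁.flip u₂) p = β • z →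
      p = 0 := by
    intro p hp α β h1 h2
    apply hPnd p hp
    intro p' hp'
    have e : p = t (β • u₁ - α • u₂) z := by
      conv_lhs => rw [hexp p, h1, h2]
      simp only [map_smul, map_sub, LinearMap.sub_apply, LinearMap.smul_apply]
    rw [H3.B_skew h, e, hPz p' hp', neg_zero]
  obtain ⟨p₁, hp₁, hp₁0, hb₁⟩ := hbad u₁ hu₁
  obtain ⟨p₂, hp₂, hp₂0, hb₂⟩ := hbad u₂ hu₂
  obtain ⟨p₃, hp₃, hp₃0, hb₃⟩ := hbad (u₁ + u₂) hu₃
  obtain ⟨β₁, hβ₁⟩ := hline u₁ p₁ hp₁0
  obtain ⟨α₂, hα₂⟩ := hline u₂ p₂ hp₂0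
  obtain ⟨γ, hγ⟩ := hline (u₁ + u₂) p₃ hp₃0
  rw [map_add, evU_add, LinearMap.add_apply] at hγ
  -- `a₁ := c₂ p₁` and `b₂ := c₁ p₂` are off the line of `z`
  have ha₁ : ∀ a : F, evU ht (f₁.flip u₂) p₁ ≠ a • z := fun a ha => hb₁ (hC p₁ hp₁ β₁ a hβ₁ ha)
  have hb₂' : ∀ a : F, evU ht (f₁.flip u₁) p₂ ≠ a • z := fun a ha => hb₂ (hC p₂ hp₂ a α₂ ha hα₂)
  -- `p₁, p₂` span `P`
  have hspan : ∀ p ∈ P, ∃ l m : F, p = l • p₁ + m • p₂ := by
    set L : F × F →ₗ[F] P := (LinearMap.fst F F F).smulRight (⟨p₁, hp₁⟩ : P)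
      + (LinearMap.snd F F F).smulRight (⟨p₂, hp₂⟩ : P) with hL
    have hLa : ∀ x : F × F, ((L x : P) : V) = x.1 • p₁ + x.2 • p₂ := by
      intro x
      simp [hL]
    have hinj : Function.Injective L := by
      rw [← LinearMap.ker_eq_bot, LinearMap.ker_eq_bot']
      intro x hx
      have h0 : x.1 • p₁ + x.2 • p₂ = 0 := by
        rw [← hLa, hx]; rfl
      have h1 := congrArg (evU ht (f₁.flip u₂)) h0
      rw [map_add, map_smul, map_smul, hα₂, map_zero] at h1
      have hx1 : x.1 = 0 := by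
        by_contra hne
        apply ha₁ (-(x.1⁻¹ * (x.2 * α₂)))
        have h2 : x.1 • evU ht (f₁.flip u₂) p₁ = -((x.2 * α₂) • z) := by
          rw [← smul_smul]; exact eq_neg_of_add_eq_zero_left h1
        calc evU ht (f₁.flip u₂) p₁ = x.1⁻¹ • (x.1 • evU ht (f₁.flip u₂) p₁) := by
              rw [smul_smul, inv_mul_cancel₀ hne, one_smul]
          _ = -(x.1⁻¹ * (x.2 * α₂)) • z := by rw [h2, smul_neg, smul_smul, neg_smul]
      have hx2 : x.2 = 0 := by
        rw [hx1, zero_smul, zero_add] at h0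
        rcases smul_eq_zero.mp h0 with h3 | h3
        · exact h3
        · exact absurd h3 hb₂
      exact Prod.ext hx1 hx2
    have hsurj : Function.Surjective L :=
      (LinearMap.injective_iff_surjective_of_finrank_eq_finrank
        (by rw [Module.finrank_prod, Module.finrank_self, hP2])).mp hinj
    intro p hp
    obtain ⟨x, hx⟩ := hsurj ⟨p, hp⟩
    refine ⟨x.1, x.2, ?_⟩
    rw [← hLa, hx]
  -- `b₂ ∈ span {a₁, z}`
  set a₁ := evU ht (f₁.flip u₂) p₁ with ha₁def
  set b₂ := evU ht (f₁.flip u₁) p₂ with hb₂def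
  obtain ⟨l, m, hlm⟩ := hspan p₃ hp₃
  have hrel : l • a₁ + m • b₂ = (γ - l * β₁ - m * α₂) • z := by
    have h1 := hγ
    rw [hlm] at h1
    simp only [map_add, map_smul] at h1
    rw [hβ₁, hα₂, ← ha₁def, ← hb₂def] at h1
    rw [sub_smul, sub_smul, ← h1, ← smul_smul, ← smul_smul]
    abel
  have hl0 : l ≠ 0 := by
    rintro rfl
    rw [zero_smul, zero_add] at hrel
    have hm0 : m ≠ 0 := by
      rintro rfl
      rw [zero_smul, zero_smul, zero_add] at hlm
      exact hb₃ hlm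
    apply hb₂' (m⁻¹ * (γ - 0 * β₁ - m * α₂))
    calc b₂ = m⁻¹ • (m • b₂) := by rw [smul_smul, inv_mul_cancel₀ hm0, one_smul]
      _ = (m⁻¹ * (γ - 0 * β₁ - m * α₂)) • z := by rw [hrel, smul_smul]
  have hm0 : m ≠ 0 := by
    rintro rfl
    rw [zero_smul, add_zero] at hrel
    apply ha₁ (l⁻¹ * (γ - l * β₁ - 0 * α₂))
    calc a₁ = l⁻¹ • (l • a₁) := by rw [smul_smul, inv_mul_cancel₀ hl0, one_smul]
      _ = (l⁻¹ * (γ - l * β₁ - 0 * α₂)) • z := by rw [hrel, smul_smul]
  set T : Submodule F W := Submodule.span F {a₁} ⊔ Submodule.span F {z} with hT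
  have hmemT : ∀ a b : F, a • a₁ + b • z ∈ T := fun a b =>
    Submodule.add_mem_sup (Submodule.smul_mem _ _ (Submodule.mem_span_singleton_self _))
      (Submodule.smul_mem _ _ (Submodule.mem_span_singleton_self _))
  have hb₂T : b₂ ∈ T := by
    have e : b₂ = (-(m⁻¹ * l)) • a₁ + (m⁻¹ * (γ - l * β₁ - m * α₂)) • z := by
      have h1 : m • b₂ = (γ - l * β₁ - m * α₂) • z - l • a₁ := by
        rw [← hrel]; abel
      calc b₂ = m⁻¹ • (m • b₂) := by rw [smul_smul, inv_mul_cancel₀ hm0, one_smul]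
        _ = _ := by rw [h1, smul_sub, smul_smul, smul_smul, neg_smul]; abel
    rw [e]
    exact hmemT _ _
  have ha₁T : a₁ ∈ T := by
    have := hmemT 1 0
    rwa [one_smul, zero_smul, add_zero] at this
  have hzT : z ∈ T := by
    have := hmemT 0 1
    rwa [one_smul, zero_smul, zero_add] at this
  -- all contractions of `P` lie in `T`
  have hall : ∀ p ∈ P, ∀ u : U, evU ht (f₁.flip u) p ∈ T := by
    intro p hp u
    obtain ⟨l', m', hp'⟩ := hspan p hp
    have h1 : evU ht (f₁.flip u₁) p ∈ T := by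
      rw [hp', map_add, map_smul, map_smul, hβ₁]
      exact T.add_mem (T.smul_mem _ (T.smul_mem _ hzT)) (T.smul_mem _ hb₂T)
    have h2 : evU ht (f₁.flip u₂) p ∈ T := by
      rw [hp', map_add, map_smul, map_smul, hα₂]
      exact T.add_mem (T.smul_mem _ ha₁T) (T.smul_mem _ (T.smul_mem _ hzT))
    have e : evU ht (f₁.flip u) p
        = f₁ u u₂ • evU ht (f₁.flip u₁) p - f₁ u u₁ • evU ht (f₁.flip u₂) p := by
      have e2 : evU ht (f₁ u u₂ • f₁.flip u₁ - f₁ u u₁ • f₁.flip u₂)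
          = f₁ u u₂ • evU ht (f₁.flip u₁) - f₁ u u₁ • evU ht (f₁.flip u₂) := by
        apply ext_pure ht
        intro u' w'
        simp [sub_smul, mul_smul]
      conv_lhs => rw [plane_expand h.alt₁ hU h12 u]
      rw [map_sub, map_smul, map_smul, e2]
      rfl
    rw [e]
    exact T.sub_mem (T.smul_mem _ h1) (T.smul_mem _ h2)
  have hWT : W' ≤ T := (hW' T).mpr hall
  have hTdim : finrank F T ≤ 2 := by
    have h1 := Submodule.finrank_add_le_finrank_add_finrank (Submodule.span F {a₁})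
      (Submodule.span F {z})
    have ha₁0 : a₁ ≠ 0 := by
      have := ha₁ 0
      rwa [zero_smul] at this
    have h2 : finrank F (Submodule.span F {a₁}) = 1 := finrank_span_singleton ha₁0
    have h3 : finrank F (Submodule.span F {z}) = 1 := finrank_span_singleton hz
    rw [hT]
    omega
  have hW'dim : finrank F W' ≤ 1 := by
    have hzn : z ∉ W' := by
      rcases hzW with h1 | h1
      · exact h1
      · have := Submodule.finrank_mono hWT
        omega
    have hlt : W' < T := lt_of_le_of_ne hWT (fun heq => hzn (by rw [heq]; exact hzT))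
    have := Submodule.finrank_lt_finrank_of_lt hlt
    omega
  obtain ⟨v, hv⟩ := finrank_le_one_iff.mp hW'dim
  have hcon : ∀ p ∈ P, ∀ u : U, evU ht (f₁.flip u) p ∈ W' := (hW' W').mp le_rfl
  have hPle : P ≤ fib t (v : W) := by
    intro p hp
    obtain ⟨κ₁, hκ₁⟩ := hv ⟨_, hcon p hp u₁⟩
    obtain ⟨κ₂, hκ₂⟩ := hv ⟨_, hcon p hp u₂⟩
    have hκ₁' : evU ht (f₁.flip u₁) p = κ₁ • (v : W) := by
      have := congrArg (fun x : W' => (x : W)) hκ₁
      exact this.symm
    have hκ₂' : evU ht (f₁.flip u₂) p = κ₂ • (v : W) := by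
      have := congrArg (fun x : W' => (x : W)) hκ₂
      exact this.symm
    rw [mem_fib]
    refine ⟨κ₂ • u₁ - κ₁ • u₂, ?_⟩
    conv_rhs => rw [hexp p, hκ₁', hκ₂']
    simp only [map_smul, map_sub, LinearMap.sub_apply, LinearMap.smul_apply]
  have hv0 : (v : W) ≠ 0 := by
    intro h0
    apply hb₁
    have h1 := hPle hp₁
    rw [mem_fib] at h1
    obtain ⟨u, hu⟩ := h1
    rw [← hu, h0, map_zero]
  apply hnf
  refine ⟨(v : W), hv0, ?_⟩
  apply Submodule.eq_of_le_of_finrank_eq hPle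
  rw [finrank_fib ht hv0, hP2, hU]

end Cfsg.Agent.Helper2.SpOSing
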