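import Cfsg.Agent.Helper6.SpOA
import Cfsg.Agent.Helper8.TensF
import Cfsg.Agent.Helper8.TensSC
import Cfsg.Agent.Helper3.TensOmBA

set_option autoImplicit false
set_option linter.unusedSectionVars false
set_option linter.unusedVariables false

/-! S5666 piece [LQ], wrapper part A (helper2, for helper6's framework `SpOA`): an element of `X`
fixing `S^⊥ = u^⊥ ⊗ W` pointwise is `1 + P_u ⊗ Z` on pure tensors for an `f₂`-self-adjoint `Z`
(`Rep`), and the calculus of these representations. -/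

namespace Cfsg.Agent.Helper6.SpO

open Module Cfsg.Agent.Helper7.ExtF Cfsg.Agent.Helper8.Tens Cfsg.Agent.Helper3.TensOm

variable {F : Type*} [Field F] {U W V : Type*} [AddCommGroup U] [Module F U]
  [AddCommGroup W] [Module F W] [AddCommGroup V] [Module F V]
  {t : U →ₗ[F] W →ₗ[F] V} {B : LinearMap.BilinForm F V} {f₁ : LinearMap.BilinForm F U}
  {f₂ : LinearMap.BilinForm F W} {X : Subgroup (V ≃ₗ[F] V)}

/-- the form `B` against a pure tensor. -/
theorem polB (ht : IsTensorProduct t) (h : Hyp t B f₁ f₂ X) (x : V) (u' : U) (w' : W) :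
    B x (t u' w') = f₁ (ev ht (f₂.flip w') x) u' := by
  refine ht.inductionOn x ?_ ?_ ?_
  · simp
  · intro a b
    rw [h.pol, ev_t, map_smul, LinearMap.smul_apply, smul_eq_mul]
    show f₁ a u' * f₂ b w' = f₂ b w' * f₁ a u'
    ring
  · intro x y hx hy
    rw [map_add, LinearMap.add_apply, hx, hy, map_add, map_add, LinearMap.add_apply]

variable [FiniteDimensional F U] [FiniteDimensional F W] [FiniteDimensional F V]

/-- `(u^⊥ ⊗ W)^⊥ ≤ u ⊗ W`. -/
theorem mem_fibU_of_perp (ht : IsTensorProduct t) (h : Hyp t B f₁ f₂ X) {u : U} (hu : u ≠ 0)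
    {x : V} (hx : ∀ u' w', f₁ u u' = 0 → B x (t u' w') = 0) : x ∈ fibU t u := by
  rw [fibU, mem_fib_iff_ev (Cfsg.Agent.Helper9.TensFlip.isTP_flip ht) hu]
  intro l hl
  rw [Cfsg.Agent.Helper9.TensFlip.ev_flip ht]
  apply h.nd₂
  intro w'
  have e : f₂ (evU ht l x) w' = l (ev ht (f₂.flip w') x) := (ev_evU ht (f₂.flip w') l x).symm
  rw [e]
  by_cases hc : ∃ a : F, ev ht (f₂.flip w') x = a • u
  · obtain ⟨a, ha⟩ := hc
    rw [ha, map_smul, hl, smul_zero]
  · push Not at hc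
    obtain ⟨v, hv1, hv2⟩ := exists_perp_not_perp f₁ h.nd₁ hu hc
    exact absurd (by rw [← polB ht h]; exact hx v w' hv1) hv2

theorem t_mem_SperpU (ht : IsTensorProduct t) {u u' : U} (hu' : f₁ u' u = 0) (w' : W) :
    t u' w' ∈ SperpU ht f₁ u := by
  rw [LinearMap.mem_ker, evU_t]
  show f₁ u' u • w' = 0
  rw [hu', zero_smul]

theorem sub_mem_fibU (ht : IsTensorProduct t) (h : Hyp t B f₁ f₂ X) {u : U} (hu : u ≠ 0)
    {g : V ≃ₗ[F] V} (hg : g ∈ X) (hQ : InQU ht f₁ u g) (v : V) : g v - v ∈ fibU t u := by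
  apply mem_fibU_of_perp ht h hu
  intro u' w' hu'
  have hmem : t u' w' ∈ SperpU ht f₁ u :=
    t_mem_SperpU ht (by rw [alt_skew f₁ h.alt₁, hu', neg_zero]) w'
  have h1 := h.isom g hg v (t u' w')
  rw [hQ _ hmem] at h1
  rw [map_sub, LinearMap.sub_apply, h1, sub_self]

/-- `g = 1 + P_u ⊗ Z` on pure tensors. -/
def Rep (t : U →ₗ[F] W →ₗ[F] V) (f₁ : LinearMap.BilinForm F U) (u : U) (g : V ≃ₗ[F] V)
    (Z : Module.End F W) : Prop :=
  ∀ x w, g (t x w) = t x w + f₁ x u • t u (Z w)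

/-- an element of `X ∩ Q_S` has a self-adjoint representation. -/
theorem exists_rep (ht : IsTensorProduct t) (h : Hyp t B f₁ f₂ X) {u : U} (hu : u ≠ 0)
    {g : V ≃ₗ[F] V} (hg : g ∈ X) (hQ : InQU ht f₁ u g) :
    ∃ Z : Module.End F W, Rep t f₁ u g Z ∧ IsAdj f₂ Z Z := by
  obtain ⟨us, hus⟩ := exists_pair f₁ h.nd₁ hu
  have husu : f₁ us u = -1 := by rw [alt_skew f₁ h.alt₁, hus]
  set Z' : Module.End F W :=
    (evU ht (f₁.flip us)).comp (((g : V →ₗ[F] V) - 1).comp (t us)) with hZ'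
  have hZw : ∀ w, g (t us w) - t us w = t u (Z' w) := by
    intro w
    obtain ⟨z, hz⟩ := mem_fibU.mp (sub_mem_fibU ht h hu hg hQ (t us w))
    have : Z' w = z := by
      show evU ht (f₁.flip us) (g (t us w) - t us w) = z
      rw [← hz, evU_t]
      show f₁ u us • z = z
      rw [hus, one_smul]
    rw [this, hz]
  have hrep : Rep t f₁ u g (-Z') := by
    intro x w
    have hx' : f₁ (x + f₁ x u • us) u = 0 := by
      rw [map_add, LinearMap.add_apply, map_smul, LinearMap.smul_apply, husu, smul_eq_mul]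
      ring
    have h1 := hQ _ (t_mem_SperpU ht hx' w)
    rw [map_add, LinearMap.add_apply, map_smul, LinearMap.smul_apply, map_add, map_smul] at h1
    have h2 := hZw w
    rw [LinearMap.neg_apply, map_neg, smul_neg, ← h2]
    have h3 : g (t x w) = t x w + f₁ x u • t us w - f₁ x u • g (t us w) := by
      rw [← h1]; abel
    rw [h3, smul_sub]; abel
  refine ⟨-Z', hrep, ?_⟩
  intro w w'
  have ha := hrep us w
  have hb := hrep us w'
  have h1 := h.isom g hg (t us w) (t us w')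
  rw [ha, hb, husu] at h1
  simp only [map_add, LinearMap.add_apply, map_smul, LinearMap.smul_apply, h.pol, h.alt₁, husu,
    hus, smul_eq_mul, zero_mul, mul_zero, add_zero] at h1
  linear_combination -h1

theorem Rep.ext (ht : IsTensorProduct t) {u : U} {g g' : V ≃ₗ[F] V} {Z : Module.End F W}
    (h1 : Rep t f₁ u g Z) (h2 : Rep t f₁ u g' Z) : g = g' := by
  apply equiv_ext_pure ht
  intro x w
  rw [h1, h2]

theorem rep_one (u : U) : Rep t f₁ u (1 : V ≃ₗ[F] V) 0 := by
  intro x w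
  show t x w = _
  simp

theorem Rep.mul (halt₁ : ∀ u, f₁ u u = 0) {u : U} {g g' : V ≃ₗ[F] V} {Z Z' : Module.End F W}
    (h1 : Rep t f₁ u g Z) (h2 : Rep t f₁ u g' Z') : Rep t f₁ u (g * g') (Z + Z') := by
  intro x w
  rw [LinearEquiv.mul_apply, h2, map_add, map_smul, h1, h1, halt₁, zero_smul, add_zero,
    LinearMap.add_apply, map_add, smul_add]
  abel

theorem Rep.inv (halt₁ : ∀ u, f₁ u u = 0) {u : U} {g : V ≃ₗ[F] V} {Z : Module.End F W}
    (h1 : Rep t f₁ u g Z) : Rep t f₁ u g⁻¹ (-Z) := by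
  intro x w
  have h2 : g (t x w + f₁ x u • t u ((-Z) w)) = t x w := by
    rw [map_add, map_smul, h1, h1, halt₁, zero_smul, add_zero, LinearMap.neg_apply, map_neg,
      smul_neg]
    abel
  rw [← h2, inv_apply_self, h2]

theorem rep_yA (ht : IsTensorProduct t) (halt₁ : ∀ u, f₁ u u = 0) (u : U) (c : F) :
    Rep t f₁ u (yA ht f₁ halt₁ u c) (c • 1) := by
  intro x w
  rw [yA_t, map_add, LinearMap.add_apply, map_smul, LinearMap.smul_apply, LinearMap.smul_apply,
    Module.End.one_apply, map_smul, smul_smul, mul_comm]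

theorem rep_Tv (h : Hyp t B f₁ f₂ X) (u : U) (w₀ : W) (c : F) :
    Rep t f₁ u (Tv B h.altB (t u w₀) c) (c • P f₂ w₀ w₀) := by
  intro x w
  rw [Tv_apply, h.pol, LinearMap.smul_apply, P_apply, map_smul, map_smul, smul_smul, smul_smul]
  congr 2
  ring

/-- conjugation by `A ⊗ 1`, `A` an isometry with `A u = λ u`. -/
theorem Rep.conjA {u : U} {g k : V ≃ₗ[F] V} {Z : Module.End F W} (h1 : Rep t f₁ u g Z)
    (A : U ≃ₗ[F] U) (hA : ∀ x y, f₁ (A x) (A y) = f₁ x y) {l : F} (hAu : A u = l • u)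
    (hk : ∀ x w, k (t x w) = t (A x) w) : Rep t f₁ u (k * g * k⁻¹) ((l * l) • Z) := by
  intro x w
  have hkinv : k⁻¹ (t x w) = t (A.symm x) w := by
    have : k (t (A.symm x) w) = t x w := by rw [hk, LinearEquiv.apply_symm_apply]
    rw [← this, inv_apply_self]
  have e : f₁ (A.symm x) u = l * f₁ x u := by
    have := hA (A.symm x) u
    rw [LinearEquiv.apply_symm_apply, hAu, map_smul, smul_eq_mul] at this
    rw [← this]
  rw [LinearEquiv.mul_apply, LinearEquiv.mul_apply, hkinv, h1, map_add, map_smul, hk, hk,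
    LinearEquiv.apply_symm_apply, hAu, e, LinearMap.smul_apply, map_smul, map_smul,
    LinearMap.smul_apply, smul_smul, smul_smul]
  congr 2
  ring

/-- conjugation by `1 ⊗ C`. -/
theorem Rep.conjC {u : U} {g k : V ≃ₗ[F] V} {Z : Module.End F W} (h1 : Rep t f₁ u g Z)
    (C : W ≃ₗ[F] W) (hk : ∀ x w, k (t x w) = t x (C w)) :
    Rep t f₁ u (k * g * k⁻¹) ((C : W →ₗ[F] W) * Z * (C.symm : W →ₗ[F] W)) := by
  intro x w
  have hkinv : k⁻¹ (t x w) = t x (C.symm w) := by
    have : k (t x (C.symm w)) = t x w := by rw [hk, LinearEquiv.apply_symm_apply]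
    rw [← this, inv_apply_self]
  rw [LinearEquiv.mul_apply, LinearEquiv.mul_apply, hkinv, h1, map_add, map_smul, hk, hk,
    LinearEquiv.apply_symm_apply]
  rfl

end Cfsg.Agent.Helper6.SpO
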