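import Cfsg.Agent.Helper2.SymLQB

set_option autoImplicit false
set_option linter.unusedSectionVars false
set_option linter.unusedVariables false

/-! S5666 piece [LQ], part C (helper2): a non-scalar endomorphism has a nonsingular non-eigenvector
(orthogonal basis argument, `3 ≤ dim W`, char ≠ 2), and the core theorem for `4 ≤ dim W`. -/

namespace Cfsg.Agent.Helper2.SymLQ

open Module Cfsg.Agent.Helper8.Tens

variable {F : Type*} [Field F] {W : Type*} [AddCommGroup W] [Module F W]
  {f : LinearMap.BilinForm F W} {𝒵 : Submodule F (Module.End F W)}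

/-- **Step 0**: a non-scalar endomorphism has a nonsingular vector which is not an eigenvector
(in the division-free form). -/
theorem exists_noneigen [FiniteDimensional F W] (hs : ∀ x y, f x y = f y x)
    (hnd : ∀ x, (∀ y, f x y = 0) → x = 0) (h2 : (2 : F) ≠ 0) (hb : 3 ≤ finrank F W)
    {Z : Module.End F W} (hns : ∀ c : F, Z ≠ c • 1) :
    ∃ y, f y y ≠ 0 ∧ f y y • Z y - f (Z y) y • y ≠ 0 := by
  by_contra hcon
  push Not at hcon
  letI : Invertible (2 : F) := invertibleOfNonzero h2
  obtain ⟨v, hv⟩ := LinearMap.BilinForm.exists_orthogonal_basis (B := f) ⟨hs⟩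
  have hort : ∀ i j, i ≠ j → f (v i) (v j) = 0 := fun i j hij => hv hij
  have hN : ∀ i, f (v i) (v i) ≠ 0 := by
    intro i h0
    have : f (v i) = 0 := by
      apply v.ext
      intro j
      by_cases hij : i = j
      · subst hij; rw [h0]; rfl
      · rw [hort i j hij]; rfl
    exact v.ne_zero i (hnd _ (fun y => by rw [this]; rfl))
  -- eigenvalues
  have heig : ∀ y, f y y ≠ 0 → ∃ c : F, Z y = c • y := by
    intro y hy
    have h1 := sub_eq_zero.mp (hcon y hy)
    refine ⟨(f y y)⁻¹ * f (Z y) y, ?_⟩
    calc Z y = (f y y)⁻¹ • (f y y • Z y) := by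
          rw [smul_smul, inv_mul_cancel₀ hy, one_smul]
      _ = (f y y)⁻¹ • (f (Z y) y • y) := by rw [h1]
      _ = ((f y y)⁻¹ * f (Z y) y) • y := by rw [smul_smul]
  have hμex : ∀ i, ∃ c : F, Z (v i) = c • v i := fun i => heig (v i) (hN i)
  choose μ hZv using hμex
  have hμeq : ∀ i j, i ≠ j → μ i = μ j := by
    intro i j hij
    have hji : j ≠ i := Ne.symm hij
    -- a third index
    have hk : ∃ k, k ≠ i ∧ k ≠ j := by
      by_contra hh
      push Not at hh
      have hsub : (Finset.univ : Finset (Fin (finrank F W))) ⊆ {i, j} := by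
        intro k _
        by_cases hki : k = i
        · simp [hki]
        · simp [hh k hki]
      have h1 := Finset.card_le_card hsub
      have h2' : ({i, j} : Finset (Fin (finrank F W))).card ≤ 2 := Finset.card_le_two
      rw [Finset.card_univ, Fintype.card_fin] at h1
      omega
    obtain ⟨k, hki, hkj⟩ := hk
    have hik : i ≠ k := Ne.symm hki
    have hjk : j ≠ k := Ne.symm hkj
    by_cases hsum : f (v i) (v i) + f (v j) (v j) = 0
    · -- use `v i + v j + v k`
      have hx : f (v i + v j + v k) (v i + v j + v k) ≠ 0 := by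
        simp only [map_add, LinearMap.add_apply, hort i j hij, hort j i hji,
          hort i k hik, hort k i hki, hort j k hjk, hort k j hkj, add_zero,
          zero_add]
        intro h0
        exact hN k (by linear_combination h0 - hsum)
      obtain ⟨c, hc⟩ := heig _ hx
      rw [map_add, map_add, hZv, hZv, hZv] at hc
      have e1 := congrArg (fun y => f y (v i)) hc
      have e2 := congrArg (fun y => f y (v j)) hc
      simp only [map_add, map_smul, LinearMap.add_apply, LinearMap.smul_apply, smul_eq_mul,
        hort j i hji, hort k i hki, hort i j hij, hort k j hkj, mul_zero, add_zero, zero_add]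
        at e1 e2
      rw [mul_right_cancel₀ (hN i) e1, mul_right_cancel₀ (hN j) e2]
    · have hx : f (v i + v j) (v i + v j) ≠ 0 := by
        simp only [map_add, LinearMap.add_apply, hort i j hij, hort j i hji, add_zero,
          zero_add]
        exact hsum
      obtain ⟨c, hc⟩ := heig _ hx
      rw [map_add, hZv, hZv] at hc
      have e1 := congrArg (fun y => f y (v i)) hc
      have e2 := congrArg (fun y => f y (v j)) hc
      simp only [map_add, map_smul, LinearMap.add_apply, LinearMap.smul_apply, smul_eq_mul,
        hort j i hji, hort i j hij, mul_zero, add_zero, zero_add] at e1 e2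
      rw [mul_right_cancel₀ (hN i) e1, mul_right_cancel₀ (hN j) e2]
  -- `Z` is a scalar
  have hpos : 0 < finrank F W := by omega
  set i₀ : Fin (finrank F W) := ⟨0, hpos⟩ with hi₀
  apply hns (μ i₀)
  apply v.ext
  intro i
  rw [hZv i, LinearMap.smul_apply, Module.End.one_apply]
  by_cases hi : i = i₀
  · rw [hi]
  · rw [hμeq i i₀ hi]

/-- **[LQ] core, `4 ≤ dim W`**: a reflection-invariant subspace of `End W` containing a non-scalar
self-adjoint endomorphism contains `P f w w` for a nonzero singular vector `w`. -/
theorem lq_core_four [Finite F] [FiniteDimensional F W] (h : Inv f 𝒵)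
    (hnd : ∀ x, (∀ y, f x y = 0) → x = 0) (hb : 4 ≤ finrank F W) {Z : Module.End F W}
    (hZ : Z ∈ 𝒵) (hself : IsAdj f Z Z) (hns : ∀ c : F, Z ≠ c • 1) :
    ∃ w, w ≠ 0 ∧ f w w = 0 ∧ P f w w ∈ 𝒵 := by
  obtain ⟨y, hy, hy''⟩ := exists_noneigen h.symm hnd h.two (by omega) hns
  have hE := refl_rule h hZ hself hy
  refine exists_P_of_sv h hb hy ?_ hy'' hE
  rw [map_sub, map_smul, map_smul, smul_eq_mul, smul_eq_mul, h.symm y (Z y)]
  ring

end Cfsg.Agent.Helper2.SymLQ
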