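import Cfsg.Agent.Helper2.SpOLQA
import Cfsg.Agent.Helper2.SymLQC

set_option autoImplicit false
set_option linter.unusedSectionVars false
set_option linter.unusedVariables false

/-! S5666 piece [LQ], wrapper part B (helper2): the representations `Z` of the elements of
`X ∩ Q_S` form a subspace of `End W` invariant under the reflections (`Inv`); hence, by the operator
core, a non-scalar `Z` gives a transvection with pure centre in `X`. -/

namespace Cfsg.Agent.Helper6.SpO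

open Module Cfsg.Agent.Helper7.ExtF Cfsg.Agent.Helper8.Tens Cfsg.Agent.Helper3.TensOm
  Cfsg.Agent.Helper2.SymLQ

variable {F : Type*} [Field F] {U W V : Type*} [AddCommGroup U] [Module F U]
  [AddCommGroup W] [Module F W] [AddCommGroup V] [Module F V]
  {t : U →ₗ[F] W →ₗ[F] V} {B : LinearMap.BilinForm F V} {f₁ : LinearMap.BilinForm F U}
  {f₂ : LinearMap.BilinForm F W} {X : Subgroup (V ≃ₗ[F] V)}

/-- the torus element `u ↦ l u`, `us ↦ l⁻¹ us` as a linear map. -/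
def torL (f₁ : LinearMap.BilinForm F U) (u us : U) (l : F) : U →ₗ[F] U :=
  LinearMap.id + (l - 1) • (f₁.flip us).smulRight u + (l⁻¹ - 1) • (f₁ u).smulRight us

theorem torL_apply (u us : U) (l : F) (x : U) :
    torL f₁ u us l x = x + ((l - 1) * f₁ x us) • u + ((l⁻¹ - 1) * f₁ u x) • us := by
  simp [torL, smul_smul]

theorem torL_isom (halt₁ : ∀ u, f₁ u u = 0) {u us : U} (hus : f₁ u us = 1) {l : F} (hl : l ≠ 0)
    (x y : U) : f₁ (torL f₁ u us l x) (torL f₁ u us l y) = f₁ x y := by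
  rw [torL_apply, torL_apply]
  simp only [map_add, map_smul, LinearMap.add_apply, LinearMap.smul_apply, smul_eq_mul, halt₁,
    hus]
  rw [alt_skew f₁ halt₁ x u, alt_skew f₁ halt₁ us y, alt_skew f₁ halt₁ us u, hus]
  field_simp
  ring

theorem torL_u (halt₁ : ∀ u, f₁ u u = 0) {u us : U} (hus : f₁ u us = 1) (l : F) :
    torL f₁ u us l u = l • u := by
  rw [torL_apply, hus, halt₁]
  module

theorem reflL_isom (hs : ∀ w w', f₂ w w' = f₂ w' w) {y : W} (hy : f₂ y y ≠ 0) (w w' : W) :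
    f₂ (reflL f₂ y w) (reflL f₂ y w') = f₂ w w' := by
  rw [reflL_apply, reflL_apply]
  simp only [map_sub, map_smul, LinearMap.sub_apply, LinearMap.smul_apply, smul_eq_mul]
  rw [hs y w']
  field_simp
  ring

theorem reflL_reflL (hs : ∀ w w', f₂ w w' = f₂ w' w) {y : W} (hy : f₂ y y ≠ 0) (w : W) :
    reflL f₂ y (reflL f₂ y w) = w := by
  rw [reflL_apply, reflL_apply]
  simp only [map_sub, map_smul, LinearMap.sub_apply, LinearMap.smul_apply, smul_eq_mul]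
  have e : 2 * (f₂ w y - 2 * f₂ w y / f₂ y y * f₂ y y) / f₂ y y = -(2 * f₂ w y / f₂ y y) := by
    field_simp
    ring
  rw [e]
  module

theorem rq_eq_reflL (y : W) (hy : f₂ y y ≠ 0) :
    rq f₂ y = f₂ y y • (reflL f₂ y : Module.End F W) := by
  apply LinearMap.ext; intro w
  rw [rq_apply, LinearMap.smul_apply, reflL_apply, smul_sub, smul_smul]
  congr 2
  field_simp

variable [FiniteDimensional F U] [FiniteDimensional F W] [FiniteDimensional F V]

/-- the representations of the elements of `X ∩ Q_S`. -/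
def ZX (t : U →ₗ[F] W →ₗ[F] V) (f₁ : LinearMap.BilinForm F U) (X : Subgroup (V ≃ₗ[F] V))
    (u : U) : Set (Module.End F W) := {Z | ∃ g ∈ X, Rep t f₁ u g Z}

theorem zx_sq (h : Hyp t B f₁ f₂ X) {u : U} (hu : u ≠ 0) {Z : Module.End F W}
    (hZ : Z ∈ ZX t f₁ X u) (l : F) : (l * l) • Z ∈ ZX t f₁ X u := by
  by_cases hl : l = 0
  · rw [hl, mul_zero, zero_smul]
    exact ⟨1, X.one_mem, rep_one u⟩
  obtain ⟨us, hus⟩ := exists_pair f₁ h.nd₁ hu
  obtain ⟨g, hg, hrep⟩ := hZ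
  have hinj : Function.Injective (torL f₁ u us l) := by
    rw [injective_iff_map_eq_zero]
    intro x hx
    exact isom_injective f₁ h.nd₁ _ (torL_isom h.alt₁ hus hl) hx
  set A : U ≃ₗ[F] U := LinearEquiv.ofInjectiveEndo _ hinj with hA
  have hAx : ∀ x, A x = torL f₁ u us l x := fun x => by
    rw [hA, LinearEquiv.coe_ofInjectiveEndo]
  obtain ⟨k, hk, hkt⟩ := movSp h A (fun x y => by rw [hAx, hAx, torL_isom h.alt₁ hus hl])
  exact ⟨k * g * k⁻¹, X.mul_mem (X.mul_mem hk hg) (X.inv_mem hk),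
    hrep.conjA A (fun x y => by rw [hAx, hAx, torL_isom h.alt₁ hus hl])
      (by rw [hAx, torL_u h.alt₁ hus]) hkt⟩

/-- the subspace of the representations. -/
def ZS (h : Hyp t B f₁ f₂ X) {u : U} (hu : u ≠ 0) : Submodule F (Module.End F W) where
  carrier := ZX t f₁ X u
  add_mem' := by
    rintro Z Z' ⟨g, hg, hr⟩ ⟨g', hg', hr'⟩
    exact ⟨g * g', X.mul_mem hg hg', hr.mul h.alt₁ hr'⟩
  zero_mem' := ⟨1, X.one_mem, rep_one u⟩
  smul_mem' := by
    intro c Z hZ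
    have h1 := zx_sq h hu hZ ((c + 1) / 2)
    obtain ⟨g₂, hg₂, hr₂⟩ := zx_sq h hu hZ ((c - 1) / 2)
    obtain ⟨g₁, hg₁, hr₁⟩ := h1
    have h3 := hr₁.mul h.alt₁ (hr₂.inv h.alt₁)
    have e : ((c + 1) / 2 * ((c + 1) / 2)) • Z + -(((c - 1) / 2 * ((c - 1) / 2)) • Z) = c • Z := by
      rw [← neg_smul, ← add_smul]
      congr 1
      have := h.two
      field_simp
      ring
    rw [e] at h3
    exact ⟨g₁ * g₂⁻¹, X.mul_mem hg₁ (X.inv_mem hg₂), h3⟩

theorem mem_ZS (h : Hyp t B f₁ f₂ X) {u : U} (hu : u ≠ 0) {Z : Module.End F W} :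
    Z ∈ ZS h hu ↔ ∃ g ∈ X, Rep t f₁ u g Z := Iff.rfl

theorem inv_ZS (h : Hyp t B f₁ f₂ X) {u : U} (hu : u ≠ 0) : Inv f₂ (ZS h hu) := by
  refine ⟨h.symm₂, h.two, fun y hy Z hZ => ?_⟩
  obtain ⟨g, hg, hrep⟩ := hZ
  have hinj : Function.Injective (reflL f₂ y) := by
    intro a b hab
    rw [← reflL_reflL h.symm₂ hy a, hab, reflL_reflL h.symm₂ hy]
  set C : W ≃ₗ[F] W := LinearEquiv.ofInjectiveEndo _ hinj with hC
  have hCx : ∀ x, C x = reflL f₂ y x := fun x => by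
    rw [hC, LinearEquiv.coe_ofInjectiveEndo]
  have hCs : ∀ x, C.symm x = reflL f₂ y x := by
    intro x
    rw [LinearEquiv.symm_apply_eq, hCx, reflL_reflL h.symm₂ hy]
  obtain ⟨k, hk, hkt⟩ := movO h C (fun w w' => by rw [hCx, hCx, reflL_isom h.symm₂ hy])
  have h1 := hrep.conjC C hkt
  have e : rq f₂ y * Z * rq f₂ y
      = (f₂ y y * f₂ y y) • ((C : W →ₗ[F] W) * Z * (C.symm : W →ₗ[F] W)) := by
    have e1 : (C : W →ₗ[F] W) = reflL f₂ y := LinearMap.ext hCx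
    have e2 : (C.symm : W →ₗ[F] W) = reflL f₂ y := LinearMap.ext hCs
    rw [e1, e2, rq_eq_reflL y hy, smul_mul_assoc, mul_smul_comm, smul_mul_assoc, smul_smul]
  rw [e]
  exact (ZS h hu).smul_mem _ ⟨k * g * k⁻¹, X.mul_mem (X.mul_mem hk hg) (X.inv_mem hk), h1⟩

/-- **[LQ]** from the operator core. -/
theorem LQ_of_core (ht : IsTensorProduct t) (h : Hyp t B f₁ f₂ X)
    (hcore : ∀ 𝒵 : Submodule F (Module.End F W), Inv f₂ 𝒵 → ∀ Z ∈ 𝒵, IsAdj f₂ Z Z →
      (∀ c : F, Z ≠ c • 1) → ∃ w, w ≠ 0 ∧ f₂ w w = 0 ∧ P f₂ w w ∈ 𝒵)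
    (hno : ¬ HasPureTv t B h.altB X) {u : U} (hu : u ≠ 0) {g : V ≃ₗ[F] V} (hg : g ∈ X)
    (hQ : InQU ht f₁ u g) : ∃ c : F, g = yA ht f₁ h.alt₁ u c := by
  obtain ⟨Z, hrep, hadj⟩ := exists_rep ht h hu hg hQ
  by_cases hsc : ∃ c : F, Z = c • 1
  · obtain ⟨c, rfl⟩ := hsc
    exact ⟨c, Rep.ext ht hrep (rep_yA ht h.alt₁ u c)⟩
  · push Not at hsc
    exfalso
    obtain ⟨w, hw0, hw, hP⟩ := hcore (ZS h hu) (inv_ZS h hu) Z ⟨g, hg, hrep⟩ hadj hsc
    apply hno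
    refine ⟨u, w, hu, hw0, fun c => ?_⟩
    obtain ⟨g', hg', hrep'⟩ := (ZS h hu).smul_mem c hP
    rw [← Rep.ext ht hrep' (rep_Tv h u w c)]
    exact hg'

/-- **[LQ]**, `4 ≤ dim W`. -/
theorem LQ_four (ht : IsTensorProduct t) (h : Hyp t B f₁ f₂ X) [Finite F]
    (hb : 4 ≤ finrank F W) (hno : ¬ HasPureTv t B h.altB X) {u : U} (hu : u ≠ 0)
    {g : V ≃ₗ[F] V} (hg : g ∈ X) (hQ : InQU ht f₁ u g) : ∃ c : F, g = yA ht f₁ h.alt₁ u c :=
  LQ_of_core ht h (fun 𝒵 hI Z hZ hadj hns => lq_core_four hI h.nd₂ hb hZ hadj hns) hno hu hg hQ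

end Cfsg.Agent.Helper6.SpO
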