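import Cfsg.Agent.Helper2.SpOLQB

set_option autoImplicit false
set_option linter.unusedSectionVars false
set_option linter.unusedVariables false

/-! S5666 piece [LQ], wrapper part C (helper2): helper6's stub `LQ` modulo the operator core in
dimension three. -/

namespace Cfsg.Agent.Helper6.SpO

open Module Cfsg.Agent.Helper7.ExtF Cfsg.Agent.Helper8.Tens Cfsg.Agent.Helper3.TensOm
  Cfsg.Agent.Helper2.SymLQ

theorem five_le_card {F : Type*} [Field F] [Finite F] (h2 : (2 : F) ≠ 0)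
    (h3 : Nat.card F ≠ 3) : 5 ≤ Nat.card F := by
  letI := Fintype.ofFinite F
  rw [Nat.card_eq_fintype_card] at *
  have h1 : 1 < Fintype.card F := Fintype.one_lt_card
  have hc : ((Fintype.card F : ℕ) : F) = 0 := Nat.cast_card_eq_zero F
  by_contra hlt
  push Not at hlt
  have hcases : Fintype.card F = 2 ∨ Fintype.card F = 3 ∨ Fintype.card F = 4 := by omega
  rcases hcases with h | h | h
  · rw [h] at hc
    exact h2 (by exact_mod_cast hc)
  · exact h3 h
  · rw [h] at hc
    have h4 : (2 : F) * 2 = 0 := by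
      have : ((4 : ℕ) : F) = 2 * 2 := by norm_num
      rw [← this]; exact hc
    exact h2 (mul_self_eq_zero.mp h4)

variable {F : Type*} [Field F] {U W V : Type*} [AddCommGroup U] [Module F U]
  [AddCommGroup W] [Module F W] [AddCommGroup V] [Module F V]
  {t : U →ₗ[F] W →ₗ[F] V} {B : LinearMap.BilinForm F V} {f₁ : LinearMap.BilinForm F U}
  {f₂ : LinearMap.BilinForm F W} {X : Subgroup (V ≃ₗ[F] V)}
  [FiniteDimensional F U] [FiniteDimensional F W] [FiniteDimensional F V]

/-- **[LQ]** (helper6's stub) modulo the operator core in dimension three. -/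
theorem LQ_of_three (ht : IsTensorProduct t) (h : Hyp t B f₁ f₂ X) [Finite F]
    (hcore3 : finrank F W = 3 → 5 ≤ Nat.card F → ∀ 𝒵 : Submodule F (Module.End F W),
      Inv f₂ 𝒵 → ∀ Z ∈ 𝒵, IsAdj f₂ Z Z → (∀ c : F, Z ≠ c • 1) →
      ∃ w, w ≠ 0 ∧ f₂ w w = 0 ∧ P f₂ w w ∈ 𝒵)
    (hb : 3 ≤ finrank F W) (hex : ¬ (Nat.card F = 3 ∧ finrank F W = 3))
    (hno : ¬ HasPureTv t B h.altB X) {u : U} (hu : u ≠ 0) {g : V ≃ₗ[F] V} (hg : g ∈ X)
    (hQ : InQU ht f₁ u g) : ∃ c : F, g = yA ht f₁ h.alt₁ u c := by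
  by_cases h4 : 4 ≤ finrank F W
  · exact LQ_four ht h h4 hno hu hg hQ
  · have h3 : finrank F W = 3 := by omega
    have hq : 5 ≤ Nat.card F := five_le_card h.two (fun hc => hex ⟨hc, h3⟩)
    exact LQ_of_core ht h (hcore3 h3 hq) hno hu hg hQ

end Cfsg.Agent.Helper6.SpO
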