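import Cfsg.Agent.Helper2.SpOLQC
import Cfsg.Agent.Lead.SymLQ3

set_option autoImplicit false
set_option linter.unusedSectionVars false
set_option linter.unusedVariables false

/-! S5666 piece [LQ] (helper2): helper6's stub `LQ`, complete (`X ∩ Q_S = E_u`). -/

namespace Cfsg.Agent.Helper6.SpO

open Module Cfsg.Agent.Helper7.ExtF Cfsg.Agent.Helper8.Tens Cfsg.Agent.Helper3.TensOm
  Cfsg.Agent.Helper2.SymLQ

variable {F : Type*} [Field F] {U W V : Type*} [AddCommGroup U] [Module F U]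
  [AddCommGroup W] [Module F W] [AddCommGroup V] [Module F V]
  {t : U →ₗ[F] W →ₗ[F] V} {B : LinearMap.BilinForm F V} {f₁ : LinearMap.BilinForm F U}
  {f₂ : LinearMap.BilinForm F W} {X : Subgroup (V ≃ₗ[F] V)}
  [FiniteDimensional F U] [FiniteDimensional F W] [FiniteDimensional F V]

/-- **[LQ]** (helper6's stub): an element of `X` fixing `S_u^⊥ = u^⊥ ⊗ W` pointwise is a root
element `yA u c`, unless `X` contains a transvection with pure centre. -/
theorem LQ (ht : IsTensorProduct t) (h : Hyp t B f₁ f₂ X) [Finite F] (ha : 2 ≤ finrank F U)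
    (hb : 3 ≤ finrank F W) (hex : ¬ (Nat.card F = 3 ∧ finrank F W = 3))
    (hno : ¬ HasPureTv t B h.altB X) {u : U} (hu : u ≠ 0) {g : V ≃ₗ[F] V} (hg : g ∈ X)
    (hQ : InQU ht f₁ u g) : ∃ c : F, g = yA ht f₁ h.alt₁ u c :=
  LQ_of_three ht h
    (fun h3 hq 𝒵 hI Z hZ ha' hn => lq_core_three hI h.nd₂ h3 hq hZ ha' hn) hb hex hno hu hg hQ

end Cfsg.Agent.Helper6.SpO
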