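import Cfsg.Agent.Helper8.QuadForm

set_option autoImplicit false
set_option linter.unusedSectionVars false
set_option linter.unusedVariables false

/-! S5666, case `dim U = 2` (helper4's direct route), step (S4) (helper2): singular vectors in
subspaces of dimension at least three, and a singular vector perpendicular to a small subspace
`W'` and (if `dim W' ≤ 2`) outside it. -/

namespace Cfsg.Agent.Helper2.SpOSing

open Module

variable {F : Type*} [Field F] {W : Type*} [AddCommGroup W] [Module F W]

/-- every subspace of dimension at least three over a finite field has a nonzero singular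
vector (Chevalley–Warning, via helper8's `exists_singular`). -/
theorem exists_sing_of_three_le [Finite F] [FiniteDimensional F W]
    (f₂ : LinearMap.BilinForm F W) (T : Submodule F W) (hT : 3 ≤ finrank F T) :
    ∃ z ∈ T, z ≠ 0 ∧ f₂ z z = 0 := by
  obtain ⟨v, hv0, hv⟩ := Cfsg.Agent.Helper8.QuadForm.exists_singular
    ((LinearMap.BilinMap.toQuadraticMap f₂).comp T.subtype) hT
  rw [QuadraticMap.comp_apply, LinearMap.BilinMap.toQuadraticMap_apply] at hv
  exact ⟨v.1, v.2, fun h0 => hv0 (Subtype.ext h0), hv⟩

/-- the left perpendicular space of a subspace. -/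
def perpL (f₂ : LinearMap.BilinForm F W) (W' : Submodule F W) : Submodule F W :=
  LinearMap.ker ((LinearMap.lcomp F F W'.subtype).comp f₂)

theorem mem_perpL (f₂ : LinearMap.BilinForm F W) (W' : Submodule F W) (z : W) :
    z ∈ perpL f₂ W' ↔ ∀ w ∈ W', f₂ z w = 0 := by
  unfold perpL
  rw [LinearMap.mem_ker]
  constructor
  · intro h w hw
    have h1 := congrArg (fun l : W' →ₗ[F] F => l ⟨w, hw⟩) h
    exact h1
  · intro h
    ext w
    exact h w.1 w.2

theorem finrank_perpL_ge [FiniteDimensional F W] (f₂ : LinearMap.BilinForm F W)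
    (W' : Submodule F W) : finrank F W ≤ finrank F (perpL f₂ W') + finrank F W' := by
  have h1 := LinearMap.finrank_range_add_finrank_ker ((LinearMap.lcomp F F W'.subtype).comp f₂)
  have h2 : finrank F (LinearMap.range ((LinearMap.lcomp F F W'.subtype).comp f₂))
      ≤ finrank F W' := by
    have h3 := Submodule.finrank_le
      (LinearMap.range ((LinearMap.lcomp F F W'.subtype).comp f₂))
    have h4 : finrank F (W' →ₗ[F] F) = finrank F W' := Subspace.dual_finrank_eq
    omega
  unfold perpL
  omega

/-- **(S4)**: a nonzero singular vector perpendicular to `W'` (`dim W' ≤ 4 ≤ dim W - 3`), lying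
outside `W'` when `dim W' ≤ 2`. -/
theorem exists_sing_perp [Finite F] [FiniteDimensional F W] (f₂ : LinearMap.BilinForm F W)
    (W' : Submodule F W) (hW' : finrank F W' ≤ 4) (hb : 7 ≤ finrank F W) :
    ∃ z : W, z ≠ 0 ∧ f₂ z z = 0 ∧ (∀ w ∈ W', f₂ z w = 0) ∧ (z ∉ W' ∨ 3 ≤ finrank F W') := by
  have hN := finrank_perpL_ge f₂ W'
  by_cases h3 : 3 ≤ finrank F W'
  · obtain ⟨z, hzN, hz0, hz⟩ := exists_sing_of_three_le f₂ (perpL f₂ W') (by omega)
    exact ⟨z, hz0, hz, (mem_perpL f₂ W' z).mp hzN, Or.inr h3⟩
  · set S := perpL f₂ W' with hS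
    set A : Submodule F S := W'.comap S.subtype with hA
    obtain ⟨C, hC⟩ := Submodule.exists_isCompl A
    have h1 : finrank F A + finrank F C = finrank F S := Submodule.finrank_add_eq_of_isCompl hC
    have h2 : finrank F A ≤ finrank F W' := by
      apply LinearMap.finrank_le_finrank_of_injective
        (f := (S.subtype.comp A.subtype).codRestrict W' (fun x => x.2))
      intro x y hxy
      have h := congrArg (fun u : W' => (u : W)) hxy
      exact Subtype.ext (Subtype.ext h)
    have h4 : 3 ≤ finrank F C := by omega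
    obtain ⟨u, hu0, hu⟩ := Cfsg.Agent.Helper8.QuadForm.exists_singular
      (((LinearMap.BilinMap.toQuadraticMap f₂).comp S.subtype).comp C.subtype) h4
    rw [QuadraticMap.comp_apply, QuadraticMap.comp_apply,
      LinearMap.BilinMap.toQuadraticMap_apply] at hu
    refine ⟨((u : S) : W), fun h0 => hu0 ?_, hu, (mem_perpL f₂ W' _).mp (u : S).2,
      Or.inl fun hU => hu0 ?_⟩
    · exact Subtype.ext (Subtype.ext h0)
    · have h5 : (u : S) ∈ A := hU
      have h6 : (u : S) ∈ A ⊓ C := ⟨h5, u.2⟩
      rw [hC.inf_eq_bot, Submodule.mem_bot] at h6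
      exact Subtype.ext h6

end Cfsg.Agent.Helper2.SpOSing
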