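import Cfsg.Agent.Helper6.SpOA

set_option autoImplicit false
set_option linter.unusedSectionVars false
set_option linter.unusedVariables false

/-! S5666 piece [A2], sub-lemma (a) (helper2, stub of helper3): a skew-adjoint `K` with `K² = κ`
such that `K r K r + r K r K` is scalar for every reflection `r` vanishes (`dim W ≥ 3`). -/

namespace Cfsg.Agent.Helper6.SpO

open Module

theorem skew_eq_zero {F : Type*} [Field F] {W : Type*} [AddCommGroup W] [Module F W]
    [FiniteDimensional F W]
    (f₂ : LinearMap.BilinForm F W) (symm₂ : ∀ w w', f₂ w w' = f₂ w' w)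
    (nd₂ : ∀ w, (∀ y, f₂ w y = 0) → w = 0)
    (h2 : (2 : F) ≠ 0) (hb : 3 ≤ Module.finrank F W) (K : Module.End F W)
    (hK : ∀ x y, f₂ (K x) y = - f₂ x (K y)) (κ : F) (hK2 : K * K = κ • 1)
    (hr : ∀ y, f₂ y y ≠ 0 → ∃ c : F, K * reflL f₂ y * K * reflL f₂ y
      + reflL f₂ y * K * reflL f₂ y * K = c • 1) :
    K = 0 := by
  have h4 : (4 : F) ≠ 0 := by
    have : (4 : F) = 2 * 2 := by norm_num
    rw [this]
    exact mul_ne_zero h2 h2
  have hKy : ∀ y, f₂ (K y) y = 0 := by
    intro y
    have h1 := hK y y
    rw [symm₂ y (K y)] at h1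
    have h3 : (2 : F) * f₂ (K y) y = 0 := by linear_combination h1
    rcases mul_eq_zero.mp h3 with h | h
    · exact absurd h h2
    · exact h
  have hKK : ∀ x, K (K x) = κ • x := by
    intro x
    have h1 := congrArg (fun T : Module.End F W => T x) hK2
    simpa using h1
  -- key: `K y = 0` for nonsingular `y`
  have key : ∀ y, f₂ y y ≠ 0 → K y = 0 := by
    intro y hy
    obtain ⟨c, hc⟩ := hr y hy
    have hy0 : y ≠ 0 := by
      rintro rfl
      exact hy (by simp)
    have e1 : ∀ x, reflL f₂ y (K (reflL f₂ y x))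
        = K x - (2 * f₂ x y / f₂ y y) • K y + (2 * f₂ x (K y) / f₂ y y) • y := by
      intro x
      rw [reflL_apply f₂ y x, map_sub, map_smul, reflL_apply, map_sub, LinearMap.sub_apply,
        map_smul, LinearMap.smul_apply, smul_eq_mul, hKy y, hK x y]
      module
    have e3 : ∀ x, (c - 2 * κ) • x
        = (4 * f₂ x (K y) / f₂ y y) • K y - (4 * κ * f₂ x y / f₂ y y) • y := by
      intro x
      have h1 : (K * reflL f₂ y * K * reflL f₂ y + reflL f₂ y * K * reflL f₂ y * K) x
          = c • x := by
        rw [hc]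
        simp
      have h5 : (K * reflL f₂ y * K * reflL f₂ y + reflL f₂ y * K * reflL f₂ y * K) x
          = K (reflL f₂ y (K (reflL f₂ y x))) + reflL f₂ y (K (reflL f₂ y (K x))) := rfl
      have h6 : f₂ (K x) (K y) = - (κ * f₂ x y) := by
        rw [hK x (K y), hKK, map_smul, smul_eq_mul]
      rw [h5, e1 x, e1 (K x), map_add, map_sub, map_smul, map_smul, hKK, hKK, hK x y, h6] at h1
      rw [sub_smul, ← h1]
      module
    -- a nonzero vector perpendicular to `y` and `K y`
    obtain ⟨s, hs0, hs1, hs2⟩ : ∃ s : W, s ≠ 0 ∧ f₂ s y = 0 ∧ f₂ s (K y) = 0 := by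
      set φ : W →ₗ[F] F × F := (f₂.flip y).prod (f₂.flip (K y)) with hφ
      have hlt : finrank F (F × F) < finrank F W := by
        simp only [Module.finrank_prod, Module.finrank_self]
        omega
      have hker := LinearMap.ker_ne_bot_of_finrank_lt hlt (f := φ)
      obtain ⟨y₀, hy₀, hne⟩ := Submodule.exists_mem_ne_zero_of_ne_bot hker
      have h0 : φ y₀ = 0 := LinearMap.mem_ker.mp hy₀
      rw [hφ, LinearMap.prod_apply] at h0
      have h1 := Prod.mk_eq_zero.mp h0
      exact ⟨y₀, hne, h1.1, h1.2⟩
    have hc2 : c - 2 * κ = 0 := by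
      have h1 := e3 s
      rw [hs1, hs2] at h1
      simp only [mul_zero, zero_div, zero_smul, sub_zero] at h1
      rcases smul_eq_zero.mp h1 with h | h
      · exact h
      · exact absurd h hs0
    have e4 : ∀ x, (4 * f₂ x (K y) / f₂ y y) • K y = (4 * κ * f₂ x y / f₂ y y) • y := by
      intro x
      have h1 := e3 x
      rw [hc2, zero_smul] at h1
      exact (sub_eq_zero.mp h1.symm)
    have hκ : κ = 0 := by
      have h1 := e4 y
      rw [symm₂ y (K y), hKy y] at h1
      simp only [mul_zero, zero_div, zero_smul] at h1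
      rcases smul_eq_zero.mp h1.symm with h | h
      · have h7 : 4 * κ * f₂ y y / f₂ y y = 4 * κ := by
          field_simp
        rw [h7] at h
        rcases mul_eq_zero.mp h with h' | h'
        · exact absurd h' h4
        · exact h'
      · exact absurd h hy0
    by_contra hne
    have hex : ∃ x, f₂ (K y) x ≠ 0 := by
      by_contra hcon
      push Not at hcon
      exact hne (nd₂ _ hcon)
    obtain ⟨x, hx⟩ := hex
    have h1 := e4 x
    rw [hκ] at h1
    simp only [mul_zero, zero_mul, zero_div, zero_smul] at h1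
    rcases smul_eq_zero.mp h1 with h | h
    · rw [symm₂ x (K y)] at h
      have h8 : 4 * f₂ (K y) x / f₂ y y ≠ 0 := div_ne_zero (mul_ne_zero h4 hx) hy
      exact h8 h
    · exact hne h
  -- a nonsingular vector exists
  obtain ⟨z, hz⟩ : ∃ z, f₂ z z ≠ 0 := by
    have hpos : 0 < finrank F W := by omega
    obtain ⟨w₀, hw₀⟩ := (Module.finrank_pos_iff_exists_ne_zero (R := F) (M := W)).mp hpos
    have hex : ∃ x, f₂ w₀ x ≠ 0 := by
      by_contra hcon
      push Not at hcon
      exact hw₀ (nd₂ _ hcon)
    obtain ⟨x, hx⟩ := hex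
    by_contra hcon
    push Not at hcon
    have h1 := hcon (w₀ + x)
    simp only [map_add, LinearMap.add_apply] at h1
    rw [hcon w₀, hcon x, symm₂ x w₀] at h1
    have h3 : (2 : F) * f₂ w₀ x = 0 := by linear_combination h1
    rcases mul_eq_zero.mp h3 with h | h
    · exact h2 h
    · exact hx h
  have hKz : K z = 0 := key z hz
  ext w
  rw [LinearMap.zero_apply]
  by_cases hw : f₂ w w = 0
  · by_cases hp : f₂ (w + z) (w + z) = 0
    · have hm : f₂ (w - z) (w - z) ≠ 0 := by
        intro hm
        simp only [map_add, LinearMap.add_apply] at hp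
        simp only [map_sub, LinearMap.sub_apply] at hm
        rw [hw, symm₂ z w] at hp
        rw [hw, symm₂ z w] at hm
        have h3 : (2 : F) * f₂ z z = 0 := by linear_combination hp + hm
        rcases mul_eq_zero.mp h3 with h | h
        · exact h2 h
        · exact hz h
      have h1 := key _ hm
      rw [map_sub, hKz, sub_zero] at h1
      exact h1
    · have h1 := key _ hp
      rw [map_add, hKz, add_zero] at h1
      exact h1
  · exact key w hw

end Cfsg.Agent.Helper6.SpO
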