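import Mathlib
import Cfsg.Agent.Helper2.Layer
import Cfsg.Agent.Helper2.Conj

/-!
Helper lemmas (helper2): components of subgroups under conjugation; two components of a subgroup
are equal or commute (statements inside the ambient group).
-/

set_option autoImplicit false

namespace Cfsg.Agent.Helper2

section general
variable {G : Type*} [Group G]

theorem cj_centralizer_singleton (g y : G) :
    cj g (Subgroup.centralizer ({y} : Set G)) = Subgroup.centralizer ({g * y * g⁻¹} : Set G) := by
  ext x
  rw [mem_cj_iff, Subgroup.mem_centralizer_singleton_iff, Subgroup.mem_centralizer_singleton_iff]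
  constructor
  · intro h
    calc x * (g * y * g⁻¹) = g * ((g⁻¹ * x * g) * y) * g⁻¹ := by group
      _ = g * (y * (g⁻¹ * x * g)) * g⁻¹ := by rw [h]
      _ = g * y * g⁻¹ * x := by group
  · intro h
    calc g⁻¹ * x * g * y = g⁻¹ * (x * (g * y * g⁻¹)) * g := by group
      _ = g⁻¹ * ((g * y * g⁻¹) * x) * g := by rw [h]
      _ = y * (g⁻¹ * x * g) := by group

theorem isComponent_subgroupOf_cj {L H : Subgroup G} (g : G)
    (h : Cfsg.IsComponent (L.subgroupOf H)) : Cfsg.IsComponent ((cj g L).subgroupOf (cj g H)) := by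
  let e : ↥H ≃* ↥(cj g H) :=
    H.equivMapOfInjective (MulAut.conj g).toMonoidHom (MulAut.conj g).injective
  have h1 := isComponent_map_equiv e h
  have h2 : (L.subgroupOf H).map e.toMonoidHom = (cj g L).subgroupOf (cj g H) := by
    ext ⟨y, hy⟩
    rw [Subgroup.mem_subgroupOf]
    constructor
    · rintro ⟨x, hx, hxy⟩
      have hxy' : g * (x : G) * g⁻¹ = y := congrArg Subtype.val hxy
      change y ∈ cj g L
      rw [← hxy']
      exact conj_mem_cj L g _ (Subgroup.mem_subgroupOf.mp hx)
    · rintro ⟨l, hl, hly⟩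
      have hly' : g * l * g⁻¹ = y := hly
      obtain ⟨h', hh', hhy⟩ := hy
      have hhy' : g * h' * g⁻¹ = y := hhy
      have hlh : l = h' := by
        have := hly'.trans hhy'.symm
        simpa using this
      refine ⟨⟨l, hlh ▸ hh'⟩, Subgroup.mem_subgroupOf.mpr hl, ?_⟩
      apply Subtype.ext
      exact hly'
  rwa [h2] at h1

/-- Two components of a subgroup `H` are equal or commute. -/
theorem eq_or_commutator_eq_bot_of_isComponent_subgroupOf {L L' H : Subgroup G} (hL : L ≤ H)
    (hL' : L' ≤ H) (h : Cfsg.IsComponent (L.subgroupOf H))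
    (h' : Cfsg.IsComponent (L'.subgroupOf H)) : L = L' ∨ ⁅L, L'⁆ = ⊥ := by
  by_cases heq : L.subgroupOf H = L'.subgroupOf H
  · left
    have h1 := congrArg (Subgroup.map H.subtype) heq
    rwa [Subgroup.subgroupOf_map_subtype, Subgroup.subgroupOf_map_subtype, inf_of_le_left hL,
      inf_of_le_left hL'] at h1
  · right
    have h1 := components_commute h h' heq
    rw [Subgroup.commutator_eq_bot_iff_le_centralizer] at h1 ⊢
    intro x hx
    rw [Subgroup.mem_centralizer_iff]
    intro y hy
    have h2 := h1 (show (⟨x, hL hx⟩ : ↥H) ∈ L.subgroupOf H from Subgroup.mem_subgroupOf.mpr hx)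
    rw [Subgroup.mem_centralizer_iff] at h2
    have h3 := h2 ⟨y, hL' hy⟩ (Subgroup.mem_subgroupOf.mpr hy)
    exact congrArg Subtype.val h3

end general

end Cfsg.Agent.Helper2
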