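import Mathlib
import Cfsg.Agent.Helper2.Syl21D

set_option autoImplicit false
set_option maxHeartbeats 800000

namespace Cfsg.Agent.Helper2.Syl21

open MulAction

/-- The case where a Sylow 2-subgroup `T ≤ N_G(P)` contains an involution centralizing `P`
which is fused in `T` to another element: contradiction via Thompson's transfer lemma. -/
theorem false_of_involution {G : Type*} [Group G] [Finite G] [Fact (Nat.Prime 5)]
    (h21 : Nat.card (Sylow 5 G) = 21)
    (hno2 : ∀ H : Subgroup G, H.index ≠ 2)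
    (P : Sylow 5 G) (hP5 : Nat.card (P : Subgroup G) = 5)
    (hfix2 : ∀ x ∈ Subgroup.centralizer ((P : Subgroup G) : Set G), orderOf x = 2 →
      ∀ Q : Sylow 5 G, x • Q = Q → Q = P)
    (T : Sylow 2 G) (hTN : (T : Subgroup G) ≤ Subgroup.normalizer ((P : Subgroup G) : Set G))
    (hTC : ¬ (T : Subgroup G) ≤ Subgroup.centralizer ((P : Subgroup G) : Set G))
    (x : G) (hxT : x ∈ T) (hxC : x ∈ Subgroup.centralizer ((P : Subgroup G) : Set G))
    (hx2 : orderOf x = 2)
    (hZ : ∃ g : G, g * x * g⁻¹ ∈ (T : Subgroup G) ∧ g * x * g⁻¹ ≠ x) : False := by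
  classical
  haveI : Fact (Nat.Prime 2) := ⟨Nat.prime_two⟩
  have hsemi : ∀ t : G, t ∈ T → t ∈ Subgroup.centralizer ((P : Subgroup G) : Set G) → t ≠ 1 →
      ∀ Q : Sylow 5 G, t • Q = Q → Q = P :=
    fun t htT htC ht1 Q hQ => eq_of_two_element_fixes P hfix2 T t htT htC ht1 Q hQ
  have hTfix : ∀ t : G, t ∈ T → t • P = P :=
    fun t ht => Sylow.smul_eq_iff_mem_normalizer.2 (hTN ht)
  obtain ⟨g, hyT, hyx⟩ := hZ
  have hgN : g ∈ Subgroup.normalizer ((P : Subgroup G) : Set G) := by
    have h1 : (g * x * g⁻¹) • P = P := hTfix _ hyT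
    have h2 : x • (g⁻¹ • P) = g⁻¹ • P := by
      rw [mul_smul, mul_smul] at h1
      have := congrArg (fun R => g⁻¹ • R) h1
      simpa using this
    have h3 := hfix2 x hxC hx2 _ h2
    have h4 : g⁻¹ ∈ Subgroup.normalizer ((P : Subgroup G) : Set G) :=
      Sylow.smul_eq_iff_mem_normalizer.1 h3
    have := Subgroup.inv_mem _ h4
    simpa using this
  have hyC : g * x * g⁻¹ ∈ Subgroup.centralizer ((P : Subgroup G) : Set G) :=
    conj_mem_centralizer_of_mem_normalizer _ g x hgN hxC
  have hcyc : IsCyclic (P : Subgroup G) := isCyclic_of_prime_card hP5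
  haveI : IsCyclic (MulAut (P : Subgroup G)) := by
    haveI : Fact (Nat.card (P : Subgroup G)).Prime := ⟨by rw [hP5]; norm_num⟩
    haveI : IsCyclic (P : Subgroup G) := hcyc
    exact isCyclic_of_injective (IsCyclic.mulAutMulEquiv (P : Subgroup G)).toMonoidHom
      (IsCyclic.mulAutMulEquiv (P : Subgroup G)).injective
  have hA : Nat.card (MulAut (P : Subgroup G)) = 4 := by
    rw [hcyc.card_mulAut, hP5, Nat.totient_prime (by norm_num : Nat.Prime 5)]
  obtain ⟨ρ, hρ⟩ : ∃ ρ : ↥(T : Subgroup G) →* MulAut (P : Subgroup G),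
      ρ = ((P : Subgroup G).normalizerMonoidHom).comp (Subgroup.inclusion hTN) := ⟨_, rfl⟩
  have hρ1 : ∀ t : ↥(T : Subgroup G), ρ t = 1 ↔
      (t : G) ∈ Subgroup.centralizer ((P : Subgroup G) : Set G) := by
    intro t
    rw [hρ, MonoidHom.comp_apply, ← MonoidHom.mem_ker, Subgroup.normalizerMonoidHom_ker,
      Subgroup.mem_subgroupOf]
    rfl
  have hρne : ∃ t, ρ t ≠ 1 := by
    by_contra hall
    push Not at hall
    apply hTC
    intro t ht
    exact (hρ1 ⟨t, ht⟩).1 (hall ⟨t, ht⟩)
  obtain ⟨e, n, ψ, hen, hψ, hψ2, hψne⟩ := exists_pow_hom hA ρ hρne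
  have he_pos : 0 < e := by rcases hen with ⟨rfl, _⟩ | ⟨rfl, _⟩ <;> norm_num
  have hen' : e = 2 ^ (n - 1) ∧ 1 ≤ n ∧ 2 * e = 2 ^ n := by
    rcases hen with ⟨rfl, rfl⟩ | ⟨rfl, rfl⟩ <;> norm_num
  obtain ⟨M, hM⟩ : ∃ M : Subgroup G, M = ψ.ker.map (T : Subgroup G).subtype := ⟨_, rfl⟩
  have hmemM : ∀ t : G, t ∈ M ↔ ∃ ht : t ∈ (T : Subgroup G), ψ ⟨t, ht⟩ = 1 := by
    intro t
    rw [hM, Subgroup.mem_map]
    constructor
    · rintro ⟨t', ht', rfl⟩
      exact ⟨t'.2, ht'⟩
    · rintro ⟨ht, h⟩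
      exact ⟨⟨t, ht⟩, h, rfl⟩
  have hMrel : M.relIndex (T : Subgroup G) = 2 := by
    rw [Subgroup.relIndex, hM]
    have : (ψ.ker.map (T : Subgroup G).subtype).subgroupOf (T : Subgroup G) = ψ.ker :=
      Subgroup.comap_map_eq_self_of_injective (Subgroup.subtype_injective _) _
    rw [this, Subgroup.index_ker]
    exact card_range_eq_two ψ hψ2 hψne
  have hord : ∀ y ∈ (T : Subgroup G), y ∉ M → 2 ^ (n - 1) < orderOf y := by
    intro y hy hyM
    rw [← hen'.1]
    by_contra hle
    push Not at hle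
    apply hyM
    rw [hmemM]
    refine ⟨hy, ?_⟩
    rw [hψ, ← map_pow]
    have hdvd : orderOf y ∣ e := by
      have hpos := orderOf_pos y
      rcases hen with ⟨rfl, _⟩ | ⟨rfl, _⟩
      · have : orderOf y = 1 := by omega
        rw [this]
      · have : orderOf y = 1 ∨ orderOf y = 2 := by omega
        rcases this with h | h <;> rw [h] <;> norm_num
    have : (⟨y, hy⟩ : ↥(T : Subgroup G)) ^ e = 1 := by
      apply Subtype.ext
      rw [Subgroup.coe_pow]
      exact orderOf_dvd_iff_pow_eq_one.1 hdvd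
    rw [this, map_one]
  have hpowM : ∀ v ∈ M, v ^ e ∈ Subgroup.centralizer ((P : Subgroup G) : Set G) := by
    intro v hv
    obtain ⟨hvT, h⟩ := (hmemM v).1 hv
    rw [hψ, ← map_pow] at h
    have := (hρ1 _).1 h
    simpa using this
  have hpowT : ∀ u (hu : u ∈ (T : Subgroup G)),
      u ^ (2 * e) ∈ Subgroup.centralizer ((P : Subgroup G) : Set G) := by
    intro u hu
    have h := hψ2 ⟨u, hu⟩
    rw [hψ, ← pow_mul, ← map_pow] at h
    have := (hρ1 _).1 h
    rw [mul_comm]
    simpa using this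
  have hMT : M ≤ (T : Subgroup G) := by
    intro v hv
    exact ((hmemM v).1 hv).1
  have hexists : ∃ β : Sylow 5 G, β ≠ P ∧ ∃ u ∈ (T : Subgroup G), u • β = β ∧ u ∉ M := by
    by_contra hcon
    push Not at hcon
    have hmod := card_modEq_one_of_orbit_dvd (H := ↥(T : Subgroup G)) (Ω := Sylow 5 G) 8 P
      (fun t => by rw [Subgroup.smul_def]; exact hTfix t t.2) ?_
    · rw [h21] at hmod
      exact absurd hmod (by decide)
    intro β hβ
    rw [← MulAction.index_stabilizer]
    obtain ⟨D, hD⟩ : ∃ D : Subgroup ↥(T : Subgroup G),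
        D = stabilizer ↥(T : Subgroup G) β := ⟨_, rfl⟩
    rw [← hD]
    have hDmem : ∀ d : ↥(T : Subgroup G), d ∈ D ↔ (d : G) • β = β := by
      intro d
      rw [hD, mem_stabilizer_iff, Subgroup.smul_def]
    have hDe : ∀ d : D, ρ d.1 ^ e = 1 := by
      intro d
      have h1 : ((d.1 : ↥(T : Subgroup G)) : G) ∈ M :=
        hcon β hβ _ d.1.2 ((hDmem d.1).1 d.2)
      obtain ⟨ht, h2⟩ := (hmemM _).1 h1
      rw [hψ] at h2
      exact h2
    have hDcard : Nat.card D ≤ e := by
      refine le_trans ?_ (card_pow_eq_one_le' (A := MulAut (P : Subgroup G)) e he_pos)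
      apply Nat.card_le_card_of_injective
        (fun d : D => (⟨ρ d.1, hDe d⟩ : {a : MulAut (P : Subgroup G) // a ^ e = 1}))
      intro d d' hdd
      have h1 : ρ d.1 = ρ d'.1 :=
        congrArg (fun z : {a : MulAut (P : Subgroup G) // a ^ e = 1} => z.1) hdd
      have h2 : ρ (d.1⁻¹ * d'.1) = 1 := by
        rw [map_mul, map_inv, h1, inv_mul_cancel]
      have h3 := (hρ1 _).1 h2
      have h4 : d.1⁻¹ * d'.1 ∈ D := D.mul_mem (D.inv_mem d.2) d'.2
      have h5 : ((d.1⁻¹ * d'.1 : ↥(T : Subgroup G)) : G) = 1 := by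
        by_contra hne
        exact hβ (hsemi _ (d.1⁻¹ * d'.1).2 h3 hne β ((hDmem _).1 h4))
      have h6 : d.1⁻¹ * d'.1 = 1 := Subtype.ext h5
      apply Subtype.ext
      exact inv_mul_eq_one.1 h6
    -- the order of `T`
    have hTcard : Nat.card ρ.ker * Nat.card ρ.range = Nat.card ↥(T : Subgroup G) := by
      rw [← Subgroup.index_ker]
      exact ρ.ker.card_mul_index
    have h4ker : 4 ∣ Nat.card ρ.ker := by
      have hpg : IsPGroup 2 ρ.ker := T.isPGroup'.to_subgroup ρ.ker
      obtain ⟨j, hj⟩ := IsPGroup.iff_card.1 hpg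
      have h3 : 3 ≤ Nat.card ρ.ker := by
        have hsub : ({1, ⟨x, hxT⟩, ⟨g * x * g⁻¹, hyT⟩} : Set ↥(T : Subgroup G)) ⊆
            (ρ.ker : Set ↥(T : Subgroup G)) := by
          intro z hz
          rcases hz with rfl | rfl | rfl
          · exact ρ.ker.one_mem
          · exact (hρ1 _).2 hxC
          · exact (hρ1 _).2 hyC
        have hx1 : x ≠ 1 := by
          intro h
          rw [h, orderOf_one] at hx2
          omega
        have h3' : ({1, ⟨x, hxT⟩, ⟨g * x * g⁻¹, hyT⟩} : Set ↥(T : Subgroup G)).ncard = 3 := by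
          rw [Set.ncard_eq_three]
          refine ⟨1, ⟨x, hxT⟩, ⟨g * x * g⁻¹, hyT⟩, ?_, ?_, ?_, rfl⟩
          · intro h
            exact hx1 (congrArg Subtype.val h).symm
          · intro h
            have h' : g * x * g⁻¹ = 1 := (congrArg Subtype.val h).symm
            apply hx1
            have : x = g⁻¹ * (g * x * g⁻¹) * g := by group
            rw [this, h']
            group
          · intro h
            exact hyx (congrArg Subtype.val h).symm
        have := Set.ncard_le_ncard hsub (Set.toFinite _)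
        rw [h3'] at this
        rw [← Nat.card_coe_set_eq] at this
        exact this
      rw [hj] at h3 ⊢
      have hj2 : 2 ≤ j := by
        by_contra hlt
        have : j = 0 ∨ j = 1 := by omega
        rcases this with rfl | rfl <;> norm_num at h3
      exact pow_dvd_pow 2 hj2
    have h2erange : 2 * e ∣ Nat.card ρ.range := by
      obtain ⟨t₁, ht₁⟩ := hψne
      rw [hψ] at ht₁
      have ho4 : orderOf (ρ t₁) ∣ 4 := by
        apply orderOf_dvd_of_pow_eq_one
        rw [← hA]
        exact pow_card_eq_one'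
      have hoe : ¬ orderOf (ρ t₁) ∣ e := by
        intro h
        exact ht₁ (orderOf_dvd_iff_pow_eq_one.1 h)
      have horange : orderOf (ρ t₁) ∣ Nat.card ρ.range := by
        have h := orderOf_dvd_natCard (⟨ρ t₁, ⟨t₁, rfl⟩⟩ : ρ.range)
        have h' : orderOf (⟨ρ t₁, ⟨t₁, rfl⟩⟩ : ρ.range) = orderOf (ρ t₁) :=
          Subgroup.orderOf_mk _ _
        rw [h'] at h
        exact h
      have h124 : orderOf (ρ t₁) = 1 ∨ orderOf (ρ t₁) = 2 ∨ orderOf (ρ t₁) = 4 := by
        have h4' : orderOf (ρ t₁) ∣ 2 ^ 2 := by norm_num; exact ho4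
        obtain ⟨k, hk, hk'⟩ := (Nat.dvd_prime_pow Nat.prime_two).1 h4'
        have : k = 0 ∨ k = 1 ∨ k = 2 := by omega
        rcases this with rfl | rfl | rfl
        · left; rw [hk']; norm_num
        · right; left; rw [hk']; norm_num
        · right; right; rw [hk']; norm_num
      rcases hen with ⟨rfl, _⟩ | ⟨rfl, _⟩
      · rcases h124 with h | h | h
        · exfalso; apply hoe; rw [h]
        · rw [h] at horange; simpa using horange
        · rw [h] at horange
          exact dvd_trans (by norm_num) horange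
      · rcases h124 with h | h | h
        · exfalso; apply hoe; rw [h]; norm_num
        · exfalso; apply hoe; rw [h]
        · rw [h] at horange
          simpa using horange
    have hDdvd : Nat.card D ∣ e := by
      have hpos : 0 < Nat.card D := Nat.card_pos
      rcases hen with ⟨rfl, _⟩ | ⟨rfl, _⟩
      · have : Nat.card D = 1 := by omega
        rw [this]
      · have : Nat.card D = 1 ∨ Nat.card D = 2 := by omega
        rcases this with h | h <;> rw [h] <;> norm_num
    have hDidx := D.card_mul_index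
    obtain ⟨a, ha⟩ := h4ker
    obtain ⟨b, hb⟩ := h2erange
    obtain ⟨c, hc⟩ := hDdvd
    have hDpos : 0 < Nat.card D := Nat.card_pos
    refine ⟨a * b * c, ?_⟩
    apply Nat.eq_of_mul_eq_mul_left hDpos
    rw [hDidx, ← hTcard, ha, hb, hc]
    ring
  obtain ⟨β, hβ, u, huT, huβ, huM⟩ := hexists
  have hu2e : u ^ (2 * e) = 1 := by
    by_contra hne
    exact hβ (hsemi _ (Subgroup.pow_mem _ huT _) (hpowT u huT) hne β
      (pow_smul_eq_of_smul_eq u β huβ _))
  have hou1 : orderOf u ∣ 2 * e := orderOf_dvd_of_pow_eq_one hu2e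
  have hou2 : e < orderOf u := by
    have := hord u huT huM
    rwa [← hen'.1] at this
  have hou : orderOf u = 2 ^ n := by
    rw [← hen'.2.2]
    have hle : orderOf u ≤ 2 * e := Nat.le_of_dvd (by omega) hou1
    rcases hen with ⟨rfl, _⟩ | ⟨rfl, _⟩
    · omega
    · have : orderOf u = 3 ∨ orderOf u = 4 := by omega
      rcases this with h | h
      · rw [h] at hou1; norm_num at hou1
      · exact h
  obtain ⟨g', hg'⟩ := Cfsg.Agent.Helper2.thompson_transfer_general hno2 T M hMrel n hen'.2.1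
    hord u hou
  have hvC := hpowM _ hg'
  have hvT : (g' * u * g'⁻¹) ^ e ∈ (T : Subgroup G) := Subgroup.pow_mem _ (hMT hg') _
  have hvne : (g' * u * g'⁻¹) ^ e ≠ 1 := by
    intro h
    rw [conj_pow] at h
    have h1 : u ^ e = 1 := by
      have : u ^ e = g'⁻¹ * (g' * u ^ e * g'⁻¹) * g' := by group
      rw [this, h]
      group
    have h2 := orderOf_dvd_of_pow_eq_one h1
    have := Nat.le_of_dvd he_pos h2
    omega
  have hvfix : ∀ Q : Sylow 5 G, u • Q = Q → (g' * u * g'⁻¹) ^ e • (g' • Q) = g' • Q := by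
    intro Q hQ
    apply pow_smul_eq_of_smul_eq
    rw [mul_smul, mul_smul, inv_smul_smul, hQ]
  have h1 := hsemi _ hvT hvC hvne _ (hvfix P (hTfix u huT))
  have h2 := hsemi _ hvT hvC hvne _ (hvfix β huβ)
  apply hβ
  have h3 : g' • β = g' • P := h2.trans h1.symm
  exact smul_left_cancel _ h3

end Cfsg.Agent.Helper2.Syl21
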