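import Mathlib
import Cfsg.Agent.Helper2.Syl21B
import Cfsg.Agent.Helper2.Syl21C
import Cfsg.Agent.Helper2.Syl21E
import Cfsg.Agent.Helper2.ZStarH
import Cfsg.Agent.Helper2.CyclicSylow2
import Cfsg.Agent.Helper4.SylFewA
import Cfsg.Agent.Helper4.CaminaLemma

set_option autoImplicit false
set_option maxHeartbeats 1000000

namespace Cfsg.Agent.Helper2.Syl21

open MulAction
open Cfsg.Agent.Helper4
open Cfsg.Agent.Helper4.SylFew

theorem main_aux21.{u} : ∀ (n : ℕ) (G : Type u) [Group G] [Finite G], Nat.card G = n →
    Nat.card (Sylow 5 G) ≠ 21 := by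
  intro n
  induction n using Nat.strong_induction_on with
  | _ n ih =>
  intro G _ _ hn h21
  haveI : Fact (Nat.Prime 5) := ⟨by norm_num⟩
  have IH : ∀ (H : Type u) [Group H] [Finite H], Nat.card H < Nat.card G →
      Nat.card (Sylow 5 H) ≠ 21 := by
    intro H _ _ hlt
    exact ih (Nat.card H) (hn ▸ hlt) H rfl
  obtain ⟨P⟩ : Nonempty (Sylow 5 G) := inferInstance
  obtain ⟨N, hN⟩ : ∃ N : Subgroup G, N = Subgroup.normalizer ((P : Subgroup G) : Set G) :=
    ⟨_, rfl⟩
  have hlt25 : Nat.card (Sylow 5 G) < 5 ^ 2 := by rw [h21]; norm_num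
  have hNidx : N.index = 21 := by
    rw [hN, ← h21]; exact (P.card_eq_index_normalizer).symm
  -- Step 1: the core of the normalizer is trivial
  have hcore : N.normalCore = ⊥ := by
    by_contra hne
    obtain ⟨K, hK⟩ : ∃ K : Subgroup G, K = N.normalCore := ⟨_, rfl⟩
    haveI : K.Normal := by rw [hK]; exact Subgroup.normalCore_normal N
    have h1 := card_sylow_eq_mul K P
    have hle : (P : Subgroup G) ⊔ K ≤ N :=
      sup_le (by rw [hN]; exact Subgroup.le_normalizer) (by rw [hK]; exact Subgroup.normalCore_le N)
    have h2 := card_sylow_subgroup_eq_relIndex P ((P : Subgroup G) ⊔ K) le_sup_left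
    rw [← hN, Subgroup.relIndex_eq_one.2 hle] at h2
    rw [h2, mul_one] at h1
    have hKne : K ≠ ⊥ := by rw [hK]; exact hne
    have hKcard : 1 < Nat.card K := (Subgroup.one_lt_card_iff_ne_bot K).2 hKne
    have hmul := Subgroup.card_eq_card_quotient_mul_card_subgroup K
    have hqpos : 0 < Nat.card (G ⧸ K) := Nat.card_pos
    have hlt : Nat.card (G ⧸ K) < Nat.card G := by
      rw [hmul]; nlinarith
    exact IH (G ⧸ K) hlt (h1.symm.trans h21)
  -- Step 2: no proper normal subgroup of index prime to 5
  have hnoNormal : ∀ H : Subgroup G, H.Normal → ¬ 5 ∣ H.index → H = ⊤ := by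
    intro H hH h7
    by_contra hne
    haveI := hH
    have h1 := card_sylow_of_normal_of_not_dvd_index 5 H h7
    have hmul := H.card_mul_index
    have hidx : H.index ≠ 1 := fun h => hne (Subgroup.index_eq_one.1 h)
    have hidx0 : H.index ≠ 0 := Subgroup.index_ne_zero_of_finite
    have hHpos : 0 < Nat.card H := Nat.card_pos
    have hlt : Nat.card H < Nat.card G := by
      rw [← hmul]
      have : 2 ≤ H.index := by omega
      nlinarith
    exact IH H hlt (h1.trans h21)
  have hno2 : ∀ H : Subgroup G, H.index ≠ 2 := by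
    intro H h2
    haveI : H.Normal := Subgroup.normal_of_index_eq_two h2
    have := hnoNormal H inferInstance (by rw [h2]; norm_num)
    rw [this, Subgroup.index_top] at h2
    omega
  -- Step 3: faithful action
  have hfaith : ∀ g : G, (∀ Q : Sylow 5 G, g • Q = Q) → g = 1 := by
    intro g hg
    have hmem : g ∈ N.normalCore := by
      intro b
      have hb : (b * g * b⁻¹) • P = P := by
        rw [mul_smul, mul_smul, hg (b⁻¹ • P), smul_inv_smul]
      rw [hN]
      exact Sylow.smul_eq_iff_mem_normalizer.1 hb
    rw [hcore] at hmem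
    exact Subgroup.mem_bot.1 hmem
  have hcoreD : ∀ D : Subgroup G, D ≠ ⊥ → ∃ R : Sylow 5 G, ¬ D ≤ (R : Subgroup G) := by
    intro D hD
    by_contra hall
    push Not at hall
    apply hD
    rw [eq_bot_iff]
    intro d hd
    rw [Subgroup.mem_bot]
    apply hfaith
    intro Q
    rw [Sylow.smul_eq_iff_mem_normalizer]
    exact Subgroup.le_normalizer (hall Q hd)
  have hPbot : (P : Subgroup G) ≠ ⊥ := by
    intro hP
    have : N = ⊤ := by
      rw [hN, hP]
      exact Subgroup.normalizer_eq_top _
    rw [this, Subgroup.index_top] at hNidx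
    omega
  have hP5 : Nat.card (P : Subgroup G) = 5 := card_eq_prime_of_few hcoreD hlt25 P hPbot
  -- Step 4: the centralizer
  obtain ⟨C, hC⟩ : ∃ C : Subgroup G, C = Subgroup.centralizer ((P : Subgroup G) : Set G) :=
    ⟨_, rfl⟩
  have hCN : C ≤ N := by rw [hC, hN]; exact Subgroup.centralizer_le_normalizer _
  have hcyc : IsCyclic (P : Subgroup G) := isCyclic_of_prime_card hP5
  have hrel : C.relIndex N ∣ 4 := by
    have key := Subgroup.card_dvd_of_injective _
      (QuotientGroup.kerLift_injective (P : Subgroup G).normalizerMonoidHom)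
    rw [Subgroup.normalizerMonoidHom_ker, ← Subgroup.index, ← Subgroup.relIndex] at key
    rw [hcyc.card_mulAut, hP5, Nat.totient_prime (by norm_num : Nat.Prime 5)] at key
    rw [hC, hN]; exact key
  have hNcard : Nat.card C * C.relIndex N = Nat.card N := card_mul_relIndex' hCN
  have hGcard : Nat.card N * 21 = Nat.card G := by rw [← hNidx]; exact N.card_mul_index
  have hfix := fun (g : G) (hg : g ∈ Subgroup.centralizer ((P : Subgroup G) : Set G))
      (r : ℕ) (hr : r.Prime) (hgr : orderOf g = r) (hr5 : r ≠ 5) =>
    fixed_of_centralizer21 h21 hfaith hno2 P g hg r hr hgr hr5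
  have hfix2 : ∀ x ∈ Subgroup.centralizer ((P : Subgroup G) : Set G), orderOf x = 2 →
      ∀ Q : Sylow 5 G, x • Q = Q → Q = P := by
    intro x hx hx2
    exact (hfix x hx 2 Nat.prime_two hx2 (by norm_num)).1 rfl
  have h7C : ∀ c ∈ Subgroup.centralizer ((P : Subgroup G) : Set G), orderOf c ≠ 7 := by
    intro c hc h7
    exact (hfix c hc 7 (by norm_num) h7 (by norm_num)).2 rfl
  have h7C' : ¬ 7 ∣ Nat.card C := by
    intro h7
    haveI : Fact (Nat.Prime 7) := ⟨by norm_num⟩
    obtain ⟨x, hx⟩ := exists_prime_orderOf_dvd_card' 7 h7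
    have hxo : orderOf (x : G) = 7 := by rw [Subgroup.orderOf_coe]; exact hx
    exact h7C (x : G) (hC ▸ x.2) hxo
  have h7N : ¬ 7 ∣ Nat.card N := by
    intro h7
    rw [← hNcard] at h7
    rcases (Nat.Prime.dvd_mul (by norm_num : Nat.Prime 7)).1 h7 with h | h
    · exact h7C' h
    · have := Nat.le_of_dvd (by norm_num) (dvd_trans h hrel)
      omega
  have h7G : 7 ∣ Nat.card G := by
    rw [← hGcard]; exact Dvd.dvd.mul_left (by norm_num) _
  have h49 : ¬ 49 ∣ Nat.card G := by
    intro h
    rw [← hGcard] at h
    omega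
  by_cases hNC : N ≤ C
  · exact false_of_normalizer_le_centralizer P hP5 (by rw [← hN, ← hC]; exact hNC) h7G h49 h7C
  · have hrel1 : C.relIndex N ≠ 1 := fun h => hNC (Subgroup.relIndex_eq_one.1 h)
    have h2rel : 2 ∣ C.relIndex N := by
      have hle := Nat.le_of_dvd (by norm_num) hrel
      have hpos : 0 < C.relIndex N := Nat.pos_of_dvd_of_pos hrel (by norm_num)
      have : C.relIndex N = 2 ∨ C.relIndex N = 3 ∨ C.relIndex N = 4 := by omega
      rcases this with h | h | h
      · rw [h]
      · rw [h] at hrel; norm_num at hrel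
      · rw [h]; norm_num
    have h2N : 2 ∣ Nat.card N := by
      rw [← hNcard]; exact Dvd.dvd.mul_left h2rel _
    have h2G : 2 ∣ Nat.card G := by
      rw [← hGcard]; exact Dvd.dvd.mul_right h2N _
    haveI : Fact (Nat.Prime 2) := ⟨Nat.prime_two⟩
    have hNi : ¬ 2 ∣ N.index := by rw [hNidx]; norm_num
    obtain ⟨T, hTN⟩ := CaminaLemma.exists_sylow_le_of_not_dvd_index 2 N hNi
    have hTN' : (T : Subgroup G) ≤ Subgroup.normalizer ((P : Subgroup G) : Set G) := by
      rw [← hN]; exact hTN
    have hTC : ¬ (T : Subgroup G) ≤ C := by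
      intro hle
      have h1 := T.card_eq_multiplicity
      have h2 : Nat.card (T : Subgroup G) ∣ Nat.card C := Subgroup.card_dvd_of_le hle
      have h3 : 2 ^ ((Nat.card G).factorization 2 + 1) ∣ Nat.card G := by
        have h4 : Nat.card (T : Subgroup G) * 2 ∣ Nat.card C * C.relIndex N :=
          Nat.mul_dvd_mul h2 h2rel
        rw [hNcard] at h4
        have h5 : Nat.card (T : Subgroup G) * 2 ∣ Nat.card G := by
          rw [← hGcard]; exact Dvd.dvd.mul_right h4 _
        rw [pow_succ, ← h1]; exact h5
      exact Nat.pow_succ_factorization_not_dvd (Nat.card_pos.ne') Nat.prime_two h3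
    have hTfix : ∀ t : G, t ∈ T → t • P = P :=
      fun t ht => Sylow.smul_eq_iff_mem_normalizer.2 (hTN' ht)
    by_cases hT0 : (T : Subgroup G) ⊓ C = ⊥
    · have hTcyc : IsCyclic (T : Subgroup G) := by
        haveI : Fact (Nat.card (P : Subgroup G)).Prime := ⟨by rw [hP5]; norm_num⟩
        haveI : IsCyclic (P : Subgroup G) := hcyc
        haveI : IsCyclic (MulAut (P : Subgroup G)) :=
          isCyclic_of_injective (IsCyclic.mulAutMulEquiv (P : Subgroup G)).toMonoidHom
            (IsCyclic.mulAutMulEquiv (P : Subgroup G)).injective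
        apply isCyclic_of_injective
          (((P : Subgroup G).normalizerMonoidHom).comp (Subgroup.inclusion hTN'))
        rw [injective_iff_map_eq_one]
        intro x hx
        rw [MonoidHom.comp_apply] at hx
        have hker : Subgroup.inclusion hTN' x ∈ ((P : Subgroup G).normalizerMonoidHom).ker := hx
        rw [Subgroup.normalizerMonoidHom_ker, Subgroup.mem_subgroupOf] at hker
        have hxC : (x : G) ∈ C := by rw [hC]; exact hker
        have : (x : G) ∈ (T : Subgroup G) ⊓ C := ⟨x.2, hxC⟩
        rw [hT0, Subgroup.mem_bot] at this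
        exact Subtype.ext this
      obtain ⟨H, hH⟩ := Cfsg.Agent.Helper2.exists_index_two_of_cyclic_sylow_two
        (even_iff_two_dvd.2 h2G) T hTcyc
      exact hno2 H hH
    · -- an involution in `T ⊓ C`
      have hpg : IsPGroup 2 ↥((T : Subgroup G) ⊓ C) := T.isPGroup'.to_le inf_le_left
      obtain ⟨j, hj⟩ := IsPGroup.iff_card.1 hpg
      have hj0 : j ≠ 0 := by
        intro h0
        rw [h0, pow_zero] at hj
        exact hT0 (Subgroup.card_eq_one.1 hj)
      have h2dvd : 2 ∣ Nat.card ↥((T : Subgroup G) ⊓ C) := by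
        rw [hj]; exact dvd_pow_self 2 hj0
      obtain ⟨x', hx'⟩ := exists_prime_orderOf_dvd_card' 2 h2dvd
      obtain ⟨x, hx⟩ : ∃ x : G, x = (x' : G) := ⟨_, rfl⟩
      have hx2 : orderOf x = 2 := by rw [hx, Subgroup.orderOf_coe]; exact hx'
      have hxT : x ∈ (T : Subgroup G) := by rw [hx]; exact x'.2.1
      have hxC : x ∈ Subgroup.centralizer ((P : Subgroup G) : Set G) := by
        rw [hx, ← hC]; exact x'.2.2
      by_cases hZ : ∃ g : G, g * x * g⁻¹ ∈ (T : Subgroup G) ∧ g * x * g⁻¹ ≠ x
      · exact false_of_involution h21 hno2 P hP5 hfix2 T hTN' (by rw [← hC]; exact hTC) x hxT hxC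
          hx2 hZ
      · push Not at hZ
        obtain ⟨Mo, hMon, hModd, hMo⟩ := ZStar.glauberman_zstar_sylow T x hx2 hxT hZ
        haveI := hMon
        have hGeven : ¬ Odd (Nat.card G) := by
          rw [Nat.not_odd_iff_even]; exact even_iff_two_dvd.2 h2G
        have hfact : (Nat.card G).factorization 5 = 1 := by
          have h1 := P.card_eq_multiplicity
          rw [hP5] at h1
          have h2 : (5 : ℕ) ^ 1 = 5 ^ (Nat.card G).factorization 5 := by rw [pow_one]; exact h1
          exact (Nat.pow_right_injective (by norm_num : 2 ≤ 5) h2).symm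
        have h25 : ¬ 25 ∣ Nat.card G := by
          have := Nat.pow_succ_factorization_not_dvd (n := Nat.card G) (Nat.card_pos.ne')
            (by norm_num : Nat.Prime 5)
          rw [hfact] at this
          exact this
        have hMobot : Mo = ⊥ := by
          by_contra hne
          by_cases h5Mo : 5 ∣ Nat.card Mo
          · have h5idx : ¬ 5 ∣ Mo.index := by
              intro h
              apply h25
              rw [← Mo.card_mul_index]
              exact Nat.mul_dvd_mul h5Mo h
            have htop := hnoNormal Mo hMon h5idx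
            apply hGeven
            have : Nat.card Mo = Nat.card G := by
              rw [htop]; exact Subgroup.card_top
            rw [← this]; exact hModd
          · have h1 := card_sylow_eq_mul Mo P
            have hKcard : 1 < Nat.card Mo := (Subgroup.one_lt_card_iff_ne_bot Mo).2 hne
            have hmul := Subgroup.card_eq_card_quotient_mul_card_subgroup Mo
            have hqpos : 0 < Nat.card (G ⧸ Mo) := Nat.card_pos
            have hlt : Nat.card (G ⧸ Mo) < Nat.card G := by
              rw [hmul]; nlinarith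
            have hq := IH (G ⧸ Mo) hlt
            have hmod := card_sylow_modEq_one 5 (G ⧸ Mo)
            rw [h21] at h1
            have hdvd : Nat.card (Sylow 5 (G ⧸ Mo)) ∣ 21 := ⟨_, h1⟩
            have hle := Nat.le_of_dvd (by norm_num) hdvd
            have hq1 : Nat.card (Sylow 5 (G ⧸ Mo)) = 1 := by
              have h5 : Nat.card (Sylow 5 (G ⧸ Mo)) % 5 = 1 := hmod
              have hcases : Nat.card (Sylow 5 (G ⧸ Mo)) = 1 ∨ Nat.card (Sylow 5 (G ⧸ Mo)) = 6 ∨
                  Nat.card (Sylow 5 (G ⧸ Mo)) = 11 ∨ Nat.card (Sylow 5 (G ⧸ Mo)) = 16 := by omega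
              rcases hcases with h | h | h | h
              · exact h
              · rw [h] at hdvd; norm_num at hdvd
              · rw [h] at hdvd; norm_num at hdvd
              · rw [h] at hdvd; norm_num at hdvd
            rw [hq1, one_mul] at h1
            have hle2 : Nat.card ↥((P : Subgroup G) ⊔ Mo) ≤ Nat.card G :=
              Nat.card_le_card_of_injective _ (Subgroup.subtype_injective _)
            have hge : ¬ Nat.card ↥((P : Subgroup G) ⊔ Mo) < Nat.card G :=
              fun hlt' => IH _ hlt' h1.symm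
            have heq : Nat.card ↥((P : Subgroup G) ⊔ Mo) = Nat.card G := by omega
            have h3 := card_mul_relIndex' (le_sup_left : (P : Subgroup G) ≤ (P : Subgroup G) ⊔ Mo)
            rw [relIndex_sup_of_normal, heq, hP5] at h3
            have h4 : (P : Subgroup G).relIndex Mo ∣ Nat.card Mo := Subgroup.relIndex_dvd_card _ _
            apply hGeven
            rw [← h3]
            apply Nat.odd_mul.2
            refine ⟨by decide, ?_⟩
            obtain ⟨c, hc⟩ := h4
            rw [hc] at hModd
            exact (Nat.odd_mul.1 hModd).1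
        have hxcentral : ∀ g : G, x * g = g * x := by
          intro g
          have := hMo g
          rw [hMobot, Subgroup.mem_bot] at this
          have h2 : x * g * x⁻¹ * g⁻¹ * (g * x) = g * x := by rw [this, one_mul]
          rw [← h2]; group
        have hx1 : x = 1 := by
          apply hfaith
          intro Q
          obtain ⟨g, hg⟩ := MulAction.exists_smul_eq G P Q
          rw [← hg, ← mul_smul, hxcentral g, mul_smul, hTfix x hxT]
        rw [hx1, orderOf_one] at hx2
        omega

/-- No finite group has exactly 21 Sylow 5-subgroups. -/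
theorem card_sylow_five_ne_twentyone {G : Type*} [Group G] [Finite G] :
    Nat.card (Sylow 5 G) ≠ 21 :=
  main_aux21 (Nat.card G) G rfl

end Cfsg.Agent.Helper2.Syl21
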