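import Mathlib

set_option autoImplicit false
set_option linter.unusedVariables false

/-! S2221 (helper8's project), piece ARITH (helper2): sums of distinct powers of two modulo four
and their part divisible by four. -/

namespace Cfsg.Agent.Helper2.SylAlt

open Finset

/-- splitting a sum of distinct powers of two at the exponent two. -/
theorem arith_split (S : Finset ℕ) :
    ∃ A M' : ℕ, ∑ s ∈ S, 2 ^ s = A + 4 * M' ∧
      A = (if 0 ∈ S then 1 else 0) + (if 1 ∈ S then 2 else 0) ∧
      4 * M' = ∑ s ∈ S.filter (fun s => 2 ≤ s), 2 ^ s := by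
  have hsplit : ∑ s ∈ S, 2 ^ s
      = ∑ s ∈ S.filter (fun s => 2 ≤ s), 2 ^ s + ∑ s ∈ S.filter (fun s => ¬ 2 ≤ s), 2 ^ s :=
    (Finset.sum_filter_add_sum_filter_not S (fun s => 2 ≤ s) (fun s => 2 ^ s)).symm
  have hdvd : 4 ∣ ∑ s ∈ S.filter (fun s => 2 ≤ s), 2 ^ s := by
    apply Finset.dvd_sum
    intro s hs
    have h2 : 2 ≤ s := (Finset.mem_filter.mp hs).2
    have : (2 : ℕ) ^ s = 4 * 2 ^ (s - 2) := by
      have e : s = 2 + (s - 2) := by omega
      conv_lhs => rw [e, pow_add]
      norm_num
    rw [this]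
    exact Dvd.intro _ rfl
  obtain ⟨M', hM'⟩ := hdvd
  have hA : ∑ s ∈ S.filter (fun s => ¬ 2 ≤ s), 2 ^ s
      = (if 0 ∈ S then 1 else 0) + (if 1 ∈ S then 2 else 0) := by
    by_cases h0 : 0 ∈ S <;> by_cases h1 : 1 ∈ S
    · have e : S.filter (fun s => ¬ 2 ≤ s) = {0, 1} := by
        ext x
        simp only [Finset.mem_filter, Finset.mem_insert, Finset.mem_singleton]
        constructor
        · rintro ⟨_, hx⟩; omega
        · rintro (rfl | rfl)
          · exact ⟨h0, by norm_num⟩
          · exact ⟨h1, by norm_num⟩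
      rw [e, if_pos h0, if_pos h1]
      rfl
    · have e : S.filter (fun s => ¬ 2 ≤ s) = {0} := by
        ext x
        simp only [Finset.mem_filter, Finset.mem_singleton]
        constructor
        · rintro ⟨hxS, hx⟩
          have : x = 0 ∨ x = 1 := by omega
          rcases this with rfl | rfl
          · rfl
          · exact absurd hxS h1
        · rintro rfl
          exact ⟨h0, by norm_num⟩
      rw [e, if_pos h0, if_neg h1]
      rfl
    · have e : S.filter (fun s => ¬ 2 ≤ s) = {1} := by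
        ext x
        simp only [Finset.mem_filter, Finset.mem_singleton]
        constructor
        · rintro ⟨hxS, hx⟩
          have : x = 0 ∨ x = 1 := by omega
          rcases this with rfl | rfl
          · exact absurd hxS h0
          · rfl
        · rintro rfl
          exact ⟨h1, by norm_num⟩
      rw [e, if_neg h0, if_pos h1]
      rfl
    · have e : S.filter (fun s => ¬ 2 ≤ s) = ∅ := by
        ext x
        simp only [Finset.mem_filter, Finset.notMem_empty, iff_false, not_and]
        intro hxS hx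
        have : x = 0 ∨ x = 1 := by omega
        rcases this with rfl | rfl
        · exact h0 hxS
        · exact h1 hxS
      rw [e, if_neg h0, if_neg h1]
      rfl
  refine ⟨_, M', ?_, rfl, hM'.symm⟩
  rw [hsplit, hA, hM']
  ring

/-- a sum of distinct powers of two is a power of two only for a single summand. -/
theorem pow_sum_eq_pow (T : Finset ℕ) : (∃ r : ℕ, ∑ s ∈ T, 2 ^ s = 2 ^ r) ↔ ∃ s, T = {s} := by
  constructor
  · rintro ⟨r, hr⟩
    have hne : T.Nonempty := by
      by_contra hcon
      rw [Finset.not_nonempty_iff_eq_empty] at hcon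
      rw [hcon, Finset.sum_empty] at hr
      exact absurd hr.symm (by positivity)
    set K := T.max' hne with hK
    have hKT : K ∈ T := Finset.max'_mem T hne
    refine ⟨K, ?_⟩
    by_contra hneq
    have hex : ∃ x ∈ T, x ≠ K := by
      by_contra hcon
      push Not at hcon
      apply hneq
      ext x
      rw [Finset.mem_singleton]
      constructor
      · exact hcon x
      · rintro rfl; exact hKT
    obtain ⟨x, hxT, hxK⟩ := hex
    have hsum : ∑ s ∈ T, 2 ^ s = 2 ^ K + ∑ s ∈ T.erase K, 2 ^ s :=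
      (Finset.add_sum_erase T (fun s => 2 ^ s) hKT).symm
    have hlt : ∑ s ∈ T.erase K, 2 ^ s < 2 ^ K := by
      apply Nat.geomSum_lt (le_refl 2)
      intro k hk
      have hkT : k ∈ T := Finset.mem_of_mem_erase hk
      have hkK : k ≠ K := Finset.ne_of_mem_erase hk
      have hle : k ≤ K := Finset.le_max' T k hkT
      omega
    have hpos : 0 < ∑ s ∈ T.erase K, 2 ^ s := by
      apply Finset.sum_pos
      · intro i _; positivity
      · exact ⟨x, Finset.mem_erase.mpr ⟨hxK, hxT⟩⟩
    have h1 : 2 ^ K < 2 ^ r := by rw [← hr, hsum]; omega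
    have h2 : 2 ^ r < 2 ^ (K + 1) := by rw [← hr, hsum, pow_succ]; omega
    have h3 : K < r := (Nat.pow_lt_pow_iff_right (le_refl 2)).mp h1
    have h4 : r < K + 1 := (Nat.pow_lt_pow_iff_right (le_refl 2)).mp h2
    omega
  · rintro ⟨s, rfl⟩
    exact ⟨s, by rw [Finset.sum_singleton]⟩

variable {ι : Type*} [Fintype ι]

theorem sum_eq_image [DecidableEq ι] (e : ι → ℕ) (he : Function.Injective e) :
    ∑ i, 2 ^ e i = ∑ s ∈ Finset.univ.image e, 2 ^ s :=
  (Finset.sum_image (f := fun s => 2 ^ s) (fun x _ y _ hxy => he hxy)).symm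

theorem arith_mod (e : ι → ℕ) (he : Function.Injective e) (n : ℕ) (hn : n = ∑ i, 2 ^ e i) :
    (n % 4 = 2 ∨ n % 4 = 3) ↔ ∃ i, e i = 1 := by
  classical
  obtain ⟨A, M', h1, hA, _⟩ := arith_split (Finset.univ.image e)
  rw [← sum_eq_image e he, ← hn] at h1
  have hmem : (1 ∈ Finset.univ.image e) ↔ ∃ i, e i = 1 := by
    rw [Finset.mem_image]
    constructor
    · rintro ⟨i, _, hi⟩; exact ⟨i, hi⟩
    · rintro ⟨i, hi⟩; exact ⟨i, Finset.mem_univ _, hi⟩
  rw [← hmem]
  by_cases h0 : 0 ∈ Finset.univ.image e <;> by_cases h1' : 1 ∈ Finset.univ.image e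
  · rw [if_pos h0, if_pos h1'] at hA
    constructor
    · intro _; exact h1'
    · intro _; omega
  · rw [if_pos h0, if_neg h1'] at hA
    constructor
    · intro h; omega
    · intro h; exact absurd h h1'
  · rw [if_neg h0, if_pos h1'] at hA
    constructor
    · intro _; exact h1'
    · intro _; omega
  · rw [if_neg h0, if_neg h1'] at hA
    constructor
    · intro h; omega
    · intro h; exact absurd h h1'

theorem arith_pow (e : ι → ℕ) (he : Function.Injective e) (n : ℕ) (hn : n = ∑ i, 2 ^ e i) :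
    (∃ r : ℕ, 4 * (n / 4) = 2 ^ r) ↔ ∃! i, 2 ≤ e i := by
  classical
  obtain ⟨A, M', h1, hA, hM⟩ := arith_split (Finset.univ.image e)
  rw [← sum_eq_image e he, ← hn] at h1
  have hAlt : A < 4 := by
    rw [hA]
    split_ifs <;> omega
  have h4 : 4 * (n / 4) = ∑ s ∈ (Finset.univ.image e).filter (fun s => 2 ≤ s), 2 ^ s := by
    rw [← hM]; omega
  rw [h4, pow_sum_eq_pow]
  constructor
  · rintro ⟨s, hs⟩
    have hsT : s ∈ (Finset.univ.image e).filter (fun s => 2 ≤ s) := by
      rw [hs]; exact Finset.mem_singleton_self s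
    rw [Finset.mem_filter, Finset.mem_image] at hsT
    obtain ⟨⟨i, _, hi⟩, h2s⟩ := hsT
    refine ⟨i, by show 2 ≤ e i; rw [hi]; exact h2s, ?_⟩
    intro j hj
    have hjT : e j ∈ (Finset.univ.image e).filter (fun s => 2 ≤ s) :=
      Finset.mem_filter.mpr ⟨Finset.mem_image.mpr ⟨j, Finset.mem_univ _, rfl⟩, hj⟩
    rw [hs, Finset.mem_singleton] at hjT
    exact he (by rw [hjT, hi])
  · rintro ⟨i, hi, huniq⟩
    refine ⟨e i, ?_⟩
    ext s
    rw [Finset.mem_filter, Finset.mem_image, Finset.mem_singleton]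
    constructor
    · rintro ⟨⟨j, _, hj⟩, h2s⟩
      have := huniq j (by show 2 ≤ e j; rw [hj]; exact h2s)
      rw [← hj, this]
    · rintro rfl
      exact ⟨⟨i, Finset.mem_univ _, rfl⟩, hi⟩

end Cfsg.Agent.Helper2.SylAlt
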