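import Mathlib
import Cfsg.Agent.Helper2.SylAltArith

set_option autoImplicit false
set_option linter.unusedVariables false

/-! S2221 (helper8's project), piece ARITH2 (helper2): two more facts on sums of distinct powers
of two, indexed by the exponent set. -/

namespace Cfsg.Agent.Helper8.SylAlt

open Finset Cfsg.Agent.Helper2.SylAlt

theorem arith_exists_big (s : Finset ℕ) (h : 4 ≤ ∑ k ∈ s, 2 ^ k) : ∃ k ∈ s, 2 ≤ k := by
  by_contra hcon
  push Not at hcon
  obtain ⟨A, M', h1, hA, hM⟩ := arith_split s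
  have he : s.filter (fun k => 2 ≤ k) = ∅ := by
    ext x
    simp only [Finset.mem_filter, Finset.notMem_empty, iff_false, not_and]
    intro hx
    have := hcon x hx
    omega
  rw [he, Finset.sum_empty] at hM
  have hAlt : A < 4 := by
    rw [hA]
    split_ifs <;> omega
  omega

theorem arith_four_five (s : Finset ℕ) :
    ((∑ k ∈ s, 2 ^ k) = 4 ∨ (∑ k ∈ s, 2 ^ k) = 5) ↔ (s.filter (2 ≤ ·) = {2} ∧ 1 ∉ s) := by
  obtain ⟨A, M', h1, hA, hM⟩ := arith_split s
  constructor
  · intro h
    have hAlt : A < 4 := by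
      rw [hA]
      split_ifs <;> omega
    have hM1 : M' = 1 := by omega
    have hA1 : A ≤ 1 := by omega
    have h1s : 1 ∉ s := by
      intro h1s
      rw [if_pos h1s] at hA
      omega
    refine ⟨?_, h1s⟩
    have hsum : ∑ k ∈ s.filter (fun k => 2 ≤ k), 2 ^ k = 2 ^ 2 := by
      rw [← hM, hM1]; norm_num
    obtain ⟨t, ht⟩ := (pow_sum_eq_pow (s.filter (fun k => 2 ≤ k))).mp ⟨2, hsum⟩
    rw [ht, Finset.sum_singleton] at hsum
    have ht2 : t = 2 := Nat.pow_right_injective (le_refl 2) hsum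
    rw [ht, ht2]
  · rintro ⟨hf, h1s⟩
    have hM2 : 4 * M' = 4 := by
      rw [hM, hf, Finset.sum_singleton]; norm_num
    rw [if_neg h1s] at hA
    rw [h1]
    by_cases h0 : 0 ∈ s
    · rw [if_pos h0] at hA; right; omega
    · rw [if_neg h0] at hA; left; omega

end Cfsg.Agent.Helper8.SylAlt
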