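import Cfsg.Agent.Helper8.SylAltG
import Cfsg.Prelude.Def_TwoFusion

set_option autoImplicit false
set_option linter.unusedVariables false

/-! S2221 (helper8's project), piece EXPSET (helper2): the set of exponents of the orbit sizes of
a Sylow 2-subgroup of `Perm Ω`, and `|Ω| = ∑ k ∈ expSet Q, 2 ^ k`. -/

namespace Cfsg.Agent.Helper8.SylAlt

open Equiv Classical

variable {Ω : Type*} [Fintype Ω] [DecidableEq Ω]

noncomputable def expSet (Q : Sylow 2 (Perm Ω)) : Finset ℕ :=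
  Finset.univ.image (fun ω : Ω => Nat.log 2 (Nat.card ↥(orb (Q : Subgroup (Perm Ω)) ω)))

theorem h2_log_card_orb (Q : Sylow 2 (Perm Ω)) (ω : Ω) :
    Nat.card ↥(orb (Q : Subgroup (Perm Ω)) ω)
      = 2 ^ Nat.log 2 (Nat.card ↥(orb (Q : Subgroup (Perm Ω)) ω)) := by
  obtain ⟨j, hj⟩ := card_orb Q ω
  rw [hj, Nat.log_pow (by norm_num : 1 < 2)]

theorem mem_expSet (Q : Sylow 2 (Perm Ω)) (k : ℕ) :
    k ∈ expSet Q ↔ ∃ ω, Nat.card ↥(orb (Q : Subgroup (Perm Ω)) ω) = 2 ^ k := by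
  unfold expSet
  rw [Finset.mem_image]
  constructor
  · rintro ⟨ω, _, hω⟩
    refine ⟨ω, ?_⟩
    rw [← hω]
    exact h2_log_card_orb Q ω
  · rintro ⟨ω, hω⟩
    refine ⟨ω, Finset.mem_univ _, ?_⟩
    rw [hω, Nat.log_pow (by norm_num : 1 < 2)]

theorem card_eq_sum_expSet (Q : Sylow 2 (Perm Ω)) : Fintype.card Ω = ∑ k ∈ expSet Q, 2 ^ k := by
  have h1 : (Finset.univ : Finset Ω).card
      = ∑ k ∈ expSet Q, (Finset.univ.filter (fun ω : Ω =>
          Nat.log 2 (Nat.card ↥(orb (Q : Subgroup (Perm Ω)) ω)) = k)).card := by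
    apply Finset.card_eq_sum_card_fiberwise
    intro ω _
    exact Finset.mem_image.mpr ⟨ω, Finset.mem_univ _, rfl⟩
  rw [← Finset.card_univ, h1]
  apply Finset.sum_congr rfl
  intro k hk
  obtain ⟨ω₀, hω₀⟩ := (mem_expSet Q k).mp hk
  have hset : orb (Q : Subgroup (Perm Ω)) ω₀
      = ((Finset.univ.filter (fun ω : Ω =>
          Nat.log 2 (Nat.card ↥(orb (Q : Subgroup (Perm Ω)) ω)) = k) : Finset Ω) : Set Ω) := by
    ext ω
    rw [Finset.mem_coe, Finset.mem_filter]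
    constructor
    · intro h
      refine ⟨Finset.mem_univ _, ?_⟩
      rw [orb_eq_of_mem h, hω₀, Nat.log_pow (by norm_num : 1 < 2)]
    · rintro ⟨_, h⟩
      have h2 : Nat.card ↥(orb (Q : Subgroup (Perm Ω)) ω) = 2 ^ k := by
        rw [← h]; exact h2_log_card_orb Q ω
      have h3 := orb_eq_of_card_eq Q ω ω₀ (by rw [h2, hω₀])
      rw [← h3]
      exact self_mem_orb _ ω
  calc (Finset.univ.filter (fun ω : Ω =>
          Nat.log 2 (Nat.card ↥(orb (Q : Subgroup (Perm Ω)) ω)) = k)).card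
      = ((Finset.univ.filter (fun ω : Ω =>
          Nat.log 2 (Nat.card ↥(orb (Q : Subgroup (Perm Ω)) ω)) = k) : Finset Ω) : Set Ω).ncard :=
        (Set.ncard_coe_finset _).symm
    _ = (orb (Q : Subgroup (Perm Ω)) ω₀).ncard := by rw [← hset]
    _ = Nat.card ↥(orb (Q : Subgroup (Perm Ω)) ω₀) := (Nat.card_coe_set_eq _).symm
    _ = 2 ^ k := hω₀

end Cfsg.Agent.Helper8.SylAlt
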