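import Mathlib

set_option autoImplicit false
set_option linter.unusedVariables false

/-! S2221 (helper8's project), piece WR, parts W2 and W5a (helper2): the centre of the iterated
wreath product of groups of order two has order two, and contains a nontrivial square. -/

namespace Cfsg.Agent.Helper8.SylAlt

open RegularWreathProduct

abbrev C2 := Multiplicative (ZMod 2)
abbrev Wk (k : ℕ) := IteratedWreathProduct C2 k

section general

variable {D Q : Type*} [Group D] [Group Q]

/-- the diagonal element `(const z, 1)`. -/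
def h2_diag (z : D) : D ≀ᵣ Q := ⟨fun _ => z, 1⟩

theorem h2_diag_mem_center {z : D} (hz : z ∈ Subgroup.center D) :
    (h2_diag z : D ≀ᵣ Q) ∈ Subgroup.center (D ≀ᵣ Q) := by
  rw [Subgroup.mem_center_iff]
  intro g
  apply RegularWreathProduct.ext
  · funext x
    show g.left x * z = z * g.left ((1 : Q)⁻¹ * x)
    rw [inv_one, one_mul]
    exact Subgroup.mem_center_iff.mp hz (g.left x)
  · show g.right * 1 = 1 * g.right
    rw [mul_one, one_mul]

variable {σ : Q} (hσ : σ ≠ 1) (hall : ∀ x : Q, x = 1 ∨ x = σ)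
include hσ hall

theorem h2_sigma_sq : σ * σ = 1 := by
  rcases hall (σ * σ) with h | h
  · exact h
  · exfalso
    apply hσ
    have := congrArg (fun x => σ⁻¹ * x) h
    simpa using this

theorem h2_sigma_inv : σ⁻¹ = σ := by
  have h := h2_sigma_sq hσ hall
  exact inv_eq_of_mul_eq_one_right h

/-- a central element of `D ≀ᵣ Q` (`|Q| = 2`, `D ≠ 1`) is diagonal with central value. -/
theorem h2_center_form [Nontrivial D] [DecidableEq Q] {w : D ≀ᵣ Q}
    (hw : w ∈ Subgroup.center (D ≀ᵣ Q)) :
    w = h2_diag (w.left 1) ∧ w.left 1 ∈ Subgroup.center D := by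
  rw [Subgroup.mem_center_iff] at hw
  have hinv := h2_sigma_inv hσ hall
  -- commuting with `(1, σ)`: `f` constant
  have hconst : w.left σ = w.left 1 := by
    have h1 := hw ⟨1, σ⟩
    have h2 := congrArg (fun v : D ≀ᵣ Q => v.left σ) h1
    simp only [mul_left, Pi.mul_apply, Pi.one_apply, one_mul, mul_one] at h2
    rw [hinv, h2_sigma_sq hσ hall] at h2
    exact h2.symm
  -- `right = 1`
  have hright : w.right = 1 := by
    rcases hall w.right with h | h
    · exact h
    · exfalso
      obtain ⟨d, hd⟩ := exists_ne (1 : D)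
      have h1 := hw ⟨fun x => if x = 1 then d else 1, 1⟩
      have h2 := congrArg (fun v : D ≀ᵣ Q => v.left σ) h1
      simp only [mul_left, Pi.mul_apply, inv_one, one_mul] at h2
      rw [h, hinv, h2_sigma_sq hσ hall, if_neg hσ, if_pos rfl, one_mul] at h2
      apply hd
      have h3 : w.left σ * 1 = w.left σ * d := by rw [mul_one]; exact h2
      exact (mul_left_cancel h3).symm
  have hcen : w.left 1 ∈ Subgroup.center D := by
    rw [Subgroup.mem_center_iff]
    intro d
    have h1 := hw ⟨fun _ => d, 1⟩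
    have h2 := congrArg (fun v : D ≀ᵣ Q => v.left 1) h1
    simp only [mul_left, Pi.mul_apply, inv_one, one_mul] at h2
    exact h2
  refine ⟨?_, hcen⟩
  apply RegularWreathProduct.ext
  · funext x
    show w.left x = w.left 1
    rcases hall x with rfl | rfl
    · rfl
    · exact hconst
  · exact hright

/-- the centre of `D ≀ᵣ Q` is in bijection with the centre of `D`. -/
theorem h2_card_center [Nontrivial D] [DecidableEq Q] :
    Nat.card (Subgroup.center (D ≀ᵣ Q)) = Nat.card (Subgroup.center D) := by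
  apply Nat.card_congr
  refine ⟨fun w => ⟨w.1.left 1, (h2_center_form hσ hall w.2).2⟩,
    fun z => ⟨h2_diag z.1, h2_diag_mem_center z.2⟩, ?_, ?_⟩
  · intro w
    apply Subtype.ext
    exact (h2_center_form hσ hall w.2).1.symm
  · intro z
    apply Subtype.ext
    rfl

/-- a nontrivial central square. -/
theorem h2_exists_sq [DecidableEq Q] {z : D} (hz : z ∈ Subgroup.center D) (hz1 : z ≠ 1) :
    ∃ c : D ≀ᵣ Q, c ^ 2 ∈ Subgroup.center (D ≀ᵣ Q) ∧ c ^ 2 ≠ 1 := by
  have hinv := h2_sigma_inv hσ hall
  have hsq := h2_sigma_sq hσ hall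
  refine ⟨⟨fun x => if x = 1 then z else 1, σ⟩, ?_, ?_⟩
  · have e : (⟨fun x => if x = 1 then z else 1, σ⟩ : D ≀ᵣ Q) ^ 2 = h2_diag z := by
      rw [pow_two]
      apply RegularWreathProduct.ext
      · funext x
        show (if x = 1 then z else 1) * (if σ⁻¹ * x = 1 then z else 1) = z
        rw [hinv]
        rcases hall x with rfl | rfl
        · rw [if_pos rfl, mul_one, if_neg hσ, mul_one]
        · rw [if_neg hσ, hsq, if_pos rfl, one_mul]
      · show σ * σ = 1
        exact hsq
    rw [e]
    exact h2_diag_mem_center hz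
  · intro h
    have h1 : ((⟨fun x => if x = 1 then z else 1, σ⟩ : D ≀ᵣ Q) ^ 2).left 1 = z := by
      rw [pow_two]
      show (if (1 : Q) = 1 then z else 1) * (if σ⁻¹ * 1 = 1 then z else 1) = z
      rw [if_pos rfl, hinv, mul_one, if_neg hσ, mul_one]
    rw [h] at h1
    exact hz1 h1.symm

end general

/-- the nonidentity element of `C2`. -/
def h2_sig : C2 := Multiplicative.ofAdd 1

theorem h2_sig_ne : h2_sig ≠ 1 := by decide

theorem h2_sig_all : ∀ x : C2, x = 1 ∨ x = h2_sig := by decide

theorem h2_Wk_succ_card_center (k : ℕ) [Nontrivial (Wk k)] :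
    Nat.card (Subgroup.center (Wk (k + 1))) = Nat.card (Subgroup.center (Wk k)) :=
  h2_card_center (D := Wk k) (Q := C2) h2_sig_ne h2_sig_all

theorem h2_Wk_card (k : ℕ) : Nat.card (Wk k) = 2 ^ (∑ i ∈ Finset.range k, 2 ^ i) := by
  have h := IteratedWreathProduct.card C2 k
  have h2 : Nat.card C2 = 2 := by
    rw [Nat.card_eq_fintype_card]
    rfl
  rw [h2] at h
  exact h

theorem h2_Wk_nontrivial (k : ℕ) (hk : 1 ≤ k) : Nontrivial (Wk k) := by
  have hc := h2_Wk_card k
  have hpos : 0 < ∑ i ∈ Finset.range k, 2 ^ i := by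
    apply Finset.sum_pos
    · intro i _; positivity
    · exact ⟨0, Finset.mem_range.mpr (by omega)⟩
  have h1 : 1 < Nat.card (Wk k) := by
    rw [hc]
    exact Nat.one_lt_two_pow (by omega)
  exact (Finite.one_lt_card_iff_nontrivial).mp h1

theorem W2 (k : ℕ) (hk : 1 ≤ k) : Nat.card (Subgroup.center (Wk k)) = 2 := by
  induction k with
  | zero => omega
  | succ k ih =>
    by_cases hk0 : k = 0
    · subst hk0
      -- `W_1` has order two, hence is abelian
      have hc : Nat.card (Wk 1) = 2 := by
        rw [h2_Wk_card]; rfl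
      have hcomm : ∀ a b : Wk 1, a * b = b * a := by
        have : Fact (Nat.Prime 2) := ⟨Nat.prime_two⟩
        have : IsCyclic (Wk 1) := isCyclic_of_prime_card hc
        intro a b
        exact IsCyclic.commGroup.mul_comm a b
      have htop : Subgroup.center (Wk 1) = ⊤ := by
        rw [eq_top_iff]
        intro a _
        rw [Subgroup.mem_center_iff]
        intro g
        exact hcomm g a
      rw [htop, Subgroup.card_top, hc]
    · have := h2_Wk_nontrivial k (by omega)
      rw [h2_Wk_succ_card_center k]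
      exact ih (by omega)

theorem W5a (k : ℕ) (hk : 2 ≤ k) :
    ∃ c : Wk k, c ^ 2 ∈ Subgroup.center (Wk k) ∧ c ^ 2 ≠ 1 := by
  obtain ⟨k', rfl⟩ : ∃ k', k = k' + 1 := ⟨k - 1, by omega⟩
  have hcard := W2 k' (by omega)
  have hex : ∃ z : Wk k', z ∈ Subgroup.center (Wk k') ∧ z ≠ 1 := by
    have : Nontrivial (Subgroup.center (Wk k')) := by
      apply (Finite.one_lt_card_iff_nontrivial).mp
      rw [hcard]; norm_num
    obtain ⟨z, hz⟩ := exists_ne (1 : Subgroup.center (Wk k'))
    exact ⟨z.1, z.2, fun h => hz (Subtype.ext h)⟩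
  obtain ⟨z, hz, hz1⟩ := hex
  exact h2_exists_sq (D := Wk k') (Q := C2) h2_sig_ne h2_sig_all hz hz1

end Cfsg.Agent.Helper8.SylAlt
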