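import Mathlib
import Cfsg.Agent.Helper2.SylowQuot
import Cfsg.Agent.Helper1.Fitting2

set_option autoImplicit false

namespace Cfsg.Agent.Helper2

open Cfsg.Agent.Helper1

variable {G : Type*} [Group G]

/-- A finite solvable group with `O(G) = 1` in which distinct Sylow `2`-subgroups meet in
cyclic groups has a normal Sylow `2`-subgroup. -/
theorem exists_normal_sylow_of_cyclic_inter [Finite G]
    [hs : Group.IsSolvable G] (hO : Cfsg.pPrimeCore 2 G = ⊥)
    (hC : ∀ S T : Sylow 2 G, S ≠ T → IsCyclic ↥((S : Subgroup G) ⊓ (T : Subgroup G))) :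
    ∃ P : Sylow 2 G, (P : Subgroup G).Normal := by
  have hp : Fact (Nat.Prime 2) := ⟨Nat.prime_two⟩
  by_cases hsub : Subsingleton (Sylow 2 G)
  · obtain ⟨P⟩ : Nonempty (Sylow 2 G) := inferInstance
    exact ⟨P, Sylow.normal_of_subsingleton P⟩
  · exfalso
    rw [not_subsingleton_iff_nontrivial] at hsub
    obtain ⟨S, T, hST⟩ := hsub
    set Q := Cfsg.pCore 2 G with hQ
    have hcen : Subgroup.centralizer (Q : Set G) ≤ Q := centralizer_pCore_le 2 hO
    have hQST : Q ≤ (S : Subgroup G) ⊓ (T : Subgroup G) :=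
      le_inf (Cfsg.Agent.Helper1.pCore_le_sylow S) (Cfsg.Agent.Helper1.pCore_le_sylow T)
    have hcycST := hC S T hST
    have hQcyc : IsCyclic ↥Q :=
      isCyclic_of_injective (Subgroup.inclusion hQST) (Subgroup.inclusion_injective _)
    have hQp : IsPGroup 2 ↥Q := pCore_isPGroup 2
    obtain ⟨k, hk⟩ := IsPGroup.iff_card.mp hQp
    let φ : G →* MulAut ↥Q := MulAut.conjNormal
    have hker : φ.ker ≤ Q := by
      intro g hg
      apply hcen
      rw [Subgroup.mem_centralizer_iff]
      intro x hx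
      have h1 : φ g ⟨x, hx⟩ = ⟨x, hx⟩ := by rw [MonoidHom.mem_ker.mp hg]; rfl
      have h2 : g * x * g⁻¹ = x := congrArg Subtype.val h1
      calc x * g = (g * x * g⁻¹) * g := by rw [h2]
        _ = g * x := by group
    have hcardAut : Nat.card (MulAut ↥Q) ∣ 2 ^ k := by
      rw [IsCyclic.card_mulAut, hk]
      by_cases h0 : k = 0
      · rw [h0, pow_zero, Nat.totient_one]
      · rw [Nat.totient_prime_pow Nat.prime_two (Nat.pos_of_ne_zero h0)]
        simp only [Nat.add_one_sub_one, mul_one]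
        exact pow_dvd_pow 2 (Nat.sub_le k 1)
    have h1 : Nat.card G = Nat.card ↥φ.range * Nat.card ↥φ.ker := by
      rw [← Subgroup.index_ker, Subgroup.index_mul_card]
    have h2 : Nat.card ↥φ.ker ∣ 2 ^ k := by
      rw [← hk]; exact Subgroup.card_dvd_of_le hker
    have h3 : Nat.card ↥φ.range ∣ 2 ^ k :=
      (Subgroup.card_subgroup_dvd_card φ.range).trans hcardAut
    have h4 : Nat.card G ∣ 2 ^ (k + k) := by
      rw [h1, pow_add]; exact Nat.mul_dvd_mul h3 h2
    obtain ⟨m, -, hm⟩ := (Nat.dvd_prime_pow Nat.prime_two).mp h4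
    have hG2 : IsPGroup 2 G := IsPGroup.of_card hm
    have htop : IsPGroup 2 (⊤ : Subgroup G) := fun x => by
      obtain ⟨j, hj⟩ := hG2 x.1
      exact ⟨j, Subtype.ext hj⟩
    have hS := S.is_maximal' htop le_top
    have hT := T.is_maximal' htop le_top
    exact hST (Sylow.ext (hS.symm.trans hT))

end Cfsg.Agent.Helper2
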