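import Cfsg.Agent.Helper8.TensSC

set_option autoImplicit false
set_option linter.unusedSectionVars false
set_option linter.unusedVariables false

/-! S5666 piece [LQ], part A (helper2): a subspace `𝒵` of `End W` invariant under conjugation by
the reflections of a symmetric form `f` (char ≠ 2).  The reflection rule: for a self-adjoint
`Z ∈ 𝒵` and a nonsingular `v`, `sv f v (f v v • Z v - f (Z v) v • v) ∈ 𝒵`; consequences. -/

namespace Cfsg.Agent.Helper2.SymLQ

open Module Cfsg.Agent.Helper8.Tens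

variable {F : Type*} [Field F] {W : Type*} [AddCommGroup W] [Module F W]
  {f : LinearMap.BilinForm F W} {𝒵 : Submodule F (Module.End F W)}

/-- `f y y` times the reflection in `y` (no division). -/
def rq (f : LinearMap.BilinForm F W) (y : W) : Module.End F W := f y y • 1 - (2 : F) • P f y y

theorem rq_apply (y x : W) : rq f y x = f y y • x - (2 * f x y) • y := by
  simp [rq, smul_smul]

/-- the hypotheses on `𝒵`. -/
structure Inv (f : LinearMap.BilinForm F W) (𝒵 : Submodule F (Module.End F W)) : Prop where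
  symm : ∀ x y, f x y = f y x
  two : (2 : F) ≠ 0
  conj : ∀ y, f y y ≠ 0 → ∀ Z ∈ 𝒵, rq f y * Z * rq f y ∈ 𝒵

theorem sv_comm (u v : W) : sv f u v = sv f v u := by
  unfold sv; rw [add_comm]

theorem sv_add_right (u v v' : W) : sv f u (v + v') = sv f u v + sv f u v' := by
  unfold sv; rw [P_add_right, P_add_left]; abel

theorem sv_smul_right (c : F) (u v : W) : sv f u (c • v) = c • sv f u v := by
  unfold sv; rw [P_smul_right, P_smul_left, smul_add]

theorem sv_add_left (u u' v : W) : sv f (u + u') v = sv f u v + sv f u' v := by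
  rw [sv_comm, sv_add_right, sv_comm v u, sv_comm v u']

theorem sv_self (h2 : (2 : F) ≠ 0) (w : W) : sv f w w = (2 : F) • P f w w := by
  unfold sv; rw [two_smul]

theorem isAdj_sv_symm (hs : ∀ x y, f x y = f y x) (a b : W) : IsAdj f (sv f a b) (sv f a b) := by
  intro x y
  simp only [sv_apply, map_add, map_smul, LinearMap.add_apply, LinearMap.smul_apply, smul_eq_mul]
  rw [hs a y, hs b y]
  ring

/-- the vectors `x` with `sv f y x ∈ 𝒵`. -/
def Lsp (f : LinearMap.BilinForm F W) (𝒵 : Submodule F (Module.End F W)) (y : W) :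
    Submodule F W where
  carrier := {x | sv f y x ∈ 𝒵}
  add_mem' := by
    intro a b ha hb
    show sv f y (a + b) ∈ 𝒵
    rw [sv_add_right]; exact 𝒵.add_mem ha hb
  zero_mem' := by
    show sv f y 0 ∈ 𝒵
    have : sv f y (0 : W) = 0 := by
      have := sv_smul_right (f := f) (0 : F) y (0 : W)
      rwa [zero_smul, zero_smul] at this
    rw [this]; exact 𝒵.zero_mem
  smul_mem' := by
    intro c a ha
    show sv f y (c • a) ∈ 𝒵
    rw [sv_smul_right]; exact 𝒵.smul_mem c ha

theorem mem_Lsp {y x : W} : x ∈ Lsp f 𝒵 y ↔ sv f y x ∈ 𝒵 := Iff.rfl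

/-- **the reflection rule**. -/
theorem refl_rule (h : Inv f 𝒵) {Z : Module.End F W} (hZ : Z ∈ 𝒵) (hs : IsAdj f Z Z) {v : W}
    (hv : f v v ≠ 0) : sv f v (f v v • Z v - f (Z v) v • v) ∈ 𝒵 := by
  have key : rq f v * Z * rq f v - (f v v * f v v) • Z
      = (-2 : F) • sv f v (f v v • Z v - f (Z v) v • v) := by
    apply LinearMap.ext; intro x
    simp only [LinearMap.sub_apply, Module.End.mul_apply, rq_apply, map_sub, map_smul,
      LinearMap.smul_apply, sv_apply, smul_eq_mul, LinearMap.sub_apply]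
    rw [hs x v, h.symm (Z v) v]
    module
  have h1 : rq f v * Z * rq f v - (f v v * f v v) • Z ∈ 𝒵 :=
    𝒵.sub_mem (h.conj v hv Z hZ) (𝒵.smul_mem _ hZ)
  rw [key] at h1
  have h2 : (-2 : F) ≠ 0 := neg_ne_zero.mpr h.two
  have := 𝒵.smul_mem (-2 : F)⁻¹ h1
  rwa [smul_smul, inv_mul_cancel₀ h2, one_smul] at this

/-- second form: from `sv x₁ x₂ ∈ 𝒵`, `x₁ ⊥ x₂`, and a nonsingular `v ⊥ x₂`, `v ⊥̸ x₁`. -/
theorem refl_rule₂ (h : Inv f 𝒵) {x₁ x₂ v : W} (hE : sv f x₁ x₂ ∈ 𝒵) (hv : f v v ≠ 0)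
    (hv2 : f v x₂ = 0) (hv1 : f v x₁ ≠ 0) : sv f v x₂ ∈ 𝒵 := by
  have h1 := refl_rule h hE (isAdj_sv_symm h.symm x₁ x₂) hv
  have e : f v v • sv f x₁ x₂ v - f (sv f x₁ x₂ v) v • v = (f v v * f v x₁) • x₂ := by
    simp only [sv_apply, map_add, map_smul, LinearMap.add_apply, LinearMap.smul_apply,
      smul_eq_mul, hv2, h.symm x₂ v]
    module
  rw [e, sv_smul_right] at h1
  have := 𝒵.smul_mem (f v v * f v x₁)⁻¹ h1
  rwa [smul_smul, inv_mul_cancel₀ (mul_ne_zero hv hv1), one_smul] at this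

/-- **Case A**: `sv y w ∈ 𝒵` with `y` nonsingular, `w ⊥ y` singular gives `P w w ∈ 𝒵`. -/
theorem P_mem_of_sing (h : Inv f 𝒵) {y w : W} (hE : sv f y w ∈ 𝒵) (hy : f y y ≠ 0)
    (hw : f w w = 0) (hyw : f y w = 0) : P f w w ∈ 𝒵 := by
  have hwy : f w y = 0 := by rw [h.symm, hyw]
  have hv : f (y + w) (y + w) ≠ 0 := by
    simp only [map_add, LinearMap.add_apply, hw, hyw, hwy, add_zero]
    exact hy
  have h1 := refl_rule₂ h hE hv (by simp [hw, hyw]) (by simp [hwy]; exact hy)
  rw [sv_add_left, sv_self h.two] at h1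
  have h2 := 𝒵.sub_mem h1 hE
  rw [add_sub_cancel_left] at h2
  have := 𝒵.smul_mem (2 : F)⁻¹ h2
  rwa [smul_smul, inv_mul_cancel₀ h.two, one_smul] at this

end Cfsg.Agent.Helper2.SymLQ
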