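import Cfsg.Agent.Helper2.SymLQA
import Cfsg.Agent.Helper8.QuadForm

set_option autoImplicit false
set_option linter.unusedSectionVars false
set_option linter.unusedVariables false

/-! S5666 piece [LQ], part B (helper2): for `4 ≤ dim W`, a reflection-invariant subspace `𝒵` of
`End W` containing `sv f y y'` (`y` nonsingular, `y' ⊥ y`, `y' ≠ 0`) contains `P f w w` for a
nonzero singular `w`. -/

namespace Cfsg.Agent.Helper2.SymLQ

open Module Cfsg.Agent.Helper8.Tens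

variable {F : Type*} [Field F] {W : Type*} [AddCommGroup W] [Module F W]
  {f : LinearMap.BilinForm F W} {𝒵 : Submodule F (Module.End F W)}

theorem exists_perp3 [FiniteDimensional F W] (f : LinearMap.BilinForm F W)
    (h4 : 4 ≤ finrank F W) (a b c : W) :
    ∃ s : W, s ≠ 0 ∧ f s a = 0 ∧ f s b = 0 ∧ f s c = 0 := by
  set φ : W →ₗ[F] F × F × F := (f.flip a).prod ((f.flip b).prod (f.flip c)) with hφ
  have hlt : finrank F (F × F × F) < finrank F W := by
    simp only [Module.finrank_prod, Module.finrank_self]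
    omega
  have hker := LinearMap.ker_ne_bot_of_finrank_lt hlt (f := φ)
  obtain ⟨y₀, hy₀, hne⟩ := Submodule.exists_mem_ne_zero_of_ne_bot hker
  refine ⟨y₀, hne, ?_⟩
  have h0 : φ y₀ = 0 := LinearMap.mem_ker.mp hy₀
  rw [hφ, LinearMap.prod_apply] at h0
  have h1 := Prod.mk_eq_zero.mp h0
  have h2 := Prod.mk_eq_zero.mp h1.2
  exact ⟨h1.1, h2.1, h2.2⟩

/-- a nonzero singular vector in the span of three mutually orthogonal nonsingular vectors. -/
theorem exists_sing3 [Finite F] (hs : ∀ x y, f x y = f y x) {e₀ e₁ e₂ : W}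
    (h0 : f e₀ e₀ ≠ 0) (h1 : f e₁ e₁ ≠ 0) (h2 : f e₂ e₂ ≠ 0) (h01 : f e₀ e₁ = 0)
    (h02 : f e₀ e₂ = 0) (h12 : f e₁ e₂ = 0) :
    ∃ a b c : F, a • e₀ + b • e₁ + c • e₂ ≠ 0 ∧
      f (a • e₀ + b • e₁ + c • e₂) (a • e₀ + b • e₁ + c • e₂) = 0 := by
  set L : (Fin 3 → F) →ₗ[F] W :=
    (LinearMap.proj 0 : (Fin 3 → F) →ₗ[F] F).smulRight e₀
      + (LinearMap.proj 1 : (Fin 3 → F) →ₗ[F] F).smulRight e₁
      + (LinearMap.proj 2 : (Fin 3 → F) →ₗ[F] F).smulRight e₂ with hL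
  have hLa : ∀ a : Fin 3 → F, L a = a 0 • e₀ + a 1 • e₁ + a 2 • e₂ := by
    intro a; simp [hL]
  obtain ⟨a, ha0, ha⟩ := Cfsg.Agent.Helper8.QuadForm.exists_singular
    ((LinearMap.BilinMap.toQuadraticMap f).comp L) (by simp)
  rw [QuadraticMap.comp_apply, LinearMap.BilinMap.toQuadraticMap_apply, hLa] at ha
  refine ⟨a 0, a 1, a 2, fun hw => ha0 ?_, ha⟩
  have h10 : f e₁ e₀ = 0 := by rw [hs, h01]
  have h20 : f e₂ e₀ = 0 := by rw [hs, h02]
  have h21 : f e₂ e₁ = 0 := by rw [hs, h12]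
  have p0 : a 0 = 0 := by
    have := congrArg (fun x => f x e₀) hw
    simp only [map_add, map_smul, LinearMap.add_apply, LinearMap.smul_apply, h10, h20,
      smul_eq_mul, mul_zero, add_zero, map_zero, LinearMap.zero_apply] at this
    exact (mul_eq_zero.mp this).resolve_right h0
  have p1 : a 1 = 0 := by
    have := congrArg (fun x => f x e₁) hw
    simp only [map_add, map_smul, LinearMap.add_apply, LinearMap.smul_apply, h01, h21,
      smul_eq_mul, mul_zero, add_zero, zero_add, map_zero, LinearMap.zero_apply] at this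
    exact (mul_eq_zero.mp this).resolve_right h1
  have p2 : a 2 = 0 := by
    have := congrArg (fun x => f x e₂) hw
    simp only [map_add, map_smul, LinearMap.add_apply, LinearMap.smul_apply, h02, h12,
      smul_eq_mul, mul_zero, add_zero, zero_add, map_zero, LinearMap.zero_apply] at this
    exact (mul_eq_zero.mp this).resolve_right h2
  funext i
  fin_cases i
  · exact p0
  · exact p1
  · exact p2

/-- **dimension at least four**. -/
theorem exists_P_of_sv [Finite F] [FiniteDimensional F W] (h : Inv f 𝒵)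
    (hb : 4 ≤ finrank F W) {y y' : W} (hy : f y y ≠ 0) (hyy' : f y y' = 0) (hy' : y' ≠ 0)
    (hE : sv f y y' ∈ 𝒵) : ∃ w, w ≠ 0 ∧ f w w = 0 ∧ P f w w ∈ 𝒵 := by
  have hy'y : f y' y = 0 := by rw [h.symm, hyy']
  by_cases hβ : f y' y' = 0
  · exact ⟨y', hy', hβ, P_mem_of_sing h hE hy hβ hyy'⟩
  -- the rule (K)
  have K : ∀ s, f s y = 0 → f s y' = 0 → f s s ≠ - f y' y' → s ∈ Lsp f 𝒵 y := by
    intro s hsy hsy' hN
    have hy's : f y' s = 0 := by rw [h.symm, hsy']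
    have hE' : sv f y' y ∈ 𝒵 := by rw [sv_comm]; exact hE
    have hv : f (y' + s) (y' + s) ≠ 0 := by
      simp only [map_add, LinearMap.add_apply, hsy', hy's, add_zero, zero_add]
      intro h0
      exact hN (by linear_combination h0)
    have h1 := refl_rule₂ h hE' hv (by simp [hy'y, hsy]) (by simp [hsy']; exact hβ)
    rw [sv_add_left] at h1
    have h2 := 𝒵.sub_mem h1 hE'
    rw [add_sub_cancel_left] at h2
    show sv f y s ∈ 𝒵
    rw [sv_comm]; exact h2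
  have fin : ∀ w, w ≠ 0 → f w w = 0 → f w y = 0 → w ∈ Lsp f 𝒵 y →
      ∃ w, w ≠ 0 ∧ f w w = 0 ∧ P f w w ∈ 𝒵 := by
    intro w hw0 hw hwy hwL
    exact ⟨w, hw0, hw, P_mem_of_sing h hwL hy hw (by rw [h.symm, hwy])⟩
  obtain ⟨s₁, hs₁0, hs₁y, hs₁y', -⟩ := exists_perp3 f hb y y' y'
  by_cases hγ₁ : f s₁ s₁ = 0
  · exact fin s₁ hs₁0 hγ₁ hs₁y (K s₁ hs₁y hs₁y' (by rw [hγ₁]; exact fun h0 => hβ (neg_eq_zero.mp h0.symm)))
  obtain ⟨s₂, hs₂0, hs₂y, hs₂y', hs₂s₁⟩ := exists_perp3 f hb y y' s₁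
  by_cases hγ₂ : f s₂ s₂ = 0
  · exact fin s₂ hs₂0 hγ₂ hs₂y (K s₂ hs₂y hs₂y' (by rw [hγ₂]; exact fun h0 => hβ (neg_eq_zero.mp h0.symm)))
  have hs₁s₂ : f s₁ s₂ = 0 := by rw [h.symm, hs₂s₁]
  -- `s₁, s₂ ∈ L`
  have hpm : ∀ s t : W, f s y = 0 → f s y' = 0 → f t y = 0 → f t y' = 0 → f s t = 0 →
      f t t ≠ 0 → s ∈ Lsp f 𝒵 y := by
    intro s t hsy hsy' hty hty' hst ht
    by_cases hN : f s s = - f y' y'
    · have hts : f t s = 0 := by rw [h.symm, hst]
      have h1 : s + t ∈ Lsp f 𝒵 y := by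
        apply K
        · rw [map_add, LinearMap.add_apply, hsy, hty, add_zero]
        · rw [map_add, LinearMap.add_apply, hsy', hty', add_zero]
        · simp only [map_add, LinearMap.add_apply, hst, hts, add_zero, zero_add, hN]
          intro h0
          exact ht (by linear_combination h0)
      have h2 : s - t ∈ Lsp f 𝒵 y := by
        apply K
        · rw [map_sub, LinearMap.sub_apply, hsy, hty, sub_zero]
        · rw [map_sub, LinearMap.sub_apply, hsy', hty', sub_zero]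
        · simp only [map_sub, LinearMap.sub_apply, hst, hts, sub_zero, zero_sub, hN, sub_neg_eq_add]
          intro h0
          exact ht (by linear_combination h0)
      have h3 := (Lsp f 𝒵 y).add_mem h1 h2
      have e : s + t + (s - t) = (2 : F) • s := by rw [two_smul]; abel
      rw [e] at h3
      have := (Lsp f 𝒵 y).smul_mem (2 : F)⁻¹ h3
      rwa [smul_smul, inv_mul_cancel₀ h.two, one_smul] at this
    · exact K s hsy hsy' hN
  have hL1 : s₁ ∈ Lsp f 𝒵 y := hpm s₁ s₂ hs₁y hs₁y' hs₂y hs₂y' hs₁s₂ hγ₂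
  have hL2 : s₂ ∈ Lsp f 𝒵 y := hpm s₂ s₁ hs₂y hs₂y' hs₁y hs₁y' hs₂s₁ hγ₁
  have hL0 : y' ∈ Lsp f 𝒵 y := hE
  obtain ⟨a, b, c, hw0, hw⟩ := exists_sing3 h.symm hβ hγ₁ hγ₂
    (by rw [h.symm, hs₁y']) (by rw [h.symm, hs₂y']) hs₁s₂
  refine fin _ hw0 hw ?_ ?_
  · simp only [map_add, map_smul, LinearMap.add_apply, LinearMap.smul_apply, hy'y, hs₁y, hs₂y,
      smul_zero, add_zero]
  · exact (Lsp f 𝒵 y).add_mem ((Lsp f 𝒵 y).add_mem ((Lsp f 𝒵 y).smul_mem a hL0)
      ((Lsp f 𝒵 y).smul_mem b hL1)) ((Lsp f 𝒵 y).smul_mem c hL2)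

end Cfsg.Agent.Helper2.SymLQ
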