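import Mathlib
import Cfsg.Prelude.Def_GeometricClasses
import Cfsg.Agent.Helper2.SymTF
import Cfsg.Agent.Helper9.XSFive

set_option autoImplicit false

/-!
# S6000: transport along `GL_4`-conjugation, the order-3 and order-5 elements of `N(R0)`, and the
case `r = 5`.
-/

namespace Cfsg.Agent.Helper2.SymT

open Matrix

variable {F : Type*} [Field F]

/-- Every element of order `r` modulo scalars of `SL₄(F)` is `SL₄(F)`-conjugate into `N`. -/
def Elus (r : ℕ) (N : Subgroup (GL (Fin 4) F)) : Prop :=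
  ∀ x ∈ Cfsg.Geo.specialLinear (Fin 4) F,
    (∃ z : F, ((x ^ r : GL (Fin 4) F) : Matrix (Fin 4) (Fin 4) F) =
      z • (1 : Matrix (Fin 4) (Fin 4) F)) →
    (∀ z : F, (x : Matrix (Fin 4) (Fin 4) F) ≠ z • (1 : Matrix (Fin 4) (Fin 4) F)) →
    ∃ g ∈ Cfsg.Geo.specialLinear (Fin 4) F, g⁻¹ * x * g ∈ N

theorem conj_mem_SL (P g : GL (Fin 4) F) (hg : g ∈ Cfsg.Geo.specialLinear (Fin 4) F) :
    P⁻¹ * g * P ∈ Cfsg.Geo.specialLinear (Fin 4) F := by
  have hn : (Cfsg.Geo.specialLinear (Fin 4) F).Normal := by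
    unfold Cfsg.Geo.specialLinear
    exact MonoidHom.normal_ker _
  have := hn.conj_mem g hg P⁻¹
  rwa [inv_inv] at this

theorem conj_scalar (P : GL (Fin 4) F) (g : GL (Fin 4) F) (z : F)
    (hg : (g : Matrix (Fin 4) (Fin 4) F) = z • (1 : Matrix (Fin 4) (Fin 4) F)) :
    ((P⁻¹ * g * P : GL (Fin 4) F) : Matrix (Fin 4) (Fin 4) F) =
      z • (1 : Matrix (Fin 4) (Fin 4) F) := by
  rw [Units.val_mul, Units.val_mul, hg, Matrix.mul_smul, Matrix.mul_one, Matrix.smul_mul,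
    ← Units.val_mul, inv_mul_cancel, Units.val_one]

theorem elus_of_conj (r : ℕ) (N N' : Subgroup (GL (Fin 4) F)) (P : GL (Fin 4) F)
    (hN : ∀ g, g ∈ N ↔ P⁻¹ * g * P ∈ N') (h : Elus r N') : Elus r N := by
  intro x hx hxr hxns
  obtain ⟨z, hz⟩ := hxr
  have h1 : (P⁻¹ * x * P) ^ r = P⁻¹ * x ^ r * P := by
    have := conj_pow (a := P⁻¹) (b := x) (i := r)
    rw [inv_inv] at this
    exact this
  obtain ⟨g', hg', hmem⟩ := h (P⁻¹ * x * P) (conj_mem_SL P x hx)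
    ⟨z, by rw [h1]; exact conj_scalar P _ z hz⟩
    (by
      intro z' hz'
      apply hxns z'
      have := conj_scalar P⁻¹ _ z' hz'
      rw [inv_inv] at this
      rw [← this]
      congr 1
      group)
  refine ⟨P * g' * P⁻¹, ?_, ?_⟩
  · have := conj_mem_SL P⁻¹ g' hg'
    rwa [inv_inv] at this
  · rw [hN]
    have : P⁻¹ * ((P * g' * P⁻¹)⁻¹ * x * (P * g' * P⁻¹)) * P = g'⁻¹ * (P⁻¹ * x * P) * g' := by
      group
    rw [this]
    exact hmem

theorem elus_conj_iff (r : ℕ) (N N' : Subgroup (GL (Fin 4) F)) (P : GL (Fin 4) F)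
    (hN : ∀ g, g ∈ N ↔ P⁻¹ * g * P ∈ N') : Elus r N ↔ Elus r N' := by
  refine ⟨fun h => ?_, elus_of_conj r N N' P hN⟩
  apply elus_of_conj r N' N P⁻¹ _ h
  intro g
  rw [hN, inv_inv]
  have : P⁻¹ * (P * g * P⁻¹) * P = g := by group
  rw [this]

theorem normalizer_conj (R R' : Subgroup (GL (Fin 4) F)) (P : GL (Fin 4) F)
    (hR : ∀ g, g ∈ R ↔ P⁻¹ * g * P ∈ R') :
    ∀ g, g ∈ Cfsg.Geo.subgroupNormalizer R ↔ P⁻¹ * g * P ∈ Cfsg.Geo.subgroupNormalizer R' := by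
  intro g
  unfold Cfsg.Geo.subgroupNormalizer
  rw [Subgroup.mem_normalizer_iff, Subgroup.mem_normalizer_iff]
  constructor
  · intro h n
    have h1 := h (P * n * P⁻¹)
    rw [hR, hR] at h1
    have e1 : P⁻¹ * (P * n * P⁻¹) * P = n := by group
    have e2 : P⁻¹ * (g * (P * n * P⁻¹) * g⁻¹) * P = P⁻¹ * g * P * n * (P⁻¹ * g * P)⁻¹ := by group
    rw [e1, e2] at h1
    exact h1
  · intro h n
    have h1 := h (P⁻¹ * n * P)
    rw [hR, hR]
    have e2 : P⁻¹ * (g * n * g⁻¹) * P = P⁻¹ * g * P * (P⁻¹ * n * P) * (P⁻¹ * g * P)⁻¹ := by group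
    rw [e2]
    exact h1

/-! ### the order-3 element `t₁` -/

theorem one_add_i_mul (i : F) (hi : i ^ 2 = -1) : (1 + i) * (1 - i) = 2 := by
  linear_combination -hi

theorem i_sub_one_ne_zero (i : F) (hi : i ^ 2 = -1) (h2 : (2 : F) ≠ 0) : i - 1 ≠ 0 := by
  intro h
  have : i = 1 := sub_eq_zero.mp h
  rw [this] at hi
  apply h2
  linear_combination hi

theorem one_add_i_ne_zero (i : F) (hi : i ^ 2 = -1) (h2 : (2 : F) ≠ 0) : 1 + i ≠ 0 := by
  intro h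
  have := one_add_i_mul i hi
  rw [h, zero_mul] at this
  exact h2 this.symm

/-- `(T ⊗ 1)² + (1 - i) (T ⊗ 1) - 2i = 0`. -/
theorem T1m_quad (i : F) (hi : i ^ 2 = -1) :
    T1m i * T1m i = (1 - i) • T1m i + (2 * i) • (1 : Matrix (Fin 4) (Fin 4) F) := by
  have hi' : i * i = -1 := by rw [← pow_two]; exact hi
  ext a b
  fin_cases a <;> fin_cases b <;>
    simp [T1m, Matrix.mul_apply, Fin.sum_univ_four, hi'] <;> ring_nf <;> simp [hi] <;> ring

/-- the element `t₁ = (i - 1)⁻¹ (T ⊗ 1)` with `t₁² + t₁ + 1 = 0`. -/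
def t1g (i : F) (hi : i ^ 2 = -1) (h2 : (2 : F) ≠ 0) : GL (Fin 4) F :=
  scg (Units.mk0 (i - 1) (i_sub_one_ne_zero i hi h2))⁻¹ * T1g i hi h2

theorem t1g_val (i : F) (hi : i ^ 2 = -1) (h2 : (2 : F) ≠ 0) :
    ((t1g i hi h2 : GL (Fin 4) F) : Matrix (Fin 4) (Fin 4) F) = (i - 1)⁻¹ • T1m i := by
  unfold t1g
  rw [Units.val_mul, scg_val, T1g_val, Matrix.smul_mul, Matrix.one_mul]
  rfl

theorem t1g_quad (i : F) (hi : i ^ 2 = -1) (h2 : (2 : F) ≠ 0) :
    ((t1g i hi h2 : GL (Fin 4) F) : Matrix (Fin 4) (Fin 4) F) *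
      ((t1g i hi h2 : GL (Fin 4) F) : Matrix (Fin 4) (Fin 4) F) +
      ((t1g i hi h2 : GL (Fin 4) F) : Matrix (Fin 4) (Fin 4) F) + 1 = 0 := by
  have hne := i_sub_one_ne_zero i hi h2
  rw [t1g_val, Matrix.smul_mul, Matrix.mul_smul, T1m_quad i hi, smul_add, smul_add, smul_smul,
    smul_smul, smul_smul, smul_smul]
  have e1 : (i - 1)⁻¹ * (i - 1)⁻¹ * (1 - i) = -(i - 1)⁻¹ := by
    field_simp
    ring
  have e2 : (i - 1)⁻¹ * (i - 1)⁻¹ * (2 * i) = -1 := by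
    field_simp
    linear_combination hi
  rw [e1, e2]
  simp

theorem t1g_mem_normalizer [Finite F] (i : F) (hi : i ^ 2 = -1) (h2 : (2 : F) ≠ 0) :
    t1g i hi h2 ∈ Subgroup.normalizer (R0 i hi : Set (GL (Fin 4) F)) :=
  Subgroup.mul_mem _ (scg_mem_normalizer _ _) (T1g_mem_normalizer i hi h2)

/-! ### the order-5 element `y₅` -/

/-- `(1 ⊗ T) * P3`. -/
def Am (i : F) : Matrix (Fin 4) (Fin 4) F := !![1, 1, 0, 0; 0, 0, 1, 1; i, -i, 0, 0; 0, 0, -i, i]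

/-- the square of `Am`. -/
def A2m (i : F) : Matrix (Fin 4) (Fin 4) F :=
  !![1, 1, 1, 1; i, -i, -i, i; i, i, -i, -i; 1, -1, 1, -1]

/-- the fourth power of `Am`. -/
def A4m (i : F) : Matrix (Fin 4) (Fin 4) F :=
  !![2 + 2 * i, 0, 2 - 2 * i, 0; 2 + 2 * i, 0, -2 + 2 * i, 0; 0, 2 + 2 * i, 0, -2 + 2 * i;
    0, 2 + 2 * i, 0, 2 - 2 * i]

theorem T2m_mul_P3m (i : F) : T2m i * P3m = Am i := by
  ext a b
  fin_cases a <;> fin_cases b <;> simp [T2m, P3m, Am, Matrix.mul_apply, Fin.sum_univ_four]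

theorem Am_sq (i : F) (hi : i ^ 2 = -1) : Am i * Am i = A2m i := by
  have hi' : i * i = -1 := by rw [← pow_two]; exact hi
  ext a b
  fin_cases a <;> fin_cases b <;> simp [Am, A2m, Matrix.mul_apply, Fin.sum_univ_four, hi']

theorem A2m_sq (i : F) (hi : i ^ 2 = -1) : A2m i * A2m i = A4m i := by
  have hi' : i * i = -1 := by rw [← pow_two]; exact hi
  ext a b
  fin_cases a <;> fin_cases b <;>
    simp [A2m, A4m, Matrix.mul_apply, Fin.sum_univ_four, hi'] <;> ring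

theorem A4m_mul (i : F) (hi : i ^ 2 = -1) :
    A4m i * Am i = (4 + 4 * i) • (1 : Matrix (Fin 4) (Fin 4) F) := by
  ext a b
  fin_cases a <;> fin_cases b <;>
    simp [A4m, Am, Matrix.mul_apply, Fin.sum_univ_four] <;>
    first
      | linear_combination (-2 : F) * hi
      | linear_combination (2 : F) * hi

theorem Am_pow_five (i : F) (hi : i ^ 2 = -1) :
    Am i ^ 5 = (4 + 4 * i) • (1 : Matrix (Fin 4) (Fin 4) F) := by
  have : Am i ^ 5 = (Am i * Am i) * (Am i * Am i) * Am i := by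
    rw [pow_succ, pow_succ, pow_succ, pow_succ, pow_one]
    simp only [mul_assoc]
  rw [this, Am_sq i hi, A2m_sq i hi, A4m_mul i hi]

theorem neg_one_add_i_pow_five (i : F) (hi : i ^ 2 = -1) : (-(1 + i)) ^ 5 = 4 + 4 * i := by
  have h4 : i ^ 4 = 1 := by
    calc i ^ 4 = (i ^ 2) ^ 2 := by ring
      _ = 1 := by rw [hi]; ring
  have h3 : i ^ 3 = -i := by
    calc i ^ 3 = i ^ 2 * i := by ring
      _ = -i := by rw [hi]; ring
  have h5 : i ^ 5 = i := by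
    calc i ^ 5 = i ^ 4 * i := by ring
      _ = i := by rw [h4]; ring
  calc (-(1 + i)) ^ 5 = -(1 + 5 * i + 10 * i ^ 2 + 10 * i ^ 3 + 5 * i ^ 4 + i ^ 5) := by ring
    _ = 4 + 4 * i := by rw [hi, h3, h4, h5]; ring

/-- the unit `-(1 + i)`. -/
def gam (i : F) (hi : i ^ 2 = -1) (h2 : (2 : F) ≠ 0) : Fˣ :=
  Units.mk0 (-(1 + i)) (neg_ne_zero.mpr (one_add_i_ne_zero i hi h2))

/-- the element `y₅ = (-(1+i))⁻¹ (1 ⊗ T) P3` of order 5. -/
def y5g (i : F) (hi : i ^ 2 = -1) (h2 : (2 : F) ≠ 0) : GL (Fin 4) F :=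
  scg (gam i hi h2)⁻¹ * (T2g i hi h2 * P3g)

theorem y5g_pow (i : F) (hi : i ^ 2 = -1) (h2 : (2 : F) ≠ 0) : y5g i hi h2 ^ 5 = 1 := by
  unfold y5g
  have hc : Commute (scg (gam i hi h2)⁻¹) (T2g i hi h2 * P3g) := scg_comm _ _
  rw [hc.mul_pow, scg_pow]
  apply Units.ext
  have hA : ((T2g i hi h2 * P3g : GL (Fin 4) F) : Matrix (Fin 4) (Fin 4) F) = Am i := by
    rw [Units.val_mul, T2g_val, P3g_val, T2m_mul_P3m]
  rw [Units.val_mul, scg_val, Units.val_pow_eq_pow_val (T2g i hi h2 * P3g), hA,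
    Am_pow_five i hi, Units.val_one, Matrix.smul_mul, Matrix.one_mul, smul_smul]
  have : ((((gam i hi h2)⁻¹ ^ 5 : Fˣ) : F)) * (4 + 4 * i) = 1 := by
    rw [← neg_one_add_i_pow_five i hi]
    have : (-(1 + i)) ^ 5 = (((gam i hi h2) ^ 5 : Fˣ) : F) := by
      rw [Units.val_pow_eq_pow_val]; rfl
    rw [this, ← Units.val_mul, ← mul_pow, inv_mul_cancel, one_pow, Units.val_one]
  rw [this, one_smul]

theorem y5g_ne_one (i : F) (hi : i ^ 2 = -1) (h2 : (2 : F) ≠ 0) : y5g i hi h2 ≠ 1 := by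
  intro h
  have h1 := congrArg (fun u : GL (Fin 4) F => (u : Matrix (Fin 4) (Fin 4) F) 0 1) h
  unfold y5g at h1
  simp only [Units.val_mul, scg_val, T2g_val, P3g_val, T2m_mul_P3m, Matrix.smul_mul,
    Matrix.one_mul, Matrix.smul_apply, Units.val_one, smul_eq_mul] at h1
  have e : Am i 0 1 = 1 := by simp [Am]
  have e2 : (1 : Matrix (Fin 4) (Fin 4) F) 0 1 = 0 := by simp
  rw [e, e2, mul_one] at h1
  exact Units.ne_zero _ h1

theorem y5g_orderOf (i : F) (hi : i ^ 2 = -1) (h2 : (2 : F) ≠ 0) : orderOf (y5g i hi h2) = 5 := by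
  have : Fact (Nat.Prime 5) := ⟨by norm_num⟩
  exact orderOf_eq_prime (y5g_pow i hi h2) (y5g_ne_one i hi h2)

theorem y5g_mem_normalizer [Finite F] (i : F) (hi : i ^ 2 = -1) (h2 : (2 : F) ≠ 0) :
    y5g i hi h2 ∈ Subgroup.normalizer (R0 i hi : Set (GL (Fin 4) F)) :=
  Subgroup.mul_mem _ (scg_mem_normalizer _ _)
    (Subgroup.mul_mem _ (T2g_mem_normalizer i hi h2) (P3g_mem_normalizer i hi))

/-! ### the case `r = 5` -/

section five

variable [Fintype F] {p : ℕ} [Fact p.Prime] [CharP F p]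

omit [CharP F p] in
theorem coprime_card_units_five (hF : Fintype.card F = p) (h5 : orderOf (p : ZMod 5) = 4) :
    Nat.Coprime (Nat.card Fˣ) 5 := by
  have hp : p.Prime := Fact.out
  have hc : Nat.card Fˣ = p - 1 := by
    rw [Nat.card_units, Nat.card_eq_fintype_card, hF]
  rw [hc, Nat.coprime_comm, Nat.Prime.coprime_iff_not_dvd (by norm_num)]
  intro hd
  have h1 : (p : ZMod 5) = 1 := by
    have h0 : ((p - 1 : ℕ) : ZMod 5) = 0 := (ZMod.natCast_eq_zero_iff _ _).mpr hd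
    rw [Nat.cast_sub hp.one_lt.le, Nat.cast_one, sub_eq_zero] at h0
    exact h0
  rw [h1, orderOf_one] at h5
  norm_num at h5

theorem elus_five (hF : Fintype.card F = p) (h5 : orderOf (p : ZMod 5) = 4) (i : F)
    (hi : i ^ 2 = -1) (h2 : (2 : F) ≠ 0) (N : Subgroup (GL (Fin 4) F))
    (hsc : ∀ c : Fˣ, scg c ∈ N) (hy : y5g i hi h2 ∈ N) : Elus 5 N := by
  intro x hx hxr hns
  obtain ⟨z, hz⟩ := hxr
  have hcop := coprime_card_units_five (F := F) hF h5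
  have hinj : ∀ u : Fˣ, u ^ 5 = 1 → u = 1 := by
    intro u hu
    apply (powCoprime hcop).injective
    rw [powCoprime_apply, powCoprime_apply, hu, one_pow]
  have hz0 : z ≠ 0 := by
    intro h0
    rw [h0, zero_smul] at hz
    have h1 : ((x ^ 5 : GL (Fin 4) F) : Matrix (Fin 4) (Fin 4) F) *
        (((x ^ 5)⁻¹ : GL (Fin 4) F) : Matrix (Fin 4) (Fin 4) F) = 1 := by
      rw [← Units.val_mul, mul_inv_cancel, Units.val_one]
    rw [hz, zero_mul] at h1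
    exact zero_ne_one h1
  obtain ⟨μ, hμ⟩ := (powCoprime hcop).surjective (Units.mk0 z hz0)
  rw [powCoprime_apply] at hμ
  have hx5 : x ^ 5 = scg (Units.mk0 z hz0) := by
    apply Units.ext
    rw [hz, scg_val]
    rfl
  obtain ⟨x', hx'⟩ : ∃ x', x' = scg μ⁻¹ * x := ⟨_, rfl⟩
  have hxx' : x = scg μ * x' := by
    rw [hx', ← mul_assoc, scg_mul, mul_inv_cancel, scg_one, one_mul]
  have hx'5 : x' ^ 5 = 1 := by
    rw [hx', (show Commute (scg μ⁻¹) x from scg_comm _ _).mul_pow, scg_pow, hx5, scg_mul, inv_pow,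
      hμ, inv_mul_cancel, scg_one]
  have hdet : ∀ g : GL (Fin 4) F, g ^ 5 = 1 → g ∈ Cfsg.Geo.specialLinear (Fin 4) F := by
    intro g hg
    unfold Cfsg.Geo.specialLinear
    rw [MonoidHom.mem_ker]
    apply hinj
    rw [← map_pow, hg, map_one]
  have hx'1 : x' ≠ 1 := by
    intro h1
    rw [h1, mul_one] at hxx'
    apply hns (μ : F)
    rw [hxx', scg_val]
  obtain ⟨g, hg, k, hk⟩ := Cfsg.Agent.Helper9.XS.conj_pow_of_order_five_fin4 hF h5
    (Cfsg.Geo.specialLinear (Fin 4) F) (hdet x' hx'5) (hdet _ (y5g_pow i hi h2))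
    (y5g_orderOf i hi h2) hx'5 hx'1
  refine ⟨g, hg, ?_⟩
  have e : g⁻¹ * x * g = scg μ * (g⁻¹ * x' * g) := by
    calc g⁻¹ * x * g = (g⁻¹ * scg μ) * x' * g := by rw [hxx']; simp only [mul_assoc]
      _ = (scg μ * g⁻¹) * x' * g := by rw [← scg_comm μ g⁻¹]
      _ = scg μ * (g⁻¹ * x' * g) := by simp only [mul_assoc]
  rw [e, hk]
  exact N.mul_mem (hsc μ) (N.pow_mem hy k)

end five

end Cfsg.Agent.Helper2.SymT
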