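import Mathlib
import Cfsg.Prelude.Def_GeometricClasses
import Cfsg.Agent.Helper2.SymTG
import Cfsg.Agent.Helper9.S4ObsE

set_option autoImplicit false

/-!
# S6000: the derangements

Elements of `SL₄(F)` of order `r` modulo scalars no conjugate of which normalizes `R`, for
`r ∉ {2, 3, 5}`, for `r = char F`, for `r = 3` when `F` has a primitive cube root of unity, and for
`r = 5` when `X² + X - 1` has a root in `F`.
-/

namespace Cfsg.Agent.Helper2.SymT

open Matrix Cfsg.Agent.Helper9.S4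

variable {F : Type*} [Field F]

theorem det_fin_four {K : Type*} [CommRing K] (A : Matrix (Fin 4) (Fin 4) K) :
    A.det =
      A 0 0 * (A 1 1 * A 2 2 * A 3 3 - A 1 1 * A 2 3 * A 3 2 - A 1 2 * A 2 1 * A 3 3 +
        A 1 2 * A 2 3 * A 3 1 + A 1 3 * A 2 1 * A 3 2 - A 1 3 * A 2 2 * A 3 1) -
      A 0 1 * (A 1 0 * A 2 2 * A 3 3 - A 1 0 * A 2 3 * A 3 2 - A 1 2 * A 2 0 * A 3 3 +
        A 1 2 * A 2 3 * A 3 0 + A 1 3 * A 2 0 * A 3 2 - A 1 3 * A 2 2 * A 3 0) +
      A 0 2 * (A 1 0 * A 2 1 * A 3 3 - A 1 0 * A 2 3 * A 3 1 - A 1 1 * A 2 0 * A 3 3 +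
        A 1 1 * A 2 3 * A 3 0 + A 1 3 * A 2 0 * A 3 1 - A 1 3 * A 2 1 * A 3 0) -
      A 0 3 * (A 1 0 * A 2 1 * A 3 2 - A 1 0 * A 2 2 * A 3 1 - A 1 1 * A 2 0 * A 3 2 +
        A 1 1 * A 2 2 * A 3 0 + A 1 2 * A 2 0 * A 3 1 - A 1 2 * A 2 1 * A 3 0) := by
  rw [Matrix.det_succ_row_zero]
  simp only [Fin.sum_univ_succ, Matrix.det_fin_three, Matrix.submatrix_apply]
  simp [Fin.succAbove]
  ring

theorem mem_SL_iff (x : GL (Fin 4) F) :
    x ∈ Cfsg.Geo.specialLinear (Fin 4) F ↔ (x : Matrix (Fin 4) (Fin 4) F).det = 1 := by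
  unfold Cfsg.Geo.specialLinear
  rw [MonoidHom.mem_ker, Units.ext_iff, Matrix.GeneralLinearGroup.val_det_apply, Units.val_one]

theorem trace_conj' (g x : GL (Fin 4) F) :
    Matrix.trace ((g⁻¹ * x * g : GL (Fin 4) F) : Matrix (Fin 4) (Fin 4) F) =
      Matrix.trace (x : Matrix (Fin 4) (Fin 4) F) := by
  have := Cfsg.Agent.Helper9.S4.trace_conj g⁻¹ x
  rwa [inv_inv] at this

/-- From `Elus`: a conjugate inside `N` with the same scalar power, still not scalar. -/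
theorem elus_obtain {r : ℕ} {N : Subgroup (GL (Fin 4) F)} (h : Elus r N) {x : GL (Fin 4) F}
    (hx : x ∈ Cfsg.Geo.specialLinear (Fin 4) F) {z : F}
    (hz : ((x ^ r : GL (Fin 4) F) : Matrix (Fin 4) (Fin 4) F) =
      z • (1 : Matrix (Fin 4) (Fin 4) F))
    (hns : ∀ c : F, (x : Matrix (Fin 4) (Fin 4) F) ≠ c • (1 : Matrix (Fin 4) (Fin 4) F)) :
    ∃ g : GL (Fin 4) F, g⁻¹ * x * g ∈ N ∧
      (((g⁻¹ * x * g) ^ r : GL (Fin 4) F) : Matrix (Fin 4) (Fin 4) F) =
        z • (1 : Matrix (Fin 4) (Fin 4) F) ∧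
      (∀ c : F, ((g⁻¹ * x * g : GL (Fin 4) F) : Matrix (Fin 4) (Fin 4) F) ≠
        c • (1 : Matrix (Fin 4) (Fin 4) F)) := by
  obtain ⟨g, -, hg⟩ := h x hx ⟨z, hz⟩ hns
  refine ⟨g, hg, ?_, ?_⟩
  · have h1 : (g⁻¹ * x * g) ^ r = g⁻¹ * x ^ r * g := by
      have := conj_pow (a := g⁻¹) (b := x) (i := r)
      rw [inv_inv] at this
      exact this
    rw [h1]
    exact conj_scalar g _ z hz
  · intro c hc
    apply hns c
    have := conj_scalar g⁻¹ _ c hc
    rw [inv_inv] at this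
    rw [← this]
    congr 1
    group

/-! ### `r ∉ {2, 3, 5}` -/

theorem not_elus_generic [Fintype F] {R : Subgroup (GL (Fin 4) F)} (D : S4Data R)
    (h2 : (2 : F) ≠ 0) {r : ℕ} [hr : Fact r.Prime] (hr2 : r ≠ 2) (hr3 : r ≠ 3) (hr5 : r ≠ 5)
    (hΩ : r ∣ (Cfsg.Geo.subgroupNormalizer R).relIndex (Cfsg.Geo.specialLinear (Fin 4) F)) :
    ¬ Elus r (Cfsg.Geo.subgroupNormalizer R) := by
  intro h
  have : Finite (GL (Fin 4) F) :=
    Finite.of_injective (fun g : GL (Fin 4) F => (g : Matrix (Fin 4) (Fin 4) F))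
      Units.val_injective
  have hdvd : r ∣ Nat.card (Cfsg.Geo.specialLinear (Fin 4) F) :=
    dvd_trans hΩ (Subgroup.relIndex_dvd_card _ _)
  obtain ⟨x, hx⟩ := exists_prime_orderOf_dvd_card' r hdvd
  have hxr : (x : GL (Fin 4) F) ^ r = 1 := by
    rw [← Subgroup.coe_pow, ← hx, pow_orderOf_eq_one, Subgroup.coe_one]
  have hz : (((x : GL (Fin 4) F) ^ r : GL (Fin 4) F) : Matrix (Fin 4) (Fin 4) F) =
      (1 : F) • (1 : Matrix (Fin 4) (Fin 4) F) := by
    rw [hxr, Units.val_one, one_smul]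
  have hns : ∀ c : F, ((x : GL (Fin 4) F) : Matrix (Fin 4) (Fin 4) F) ≠
      c • (1 : Matrix (Fin 4) (Fin 4) F) := by
    intro c hc
    have hdet : ((x : GL (Fin 4) F) : Matrix (Fin 4) (Fin 4) F).det = 1 := (mem_SL_iff _).mp x.2
    rw [hc, Matrix.det_smul, Matrix.det_one, mul_one, Fintype.card_fin] at hdet
    have hcr : c ^ r = 1 := by
      have h1 : (((x : GL (Fin 4) F) ^ r : GL (Fin 4) F) : Matrix (Fin 4) (Fin 4) F) =
          c ^ r • (1 : Matrix (Fin 4) (Fin 4) F) := by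
        rw [Units.val_pow_eq_pow_val, hc, smul_pow, one_pow]
      rw [hz] at h1
      exact (smul_one_inj h1).symm
    have hc1 : c = 1 := by
      have hcop : Nat.Coprime r (2 ^ 2) :=
        Nat.Coprime.pow_right 2 ((Nat.coprime_primes hr.out Nat.prime_two).mpr hr2)
      have h1 : orderOf c ∣ r := orderOf_dvd_of_pow_eq_one hcr
      have h2' : orderOf c ∣ 2 ^ 2 := orderOf_dvd_of_pow_eq_one hdet
      have h3 := Nat.dvd_gcd h1 h2'
      have h4 : Nat.gcd r (2 ^ 2) = 1 := hcop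
      rw [h4] at h3
      exact orderOf_eq_one_iff.mp (Nat.dvd_one.mp h3)
    have hx1 : x = 1 := by
      apply Subtype.ext
      apply Units.ext
      rw [hc, hc1, one_smul]
      rfl
    rw [hx1, orderOf_one] at hx
    exact hr.out.one_lt.ne hx
  obtain ⟨g, hgN, hgz, hgns⟩ := elus_obtain h x.2 hz hns
  obtain ⟨c, hc⟩ := D.scalar_of_pow_prime h2 hgN hr2 hr3 hr5 hgz
  exact hgns c hc

/-! ### `r = char F` -/

/-- The transvection `1 + E₀₁`. -/
def tvg : GL (Fin 4) F :=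
  ⟨transvection 0 1 1, transvection 0 1 (-1),
    by rw [transvection_mul_transvection_same _ _ (by decide), add_neg_cancel, transvection_zero],
    by rw [transvection_mul_transvection_same _ _ (by decide), neg_add_cancel, transvection_zero]⟩

theorem tvg_val' : ((tvg : GL (Fin 4) F) : Matrix (Fin 4) (Fin 4) F) = transvection 0 1 1 := rfl

theorem tvg_pow (k : ℕ) :
    (((tvg : GL (Fin 4) F) ^ k : GL (Fin 4) F) : Matrix (Fin 4) (Fin 4) F) =
      transvection 0 1 (k : F) := by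
  induction k with
  | zero => rw [pow_zero, Units.val_one, Nat.cast_zero, transvection_zero]
  | succ k ih =>
    rw [pow_succ, Units.val_mul, ih, tvg_val', transvection_mul_transvection_same _ _ (by decide),
      Nat.cast_succ]

theorem tvg_val : ((tvg : GL (Fin 4) F) : Matrix (Fin 4) (Fin 4) F) =
    1 + vecMulVec (Pi.single 0 1) (Pi.single 1 1) := by
  rw [tvg_val', transvection, Matrix.single_eq_single_vecMulVec_single]

theorem conj_transvection_val (g x : GL (Fin 4) F) (u φ : Fin 4 → F)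
    (hx : (x : Matrix (Fin 4) (Fin 4) F) = 1 + vecMulVec u φ) :
    ((g⁻¹ * x * g : GL (Fin 4) F) : Matrix (Fin 4) (Fin 4) F) =
      1 + vecMulVec (((g⁻¹ : GL (Fin 4) F) : Matrix (Fin 4) (Fin 4) F) *ᵥ u)
        (φ ᵥ* (g : Matrix (Fin 4) (Fin 4) F)) := by
  rw [Units.val_mul, Units.val_mul, hx, Matrix.mul_add, Matrix.add_mul, Matrix.mul_one,
    ← Units.val_mul, inv_mul_cancel, Units.val_one, mul_vecMulVec, vecMulVec_mul]

theorem not_elus_char [Fintype F] {p : ℕ} [Fact p.Prime] [CharP F p]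
    {R : Subgroup (GL (Fin 4) F)} (D : S4Data R) (h2 : (2 : F) ≠ 0) :
    ¬ Elus p (Cfsg.Geo.subgroupNormalizer R) := by
  intro h
  have hx : (tvg : GL (Fin 4) F) ∈ Cfsg.Geo.specialLinear (Fin 4) F := by
    rw [mem_SL_iff, tvg_val']
    exact det_transvection_of_ne _ _ (by decide) _
  have hz : (((tvg : GL (Fin 4) F) ^ p : GL (Fin 4) F) : Matrix (Fin 4) (Fin 4) F) =
      (1 : F) • (1 : Matrix (Fin 4) (Fin 4) F) := by
    rw [tvg_pow, CharP.cast_eq_zero, transvection_zero, one_smul]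
  have hns : ∀ c : F, ((tvg : GL (Fin 4) F) : Matrix (Fin 4) (Fin 4) F) ≠
      c • (1 : Matrix (Fin 4) (Fin 4) F) := by
    intro c hc
    have h01 := congrFun (congrFun hc 0) 1
    rw [tvg_val', transvection] at h01
    simp at h01
  obtain ⟨g, hgN, hgz, hgns⟩ := elus_obtain h hx hz hns
  have hval := conj_transvection_val g tvg _ _ tvg_val
  have hdot : ((Pi.single 1 1 : Fin 4 → F) ᵥ* (g : Matrix (Fin 4) (Fin 4) F)) ⬝ᵥ
      (((g⁻¹ : GL (Fin 4) F) : Matrix (Fin 4) (Fin 4) F) *ᵥ (Pi.single 0 1 : Fin 4 → F)) = 0 := by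
    rw [← dotProduct_mulVec, mulVec_mulVec, ← Units.val_mul, mul_inv_cancel, Units.val_one,
      one_mulVec]
    simp
  have h1 := D.no_transvection h2 hgN _ _ hdot hval
  apply hgns 1
  rw [h1, Units.val_one, one_smul]

/-! ### `r = 3` with a primitive cube root of unity -/

/-- `diag(ω, ω, ω, 1)`. -/
def D3m (ω : F) : Matrix (Fin 4) (Fin 4) F := !![ω, 0, 0, 0; 0, ω, 0, 0; 0, 0, ω, 0; 0, 0, 0, 1]

/-- `diag(ω², ω², ω², 1)`. -/
def D3m' (ω : F) : Matrix (Fin 4) (Fin 4) F :=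
  !![ω ^ 2, 0, 0, 0; 0, ω ^ 2, 0, 0; 0, 0, ω ^ 2, 0; 0, 0, 0, 1]

theorem D3m_mul (ω : F) (hω : ω ^ 2 + ω + 1 = 0) : D3m ω * D3m' ω = 1 := by
  ext a b
  fin_cases a <;> fin_cases b <;> simp [D3m, D3m', Matrix.mul_apply, Fin.sum_univ_four] <;>
    linear_combination (ω - 1) * hω

theorem D3m_mul' (ω : F) (hω : ω ^ 2 + ω + 1 = 0) : D3m' ω * D3m ω = 1 := by
  ext a b
  fin_cases a <;> fin_cases b <;> simp [D3m, D3m', Matrix.mul_apply, Fin.sum_univ_four] <;>
    linear_combination (ω - 1) * hω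

theorem D3m_sq (ω : F) : D3m ω * D3m ω = D3m' ω := by
  ext a b
  fin_cases a <;> fin_cases b <;> simp [D3m, D3m', Matrix.mul_apply, Fin.sum_univ_four] <;> ring

/-- `diag(ω, ω, ω, 1)` as an element of `GL₄`. -/
def d3g (ω : F) (hω : ω ^ 2 + ω + 1 = 0) : GL (Fin 4) F :=
  ⟨D3m ω, D3m' ω, D3m_mul ω hω, D3m_mul' ω hω⟩

theorem not_elus_three [Fintype F] {R : Subgroup (GL (Fin 4) F)} (D : S4Data R)
    (h2 : (2 : F) ≠ 0) (h3 : (3 : F) ≠ 0) (ω : F) (hω : ω ^ 2 + ω + 1 = 0) :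
    ¬ Elus 3 (Cfsg.Geo.subgroupNormalizer R) := by
  intro h
  have hω3 : ω ^ 3 = 1 := by linear_combination (ω - 1) * hω
  have hx : d3g ω hω ∈ Cfsg.Geo.specialLinear (Fin 4) F := by
    rw [mem_SL_iff]
    show (D3m ω).det = 1
    rw [det_fin_four]
    simp [D3m]
    linear_combination hω3
  have hz : (((d3g ω hω) ^ 3 : GL (Fin 4) F) : Matrix (Fin 4) (Fin 4) F) =
      (1 : F) • (1 : Matrix (Fin 4) (Fin 4) F) := by
    rw [Units.val_pow_eq_pow_val, one_smul]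
    show D3m ω ^ 3 = 1
    rw [pow_succ, pow_two, D3m_sq, D3m_mul' ω hω]
  have hns : ∀ c : F, ((d3g ω hω : GL (Fin 4) F) : Matrix (Fin 4) (Fin 4) F) ≠
      c • (1 : Matrix (Fin 4) (Fin 4) F) := by
    intro c hc
    have h00 := congrFun (congrFun hc 0) 0
    have h33 := congrFun (congrFun hc 3) 3
    change D3m ω 0 0 = _ at h00
    change D3m ω 3 3 = _ at h33
    simp [D3m] at h00 h33
    rw [← h33] at h00
    rw [h00] at hω
    apply h3
    linear_combination hω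
  obtain ⟨g, hgN, hgz, hgns⟩ := elus_obtain h hx hz hns
  have htr := D.trace_of_pow_three h2 hgN hgz hgns
  have e1 : (g⁻¹ * d3g ω hω * g)⁻¹ = g⁻¹ * (d3g ω hω)⁻¹ * g := by group
  rw [e1, trace_conj', trace_conj'] at htr
  have t1 : Matrix.trace ((d3g ω hω : GL (Fin 4) F) : Matrix (Fin 4) (Fin 4) F) = 3 * ω + 1 := by
    show Matrix.trace (D3m ω) = _
    simp [Matrix.trace, Fin.sum_univ_four, D3m]
    ring
  have t2 : Matrix.trace (((d3g ω hω)⁻¹ : GL (Fin 4) F) : Matrix (Fin 4) (Fin 4) F) =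
      3 * ω ^ 2 + 1 := by
    show Matrix.trace (D3m' ω) = _
    simp [Matrix.trace, Fin.sum_univ_four, D3m']
    ring
  rw [t1, t2] at htr
  rcases htr with h' | h'
  · apply h2
    have : (3 : F) * 2 = 0 := by linear_combination h' - (9 * ω - 6) * hω
    rcases mul_eq_zero.mp this with h0 | h0
    · exact absurd h0 h3
    · exact h0
  · apply h3
    linear_combination h' - (9 * ω - 6) * hω

/-! ### `r = 5` when `X² + X - 1` has a root -/

/-- the companion matrix of `X² - ηX + 1`, extended by the identity. -/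
def X5m (η : F) : Matrix (Fin 4) (Fin 4) F := !![0, -1, 0, 0; 1, η, 0, 0; 0, 0, 1, 0; 0, 0, 0, 1]

/-- the inverse of `X5m`. -/
def X5m' (η : F) : Matrix (Fin 4) (Fin 4) F := !![η, 1, 0, 0; -1, 0, 0, 0; 0, 0, 1, 0; 0, 0, 0, 1]

/-- the square of `X5m`. -/
def X52m (η : F) : Matrix (Fin 4) (Fin 4) F :=
  !![-1, -η, 0, 0; η, -η, 0, 0; 0, 0, 1, 0; 0, 0, 0, 1]

theorem X5m_mul (η : F) : X5m η * X5m' η = 1 := by
  ext a b
  fin_cases a <;> fin_cases b <;> simp [X5m, X5m', Matrix.mul_apply, Fin.sum_univ_four]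

theorem X5m_mul' (η : F) : X5m' η * X5m η = 1 := by
  ext a b
  fin_cases a <;> fin_cases b <;> simp [X5m, X5m', Matrix.mul_apply, Fin.sum_univ_four]

theorem X5m_sq (η : F) (hη : η ^ 2 + η - 1 = 0) : X5m η * X5m η = X52m η := by
  ext a b
  fin_cases a <;> fin_cases b <;> simp [X5m, X52m, Matrix.mul_apply, Fin.sum_univ_four] <;>
    linear_combination hη

theorem X52m_sq (η : F) (hη : η ^ 2 + η - 1 = 0) : X52m η * X52m η = X5m' η := by
  ext a b
  fin_cases a <;> fin_cases b <;> simp [X5m', X52m, Matrix.mul_apply, Fin.sum_univ_four] <;>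
    first
      | linear_combination hη
      | linear_combination -hη

/-- `X5m` as an element of `GL₄`. -/
def x5g (η : F) : GL (Fin 4) F := ⟨X5m η, X5m' η, X5m_mul η, X5m_mul' η⟩

theorem not_elus_five [Fintype F] {R : Subgroup (GL (Fin 4) F)} (D : S4Data R)
    (h2 : (2 : F) ≠ 0) (h5 : (5 : F) ≠ 0) (η : F) (hη : η ^ 2 + η - 1 = 0) :
    ¬ Elus 5 (Cfsg.Geo.subgroupNormalizer R) := by
  intro h
  have hx : x5g η ∈ Cfsg.Geo.specialLinear (Fin 4) F := by
    rw [mem_SL_iff]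
    show (X5m η).det = 1
    rw [det_fin_four]
    simp [X5m]
  have hz : (((x5g η) ^ 5 : GL (Fin 4) F) : Matrix (Fin 4) (Fin 4) F) =
      (1 : F) • (1 : Matrix (Fin 4) (Fin 4) F) := by
    rw [Units.val_pow_eq_pow_val, one_smul]
    show X5m η ^ 5 = 1
    have : X5m η ^ 5 = (X5m η * X5m η) * (X5m η * X5m η) * X5m η := by
      rw [pow_succ, pow_succ, pow_succ, pow_succ, pow_one]
      simp only [mul_assoc]
    rw [this, X5m_sq η hη, X52m_sq η hη, X5m_mul' η]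
  have hns : ∀ c : F, ((x5g η : GL (Fin 4) F) : Matrix (Fin 4) (Fin 4) F) ≠
      c • (1 : Matrix (Fin 4) (Fin 4) F) := by
    intro c hc
    have h01 := congrFun (congrFun hc 0) 1
    change X5m η 0 1 = _ at h01
    simp [X5m] at h01
  obtain ⟨g, hgN, hgz, hgns⟩ := elus_obtain h hx hz hns
  have htr := D.trace_of_pow_five h2 hgN hgz hgns
  have e1 : (g⁻¹ * x5g η * g)⁻¹ = g⁻¹ * (x5g η)⁻¹ * g := by group
  rw [e1, trace_conj', trace_conj'] at htr
  have t1 : Matrix.trace ((x5g η : GL (Fin 4) F) : Matrix (Fin 4) (Fin 4) F) = η + 2 := by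
    show Matrix.trace (X5m η) = _
    simp [Matrix.trace, Fin.sum_univ_four, X5m]
    ring
  have t2 : Matrix.trace (((x5g η)⁻¹ : GL (Fin 4) F) : Matrix (Fin 4) (Fin 4) F) = η + 2 := by
    show Matrix.trace (X5m' η) = _
    simp [Matrix.trace, Fin.sum_univ_four, X5m']
    ring
  rw [t1, t2] at htr
  apply h5
  linear_combination (3 * η - 1) * (htr - hη) - 9 * hη

/-! ### existence of the roots -/

theorem exists_omega [Fintype F] {p : ℕ} (hF : Fintype.card F = p) (hp3 : p % 3 = 1) :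
    ∃ ω : F, ω ^ 2 + ω + 1 = 0 := by
  have : Fact (Nat.Prime 3) := ⟨by norm_num⟩
  have hc : Nat.card Fˣ = p - 1 := by
    rw [Nat.card_units, Nat.card_eq_fintype_card, hF]
  have hdvd : 3 ∣ Nat.card Fˣ := by
    rw [hc]
    omega
  obtain ⟨u, hu⟩ := exists_prime_orderOf_dvd_card' 3 hdvd
  refine ⟨(u : F), ?_⟩
  have h3 : (u : F) ^ 3 = 1 := by
    rw [← Units.val_pow_eq_pow_val, ← hu, pow_orderOf_eq_one, Units.val_one]
  have h1 : (u : F) ≠ 1 := by
    intro h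
    have : u = 1 := Units.ext h
    rw [this, orderOf_one] at hu
    norm_num at hu
  have : ((u : F) - 1) * ((u : F) ^ 2 + (u : F) + 1) = 0 := by linear_combination h3
  rcases mul_eq_zero.mp this with h | h
  · exact absurd (sub_eq_zero.mp h) h1
  · exact h

theorem isSquare_of_orderOf_ne_four {p : ℕ} [Fact p.Prime] (hp5 : p ≠ 5)
    (h5 : orderOf (p : ZMod 5) ≠ 4) : IsSquare (p : ZMod 5) := by
  have hp : p.Prime := Fact.out
  have hne : (p : ZMod 5) ≠ 0 := by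
    intro h
    rw [ZMod.natCast_eq_zero_iff] at h
    exact hp5 ((Nat.prime_dvd_prime_iff_eq (by norm_num) hp).mp h).symm
  have key : ∀ a : ZMod 5, a ≠ 0 → (a ^ 2 = 1 → ∃ b : ZMod 5, a = b * b) ∧ a ^ 2 ^ 2 = 1 := by
    decide
  obtain ⟨k1, k2⟩ := key _ hne
  apply k1
  by_contra hsq
  apply h5
  have := orderOf_eq_prime_pow (p := 2) (n := 1) (x := (p : ZMod 5)) (by rwa [pow_one]) k2
  rw [this]
  norm_num

theorem exists_eta [Fintype F] {p : ℕ} [Fact p.Prime] [CharP F p] (hp4 : p % 4 = 1)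
    (hp5 : p ≠ 5) (h5 : orderOf (p : ZMod 5) ≠ 4) (h2 : (2 : F) ≠ 0) :
    ∃ η : F, η ^ 2 + η - 1 = 0 := by
  have : Fact (Nat.Prime 5) := ⟨by norm_num⟩
  have hsq := isSquare_of_orderOf_ne_four hp5 h5
  rw [← ZMod.exists_sq_eq_prime_iff_of_mod_four_eq_one hp4 (by norm_num)] at hsq
  obtain ⟨s, hs⟩ := hsq
  obtain ⟨t, ht⟩ : ∃ t : F, t = ZMod.castHom (dvd_refl p) F s := ⟨_, rfl⟩
  have h5t : (5 : F) = t * t := by
    have := congrArg (ZMod.castHom (dvd_refl p) F) hs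
    rw [map_mul, map_natCast, ← ht] at this
    rw [← this]
    norm_num
  refine ⟨(-1 + t) / 2, ?_⟩
  field_simp
  linear_combination -h5t

end Cfsg.Agent.Helper2.SymT
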