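import Mathlib
import Cfsg.Prelude.Def_GeometricClasses
import Cfsg.Agent.Helper2.SymTH
import Cfsg.Agent.Helper1.SymE3

set_option autoImplicit false

/-!
# S6000: the two directions

`elus_R0`: for `r = 2`, `r = 3` with `p ≡ 2 (mod 3)`, and `r = 5` with `p` of order 4 modulo 5,
every element of `SL₄(p)` of order `r` modulo scalars is `SL₄(p)`-conjugate into the normalizer of
the standard group `R0 i`.  `not_elus_of_not_listed`: for all other primes `r` dividing the index
there is a derangement.
-/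

namespace Cfsg.Agent.Helper2.SymT

open Matrix Cfsg.Agent.Helper9.S4

variable {F : Type*} [Field F] [Fintype F] {p : ℕ} [Fact p.Prime] [CharP F p]

omit [Fintype F] in
theorem natCast_ne_zero_of_prime_ne (q : ℕ) (hq : q.Prime) (hpq : p ≠ q) : ((q : ℕ) : F) ≠ 0 := by
  intro h
  rw [CharP.cast_eq_zero_iff F p] at h
  have hp : p.Prime := Fact.out
  exact hpq ((Nat.prime_dvd_prime_iff_eq hp hq).mp h)

omit [Fact p.Prime] [CharP F p] in
theorem card_units_eq (hF : Fintype.card F = p) : Nat.card Fˣ = p - 1 := by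
  rw [Nat.card_units, Nat.card_eq_fintype_card, hF]

theorem no_omega (hF : Fintype.card F = p) (hp3 : p % 3 = 2) : ∀ w : F, w ^ 2 + w + 1 ≠ 0 := by
  intro w hw
  have h3 : ((3 : ℕ) : F) ≠ 0 :=
    natCast_ne_zero_of_prime_ne 3 (by norm_num) (by intro h; rw [h] at hp3; norm_num at hp3)
  have hw3 : w ^ 3 = 1 := by linear_combination (w - 1) * hw
  have hw0 : w ≠ 0 := by
    intro h0
    rw [h0] at hw3
    norm_num at hw3
  have hw1 : w ≠ 1 := by
    intro h1
    rw [h1] at hw
    apply h3
    push_cast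
    linear_combination hw
  have : Fact (Nat.Prime 3) := ⟨by norm_num⟩
  have ho : orderOf (Units.mk0 w hw0) = 3 := by
    apply orderOf_eq_prime
    · apply Units.ext
      rw [Units.val_pow_eq_pow_val, Units.val_mk0, hw3, Units.val_one]
    · intro h
      apply hw1
      have := congrArg Units.val h
      rwa [Units.val_mk0, Units.val_one] at this
  have hdvd : 3 ∣ Nat.card Fˣ := by
    rw [← ho]
    exact orderOf_dvd_natCard _
  rw [card_units_eq hF] at hdvd
  have hp : p.Prime := Fact.out
  have := hp.two_le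
  omega

omit [CharP F p] in
theorem exists_cube_root (hF : Fintype.card F = p) (hp3 : p % 3 = 2) :
    ∀ z : F, ∃ μ : F, μ ^ 3 = z := by
  intro z
  by_cases hz : z = 0
  · exact ⟨0, by rw [hz]; norm_num⟩
  · have hp : p.Prime := Fact.out
    have := hp.two_le
    have hcop : Nat.Coprime (Nat.card Fˣ) 3 := by
      rw [card_units_eq hF, Nat.coprime_comm, Nat.Prime.coprime_iff_not_dvd (by norm_num)]
      omega
    obtain ⟨μ, hμ⟩ := (powCoprime hcop).surjective (Units.mk0 z hz)
    rw [powCoprime_apply] at hμ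
    refine ⟨(μ : F), ?_⟩
    rw [← Units.val_pow_eq_pow_val, hμ, Units.val_mk0]

/-- **The listed primes are elusive** (for the standard group). -/
theorem elus_R0 (hF : Fintype.card F = p) (i : F) (hi : i ^ 2 = -1) (h2 : (2 : F) ≠ 0) (r : ℕ)
    (h : r = 2 ∨ (r = 3 ∧ p % 3 = 2) ∨ (r = 5 ∧ orderOf (p : ZMod 5) = 4)) :
    Elus r (Cfsg.Geo.subgroupNormalizer (R0 i hi)) := by
  have hsc : ∀ c : Fˣ, scg c ∈ Cfsg.Geo.subgroupNormalizer (R0 i hi) :=
    fun c => scg_mem_normalizer _ c
  rcases h with rfl | ⟨rfl, hp3⟩ | ⟨rfl, h5⟩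
  · intro x hx hx2 hns
    exact Cfsg.Agent.Helper1.SymE.elus_two h2 i hi _ hsc
      (Subgroup.le_normalizer (B2g_mem i hi)) (S0g_mem_normalizer i hi) x hx hx2 hns
  · intro x hx hx3 hns
    have h3 : (3 : F) ≠ 0 := by
      have := natCast_ne_zero_of_prime_ne (F := F) (p := p) 3 (by norm_num)
        (by intro h; rw [h] at hp3; norm_num at hp3)
      exact_mod_cast this
    exact Cfsg.Agent.Helper1.SymE.elus_three h3 (no_omega hF hp3) (exists_cube_root hF hp3) _ hsc
      (t1g i hi h2) (t1g_mem_normalizer i hi h2) (t1g_quad i hi h2) (P3g_mem_normalizer i hi)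
      x hx hx3 hns
  · exact elus_five hF h5 i hi h2 _ hsc (y5g_mem_normalizer i hi h2)

/-- **All other primes dividing the index have derangements.** -/
theorem not_elus_of_not_listed (hF : Fintype.card F = p) (hp4 : p % 4 = 1)
    {R : Subgroup (GL (Fin 4) F)} (D : S4Data R) (r : ℕ) [Fact r.Prime]
    (hΩ : r ∣ (Cfsg.Geo.subgroupNormalizer R).relIndex (Cfsg.Geo.specialLinear (Fin 4) F))
    (h : Elus r (Cfsg.Geo.subgroupNormalizer R)) :
    r = 2 ∨ (r = 3 ∧ p % 3 = 2) ∨ (r = 5 ∧ orderOf (p : ZMod 5) = 4) := by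
  have hp : p.Prime := Fact.out
  have h2 : (2 : F) ≠ 0 := by
    have := natCast_ne_zero_of_prime_ne (F := F) (p := p) 2 (by norm_num)
      (by intro h; rw [h] at hp4; norm_num at hp4)
    exact_mod_cast this
  by_contra hne
  push Not at hne
  obtain ⟨hr2, hr3, hr5⟩ := hne
  by_cases h3 : r = 3
  · subst h3
    have hp3 : p ≠ 3 := by intro h'; rw [h'] at hp4; norm_num at hp4
    have hmod : p % 3 = 1 := by
      have h1 := hr3 rfl
      have h0 : p % 3 ≠ 0 := by
        intro h0
        have : 3 ∣ p := Nat.dvd_of_mod_eq_zero h0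
        exact hp3 ((Nat.prime_dvd_prime_iff_eq (by norm_num) hp).mp this).symm
      omega
    have h3F : (3 : F) ≠ 0 := by
      have := natCast_ne_zero_of_prime_ne (F := F) (p := p) 3 (by norm_num) hp3
      exact_mod_cast this
    obtain ⟨ω, hω⟩ := exists_omega (F := F) hF hmod
    exact not_elus_three D h2 h3F ω hω h
  by_cases h5 : r = 5
  · subst h5
    have hord := hr5 rfl
    by_cases hp5 : p = 5
    · subst hp5
      exact not_elus_char D h2 h
    · have h5F : (5 : F) ≠ 0 := by
        have := natCast_ne_zero_of_prime_ne (F := F) (p := p) 5 (by norm_num) hp5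
        exact_mod_cast this
      obtain ⟨η, hη⟩ := exists_eta (F := F) hp4 hp5 hord h2
      exact not_elus_five D h2 h5F η hη h
  exact not_elus_generic D h2 hr2 h3 h5 hΩ h

end Cfsg.Agent.Helper2.SymT
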