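import Cfsg.Agent.Helper4.TPBase
import Cfsg.Agent.Helper7.TransvectionGL

set_option autoImplicit false
set_option linter.unusedSectionVars false
set_option linter.unusedSimpArgs false

/-! Tensor product stabilisers (helper2, S5637): the root elements lie in every group containing
the elements `A ⊗ B` of determinant one; transitivity of `SL(W)` on the non-zero vectors. -/

namespace Cfsg.Agent.Helper4.TP

open Module Matrix Cfsg.Agent.Helper7.ExtF
open scoped Kronecker

variable {F : Type*} [Field F] {m n : Type} [Fintype m] [DecidableEq m] [Fintype n]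
  [DecidableEq n]

/-- the covector of a functional. -/
def dualVec {ι : Type} [Fintype ι] [DecidableEq ι] (β : Module.Dual F (ι → F)) : ι → F :=
  fun j => β (Pi.single j 1)

theorem dualVec_dot {ι : Type} [Fintype ι] [DecidableEq ι] (β : Module.Dual F (ι → F))
    (x : ι → F) : dualVec β ⬝ᵥ x = β x := by
  rw [LinearMap.pi_apply_eq_sum_univ β x, dotProduct]
  apply Finset.sum_congr rfl
  intro i _
  rw [smul_eq_mul, mul_comm]
  unfold dualVec
  congr 2
  ext j
  rw [Pi.single_apply]
  simp only [eq_comm]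

/-- the root element `1 ⊗ (1 + w ⊗ β)` as an element `A ⊗ B`. -/
theorem zz_eq_tt (w : n → F) (β : Module.Dual F (n → F)) (h : β w = 0) :
    zz (m := m) w β h =
      tt 1 (Cfsg.Agent.Helper7.TGL.tau w (dualVec β) (by rw [dualVec_dot]; exact h)) := by
  apply LinearEquiv.toLinearMap_injective
  apply ext_tmul
  intro u x
  rw [LinearEquiv.coe_coe, LinearEquiv.coe_coe, zz_apply, tt_tmul,
    Cfsg.Agent.Helper7.TGL.tau_mulVec, dualVec_dot, con_tmul, Units.val_one, Matrix.one_mulVec,
    map_add, map_smul, map_smul, LinearMap.smul_apply]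

theorem det_eq_one_of_mem_sl {ι : Type} [Fintype ι] [DecidableEq ι] {B : GL ι F}
    (hB : B ∈ Cfsg.Geo.specialLinear ι F) : (B : Matrix ι ι F).det = 1 := by
  unfold Cfsg.Geo.specialLinear at hB
  rw [MonoidHom.mem_ker] at hB
  have := congrArg Units.val hB
  exact this

section mem

variable (G : Subgroup ((m × n → F) ≃ₗ[F] (m × n → F)))
  (hM : ∀ (A : GL m F) (B : GL n F),
    ((kr A B : GL (m × n) F) : Matrix (m × n) (m × n) F).det = 1 → tt A B ∈ G)

include hM

theorem tt_one_left_mem (B : GL n F) (hB : (B : Matrix n n F).det = 1) : tt 1 B ∈ G := by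
  apply hM
  rw [det_kr, hB, Units.val_one, Matrix.det_one, one_pow, one_pow, one_mul]

theorem tt_one_right_mem (A : GL m F) (hA : (A : Matrix m m F).det = 1) : tt A 1 ∈ G := by
  apply hM
  rw [det_kr, hA, Units.val_one, Matrix.det_one, one_pow, one_pow, one_mul]

/-- the root elements are of the form `1 ⊗ B`, `det B = 1`. -/
theorem zz_mem' (w : n → F) (β : Module.Dual F (n → F)) (h : β w = 0) : zz w β h ∈ G := by
  rw [zz_eq_tt]
  apply tt_one_left_mem G hM
  exact det_eq_one_of_mem_sl (Cfsg.Agent.Helper7.TGL.tau_mem_specialLinear _ _ _)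

end mem

/-- the root elements are of the form `1 ⊗ B`, `det B = 1`. -/
theorem zz_mem (G : Subgroup ((m × n → F) ≃ₗ[F] (m × n → F)))
    (hM : ∀ (A : GL m F) (B : GL n F),
      ((kr A B : GL (m × n) F) : Matrix (m × n) (m × n) F).det = 1 → tt A B ∈ G)
    (w : n → F) (β : Module.Dual F (n → F)) (h : β w = 0) : zz w β h ∈ G :=
  zz_mem' G hM w β h

/-- `SL(W)` is transitive on the non-zero vectors. -/
theorem exists_sl_map {ι : Type} [Fintype ι] [DecidableEq ι] (hb : 2 ≤ Fintype.card ι)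
    {w w' : ι → F} (hw : w ≠ 0) (hw' : w' ≠ 0) :
    ∃ B : GL ι F, (B : Matrix ι ι F).det = 1 ∧ (B : Matrix ι ι F) *ᵥ w = w' := by
  set M : Subgroup ((ι → F) ≃ₗ[F] (ι → F)) :=
    (Cfsg.Geo.specialLinear ι F).map (thetaG (F := F) (ι := ι)).toMonoidHom with hMdef
  have hM : ∀ (ψ : (ι → F) →ₗ[F] F) (a : ι → F) (h : ψ a = 0), ktv (F := F) ψ a h ∈ M := by
    intro ψ a h
    have h' : dualVec ψ ⬝ᵥ a = 0 := by rw [dualVec_dot]; exact h
    refine ⟨Cfsg.Agent.Helper7.TGL.tau a (dualVec ψ) h',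
      Cfsg.Agent.Helper7.TGL.tau_mem_specialLinear _ _ _, ?_⟩
    apply LinearEquiv.ext
    intro v
    change thetaG _ v = _
    rw [thetaG_apply, Cfsg.Agent.Helper7.TGL.tau_mulVec, dualVec_dot, ktv_apply]
  have h2 : 2 ≤ finrank F (ι → F) := by
    rw [Module.finrank_fintype_fun_eq_card]; exact hb
  obtain ⟨n₁, hn₁, -, hmap⟩ := exists_klin_map (K := F) M hM h2 hw hw'
  obtain ⟨B, hB, rfl⟩ := hn₁
  refine ⟨B, ?_, ?_⟩
  · exact det_eq_one_of_mem_sl hB
  · exact hmap

end Cfsg.Agent.Helper4.TP
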