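import Cfsg.Agent.Helper2.TPLie
import Cfsg.Agent.Helper2.TPzz

set_option autoImplicit false
set_option linter.unusedSectionVars false
set_option linter.unusedSimpArgs false

/-! Tensor product stabilisers (helper2, S5637): Lemma (Q). A group containing the elements
`A ⊗ B` of determinant one which meets the unipotent radical of a fibre stabiliser in more than
the root group contains elementary transvections. -/

namespace Cfsg.Agent.Helper4.TP

open Module Matrix Cfsg.Agent.Helper7.ExtF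
open scoped Kronecker

variable {F : Type*} [Field F] {m n : Type} [Fintype m] [DecidableEq m] [Fintype n]
  [DecidableEq n]

theorem uni_congr {V : Type*} [AddCommGroup V] [Module F V] {A B : Module.End F V} (h : A = B)
    (hA : A * A = 0) (hB : B * B = 0) : uni A hA = uni B hB := by
  subst h; rfl

/-- two linear maps agreeing on the pure tensors `u ⊗ e_l` are equal. -/
theorem ext_tmul_single {M : Type*} [AddCommGroup M] [Module F M] {f g : (m × n → F) →ₗ[F] M}
    (h : ∀ (u : m → F) (l : n), f (tmul u (Pi.single l (1 : F))) = g (tmul u (Pi.single l 1))) :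
    f = g := by
  apply LinearMap.ext
  intro x
  rw [sum_tmul_con x, map_sum, map_sum]
  exact Finset.sum_congr rfl fun j _ => h _ _

theorem single_ne_zero' (j : n) : (Pi.single j (1 : F) : n → F) ≠ 0 := by
  intro h
  have := congrFun h j
  simp at this

theorem eq_tmul_of_mem_fib_single {j₀ : n} {x : m × n → F}
    (hx : x ∈ fib (Pi.single j₀ (1 : F))) : x = tmul (con (pr j₀) x) (Pi.single j₀ 1) := by
  obtain ⟨u, rfl⟩ := mem_fib.mp hx
  rw [con_tmul, pr_apply, Pi.single_eq_same, one_smul]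

/-- (Q) at a coordinate vector. -/
def QQc (G : Subgroup ((m × n → F) ≃ₗ[F] (m × n → F))) (j₀ : n) : Prop :=
  ∃ g ∈ G, (∀ x, g x - x ∈ fib (Pi.single j₀ (1 : F))) ∧
    (∀ x ∈ fib (m := m) (Pi.single j₀ (1 : F)), g x = x) ∧
    ¬ ∃ δ : Module.Dual F (n → F), ∀ x, g x = x + tmul (con δ x) (Pi.single j₀ 1)

theorem QQc_of_QQ (hb : 2 ≤ Fintype.card n) (G : Subgroup ((m × n → F) ≃ₗ[F] (m × n → F)))
    (hM : ∀ (A : GL m F) (B : GL n F),
      ((kr A B : GL (m × n) F) : Matrix (m × n) (m × n) F).det = 1 → tt A B ∈ G)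
    (hQ : QQ G) (j₀ : n) : QQc G j₀ := by
  obtain ⟨g, hg, w₀, hw₀, h1, h2, h3⟩ := hQ
  obtain ⟨B, hBdet, hBw⟩ := exists_sl_map hb hw₀ (single_ne_zero' (F := F) j₀)
  set T : (m × n → F) ≃ₗ[F] (m × n → F) := tt (1 : GL m F) B with hTdef
  have hT : T ∈ G := tt_one_left_mem G hM B hBdet
  have hTt : ∀ u : m → F, T (tmul u w₀) = tmul u (Pi.single j₀ 1) := by
    intro u
    rw [hTdef, tt_tmul, hBw, Units.val_one, Matrix.one_mulVec]
  have hTi : ∀ u : m → F, T⁻¹ (tmul u (Pi.single j₀ 1)) = tmul u w₀ := by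
    intro u
    rw [← hTt u, inv_apply_self]
  refine ⟨T * g * T⁻¹, G.mul_mem (G.mul_mem hT hg) (G.inv_mem hT), ?_, ?_, ?_⟩
  · intro x
    obtain ⟨u, hu⟩ := mem_fib.mp (h1 (T⁻¹ x))
    have e : (T * g * T⁻¹) x - x = T (g (T⁻¹ x) - T⁻¹ x) := by
      rw [LinearEquiv.mul_apply, LinearEquiv.mul_apply, map_sub, apply_inv_self]
    rw [e, ← hu, hTt]
    exact tmul_mem_fib _ _
  · intro x hx
    obtain ⟨u, rfl⟩ := mem_fib.mp hx
    rw [LinearEquiv.mul_apply, LinearEquiv.mul_apply, hTi, h2 _ (tmul_mem_fib _ _), hTt]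
  · rintro ⟨δ, hδ⟩
    apply h3
    refine ⟨δ ∘ₗ Matrix.toLin' (B : Matrix n n F), fun y => ?_⟩
    have h := hδ (T y)
    rw [LinearEquiv.mul_apply, LinearEquiv.mul_apply, inv_apply_self] at h
    have h' : g y = T⁻¹ (T y + tmul (con δ (T y)) (Pi.single j₀ 1)) := by
      rw [← h, inv_apply_self]
    rw [h', map_add, inv_apply_self, hTi]
    congr 2
    rw [hTdef, con_tt, Units.val_one, Matrix.one_mulVec]

/-- the commutator step. -/
theorem comm_step (G : Subgroup ((m × n → F) ≃ₗ[F] (m × n → F)))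
    (hM : ∀ (A : GL m F) (B : GL n F),
      ((kr A B : GL (m × n) F) : Matrix (m × n) (m × n) F).det = 1 → tt A B ∈ G)
    {j₀ l₁ : n} {g : (m × n → F) ≃ₗ[F] (m × n → F)} (hg : g ∈ G)
    (h1 : ∀ x, g x - x ∈ fib (Pi.single j₀ (1 : F)))
    (X₁ : Module.End F (m → F))
    (hX₁ : ∀ u : m → F, g (tmul u (Pi.single l₁ 1)) =
      tmul u (Pi.single l₁ 1) + tmul (X₁ u) (Pi.single j₀ 1))
    (δ : Module.Dual F (n → F)) (hδ0 : δ (Pi.single j₀ 1) = 0) (hδ1 : δ (Pi.single l₁ 1) = 0) :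
    uni (Psi (-X₁) (Pi.single j₀ 1) δ)
      (by rw [Psi_mul_Psi, hδ0, zero_smul]) ∈ G := by
  have hz : zz (m := m) (Pi.single l₁ 1) δ hδ1 ∈ G := zz_mem G hM _ _ _
  have key : zz (m := m) (Pi.single l₁ 1) δ hδ1 * g * (zz (m := m) (Pi.single l₁ 1) δ hδ1)⁻¹ * g⁻¹ =
      uni (Psi (-X₁) (Pi.single j₀ 1) δ) (by rw [Psi_mul_Psi, hδ0, zero_smul]) := by
    rw [mul_inv_eq_iff_eq_mul]
    apply LinearEquiv.ext
    intro x
    have hc : con δ (g x) = con δ x := by
      have := mem_cof.mp (fib_le_cof hδ0 (h1 x))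
      rw [map_sub, sub_eq_zero] at this
      exact this
    rw [LinearEquiv.mul_apply, LinearEquiv.mul_apply, LinearEquiv.mul_apply, zz_inv_apply, map_sub,
      hX₁, zz_apply, uni_apply, Psi_apply, map_sub, map_add, con_tmul, con_tmul, hδ1, hδ0,
      zero_smul, zero_smul, add_zero, sub_zero, hc, LinearMap.neg_apply, map_neg,
      LinearMap.neg_apply]
    abel
  rw [← key]
  exact G.mul_mem (G.mul_mem (G.mul_mem hz hg) (G.inv_mem hz)) (G.inv_mem hg)

/-- an element of the unipotent radical which is not a root element has a non-scalar block. -/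
theorem exists_nonscalar {j₀ : n} {g : (m × n → F) ≃ₗ[F] (m × n → F)}
    (h1 : ∀ x, g x - x ∈ fib (Pi.single j₀ (1 : F)))
    (h2 : ∀ x ∈ fib (m := m) (Pi.single j₀ (1 : F)), g x = x)
    (h3 : ¬ ∃ δ : Module.Dual F (n → F), ∀ x, g x = x + tmul (con δ x) (Pi.single j₀ 1)) :
    ∃ (l₁ : n) (X₁ : Module.End F (m → F)), l₁ ≠ j₀ ∧
      (∀ u : m → F, g (tmul u (Pi.single l₁ 1)) =
        tmul u (Pi.single l₁ 1) + tmul (X₁ u) (Pi.single j₀ 1)) ∧
      ¬ ∃ c : F, X₁ = c • (1 : Module.End F (m → F)) := by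
  set XX : n → Module.End F (m → F) := fun l =>
    (con (pr j₀)) ∘ₗ (((g : (m × n → F) ≃ₗ[F] (m × n → F)) : (m × n → F) →ₗ[F] (m × n → F)) - 1) ∘ₗ
      ((tmul (F := F) (m := m) (n := n)).flip (Pi.single l 1)) with hXX
  have hXXa : ∀ l u, XX l u =
      con (pr j₀) (g (tmul u (Pi.single l 1)) - tmul u (Pi.single l 1)) := fun l u => rfl
  have hkey : ∀ l (u : m → F), g (tmul u (Pi.single l 1)) =
      tmul u (Pi.single l 1) + tmul (XX l u) (Pi.single j₀ 1) := by
    intro l u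
    have := eq_tmul_of_mem_fib_single (h1 (tmul u (Pi.single l 1)))
    rw [hXXa, ← this]
    abel
  by_contra hcon
  push Not at hcon
  have hsc : ∀ l, ∃ c : F, XX l = c • (1 : Module.End F (m → F)) := by
    intro l
    by_cases hl : l = j₀
    · refine ⟨0, ?_⟩
      subst hl
      apply LinearMap.ext
      intro u
      rw [hXXa, h2 _ (tmul_mem_fib _ _), sub_self, map_zero, zero_smul, LinearMap.zero_apply]
    · exact hcon l (XX l) hl (hkey l)
  choose cc hcc using hsc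
  apply h3
  refine ⟨∑ l, cc l • pr l, ?_⟩
  have hval : ∀ l, (∑ l', cc l' • pr (F := F) l') (Pi.single l (1 : F)) = cc l := by
    intro l
    rw [LinearMap.sum_apply]
    simp only [LinearMap.smul_apply, pr_apply, Pi.single_apply, smul_eq_mul, mul_ite, mul_one,
      mul_zero]
    rw [Finset.sum_ite_eq']
    simp
  have hlin : ((g : (m × n → F) ≃ₗ[F] (m × n → F)) : (m × n → F) →ₗ[F] (m × n → F)) =
      1 + NN (Pi.single j₀ 1) (∑ l, cc l • pr l) := by
    apply ext_tmul_single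
    intro u l
    rw [LinearEquiv.coe_coe, hkey, hcc, LinearMap.add_apply, Module.End.one_apply, NN_apply,
      con_tmul, LinearMap.smul_apply, Module.End.one_apply, hval]
  intro x
  have := LinearMap.congr_fun hlin x
  rw [LinearEquiv.coe_coe, LinearMap.add_apply, Module.End.one_apply, NN_apply] at this
  exact this

/-! ### the subspace of the blocks -/

/-- the endomorphism `x ↦ X (c_{l₀} x) ⊗ e_{j₀}`. -/
def PsiM (j₀ l₀ : n) (X : Matrix m m F) : Module.End F (m × n → F) :=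
  Psi (Matrix.toLin' X) (Pi.single j₀ 1) (pr l₀)

theorem PsiM_apply (j₀ l₀ : n) (X : Matrix m m F) (x : m × n → F) :
    PsiM j₀ l₀ X x = tmul (X *ᵥ con (pr l₀) x) (Pi.single j₀ 1) := rfl

theorem PsiM_mul {j₀ l₀ : n} (h : j₀ ≠ l₀) (X Y : Matrix m m F) :
    PsiM (F := F) j₀ l₀ X * PsiM j₀ l₀ Y = 0 := by
  unfold PsiM
  rw [Psi_mul_Psi, pr_apply, Pi.single_eq_of_ne h.symm, zero_smul]

theorem PsiM_add (j₀ l₀ : n) (X Y : Matrix m m F) :
    PsiM (F := F) j₀ l₀ (X + Y) = PsiM j₀ l₀ X + PsiM j₀ l₀ Y := by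
  apply LinearMap.ext
  intro x
  rw [LinearMap.add_apply, PsiM_apply, PsiM_apply, PsiM_apply, Matrix.add_mulVec, map_add,
    LinearMap.add_apply]

theorem PsiM_zero (j₀ l₀ : n) : PsiM (F := F) (m := m) j₀ l₀ 0 = 0 := by
  apply LinearMap.ext
  intro x
  rw [PsiM_apply, Matrix.zero_mulVec, map_zero, LinearMap.zero_apply, LinearMap.zero_apply]

/-- the subspace of the matrices `X` with `1 + c X ⊗ E_{j₀ l₀}` in the group for all `c`. -/
def LL (G : Subgroup ((m × n → F) ≃ₗ[F] (m × n → F))) (j₀ l₀ : n) (h : j₀ ≠ l₀) :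
    Submodule F (Matrix m m F) where
  carrier := {X | ∀ c : F, uni (PsiM j₀ l₀ (c • X)) (PsiM_mul h _ _) ∈ G}
  add_mem' := by
    intro X Y hX hY c
    have e : PsiM j₀ l₀ (c • (X + Y)) = PsiM j₀ l₀ (c • X) + PsiM j₀ l₀ (c • Y) := by
      rw [smul_add, PsiM_add]
    have hsq : (PsiM j₀ l₀ (c • X) + PsiM j₀ l₀ (c • Y)) *
        (PsiM j₀ l₀ (c • X) + PsiM j₀ l₀ (c • Y)) = 0 := by
      rw [← e]; exact PsiM_mul h _ _
    show uni (PsiM j₀ l₀ (c • (X + Y))) (PsiM_mul h _ _) ∈ G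
    rw [uni_congr e _ hsq, ← uni_mul_uni (PsiM_mul h _ _) (PsiM_mul h _ _) (PsiM_mul h _ _)
      (PsiM_mul h _ _)]
    exact G.mul_mem (hX c) (hY c)
  zero_mem' := by
    intro c
    have e : PsiM (F := F) (m := m) j₀ l₀ (c • (0 : Matrix m m F)) = 0 := by
      rw [smul_zero, PsiM_zero]
    show uni (PsiM j₀ l₀ (c • (0 : Matrix m m F))) (PsiM_mul h _ _) ∈ G
    rw [uni_congr e _ (by simp), uni_zero]
    exact G.one_mem
  smul_mem' := by
    intro c X hX c'
    have e : PsiM j₀ l₀ (c' • c • X) = PsiM j₀ l₀ ((c' * c) • X) := by rw [smul_smul]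
    show uni (PsiM j₀ l₀ (c' • c • X)) (PsiM_mul h _ _) ∈ G
    rw [uni_congr e _ (PsiM_mul h _ _)]
    exact hX (c' * c)

theorem mem_LL {G : Subgroup ((m × n → F) ≃ₗ[F] (m × n → F))} {j₀ l₀ : n} {h : j₀ ≠ l₀}
    {X : Matrix m m F} :
    X ∈ LL G j₀ l₀ h ↔ ∀ c : F, uni (PsiM j₀ l₀ (c • X)) (PsiM_mul h _ _) ∈ G := Iff.rfl

/-- the elementary transvections as elements of the general linear group. -/
def tvGL (i k : m) (hik : i ≠ k) (c : F) : GL m F where
  val := transvection i k c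
  inv := transvection i k (-c)
  val_inv := by rw [transvection_mul_transvection_same i k hik, add_neg_cancel, transvection_zero]
  inv_val := by rw [transvection_mul_transvection_same i k hik, neg_add_cancel, transvection_zero]

theorem LL_stable (G : Subgroup ((m × n → F) ≃ₗ[F] (m × n → F)))
    (hM : ∀ (A : GL m F) (B : GL n F),
      ((kr A B : GL (m × n) F) : Matrix (m × n) (m × n) F).det = 1 → tt A B ∈ G)
    {j₀ l₀ : n} (h : j₀ ≠ l₀) : Cfsg.Agent.Helper2.TPLie.TStable (LL G j₀ l₀ h) := by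
  intro X hX i k hik c
  rw [mem_LL]
  intro c'
  have hS : tt (tvGL i k hik c) (1 : GL n F) ∈ G :=
    tt_one_right_mem G hM _ (det_transvection_of_ne i k hik c)
  have e : conjEnd (tt (tvGL i k hik c) (1 : GL n F)) (PsiM j₀ l₀ (c' • X)) =
      PsiM j₀ l₀ (c' • (transvection i k c * X * transvection i k (-c))) := by
    apply LinearMap.ext
    intro x
    rw [conjEnd_apply, PsiM_apply, PsiM_apply, tt_inv, tt_tmul, con_tt, inv_one, Units.val_one,
      Matrix.toLin'_one, Matrix.one_mulVec]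
    have e1 : ((tvGL i k hik c : GL m F) : Matrix m m F) = transvection i k c := rfl
    have e2 : (((tvGL i k hik c)⁻¹ : GL m F) : Matrix m m F) = transvection i k (-c) := rfl
    rw [e1, e2, Matrix.mulVec_mulVec, Matrix.mulVec_mulVec, Matrix.mul_smul, Matrix.smul_mul]
    rfl
  rw [uni_congr e.symm _ (conjEnd_sq (PsiM_mul h _ _)), uni_conjEnd _ (PsiM_mul h _ _)]
  exact G.mul_mem (G.mul_mem hS (hX c')) (G.inv_mem hS)

theorem tmul_update_single (i : m) (j₀ : n) (a : F) :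
    tmul (Function.update (0 : m → F) i a) (Pi.single j₀ (1 : F)) =
      a • (Pi.single (i, j₀) (1 : F) : m × n → F) := by
  ext ⟨i', j'⟩
  rw [tmul_apply, Pi.smul_apply, smul_eq_mul]
  by_cases hi : i' = i
  · subst hi
    by_cases hj : j' = j₀
    · subst hj
      simp
    · have : ((i', j') : m × n) ≠ (i', j₀) := fun h => hj (Prod.ext_iff.mp h).2
      rw [Pi.single_eq_of_ne hj, Pi.single_eq_of_ne this, mul_zero, mul_zero]
  · have : ((i', j') : m × n) ≠ (i, j₀) := fun h => hi (Prod.ext_iff.mp h).1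
    rw [Function.update_of_ne hi, Pi.single_eq_of_ne this, Pi.zero_apply, zero_mul, mul_zero]

/-- [LQ] -/
theorem lemmaQ (ha : 2 ≤ Fintype.card m) (hb : 3 ≤ Fintype.card n)
    (hex : Fintype.card m = 2 → ∃ c : F, c ≠ 0 ∧ c ≠ 1)
    (G : Subgroup ((m × n → F) ≃ₗ[F] (m × n → F)))
    (hM : ∀ (A : GL m F) (B : GL n F),
      ((kr A B : GL (m × n) F) : Matrix (m × n) (m × n) F).det = 1 → tt A B ∈ G)
    (hQ : QQ G) : ∃ j₀ l₀ : n, j₀ ≠ l₀ ∧ ∀ i k : m, i ≠ k → EL G (i, j₀) (k, l₀) := by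
  have hb2 : 2 ≤ Fintype.card n := by omega
  obtain ⟨j₀⟩ : Nonempty n := Fintype.card_pos_iff.mp (by omega)
  obtain ⟨g, hg, h1, h2, h3⟩ := QQc_of_QQ hb2 G hM hQ j₀
  obtain ⟨l₁, X₁, hl₁, hX₁, hns⟩ := exists_nonscalar h1 h2 h3
  obtain ⟨l₀, hl₀j, hl₀l⟩ := Cfsg.Agent.Helper2.TPLie.exists_third hb j₀ l₁
  refine ⟨j₀, l₀, hl₀j.symm, ?_⟩
  have hbig : 3 ≤ Fintype.card m ∨ ∃ c : F, c ≠ 0 ∧ c ≠ 1 := by
    by_cases h : Fintype.card m = 2
    · exact Or.inr (hex h)
    · left; omega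
  -- the block lies in the subspace
  have hmem : LinearMap.toMatrix' (-X₁) ∈ LL G j₀ l₀ hl₀j.symm := by
    rw [mem_LL]
    intro c
    have hδ0 : (c • pr (F := F) l₀) (Pi.single j₀ 1) = 0 := by
      rw [LinearMap.smul_apply, pr_apply, Pi.single_eq_of_ne hl₀j, smul_zero]
    have hδ1 : (c • pr (F := F) l₀) (Pi.single l₁ 1) = 0 := by
      rw [LinearMap.smul_apply, pr_apply, Pi.single_eq_of_ne hl₀l, smul_zero]
    have h := comm_step G hM hg h1 X₁ hX₁ (c • pr l₀) hδ0 hδ1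
    have e : Psi (-X₁) (Pi.single j₀ (1 : F)) (c • pr l₀) =
        PsiM j₀ l₀ (c • LinearMap.toMatrix' (-X₁)) := by
      apply LinearMap.ext
      intro x
      rw [PsiM_apply, Psi_apply, Matrix.smul_mulVec, ← Matrix.toLin'_apply,
        Matrix.toLin'_toMatrix', map_smul, LinearMap.smul_apply, map_smul]
    rw [uni_congr e _ (PsiM_mul hl₀j.symm _ _)] at h
    exact h
  have hnsM : ¬ ∃ c : F, LinearMap.toMatrix' (-X₁) = c • (1 : Matrix m m F) := by
    rintro ⟨c, hc⟩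
    apply hns
    refine ⟨-c, ?_⟩
    have h := congrArg Matrix.toLin' hc
    rw [Matrix.toLin'_toMatrix', map_smul, Matrix.toLin'_one] at h
    apply LinearMap.ext
    intro u
    have hu := LinearMap.congr_fun h u
    rw [LinearMap.neg_apply, LinearMap.smul_apply, LinearMap.id_apply] at hu
    rw [LinearMap.smul_apply, Module.End.one_apply, neg_smul, ← hu, neg_neg]
  intro i k hik c
  have hL := Cfsg.Agent.Helper2.TPLie.lie_main hbig (LL_stable G hM hl₀j.symm) hmem hnsM i k hik c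
  have hL1 := mem_LL.mp hL 1
  have h0 : (c • (LinearMap.proj (k, l₀) : Module.Dual F (m × n → F)))
      (Pi.single (i, j₀) (1 : F)) = 0 := by
    have : ((k, l₀) : m × n) ≠ (i, j₀) := fun h => hik (Prod.ext_iff.mp h).1.symm
    rw [LinearMap.smul_apply, LinearMap.proj_apply, Pi.single_eq_of_ne this, smul_zero]
  refine ⟨h0, ?_⟩
  rw [← eq_ftv_of_toLin h0 (g := uni (PsiM j₀ l₀ ((1 : F) • single i k c))
    (PsiM_mul hl₀j.symm _ _))]
  · exact hL1
  · intro x
    rw [uni_apply, PsiM_apply, one_smul, single_mulVec, tmul_update_single, con_pr,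
      LinearMap.smul_apply, LinearMap.proj_apply, smul_eq_mul]

end Cfsg.Agent.Helper4.TP
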