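import Mathlib

set_option autoImplicit false
set_option linter.unusedSectionVars false
set_option linter.unusedSimpArgs false

/-! Tensor product stabilisers (helper2, S5637): the Lie-ideal lemma. A subspace of the matrix
algebra which is stable under conjugation by the elementary transvections and contains a
non-scalar matrix contains all the off-diagonal matrix units. -/

namespace Cfsg.Agent.Helper2.TPLie

open Matrix

variable {F : Type*} [Field F] {m : Type} [Fintype m] [DecidableEq m]

/-- stability under conjugation by the elementary transvections. -/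
def TStable (L : Submodule F (Matrix m m F)) : Prop :=
  ∀ X ∈ L, ∀ i k : m, i ≠ k → ∀ c : F, transvection i k c * X * transvection i k (-c) ∈ L

theorem conj_formula (X : Matrix m m F) (i k : m) (c : F) :
    transvection i k c * X * transvection i k (-c) - X =
      c • (single i k (1 : F) * X - X * single i k (1 : F)) - (c * c * X k i) • single i k (1 : F) := by
  have h1 : single i k c = c • single i k (1 : F) := by
    rw [smul_single, smul_eq_mul, mul_one]
  have h2 : single i k (-c) = (-c) • single i k (1 : F) := by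
    rw [smul_single, smul_eq_mul, mul_one]
  have h3 : single i k (1 : F) * X * single i k (1 : F) = X k i • single i k (1 : F) := by
    rw [single_mul_mul_single, smul_single, smul_eq_mul, one_mul, mul_one]
  unfold transvection
  rw [h1, h2]
  simp only [add_mul, mul_add, one_mul, mul_one, Matrix.smul_mul, Matrix.mul_smul, smul_add,
    smul_sub]
  rw [h3]
  simp only [smul_smul, neg_smul, smul_neg]
  module

variable {L : Submodule F (Matrix m m F)}

theorem lie_step (hL : TStable L) {X : Matrix m m F} (hX : X ∈ L) {i k : m} (hik : i ≠ k) (c : F) :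
    c • (single i k (1 : F) * X - X * single i k (1 : F)) - (c * c * X k i) • single i k (1 : F)
      ∈ L := by
  rw [← conj_formula]
  exact L.sub_mem (hL X hX i k hik c) hX

theorem lie_step_one (hL : TStable L) {X : Matrix m m F} (hX : X ∈ L) {i k : m} (hik : i ≠ k) :
    single i k (1 : F) * X - X * single i k (1 : F) - X k i • single i k (1 : F) ∈ L := by
  have := lie_step hL hX hik 1
  rwa [one_smul, one_mul, one_mul] at this

/-- an off-diagonal entry gives a matrix unit: fields with at least three elements. -/
theorem lie_offdiag_field (hL : TStable L) {X : Matrix m m F} (hX : X ∈ L) {i k : m} (hik : i ≠ k)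
    (hx : X k i ≠ 0) {c₀ : F} (h0 : c₀ ≠ 0) (h1 : c₀ ≠ 1) : single i k (1 : F) ∈ L := by
  have hY1 := lie_step hL hX hik 1
  have hYc := lie_step hL hX hik c₀
  have h := L.sub_mem (L.smul_mem c₀ hY1) hYc
  have e : c₀ • ((1 : F) • (single i k (1 : F) * X - X * single i k (1 : F)) -
        (1 * 1 * X k i) • single i k (1 : F)) -
      (c₀ • (single i k (1 : F) * X - X * single i k (1 : F)) -
        (c₀ * c₀ * X k i) • single i k (1 : F)) =
      ((c₀ * c₀ - c₀) * X k i) • single i k (1 : F) := by
    module
  rw [e] at h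
  have hne : (c₀ * c₀ - c₀) * X k i ≠ 0 := by
    refine mul_ne_zero ?_ hx
    have : c₀ * c₀ - c₀ = c₀ * (c₀ - 1) := by ring
    rw [this]
    exact mul_ne_zero h0 (sub_ne_zero.mpr h1)
  exact (L.smul_mem_iff hne).mp h

/-- an off-diagonal entry gives a matrix unit: degree at least three. -/
theorem lie_offdiag_three (hL : TStable L) {X : Matrix m m F} (hX : X ∈ L) {i k k' : m}
    (hik : i ≠ k) (hik' : i ≠ k') (hkk' : k ≠ k') (hx : X k i ≠ 0) : single i k (1 : F) ∈ L := by
  set E : Matrix m m F := single i k (1 : F) with hE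
  set E' : Matrix m m F := single i k' (1 : F) with hE'
  set E'' : Matrix m m F := single k' k (1 : F) with hE''
  have hY := lie_step_one hL hX hik
  rw [← hE] at hY
  set Y : Matrix m m F := E * X - X * E - X k i • E with hYdef
  have hZ := lie_step_one hL hY hik'
  rw [← hE'] at hZ
  -- the second step
  have p1 : E' * E = 0 := single_mul_single_of_ne (1 : F) i k' i hik'.symm (1 : F)
  have p2 : E * E' = 0 := single_mul_single_of_ne (1 : F) i k i hik.symm (1 : F)
  have p3 : E' * X * E = X k' i • E := by
    rw [hE, hE', single_mul_mul_single, smul_single, smul_eq_mul, one_mul, mul_one]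
  have p4 : E * X * E' = X k i • E' := by
    rw [hE, hE', single_mul_mul_single, smul_single, smul_eq_mul, one_mul, mul_one]
  have e1 : E' * Y = - (X k' i • E) := by
    rw [hYdef, mul_sub, mul_sub, ← mul_assoc, ← mul_assoc, Matrix.mul_smul, p1, p3,
      Matrix.zero_mul, smul_zero, zero_sub, sub_zero]
  have e2 : Y * E' = X k i • E' := by
    rw [hYdef, sub_mul, sub_mul, Matrix.smul_mul, mul_assoc X, p2, p4, Matrix.mul_zero, smul_zero,
      sub_zero, sub_zero]
  have e3 : Y k' i = 0 := by
    rw [hYdef, hE]
    simp only [Matrix.sub_apply, Matrix.smul_apply]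
    rw [single_mul_apply_of_ne _ _ _ _ _ hik'.symm, mul_single_apply_of_ne _ _ _ _ _ hik,
      single_apply_of_row_ne hik']
    simp
  rw [e1, e2, e3, zero_smul, sub_zero] at hZ
  set Z : Matrix m m F := - (X k' i • E) - X k i • E' with hZdef
  have hT := lie_step_one hL hZ hkk'.symm
  rw [← hE''] at hT
  have q1 : E'' * E = 0 := single_mul_single_of_ne (1 : F) k' k i hik.symm (1 : F)
  have q2 : E'' * E' = 0 := single_mul_single_of_ne (1 : F) k' k i hik.symm (1 : F)
  have q3 : E * E'' = 0 := single_mul_single_of_ne (1 : F) i k k' hkk' (1 : F)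
  have q4 : E' * E'' = E := by
    rw [hE, hE', hE'', single_mul_single_same, mul_one]
  have f1 : E'' * Z = 0 := by
    rw [hZdef, mul_sub, mul_neg, Matrix.mul_smul, Matrix.mul_smul, q1, q2, smul_zero, smul_zero,
      neg_zero, sub_zero]
  have f2 : Z * E'' = - (X k i • E) := by
    rw [hZdef, sub_mul, neg_mul, Matrix.smul_mul, Matrix.smul_mul, q3, q4, smul_zero, neg_zero,
      zero_sub]
  have f3 : Z k k' = 0 := by
    rw [hZdef, hE, hE']
    simp only [Matrix.sub_apply, Matrix.neg_apply, Matrix.smul_apply]
    rw [single_apply_of_row_ne hik, single_apply_of_row_ne hik]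
    simp
  rw [f1, f2, f3, zero_smul, sub_zero, zero_sub, neg_neg] at hT
  exact (L.smul_mem_iff hx).mp hT

theorem exists_third (h3 : 3 ≤ Fintype.card m) (i k : m) : ∃ k' : m, k' ≠ i ∧ k' ≠ k := by
  by_contra hcon
  push Not at hcon
  have hsub : (Finset.univ : Finset m) ⊆ {i, k} := by
    intro x _
    by_cases hx : x = i
    · simp [hx]
    · simp [hcon x hx]
  have h1 : Fintype.card m ≤ ({i, k} : Finset m).card := Finset.card_le_card hsub
  have h2 : ({i, k} : Finset m).card ≤ 2 := Finset.card_le_two
  omega

/-- an off-diagonal entry gives a matrix unit. -/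
theorem lie_offdiag (hbig : 3 ≤ Fintype.card m ∨ ∃ c : F, c ≠ 0 ∧ c ≠ 1) (hL : TStable L)
    {X : Matrix m m F} (hX : X ∈ L) {i k : m} (hik : i ≠ k) (hx : X k i ≠ 0) :
    single i k (1 : F) ∈ L := by
  rcases hbig with h3 | ⟨c₀, h0, h1⟩
  · obtain ⟨k', hk'i, hk'k⟩ := exists_third h3 i k
    exact lie_offdiag_three hL hX hik hk'i.symm hk'k.symm hx
  · exact lie_offdiag_field hL hX hik hx h0 h1

/-- a diagonal matrix with two distinct entries gives a matrix unit. -/
theorem lie_diag (hL : TStable L) {X : Matrix m m F} (hX : X ∈ L)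
    (hod : ∀ a b : m, a ≠ b → X a b = 0) {i k : m} (hik : i ≠ k) (hd : X i i ≠ X k k) :
    single i k (1 : F) ∈ L := by
  have h := lie_step_one hL hX hik
  have hEX : single i k (1 : F) * X = X k k • single i k (1 : F) := by
    ext a b
    by_cases ha : a = i
    · subst ha
      rw [single_mul_apply_same, one_mul, Matrix.smul_apply, smul_eq_mul]
      by_cases hb : b = k
      · subst hb
        rw [single_apply_same, mul_one]
      · rw [hod _ _ (Ne.symm hb), single_apply_of_col_ne _ _ (Ne.symm hb), mul_zero]
    · rw [single_mul_apply_of_ne _ _ _ _ _ ha, Matrix.smul_apply,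
        single_apply_of_row_ne (Ne.symm ha), smul_zero]
  have hXE : X * single i k (1 : F) = X i i • single i k (1 : F) := by
    ext a b
    by_cases hb : b = k
    · subst hb
      rw [mul_single_apply_same, mul_one, Matrix.smul_apply, smul_eq_mul]
      by_cases ha : a = i
      · subst ha
        rw [single_apply_same, mul_one]
      · rw [hod _ _ ha, single_apply_of_row_ne (Ne.symm ha), mul_zero]
    · rw [mul_single_apply_of_ne _ _ _ _ _ hb, Matrix.smul_apply,
        single_apply_of_col_ne _ _ (Ne.symm hb), smul_zero]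
  rw [hEX, hXE, hod _ _ hik.symm, zero_smul, sub_zero, ← sub_smul] at h
  exact (L.smul_mem_iff (sub_ne_zero.mpr hd.symm)).mp h

/-- a non-scalar matrix gives a matrix unit. -/
theorem lie_exists (hbig : 3 ≤ Fintype.card m ∨ ∃ c : F, c ≠ 0 ∧ c ≠ 1) (hL : TStable L)
    {X : Matrix m m F} (hX : X ∈ L) (hns : ¬ ∃ c : F, X = c • (1 : Matrix m m F)) :
    ∃ i k : m, i ≠ k ∧ single i k (1 : F) ∈ L := by
  by_cases h1 : ∃ a b : m, a ≠ b ∧ X a b ≠ 0
  · obtain ⟨a, b, hab, hx⟩ := h1
    exact ⟨b, a, hab.symm, lie_offdiag hbig hL hX hab.symm hx⟩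
  · push Not at h1
    by_cases h2 : ∃ i k : m, X i i ≠ X k k
    · obtain ⟨i, k, hd⟩ := h2
      have hik : i ≠ k := fun h => hd (by rw [h])
      exact ⟨i, k, hik, lie_diag hL hX h1 hik hd⟩
    · push Not at h2
      exfalso
      apply hns
      by_cases hne : Nonempty m
      · obtain ⟨i₀⟩ := hne
        refine ⟨X i₀ i₀, ?_⟩
        ext a b
        rw [Matrix.smul_apply, smul_eq_mul]
        by_cases hab : a = b
        · subst hab
          rw [Matrix.one_apply_eq, mul_one, h2 a i₀]
        · rw [h1 a b hab, Matrix.one_apply_ne hab, mul_zero]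
      · refine ⟨0, ?_⟩
        ext a b
        exact (hne ⟨a⟩).elim

theorem move_row (hL : TStable L) {i k l : m} (h : single i k (1 : F) ∈ L) (hli : l ≠ i)
    (hlk : l ≠ k) : single l k (1 : F) ∈ L := by
  have h1 := lie_step_one hL h hli
  rw [single_mul_single_same, single_mul_single_of_ne (1 : F) i k l hlk.symm (1 : F),
    single_apply_of_col_ne _ _ hlk.symm, zero_smul, sub_zero, sub_zero, mul_one] at h1
  exact h1

theorem move_col (hL : TStable L) {i k l : m} (h : single i k (1 : F) ∈ L) (hli : l ≠ i)
    (hlk : l ≠ k) : single i l (1 : F) ∈ L := by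
  have h1 := lie_step_one hL h hlk.symm
  rw [single_mul_single_same, single_mul_single_of_ne (1 : F) k l i hli (1 : F),
    single_apply_of_row_ne hli.symm, zero_smul, sub_zero, zero_sub, mul_one] at h1
  exact (L.neg_mem_iff).mp h1

theorem swap (hbig : 3 ≤ Fintype.card m ∨ ∃ c : F, c ≠ 0 ∧ c ≠ 1) (hL : TStable L) {i k : m}
    (hik : i ≠ k) (h : single i k (1 : F) ∈ L) : single k i (1 : F) ∈ L := by
  refine lie_offdiag hbig hL h hik.symm ?_
  rw [single_apply_same]
  exact one_ne_zero

/-- the Lie-ideal lemma. -/
theorem lie_main (hbig : 3 ≤ Fintype.card m ∨ ∃ c : F, c ≠ 0 ∧ c ≠ 1) (hL : TStable L)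
    {X : Matrix m m F} (hX : X ∈ L) (hns : ¬ ∃ c : F, X = c • (1 : Matrix m m F))
    (i' k' : m) (hne : i' ≠ k') (c : F) : single i' k' c ∈ L := by
  obtain ⟨i, k, hik, h⟩ := lie_exists hbig hL hX hns
  have key : single i' k' (1 : F) ∈ L := by
    by_cases h1 : i' = i
    · subst h1
      by_cases h2 : k' = k
      · subst h2; exact h
      · exact move_col hL h hne.symm h2
    · by_cases h2 : i' = k
      · subst h2
        have hs := swap hbig hL hik h
        by_cases h3 : k' = i
        · subst h3; exact hs
        · exact move_col hL hs hne.symm h3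
      · have hr := move_row hL h h1 h2
        by_cases h3 : k' = k
        · subst h3; exact hr
        · exact move_col hL hr hne.symm h3
  have e : single i' k' c = c • single i' k' (1 : F) := by
    rw [smul_single, smul_eq_mul, mul_one]
  rw [e]
  exact L.smul_mem c key

end Cfsg.Agent.Helper2.TPLie
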