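import Cfsg.Agent.Helper8.ExtOA
import Cfsg.Agent.Helper8.SpSSymp

set_option autoImplicit false
set_option linter.unusedSectionVars false
set_option linter.unusedSimpArgs false

/-! Tensor products of symplectic spaces inside orthogonal groups (helper2, S5704): the elements
`t_v(c) ⊗ 1` and `1 ⊗ t_y(c)` are products of Siegel transformations. -/

namespace Cfsg.Agent.Helper2.TensOm

open Module Cfsg.Agent.Helper8.QuadForm Cfsg.Agent.Helper8.Siegel Cfsg.Agent.Helper8.SiegelGroup
  Cfsg.Agent.Helper8.SiegelSimple Cfsg.Agent.Helper8.OrthOrder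

universe u

variable {F : Type*} [Field F]

/-- a symplectic frame, with the expansion of the vectors. -/
theorem exists_symp_expansion {W : Type u} [AddCommGroup W] [Module F W] [FiniteDimensional F W]
    (f₂ : LinearMap.BilinForm F W)
    (halt : ∀ w, f₂ w w = 0) (hnd : ∀ w, (∀ w', f₂ w w' = 0) → w = 0) :
    ∃ (k : ℕ) (p q : Fin k → W),
      ∀ w, w = ∑ i, (f₂ w (q i) • p i - f₂ w (p i) • q i) := by
  have hAlt : Cfsg.Agent.Helper8.SpS.Alt f₂ := halt
  obtain ⟨k, p, q, hpp, hqq, hpq, hspan⟩ :=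
    Cfsg.Agent.Helper8.SpS.exists_symp_family (F := F) (finrank F W) W f₂ hAlt hnd rfl
  refine ⟨k, p, q, fun w => ?_⟩
  have hqp : ∀ i j, f₂ (q i) (p j) = if i = j then -1 else 0 := by
    intro i j
    rw [hAlt.skew, hpq]
    by_cases h : i = j
    · subst h; simp
    · rw [if_neg h, if_neg (Ne.symm h), neg_zero]
  set w' : W := ∑ i, (f₂ w (q i) • p i - f₂ w (p i) • q i) with hw'
  rw [← sub_eq_zero]
  apply hnd
  have hp : ∀ j, f₂ (w - w') (p j) = 0 := by
    intro j
    rw [map_sub, LinearMap.sub_apply, hw', map_sum, LinearMap.sum_apply]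
    simp only [map_sub, map_smul, LinearMap.sub_apply, LinearMap.smul_apply, hpp, hqp, smul_eq_mul,
      mul_zero, zero_sub, mul_ite, mul_neg, mul_one, neg_neg]
    rw [Finset.sum_neg_distrib, Finset.sum_ite_eq']
    simp
  have hq : ∀ j, f₂ (w - w') (q j) = 0 := by
    intro j
    rw [map_sub, LinearMap.sub_apply, hw', map_sum, LinearMap.sum_apply]
    simp only [map_sub, map_smul, LinearMap.sub_apply, LinearMap.smul_apply, hqq, hpq, smul_eq_mul,
      mul_zero, sub_zero, mul_ite, mul_one]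
    rw [Finset.sum_ite_eq']
    simp
  intro x
  have hx := hspan x
  refine Submodule.span_induction (p := fun y _ => f₂ (w - w') y = 0) ?_ ?_ ?_ ?_ hx
  · rintro y (⟨j, rfl⟩ | ⟨j, rfl⟩)
    · exact hp j
    · exact hq j
  · exact map_zero _
  · intro a b _ _ ha hb
    rw [map_add, ha, hb, add_zero]
  · intro r a _ ha
    rw [map_smul, ha, smul_zero]

universe u₁ u₂ u₃

variable {U : Type u₁} [AddCommGroup U] [Module F U]
  {W : Type u₂} [AddCommGroup W] [Module F W] {V : Type u₃} [AddCommGroup V] [Module F V]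

section mov

variable (t : U →ₗ[F] W →ₗ[F] V) (Q : QuadraticForm F V) (f₁ : LinearMap.BilinForm F U)
  (f₂ : LinearMap.BilinForm F W) (halt₁ : ∀ u, f₁ u u = 0)
  (hpure : ∀ u w, Q (t u w) = 0)
  (hpol : ∀ u w u' w', QuadraticMap.polar Q (t u w) (t u' w') = f₁ u u' * f₂ w w')

include halt₁ hpure hpol

/-- the effect of the Siegel transformation `ρ_{v ⊗ p, c v ⊗ q}` on a pure tensor. -/
theorem sieg_pure (v : U) (c : F) (p q : W) (u : U) (w : W) :
    ((siegG Q (t v p) (c • t v q) : ↥(Isom Q)) : V ≃ₗ[F] V) (t u w) =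
      t u w + (c * f₁ u v) • t v (f₂ w q • p - f₂ w p • q) := by
  have h0 : QuadraticMap.polar Q (t v p) (c • t v q) = 0 := by
    rw [QuadraticMap.polar_smul_right, hpol, halt₁, zero_mul, smul_zero]
  rw [siegG_val, siegE_apply Q (hpure v p) h0, sieg_apply, QuadraticMap.polar_smul_right, hpol,
    hpol, QuadraticMap.map_smul, hpure, smul_zero, zero_mul, zero_smul, sub_zero, map_sub, map_smul,
    map_smul, smul_eq_mul]
  module

/-- the product of the Siegel transformations over a list of indices. -/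
theorem list_prod_pure (v : U) (c : F) {k : ℕ} (p q : Fin k → W) (l : List (Fin k)) (u : U)
    (w : W) :
    (((l.map (fun i => siegG Q (t v (p i)) (c • t v (q i)))).prod : ↥(Isom Q)) : V ≃ₗ[F] V) (t u w) =
      t u w + (c * f₁ u v) •
        t v ((l.map (fun i => f₂ w (q i) • p i - f₂ w (p i) • q i)).sum) := by
  induction l with
  | nil =>
    simp
  | cons i l ih =>
    rw [List.map_cons, List.prod_cons, List.map_cons, List.sum_cons, Subgroup.coe_mul,
      LinearEquiv.mul_apply, ih, map_add, map_smul,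
      sieg_pure t Q f₁ f₂ halt₁ hpure hpol v c (p i) (q i) u w,
      sieg_pure t Q f₁ f₂ halt₁ hpure hpol v c (p i) (q i) v, halt₁, mul_zero, zero_smul, add_zero,
      map_add, smul_add]
    abel

/-- the element `t_v(c) ⊗ 1` is a product of Siegel transformations. -/
theorem movA_mem_SG {k : ℕ} (p q : Fin k → W)
    (hexp : ∀ w, w = ∑ i, (f₂ w (q i) • p i - f₂ w (p i) • q i)) (v : U) (c : F) :
    ∃ g ∈ SG Q, ∀ u w, ((g : ↥(Isom Q)) : V ≃ₗ[F] V) (t u w) = t (u + (c * f₁ u v) • v) w := by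
  refine ⟨((List.finRange k).map (fun i => siegG Q (t v (p i)) (c • t v (q i)))).prod, ?_, ?_⟩
  · apply Subgroup.list_prod_mem
    intro x hx
    rw [List.mem_map] at hx
    obtain ⟨i, -, rfl⟩ := hx
    apply siegG_mem_SG Q (hpure v (p i))
    rw [QuadraticMap.polar_smul_right, hpol, halt₁, zero_mul, smul_zero]
  · intro u w
    rw [list_prod_pure t Q f₁ f₂ halt₁ hpure hpol v c p q, ← List.ofFn_eq_map, List.sum_ofFn,
      ← hexp w, map_add, map_smul, LinearMap.add_apply, LinearMap.smul_apply]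

end mov

/-- the element `t_v(c) ⊗ 1` lies in the group generated by the Siegel transformations. -/
theorem movA (t : U →ₗ[F] W →ₗ[F] V) (Q : QuadraticForm F V) (f₁ : LinearMap.BilinForm F U)
    (f₂ : LinearMap.BilinForm F W) [FiniteDimensional F W] (halt₁ : ∀ u, f₁ u u = 0)
    (halt₂ : ∀ w, f₂ w w = 0) (hnd₂ : ∀ w, (∀ w', f₂ w w' = 0) → w = 0)
    (hpure : ∀ u w, Q (t u w) = 0)
    (hpol : ∀ u w u' w', QuadraticMap.polar Q (t u w) (t u' w') = f₁ u u' * f₂ w w')
    (v : U) (c : F) :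
    ∃ g ∈ SG Q, ∀ u w, ((g : ↥(Isom Q)) : V ≃ₗ[F] V) (t u w) = t (u + (c * f₁ u v) • v) w := by
  obtain ⟨k, p, q, hexp⟩ := exists_symp_expansion f₂ halt₂ hnd₂
  exact movA_mem_SG t Q f₁ f₂ halt₁ hpure hpol p q hexp v c

/-- the element `1 ⊗ t_y(c)` lies in the group generated by the Siegel transformations. -/
theorem movB (t : U →ₗ[F] W →ₗ[F] V) (Q : QuadraticForm F V) (f₁ : LinearMap.BilinForm F U)
    (f₂ : LinearMap.BilinForm F W) [FiniteDimensional F U] (halt₁ : ∀ u, f₁ u u = 0)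
    (hnd₁ : ∀ u, (∀ u', f₁ u u' = 0) → u = 0) (halt₂ : ∀ w, f₂ w w = 0)
    (hpure : ∀ u w, Q (t u w) = 0)
    (hpol : ∀ u w u' w', QuadraticMap.polar Q (t u w) (t u' w') = f₁ u u' * f₂ w w')
    (y : W) (c : F) :
    ∃ g ∈ SG Q, ∀ u w, ((g : ↥(Isom Q)) : V ≃ₗ[F] V) (t u w) = t u (w + (c * f₂ w y) • y) := by
  obtain ⟨g, hg, h⟩ := movA t.flip Q f₂ f₁ halt₂ halt₁ hnd₁ (fun w u => hpure u w)
    (fun w u w' u' => by
      rw [LinearMap.flip_apply, LinearMap.flip_apply, hpol, mul_comm]) y c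
  exact ⟨g, hg, fun u w => h w u⟩

end Cfsg.Agent.Helper2.TensOm
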