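import Cfsg.Agent.Helper8.TensSA

set_option autoImplicit false
set_option linter.unusedSectionVars false
set_option linter.unusedVariables false

/-! Tensor decompositions with forms (helper2, S5704), Leaf C: the shape of an isometry fixing the
perpendicular space of a fibre pointwise. -/

namespace Cfsg.Agent.Helper8.Tens

open Module Cfsg.Agent.Helper7.ExtF Cfsg.Agent.Helper8.OrthOrder Cfsg.Agent.Helper8.ExtO
  Cfsg.Agent.Helper8.Siegel Cfsg.Agent.Helper8.SiegelGroup Cfsg.Agent.Helper3.TensOm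

variable {F : Type*} [Field F] {U W V : Type*} [AddCommGroup U] [Module F U]
  [AddCommGroup W] [Module F W] [AddCommGroup V] [Module F V]
  {t : U →ₗ[F] W →ₗ[F] V} {Q : QuadraticForm F V} {f₁ : LinearMap.BilinForm F U}
  {f₂ : LinearMap.BilinForm F W} {M : Subgroup ↥(Isom Q)}

section

variable [FiniteDimensional F U] [FiniteDimensional F W] [FiniteDimensional F V]

theorem skew₂ (h : Hyp t Q f₁ f₂ M) (x y : W) : f₂ x y = - f₂ y x := by
  have h1 := h.alt₂ (x + y)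
  simp only [map_add, LinearMap.add_apply, h.alt₂, zero_add, add_zero] at h1
  linear_combination h1

/-- every functional is of the form `f₂ (·, d)`. -/
theorem exists_flip_eq (h : Hyp t Q f₁ f₂ M) (δ : Module.Dual F W) : ∃ d : W, f₂.flip d = δ := by
  have hinj : Function.Injective (f₂.flip : W →ₗ[F] Module.Dual F W) := by
    rw [← LinearMap.ker_eq_bot, LinearMap.ker_eq_bot']
    intro d hd
    apply h.nd₂
    intro y
    rw [skew₂ h]
    have := LinearMap.congr_fun hd y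
    change f₂ y d = 0 at this
    rw [this, neg_zero]
  have hsurj : Function.Surjective (f₂.flip : W →ₗ[F] Module.Dual F W) :=
    (LinearMap.injective_iff_surjective_of_finrank_eq_finrank
      (Subspace.dual_finrank_eq (K := F) (V := W)).symm).mp hinj
  exact hsurj δ

/-- a vector perpendicular to the pure tensors of the perpendicular space of a fibre lies in the
fibre. -/
theorem mem_fib_of_perp_pure (ht : IsTensorProduct t) (h : Hyp t Q f₁ f₂ M) {w₀ : W} (hw₀ : w₀ ≠ 0)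
    {z : V} (hz : ∀ u d, f₂ d w₀ = 0 → QuadraticMap.polar Q z (t u d) = 0) : z ∈ fib t w₀ := by
  rw [mem_fib_iff_ev ht hw₀]
  intro δ hδ
  obtain ⟨d, rfl⟩ := exists_flip_eq h δ
  change f₂ w₀ d = 0 at hδ
  apply h.nd₁
  intro u
  rw [← polar_pure ht h]
  apply hz
  rw [skew₂ h, hδ, neg_zero]

/-- a vector perpendicular to the perpendicular space of a fibre lies in the fibre. -/
theorem mem_fib_of_perp_Sperp (ht : IsTensorProduct t) (h : Hyp t Q f₁ f₂ M) {w₀ : W} (hw₀ : w₀ ≠ 0)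
    {z : V} (hz : ∀ y ∈ Sperp ht f₂ w₀, QuadraticMap.polar Q z y = 0) : z ∈ fib t w₀ :=
  mem_fib_of_perp_pure ht h hw₀ (fun u d hd => hz _ (t_mem_Sperp ht hd u))

/-- **Leaf C** (centre form), with the hypothesis on pure tensors only: an isometry fixing the pure
tensors `u ⊗ z`, `z ⊥ w₀`, is of the form `u' ⊗ w' ↦ u' ⊗ w' + f₂(w', w₀) N u' ⊗ w₀`. -/
theorem centre_form' (ht : IsTensorProduct t) (h : Hyp t Q f₁ f₂ M) {w₀ : W} (hw₀ : w₀ ≠ 0)
    {q : V ≃ₗ[F] V} (hiso : ∀ v, Q (q v) = Q v)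
    (hq : ∀ u z, f₂ z w₀ = 0 → q (t u z) = t u z) :
    ∃ N : U →ₗ[F] U, ∀ u' w', q (t u' w') = t u' w' + f₂ w' w₀ • t (N u') w₀ := by
  have hpol : ∀ v v', QuadraticMap.polar Q (q v) (q v') = QuadraticMap.polar Q v v' :=
    Cfsg.Agent.Helper8.WittQuad.polar_isometry Q q hiso
  -- the displacement lies in the fibre
  have hdisp : ∀ x, q x - x ∈ fib t w₀ := by
    intro x
    apply mem_fib_of_perp_pure ht h hw₀
    intro u d hd
    rw [QuadraticMap.polar_sub_left]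
    nth_rewrite 1 [← hq u d hd]
    rw [hpol, sub_self]
  -- a partner of `w₀`
  obtain ⟨w₁, hw₁⟩ : ∃ w₁ : W, f₂ w₁ w₀ = 1 := by
    have : ∃ y, f₂ w₀ y ≠ 0 := by
      by_contra hcon
      push Not at hcon
      exact hw₀ (h.nd₂ w₀ hcon)
    obtain ⟨y, hy⟩ := this
    refine ⟨(-(f₂ w₀ y)⁻¹) • y, ?_⟩
    rw [map_smul, LinearMap.smul_apply, skew₂ h y w₀, smul_eq_mul, neg_mul_neg,
      inv_mul_cancel₀ hy]
  set l₀ : Module.Dual F W := f₂ w₁ with hl₀
  have hl₀w : l₀ w₀ = 1 := hw₁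
  set N : U →ₗ[F] U :=
    (ev ht l₀) ∘ₗ (((q : V ≃ₗ[F] V) : V →ₗ[F] V) - 1) ∘ₗ (t.flip w₁) with hN
  have hNa : ∀ u', N u' = ev ht l₀ (q (t u' w₁) - t u' w₁) := fun u' => rfl
  have hkey : ∀ u', q (t u' w₁) = t u' w₁ + t (N u') w₀ := by
    intro u'
    obtain ⟨u'', hu''⟩ := mem_fib.mp (hdisp (t u' w₁))
    rw [hNa, ← hu'', ev_t, hl₀w, one_smul, hu'']
    abel
  refine ⟨N, fun u' w' => ?_⟩
  have hperp : f₂ (w' - f₂ w' w₀ • w₁) w₀ = 0 := by
    rw [map_sub, LinearMap.sub_apply, map_smul, LinearMap.smul_apply, hw₁, smul_eq_mul, mul_one,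
      sub_self]
  have hfix := hq u' _ hperp
  have hdec : t u' w' = f₂ w' w₀ • t u' w₁ + t u' (w' - f₂ w' w₀ • w₁) := by
    rw [map_sub, map_smul]
    abel
  calc q (t u' w') = q (f₂ w' w₀ • t u' w₁ + t u' (w' - f₂ w' w₀ • w₁)) := by rw [← hdec]
    _ = f₂ w' w₀ • (t u' w₁ + t (N u') w₀) + t u' (w' - f₂ w' w₀ • w₁) := by
        rw [map_add, map_smul, hkey, hfix]
    _ = t u' w' + f₂ w' w₀ • t (N u') w₀ := by
        rw [smul_add, hdec]
        abel

/-- **Leaf C** (centre form): an isometry fixing the perpendicular space of the fibre of `w₀`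
pointwise is of the form `u' ⊗ w' ↦ u' ⊗ w' + f₂(w', w₀) N u' ⊗ w₀`. -/
theorem centre_form (ht : IsTensorProduct t) (h : Hyp t Q f₁ f₂ M) {w₀ : W} (hw₀ : w₀ ≠ 0)
    {q : V ≃ₗ[F] V} (hiso : ∀ v, Q (q v) = Q v) (hq : ∀ x ∈ Sperp ht f₂ w₀, q x = x) :
    ∃ N : U →ₗ[F] U, ∀ u' w', q (t u' w') = t u' w' + f₂ w' w₀ • t (N u') w₀ :=
  centre_form' ht h hw₀ hiso (fun u z hz => hq _ (t_mem_Sperp ht hz u))

end

end Cfsg.Agent.Helper8.Tens
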