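import Cfsg.Agent.Helper2.TensSC

set_option autoImplicit false
set_option linter.unusedSectionVars false
set_option linter.unusedVariables false

/-! Tensor decompositions with forms (helper2, S5704): the last step of (Q-S). An element of the
group which fixes a fibre `U ⊗ w₀` pointwise and acts on the pure tensors `u ⊗ y`, `y ⊥ w₀`, through
scalars (`u ⊗ y ↦ u ⊗ y + f₂(y, d) u ⊗ w₀`) preserves the tensor decomposition, unless the group
contains all Siegel transformations. -/

namespace Cfsg.Agent.Helper8.Tens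

open Module Cfsg.Agent.Helper7.ExtF Cfsg.Agent.Helper8.OrthOrder Cfsg.Agent.Helper8.ExtO
  Cfsg.Agent.Helper8.Siegel Cfsg.Agent.Helper8.SiegelGroup Cfsg.Agent.Helper3.TensOm

variable {F : Type*} [Field F] {U W V : Type*} [AddCommGroup U] [Module F U]
  [AddCommGroup W] [Module F W] [AddCommGroup V] [Module F V]
  {t : U →ₗ[F] W →ₗ[F] V} {Q : QuadraticForm F V} {f₁ : LinearMap.BilinForm F U}
  {f₂ : LinearMap.BilinForm F W} {M : Subgroup ↥(Isom Q)}

/-- an endomorphism all of whose vectors are eigenvectors is a scalar. -/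
theorem scalar_of_forall_eigen (N : U →ₗ[F] U) (hN : ∀ u, ∃ a : F, N u = a • u) :
    ∃ a : F, ∀ u, N u = a • u := by
  by_cases hU : ∀ u : U, u = 0
  · exact ⟨0, fun u => by rw [hU u, map_zero, smul_zero]⟩
  · push Not at hU
    obtain ⟨u₀, hu₀⟩ := hU
    obtain ⟨a₀, ha₀⟩ := hN u₀
    refine ⟨a₀, fun u => ?_⟩
    obtain ⟨a, ha⟩ := hN u
    by_cases hu : u = 0
    · rw [hu, map_zero, smul_zero]
    by_cases hdep : u ∈ Submodule.span F {u₀}
    · obtain ⟨c, rfl⟩ := Submodule.mem_span_singleton.mp hdep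
      rw [map_smul, ha₀, smul_comm]
    · -- independent
      obtain ⟨b, hb⟩ := hN (u₀ + u)
      rw [map_add, ha₀, ha, smul_add] at hb
      have hlin : (a₀ - b) • u₀ + (a - b) • u = 0 := by
        rw [sub_smul, sub_smul]
        have : a₀ • u₀ + a • u - (b • u₀ + b • u) = 0 := sub_eq_zero.mpr hb
        rw [← this]
        abel
      have h2 : a - b = 0 := by
        by_contra hne
        apply hdep
        rw [Submodule.mem_span_singleton]
        refine ⟨-(a - b)⁻¹ * (a₀ - b), ?_⟩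
        have : (a - b) • u = -((a₀ - b) • u₀) := eq_neg_of_add_eq_zero_right hlin
        calc (-(a - b)⁻¹ * (a₀ - b)) • u₀ = (a - b)⁻¹ • (-((a₀ - b) • u₀)) := by
              rw [mul_smul, neg_smul, smul_neg]
          _ = (a - b)⁻¹ • ((a - b) • u) := by rw [this]
          _ = u := by rw [smul_smul, inv_mul_cancel₀ hne, one_smul]
      have h1 : a₀ - b = 0 := by
        rw [h2, zero_smul, add_zero] at hlin
        rcases smul_eq_zero.mp hlin with h | h
        · exact h
        · exact (hu₀ h).elim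
      rw [ha, sub_eq_zero.mp h2, ← sub_eq_zero.mp h1]

section

variable [FiniteDimensional F U] [FiniteDimensional F W] [FiniteDimensional F V]

theorem isTens_yB (ht : IsTensorProduct t) (halt₂ : ∀ w, f₂ w w = 0) (w : W) (c : F) :
    IsTens t (yB ht f₂ halt₂ w c) := by
  unfold yB
  rw [xB_eq_tmap]
  exact isTens_tmap ht _ _

/-- the last step of (Q-S): the scalar case. -/
theorem isTens_of_scalar_part (ht : IsTensorProduct t) (h : Hyp t Q f₁ f₂ M)
    (hno : ¬ SG Q ≤ M) {q : V ≃ₗ[F] V} (hq : q ∈ XM M) {w₀ : W} (hw₀ : w₀ ≠ 0) (d : W)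
    (hd : f₂ d w₀ = 0)
    (hqd : ∀ u y, f₂ y w₀ = 0 → q (t u y) = t u y + f₂ y d • t u w₀) : IsTens t q := by
  -- the element of `H` with the same action
  set ζ : V ≃ₗ[F] V := yB ht f₂ h.alt₂ d (-1) * yB ht f₂ h.alt₂ (w₀ + d) 1 with hζ
  have hζX : ζ ∈ XM M := (XM M).mul_mem (yB_mem ht h _ _) (yB_mem ht h _ _)
  have hζT : IsTens t ζ := (isTens_yB ht h.alt₂ _ _).mul ht (isTens_yB ht h.alt₂ _ _)
  have hw₀d : f₂ w₀ d = 0 := by rw [skew₂ h, hd, neg_zero]
  have hζa : ∀ u y, f₂ y w₀ = 0 → ζ (t u y) = t u y + f₂ y d • t u w₀ := by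
    intro u y hy
    rw [hζ, LinearEquiv.mul_apply, yB_t, yB_t]
    simp only [map_add, map_smul, LinearMap.add_apply, LinearMap.smul_apply, hy, hw₀d, h.alt₂,
      smul_eq_mul, mul_zero, add_zero, zero_add, one_mul, mul_one]
    module
  -- the quotient fixes the pure tensors `u ⊗ y`, `y ⊥ w₀`
  set q' : V ≃ₗ[F] V := ζ⁻¹ * q with hq'
  have hq'X : q' ∈ XM M := (XM M).mul_mem ((XM M).inv_mem hζX) hq
  have hq'fix : ∀ u z, f₂ z w₀ = 0 → q' (t u z) = t u z := by
    intro u z hz
    rw [hq', LinearEquiv.mul_apply, hqd u z hz, ← hζa u z hz, inv_apply_self]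
  obtain ⟨N, hN⟩ := centre_form' ht h hw₀ (isom_of_mem_XM hq'X) hq'fix
  obtain ⟨hiso, hmem⟩ := mem_XM.mp hq'X
  -- the parameter is a scalar
  have hNs : ∀ u, ∃ a : F, N u = a • u := by
    intro u
    by_contra hcon
    push Not at hcon
    exact hno (h.SG_le_of_centre hw₀ N hmem hN hcon)
  obtain ⟨a, ha⟩ := scalar_of_forall_eigen N hNs
  have hq'eq : q' = yB ht f₂ h.alt₂ w₀ a := by
    apply equiv_ext_pure ht
    intro u w
    rw [hN, ha, yB_t, map_add, map_smul, map_smul, LinearMap.smul_apply, smul_smul, mul_comm]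
  have hqq : q = ζ * q' := by rw [hq', mul_inv_cancel_left]
  rw [hqq, hq'eq]
  exact hζT.mul ht (isTens_yB ht h.alt₂ _ _)

/-- the last step of (Q-S), with the scalars given pointwise. -/
theorem isTens_of_scalar_part' (ht : IsTensorProduct t) (h : Hyp t Q f₁ f₂ M)
    (hU : 1 ≤ finrank F U) (hno : ¬ SG Q ≤ M) {q : V ≃ₗ[F] V} (hq : q ∈ XM M) {w₀ : W}
    (hw₀ : w₀ ≠ 0) (hfix : ∀ u, q (t u w₀) = t u w₀)
    (hsc : ∀ y, f₂ y w₀ = 0 → ∃ c : F, ∀ u, q (t u y) = t u y + c • t u w₀) : IsTens t q := by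
  obtain ⟨u₀, hu₀⟩ : ∃ u₀ : U, u₀ ≠ 0 := by
    by_contra hcon
    push Not at hcon
    have : finrank F U = 0 := by
      haveI : Subsingleton U := ⟨fun a b => by rw [hcon a, hcon b]⟩
      exact Module.finrank_zero_of_subsingleton
    omega
  have hz₀ : t u₀ w₀ ≠ 0 := by
    intro h0
    rcases (t_eq_zero_iff ht).mp h0 with h1 | h1
    · exact hu₀ h1
    · exact hw₀ h1
  set K : Submodule F W := LinearMap.ker (f₂.flip w₀) with hK
  have hmemK : ∀ y, y ∈ K ↔ f₂ y w₀ = 0 := fun y => LinearMap.mem_ker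
  choose c hc using hsc
  have hcancel : ∀ a b : F, a • t u₀ w₀ = b • t u₀ w₀ → a = b := by
    intro a b hab
    have : (a - b) • t u₀ w₀ = 0 := by rw [sub_smul, hab, sub_self]
    rcases smul_eq_zero.mp this with h1 | h1
    · exact sub_eq_zero.mp h1
    · exact (hz₀ h1).elim
  let cK : ↥K →ₗ[F] F :=
    { toFun := fun y => c y.1 ((hmemK _).mp y.2)
      map_add' := by
        intro y y'
        apply hcancel
        have h1 := hc (y.1 + y'.1) ((hmemK _).mp (K.add_mem y.2 y'.2)) u₀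
        have h2 := hc y.1 ((hmemK _).mp y.2) u₀
        have h3 := hc y'.1 ((hmemK _).mp y'.2) u₀
        rw [map_add, map_add, h2, h3] at h1
        have e : c (y.1 + y'.1) ((hmemK _).mp (K.add_mem y.2 y'.2)) • t u₀ w₀ =
            c y.1 ((hmemK _).mp y.2) • t u₀ w₀ + c y'.1 ((hmemK _).mp y'.2) • t u₀ w₀ := by
          have := h1
          rw [add_assoc, add_assoc] at this
          have h4 := add_left_cancel this
          rw [← add_assoc, add_comm (c y.1 _ • t u₀ w₀) (t u₀ y'.1), add_assoc] at h4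
          exact (add_left_cancel h4).symm
        rw [add_smul]
        exact e
      map_smul' := by
        intro r y
        apply hcancel
        have h1 := hc (r • y.1) ((hmemK _).mp (K.smul_mem r y.2)) u₀
        have h2 := hc y.1 ((hmemK _).mp y.2) u₀
        rw [map_smul, map_smul, h2, smul_add] at h1
        have e := add_left_cancel h1
        rw [RingHom.id_apply, smul_eq_mul, mul_smul]
        exact e.symm }
  have hcK : ∀ y (hy : f₂ y w₀ = 0), cK ⟨y, (hmemK y).mpr hy⟩ = c y hy := fun y hy => rfl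
  obtain ⟨δ, hδ⟩ := LinearMap.exists_extend cK
  obtain ⟨d, hd⟩ := exists_flip_eq h δ
  have hδy : ∀ y (hy : f₂ y w₀ = 0), f₂ y d = c y hy := by
    intro y hy
    have h1 : δ y = cK ⟨y, (hmemK y).mpr hy⟩ := by
      rw [← hδ]; rfl
    rw [← hcK y hy, ← h1, ← hd]
    rfl
  -- `d ⊥ w₀` since `q` fixes the fibre pointwise
  have hw₀0 : c w₀ (h.alt₂ w₀) = 0 := by
    have h1 := hc w₀ (h.alt₂ w₀) u₀
    rw [hfix] at h1
    have : c w₀ (h.alt₂ w₀) • t u₀ w₀ = (0 : F) • t u₀ w₀ := by
      rw [zero_smul]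
      have := add_left_cancel (a := t u₀ w₀) (b := 0) (c := c w₀ (h.alt₂ w₀) • t u₀ w₀)
        (by rw [add_zero]; exact h1)
      exact this.symm
    exact hcancel _ _ this
  have hdw : f₂ d w₀ = 0 := by
    rw [skew₂ h, hδy w₀ (h.alt₂ w₀), hw₀0, neg_zero]
  apply isTens_of_scalar_part ht h hno hq hw₀ d hdw
  intro u y hy
  rw [hδy y hy]
  exact hc y hy u

end

end Cfsg.Agent.Helper8.Tens
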