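import Cfsg.Agent.Helper8.TensSG

set_option autoImplicit false
set_option linter.unusedSectionVars false
set_option linter.unusedVariables false

/-! S5704, Leaf F, the branch `a = 2` (helper2 for helper8's framework): an element of the
radical at the fibre of `w₀` lying in `M` whose component `C` at `z` has `f₁ (C u) u ≠ 0` for
some `u` gives `SG Q ≤ M`, as soon as the field has an element `≠ 0, 1`.

The commutators `[yA u c, q]` have the components `D(c) = c•(P u (C'u) - P (Cu) u) - (c²μ)•P u u`,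
`μ = f₁ (C u) u`; pure reduction at `z`, then `Xi (D c) 1 * Xi (D 1) (-c)` has the component
`κ' • P u u` at `z' ⊥ w₀` with `f₂ z' z ≠ 0`, `κ' = f₂ z' z (cμ - c²μ) ≠ 0`; pure reduction at
`z'` gives the Siegel elements `siegE Q (t u w₀) (k • t u z')`, a type (II) seed. -/

namespace Cfsg.Agent.Helper8.Tens

open Module Cfsg.Agent.Helper7.ExtF Cfsg.Agent.Helper8.OrthOrder Cfsg.Agent.Helper3.TensOm
  Cfsg.Agent.Helper8.SiegelGroup Cfsg.Agent.Helper8.Siegel Cfsg.Agent.Helper8.ExtO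

variable {F : Type*} [Field F] {U W V : Type*} [AddCommGroup U] [Module F U]
  [AddCommGroup W] [Module F W] [AddCommGroup V] [Module F V]
  {t : U →ₗ[F] W →ₗ[F] V} {Q : QuadraticForm F V} {f₁ : LinearMap.BilinForm F U}
  {f₂ : LinearMap.BilinForm F W} {M : Subgroup ↥(Isom Q)}

/-- the explicit elements `Xi` lie in the radical at the fibre of `w₀`. -/
theorem Xi_inRS (ht : IsTensorProduct t) (halt₂ : ∀ w, f₂ w w = 0) (C C' : Module.End F U)
    {w₀ z : W} (hz : f₂ z w₀ = 0) (c : F) : InRS t f₂ w₀ (Xi ht halt₂ C C' hz c) := by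
  have hz' : f₂ w₀ z = 0 := alt_perp_symm f₂ halt₂ hz
  refine ⟨fun u => ?_, fun u z'' hz'' => ?_⟩
  · rw [Xi_t, hz', halt₂]
    simp
  · rw [Xi_t, hz'']
    simp only [zero_smul, add_zero, add_sub_cancel_left]
    exact (fib t w₀).smul_mem _ ((fib t w₀).smul_mem _ (t_mem_fib _ _))

/-- the component of the commutator `[yA u c, q]`, pointwise. -/
theorem Dc_apply {X : Type*} [AddCommGroup X] [Module F X] {f : LinearMap.BilinForm F X}
    {C C' : Module.End F X} (hadj : IsAdj f C C') (u : X) (c : F) (x : X) :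
    (Tv f u c * C * Tv f u (-c) - C) x
      = c • (f x (C' u) • u - f x u • C u) - (c * c * f (C u) u) • f x u • u := by
  simp only [LinearMap.sub_apply, Module.End.mul_apply, Tv_apply, map_add, map_smul,
    map_neg, neg_mul, neg_smul]
  rw [hadj x u]
  module

/-- the adjoint of the component of the commutator `[yA u c, q]`. -/
theorem Dc_adj {X : Type*} [AddCommGroup X] [Module F X] {f : LinearMap.BilinForm F X}
    (halt : ∀ x, f x x = 0) {C C' : Module.End F X} (hadj : IsAdj f C C') (u : X) (c : F) :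
    IsAdj f (Tv f u c * C * Tv f u (-c) - C) (Tv f u (- -c) * (C' * Tv f u (-c)) - C') :=
  (((isAdj_Tv halt u c).mul hadj).mul (isAdj_Tv halt u (-c))).sub hadj

/-- **(F-a)**, the branch `a = 2` of Leaf F. -/
theorem SG_le_of_mu (ht : IsTensorProduct t) (h : Hyp t Q f₁ f₂ M)
    (hF : ∃ c : F, c ≠ 0 ∧ c ≠ 1) {w₀ z : W} (hw₀ : w₀ ≠ 0) {q : V ≃ₗ[F] V} (hqM : q ∈ XM M)
    (hq : InRS t f₂ w₀ q) (hz : f₂ z w₀ = 0) (hzw : ∀ a : F, z ≠ a • w₀)
    {C C' : Module.End F U} (hC : ∀ u, q (t u z) = t u z + t (C u) w₀) (hadj : IsAdj f₁ C C')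
    {u : U} (hμ : f₁ (C u) u ≠ 0) : SG Q ≤ M := by
  obtain ⟨c, hc0, hc1⟩ := hF
  obtain ⟨z', hz'1, hz'2⟩ := exists_perp_not_perp f₂ h.nd₂ hw₀ hzw
  have hz' : f₂ z' w₀ = 0 := alt_perp_symm f₂ h.alt₂ hz'1
  have hz'z : f₂ z' z ≠ 0 := by
    rw [alt_skew f₂ h.alt₂ z' z]
    exact neg_ne_zero.mpr hz'2
  have hw₀z : f₂ w₀ z = 0 := alt_perp_symm f₂ h.alt₂ hz
  have hu : u ≠ 0 := by
    rintro rfl
    exact hμ (by simp)
  have hz'w : ∀ a : F, z' ≠ a • w₀ := by
    intro a ha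
    apply hz'z
    rw [ha, map_smul, LinearMap.smul_apply, hw₀z, smul_zero]
  -- the two commutators and their pure reductions at `z`
  obtain ⟨hqcM, hqc, hCc⟩ := conj_step ht h hqM hq hz hC u c
  obtain ⟨hq1M, hq1, hC1⟩ := conj_step ht h hqM hq hz hC u 1
  have hr1 := Xi_mem ht h hqcM hqc hz hCc (Dc_adj h.alt₁ hadj u c) 1
  have hr2 := Xi_mem ht h hq1M hq1 hz hC1 (Dc_adj h.alt₁ hadj u 1) (-c)
  have hi1 := Xi_inRS ht h.alt₂ (Tv f₁ u c * C * Tv f₁ u (-c) - C)
    (Tv f₁ u (- -c) * (C' * Tv f₁ u (-c)) - C') hz 1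
  have hi2 := Xi_inRS ht h.alt₂ (Tv f₁ u 1 * C * Tv f₁ u (-1) - C)
    (Tv f₁ u (- -1) * (C' * Tv f₁ u (-1)) - C') hz (-c)
  have hq3M := (XM M).mul_mem hr1 hr2
  have hq3 := hi1.mul hi2
  set κ' : F := f₂ z' z * (c * f₁ (C u) u - c * c * f₁ (C u) u) with hκ'
  have hκ'0 : κ' ≠ 0 := by
    rw [hκ']
    apply mul_ne_zero hz'z
    have : c * f₁ (C u) u - c * c * f₁ (C u) u = c * f₁ (C u) u * (1 - c) := by ring
    rw [this]
    exact mul_ne_zero (mul_ne_zero hc0 hμ) (sub_ne_zero.mpr (Ne.symm hc1))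
  have hC3 : ∀ e, (Xi ht h.alt₂ (Tv f₁ u c * C * Tv f₁ u (-c) - C)
      (Tv f₁ u (- -c) * (C' * Tv f₁ u (-c)) - C') hz 1 *
      Xi ht h.alt₂ (Tv f₁ u 1 * C * Tv f₁ u (-1) - C)
      (Tv f₁ u (- -1) * (C' * Tv f₁ u (-1)) - C') hz (-c)) (t e z')
      = t e z' + t ((κ' • P f₁ u u) e) w₀ := by
    intro e
    rw [LinearEquiv.mul_apply, Xi_t, hz']
    simp only [zero_smul, add_zero, map_add, map_smul]
    rw [Xi_t, Xi_t, hz', hw₀z, h.alt₂]
    simp only [Dc_apply hadj, zero_smul, add_zero, map_smul, map_sub,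
      LinearMap.sub_apply, LinearMap.smul_apply, P_apply, smul_zero]
    rw [hκ']
    module
  have hadj3 : IsAdj f₁ (κ' • P f₁ u u) (κ' • - P f₁ u u) := (isAdj_P h.alt₁ u u).smul κ'
  have h4 : ∀ c'' : F, Xi ht h.alt₂ (κ' • P f₁ u u) (κ' • - P f₁ u u) hz' c'' ∈ XM M :=
    fun c'' => Xi_mem ht h hq3M hq3 hz' hC3 hadj3 c''
  -- identification with the Siegel elements
  have hpol : QuadraticMap.polar Q (t u w₀) (t u z') = 0 := by rw [h.pol, h.alt₁, zero_mul]
  have hsieg : ∀ c'' : F, Xi ht h.alt₂ (κ' • P f₁ u u) (κ' • - P f₁ u u) hz' c''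
      = siegE Q (t u w₀) ((c'' * κ') • t u z') := by
    intro c''
    apply equiv_ext_pure ht
    intro e w
    rw [Xi_t, siegE_apply Q (h.pure _ _)
      (by rw [QuadraticMap.polar_smul_right, hpol, smul_zero]), sieg_apply]
    simp only [LinearMap.smul_apply, LinearMap.neg_apply, P_apply, map_smul, map_neg,
      h.alt₁, zero_smul, smul_zero, neg_zero, map_zero, LinearMap.zero_apply, add_zero,
      QuadraticMap.polar_smul_right, h.pol, QuadraticMap.map_smul, h.pure, smul_eq_mul,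
      mul_zero, zero_mul, sub_zero]
    module
  have hseed : t u z' ∈ AS Q M (t u w₀) := by
    refine ⟨hpol, fun k => ?_⟩
    have hk := h4 (k * κ'⁻¹)
    rw [hsieg, inv_mul_cancel_right₀ hκ'0] at hk
    obtain ⟨hi, hm⟩ := mem_XM.mp hk
    exact hm
  exact h.SG_le_of_seedII hu hw₀ hz'w hseed

end Cfsg.Agent.Helper8.Tens
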