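import Mathlib
import Cfsg.Agent.Helper1.Class2

set_option autoImplicit false

/-!
Groups of exponent dividing four with central commutators whose elements of square one are closed
under products and number at most four: basic identities.
-/

namespace Cfsg.Agent.Helper2.ThreeInv

open scoped commutatorElement

universe u

/-- exponent dividing four, central commutators, the elements of square one are closed under
products and there are at most four of them -/
structure Hyp (D : Type u) [Group D] : Prop where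
  pow_four : ∀ d : D, d ^ 4 = 1
  comm_central : ∀ a b c : D, ⁅a, b⁆ * c = c * ⁅a, b⁆
  sq_mul : ∀ a b : D, a ^ 2 = 1 → b ^ 2 = 1 → (a * b) ^ 2 = 1
  card_sq : Nat.card {d : D // d ^ 2 = 1} ≤ 4

namespace Hyp

variable {D : Type u} [Group D] (h : Hyp D)
include h

theorem commute_comm (a b c : D) : Commute ⁅a, b⁆ c := h.comm_central a b c

theorem mul_sq (x y : D) : (x * y) ^ 2 = x ^ 2 * y ^ 2 * ⁅y, x⁆ := by
  have h1 := Cfsg.Agent.Helper1.mul_pow_of_central (c := ⁅y, x⁆) (x := x) (y := y)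
    (fun z => h.commute_comm y x z) (by simp [commutatorElement_def]) 2
  simpa using h1

theorem comm_sq (a b : D) : ⁅a, b⁆ ^ 2 = 1 := by
  have h1 := Cfsg.Agent.Helper1.mul_pow_of_central (c := ⁅a, b⁆) (x := b) (y := a)
    (fun z => h.commute_comm a b z) (by simp [commutatorElement_def]) 4
  rw [h.pow_four, h.pow_four, h.pow_four, one_mul, one_mul] at h1
  have h6 : Nat.choose 4 2 = 4 + 2 := by decide
  rw [h6, pow_add, h.pow_four, one_mul] at h1
  exact h1.symm

theorem comm_inv (a b : D) : ⁅a, b⁆⁻¹ = ⁅a, b⁆ := by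
  have h1 := h.comm_sq a b
  rw [pow_two] at h1
  exact inv_eq_of_mul_eq_one_left h1

theorem comm_symm (a b : D) : ⁅a, b⁆ = ⁅b, a⁆ := by
  rw [← commutatorElement_inv, h.comm_inv]

theorem comm_mul_left (a b c : D) : ⁅a * b, c⁆ = ⁅a, c⁆ * ⁅b, c⁆ := by
  have h1 : ⁅a * b, c⁆ = a * ⁅b, c⁆ * a⁻¹ * ⁅a, c⁆ := by
    simp only [commutatorElement_def]; group
  rw [h1, (h.commute_comm b c a).eq.symm, mul_inv_cancel_right,
    (h.commute_comm b c ⁅a, c⁆).eq]

theorem comm_mul_right (a b c : D) : ⁅a, b * c⁆ = ⁅a, b⁆ * ⁅a, c⁆ := by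
  rw [h.comm_symm a (b * c), h.comm_mul_left, h.comm_symm b a, h.comm_symm c a]

theorem sq_central (a b : D) : Commute (a ^ 2) b := by
  rw [← commutatorElement_eq_one_iff_commute, pow_two, h.comm_mul_left, ← pow_two, h.comm_sq]

theorem sq_sq (a : D) : (a ^ 2) ^ 2 = 1 := by
  rw [← pow_mul]; exact h.pow_four a

omit h in
theorem inv_sq_eq_one {a : D} (ha : a ^ 2 = 1) : a⁻¹ ^ 2 = 1 := by
  rw [inv_pow, ha, inv_one]

/-- the subgroup of the elements of square one -/
def V : Subgroup D where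
  carrier := {d | d ^ 2 = 1}
  one_mem' := one_pow 2
  mul_mem' := fun ha hb => h.sq_mul _ _ ha hb
  inv_mem' := fun ha => inv_sq_eq_one ha

theorem mem_V (d : D) : d ∈ h.V ↔ d ^ 2 = 1 := Iff.rfl

theorem sq_mem_V (d : D) : d ^ 2 ∈ h.V := h.sq_sq d

theorem comm_mem_V (a b : D) : ⁅a, b⁆ ∈ h.V := h.comm_sq a b

theorem card_V : Nat.card h.V ≤ 4 := h.card_sq

omit h in
theorem inv_eq_of_sq {a : D} (ha : a ^ 2 = 1) : a⁻¹ = a := by
  rw [pow_two] at ha
  exact inv_eq_of_mul_eq_one_left ha

/-- five elements of square one cannot be pairwise distinct -/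
theorem eq_of_five [Finite D] {a b c e f : D} (ha : a ^ 2 = 1) (hb : b ^ 2 = 1) (hc : c ^ 2 = 1)
    (he : e ^ 2 = 1) (hf : f ^ 2 = 1) (hab : a ≠ b) (hac : a ≠ c) (hae : a ≠ e) (hbc : b ≠ c)
    (hbe : b ≠ e) (hce : c ≠ e) : f = a ∨ f = b ∨ f = c ∨ f = e := by
  by_contra hcon
  push Not at hcon
  obtain ⟨hfa, hfb, hfc, hfe⟩ := hcon
  let g : Fin 5 → {d : D // d ^ 2 = 1} :=
    ![⟨a, ha⟩, ⟨b, hb⟩, ⟨c, hc⟩, ⟨e, he⟩, ⟨f, hf⟩]
  have hg : Function.Injective g := by
    intro i j hij
    fin_cases i <;> fin_cases j <;> first | rfl | (exfalso; simp [g, Subtype.ext_iff] at hij; tauto)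
  have := Nat.card_le_card_of_injective g hg
  rw [Nat.card_fin] at this
  have := h.card_sq
  omega

/-- elements of square one are central -/
theorem commute_of_sq [Finite D] {v : D} (hv : v ^ 2 = 1) (d : D) : Commute d v := by
  by_contra hnc
  have hw : ⁅d, v⁆ ≠ 1 := fun h1 => hnc (commutatorElement_eq_one_iff_commute.1 h1)
  obtain ⟨w, hwdef⟩ : ∃ w, w = ⁅d, v⁆ := ⟨_, rfl⟩
  rw [← hwdef] at hw
  have hw2 : w ^ 2 = 1 := by rw [hwdef]; exact h.comm_sq d v
  have hwc : ∀ z, Commute w z := fun z => by rw [hwdef]; exact h.commute_comm d v z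
  have hv1 : v ≠ 1 := by
    rintro rfl
    apply hw
    rw [hwdef]
    simp
  have hwv : w ≠ v := by
    intro hwv
    have h1 : d * v * d⁻¹ = v * v := by
      calc d * v * d⁻¹ = (d * v * d⁻¹ * v⁻¹) * v := by group
        _ = v * v := by rw [← commutatorElement_def, ← hwdef, hwv]
    rw [← pow_two, hv] at h1
    apply hv1
    calc v = d⁻¹ * (d * v * d⁻¹) * d := by group
      _ = 1 := by rw [h1]; group
  have hvw2 : (v * w) ^ 2 = 1 := h.sq_mul v w hv hw2
  have h1vw : (1 : D) ≠ v * w := by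
    intro h1
    apply hwv
    calc w = v⁻¹ * (v * w) := by group
      _ = v := by rw [← h1, mul_one, inv_eq_of_sq hv]
  have hvvw : v ≠ v * w := by
    intro h1
    apply hw
    calc w = v⁻¹ * (v * w) := by group
      _ = 1 := by rw [← h1]; group
  have hwvw : w ≠ v * w := by
    intro h1
    apply hv1
    calc v = (v * w) * w⁻¹ := by group
      _ = 1 := by rw [← h1]; group
  have key : ∀ u : D, u ^ 2 = 1 → Commute u v := by
    intro u hu
    have h5 := h.eq_of_five (one_pow 2) hv hw2 hvw2 hu (Ne.symm hv1) (Ne.symm hw) h1vw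
      (Ne.symm hwv) hvvw hwvw
    rcases h5 with rfl | rfl | rfl | rfl
    · exact Commute.one_left v
    · exact Commute.refl _
    · exact hwc v
    · exact (Commute.refl v).mul_left (hwc v)
  have hdd : Commute d (d ^ 2) := (Commute.refl d).pow_right 2
  have h5 := h.eq_of_five (one_pow 2) hv hw2 hvw2 (h.sq_sq d) (Ne.symm hv1) (Ne.symm hw) h1vw
    (Ne.symm hwv) hvvw hwvw
  rcases h5 with h1 | h1 | h1 | h1
  · exact hnc (key d h1)
  · rw [h1] at hdd
    exact hnc hdd
  · have h2 : (d * v) ^ 2 = 1 := by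
      rw [h.mul_sq, h1, hv, mul_one, h.comm_symm v d, ← hwdef, ← pow_two, hw2]
    have h3 := key (d * v) h2
    apply hnc
    have h4 : d = (d * v) * v⁻¹ := by group
    rw [h4]
    exact h3.mul_left (Commute.refl v).inv_left
  · rw [h1] at hdd
    apply hnc
    have h4 : v = (v * w) * w⁻¹ := by group
    rw [h4]
    exact hdd.mul_right ((hwc d).symm.inv_right)

theorem V_le_center [Finite D] : h.V ≤ Subgroup.center D := by
  intro v hv
  rw [Subgroup.mem_center_iff]
  intro g
  exact (h.commute_of_sq hv g).eq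

theorem mul_sq_of_sq [Finite D] (d : D) {v : D} (hv : v ^ 2 = 1) : (d * v) ^ 2 = d ^ 2 := by
  rw [h.mul_sq, hv, mul_one, commutatorElement_eq_one_iff_commute.2 (h.commute_of_sq hv d).symm,
    mul_one]


/-- the homomorphism `d ↦ ⁅d, x⁆` into the elements of square one -/
def commHom (x : D) : D →* h.V where
  toFun d := ⟨⁅d, x⁆, h.comm_sq d x⟩
  map_one' := by
    apply Subtype.ext
    simp
  map_mul' a b := by
    apply Subtype.ext
    exact h.comm_mul_left a b x

theorem commHom_apply (x d : D) : ((h.commHom x d : h.V) : D) = ⁅d, x⁆ := rfl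

theorem mem_ker_commHom (x d : D) : d ∈ (h.commHom x).ker ↔ Commute d x := by
  rw [MonoidHom.mem_ker, ← commutatorElement_eq_one_iff_commute, Subtype.ext_iff]
  rfl

/-- `|D| ≤ |V| |C(x)|` -/
theorem card_le_card_ker_commHom [Finite D] (x : D) :
    Nat.card D ≤ Nat.card h.V * Nat.card (h.commHom x).ker := by
  rw [← Subgroup.card_mul_index (h.commHom x).ker, Subgroup.index_ker, mul_comm]
  apply Nat.mul_le_mul_right
  exact Subgroup.card_le_card_group _

omit h in
/-- avoiding finitely many translates of a subgroup -/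
theorem exists_forall_not_mem [Finite D] (C F : Subgroup D) (l : List (D × D))
    (hl : l.length * Nat.card F < Nat.card C) :
    ∃ c ∈ C, ∀ p ∈ l, p.1 * c * p.2 ∉ F := by
  have hB : ∀ l : List (D × D),
      Set.ncard {c : D | ∃ p ∈ l, p.1 * c * p.2 ∈ F} ≤ l.length * Nat.card F := by
    intro l
    induction l with
    | nil => simp
    | cons p l ih =>
      have hsub : {c : D | ∃ q ∈ p :: l, q.1 * c * q.2 ∈ F} ⊆
          (fun f : D => p.1⁻¹ * f * p.2⁻¹) '' (F : Set D) ∪
            {c : D | ∃ q ∈ l, q.1 * c * q.2 ∈ F} := by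
        rintro c ⟨q, hq, hc⟩
        rcases List.mem_cons.1 hq with rfl | hq
        · left
          exact ⟨q.1 * c * q.2, hc, by group⟩
        · right
          exact ⟨q, hq, hc⟩
      calc Set.ncard {c : D | ∃ q ∈ p :: l, q.1 * c * q.2 ∈ F}
          ≤ Set.ncard ((fun f : D => p.1⁻¹ * f * p.2⁻¹) '' (F : Set D) ∪
            {c : D | ∃ q ∈ l, q.1 * c * q.2 ∈ F}) := Set.ncard_le_ncard hsub (Set.toFinite _)
        _ ≤ Set.ncard ((fun f : D => p.1⁻¹ * f * p.2⁻¹) '' (F : Set D)) +
            Set.ncard {c : D | ∃ q ∈ l, q.1 * c * q.2 ∈ F} := Set.ncard_union_le _ _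
        _ ≤ Nat.card F + l.length * Nat.card F := by
            apply Nat.add_le_add _ ih
            calc Set.ncard ((fun f : D => p.1⁻¹ * f * p.2⁻¹) '' (F : Set D))
                ≤ Set.ncard (F : Set D) := Set.ncard_image_le (Set.toFinite _)
              _ = Nat.card F := by rw [← Nat.card_coe_set_eq]; rfl
        _ = (p :: l).length * Nat.card F := by rw [List.length_cons]; ring
  have hlt : Set.ncard {c : D | ∃ p ∈ l, p.1 * c * p.2 ∈ F} < Set.ncard (C : Set D) := by
    have hC : Set.ncard (C : Set D) = Nat.card C := by rw [← Nat.card_coe_set_eq]; rfl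
    rw [hC]
    exact lt_of_le_of_lt (hB l) hl
  obtain ⟨c, hcC, hc⟩ := Set.exists_mem_notMem_of_ncard_lt_ncard hlt (Set.toFinite _)
  refine ⟨c, hcC, fun p hp hpc => hc ⟨p, hp, hpc⟩⟩

/-- if the squares of the elements of `C` outside `F` avoid a subgroup `N` of index at most two
in `V`, then `|C| ≤ 4 |F|` -/
theorem card_le_four_mul [Finite D] (C F N : Subgroup D)
    (hN2 : ∀ a b : D, a ^ 2 = 1 → b ^ 2 = 1 → a ∉ N → b ∉ N → a * b ∈ N)
    (hF : ∀ d ∈ C, d ∉ F → d ^ 2 ∉ N) : Nat.card C ≤ 4 * Nat.card F := by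
  by_contra hlt
  push Not at hlt
  have hFpos : 0 < Nat.card F := Nat.card_pos
  have key : ∀ d e : D, d ∈ C → e ∈ C → d ∉ F → e ∉ F → e * d ∉ F → ⁅d, e⁆ ∉ N := by
    intro d e hd he hdF heF hedF hcon
    have h1 := h.mul_sq e d
    have h2 : e ^ 2 * d ^ 2 ∈ N :=
      hN2 _ _ (h.sq_sq e) (h.sq_sq d) (hF e he heF) (hF d hd hdF)
    apply hF (e * d) (C.mul_mem he hd) hedF
    rw [h1]
    exact N.mul_mem h2 hcon
  obtain ⟨d, hdC, hd⟩ := exists_forall_not_mem C F [(1, 1)] (by simp; omega)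
  have hdF : d ∉ F := by simpa using hd (1, 1) (by simp)
  obtain ⟨e, heC, he⟩ := exists_forall_not_mem C F [(1, 1), (1, d)] (by simp; omega)
  have heF : e ∉ F := by simpa using he (1, 1) (by simp)
  have hedF : e * d ∉ F := by simpa using he (1, d) (by simp)
  obtain ⟨f, hfC, hf⟩ := exists_forall_not_mem C F [(1, 1), (1, d), (e, 1), (e, d)]
    (by simp; omega)
  have hfF : f ∉ F := by simpa using hf (1, 1) (by simp)
  have hfdF : f * d ∉ F := by simpa using hf (1, d) (by simp)
  have hefF : e * f ∉ F := by simpa using hf (e, 1) (by simp)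
  have hefdF : e * f * d ∉ F := by simpa using hf (e, d) (by simp)
  have k1 := key d e hdC heC hdF heF hedF
  have k2 := key d f hdC hfC hdF hfF hfdF
  have k3 := key d (e * f) hdC (C.mul_mem heC hfC) hdF hefF hefdF
  apply k3
  rw [h.comm_mul_right]
  exact hN2 _ _ (h.comm_sq d e) (h.comm_sq d f) k1 k2


end Hyp

end Cfsg.Agent.Helper2.ThreeInv
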