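import Mathlib
import Cfsg.Agent.Helper2.ThreeInvA

set_option autoImplicit false

/-!
The order bound `|D| ≤ 16 |V|`.
-/

namespace Cfsg.Agent.Helper2.ThreeInv

open scoped commutatorElement

universe u

/-- in a group of exponent two: `x = y ↔ x * y = 1` -/
theorem eq_iff_mul_eq_one_of_exp_two {E : Type u} [Group E] (hE : ∀ e : E, e * e = 1) (x y : E) :
    x = y ↔ x * y = 1 := by
  constructor
  · rintro rfl; exact hE x
  · intro hxy
    calc x = x * (y * y) := by rw [hE y, mul_one]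
      _ = (x * y) * y := by rw [mul_assoc]
      _ = y := by rw [hxy, one_mul]

theorem good_of {E : Type u} [Group E] [Finite E] (hcomm : ∀ a b : E, a * b = b * a)
    (hE : ∀ e : E, e * e = 1)
    (hcard : Nat.card E ≤ 4) (s t a b q : E) (h1 : q ≠ 1) (h2 : q * s * a ≠ 1)
    (h3 : q * t * b ≠ 1) (h4 : q * s * t * a * b ≠ 1) :
    a * s = 1 ∨ b * t = 1 ∨ a * b * (s * t) = 1 := by
  by_contra hcon
  push Not at hcon
  obtain ⟨h5', h6', h7'⟩ := hcon
  have hE' : ∀ e z : E, e * (e * z) = z := fun e z => by rw [← mul_assoc, hE, one_mul]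
  have hlc : ∀ a b c : E, a * (b * c) = b * (a * c) := fun a b c => by
    rw [← mul_assoc, hcomm a b, mul_assoc]
  let g : Fin 5 → E := ![q, 1, s * a, t * b, s * t * a * b]
  have hg : Function.Injective g := by
    intro i j hij
    fin_cases i <;> fin_cases j <;> first
      | rfl
      | (exfalso
         simp only [g] at hij
         rw [eq_iff_mul_eq_one_of_exp_two hE] at hij
         first
          | exact h1 (by simpa [hcomm, hlc, mul_assoc, hE, hE'] using hij)
          | exact h2 (by simpa [hcomm, hlc, mul_assoc, hE, hE'] using hij)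
          | exact h3 (by simpa [hcomm, hlc, mul_assoc, hE, hE'] using hij)
          | exact h4 (by simpa [hcomm, hlc, mul_assoc, hE, hE'] using hij)
          | exact h5' (by simpa [hcomm, hlc, mul_assoc, hE, hE'] using hij)
          | exact h6' (by simpa [hcomm, hlc, mul_assoc, hE, hE'] using hij)
          | exact h7' (by simpa [hcomm, hlc, mul_assoc, hE, hE'] using hij))
  have := Nat.card_le_card_of_injective g hg
  rw [Nat.card_fin] at this
  omega

theorem klein_contra {E : Type u} [Group E] (hcomm : ∀ a b : E, a * b = b * a)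
    (hE : ∀ e : E, e * e = 1) (s t a b c : E)
    (hs : s ≠ 1) (ht : t ≠ 1) (hst : s ≠ t)
    (G : E → E → Prop) (hG : ∀ a b, G a b ↔ (a * s = 1 ∨ b * t = 1 ∨ a * b * (s * t) = 1))
    (h1 : G 1 b) (h2 : G a 1) (h3 : G c c) (h4 : G a b) (h5 : G c (b * c)) (h6 : G (a * c) c)
    (h7 : ¬ (a * c = 1 ∧ b * c = 1) → G (a * c) (b * c)) : False := by
  have hE' : ∀ e z : E, e * (e * z) = z := fun e z => by rw [← mul_assoc, hE, one_mul]
  have hlc : ∀ a b c : E, a * (b * c) = b * (a * c) := fun a b c => by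
    rw [← mul_assoc, hcomm a b, mul_assoc]
  have hst1 : s * t ≠ 1 := fun hh => hst ((eq_iff_mul_eq_one_of_exp_two hE _ _).2 hh)
  have hst1' : t * s ≠ 1 := fun hh => hst1 (by rw [hcomm]; exact hh)
  rw [hG] at h1 h2 h3 h4 h5 h6 h7
  have hb' : b = t ∨ b = s * t := by
    rcases h1 with h | h | h
    · rw [one_mul] at h; exact absurd h hs
    · left; exact (eq_iff_mul_eq_one_of_exp_two hE _ _).2 h
    · right; rw [one_mul] at h; exact (eq_iff_mul_eq_one_of_exp_two hE _ _).2 h
  have ha' : a = s ∨ a = s * t := by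
    rcases h2 with h | h | h
    · left; exact (eq_iff_mul_eq_one_of_exp_two hE _ _).2 h
    · rw [one_mul] at h; exact absurd h ht
    · right; rw [mul_one] at h; exact (eq_iff_mul_eq_one_of_exp_two hE _ _).2 h
  have hc' : c = s ∨ c = t := by
    rcases h3 with h | h | h
    · left; exact (eq_iff_mul_eq_one_of_exp_two hE _ _).2 h
    · right; exact (eq_iff_mul_eq_one_of_exp_two hE _ _).2 h
    · rw [hE, one_mul] at h; exact absurd h hst1
  rcases ha' with rfl | rfl <;> rcases hb' with rfl | rfl <;> rcases hc' with rfl | rfl <;>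
    simp [hcomm, hlc, hE, hE', hs, ht, hst1, hst1'] at h4 h5 h6 h7

namespace Hyp

variable {D : Type u} [Group D] [Finite D] (h : Hyp D)
include h

theorem V_comm (a b : h.V) : a * b = b * a := Subtype.ext (h.commute_of_sq b.2 a.1).eq

omit [Finite D] in
theorem V_sq (a : h.V) : a * a = 1 := by
  apply Subtype.ext
  rw [Subgroup.coe_mul, ← pow_two]
  exact a.2

/-- the square as an element of `V` -/
def sqV (d : D) : h.V := ⟨d ^ 2, h.sq_sq d⟩

omit [Finite D] in
theorem commHom_eq_one_iff (x u : D) : h.commHom x u = 1 ↔ Commute u x := by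
  rw [← h.mem_ker_commHom, MonoidHom.mem_ker]

theorem commute_of_mul_sq {u w z : D} (huw : (u * w) ^ 2 = 1) (hwz : Commute w z) :
    Commute u z := by
  have h1 : u = (u * w) * w⁻¹ := by group
  rw [h1]
  exact (h.commute_of_sq huw z).symm.mul_left hwz.inv_left

omit [Finite D] in
theorem mul_sq_coe (u x : D) :
    ((h.sqV u * h.sqV x * h.commHom x u : h.V) : D) = (u * x) ^ 2 := by
  rw [h.mul_sq u x, h.comm_symm x u]
  rfl

/-- elements not centralizing both `x` and `y` have a constrained pair of commutators -/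
theorem good (x y u : D) (hxy : Commute x y)
    (hu : ¬ (h.commHom x u = 1 ∧ h.commHom y u = 1)) :
    h.commHom x u * h.sqV x = 1 ∨ h.commHom y u * h.sqV y = 1 ∨
      h.commHom x u * h.commHom y u * (h.sqV x * h.sqV y) = 1 := by
  rw [h.commHom_eq_one_iff, h.commHom_eq_one_iff] at hu
  apply good_of h.V_comm h.V_sq h.card_V (h.sqV x) (h.sqV y) _ _ (h.sqV u)
  · intro h1
    have h2 : u ^ 2 = 1 := congrArg Subtype.val h1
    exact hu ⟨(h.commute_of_sq h2 x).symm, (h.commute_of_sq h2 y).symm⟩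
  · intro h1
    have h2 : (u * x) ^ 2 = 1 := by rw [← h.mul_sq_coe, h1]; rfl
    exact hu ⟨h.commute_of_mul_sq h2 (Commute.refl x), h.commute_of_mul_sq h2 hxy⟩
  · intro h1
    have h2 : (u * y) ^ 2 = 1 := by rw [← h.mul_sq_coe, h1]; rfl
    exact hu ⟨h.commute_of_mul_sq h2 hxy.symm, h.commute_of_mul_sq h2 (Commute.refl y)⟩
  · intro h1
    have h2 : (u * (x * y)) ^ 2 = 1 := by
      have h3 : u ^ 2 * x ^ 2 * y ^ 2 * ⁅u, x⁆ * ⁅u, y⁆ = 1 := congrArg Subtype.val h1
      rw [h.mul_sq u (x * y), h.comm_mul_left, h.comm_symm x u, h.comm_symm y u, hxy.mul_pow,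
        ← h3]
      simp only [mul_assoc]
    exact hu ⟨h.commute_of_mul_sq h2 ((Commute.refl x).mul_left hxy.symm),
      h.commute_of_mul_sq h2 (hxy.mul_left (Commute.refl y))⟩

/-- one of `x`, `y`, `x * y` has its centralizer inside `C(x) ∩ C(y)` -/
theorem tri (x y : D) (hxy : Commute x y) (hs : x ^ 2 ≠ 1) (ht : y ^ 2 ≠ 1)
    (hst : x ^ 2 ≠ y ^ 2) :
    ∃ w : D, (w = x ∨ w = y ∨ w = x * y) ∧ ∀ u, Commute u w → Commute u x ∧ Commute u y := by
  by_contra hcon
  push Not at hcon
  obtain ⟨d, hdx, hd⟩ := hcon x (Or.inl rfl)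
  obtain ⟨e, hey, he⟩ := hcon y (Or.inr (Or.inl rfl))
  obtain ⟨g, hgxy, hg⟩ := hcon (x * y) (Or.inr (Or.inr rfl))
  have hdy : ¬ Commute d y := fun hc => hd hdx hc
  have hex : ¬ Commute e x := fun hc => he hc hey
  have hgx : ¬ Commute g x := by
    intro hc
    apply hg hc
    have h1 : y = x⁻¹ * (x * y) := by group
    rw [h1]
    exact hc.inv_right.mul_right hgxy
  have hαd : h.commHom x d = 1 := (h.commHom_eq_one_iff x d).2 hdx
  have hβe : h.commHom y e = 1 := (h.commHom_eq_one_iff y e).2 hey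
  have hβd : h.commHom y d ≠ 1 := fun hc => hdy ((h.commHom_eq_one_iff y d).1 hc)
  have hαe : h.commHom x e ≠ 1 := fun hc => hex ((h.commHom_eq_one_iff x e).1 hc)
  have hαg : h.commHom x g ≠ 1 := fun hc => hgx ((h.commHom_eq_one_iff x g).1 hc)
  have hβg : h.commHom y g = h.commHom x g := by
    have h1 : h.commHom y g * h.commHom x g = 1 := by
      apply Subtype.ext
      show ⁅g, y⁆ * ⁅g, x⁆ = 1
      rw [← h.comm_mul_right, commutatorElement_eq_one_iff_commute, ← hxy.eq]
      exact hgxy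
    exact (eq_iff_mul_eq_one_of_exp_two h.V_sq _ _).2 h1
  have hsx : h.sqV x ≠ 1 := fun hc => hs (congrArg Subtype.val hc)
  have hsy : h.sqV y ≠ 1 := fun hc => ht (congrArg Subtype.val hc)
  have hsxy : h.sqV x ≠ h.sqV y := fun hc => hst (congrArg Subtype.val hc)
  have G1 := h.good x y d hxy (fun hc => hβd hc.2)
  have G2 := h.good x y e hxy (fun hc => hαe hc.1)
  have G3 := h.good x y g hxy (fun hc => hαg hc.1)
  have G4 := h.good x y (e * d) hxy (fun hc => hαe (by
    have := hc.1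
    rwa [map_mul, hαd, mul_one] at this))
  have G5 := h.good x y (d * g) hxy (fun hc => hαg (by
    have := hc.1
    rwa [map_mul, hαd, one_mul] at this))
  have G6 := h.good x y (e * g) hxy (fun hc => hαg (by
    have := hc.2
    rwa [map_mul, hβe, one_mul, hβg] at this))
  have G7 : ¬ (h.commHom x e * h.commHom x g = 1 ∧ h.commHom y d * h.commHom x g = 1) →
      _ := fun hu => h.good x y (e * d * g) hxy (fun hc => hu (by
    have h1 := hc.1
    have h2 := hc.2
    rw [map_mul, map_mul, hαd, mul_one] at h1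
    rw [map_mul, map_mul, hβe, one_mul, hβg] at h2
    exact ⟨h1, h2⟩))
  rw [hαd] at G1
  rw [hβe] at G2
  rw [hβg] at G3
  rw [map_mul, map_mul, hαd, mul_one, hβe, one_mul] at G4
  rw [map_mul, map_mul, hαd, one_mul, hβg] at G5
  rw [map_mul, map_mul, hβe, one_mul, hβg] at G6
  rw [map_mul, map_mul, map_mul, map_mul, hαd, mul_one, hβe, one_mul, hβg] at G7
  exact klein_contra h.V_comm h.V_sq (h.sqV x) (h.sqV y) (h.commHom x e) (h.commHom y d)
    (h.commHom x g) hsx hsy hsxy
    (fun a b => a * h.sqV x = 1 ∨ b * h.sqV y = 1 ∨ a * b * (h.sqV x * h.sqV y) = 1)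
    (fun a b => Iff.rfl) G1 G2 G3 G4 G5 G6 G7

/-- the centralizer of `w` is small if it lies in finitely many cosets of `V` -/
theorem card_ker_le (w : D) (l : List D)
    (hl : ∀ u, Commute u w → ∃ z ∈ l, (z⁻¹ * u) ^ 2 = 1) :
    Nat.card (h.commHom w).ker ≤ l.length * Nat.card h.V := by
  by_contra hlt
  push Not at hlt
  obtain ⟨c, hc, hcl⟩ := exists_forall_not_mem (h.commHom w).ker h.V
    (l.map (fun z => (z⁻¹, (1 : D)))) (by rwa [List.length_map])
  obtain ⟨z, hz, hzc⟩ := hl c ((h.mem_ker_commHom w c).1 hc)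
  apply hcl (z⁻¹, 1) (List.mem_map.2 ⟨z, hz, rfl⟩)
  rw [mul_one]
  exact hzc

omit h [Finite D] in
theorem inv_mul_sq_of_commute {u w : D} (hc : Commute u w) (hsq : u ^ 2 = w ^ 2) :
    (w⁻¹ * u) ^ 2 = 1 := by
  rw [hc.symm.inv_left.mul_pow, hsq, inv_pow, inv_mul_cancel]

/-- the order bound -/
theorem card_le : Nat.card D ≤ 16 * Nat.card h.V := by
  have hV4 := h.card_V
  have hVpos : 0 < Nat.card h.V := Nat.card_pos
  by_cases hall : ∀ x : D, x ^ 2 = 1
  · have h1 : h.V = ⊤ := by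
      ext d
      simp only [h.mem_V, Subgroup.mem_top, iff_true]
      exact hall d
    have h2 : Nat.card h.V = Nat.card D := by rw [h1]; exact Subgroup.card_top
    omega
  push Not at hall
  obtain ⟨x, hx⟩ := hall
  by_cases hA2 : ∀ y, Commute y x → y ^ 2 = 1 ∨ y ^ 2 = x ^ 2
  · have h1 := h.card_ker_le x [1, x] (by
      intro u hu
      rcases hA2 u hu with h2 | h2
      · exact ⟨1, by simp, by simpa using h2⟩
      · exact ⟨x, by simp, inv_mul_sq_of_commute hu h2⟩)
    have h2 := h.card_le_card_ker_commHom x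
    simp only [List.length_cons, List.length_nil] at h1
    nlinarith
  push Not at hA2
  obtain ⟨y, hyx, hy1, hys⟩ := hA2
  have hxy : Commute x y := hyx.symm
  obtain ⟨w, hw, hwc⟩ := h.tri x y hxy hx hy1 (Ne.symm hys)
  have hsy2 : (x ^ 2 * y ^ 2) ^ 2 = 1 := h.sq_mul _ _ (h.sq_sq x) (h.sq_sq y)
  have hd1 : (1 : D) ≠ x ^ 2 * y ^ 2 := by
    intro h1
    apply hys
    calc y ^ 2 = (x ^ 2)⁻¹ * (x ^ 2 * y ^ 2) := by group
      _ = x ^ 2 := by rw [← h1, mul_one, inv_eq_of_sq (h.sq_sq x)]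
  have hd2 : x ^ 2 ≠ x ^ 2 * y ^ 2 := by
    intro h1
    apply hy1
    calc y ^ 2 = (x ^ 2)⁻¹ * (x ^ 2 * y ^ 2) := by group
      _ = 1 := by rw [← h1]; group
  have hd3 : y ^ 2 ≠ x ^ 2 * y ^ 2 := by
    intro h1
    apply hx
    calc x ^ 2 = (x ^ 2 * y ^ 2) * (y ^ 2)⁻¹ := by group
      _ = 1 := by rw [← h1]; group
  have h1 := h.card_ker_le w [1, x, y, x * y] (by
    intro u hu
    obtain ⟨hux, huy⟩ := hwc u hu
    have h5 := h.eq_of_five (one_pow 2) (h.sq_sq x) (h.sq_sq y) hsy2 (h.sq_sq u) (Ne.symm hx)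
      (Ne.symm hy1) hd1 (Ne.symm hys) hd2 hd3
    rcases h5 with h2 | h2 | h2 | h2
    · exact ⟨1, by simp, by simpa using h2⟩
    · exact ⟨x, by simp, inv_mul_sq_of_commute hux h2⟩
    · exact ⟨y, by simp, inv_mul_sq_of_commute huy h2⟩
    · refine ⟨x * y, by simp, inv_mul_sq_of_commute (hux.mul_right huy) ?_⟩
      rw [h2, hxy.mul_pow])
  have h2 := h.card_le_card_ker_commHom w
  simp only [List.length_cons, List.length_nil] at h1
  nlinarith


end Hyp

end Cfsg.Agent.Helper2.ThreeInv
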