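import Mathlib
import Cfsg.Agent.Helper2.ThreeInvB
import Cfsg.Agent.Helper1.AutPlumbing

set_option autoImplicit false

/-!
Automorphisms of odd prime order fixing the elements of square one: counting.
-/

namespace Cfsg.Agent.Helper2.ThreeInv

open scoped commutatorElement

open Cfsg.Agent.Helper1.AutPlumbing

universe u

section general

variable {D : Type u} [Group D] [Finite D]

/-- an invariant set and its fixed points have the same size modulo the prime order -/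
theorem ncard_modEq_fixed {r : ℕ} [hr : Fact r.Prime] (φ : MulAut D) (hφ : φ ^ r = 1)
    (S : Set D) (hS : ∀ x ∈ S, φ x ∈ S) :
    S.ncard ≡ (S ∩ {x | φ x = x}).ncard [MOD r] := by
  classical
  letI : Fintype S := Fintype.ofFinite S
  let f : Function.End S := fun y => ⟨φ y.1, hS y.1 y.2⟩
  have hpow : ∀ n : ℕ, ∀ y : S, ((f ^ n) y).1 = (φ ^ n) y.1 := by
    intro n
    induction n with
    | zero => intro y; rfl
    | succ n ih =>
      intro y
      rw [pow_succ', pow_succ']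
      show φ ((f ^ n) y).1 = φ ((φ ^ n) y.1)
      rw [ih]
  have hf : f ^ r ^ 1 = 1 := by
    funext y
    apply Subtype.ext
    rw [pow_one, hpow, hφ]
    rfl
  have hmod := Equiv.Perm.card_fixedPoints_modEq (p := r) (n := 1) hf
  have h1 : Fintype.card S = S.ncard := by
    rw [← Nat.card_eq_fintype_card, Nat.card_coe_set_eq]
  have h2 : Fintype.card ↥(Function.fixedPoints f) = (S ∩ {x | φ x = x}).ncard := by
    rw [← Nat.card_eq_fintype_card, ← Nat.card_coe_set_eq]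
    apply Nat.card_congr
    exact
      { toFun := fun y => ⟨y.1.1, y.1.2, congrArg Subtype.val y.2⟩
        invFun := fun z => ⟨⟨z.1, z.2.1⟩, Subtype.ext z.2.2⟩
        left_inv := fun y => rfl
        right_inv := fun z => rfl }
  rw [h1, h2] at hmod
  exact hmod

omit [Finite D] in
/-- a union of left cosets of `V` has size divisible by `|V|` -/
theorem card_dvd_ncard_of_mul_mem (V : Subgroup D) (S : Set D)
    (hS : ∀ s ∈ S, ∀ v ∈ V, s * v ∈ S) : Nat.card V ∣ S.ncard := by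
  have h1 : S = (QuotientGroup.mk : D → D ⧸ V) ⁻¹' ((QuotientGroup.mk : D → D ⧸ V) '' S) := by
    ext x
    constructor
    · intro hx
      exact ⟨x, hx, rfl⟩
    · rintro ⟨s, hs, hsx⟩
      have h2 : s⁻¹ * x ∈ V := QuotientGroup.eq.1 hsx
      have h3 : x = s * (s⁻¹ * x) := by group
      rw [h3]
      exact hS s hs _ h2
  have h2 := QuotientGroup.card_preimage_mk V ((QuotientGroup.mk : D → D ⧸ V) '' S)
  rw [← h1, Nat.card_coe_set_eq] at h2
  rw [h2]
  exact dvd_mul_right _ _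

end general

namespace Hyp

variable {D : Type u} [Group D] [Finite D] (h : Hyp D)
include h

omit [Finite D] in
theorem isPGroup : IsPGroup 2 D := fun d => ⟨2, by norm_num; exact h.pow_four d⟩

omit h [Finite D] in
/-- the subgroup `{1, c}` -/
def pair (c : D) (hc : c ^ 2 = 1) : Subgroup D where
  carrier := {x | x = 1 ∨ x = c}
  one_mem' := Or.inl rfl
  mul_mem' := by
    rintro x y (rfl | rfl) (rfl | rfl)
    · left; simp
    · right; simp
    · right; simp
    · left; rw [← pow_two]; exact hc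
  inv_mem' := by
    rintro x (rfl | rfl)
    · left; simp
    · right; exact inv_eq_of_sq hc

theorem pair_mul_mem (c : D) (hc : c ^ 2 = 1) (hc1 : c ≠ 1) (u w : D) (hu : u ^ 2 = 1)
    (hw : w ^ 2 = 1) (hun : u ∉ pair c hc) (hwn : w ∉ pair c hc) : u * w ∈ pair c hc := by
  have hu1 : u ≠ 1 := fun h1 => hun (Or.inl h1)
  have huc : u ≠ c := fun h1 => hun (Or.inr h1)
  have h1 : (1 : D) ≠ u * c := by
    intro h1
    apply huc
    calc u = (u * c) * c⁻¹ := by group
      _ = c := by rw [← h1, one_mul, inv_eq_of_sq hc]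
  have h2 : c ≠ u * c := by
    intro h2
    apply hu1
    calc u = (u * c) * c⁻¹ := by group
      _ = 1 := by rw [← h2]; group
  have h3 : u ≠ u * c := by
    intro h3
    apply hc1
    calc c = u⁻¹ * (u * c) := by group
      _ = 1 := by rw [← h3]; group
  have h5 := h.eq_of_five (one_pow 2) hc hu (h.sq_mul u c hu hc) hw (Ne.symm hc1) (Ne.symm hu1)
    h1 (Ne.symm huc) h2 h3
  rcases h5 with rfl | rfl | rfl | rfl
  · exact absurd (Or.inl rfl) hwn
  · exact absurd (Or.inr rfl) hwn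
  · left; rw [← pow_two]; exact hu
  · right; rw [← mul_assoc, ← pow_two, hu, one_mul]

omit [Finite D] in
theorem V_le_fixed (φ : MulAut D) (hfix : ∀ d : D, d ^ 2 = 1 → φ d = d) :
    h.V ≤ fixedSubgroup φ := fun d hd => hfix d hd

/-- the index of the fixed points is `2 ^ j` with `j ≤ 4` and `r ∣ 2 ^ j - 1` -/
theorem index_facts {r : ℕ} [hr : Fact r.Prime] (hr2 : r ≠ 2) (φ : MulAut D) (hφ : φ ^ r = 1)
    (hfix : ∀ d : D, d ^ 2 = 1 → φ d = d) :
    ∃ j ≤ 4, (fixedSubgroup φ).index = 2 ^ j ∧ r ∣ 2 ^ j - 1 := by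
  haveI : Fact (Nat.Prime 2) := ⟨Nat.prime_two⟩
  obtain ⟨n, hn⟩ := IsPGroup.iff_card.1 h.isPGroup
  have hmul := Subgroup.card_mul_index (fixedSubgroup φ)
  have hidx : (fixedSubgroup φ).index ∣ 2 ^ n := by
    rw [← hn, ← hmul]; exact dvd_mul_left _ _
  have hcF : Nat.card (fixedSubgroup φ) ∣ 2 ^ n := by
    rw [← hn, ← hmul]; exact dvd_mul_right _ _
  obtain ⟨j, -, hj⟩ := (Nat.dvd_prime_pow Nat.prime_two).1 hidx
  obtain ⟨f, -, hf⟩ := (Nat.dvd_prime_pow Nat.prime_two).1 hcF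
  have hcount := ncard_modEq_fixed φ hφ Set.univ (fun x _ => Set.mem_univ _)
  have h1 : (Set.univ ∩ {x | φ x = x}).ncard = Nat.card (fixedSubgroup φ) := by
    rw [Set.univ_inter, ← Nat.card_coe_set_eq]
    rfl
  rw [Set.ncard_univ, h1, ← hmul, hj, hf] at hcount
  have hcop : Nat.gcd r (2 ^ f) = 1 := by
    apply Nat.Coprime.pow_right
    exact (Nat.coprime_primes hr.out Nat.prime_two).2 hr2
  have h2 : 2 ^ j ≡ 1 [MOD r] := by
    apply Nat.ModEq.cancel_left_of_coprime hcop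
    rw [mul_one]
    exact hcount
  have h3 : r ∣ 2 ^ j - 1 := (Nat.modEq_iff_dvd' Nat.one_le_two_pow).1 h2.symm
  refine ⟨j, ?_, hj, h3⟩
  have h4 := h.card_le
  have h5 : Nat.card h.V ≤ Nat.card (fixedSubgroup φ) :=
    Subgroup.card_le_of_le (h.V_le_fixed φ hfix)
  rw [← hmul, hj] at h4
  by_contra hj4
  push Not at hj4
  have h6 : 2 ^ 5 ≤ 2 ^ j := Nat.pow_le_pow_right (by norm_num) hj4
  have hpos : 0 < Nat.card (fixedSubgroup φ) := Nat.card_pos
  nlinarith

/-- if there are at most two elements of square one, the index is at most four -/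
theorem card_le_of_small (hsmall : ∀ a b : D, a ^ 2 = 1 → b ^ 2 = 1 → a ≠ 1 → b ≠ 1 → a = b)
    (φ : MulAut D) (hfix : ∀ d : D, d ^ 2 = 1 → φ d = d) :
    Nat.card D ≤ 4 * Nat.card (fixedSubgroup φ) := by
  have h1 := h.card_le_four_mul ⊤ (fixedSubgroup φ) ⊥ (by
    intro a b ha hb ha1 hb1
    rw [Subgroup.mem_bot] at ha1 hb1 ⊢
    rw [hsmall a b ha hb ha1 hb1, ← pow_two, hb]) (by
    intro d _ hd hd2
    rw [Subgroup.mem_bot] at hd2
    exact hd (hfix d hd2))
  rwa [Subgroup.card_top] at h1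

/-- the fibres of the squaring map outside the fixed points -/
theorem fibre_facts {r : ℕ} [hr : Fact r.Prime] (hr2 : r ≠ 2) (φ : MulAut D) (hφ : φ ^ r = 1)
    (hfix : ∀ d : D, d ^ 2 = 1 → φ d = d) (c : D) (hc : c ^ 2 = 1) (hc1 : c ≠ 1)
    (hbig : 4 * Nat.card (fixedSubgroup φ) < Nat.card D) :
    Nat.card h.V * r ≤ {d : D | d ∉ fixedSubgroup φ ∧ d ^ 2 = c}.ncard ∧
      Nat.card h.V * r ∣ {d : D | d ∉ fixedSubgroup φ ∧ d ^ 2 = c}.ncard := by
  have hne : {d : D | d ∉ fixedSubgroup φ ∧ d ^ 2 = c}.ncard ≠ 0 := by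
    intro h0
    rw [Set.ncard_eq_zero (Set.toFinite _)] at h0
    have h1 := h.card_le_four_mul ⊤ (fixedSubgroup φ) (pair c hc)
      (fun a b ha hb han hbn => h.pair_mul_mem c hc hc1 a b ha hb han hbn) (by
      intro d _ hd hd2
      rcases hd2 with hd2 | hd2
      · exact hd (hfix d hd2)
      · have : d ∈ ({d : D | d ∉ fixedSubgroup φ ∧ d ^ 2 = c} : Set D) := ⟨hd, hd2⟩
        rw [h0] at this
        exact this)
    rw [Subgroup.card_top] at h1
    omega
  have hdvd1 : r ∣ {d : D | d ∉ fixedSubgroup φ ∧ d ^ 2 = c}.ncard := by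
    have h1 := ncard_modEq_fixed φ hφ {d : D | d ∉ fixedSubgroup φ ∧ d ^ 2 = c} (by
      rintro x ⟨hx1, hx2⟩
      refine ⟨fun hx3 => hx1 (φ.injective hx3), ?_⟩
      rw [← map_pow, hx2]
      exact hfix c hc)
    have h2 : ({d : D | d ∉ fixedSubgroup φ ∧ d ^ 2 = c} ∩ {x | φ x = x}) = ∅ := by
      ext x
      simp only [Set.mem_inter_iff, Set.mem_setOf_eq, Set.mem_empty_iff_false, iff_false]
      rintro ⟨⟨hx1, -⟩, hx2⟩
      exact hx1 hx2
    rw [h2, Set.ncard_empty] at h1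
    exact (Nat.modEq_zero_iff_dvd).1 h1
  have hdvd2 : Nat.card h.V ∣ {d : D | d ∉ fixedSubgroup φ ∧ d ^ 2 = c}.ncard := by
    apply card_dvd_ncard_of_mul_mem
    rintro s ⟨hs1, hs2⟩ v hv
    refine ⟨fun hsv => hs1 ?_, ?_⟩
    · have h1 : s = (s * v) * v⁻¹ := by group
      rw [h1]
      exact (fixedSubgroup φ).mul_mem hsv ((fixedSubgroup φ).inv_mem (h.V_le_fixed φ hfix hv))
    · rw [h.mul_sq_of_sq s hv, hs2]
  have hcop : Nat.Coprime (Nat.card h.V) r := by
    haveI : Fact (Nat.Prime 2) := ⟨Nat.prime_two⟩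
    obtain ⟨n, hn⟩ := IsPGroup.iff_card.1 h.isPGroup
    have h1 : Nat.card h.V ∣ 2 ^ n := by rw [← hn]; exact Subgroup.card_subgroup_dvd_card _
    obtain ⟨k, -, hk⟩ := (Nat.dvd_prime_pow Nat.prime_two).1 h1
    rw [hk]
    apply Nat.Coprime.pow_left
    exact (Nat.coprime_primes Nat.prime_two hr.out).2 (Ne.symm hr2)
  have hdvd := Nat.Coprime.mul_dvd_of_dvd_of_dvd hcop hdvd2 hdvd1
  exact ⟨Nat.le_of_dvd (Nat.pos_of_ne_zero hne) hdvd, hdvd⟩

section big

variable {a b : D} (ha : a ^ 2 = 1) (hb : b ^ 2 = 1) (ha1 : a ≠ 1) (hb1 : b ≠ 1) (hab : a ≠ b)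
include ha hb ha1 hb1 hab

omit h [Finite D] in
theorem big_ne : (1 : D) ≠ a * b ∧ a ≠ a * b ∧ b ≠ a * b := by
  refine ⟨?_, ?_, ?_⟩
  · intro h1
    apply hab
    calc a = (a * b) * b⁻¹ := by group
      _ = b := by rw [← h1, one_mul, inv_eq_of_sq hb]
  · intro h1
    apply hb1
    calc b = a⁻¹ * (a * b) := by group
      _ = 1 := by rw [← h1]; group
  · intro h1
    apply ha1
    calc a = (a * b) * b⁻¹ := by group
      _ = 1 := by rw [← h1]; group

theorem V_cases (v : D) (hv : v ^ 2 = 1) : v = 1 ∨ v = a ∨ v = b ∨ v = a * b := by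
  obtain ⟨h1, h2, h3⟩ := big_ne ha hb ha1 hb1 hab
  exact h.eq_of_five (one_pow 2) ha hb (h.sq_mul a b ha hb) hv (Ne.symm ha1) (Ne.symm hb1) h1 hab
    h2 h3

theorem card_V_eq_four : Nat.card h.V = 4 := by
  obtain ⟨h1, h2, h3⟩ := big_ne ha hb ha1 hb1 hab
  apply le_antisymm h.card_V
  let g : Fin 4 → h.V := ![⟨1, one_pow 2⟩, ⟨a, ha⟩, ⟨b, hb⟩, ⟨a * b, h.sq_mul a b ha hb⟩]
  have hg : Function.Injective g := by
    intro i j hij
    fin_cases i <;> fin_cases j <;> first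
      | rfl
      | (exfalso; simp [g, Subtype.ext_iff] at hij; tauto)
  have := Nat.card_le_card_of_injective g hg
  rwa [Nat.card_fin] at this

/-- decomposition of a set along the squaring map -/
theorem ncard_eq_sum (S : Set D) :
    S.ncard = (S ∩ {d | d ^ 2 = 1}).ncard + (S ∩ {d | d ^ 2 = a}).ncard +
      (S ∩ {d | d ^ 2 = b}).ncard + (S ∩ {d | d ^ 2 = a * b}).ncard := by
  obtain ⟨h1, h2, h3⟩ := big_ne ha hb ha1 hb1 hab
  have hS : S = ((S ∩ {d | d ^ 2 = 1} ∪ S ∩ {d | d ^ 2 = a}) ∪ S ∩ {d | d ^ 2 = b}) ∪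
      S ∩ {d | d ^ 2 = a * b} := by
    ext d
    constructor
    · intro hd
      rcases h.V_cases ha hb ha1 hb1 hab (d ^ 2) (h.sq_sq d) with h4 | h4 | h4 | h4
      · exact Or.inl (Or.inl (Or.inl ⟨hd, h4⟩))
      · exact Or.inl (Or.inl (Or.inr ⟨hd, h4⟩))
      · exact Or.inl (Or.inr ⟨hd, h4⟩)
      · exact Or.inr ⟨hd, h4⟩
    · rintro (((hd | hd) | hd) | hd) <;> exact hd.1
  have hd1 : Disjoint (S ∩ {d | d ^ 2 = 1}) (S ∩ {d | d ^ 2 = a}) := by
    rw [Set.disjoint_left]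
    rintro d ⟨-, hd1⟩ ⟨-, hd2⟩
    exact ha1 (hd2.symm.trans hd1)
  have hd2 : Disjoint (S ∩ {d | d ^ 2 = 1} ∪ S ∩ {d | d ^ 2 = a}) (S ∩ {d | d ^ 2 = b}) := by
    rw [Set.disjoint_left]
    rintro d (⟨-, hd1⟩ | ⟨-, hd1⟩) ⟨-, hd2⟩
    · exact hb1 (hd2.symm.trans hd1)
    · exact hab (hd1.symm.trans hd2)
  have hd3 : Disjoint ((S ∩ {d | d ^ 2 = 1} ∪ S ∩ {d | d ^ 2 = a}) ∪ S ∩ {d | d ^ 2 = b})
      (S ∩ {d | d ^ 2 = a * b}) := by
    rw [Set.disjoint_left]
    rintro d ((⟨-, hd1⟩ | ⟨-, hd1⟩) | ⟨-, hd1⟩) ⟨-, hd2⟩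
    · exact h1 (hd1.symm.trans hd2)
    · exact h2 (hd1.symm.trans hd2)
    · exact h3 (hd1.symm.trans hd2)
  conv_lhs => rw [hS]
  rw [Set.ncard_union_eq hd3 (Set.toFinite _) (Set.toFinite _),
    Set.ncard_union_eq hd2 (Set.toFinite _) (Set.toFinite _),
    Set.ncard_union_eq hd1 (Set.toFinite _) (Set.toFinite _)]

/-- the three nontrivial fibres outside the fixed points exhaust the complement -/
theorem compl_fixed_eq_sum (φ : MulAut D) (hfix : ∀ d : D, d ^ 2 = 1 → φ d = d) :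
    Nat.card (fixedSubgroup φ) +
      ({d : D | d ∉ fixedSubgroup φ ∧ d ^ 2 = a}.ncard +
        {d : D | d ∉ fixedSubgroup φ ∧ d ^ 2 = b}.ncard +
        {d : D | d ∉ fixedSubgroup φ ∧ d ^ 2 = a * b}.ncard) = Nat.card D := by
  have h1 := h.ncard_eq_sum ha hb ha1 hb1 hab {d : D | d ∉ fixedSubgroup φ}
  have h2 : ({d : D | d ∉ fixedSubgroup φ} ∩ {d | d ^ 2 = 1}) = ∅ := by
    ext d
    simp only [Set.mem_inter_iff, Set.mem_setOf_eq, Set.mem_empty_iff_false, iff_false]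
    rintro ⟨hd1, hd2⟩
    exact hd1 (hfix d hd2)
  have h3 : {d : D | d ∉ fixedSubgroup φ} = ((fixedSubgroup φ : Subgroup D) : Set D)ᶜ := rfl
  have h4 : ∀ c : D, ({d : D | d ∉ fixedSubgroup φ} ∩ {d | d ^ 2 = c}) =
      {d : D | d ∉ fixedSubgroup φ ∧ d ^ 2 = c} := fun c => rfl
  rw [h2, Set.ncard_empty, zero_add, h4, h4, h4, h3] at h1
  have h7 := Set.ncard_add_ncard_compl ((fixedSubgroup φ : Subgroup D) : Set D)
  have h5 : ((fixedSubgroup φ : Subgroup D) : Set D).ncard = Nat.card (fixedSubgroup φ) := by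
    rw [← Nat.card_coe_set_eq]; rfl
  rw [h5] at h7
  omega

end big

/-- **Core 1**: the odd prime orders are `3` and `5` -/
theorem prime_order (φ : MulAut D) (r : ℕ) (hr : r.Prime) (hr2 : r ≠ 2) (hφ : orderOf φ = r)
    (hfix : ∀ d : D, d ^ 2 = 1 → φ d = d) : r = 3 ∨ r = 5 := by
  haveI : Fact r.Prime := ⟨hr⟩
  have hφr : φ ^ r = 1 := by rw [← hφ]; exact pow_orderOf_eq_one φ
  obtain ⟨j, hj4, hidx, hdvd⟩ := h.index_facts hr2 φ hφr hfix
  have hmul := Subgroup.card_mul_index (fixedSubgroup φ)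
  have hFpos : 0 < Nat.card (fixedSubgroup φ) := Nat.card_pos
  have hj0 : j ≠ 0 := by
    rintro rfl
    rw [pow_zero, Subgroup.index_eq_one] at hidx
    have h1 : φ = 1 := by
      ext d
      have : d ∈ fixedSubgroup φ := by rw [hidx]; exact Subgroup.mem_top d
      exact this
    rw [h1, orderOf_one] at hφ
    exact hr.one_lt.ne' hφ.symm
  have hr1 : r ≠ 1 := hr.one_lt.ne'
  interval_cases j
  · exact absurd rfl hj0
  · exfalso
    norm_num at hdvd
    exact hr1 hdvd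
  · left
    norm_num at hdvd
    exact (Nat.prime_dvd_prime_iff_eq hr (by norm_num)).1 hdvd
  · exfalso
    -- r = 7
    have hr7 : r = 7 := by
      norm_num at hdvd
      exact (Nat.prime_dvd_prime_iff_eq hr (by norm_num)).1 hdvd
    subst hr7
    rw [hidx] at hmul
    by_cases hsmall : ∀ a b : D, a ^ 2 = 1 → b ^ 2 = 1 → a ≠ 1 → b ≠ 1 → a = b
    · have := h.card_le_of_small hsmall φ hfix
      omega
    · push Not at hsmall
      obtain ⟨a, b, ha, hb, ha1, hb1, hab⟩ := hsmall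
      obtain ⟨h1, h2, h3⟩ := big_ne ha hb ha1 hb1 hab
      have hbig : 4 * Nat.card (fixedSubgroup φ) < Nat.card D := by omega
      have f1 := (h.fibre_facts hr2 φ hφr hfix a ha ha1 hbig).1
      have f2 := (h.fibre_facts hr2 φ hφr hfix b hb hb1 hbig).1
      have f3 := (h.fibre_facts hr2 φ hφr hfix (a * b) (h.sq_mul a b ha hb) (Ne.symm h1) hbig).1
      have hsum := h.compl_fixed_eq_sum ha hb ha1 hb1 hab φ hfix
      have hle := h.card_le
      have hV4 := h.card_V_eq_four ha hb ha1 hb1 hab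
      omega
  · have h15 : r ∣ 3 * 5 := by norm_num at hdvd ⊢; exact hdvd
    rcases (Nat.Prime.dvd_mul hr).1 h15 with h3 | h5
    · left; exact (Nat.prime_dvd_prime_iff_eq hr (by norm_num)).1 h3
    · right; exact (Nat.prime_dvd_prime_iff_eq hr (by norm_num)).1 h5


omit h [Finite D] in
theorem fixed_index_ne_one (φ : MulAut D) (hφ : φ ≠ 1) : (fixedSubgroup φ).index ≠ 1 := by
  intro hidx
  rw [Subgroup.index_eq_one] at hidx
  apply hφ
  ext d
  have : d ∈ fixedSubgroup φ := by rw [hidx]; exact Subgroup.mem_top d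
  exact this

/-- **Core 2**: the orders three and five do not both occur -/
theorem not_three_five (φ ψ : MulAut D) (hφ : orderOf φ = 3) (hψ : orderOf ψ = 5)
    (hfφ : ∀ d : D, d ^ 2 = 1 → φ d = d) (hfψ : ∀ d : D, d ^ 2 = 1 → ψ d = d) : False := by
  haveI : Fact (Nat.Prime 3) := ⟨by norm_num⟩
  haveI : Fact (Nat.Prime 5) := ⟨by norm_num⟩
  have hφ3 : φ ^ 3 = 1 := by rw [← hφ]; exact pow_orderOf_eq_one φ
  have hψ5 : ψ ^ 5 = 1 := by rw [← hψ]; exact pow_orderOf_eq_one ψ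
  have hφ1 : φ ≠ 1 := by
    rintro rfl
    rw [orderOf_one] at hφ
    omega
  have hψ1 : ψ ≠ 1 := by
    rintro rfl
    rw [orderOf_one] at hψ
    omega
  obtain ⟨j, hj4, hidx, hdvd⟩ := h.index_facts (by norm_num) ψ hψ5 hfψ
  have hne := fixed_index_ne_one ψ hψ1
  have hj : j = 4 := by
    interval_cases j
    · exact absurd hidx hne
    · norm_num at hdvd
    · norm_num at hdvd
    · norm_num at hdvd
    · rfl
  subst hj
  have hmul := Subgroup.card_mul_index (fixedSubgroup ψ)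
  rw [hidx] at hmul
  have hFpos : 0 < Nat.card (fixedSubgroup ψ) := Nat.card_pos
  have hle := h.card_le
  have hVF : Nat.card h.V ≤ Nat.card (fixedSubgroup ψ) :=
    Subgroup.card_le_of_le (h.V_le_fixed ψ hfψ)
  by_cases hsmall : ∀ a b : D, a ^ 2 = 1 → b ^ 2 = 1 → a ≠ 1 → b ≠ 1 → a = b
  · have := h.card_le_of_small hsmall ψ hfψ
    omega
  push Not at hsmall
  obtain ⟨a, b, ha, hb, ha1, hb1, hab⟩ := hsmall
  obtain ⟨h1, h2, h3⟩ := big_ne ha hb ha1 hb1 hab
  have hV4 := h.card_V_eq_four ha hb ha1 hb1 hab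
  have hF4 : Nat.card (fixedSubgroup ψ) = 4 := by omega
  have hD64 : Nat.card D = 64 := by omega
  have hFV : fixedSubgroup ψ = h.V := by
    symm
    apply Subgroup.eq_of_le_of_card_ge (h.V_le_fixed ψ hfψ)
    omega
  have hbig : 4 * Nat.card (fixedSubgroup ψ) < Nat.card D := by omega
  have hab2 : (a * b) ^ 2 = 1 := h.sq_mul a b ha hb
  have f1 := (h.fibre_facts (by norm_num) ψ hψ5 hfψ a ha ha1 hbig).1
  have f2 := (h.fibre_facts (by norm_num) ψ hψ5 hfψ b hb hb1 hbig).1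
  have f3 := (h.fibre_facts (by norm_num) ψ hψ5 hfψ (a * b) hab2 (Ne.symm h1) hbig).1
  have hsum := h.compl_fixed_eq_sum ha hb ha1 hb1 hab ψ hfψ
  -- the full fibres have twenty elements
  have hfull : ∀ c : D, c ≠ 1 →
      {d : D | d ∉ fixedSubgroup ψ ∧ d ^ 2 = c} = {d : D | d ^ 2 = c} := by
    intro c hc1
    ext d
    constructor
    · rintro ⟨-, hd⟩; exact hd
    · intro hd
      refine ⟨fun hdF => hc1 ?_, hd⟩
      rw [hFV] at hdF
      exact hd.symm.trans hdF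
  rw [hfull a ha1, hfull b hb1, hfull (a * b) (Ne.symm h1)] at hsum
  rw [hfull a ha1] at f1
  rw [hfull b hb1] at f2
  rw [hfull (a * b) (Ne.symm h1)] at f3
  have e1 : {d : D | d ^ 2 = a}.ncard = 20 := by omega
  have e2 : {d : D | d ^ 2 = b}.ncard = 20 := by omega
  have e3 : {d : D | d ^ 2 = a * b}.ncard = 20 := by omega
  -- the automorphism of order three
  have key : ∀ c : D, c ^ 2 = 1 → {d : D | d ^ 2 = c}.ncard = 20 →
      8 ≤ (((fixedSubgroup φ : Subgroup D) : Set D) ∩ {d : D | d ^ 2 = c}).ncard := by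
    intro c hc hc20
    have g1 := ncard_modEq_fixed φ hφ3 {d : D | d ^ 2 = c} (by
      intro x hx
      show (φ x) ^ 2 = c
      rw [← map_pow, hx]
      exact hfφ c hc)
    have g2 : ({d : D | d ^ 2 = c} ∩ {x | φ x = x}) =
        (((fixedSubgroup φ : Subgroup D) : Set D) ∩ {d : D | d ^ 2 = c}) := by
      rw [Set.inter_comm]; rfl
    rw [g2, hc20] at g1
    have g3 : Nat.card h.V ∣
        (((fixedSubgroup φ : Subgroup D) : Set D) ∩ {d : D | d ^ 2 = c}).ncard := by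
      apply card_dvd_ncard_of_mul_mem
      rintro s ⟨hs1, hs2⟩ v hv
      refine ⟨(fixedSubgroup φ).mul_mem hs1 (h.V_le_fixed φ hfφ hv), ?_⟩
      show (s * v) ^ 2 = c
      rw [h.mul_sq_of_sq s hv]
      exact hs2
    rw [hV4] at g3
    have g4 : 20 % 3 =
        (((fixedSubgroup φ : Subgroup D) : Set D) ∩ {d : D | d ^ 2 = c}).ncard % 3 := g1
    omega
  have k1 := key a ha e1
  have k2 := key b hb e2
  have k3 := key (a * b) hab2 e3
  have hdec := h.ncard_eq_sum ha hb ha1 hb1 hab ((fixedSubgroup φ : Subgroup D) : Set D)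
  have hF3 : (((fixedSubgroup φ : Subgroup D) : Set D)).ncard = Nat.card (fixedSubgroup φ) := by
    rw [← Nat.card_coe_set_eq]; rfl
  rw [hF3] at hdec
  obtain ⟨j', hj4', hidx', hdvd'⟩ := h.index_facts (by norm_num) φ hφ3 hfφ
  have hne' := fixed_index_ne_one φ hφ1
  have hmul' := Subgroup.card_mul_index (fixedSubgroup φ)
  rw [hidx', hD64] at hmul'
  interval_cases j'
  · exact absurd hidx' hne'
  · norm_num at hdvd'
  · omega
  · norm_num at hdvd'
  · omega


end Hyp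

end Cfsg.Agent.Helper2.ThreeInv
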