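import Mathlib
import Cfsg.Agent.Helper2.ThreeInvC
import Cfsg.Agent.Helper1.AutPlumbing
import Cfsg.Agent.Helper1.Class2
import Cfsg.Agent.Lead.OmegaTwoAut
import Cfsg.Agent.S0093
import Cfsg.Agent.S0121
import Cfsg.Agent.S0144

set_option autoImplicit false

/-!
Two-groups with exactly three involutions: reduction of the solvability of the automorphism group
to the analysis of `ThreeInvC`.
-/

namespace Cfsg.Agent.Helper2.ThreeInv

open scoped commutatorElement

open Cfsg.Agent.Helper1.AutPlumbing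

universe u

/-- numbers all of whose prime divisors are `2` or `q` -/
theorem eq_two_pow_mul_pow (n : ℕ) (hn : n ≠ 0) (q : ℕ) (hq : q.Prime)
    (h : ∀ r : ℕ, r.Prime → r ∣ n → r = 2 ∨ r = q) : ∃ a b : ℕ, n = 2 ^ a * q ^ b := by
  obtain ⟨a, m, hm, hnm⟩ := Nat.exists_eq_pow_mul_and_not_dvd hn 2 (by norm_num)
  have hm0 : m ≠ 0 := by
    rintro rfl
    exact hn (by rw [hnm, mul_zero])
  obtain ⟨b, m', hm', hmm'⟩ := Nat.exists_eq_pow_mul_and_not_dvd hm0 q hq.one_lt.ne'
  refine ⟨a, b, ?_⟩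
  have h1 : m' = 1 := by
    by_contra hne
    obtain ⟨r, hr, hrm⟩ := Nat.exists_prime_and_dvd hne
    have hrm2 : r ∣ m := by rw [hmm']; exact dvd_mul_of_dvd_right hrm _
    have hrn : r ∣ n := by rw [hnm]; exact dvd_mul_of_dvd_right hrm2 _
    rcases h r hr hrn with rfl | rfl
    · exact hm hrm2
    · exact hm' hrm
  rw [hnm, hmm', h1, mul_one]

section involutions

variable {X : Type u} [Group X] [Finite X]

/-- the elements of square one in a `2`-group with exactly three involutions -/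
theorem inv_facts (h2 : IsPGroup 2 X) (h3 : Nat.card {x : X // orderOf x = 2} = 3) :
    (∀ a b : X, a ^ 2 = 1 → b ^ 2 = 1 → (a * b) ^ 2 = 1) ∧
      Nat.card {x : X // x ^ 2 = 1} ≤ 4 := by
  haveI : Fact (Nat.Prime 2) := ⟨Nat.prime_two⟩
  haveI : Nonempty {x : X // orderOf x = 2} := by
    apply (Nat.card_pos_iff.1 (by omega)).1
  obtain ⟨⟨t0, ht0⟩⟩ := ‹Nonempty {x : X // orderOf x = 2}›
  haveI : Nontrivial X := by
    refine ⟨⟨t0, 1, ?_⟩⟩
    rintro rfl
    rw [orderOf_one] at ht0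
    omega
  haveI := h2.center_nontrivial
  have hcp : IsPGroup 2 (Subgroup.center X) := h2.to_subgroup _
  have hdvd : 2 ∣ Nat.card (Subgroup.center X) := by
    rcases hcp.card_eq_or_dvd with h1 | h1
    · exact absurd h1 (Finite.one_lt_card_iff_nontrivial.2 inferInstance).ne'
    · exact h1
  obtain ⟨⟨z, hzc⟩, hz⟩ := exists_prime_orderOf_dvd_card' 2 hdvd
  rw [← Subgroup.orderOf_coe] at hz
  simp only at hz
  have hzcomm : ∀ g : X, Commute z g := fun g => (Subgroup.mem_center_iff.1 hzc g).symm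
  have hz2 : z ^ 2 = 1 := by rw [← hz]; exact pow_orderOf_eq_one z
  have hz1 : z ≠ 1 := by
    rintro rfl
    rw [orderOf_one] at hz
    omega
  -- an involution different from `z`
  obtain ⟨a, ha, haz⟩ : ∃ a : X, orderOf a = 2 ∧ a ≠ z := by
    by_contra hcon
    push Not at hcon
    have hsub : Subsingleton {x : X // orderOf x = 2} :=
      ⟨fun s t => Subtype.ext ((hcon s.1 s.2).trans (hcon t.1 t.2).symm)⟩
    have := Finite.card_le_one_iff_subsingleton.2 hsub
    omega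
  have ha2 : a ^ 2 = 1 := by rw [← ha]; exact pow_orderOf_eq_one a
  have ha1 : a ≠ 1 := by
    rintro rfl
    rw [orderOf_one] at ha
    omega
  have haz2 : (a * z) ^ 2 = 1 := by rw [(hzcomm a).symm.mul_pow, ha2, hz2, mul_one]
  have haz1 : a * z ≠ 1 := by
    intro h1
    apply haz
    calc a = (a * z) * z⁻¹ := by group
      _ = z := by rw [h1, one_mul, Hyp.inv_eq_of_sq hz2]
  have hazo : orderOf (a * z) = 2 := orderOf_eq_prime haz2 haz1
  have hne1 : a ≠ a * z := by
    intro h1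
    apply hz1
    calc z = a⁻¹ * (a * z) := by group
      _ = 1 := by rw [← h1]; group
  have hne2 : z ≠ a * z := by
    intro h1
    apply ha1
    calc a = (a * z) * z⁻¹ := by group
      _ = 1 := by rw [← h1]; group
  -- every involution is one of `z`, `a`, `a * z`
  have hall : ∀ x : X, orderOf x = 2 → x = z ∨ x = a ∨ x = a * z := by
    intro x hx
    by_contra hcon
    push Not at hcon
    obtain ⟨hxz, hxa, hxaz⟩ := hcon
    let g : Fin 4 → {x : X // orderOf x = 2} := ![⟨z, hz⟩, ⟨a, ha⟩, ⟨a * z, hazo⟩, ⟨x, hx⟩]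
    have hg : Function.Injective g := by
      intro i j hij
      fin_cases i <;> fin_cases j <;> first
        | rfl
        | (exfalso; simp [g, Subtype.ext_iff] at hij; tauto)
    have := Nat.card_le_card_of_injective g hg
    rw [Nat.card_fin] at this
    omega
  have hall' : ∀ x : X, x ^ 2 = 1 → x = 1 ∨ x = z ∨ x = a ∨ x = a * z := by
    intro x hx
    by_cases hx1 : x = 1
    · exact Or.inl hx1
    · exact Or.inr (hall x (orderOf_eq_prime hx hx1))
  have hca : ∀ x : X, x ^ 2 = 1 → Commute x a := by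
    intro x hx
    rcases hall' x hx with rfl | rfl | rfl | rfl
    · exact Commute.one_left _
    · exact hzcomm _
    · exact Commute.refl _
    · exact (Commute.refl a).mul_left (hzcomm a)
  have hcomm : ∀ x y : X, x ^ 2 = 1 → y ^ 2 = 1 → Commute x y := by
    intro x y hx hy
    rcases hall' y hy with rfl | rfl | rfl | rfl
    · exact Commute.one_right _
    · exact (hzcomm x).symm
    · exact hca x hx
    · exact (hca x hx).mul_right (hzcomm x).symm
  refine ⟨fun x y hx hy => by rw [(hcomm x y hx hy).mul_pow, hx, hy, mul_one], ?_⟩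
  let g : Fin 4 → {x : X // x ^ 2 = 1} :=
    ![⟨1, one_pow 2⟩, ⟨z, hz2⟩, ⟨a, ha2⟩, ⟨a * z, haz2⟩]
  have hg : Function.Surjective g := by
    rintro ⟨x, hx⟩
    rcases hall' x hx with rfl | rfl | rfl | rfl
    · exact ⟨0, rfl⟩
    · exact ⟨1, rfl⟩
    · exact ⟨2, rfl⟩
    · exact ⟨3, rfl⟩
  have := Nat.card_le_card_of_surjective g hg
  rwa [Nat.card_fin] at this

end involutions

section critical

variable {X : Type u} [Group X] [Finite X]

/-- elementwise consequences of the axioms of a critical subgroup -/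
theorem crit_facts (h2 : IsPGroup 2 X) (H : Subgroup X)
    (hH1 : (frattini H).map H.subtype ≤ Subgroup.centralizer (H : Set X))
    (hH2 : ⁅H, (⊤ : Subgroup X)⁆ ≤ H ⊓ Subgroup.centralizer (H : Set X)) :
    (∀ a ∈ H, ∀ b ∈ H, ∀ c ∈ H, ⁅a, b⁆ * c = c * ⁅a, b⁆) ∧
      (∀ a ∈ H, ∀ b ∈ H, a ^ 4 = 1 → b ^ 4 = 1 → (a * b) ^ 4 = 1) := by
  haveI : Fact (Nat.Prime 2) := ⟨Nat.prime_two⟩
  have hc1 : ∀ a ∈ H, ∀ b ∈ H, ∀ c ∈ H, ⁅a, b⁆ * c = c * ⁅a, b⁆ := by
    intro a ha b _ c hc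
    have h1 : ⁅a, b⁆ ∈ ⁅H, (⊤ : Subgroup X)⁆ :=
      Subgroup.commutator_mem_commutator ha (Subgroup.mem_top b)
    have h3 : ⁅a, b⁆ ∈ Subgroup.centralizer (H : Set X) := (hH2 h1).2
    rw [Subgroup.mem_centralizer_iff] at h3
    exact (h3 c hc).symm
  refine ⟨hc1, ?_⟩
  have hsq : ∀ a ∈ H, ∀ c ∈ H, c * a ^ 2 = a ^ 2 * c := by
    intro a ha c hc
    have h1 := Cfsg.Agent.Helper1.IsPGroup.pow_mem_frattini (h2.to_subgroup H) (⟨a, ha⟩ : ↥H)
    have h3 : a ^ 2 ∈ (frattini ↥H).map H.subtype := ⟨_, h1, rfl⟩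
    have h4 := hH1 h3
    rw [Subgroup.mem_centralizer_iff] at h4
    exact h4 c hc
  intro a ha b hb ha4 hb4
  have hcen : ∀ z : ↥H, Commute ⁅(⟨b, hb⟩ : ↥H), (⟨a, ha⟩ : ↥H)⁆ z := by
    intro z
    apply Subtype.ext
    exact hc1 b hb a ha z.1 z.2
  have hc2 : ⁅(⟨b, hb⟩ : ↥H), (⟨a, ha⟩ : ↥H)⁆ ^ 2 = 1 := by
    rw [← Cfsg.Agent.Helper1.commutator_pow_left_of_central hcen 2,
      commutatorElement_eq_one_iff_commute]
    apply Subtype.ext
    exact (hsq b hb a ha).symm
  have hyx : (⟨b, hb⟩ : ↥H) * ⟨a, ha⟩ = ⁅(⟨b, hb⟩ : ↥H), (⟨a, ha⟩ : ↥H)⁆ * ⟨a, ha⟩ * ⟨b, hb⟩ := by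
    simp [commutatorElement_def]
  have h1 := Cfsg.Agent.Helper1.mul_pow_of_central hcen hyx 4
  have h6 : Nat.choose 4 2 = 2 * 3 := by decide
  rw [h6, pow_mul, hc2, one_pow, mul_one] at h1
  have h7 := congrArg Subtype.val h1
  simp only [Subgroup.coe_pow, Subgroup.coe_mul] at h7
  rw [h7, ha4, hb4, mul_one]

/-- the elements of `H` of order dividing four -/
def omegaTwo (H : Subgroup X)
    (hH : ∀ a ∈ H, ∀ b ∈ H, a ^ 4 = 1 → b ^ 4 = 1 → (a * b) ^ 4 = 1) : Subgroup X where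
  carrier := {g | g ∈ H ∧ g ^ 4 = 1}
  one_mem' := ⟨H.one_mem, one_pow 4⟩
  mul_mem' := fun ha hb => ⟨H.mul_mem ha.1 hb.1, hH _ ha.1 _ hb.1 ha.2 hb.2⟩
  inv_mem' := fun ha => ⟨H.inv_mem ha.1, by rw [inv_pow, ha.2, inv_one]⟩

omit [Finite X] in
theorem omegaTwo_char (H : Subgroup X)
    (hH : ∀ a ∈ H, ∀ b ∈ H, a ^ 4 = 1 → b ^ 4 = 1 → (a * b) ^ 4 = 1) [hc : H.Characteristic] :
    (omegaTwo H hH).Characteristic := by
  rw [Subgroup.characteristic_iff_le_comap]
  intro φ g hg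
  refine ⟨(Subgroup.characteristic_iff_le_comap.1 hc) φ hg.1, ?_⟩
  show (φ g) ^ 4 = 1
  rw [← map_pow, hg.2, map_one]

theorem hyp_omegaTwo (h2 : IsPGroup 2 X) (h3 : Nat.card {x : X // orderOf x = 2} = 3)
    (H : Subgroup X) (hc1 : ∀ a ∈ H, ∀ b ∈ H, ∀ c ∈ H, ⁅a, b⁆ * c = c * ⁅a, b⁆)
    (hH : ∀ a ∈ H, ∀ b ∈ H, a ^ 4 = 1 → b ^ 4 = 1 → (a * b) ^ 4 = 1) :
    Hyp ↥(omegaTwo H hH) where
  pow_four d := Subtype.ext d.2.2
  comm_central a b c := Subtype.ext (hc1 a.1 a.2.1 b.1 b.2.1 c.1 c.2.1)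
  sq_mul a b ha hb := Subtype.ext
    ((inv_facts h2 h3).1 a.1 b.1 (congrArg Subtype.val ha) (congrArg Subtype.val hb))
  card_sq := by
    refine le_trans (Nat.card_le_card_of_injective
      (fun d : {d : ↥(omegaTwo H hH) // d ^ 2 = 1} =>
        (⟨d.1.1, congrArg Subtype.val d.2⟩ : {x : X // x ^ 2 = 1})) ?_) (inv_facts h2 h3).2
    intro d e hde
    apply Subtype.ext
    apply Subtype.ext
    have h5 := congrArg Subtype.val hde
    exact h5

/-- automorphisms fixing `omegaTwo H` pointwise form a `2`-group -/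
theorem ker_restrict_pow (h2 : IsPGroup 2 X) (H : Subgroup X) [hHc : H.Characteristic]
    (hH1 : (frattini H).map H.subtype ≤ Subgroup.centralizer (H : Set X))
    (hH2 : ⁅H, (⊤ : Subgroup X)⁆ ≤ H ⊓ Subgroup.centralizer (H : Set X))
    (hH3 : Subgroup.centralizer (H : Set X) ≤ H)
    (hH : ∀ a ∈ H, ∀ b ∈ H, a ^ 4 = 1 → b ^ 4 = 1 → (a * b) ^ 4 = 1)
    (φ : MulAut X) (hφ : ∀ g ∈ omegaTwo H hH, φ g = g) : ∃ k : ℕ, φ ^ 2 ^ k = 1 := by
  haveI : Fact (Nat.Prime 2) := ⟨Nat.prime_two⟩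
  have hpos : 0 < orderOf φ := orderOf_pos φ
  obtain ⟨k, m, hm, hkm⟩ := Nat.exists_eq_two_pow_mul_odd hpos.ne'
  refine ⟨k, ?_⟩
  have hψo : (orderOf (φ ^ 2 ^ k)).Coprime 2 := by
    have h1 : (φ ^ 2 ^ k) ^ m = 1 := by
      rw [← pow_mul, ← hkm]
      exact pow_orderOf_eq_one φ
    have h3 : orderOf (φ ^ 2 ^ k) ∣ m := orderOf_dvd_of_pow_eq_one h1
    have hm2 : m.Coprime 2 := (Nat.coprime_two_right).mpr hm
    exact Nat.Coprime.coprime_dvd_left h3 hm2
  have hψfix : ∀ g ∈ omegaTwo H hH, (φ ^ 2 ^ k) g = g := by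
    intro g hg
    have : ∀ n : ℕ, (φ ^ n) g = g := by
      intro n
      induction n with
      | zero => simp
      | succ n ih => rw [pow_succ, MulAut.mul_apply, hφ g hg, ih]
    exact this _
  have hres : restrictAut H (φ ^ 2 ^ k) = 1 := by
    apply Cfsg.Agent.Lead.aut_eq_one_of_fix_order_four (h2.to_subgroup H)
    · exact Nat.Coprime.coprime_dvd_left (orderOf_map_dvd _ (φ ^ 2 ^ k)) hψo
    · intro g hg
      apply Subtype.ext
      rw [restrictAut_apply]
      refine hψfix g.1 ⟨g.2, ?_⟩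
      have := congrArg Subtype.val hg
      simpa using this
  apply Cfsg.Agent.S0121.result h2 H hHc hH1 hH2 hH3 (φ ^ 2 ^ k) hψo
  intro x hx
  have h5 := congrArg (fun f => ((f ⟨x, hx⟩ : ↥H) : X)) hres
  exact h5

end critical

/-- the action on the involutions -/
def invAct (X : Type u) [Group X] : MulAut X →* Equiv.Perm {x : X // orderOf x = 2} where
  toFun φ :=
    { toFun := fun t => ⟨φ t.1, by rw [MulEquiv.orderOf_eq]; exact t.2⟩
      invFun := fun t => ⟨φ.symm t.1, by rw [MulEquiv.orderOf_eq]; exact t.2⟩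
      left_inv := fun t => Subtype.ext (φ.symm_apply_apply t.1)
      right_inv := fun t => Subtype.ext (φ.apply_symm_apply t.1) }
  map_one' := by ext t; rfl
  map_mul' φ ψ := by ext t; rfl

/-- a finite `2`-group with exactly three involutions has a solvable automorphism group -/
theorem solvable_aut {X : Type u} [Group X] [Finite X] (h2 : IsPGroup 2 X)
    (h3 : Nat.card {x : X // orderOf x = 2} = 3) : Group.IsSolvable (MulAut X) := by
  haveI : Fact (Nat.Prime 2) := ⟨Nat.prime_two⟩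
  obtain ⟨H, hHc, hH1, hH2, hH3⟩ := Cfsg.Agent.S0093.result h2
  haveI := hHc
  obtain ⟨hc1, hc4⟩ := crit_facts h2 H hH1 hH2
  haveI hDc : (omegaTwo H hc4).Characteristic := omegaTwo_char H hc4
  have hyp : Hyp ↥(omegaTwo H hc4) := hyp_omegaTwo h2 h3 H hc1 hc4
  have hA0fix : ∀ φ ∈ (invAct X).ker, ∀ x : X, x ^ 2 = 1 → φ x = x := by
    intro φ hφ x hx
    by_cases hx1 : x = 1
    · rw [hx1, map_one]
    · have ho : orderOf x = 2 := orderOf_eq_prime hx hx1
      have := congrArg (fun σ => ((σ ⟨x, ho⟩ : {x : X // orderOf x = 2}) : X))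
        (MonoidHom.mem_ker.1 hφ)
      exact this
  have hres : ∀ r : ℕ, r.Prime → r ≠ 2 → r ∣ Nat.card (invAct X).ker →
      ∃ ρ : MulAut ↥(omegaTwo H hc4), orderOf ρ = r ∧
        ∀ d : ↥(omegaTwo H hc4), d ^ 2 = 1 → ρ d = d := by
    intro r hr hr2 hdvd
    haveI : Fact r.Prime := ⟨hr⟩
    obtain ⟨g, hg⟩ := exists_prime_orderOf_dvd_card' r hdvd
    rw [← Subgroup.orderOf_coe] at hg
    refine ⟨restrictAut (omegaTwo H hc4) g.1, ?_, ?_⟩
    · have hd := orderOf_map_dvd (restrictAut (omegaTwo H hc4)) g.1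
      rw [hg] at hd
      rcases (Nat.dvd_prime hr).1 hd with h1 | h1
      · exfalso
        rw [orderOf_eq_one_iff] at h1
        obtain ⟨k, hk⟩ := ker_restrict_pow h2 H hH1 hH2 hH3 hc4 g.1 (by
          intro x hx
          have := congrArg (fun f => ((f ⟨x, hx⟩ : ↥(omegaTwo H hc4)) : X)) h1
          exact this)
        have h5 : r ∣ 2 ^ k := by rw [← hg]; exact orderOf_dvd_of_pow_eq_one hk
        exact hr2 ((Nat.prime_dvd_prime_iff_eq hr Nat.prime_two).1 (hr.dvd_of_dvd_pow h5))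
      · exact h1
    · intro d hd
      apply Subtype.ext
      rw [restrictAut_apply]
      refine hA0fix g.1 g.2 d.1 ?_
      have := congrArg Subtype.val hd
      simpa using this
  have hcardA0 : ∃ q a b : ℕ, q.Prime ∧ Nat.card (invAct X).ker = 2 ^ a * q ^ b := by
    have hn : Nat.card (invAct X).ker ≠ 0 := Nat.card_pos.ne'
    by_cases h5 : 5 ∣ Nat.card (invAct X).ker
    · obtain ⟨a, b, hab⟩ := eq_two_pow_mul_pow _ hn 5 (by norm_num) (by
        intro r hr hrd
        by_cases hr2 : r = 2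
        · exact Or.inl hr2
        · right
          obtain ⟨ρ, hρ, hρf⟩ := hres r hr hr2 hrd
          rcases hyp.prime_order ρ r hr hr2 hρ hρf with h3' | h5'
          · exfalso
            subst h3'
            obtain ⟨ψ, hψ, hψf⟩ := hres 5 (by norm_num) (by norm_num) h5
            exact hyp.not_three_five ρ ψ hρ hψ hρf hψf
          · exact h5')
      exact ⟨5, a, b, by norm_num, hab⟩
    · obtain ⟨a, b, hab⟩ := eq_two_pow_mul_pow _ hn 3 (by norm_num) (by
        intro r hr hrd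
        by_cases hr2 : r = 2
        · exact Or.inl hr2
        · right
          obtain ⟨ρ, hρ, hρf⟩ := hres r hr hr2 hrd
          rcases hyp.prime_order ρ r hr hr2 hρ hρf with h3' | h5'
          · exact h3'
          · exfalso
            subst h5'
            exact h5 hrd)
      exact ⟨3, a, b, by norm_num, hab⟩
  obtain ⟨q, a, b, hq, hab⟩ := hcardA0
  haveI : Group.IsSolvable (invAct X).ker :=
    Cfsg.Agent.S0144.result 2 q a b Nat.prime_two hq hab
  haveI : Group.IsSolvable (Equiv.Perm {x : X // orderOf x = 2}) := by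
    apply Cfsg.Agent.S0144.result 2 3 1 1 Nat.prime_two (by norm_num)
    rw [Nat.card_perm, h3]
    rfl
  exact Group.isSolvable_of_ker_le_range (invAct X).ker.subtype (invAct X)
    (by rw [Subgroup.range_subtype])


end Cfsg.Agent.Helper2.ThreeInv
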