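import Mathlib
import Cfsg.Agent.Helper1.Coprime
import Cfsg.Agent.Helper1.PQLemma

set_option autoImplicit false

/-! Thompson transitivity: the class-two argument (for the prime 2). -/

namespace Cfsg.Agent.Helper2.Trans

open Cfsg.Agent.Helper1
open scoped commutatorElement

variable {Y : Type*} [Group Y]

/-- The elements of `R` acting trivially on `V / V₀` form a normal subgroup of `R`; hence it contains
`[K, A]` as soon as it contains `A`. -/
theorem comm_stab (R V V₀ A K : Subgroup Y)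
    (hV : R ≤ Subgroup.normalizer (V : Set Y)) (hV₀ : R ≤ Subgroup.normalizer (V₀ : Set Y))
    (hA : A ≤ R) (hK : K ≤ R)
    (h : ∀ a ∈ A, ∀ x ∈ V, x * a * x⁻¹ * a⁻¹ ∈ V₀) :
    ∀ c ∈ ⁅K, A⁆, ∀ x ∈ V, x * c * x⁻¹ * c⁻¹ ∈ V₀ := by
  let M : Subgroup Y :=
    { carrier := {y | y ∈ R ∧ ∀ x ∈ V, x * y * x⁻¹ * y⁻¹ ∈ V₀}
      one_mem' := ⟨R.one_mem, fun x _ => by simp [V₀.one_mem]⟩
      mul_mem' := by
        rintro y y' ⟨hy, hy1⟩ ⟨hy', hy1'⟩
        refine ⟨R.mul_mem hy hy', fun x hx => ?_⟩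
        have e : x * (y * y') * x⁻¹ * (y * y')⁻¹ =
            (x * y * x⁻¹ * y⁻¹) * (y * (x * y' * x⁻¹ * y'⁻¹) * y⁻¹) := by group
        rw [e]
        exact V₀.mul_mem (hy1 x hx) ((Subgroup.mem_normalizer_iff.mp (hV₀ hy) _).mp (hy1' x hx))
      inv_mem' := by
        rintro y ⟨hy, hy1⟩
        refine ⟨R.inv_mem hy, fun x hx => ?_⟩
        have e : x * y⁻¹ * x⁻¹ * y⁻¹⁻¹ = y⁻¹ * (x * y * x⁻¹ * y⁻¹)⁻¹ * y⁻¹⁻¹ := by group
        rw [e]
        exact (Subgroup.mem_normalizer_iff.mp (hV₀ (R.inv_mem hy)) _).mp (V₀.inv_mem (hy1 x hx)) }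
  have hMmem : ∀ y, y ∈ M ↔ y ∈ R ∧ ∀ x ∈ V, x * y * x⁻¹ * y⁻¹ ∈ V₀ := fun y => Iff.rfl
  have hconj : ∀ r ∈ R, ∀ y ∈ M, r * y * r⁻¹ ∈ M := by
    intro r hr y hy
    obtain ⟨hyR, hy1⟩ := (hMmem y).mp hy
    rw [hMmem]
    refine ⟨R.mul_mem (R.mul_mem hr hyR) (R.inv_mem hr), fun x hx => ?_⟩
    have hx' : r⁻¹ * x * r ∈ V := by
      have := (Subgroup.mem_normalizer_iff.mp (hV (R.inv_mem hr)) x).mp hx
      rwa [inv_inv] at this
    have e : x * (r * y * r⁻¹) * x⁻¹ * (r * y * r⁻¹)⁻¹ =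
        r * ((r⁻¹ * x * r) * y * (r⁻¹ * x * r)⁻¹ * y⁻¹) * r⁻¹ := by group
    rw [e]
    exact (Subgroup.mem_normalizer_iff.mp (hV₀ hr) _).mp (hy1 _ hx')
  have hAM : A ≤ M := fun a ha => (hMmem a).mpr ⟨hA ha, h a ha⟩
  have hle : ⁅K, A⁆ ≤ M := by
    rw [Subgroup.commutator_le]
    intro k hk a ha
    rw [commutatorElement_def]
    exact M.mul_mem (hconj k (hK hk) a (hAM ha)) (M.inv_mem (hAM ha))
  intro c hc
  exact ((hMmem c).mp (hle hc)).2

theorem isSolvable_of_isPGroup [Finite Y] {p : ℕ} [Fact p.Prime] {Q : Subgroup Y}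
    (hQ : IsPGroup p Q) : Group.IsSolvable Q := by
  haveI : Group.IsNilpotent Q := hQ.isNilpotent
  infer_instance

/-- The class-two argument: `Q ⊴ Y` a `p`-group, `A` a `p`-group normalizing the `p'`-group `K`; if all
commutators `[x, a]` (`x ∈ Q`, `a ∈ A`) are central in `QA` and `K` centralizes `C_Q(A)`, then `K`
centralizes `Q`. -/
theorem class_two_centralizes [Finite Y] (p : ℕ) [Fact p.Prime] (Q A K : Subgroup Y) [hQn : Q.Normal]
    (hQ : IsPGroup p Q) (hA : IsPGroup p A) (hK : (Nat.card K).Coprime p)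
    (hAK : A ≤ Subgroup.normalizer (K : Set Y))
    (h1 : ∀ x ∈ Q, ∀ a ∈ A, (∀ y ∈ Q, (x * a * x⁻¹ * a⁻¹) * y = y * (x * a * x⁻¹ * a⁻¹)) ∧
        (∀ b ∈ A, (x * a * x⁻¹ * a⁻¹) * b = b * (x * a * x⁻¹ * a⁻¹)))
    (h2 : Q ⊓ Subgroup.centralizer (A : Set Y) ≤ Subgroup.centralizer (K : Set Y)) :
    K ≤ Subgroup.centralizer (Q : Set Y) := by
  have hcopA : (Nat.card A).Coprime (Nat.card K) := by
    obtain ⟨n, hn⟩ := IsPGroup.iff_card.mp hA
    rw [hn]
    exact (Nat.Coprime.pow_right n hK).symm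
  have hsolvA : Group.IsSolvable A := isSolvable_of_isPGroup hA
  have hQcard : ∀ K' : Subgroup Y, K' ≤ K → (Nat.card K').Coprime (Nat.card Q) := by
    intro K' hK'
    obtain ⟨n, hn⟩ := IsPGroup.iff_card.mp hQ
    rw [hn]
    exact Nat.Coprime.pow_right n (hK.coprime_dvd_left (Subgroup.card_dvd_of_le hK'))
  have hsplit := coprime_commutator_sup_centralizer A K hAK hcopA (Or.inl hsolvA)
  rw [← hsplit]
  have hK₁K : ⁅K, A⁆ ≤ K := Subgroup.le_normalizer_iff_commutator_le_left.1 hAK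
  apply sup_le
  · -- the part `[K, A]`
    set K₁ := ⁅K, A⁆ with hK₁
    set Z := Q ⊓ Subgroup.centralizer (Q : Set Y) with hZ
    have hZnorm : ∀ g : Y, g ∈ Subgroup.normalizer (Z : Set Y) := by
      intro g
      rw [Subgroup.mem_normalizer_iff]
      have key : ∀ g : Y, ∀ z ∈ Z, g * z * g⁻¹ ∈ Z := by
        intro g z hz
        refine Subgroup.mem_inf.mpr ⟨hQn.conj_mem z hz.1 g, ?_⟩
        rw [Subgroup.mem_centralizer_iff]
        intro y hy
        have hy' : g⁻¹ * y * g ∈ Q := by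
          have := hQn.conj_mem y hy g⁻¹
          rwa [inv_inv] at this
        have hc := Subgroup.mem_centralizer_iff.mp hz.2 _ hy'
        calc y * (g * z * g⁻¹) = g * ((g⁻¹ * y * g) * z) * g⁻¹ := by group
          _ = g * (z * (g⁻¹ * y * g)) * g⁻¹ := by rw [hc]
          _ = g * z * g⁻¹ * y := by group
      intro z
      constructor
      · exact key g z
      · intro hz
        have := key g⁻¹ _ hz
        simpa [mul_assoc] using this
    have hZQ : Z ≤ Q := inf_le_left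
    have hZp : IsPGroup p Z := hQ.to_le hZQ
    -- step i
    have hstep1 : ∀ c ∈ K₁, ∀ x ∈ Q, x * c * x⁻¹ * c⁻¹ ∈ Z := by
      apply comm_stab ⊤ Q Z A K (fun g _ => by
          rw [Subgroup.mem_normalizer_iff]
          intro x
          constructor
          · exact fun hx => hQn.conj_mem x hx g
          · intro hx
            have := hQn.conj_mem _ hx g⁻¹
            simpa [mul_assoc] using this)
        (fun g _ => hZnorm g) le_top le_top
      intro a ha x hx
      refine Subgroup.mem_inf.mpr ⟨?_, ?_⟩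
      · have h3 : a * x⁻¹ * a⁻¹ ∈ Q := hQn.conj_mem _ (Q.inv_mem hx) a
        have := Q.mul_mem hx h3
        simpa [mul_assoc] using this
      · rw [Subgroup.mem_centralizer_iff]
        intro y hy
        exact ((h1 x hx a ha).1 y hy).symm
    -- step iii
    set Z₀ := Z ⊓ Subgroup.centralizer (A : Set Y) with hZ₀
    have hZ₀K : Z₀ ≤ Subgroup.centralizer (K : Set Y) :=
      (inf_le_inf_right _ hZQ).trans h2
    have hKZ₀ : K ≤ Subgroup.centralizer (Z₀ : Set Y) := Subgroup.le_centralizer_iff.mp hZ₀K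
    have hAZ₀ : A ≤ Subgroup.centralizer (Z₀ : Set Y) :=
      Subgroup.le_centralizer_iff.mp inf_le_right
    have hstep3 : ∀ c ∈ K₁, ∀ v ∈ Z, v * c * v⁻¹ * c⁻¹ ∈ Z₀ := by
      apply comm_stab (K ⊔ A) Z Z₀ A K (fun g _ => hZnorm g)
        ((sup_le hKZ₀ hAZ₀).trans (Subgroup.centralizer_le_normalizer _)) le_sup_right le_sup_left
      intro a ha v hv
      refine Subgroup.mem_inf.mpr ⟨?_, ?_⟩
      · have h3 : a * v⁻¹ * a⁻¹ ∈ Z := by
          have := (Subgroup.mem_normalizer_iff.mp (hZnorm a) v⁻¹).mp (Z.inv_mem hv)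
          exact this
        have := Z.mul_mem hv h3
        simpa [mul_assoc] using this
      · rw [Subgroup.mem_centralizer_iff]
        intro b hb
        exact ((h1 v (hZQ hv) a ha).2 b hb).symm
    have hK₁normZ : K₁ ≤ Subgroup.normalizer (Z : Set Y) := fun g _ => hZnorm g
    have hK₁normQ : K₁ ≤ Subgroup.normalizer (Q : Set Y) := by
      intro g _
      rw [Subgroup.normalizer_eq_top]
      exact Subgroup.mem_top g
    have hZK₁ : ⁅Z, K₁⁆ ≤ Z₀ := by
      rw [Subgroup.commutator_le]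
      intro v hv c hc
      rw [commutatorElement_def]
      exact hstep3 c hc v hv
    have hZ₀K₁ : ⁅Z₀, K₁⁆ = ⊥ := by
      rw [Subgroup.commutator_eq_bot_iff_le_centralizer]
      exact hZ₀K.trans (Subgroup.centralizer_le hK₁K)
    have hZK₁bot : ⁅Z, K₁⁆ = ⊥ := by
      have h5 := coprime_commutator_commutator K₁ Z hK₁normZ
        ((hQcard K₁ hK₁K).coprime_dvd_right (Subgroup.card_dvd_of_le hZQ))
        (Or.inr (isSolvable_of_isPGroup hZp))
      rw [← h5, eq_bot_iff, ← hZ₀K₁]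
      exact Subgroup.commutator_mono hZK₁ le_rfl
    have hQK₁ : ⁅Q, K₁⁆ ≤ Z := by
      rw [Subgroup.commutator_le]
      intro x hx c hc
      rw [commutatorElement_def]
      exact hstep1 c hc x hx
    have hQK₁bot : ⁅Q, K₁⁆ = ⊥ := by
      have h5 := coprime_commutator_commutator K₁ Q hK₁normQ (hQcard K₁ hK₁K)
        (Or.inr (isSolvable_of_isPGroup hQ))
      rw [← h5, eq_bot_iff, ← hZK₁bot]
      exact Subgroup.commutator_mono hQK₁ le_rfl
    rw [Subgroup.commutator_eq_bot_iff_le_centralizer] at hQK₁bot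
    exact Subgroup.le_centralizer_iff.mp hQK₁bot
  · -- the part `C_K(A)`
    set K₀ := K ⊓ Subgroup.centralizer (A : Set Y) with hK₀
    have hK₀cop : (Nat.card K₀).Coprime p := hK.coprime_dvd_left (Subgroup.card_dvd_of_le inf_le_left)
    have hAK₀ : A ≤ Subgroup.centralizer (K₀ : Set Y) := Subgroup.le_centralizer_iff.mp inf_le_right
    have hnQ : ∀ H : Subgroup Y, H ≤ Subgroup.normalizer (Q : Set Y) := by
      intro H g _
      rw [Subgroup.normalizer_eq_top]
      exact Subgroup.mem_top g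
    have h := thompson_PxQ p A K₀ hA hK₀cop hAK₀ (Nat.card Q) Q rfl hQ (hnQ A) (hnQ K₀)
      (h2.trans (Subgroup.centralizer_le inf_le_left))
    rw [Subgroup.commutator_eq_bot_iff_le_centralizer] at h
    exact Subgroup.le_centralizer_iff.mp h

end Cfsg.Agent.Helper2.Trans
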