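import Mathlib
import Cfsg.Agent.Helper2.TransA
import Cfsg.Agent.S1302

set_option autoImplicit false

/-! Thompson transitivity: invariant `p'`-subgroups of `p`-constrained groups lie in `O_{p'}`. -/

namespace Cfsg.Agent.Helper2.Trans

open Cfsg.Agent.Helper1 Cfsg.Agent.Helper2 Cfsg.Agent.Helper5
open scoped commutatorElement

/-- Every `p`-subgroup has class at most two (as a commutator identity). -/
def Cl2 (p : ℕ) (X : Type*) [Group X] : Prop :=
  ∀ T : Subgroup X, IsPGroup p T → ∀ x ∈ T, ∀ y ∈ T, ∀ z ∈ T,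
    (x * y * x⁻¹ * y⁻¹) * z = z * (x * y * x⁻¹ * y⁻¹)

theorem cl2_of_surjective {X X' : Type*} [Group X] [Group X'] [Finite X] (p : ℕ) [Fact p.Prime]
    (f : X →* X') (hf : Function.Surjective f) (h : Cl2 p X) : Cl2 p X' := by
  haveI : Finite X' := Finite.of_surjective f hf
  intro T hT x hx y hy z hz
  obtain ⟨P', hP'⟩ := hT.exists_le_sylow
  obtain ⟨P, hP⟩ := Sylow.mapSurjective_surjective hf p P'
  have hP2 : (P' : Subgroup X') = (P : Subgroup X).map f := by
    rw [← hP, Sylow.coe_mapSurjective]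
  have hx' := hP' hx
  have hy' := hP' hy
  have hz' := hP' hz
  rw [hP2] at hx' hy' hz'
  obtain ⟨x₀, hx₀, rfl⟩ := hx'
  obtain ⟨y₀, hy₀, rfl⟩ := hy'
  obtain ⟨z₀, hz₀, rfl⟩ := hz'
  have := h P P.2 x₀ hx₀ y₀ hy₀ z₀ hz₀
  have h2 := congrArg f this
  simpa only [map_mul, map_inv] using h2

theorem cl2_of_injective {X X' : Type*} [Group X] [Group X'] (p : ℕ) [Fact p.Prime]
    (f : X →* X') (hf : Function.Injective f) (h : Cl2 p X') : Cl2 p X := by
  intro T hT x hx y hy z hz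
  have hT' : IsPGroup p (T.map f) := hT.map f
  have := h (T.map f) hT' (f x) ⟨x, hx, rfl⟩ (f y) ⟨y, hy, rfl⟩ (f z) ⟨z, hz, rfl⟩
  apply hf
  simpa only [map_mul, map_inv] using this

theorem cl2_of_sylow {G : Type*} [Group G] [Finite G] (p : ℕ) [Fact p.Prime]
    (h : ∀ S : Sylow p G, Group.IsNilpotent (S : Subgroup G) ∧
      Group.nilpotencyClass (S : Subgroup G) ≤ 2) : Cl2 p G := by
  intro T hT x hx y hy z hz
  obtain ⟨S, hS⟩ := hT.exists_le_sylow
  obtain ⟨hnil, hcl⟩ := h S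
  have htop : Subgroup.upperCentralSeries (S : Subgroup G) 2 = ⊤ :=
    Subgroup.upperCentralSeries_eq_top_iff_nilpotencyClass_le.mpr hcl
  have hx2 : (⟨x, hS hx⟩ : (S : Subgroup G)) ∈ Subgroup.upperCentralSeries (S : Subgroup G) (1 + 1) := by
    rw [show (1 + 1 : ℕ) = 2 from rfl, htop]; exact Subgroup.mem_top _
  rw [Subgroup.mem_upperCentralSeries_succ_iff] at hx2
  have h3 := hx2 ⟨y, hS hy⟩
  rw [Subgroup.upperCentralSeries_one, Subgroup.mem_center_iff] at h3
  have h4 := h3 ⟨z, hS hz⟩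
  have h5 := congrArg Subtype.val h4
  simp only [commutatorElement_def, Subgroup.coe_mul, Subgroup.coe_inv] at h5
  exact h5.symm

/-- Invariant `p'`-subgroups of a `p`-constrained group lie in `O_{p'}`: the case where all
`p`-subgroups have class at most two. -/
theorem inv_le_pPrimeCore_cl2 {X : Type*} [Group X] [Finite X] (p : ℕ) [Fact p.Prime]
    (hcl : Cl2 p X) (hX : Cfsg.IsPConstrained p X) (A : Subgroup X)
    (hAp : IsPGroup p ↥A)
    (hΩ : ∀ x ∈ Subgroup.centralizer (A : Set X), IsPGroup p (Subgroup.zpowers x) → x ∈ A)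
    (Q : Subgroup X) (hQ : ¬ p ∣ Nat.card ↥Q) (hAQ : A ≤ Subgroup.normalizer (Q : Set X)) :
    Q ≤ Cfsg.pPrimeCore p X := by
  classical
  set O := Cfsg.pPrimeCore p X with hOdef
  have hOc : (Nat.card O).Coprime p := card_pPrimeCore_coprime p
  set π := QuotientGroup.mk' O with hπ
  have hXb : Cfsg.IsPConstrained p (X ⧸ O) := (isPConstrained_quotient_iff p).mp hX
  have hchar : HasCharP p (X ⧸ O) :=
    FratAct.hasCharP_of_isPConstrained hXb (pPrimeCore_quotient_pPrimeCore p)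
  have hclb : Cl2 p (X ⧸ O) := cl2_of_surjective p π (QuotientGroup.mk'_surjective O) hcl
  set Qb := Cfsg.pCore p (X ⧸ O) with hQb
  have hQbp : IsPGroup p ↥Qb := isPGroup_pCore p
  set Ab := A.map π with hAb
  set Kb := Q.map π with hKb
  have hAbp : IsPGroup p ↥Ab := hAp.map π
  have hKbc : (Nat.card ↥Kb).Coprime p := by
    have h1 : Nat.card ↥Kb ∣ Nat.card ↥Q := Subgroup.card_map_dvd Q π
    have h2 : (Nat.card ↥Q).Coprime p := ((Nat.Prime.coprime_iff_not_dvd (Fact.out)).mpr hQ).symm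
    exact h2.coprime_dvd_left h1
  have hdisj : Qb ⊓ Kb = ⊥ := by
    apply Subgroup.inf_eq_bot_of_coprime
    obtain ⟨n, hn⟩ := IsPGroup.iff_card.mp hQbp
    rw [hn]
    exact (Nat.Coprime.pow_right n hKbc).symm
  have hAN : Ab ≤ Subgroup.normalizer (Kb : Set (X ⧸ O)) := by
    rintro _ ⟨a, ha, rfl⟩
    rw [Subgroup.mem_normalizer_iff]
    intro h
    constructor
    · rintro ⟨y, hy, rfl⟩
      refine ⟨a * y * a⁻¹, (Subgroup.mem_normalizer_iff.mp (hAQ ha) y).mp hy, ?_⟩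
      simp
    · intro hh
      obtain ⟨y, hy, hyh⟩ := hh
      refine ⟨a⁻¹ * y * a, ?_, ?_⟩
      · have := (Subgroup.mem_normalizer_iff.mp (hAQ (A.inv_mem ha)) y).mp hy
        rwa [inv_inv] at this
      · rw [map_mul, map_mul, hyh, map_inv]; group
  -- the `p`-group `Qb Ab`
  have hTp : IsPGroup p ↥(Qb ⊔ Ab) := by
    apply IsPGroup.to_sup_of_normal_left' hQbp hAbp
    intro g _
    rw [Subgroup.normalizer_eq_top]
    exact Subgroup.mem_top g
  have h1 : ∀ x ∈ Qb, ∀ a ∈ Ab, (∀ y ∈ Qb, (x * a * x⁻¹ * a⁻¹) * y = y * (x * a * x⁻¹ * a⁻¹)) ∧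
        (∀ b ∈ Ab, (x * a * x⁻¹ * a⁻¹) * b = b * (x * a * x⁻¹ * a⁻¹)) := by
    intro x hx a ha
    constructor
    · intro y hy
      exact hclb _ hTp x (Subgroup.mem_sup_left hx) a (Subgroup.mem_sup_right ha) y
        (Subgroup.mem_sup_left hy)
    · intro b hb
      exact hclb _ hTp x (Subgroup.mem_sup_left hx) a (Subgroup.mem_sup_right ha) b
        (Subgroup.mem_sup_right hb)
  have h2 : Qb ⊓ Subgroup.centralizer ((Ab : Subgroup (X ⧸ O)) : Set (X ⧸ O)) ≤
      Subgroup.centralizer ((Kb : Subgroup (X ⧸ O)) : Set (X ⧸ O)) := by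
    rintro x ⟨hxQ, hxc⟩
    have hxc' : x ∈ Subgroup.centralizer ((Ab : Subgroup (X ⧸ O)) : Set (X ⧸ O)) := hxc
    rw [hAb, hπ, ← map_centralizer_eq_of_coprime p O hOc A hAp] at hxc'
    obtain ⟨c, hc, hcx⟩ := hxc'
    obtain ⟨j, hj⟩ := (IsPGroup.iff_orderOf.mp hQbp) ⟨x, hxQ⟩
    have hxpj : x ^ (p ^ j) = 1 := by
      have h3 : orderOf x = p ^ j := by
        rw [← hj]
        exact (Subgroup.orderOf_mk x hxQ).symm
      rw [← h3]; exact pow_orderOf_eq_one x
    have hcop2 : (Nat.card ↥O).Coprime (p ^ j) := Nat.Coprime.pow_right j hOc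
    -- choose m' with |O| m' ≡ 1 mod p^j
    obtain ⟨m', hm'⟩ : ∃ m' : ℕ, x ^ (Nat.card ↥O * m') = x := by
      by_cases hj0 : p ^ j = 1
      · refine ⟨0, ?_⟩
        rw [hj0, pow_one] at hxpj
        rw [hxpj, one_pow]
      · have h1lt : 1 < p ^ j := by
          have : 0 < p ^ j := pow_pos (Fact.out : p.Prime).pos j
          omega
        obtain ⟨m', -, hm'⟩ := Nat.exists_mul_mod_eq_one_of_coprime hcop2 h1lt
        refine ⟨m', ?_⟩
        rw [pow_eq_pow_mod _ hxpj, hm', pow_one]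
    set c' := c ^ (Nat.card ↥O * m') with hc'
    have hc'c : c' ∈ Subgroup.centralizer (A : Set X) := Subgroup.pow_mem _ hc _
    have hπc' : π c' = x := by
      rw [hc', map_pow]
      change (QuotientGroup.mk' O c) ^ _ = _
      rw [hcx, hm']
    have hcpO : c ^ (p ^ j) ∈ O := by
      rw [← QuotientGroup.eq_one_iff, ← QuotientGroup.mk'_apply, map_pow, hcx, hxpj]
    have hc'p : c' ^ (p ^ j) = 1 := by
      have : (c ^ (p ^ j)) ^ Nat.card ↥O = 1 := by
        have h1 := pow_card_eq_one' (G := ↥O) (x := ⟨c ^ (p ^ j), hcpO⟩)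
        have h2 := congrArg Subtype.val h1
        rwa [Subgroup.coe_pow] at h2
      rw [hc', ← pow_mul, mul_comm, pow_mul, pow_mul, this, one_pow]
    have hc'pg : IsPGroup p (Subgroup.zpowers c') := by
      obtain ⟨i, -, hi⟩ := (Nat.dvd_prime_pow (Fact.out : p.Prime)).mp (orderOf_dvd_of_pow_eq_one hc'p)
      apply IsPGroup.of_card (n := i)
      rw [Nat.card_zpowers, hi]
    have hc'A : c' ∈ A := hΩ c' hc'c hc'pg
    rw [Subgroup.mem_centralizer_iff]
    rintro _ ⟨y, hy, rfl⟩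
    have hu : c' * y * c'⁻¹ * y⁻¹ ∈ Q :=
      Q.mul_mem ((Subgroup.mem_normalizer_iff.mp (hAQ hc'A) y).mp hy) (Q.inv_mem hy)
    have hπu : π (c' * y * c'⁻¹ * y⁻¹) ∈ Qb ⊓ Kb := by
      refine Subgroup.mem_inf.mpr ⟨?_, ⟨_, hu, rfl⟩⟩
      rw [map_mul, map_mul, map_mul, map_inv, map_inv, hπc', mul_assoc, mul_assoc]
      apply Qb.mul_mem hxQ
      have := (inferInstance : Qb.Normal).conj_mem _ (Qb.inv_mem hxQ) (π y)
      rwa [mul_assoc] at this
    rw [hdisj, Subgroup.mem_bot, map_mul, map_mul, map_mul, map_inv, map_inv, hπc'] at hπu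
    have := congrArg (· * (π y * x)) hπu
    simp only [one_mul, mul_assoc, inv_mul_cancel_left, inv_mul_cancel, mul_one] at this
    exact this.symm
  have hKcen : Kb ≤ Subgroup.centralizer ((Qb : Subgroup (X ⧸ O)) : Set (X ⧸ O)) :=
    class_two_centralizes p Qb Ab Kb hQbp hAbp hKbc hAN h1 h2
  have hKQ : Kb ≤ Qb := hKcen.trans hchar
  have hKbot : Kb = ⊥ := by
    rw [eq_bot_iff, ← hdisj]
    exact le_inf hKQ le_rfl
  intro y hy
  have : π y ∈ Kb := ⟨y, hy, rfl⟩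
  rw [hKbot, Subgroup.mem_bot] at this
  rwa [hπ, QuotientGroup.mk'_apply, QuotientGroup.eq_one_iff] at this

/-- Invariant `p'`-subgroups of a `p`-constrained group lie in `O_{p'}` (`p` odd, or class two). -/
theorem inv_le_pPrimeCore {X : Type*} [Group X] [Finite X] (p : ℕ) [Fact p.Prime]
    (hcl : p = 2 → Cl2 p X) (hX : Cfsg.IsPConstrained p X) (A : Subgroup X)
    (hA : IsMulCommutative ↥A) (hAp : IsPGroup p ↥A)
    (hΩ : ∀ x ∈ Subgroup.centralizer (A : Set X), IsPGroup p (Subgroup.zpowers x) → x ∈ A)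
    (Q : Subgroup X) (hQ : ¬ p ∣ Nat.card ↥Q) (hAQ : A ≤ Subgroup.normalizer (Q : Set X)) :
    Q ≤ Cfsg.pPrimeCore p X := by
  by_cases hp : p = 2
  · exact inv_le_pPrimeCore_cl2 p (hcl hp) hX A hAp hΩ Q hQ hAQ
  · refine Cfsg.Agent.S1302.result p hp hX A hA hAp ?_ Q hQ hAQ
    intro x hx ho
    apply hΩ x hx
    apply IsPGroup.of_card (n := 1)
    rw [Nat.card_zpowers, ho, pow_one]

end Cfsg.Agent.Helper2.Trans
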