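import Mathlib
import Cfsg.Prelude.Def_OddOrderLocal
import Cfsg.Agent.Helper2.TransB
import Cfsg.Agent.Helper2.Signalizer1

set_option autoImplicit false

/-! Thompson transitivity: the set-up. -/

namespace Cfsg.Agent.Helper2.Trans

open Cfsg.Agent.Helper1 Cfsg.Agent.Helper2

variable {G : Type*} [Group G]

/-- `Ω₁(E)` for a commutative subgroup `E`. -/
def omega (p : ℕ) (E : Subgroup G) (hE : ∀ x ∈ E, ∀ y ∈ E, x * y = y * x) : Subgroup G where
  carrier := {x | x ∈ E ∧ x ^ p = 1}
  one_mem' := ⟨E.one_mem, one_pow p⟩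
  mul_mem' := by
    rintro x y ⟨hx, hx1⟩ ⟨hy, hy1⟩
    refine ⟨E.mul_mem hx hy, ?_⟩
    have hc : Commute x y := hE x hx y hy
    rw [hc.mul_pow, hx1, hy1, one_mul]
  inv_mem' := by
    rintro x ⟨hx, hx1⟩
    exact ⟨E.inv_mem hx, by rw [inv_pow, hx1, inv_one]⟩

theorem mem_omega {p : ℕ} {E : Subgroup G} {hE : ∀ x ∈ E, ∀ y ∈ E, x * y = y * x} {x : G} :
    x ∈ omega p E hE ↔ x ∈ E ∧ x ^ p = 1 := Iff.rfl

theorem omega_le (p : ℕ) (E : Subgroup G) (hE : ∀ x ∈ E, ∀ y ∈ E, x * y = y * x) :
    omega p E hE ≤ E := fun _ hx => hx.1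

theorem omega_elementary (p : ℕ) (E : Subgroup G) (hE : ∀ x ∈ E, ∀ y ∈ E, x * y = y * x) :
    Cfsg.IsElementaryAbelian p (omega p E hE) :=
  ⟨⟨⟨fun a b => Subtype.ext (hE a a.2.1 b b.2.1)⟩⟩, fun _ ha => ha.2⟩

theorem card_omega [Finite G] (p : ℕ) [hp : Fact p.Prime] (E : Subgroup G)
    (hE : ∀ x ∈ E, ∀ y ∈ E, x * y = y * x) (h3 : ¬ Cfsg.PRankLE p 2 E) :
    p ^ 3 ≤ Nat.card (omega p E hE) := by
  unfold Cfsg.PRankLE at h3
  push Not at h3
  obtain ⟨A₀, -, hA₀e, hA₀c⟩ := h3
  have hle : A₀.map E.subtype ≤ omega p E hE := by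
    rintro _ ⟨a, ha, rfl⟩
    refine ⟨a.2, ?_⟩
    have := congrArg Subtype.val (hA₀e a ha)
    simpa using this
  have hcard : Nat.card (A₀.map E.subtype) = Nat.card A₀ :=
    Subgroup.card_map_of_injective E.subtype_injective
  have h1 : p ^ 2 < Nat.card (omega p E hE) := by
    have := Subgroup.card_le_of_le hle
    omega
  have hpg : IsPGroup p (omega p E hE) := by
    intro x
    refine ⟨1, ?_⟩
    rw [pow_one]
    apply Subtype.ext
    rw [Subgroup.coe_pow]
    exact x.2.2
  obtain ⟨k, hk⟩ := IsPGroup.iff_card.mp hpg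
  rw [hk] at h1 ⊢
  have hk3 : 3 ≤ k := by
    by_contra hcon
    push Not at hcon
    have : p ^ k ≤ p ^ 2 := Nat.pow_le_pow_right hp.out.pos (by omega)
    omega
  exact Nat.pow_le_pow_right hp.out.pos hk3

/-- Every `p'`-subgroup of `C_G(E)` lies in `O_{p'}(C_G(E))`, when `E` contains every `p`-element of
its centralizer. -/
theorem le_piCoreOf_centralizer [Finite G] (p : ℕ) [hp : Fact p.Prime] (E : Subgroup G)
    (hEp : IsPGroup p E) (hE : ∀ x ∈ E, ∀ y ∈ E, x * y = y * x)
    (hEfull : ∀ x ∈ Subgroup.centralizer (E : Set G), IsPGroup p (Subgroup.zpowers x) → x ∈ E)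
    (U : Subgroup G) (hU : U ≤ Subgroup.centralizer (E : Set G)) (hUp : (Nat.card U).Coprime p) :
    U ≤ Cfsg.piCoreOf (Cfsg.primesNotDvd p) (Subgroup.centralizer (E : Set G)) := by
  classical
  set C := Subgroup.centralizer (E : Set G) with hC
  have hEC : E ≤ C := by
    intro x hx
    rw [hC, Subgroup.mem_centralizer_iff]
    intro y hy
    exact hE y hy x hx
  -- `E` as a Sylow subgroup of `C`
  let P : Sylow p C :=
    { toSubgroup := E.subgroupOf C
      isPGroup' := hEp.comap_subtype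
      is_maximal' := by
        intro T hT hle
        apply le_antisymm _ hle
        intro x hx
        rw [Subgroup.mem_subgroupOf]
        apply hEfull (x : G) x.2
        have hz : IsPGroup p (Subgroup.zpowers x) := hT.to_le (Subgroup.zpowers_le.mpr hx)
        have := hz.map C.subtype
        rwa [MonoidHom.map_zpowers] at this }
  have hPcoe : (P : Subgroup C) = E.subgroupOf C := rfl
  have hPN : Subgroup.normalizer ((P : Subgroup C) : Set C) ≤ Subgroup.centralizer ((P : Subgroup C) : Set C) := by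
    intro x _
    rw [Subgroup.mem_centralizer_iff]
    intro y hy
    rw [SetLike.mem_coe, hPcoe, Subgroup.mem_subgroupOf] at hy
    apply Subtype.ext
    have := Subgroup.mem_centralizer_iff.mp x.2 (y : G) hy
    simpa using this
  set f := MonoidHom.transferSylow P hPN with hf
  have hcompl := MonoidHom.ker_transferSylow_isComplement' P hPN
  have hkcard : Nat.card f.ker * Nat.card (P : Subgroup C) = Nat.card C := hcompl.card_mul
  have hkcop : (Nat.card f.ker).Coprime p := by
    have hidx : Nat.card f.ker = (P : Subgroup C).index := by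
      have h1 := (P : Subgroup C).card_mul_index
      have hpos : 0 < Nat.card (P : Subgroup C) := Nat.card_pos
      have : Nat.card f.ker * Nat.card (P : Subgroup C) =
          (P : Subgroup C).index * Nat.card (P : Subgroup C) := by
        rw [hkcard, ← h1, mul_comm]
      exact Nat.eq_of_mul_eq_mul_right hpos this
    rw [hidx]
    exact ((Nat.Prime.coprime_iff_not_dvd hp.out).mpr P.not_dvd_index).symm
  have hker_le : f.ker ≤ Cfsg.piCore (Cfsg.primesNotDvd p) C := by
    apply le_sSup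
    refine ⟨inferInstance, ?_⟩
    intro r hr hrd
    refine ⟨hr, ?_⟩
    intro hrp
    have : r = p := (Nat.prime_dvd_prime_iff_eq hr hp.out).mp hrp
    rw [this] at hrd
    exact (Nat.Prime.coprime_iff_not_dvd hp.out).mp hkcop.symm hrd
  have hUker : U.subgroupOf C ≤ f.ker := by
    intro u hu
    rw [MonoidHom.mem_ker]
    have h1 : orderOf (f u) ∣ Nat.card (P : Subgroup C) := orderOf_dvd_natCard (f u)
    have h2 : orderOf (f u) ∣ orderOf u := orderOf_map_dvd f u
    have h3 : orderOf u ∣ Nat.card U := by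
      have h4 : orderOf (⟨u, hu⟩ : U.subgroupOf C) ∣ Nat.card (U.subgroupOf C) :=
        orderOf_dvd_natCard _
      rw [Subgroup.orderOf_mk] at h4
      have h5 : Nat.card (U.subgroupOf C) = Nat.card U :=
        Nat.card_congr (Subgroup.subgroupOfEquivOfLe hU).toEquiv
      rwa [h5] at h4
    obtain ⟨k, hk⟩ := IsPGroup.iff_card.mp P.2
    have hc : (orderOf (f u)).Coprime (orderOf (f u)) := by
      apply Nat.Coprime.coprime_dvd_left (h2.trans h3)
      apply Nat.Coprime.coprime_dvd_right (hk ▸ h1)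
      exact Nat.Coprime.pow_right k hUp
    rw [Nat.coprime_self] at hc
    exact orderOf_eq_one_iff.mp hc
  intro u hu
  refine ⟨⟨u, hU hu⟩, hker_le (hUker (Subgroup.mem_subgroupOf.mpr hu)), rfl⟩

/-- The subgroup `O_{p'}(N_G(⟨a⟩))`, viewed in `G`. -/
noncomputable def L (p : ℕ) (a : G) : Subgroup G :=
  (Cfsg.pPrimeCore p ↥(Subgroup.normalizer ((Subgroup.zpowers a : Subgroup G) : Set G))).map
    (Subgroup.normalizer ((Subgroup.zpowers a : Subgroup G) : Set G)).subtype

theorem centralizer_singleton_le_normalizer_zpowers (a : G) :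
    Subgroup.centralizer ({a} : Set G) ≤
      Subgroup.normalizer ((Subgroup.zpowers a : Subgroup G) : Set G) := by
  rw [← centralizer_zpowers_eq]
  exact Subgroup.centralizer_le_normalizer _

theorem le_centralizer_singleton {E : Subgroup G} (hE : ∀ x ∈ E, ∀ y ∈ E, x * y = y * x) {a : G}
    (ha : a ∈ E) : E ≤ Subgroup.centralizer ({a} : Set G) := by
  intro e he
  rw [Subgroup.mem_centralizer_singleton_iff]
  exact hE e he a ha

theorem L_card [Finite G] (p : ℕ) [hp : Fact p.Prime] (a : G) : ¬ p ∣ Nat.card (L p a) := by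
  unfold L
  rw [Subgroup.card_map_of_injective (Subgroup.subtype_injective _)]
  exact (Nat.Prime.coprime_iff_not_dvd hp.out).mp (card_pPrimeCore_coprime p).symm

theorem L_inv (p : ℕ) {E : Subgroup G} (hE : ∀ x ∈ E, ∀ y ∈ E, x * y = y * x) {a : G}
    (ha : a ∈ E) : E ≤ Subgroup.normalizer ((L p a : Subgroup G) : Set G) := by
  apply le_normalizer_of_conj_mem
  rintro e he _ ⟨y, hy, rfl⟩
  have heN : e ∈ Subgroup.normalizer ((Subgroup.zpowers a : Subgroup G) : Set G) :=
    centralizer_singleton_le_normalizer_zpowers a (le_centralizer_singleton hE ha he)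
  refine ⟨⟨e, heN⟩ * y * ⟨e, heN⟩⁻¹, ?_, rfl⟩
  exact (inferInstance : (Cfsg.pPrimeCore p _).Normal).conj_mem y hy _

/-- Invariant `p'`-subgroups of `C_G(a)` lie in `L p a`. -/
theorem le_L [Finite G] (p : ℕ) [hp : Fact p.Prime] (hcl : p = 2 → Cl2 p G) (E : Subgroup G)
    (hEp : IsPGroup p E) (hE : ∀ x ∈ E, ∀ y ∈ E, x * y = y * x)
    (hEfull : ∀ x ∈ Subgroup.centralizer (E : Set G), IsPGroup p (Subgroup.zpowers x) → x ∈ E)
    {a : G} (ha : a ∈ E)
    (hc : Cfsg.IsPConstrained p ↥(Subgroup.normalizer ((Subgroup.zpowers a : Subgroup G) : Set G)))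
    (U : Subgroup G) (hUa : U ≤ Subgroup.centralizer ({a} : Set G)) (hUp : ¬ p ∣ Nat.card U)
    (hEU : E ≤ Subgroup.normalizer (U : Set G)) : U ≤ L p a := by
  set N := Subgroup.normalizer ((Subgroup.zpowers a : Subgroup G) : Set G) with hN
  have hEN : E ≤ N := (le_centralizer_singleton hE ha).trans
    (centralizer_singleton_le_normalizer_zpowers a)
  have hUN : U ≤ N := hUa.trans (centralizer_singleton_le_normalizer_zpowers a)
  haveI hcomm : IsMulCommutative ↥(E.subgroupOf N) :=
    ⟨⟨fun x y => Subtype.ext (Subtype.ext (hE _ x.2 _ y.2))⟩⟩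
  have hmain := inv_le_pPrimeCore (X := ↥N) p
    (fun h2 => cl2_of_injective p N.subtype N.subtype_injective (hcl h2)) hc (E.subgroupOf N)
    hcomm hEp.comap_subtype ?_ (U.subgroupOf N) ?_ ?_
  · intro u hu
    exact ⟨⟨u, hUN hu⟩, hmain (Subgroup.mem_subgroupOf.mpr hu), rfl⟩
  · intro x hx hxp
    rw [Subgroup.mem_subgroupOf]
    apply hEfull
    · rw [Subgroup.mem_centralizer_iff]
      intro e he
      have := Subgroup.mem_centralizer_iff.mp hx ⟨e, hEN he⟩ (Subgroup.mem_subgroupOf.mpr he)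
      have h2 := congrArg Subtype.val this
      simpa using h2
    · have := hxp.map N.subtype
      rwa [MonoidHom.map_zpowers] at this
  · rw [Nat.card_congr (Subgroup.subgroupOfEquivOfLe hUN).toEquiv]
    exact hUp
  · intro e he
    rw [Subgroup.mem_subgroupOf] at he
    rw [Subgroup.mem_normalizer_iff]
    intro x
    have := Subgroup.mem_normalizer_iff.mp (hEU he) (x : G)
    simpa [Subgroup.mem_subgroupOf] using this

end Cfsg.Agent.Helper2.Trans
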