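import Mathlib

set_option autoImplicit false

/-! The centraliser in the symmetric group of a transitive permutation group `G` is isomorphic to
`N_G(G_a) / G_a`. -/

namespace Cfsg.Agent.Helper2.TransCent

open MulAction Subgroup

variable {α : Type*} (G : Subgroup (Equiv.Perm α)) [MulAction.IsPretransitive G α] (a : α)

/-- A chosen group element taking `a` to `x`. -/
noncomputable def γ (x : α) : G := Classical.choose (MulAction.exists_smul_eq G a x)

theorem γ_spec (x : α) : γ G a x • a = x := Classical.choose_spec (MulAction.exists_smul_eq G a x)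

/-- The map `g • a ↦ g • n⁻¹ • a`. -/
noncomputable def F (n : G) (x : α) : α := γ G a x • n⁻¹ • a

theorem F_smul (n : G) (hn : n ∈ normalizer ((stabilizer G a : Subgroup G) : Set G)) (g : G) :
    F G a n (g • a) = g • n⁻¹ • a := by
  unfold F
  set g' := γ G a (g • a) with hg'
  have h1 : g' • a = g • a := γ_spec G a (g • a)
  have h2 : g⁻¹ * g' ∈ stabilizer G a := by
    rw [mem_stabilizer_iff, mul_smul, h1, inv_smul_smul]
  have h3 : n * (g⁻¹ * g') * n⁻¹ ∈ stabilizer G a := (mem_normalizer_iff.mp hn _).mp h2
  rw [mem_stabilizer_iff] at h3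
  calc g' • n⁻¹ • a = (g * n⁻¹ * (n * (g⁻¹ * g') * n⁻¹)) • a := by
        rw [← mul_smul]; congr 1; group
    _ = g • n⁻¹ • a := by rw [mul_smul, h3, mul_smul]

theorem F_one (x : α) : F G a 1 x = x := by
  unfold F; rw [inv_one, one_smul]; exact γ_spec G a x

theorem F_mul (n m : G) (hn : n ∈ normalizer ((stabilizer G a : Subgroup G) : Set G)) (x : α) :
    F G a (n * m) x = F G a n (F G a m x) := by
  have h1 : F G a m x = (γ G a x * m⁻¹) • a := by unfold F; rw [mul_smul]
  rw [h1, F_smul G a n hn]
  unfold F
  rw [mul_inv_rev, mul_smul, mul_smul]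

/-- The permutation attached to an element of the normaliser. -/
noncomputable def perm (n : normalizer ((stabilizer G a : Subgroup G) : Set G)) :
    Equiv.Perm α where
  toFun := F G a n
  invFun := F G a (n : G)⁻¹
  left_inv x := by rw [← F_mul G a _ _ (inv_mem n.2), inv_mul_cancel, F_one]
  right_inv x := by rw [← F_mul G a _ _ n.2, mul_inv_cancel, F_one]

theorem perm_apply (n : normalizer ((stabilizer G a : Subgroup G) : Set G)) (x : α) :
    perm G a n x = F G a n x := rfl

/-- The homomorphism from the normaliser of the stabiliser to the symmetric group. -/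
noncomputable def hom : normalizer ((stabilizer G a : Subgroup G) : Set G) →* Equiv.Perm α where
  toFun := perm G a
  map_one' := by ext x; exact F_one G a x
  map_mul' n m := by ext x; exact F_mul G a n m n.2 x

theorem hom_apply (n : normalizer ((stabilizer G a : Subgroup G) : Set G)) (x : α) :
    hom G a n x = F G a n x := rfl

theorem hom_smul (n : normalizer ((stabilizer G a : Subgroup G) : Set G)) (g : G) :
    hom G a n (g • a) = g • (n : G)⁻¹ • a := F_smul G a n n.2 g

theorem hom_mem_centralizer (n : normalizer ((stabilizer G a : Subgroup G) : Set G)) :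
    hom G a n ∈ centralizer (G : Set (Equiv.Perm α)) := by
  rw [mem_centralizer_iff]
  intro g hg
  ext x
  show g (hom G a n x) = hom G a n (g x)
  have hx : x = γ G a x • a := (γ_spec G a x).symm
  have h1 : g x = ((⟨g, hg⟩ : G) * γ G a x) • a := by
    rw [mul_smul, ← hx]; rfl
  rw [h1, hom_smul, mul_smul]
  conv_lhs => rw [hx, hom_smul]
  rfl

/-- The homomorphism into the centraliser. -/
noncomputable def homC : normalizer ((stabilizer G a : Subgroup G) : Set G) →*
    centralizer (G : Set (Equiv.Perm α)) :=
  (hom G a).codRestrict _ (hom_mem_centralizer G a)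

theorem homC_coe (n : normalizer ((stabilizer G a : Subgroup G) : Set G)) :
    ((homC G a n : centralizer (G : Set (Equiv.Perm α))) : Equiv.Perm α) = hom G a n := rfl

theorem ker_homC : (homC G a).ker =
    (stabilizer G a).subgroupOf (normalizer ((stabilizer G a : Subgroup G) : Set G)) := by
  ext n
  rw [MonoidHom.mem_ker, mem_subgroupOf, mem_stabilizer_iff]
  constructor
  · intro h
    have h1 : hom G a n a = a := by
      rw [← homC_coe, h]; rfl
    have h2 := hom_smul G a n 1
    rw [one_smul, one_smul, h1] at h2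
    exact (inv_smul_eq_iff.mp h2.symm).symm
  · intro h
    apply Subtype.ext
    rw [homC_coe]
    ext x
    have hx : x = γ G a x • a := (γ_spec G a x).symm
    have h3 : (n : G)⁻¹ • a = a := by rw [inv_smul_eq_iff]; exact h.symm
    show hom G a n x = x
    conv_lhs => rw [hx, hom_smul, h3, ← hx]

variable [Finite α]

/-- An element `n` such that the stabiliser fixes `n⁻¹ • a` normalises the stabiliser. -/
theorem mem_normalizer_of_fixed (n : G)
    (h : ∀ k ∈ stabilizer G a, k • (n⁻¹ • a) = n⁻¹ • a) :
    n ∈ normalizer ((stabilizer G a : Subgroup G) : Set G) := by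
  apply mem_normalizer_fintype
  intro k hk
  show n * k * n⁻¹ ∈ stabilizer G a
  rw [mem_stabilizer_iff, mul_smul, mul_smul, h k hk, smul_inv_smul]

theorem homC_surjective : Function.Surjective (homC G a) := by
  intro c
  have hc := mem_centralizer_iff.mp c.2
  set n : G := (γ G a ((c : Equiv.Perm α) a))⁻¹ with hn
  have hna : n⁻¹ • a = (c : Equiv.Perm α) a := by
    rw [hn, inv_inv]; exact γ_spec G a _
  have hnN : n ∈ normalizer ((stabilizer G a : Subgroup G) : Set G) := by
    apply mem_normalizer_of_fixed
    intro k hk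
    rw [hna]
    have h1 : (k : Equiv.Perm α) * (c : Equiv.Perm α) = (c : Equiv.Perm α) * k := hc k k.2
    have h2 : (k : Equiv.Perm α) ((c : Equiv.Perm α) a) = (c : Equiv.Perm α) ((k : Equiv.Perm α) a) := by
      rw [← Equiv.Perm.mul_apply, h1, Equiv.Perm.mul_apply]
    have h3 : (k : Equiv.Perm α) a = a := mem_stabilizer_iff.mp hk
    rw [h3] at h2
    exact h2
  refine ⟨⟨n, hnN⟩, ?_⟩
  apply Subtype.ext
  rw [homC_coe]
  ext x
  have hx : x = γ G a x • a := (γ_spec G a x).symm
  conv_lhs => rw [hx, hom_smul]
  show (γ G a x) • n⁻¹ • a = (c : Equiv.Perm α) x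
  rw [hna]
  have h1 : ((γ G a x : G) : Equiv.Perm α) * (c : Equiv.Perm α) =
      (c : Equiv.Perm α) * (γ G a x : G) := hc _ (γ G a x).2
  have h2 : ((γ G a x : G) : Equiv.Perm α) ((c : Equiv.Perm α) a) =
      (c : Equiv.Perm α) (((γ G a x : G) : Equiv.Perm α) a) := by
    rw [← Equiv.Perm.mul_apply, h1, Equiv.Perm.mul_apply]
  have h3 : ((γ G a x : G) : Equiv.Perm α) a = x := γ_spec G a x
  rw [h3] at h2
  exact h2

/-- The centraliser is isomorphic to the normaliser quotient. -/
noncomputable def iso : centralizer (G : Set (Equiv.Perm α)) ≃*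
    normalizer ((stabilizer G a : Subgroup G) : Set G) ⧸
      (stabilizer G a).subgroupOf (normalizer ((stabilizer G a : Subgroup G) : Set G)) :=
  ((QuotientGroup.quotientMulEquivOfEq (ker_homC G a).symm).trans
    (QuotientGroup.quotientKerEquivOfSurjective (homC G a) (homC_surjective G a))).symm

theorem orbit_centralizer : orbit (centralizer (G : Set (Equiv.Perm α))) a =
    fixedPoints (stabilizer G a) α := by
  ext x
  rw [mem_fixedPoints]
  constructor
  · rintro ⟨c, rfl⟩ k
    have hc := mem_centralizer_iff.mp c.2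
    have h1 : ((k : G) : Equiv.Perm α) * (c : Equiv.Perm α) = (c : Equiv.Perm α) * (k : G) :=
      hc _ (k : G).2
    have h2 : ((k : G) : Equiv.Perm α) ((c : Equiv.Perm α) a) =
        (c : Equiv.Perm α) (((k : G) : Equiv.Perm α) a) := by
      rw [← Equiv.Perm.mul_apply, h1, Equiv.Perm.mul_apply]
    have h3 : ((k : G) : Equiv.Perm α) a = a := mem_stabilizer_iff.mp k.2
    rw [h3] at h2
    exact h2
  · intro hx
    set n : G := (γ G a x)⁻¹ with hn
    have hna : n⁻¹ • a = x := by
      rw [hn, inv_inv]; exact γ_spec G a _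
    have hnN : n ∈ normalizer ((stabilizer G a : Subgroup G) : Set G) := by
      apply mem_normalizer_of_fixed
      intro k hk
      rw [hna]
      exact hx ⟨k, hk⟩
    refine ⟨homC G a ⟨n, hnN⟩, ?_⟩
    show hom G a ⟨n, hnN⟩ a = x
    have h2 := hom_smul G a ⟨n, hnN⟩ 1
    rw [one_smul, one_smul] at h2
    rw [h2]
    exact hna

end Cfsg.Agent.Helper2.TransCent
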