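import Mathlib
import Cfsg.Agent.Helper2.TransC
import Cfsg.Agent.Helper2.SigTrans

set_option autoImplicit false

/-! Thompson transitivity: the main induction. -/

namespace Cfsg.Agent.Helper2.Trans

open Cfsg.Agent.Helper1 Cfsg.Agent.Helper2 Cfsg.Agent.Helper2.SigTrans
open scoped Pointwise

variable {G : Type*} [Group G]

/-- `E`-invariant `q`-subgroups. -/
def IsInvQ (E : Subgroup G) (q : ℕ) (Q : Subgroup G) : Prop :=
  IsPGroup q Q ∧ E ≤ Subgroup.normalizer (Q : Set G)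

/-- Maximal `E`-invariant `q`-subgroups. -/
def IsMaxInvQ (E : Subgroup G) (q : ℕ) (Q : Subgroup G) : Prop :=
  IsInvQ E q Q ∧ ∀ R : Subgroup G, IsInvQ E q R → Q ≤ R → R = Q

theorem exists_max_ge [Finite G] {E : Subgroup G} {q : ℕ} {T : Subgroup G} (hT : IsInvQ E q T) :
    ∃ R : Subgroup G, IsMaxInvQ E q R ∧ T ≤ R := by
  obtain ⟨R, hTR, hR⟩ := (Set.toFinite {R : Subgroup G | IsInvQ E q R}).exists_le_maximal hT
  refine ⟨R, ⟨hR.prop, ?_⟩, hTR⟩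
  intro R' hR' hle
  exact le_antisymm (hR.le_of_ge hR' hle) hle

theorem isInvQ_cj {E : Subgroup G} {q : ℕ} {Q : Subgroup G} (hQ : IsInvQ E q Q) {c : G}
    (hc : c ∈ Subgroup.centralizer (E : Set G)) : IsInvQ E q (cj c Q) := by
  refine ⟨isPGroup_cj hQ.1 c, ?_⟩
  apply le_normalizer_of_conj_mem
  intro e he y hy
  rw [mem_cj_iff] at hy ⊢
  have hce : e * c = c * e := Subgroup.mem_centralizer_iff.mp hc e he
  have hce' : c⁻¹ * e = e * c⁻¹ := by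
    rw [inv_mul_eq_iff_eq_mul, ← mul_assoc, ← hce, mul_assoc, mul_inv_cancel, mul_one]
  have := conj_mem_of_le_normalizer hQ.2 e he _ hy
  have e1 : c⁻¹ * (e * y * e⁻¹) * c = e * (c⁻¹ * y * c) * e⁻¹ := by
    have hce'' : e⁻¹ * c = c * e⁻¹ := by
      rw [inv_mul_eq_iff_eq_mul, ← mul_assoc, hce, mul_assoc, mul_inv_cancel, mul_one]
    calc c⁻¹ * (e * y * e⁻¹) * c = (c⁻¹ * e) * y * (e⁻¹ * c) := by group
      _ = (e * c⁻¹) * y * (c * e⁻¹) := by rw [hce', hce'']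
      _ = e * (c⁻¹ * y * c) * e⁻¹ := by group
  rw [e1]
  exact this

theorem isMaxInvQ_cj {E : Subgroup G} {q : ℕ} {Q : Subgroup G} (hQ : IsMaxInvQ E q Q) {c : G}
    (hc : c ∈ Subgroup.centralizer (E : Set G)) : IsMaxInvQ E q (cj c Q) := by
  refine ⟨isInvQ_cj hQ.1 hc, ?_⟩
  intro R hR hle
  have hc' : c⁻¹ ∈ Subgroup.centralizer (E : Set G) := Subgroup.inv_mem _ hc
  have h1 : Q ≤ cj c⁻¹ R := by
    have := cj_mono hle c⁻¹
    rwa [cj_cj, inv_mul_cancel, cj_one] at this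
  have h2 := hQ.2 (cj c⁻¹ R) (isInvQ_cj hR hc') h1
  rw [← h2, cj_cj, mul_inv_cancel, cj_one]

theorem inv_centralizer' {E : Subgroup G} (hE : ∀ x ∈ E, ∀ y ∈ E, x * y = y * x) {a : G}
    (ha : a ∈ E) : ∀ b ∈ E, ∀ u ∈ Subgroup.centralizer ({a} : Set G),
      b * u * b⁻¹ ∈ Subgroup.centralizer ({a} : Set G) := by
  intro b hb u hu
  have hbC : b ∈ Subgroup.centralizer ({a} : Set G) := le_centralizer_singleton hE ha hb
  exact Subgroup.mul_mem _ (Subgroup.mul_mem _ hbC hu) (Subgroup.inv_mem _ hbC)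

theorem piCoreOf_le (π : Set ℕ) (X : Subgroup G) : Cfsg.piCoreOf π X ≤ X := by
  unfold Cfsg.piCoreOf
  exact Subgroup.map_subtype_le _

theorem transitivity_aux [Finite G] (p : ℕ) [hp : Fact p.Prime]
    (hloc : ∀ T : Subgroup G, IsPGroup p T → T ≠ ⊥ →
      Cfsg.IsPConstrained p ↥(Subgroup.normalizer (T : Set G)))
    (hcl : p = 2 → Cl2 p G) (E : Subgroup G) (hEp : IsPGroup p E)
    (hE : ∀ x ∈ E, ∀ y ∈ E, x * y = y * x) (hE3 : ¬ Cfsg.PRankLE p 2 E)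
    (hEfull : ∀ x ∈ Subgroup.centralizer (E : Set G), IsPGroup p (Subgroup.zpowers x) → x ∈ E)
    (q : ℕ) [hq : Fact q.Prime] (hqp : q ≠ p) :
    ∀ (m : ℕ) (Q₁ Q₂ : Subgroup G), IsMaxInvQ E q Q₁ → IsMaxInvQ E q Q₂ →
      Nat.card G - Nat.card ↥(Q₁ ⊓ Q₂) = m →
      ∃ c ∈ Cfsg.piCoreOf (Cfsg.primesNotDvd p) (Subgroup.centralizer (E : Set G)),
        cj c Q₁ = Q₂ := by
  intro m
  induction m using Nat.strong_induction_on with
  | _ m ih =>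
  intro Q₁ Q₂ hQ₁ hQ₂ hm
  set K := Cfsg.piCoreOf (Cfsg.primesNotDvd p) (Subgroup.centralizer (E : Set G)) with hK
  have hKC : K ≤ Subgroup.centralizer (E : Set G) := piCoreOf_le _ _
  by_cases heq : Q₁ = Q₂
  · exact ⟨1, Subgroup.one_mem _, by rw [cj_one, heq]⟩
  set A := omega p E hE with hAdef
  have hA : Cfsg.IsElementaryAbelian p A := omega_elementary p E hE
  have hA3 : p ^ 3 ≤ Nat.card ↥A := card_omega p E hE hE3
  have hAE : A ≤ E := omega_le p E hE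
  set D := Q₁ ⊓ Q₂ with hD
  have hD₁ : D < Q₁ := by
    refine lt_of_le_of_ne inf_le_left (fun h => heq ?_)
    have hle : Q₁ ≤ Q₂ := by rw [← h]; exact inf_le_right
    exact (hQ₁.2 Q₂ hQ₂.1 hle).symm
  have hD₂ : D < Q₂ := by
    refine lt_of_le_of_ne inf_le_right (fun h => heq ?_)
    have hle : Q₂ ≤ Q₁ := by rw [← h]; exact inf_le_left
    exact hQ₂.2 Q₁ hQ₁.1 hle
  have hQ₁inv := conj_mem_of_le_normalizer hQ₁.1.2
  have hQ₂inv := conj_mem_of_le_normalizer hQ₂.1.2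
  have hDinv : ∀ b ∈ E, ∀ u ∈ D, b * u * b⁻¹ ∈ D := inv_inf hQ₁inv hQ₂inv
  have hNDinv := inv_normalizer hDinv
  have hpq : ∀ Q : Subgroup G, IsPGroup q Q → ¬ p ∣ Nat.card Q := by
    intro Q hQ hdvd
    obtain ⟨k, hk⟩ := IsPGroup.iff_card.mp hQ
    rw [hk] at hdvd
    exact hqp ((Nat.prime_dvd_prime_iff_eq hp.out hq.out).mp (hp.out.dvd_of_dvd_pow hdvd)).symm
  -- normalizers grow
  have hN₁ : ¬ (Q₁ ⊓ Subgroup.normalizer (D : Set G) ≤ D) := by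
    obtain ⟨x, hxQ, hxN, hxD⟩ := Cfsg.Agent.Helper4.exists_mem_normalizer_not_mem Q₁ hQ₁.1.1 D hD₁
    exact fun h => hxD (h (Subgroup.mem_inf.mpr ⟨hxQ, hxN⟩))
  have hN₂ : ¬ (Q₂ ⊓ Subgroup.normalizer (D : Set G) ≤ D) := by
    obtain ⟨x, hxQ, hxN, hxD⟩ := Cfsg.Agent.Helper4.exists_mem_normalizer_not_mem Q₂ hQ₂.1.1 D hD₂
    exact fun h => hxD (h (Subgroup.mem_inf.mpr ⟨hxQ, hxN⟩))
  have hN₁p : ¬ p ∣ Nat.card ↥(Q₁ ⊓ Subgroup.normalizer (D : Set G)) :=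
    hpq _ (hQ₁.1.1.to_le inf_le_left)
  have hN₂p : ¬ p ∣ Nat.card ↥(Q₂ ⊓ Subgroup.normalizer (D : Set G)) :=
    hpq _ (hQ₂.1.1.to_le inf_le_left)
  have hN₁inv := inv_inf hQ₁inv hNDinv
  have hN₂inv := inv_inf hQ₂inv hNDinv
  obtain ⟨a, haA, ha1, hna₁, hna₂⟩ := exists_elt_not_le hA hA3 hN₁p hN₂p
    (hAE.trans (le_normalizer_of_conj_mem hN₁inv)) (hAE.trans (le_normalizer_of_conj_mem hN₂inv))
    hN₁ hN₂
  have haE : a ∈ E := hAE haA
  have hCinv := inv_centralizer' hE haE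
  have hzp : IsPGroup p (Subgroup.zpowers a) := hEp.to_le (Subgroup.zpowers_le.mpr haE)
  have hzne : Subgroup.zpowers a ≠ ⊥ := by
    intro h
    exact ha1 (Subgroup.zpowers_eq_bot.mp h)
  have hc := hloc _ hzp hzne
  have hLinv := conj_mem_of_le_normalizer (L_inv p hE haE)
  -- the group X = D H
  set H := L p a ⊓ Subgroup.normalizer (D : Set G) with hH
  have hHinv := inv_inf hLinv hNDinv
  set X := D ⊔ H with hX
  have hXinv := inv_sup hDinv hHinv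
  have hEX : E ≤ Subgroup.normalizer (X : Set G) := le_normalizer_of_conj_mem hXinv
  have hXp : ¬ p ∣ Nat.card X := by
    intro hdvd
    have h1 := card_sup_dvd_of_le_normalizer (X := D) (Y := H) inf_le_right
    have h2 := hdvd.trans h1
    rcases (Nat.Prime.dvd_mul hp.out).mp h2 with h3 | h3
    · exact hpq D (hQ₁.1.1.to_le inf_le_left) h3
    · exact L_card p a (h3.trans (Subgroup.card_dvd_of_le inf_le_left))
  have hcop : (Nat.card E).Coprime (Nat.card X) := by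
    obtain ⟨k, hk⟩ := IsPGroup.iff_card.mp hEp
    rw [hk]
    exact Nat.Coprime.pow_left k ((Nat.Prime.coprime_iff_not_dvd hp.out).mpr hXp)
  have hEsolv : Group.IsSolvable E := isSolvable_of_isPGroup hEp
  -- the subgroups T_i
  have key : ∀ Q : Subgroup G, IsMaxInvQ E q Q → D ≤ Q →
      ¬ (Q ⊓ Subgroup.normalizer (D : Set G) ⊓ Subgroup.centralizer ({a} : Set G) ≤ D) →
      ∃ T : Subgroup G, T ≤ X ∧ IsPGroup q T ∧ (∀ b ∈ E, ∀ u ∈ T, b * u * b⁻¹ ∈ T) ∧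
        (∃ P : Sylow q X, (P : Subgroup X).map X.subtype = T) ∧
        D < T ⊓ Q := by
    intro Q hQ hDQ hna
    set K' := Q ⊓ Subgroup.normalizer (D : Set G) ⊓ Subgroup.centralizer ({a} : Set G) with hK'
    have hKinv := inv_inf (inv_inf (conj_mem_of_le_normalizer hQ.1.2) hNDinv) hCinv
    have hK'q : IsPGroup q K' := hQ.1.1.to_le (inf_le_left.trans inf_le_left)
    have hKH : K' ≤ H := by
      refine le_inf ?_ (inf_le_left.trans inf_le_right)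
      exact le_L p hcl E hEp hE hEfull haE hc K' inf_le_right (hpq _ hK'q)
        (le_normalizer_of_conj_mem hKinv)
    have hMX : D ⊔ K' ≤ X := sup_le_sup_left hKH D
    have hMQ : D ⊔ K' ≤ Q := sup_le hDQ (inf_le_left.trans inf_le_left)
    have hMq : IsPGroup q ↥(D ⊔ K') := hQ.1.1.to_le hMQ
    have hMinv := inv_sup hDinv hKinv
    obtain ⟨P, hMP, hPA⟩ := exists_invariant_sylow_ge E X hEX hcop (Or.inl hEsolv) (D ⊔ K') hMX
      hMq (le_normalizer_of_conj_mem hMinv)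
    refine ⟨(P : Subgroup X).map X.subtype, Subgroup.map_subtype_le _, ?_,
      conj_mem_of_le_normalizer hPA, ⟨P, rfl⟩, ?_⟩
    · exact P.2.map _
    · refine lt_of_le_of_ne (le_inf (le_sup_left.trans hMP) hDQ) ?_
      intro hcon
      apply hna
      have : K' ≤ (P : Subgroup X).map X.subtype ⊓ Q :=
        le_inf (le_sup_right.trans hMP) (inf_le_left.trans inf_le_left)
      rw [← hcon] at this
      exact this
  obtain ⟨T₁, hT₁X, hT₁q, hT₁inv, ⟨P₁, hP₁⟩, hT₁D⟩ := key Q₁ hQ₁ inf_le_left hna₁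
  obtain ⟨T₂, hT₂X, hT₂q, hT₂inv, ⟨P₂, hP₂⟩, hT₂D⟩ := key Q₂ hQ₂ inf_le_right hna₂
  -- conjugate T₁ to T₂ inside X by an element of C_X(E)
  obtain ⟨k, hk, hk'⟩ := exists_conj_sylow_map X P₁ P₂
  rw [hP₁, hP₂] at hk'
  obtain ⟨c, hc2, hc'⟩ := glauberman_conj_subgroup E X hEX hcop (Or.inl hEsolv) T₁ T₂
    (fun b hb => conj_smul_eq_of_mem_normalizer (le_normalizer_of_conj_mem hT₁inv hb))
    (fun b hb => conj_smul_eq_of_mem_normalizer (le_normalizer_of_conj_mem hT₂inv hb)) k hk hk'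
  have hcK : c ∈ K := by
    have hUp : (Nat.card ↥(X ⊓ Subgroup.centralizer (E : Set G))).Coprime p := by
      apply Nat.Coprime.coprime_dvd_left (Subgroup.card_dvd_of_le (inf_le_left : _ ≤ X))
      exact ((Nat.Prime.coprime_iff_not_dvd hp.out).mpr hXp).symm
    exact le_piCoreOf_centralizer p E hEp hE hEfull _ inf_le_right hUp hc2
  have hcC : c ∈ Subgroup.centralizer (E : Set G) := hKC hcK
  have hcT : cj c T₁ = T₂ := hc'
  -- maximal R₁ above T₁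
  obtain ⟨R₁, hR₁, hT₁R₁⟩ := exists_max_ge (E := E) (q := q) (T := T₁)
    ⟨hT₁q, le_normalizer_of_conj_mem hT₁inv⟩
  have hR₂ : IsMaxInvQ E q (cj c R₁) := isMaxInvQ_cj hR₁ hcC
  have hcardG : ∀ S : Subgroup G, Nat.card S ≤ Nat.card G := fun S => Subgroup.card_le_card_group S
  -- Q₁ ~ R₁
  have h1 : ∃ c₁ ∈ K, cj c₁ Q₁ = R₁ := by
    have hlt : Nat.card D < Nat.card ↥(Q₁ ⊓ R₁) := by
      have hle : T₁ ⊓ Q₁ ≤ Q₁ ⊓ R₁ := le_inf inf_le_right (inf_le_left.trans hT₁R₁)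
      exact lt_of_lt_of_le (card_lt_card_of_lt hT₁D) (Subgroup.card_le_of_le hle)
    have := hcardG (Q₁ ⊓ R₁)
    exact ih (Nat.card G - Nat.card ↥(Q₁ ⊓ R₁)) (by omega) Q₁ R₁ hQ₁ hR₁ rfl
  -- cj c R₁ ~ Q₂
  have h2 : ∃ c₂ ∈ K, cj c₂ (cj c R₁) = Q₂ := by
    have hlt : Nat.card D < Nat.card ↥(cj c R₁ ⊓ Q₂) := by
      have hle : T₂ ⊓ Q₂ ≤ cj c R₁ ⊓ Q₂ := by
        refine le_inf (inf_le_left.trans ?_) inf_le_right
        rw [← hcT]
        exact cj_mono hT₁R₁ c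
      exact lt_of_lt_of_le (card_lt_card_of_lt hT₂D) (Subgroup.card_le_of_le hle)
    have := hcardG (cj c R₁ ⊓ Q₂)
    exact ih (Nat.card G - Nat.card ↥(cj c R₁ ⊓ Q₂)) (by omega) (cj c R₁) Q₂ hR₂ hQ₂ rfl
  obtain ⟨c₁, hc₁, hc₁'⟩ := h1
  obtain ⟨c₂, hc₂, hc₂'⟩ := h2
  refine ⟨c₂ * (c * c₁), Subgroup.mul_mem _ hc₂ (Subgroup.mul_mem _ hcK hc₁), ?_⟩
  rw [← cj_cj, ← cj_cj, hc₁', hc₂']

end Cfsg.Agent.Helper2.Trans
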