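import Mathlib

set_option autoImplicit false

/-!
# Doubly transitive groups of degree `n ≡ 2 (mod 4)`: auxiliary lemmas (helper2)

General plumbing (orbit–stabilizer in ambient form, Sylow conjugacy in ambient form) and the
"sign lemma": a normal transitive subgroup `Y` of a 2-transitive group `X` on `F` whose
point stabilizers are "odd modulo a trivially acting 2-group `Q`" and with `|Y|_2 ≤ 2 |Q|`
forces `|F| ≤ 2`.
-/

namespace Cfsg.Agent.Helper2.TT24

open MulAction

section Basic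
variable {X : Type*} [Group X] {F : Type*} [MulAction X F]

theorem stabilizer_subgroup_eq (K : Subgroup X) (c : F) :
    stabilizer K c = (stabilizer X c).subgroupOf K := by
  ext g
  simp [mem_stabilizer_iff, Subgroup.mem_subgroupOf, Subgroup.smul_def]

theorem card_subgroupOf_eq_card_inf (H K : Subgroup X) :
    Nat.card (H.subgroupOf K) = Nat.card (K ⊓ H : Subgroup X) := by
  rw [← Subgroup.inf_subgroupOf_left]
  exact Nat.card_congr (Subgroup.subgroupOfEquivOfLe inf_le_left).toEquiv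

theorem card_eq_card_mul_card_stab [Finite X] [Finite F] (K : Subgroup X) (c : F)
    (h : ∀ y : F, ∃ g ∈ K, g • c = y) :
    Nat.card K = Nat.card F * Nat.card (K ⊓ stabilizer X c : Subgroup X) := by
  have h1 : (stabilizer K c).index = Nat.card F := by
    rw [index_stabilizer]
    have : orbit K c = Set.univ := by
      ext y
      simp only [Set.mem_univ, iff_true]
      obtain ⟨g, hg, hgy⟩ := h y
      exact ⟨⟨g, hg⟩, hgy⟩
    rw [this, Set.ncard_univ]
  have h2 := Subgroup.card_mul_index (stabilizer K c)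
  rw [h1, stabilizer_subgroup_eq, card_subgroupOf_eq_card_inf] at h2
  rw [← h2, mul_comm]

end Basic

theorem exists_conj_of_card {G : Type*} [Group G] [Finite G] (p : ℕ) [Fact p.Prime]
    (H Q Q' : Subgroup G) (k : ℕ)
    (hQ : Q ≤ H) (hQ' : Q' ≤ H) (hc : Nat.card Q = p ^ k) (hc' : Nat.card Q' = p ^ k)
    (hk : ¬ p ^ (k + 1) ∣ Nat.card H) :
    ∃ h ∈ H, ∀ x, x ∈ Q' ↔ h⁻¹ * x * h ∈ Q := by
  have hp : p.Prime := Fact.out
  have hpos : Nat.card H ≠ 0 := Nat.card_pos.ne'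
  have hfac : (Nat.card H).factorization p = k := by
    have h1 : p ^ k ∣ Nat.card H := by rw [← hc]; exact Subgroup.card_dvd_of_le hQ
    have h2 : k ≤ (Nat.card H).factorization p :=
      (hp.pow_dvd_iff_le_factorization hpos).mp h1
    have h3 : ¬ (k + 1 ≤ (Nat.card H).factorization p) := fun h =>
      hk ((hp.pow_dvd_iff_le_factorization hpos).mpr h)
    omega
  have e1 : Nat.card (Q.subgroupOf H) = p ^ (Nat.card H).factorization p := by
    rw [card_subgroupOf_eq_card_inf, inf_eq_right.mpr hQ, hc, hfac]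
  have e2 : Nat.card (Q'.subgroupOf H) = p ^ (Nat.card H).factorization p := by
    rw [card_subgroupOf_eq_card_inf, inf_eq_right.mpr hQ', hc', hfac]
  let P : Sylow p H := Sylow.ofCard (Q.subgroupOf H) e1
  let P' : Sylow p H := Sylow.ofCard (Q'.subgroupOf H) e2
  obtain ⟨h, hh⟩ := MulAction.exists_smul_eq H P P'
  refine ⟨h, h.2, fun x => ?_⟩
  have hmem : ∀ y : H, y ∈ P' ↔ h⁻¹ * y * h ∈ P := by
    intro y
    have h0 : y ∈ P' ↔ y ∈ ((h • P : Sylow p H) : Subgroup H) := by rw [hh]; rfl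
    rw [h0, Sylow.coe_subgroup_smul, Subgroup.mem_pointwise_smul_iff_inv_smul_mem]
    simp only [MulAut.smul_def, ← map_inv, MulAut.conj_apply, inv_inv]
    rfl
  constructor
  · intro hx
    have := (hmem ⟨x, hQ' hx⟩).mp (by
      show (⟨x, hQ' hx⟩ : H) ∈ Q'.subgroupOf H
      rw [Subgroup.mem_subgroupOf]; exact hx)
    have h3 : (h⁻¹ * ⟨x, hQ' hx⟩ * h : H) ∈ Q.subgroupOf H := this
    rw [Subgroup.mem_subgroupOf] at h3
    simpa using h3
  · intro hx
    have hxH : x ∈ H := by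
      have : h⁻¹.1 * x * h.1 ∈ H := hQ (by simpa using hx)
      have h5 : x = h.1 * (h⁻¹.1 * x * h.1) * h.1⁻¹ := by simp; group
      rw [h5]
      exact H.mul_mem (H.mul_mem h.2 this) (H.inv_mem h.2)
    have := (hmem ⟨x, hxH⟩).mpr (by
      show (h⁻¹ * ⟨x, hxH⟩ * h : H) ∈ Q.subgroupOf H
      rw [Subgroup.mem_subgroupOf]; simpa using hx)
    have h3 : (⟨x, hxH⟩ : H) ∈ Q'.subgroupOf H := this
    rw [Subgroup.mem_subgroupOf] at h3
    exact h3

/-- The sign lemma. -/
theorem card_le_two_of_sign {X : Type*} [Group X] [Finite X] {F : Type*} [Finite F]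
    [MulAction X F]
    (Y Q : Subgroup X) [hYn : Y.Normal] (hQY : Q ≤ Y) (k : ℕ)
    (h2 : ∀ x y x' y' : F, x ≠ y → x' ≠ y' → ∃ g : X, g • x = x' ∧ g • y = y')
    (hY : ∀ x y : F, ∃ g ∈ Y, g • x = y)
    (hQ : ∀ q ∈ Q, ∀ x : F, q • x = x)
    (hQc : Nat.card Q = 2 ^ k)
    (hY2 : ¬ 2 ^ (k + 2) ∣ Nat.card Y)
    (hst : ∀ c : F, ∀ T : Subgroup X, T ≤ Y → (∀ t ∈ T, t • c = c) → Nat.card T ≠ 2 ^ (k + 1))
    (heven : Even (Nat.card F)) : Nat.card F ≤ 2 := by
  classical
  cases nonempty_fintype F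
  rcases isEmpty_or_nonempty F with hF | ⟨⟨c₀⟩⟩
  · simp
  have : Fact (Nat.Prime 2) := ⟨Nat.prime_two⟩
  have hYcard := card_eq_card_mul_card_stab Y c₀ (fun y => hY c₀ y)
  have hQst : Q ≤ Y ⊓ stabilizer X c₀ :=
    le_inf hQY (fun q hq => by rw [mem_stabilizer_iff]; exact hQ q hq c₀)
  have hdvd : 2 ^ k ∣ Nat.card (Y ⊓ stabilizer X c₀ : Subgroup X) := by
    rw [← hQc]; exact Subgroup.card_dvd_of_le hQst
  have h2Y : 2 ^ (k + 1) ∣ Nat.card Y := by
    rw [hYcard, pow_succ, mul_comm (2 ^ k) 2]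
    exact Nat.mul_dvd_mul heven.two_dvd hdvd
  -- `|F| / 2` is odd
  have hFodd : Odd (Fintype.card F / 2) := by
    rw [← Nat.card_eq_fintype_card]
    obtain ⟨u, hu⟩ := heven
    rcases Nat.even_or_odd u with ⟨v, hv⟩ | hodd
    · exfalso
      apply hY2
      rw [hYcard, hu, hv, show k + 2 = 2 + k by ring, pow_add]
      exact Nat.mul_dvd_mul ⟨v, by ring⟩ hdvd
    · rw [hu, show u + u = 2 * u by ring, Nat.mul_div_cancel_left _ (by norm_num : 0 < 2)]
      exact hodd
  -- the Sylow 2-subgroup `T`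
  obtain ⟨T, hQT, hTY, hTc⟩ : ∃ T : Subgroup X, Q ≤ T ∧ T ≤ Y ∧ Nat.card T = 2 ^ (k + 1) := by
    have e1 : Nat.card (Q.subgroupOf Y) = 2 ^ k := by
      rw [card_subgroupOf_eq_card_inf, inf_eq_right.mpr hQY, hQc]
    obtain ⟨K, hK, hQK⟩ :=
      Sylow.exists_subgroup_card_pow_succ (p := 2) (G := Y) (n := k) h2Y e1
    refine ⟨K.map Y.subtype, ?_, Subgroup.map_subtype_le K, ?_⟩
    · intro q hq
      exact ⟨⟨q, hQY hq⟩, hQK (by rw [Subgroup.mem_subgroupOf]; exact hq), rfl⟩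
    · rw [← hK]
      exact (Nat.card_congr (K.equivMapOfInjective Y.subtype Y.subtype_injective).toEquiv).symm
  obtain ⟨t, htT, htQ⟩ : ∃ t ∈ T, t ∉ Q := by
    by_contra hcon
    have h1 : T ≤ Q := fun x hx => by
      by_contra hxQ
      exact hcon ⟨x, hx, hxQ⟩
    have h3 := Subgroup.card_le_of_le h1
    rw [hTc, hQc] at h3
    have h4 : 2 ^ k < 2 ^ (k + 1) := Nat.pow_lt_pow_right (by norm_num) (by omega)
    omega
  have htY : t ∈ Y := hTY htT
  have htfix : ∀ c : F, t • c ≠ c := by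
    intro c hc
    have hQT' : Q ≤ T ⊓ stabilizer X c :=
      le_inf hQT (fun q hq => by rw [mem_stabilizer_iff]; exact hQ q hq c)
    have htT' : t ∈ T ⊓ stabilizer X c := Subgroup.mem_inf.mpr ⟨htT, mem_stabilizer_iff.mpr hc⟩
    have h1 : Nat.card (T ⊓ stabilizer X c : Subgroup X) ∣ 2 ^ (k + 1) := by
      rw [← hTc]; exact Subgroup.card_dvd_of_le inf_le_left
    obtain ⟨j, hj, hjc⟩ := (Nat.dvd_prime_pow Nat.prime_two).mp h1
    have h3 : 2 ^ k ∣ Nat.card (T ⊓ stabilizer X c : Subgroup X) := by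
      rw [← hQc]; exact Subgroup.card_dvd_of_le hQT'
    have h4 : k ≤ j := by
      rw [hjc] at h3; exact (Nat.pow_dvd_pow_iff_le_right (by norm_num)).mp h3
    have h5 : j ≠ k := by
      intro hjk
      have h6 : Q = T ⊓ stabilizer X c :=
        Subgroup.eq_of_le_of_card_ge hQT' (by rw [hjc, hQc, hjk])
      exact htQ (h6 ▸ htT')
    have h6 : j = k + 1 := by omega
    exact hst c (T ⊓ stabilizer X c) (inf_le_left.trans hTY)
      (fun s hs => mem_stabilizer_iff.mp (Subgroup.mem_inf.mp hs).2)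
      (by rw [hjc, h6])
  have httQ : t * t ∈ Q := by
    have hidx : (Q.subgroupOf T).index = 2 := by
      have h1 := Subgroup.card_mul_index (Q.subgroupOf T)
      rw [card_subgroupOf_eq_card_inf, inf_eq_right.mpr hQT, hQc, hTc, pow_succ] at h1
      exact Nat.eq_of_mul_eq_mul_left (by positivity) h1
    have h3 := Subgroup.mul_self_mem_of_index_two hidx ⟨t, htT⟩
    rw [Subgroup.mem_subgroupOf] at h3
    simpa using h3
  -- the sign homomorphism
  let ψ : X →* ℤˣ := Equiv.Perm.sign.comp (MulAction.toPermHom X F)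
  have hψt : ψ t = -1 := by
    have hσ : (MulAction.toPermHom X F t) ^ 2 = 1 := by
      ext c
      rw [pow_two, Equiv.Perm.mul_apply]
      simp only [MulAction.toPermHom_apply, MulAction.toPerm_apply, Equiv.Perm.coe_one, id_eq]
      rw [← mul_smul]
      exact hQ _ httQ c
    have hemp : IsEmpty (Function.fixedPoints (MulAction.toPermHom X F t)) := by
      constructor
      rintro ⟨c, hc⟩
      exact htfix c hc
    show Equiv.Perm.sign (MulAction.toPermHom X F t) = -1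
    have h0 : Fintype.card (Function.fixedPoints (MulAction.toPermHom X F t)) = 0 :=
      Fintype.card_eq_zero
    rw [Equiv.Perm.sign_of_pow_two_eq_one hσ, h0, Nat.sub_zero]
    exact hFodd.neg_one_pow
  have hψQ : ∀ q ∈ Q, ψ q = 1 := by
    intro q hq
    have h1 : MulAction.toPermHom X F q = 1 := by
      ext c
      simp only [MulAction.toPermHom_apply, MulAction.toPerm_apply, Equiv.Perm.coe_one, id_eq]
      exact hQ q hq c
    show Equiv.Perm.sign (MulAction.toPermHom X F q) = 1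
    rw [h1, map_one]
  -- the subgroup `K` of index two
  have hKn : (Y ⊓ ψ.ker).Normal := inferInstance
  have hQK : Q ≤ Y ⊓ ψ.ker := le_inf hQY (fun q hq => MonoidHom.mem_ker.mpr (hψQ q hq))
  have htK : t ∉ Y ⊓ ψ.ker := by
    intro h
    have h1 := MonoidHom.mem_ker.mp h.2
    rw [hψt] at h1
    exact absurd h1 (by decide)
  have hYK : ∀ y ∈ Y, y ∈ Y ⊓ ψ.ker ∨ y * t⁻¹ ∈ Y ⊓ ψ.ker := by
    intro y hy
    rcases Int.units_eq_one_or (ψ y) with h | h
    · left; exact ⟨hy, MonoidHom.mem_ker.mpr h⟩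
    · right
      refine ⟨Y.mul_mem hy (Y.inv_mem htY), MonoidHom.mem_ker.mpr ?_⟩
      rw [map_mul, map_inv, h, hψt]; decide
  have hidx2 : Nat.card Y = Nat.card (Y ⊓ ψ.ker : Subgroup X) * 2 := by
    have h1 : ((Y ⊓ ψ.ker).subgroupOf Y).index = 2 := by
      rw [← Subgroup.relIndex, Subgroup.relIndex_eq_two_iff]
      refine ⟨t⁻¹, Y.inv_mem htY, fun b hb => ?_⟩
      rcases hYK b hb with h | h
      · refine Or.inr ⟨h, fun h' => htK ?_⟩
        have := (Y ⊓ ψ.ker).mul_mem ((Y ⊓ ψ.ker).inv_mem h) h'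
        have h5 : t⁻¹ ∈ Y ⊓ ψ.ker := by simpa using this
        simpa using (Y ⊓ ψ.ker).inv_mem h5
      · refine Or.inl ⟨h, fun h' => htK ?_⟩
        have := (Y ⊓ ψ.ker).mul_mem ((Y ⊓ ψ.ker).inv_mem h') h
        have h5 : t⁻¹ ∈ Y ⊓ ψ.ker := by simpa using this
        simpa using (Y ⊓ ψ.ker).inv_mem h5
    have h3 := Subgroup.card_mul_index ((Y ⊓ ψ.ker).subgroupOf Y)
    rw [h1, card_subgroupOf_eq_card_inf, inf_eq_right.mpr inf_le_left] at h3
    exact h3.symm
  -- `K` acts trivially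
  have hKtriv : ∀ g ∈ Y ⊓ ψ.ker, ∀ x : F, g • x = x := by
    by_contra hcon
    obtain ⟨g₀, hg₀, x₀, hx₀⟩ : ∃ g₀ ∈ Y ⊓ ψ.ker, ∃ x₀ : F, g₀ • x₀ ≠ x₀ := by
      by_contra hcon2
      apply hcon
      intro g hg x
      by_contra hgx
      exact hcon2 ⟨g, hg, x, hgx⟩
    have hKtr : ∀ y : F, ∃ g ∈ Y ⊓ ψ.ker, g • c₀ = y := by
      intro y
      by_cases hy : c₀ = y
      · exact ⟨1, Subgroup.one_mem _, by rw [one_smul, hy]⟩
      · obtain ⟨g, hg1, hg2⟩ := h2 x₀ (g₀ • x₀) c₀ y (Ne.symm hx₀) hy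
        refine ⟨g * g₀ * g⁻¹, hKn.conj_mem g₀ hg₀ g, ?_⟩
        have h5 : g⁻¹ • c₀ = x₀ := by rw [← hg1, inv_smul_smul]
        rw [mul_smul, mul_smul, h5, hg2]
    have h1 := card_eq_card_mul_card_stab (Y ⊓ ψ.ker) c₀ hKtr
    have h3 : 2 ^ k ∣ Nat.card ((Y ⊓ ψ.ker) ⊓ stabilizer X c₀ : Subgroup X) := by
      rw [← hQc]
      exact Subgroup.card_dvd_of_le
        (le_inf hQK (fun q hq => by rw [mem_stabilizer_iff]; exact hQ q hq c₀))
    apply hY2
    rw [hidx2, h1, show k + 2 = (1 + k) + 1 by ring, pow_succ, pow_add, pow_one]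
    exact Nat.mul_dvd_mul (Nat.mul_dvd_mul heven.two_dvd h3) dvd_rfl
  -- conclusion
  have hall : ∀ c : F, c = c₀ ∨ c = t • c₀ := by
    intro c
    obtain ⟨y, hy, hyc⟩ := hY c₀ c
    rcases hYK y hy with h | h
    · left; rw [← hyc]; exact hKtriv y h c₀
    · right
      have h1 := hKtriv _ h (t • c₀)
      rw [← mul_smul, inv_mul_cancel_right] at h1
      rw [← hyc]; exact h1
  rw [Nat.card_eq_fintype_card, ← Finset.card_univ]
  have hsub : (Finset.univ : Finset F) ⊆ {c₀, t • c₀} := by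
    intro c _
    rcases hall c with h | h
    · rw [h]; exact Finset.mem_insert_self _ _
    · rw [h]; exact Finset.mem_insert_of_mem (Finset.mem_singleton_self _)
  exact (Finset.card_le_card hsub).trans Finset.card_le_two

end Cfsg.Agent.Helper2.TT24
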