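import Cfsg.Agent.Helper2.TwoTrans24A

set_option autoImplicit false

/-!
# Doubly transitive groups of degree `n ≡ 2 (mod 4)`: normal subgroups are 2-transitive (helper2)
-/

namespace Cfsg.Agent.Helper2.TT24

open MulAction

section Conj
variable {G : Type*} [Group G] [Finite G]

/-- Sylow conjugacy, in the form used below: if `Q ≤ H` is a Sylow `2`-subgroup of `H` and
`g Q g⁻¹ ≤ H`, then `h g` normalizes `Q` for some `h ∈ H`. -/
theorem exists_mul_mem_normalizer (H Q : Subgroup G) (k : ℕ) (g : G) (hQH : Q ≤ H)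
    (hc : Nat.card Q = 2 ^ k) (hk : ¬ 2 ^ (k + 1) ∣ Nat.card H)
    (hg : ∀ q ∈ Q, g * q * g⁻¹ ∈ H) :
    ∃ h ∈ H, h * g ∈ Subgroup.normalizer (Q : Set G) := by
  have : Fact (Nat.Prime 2) := ⟨Nat.prime_two⟩
  have hQg : Q.map (MulAut.conj g).toMonoidHom ≤ H := by
    rintro x ⟨q, hq, rfl⟩
    exact hg q hq
  have hcg : Nat.card (Q.map (MulAut.conj g).toMonoidHom) = 2 ^ k := by
    rw [← hc]
    exact (Nat.card_congr (Q.equivMapOfInjective (MulAut.conj g).toMonoidHom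
      (MulAut.conj g).injective).toEquiv).symm
  obtain ⟨h₀, hh₀, hconj⟩ := exists_conj_of_card 2 H Q (Q.map (MulAut.conj g).toMonoidHom) k
    hQH hQg hc hcg hk
  refine ⟨h₀⁻¹, H.inv_mem hh₀, ?_⟩
  rw [Subgroup.mem_normalizer_iff]
  intro z
  have hrew : h₀⁻¹ * g * z * (h₀⁻¹ * g)⁻¹ = h₀⁻¹ * (g * z * g⁻¹) * h₀ := by group
  rw [hrew, ← hconj]
  constructor
  · intro hz
    exact ⟨z, hz, rfl⟩
  · rintro ⟨q, hq, hqz⟩
    have : q = z := by
      have h1 : g * q * g⁻¹ = g * z * g⁻¹ := hqz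
      have h2 : q = g⁻¹ * (g * q * g⁻¹) * g := by group
      rw [h2, h1]; group
    exact this ▸ hq

end Conj

section Main
variable {G : Type*} [Group G] [Finite G] {Ω : Type*} [Finite Ω] [MulAction G Ω]

/-- The fixed points of `Q`, as a sub-action of the normalizer of `Q`. -/
def fixSub (Q : Subgroup G) (Ω : Type*) [MulAction G Ω] :
    SubMulAction (Subgroup.normalizer (Q : Set G)) Ω where
  carrier := {x | ∀ q ∈ Q, q • x = x}
  smul_mem' := by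
    rintro ⟨g, hg⟩ x hx q hq
    have h1 : g⁻¹ * q * g ∈ Q := (Subgroup.mem_normalizer_iff''.mp hg q).mp hq
    have h2 := hx _ h1
    show q • (g • x) = g • x
    calc q • g • x = g • ((g⁻¹ * q * g) • x) := by simp [mul_smul]
      _ = g • x := by rw [h2]

omit [Finite G] [Finite Ω] in
theorem mem_fixSub (Q : Subgroup G) (x : Ω) : x ∈ fixSub Q Ω ↔ ∀ q ∈ Q, q • x = x := Iff.rfl

/-- **Key lemma.** In a finite faithful doubly transitive group of degree `n ≡ 2 (mod 4)`,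
every non-trivial normal subgroup is doubly transitive. -/
theorem twoTr_of_normal [FaithfulSMul G Ω]
    (h2 : ∀ a b c d : Ω, a ≠ b → c ≠ d → ∃ g : G, g • a = c ∧ g • b = d)
    (hn : Nat.card Ω % 4 = 2)
    (M : Subgroup G) [hMn : M.Normal] (hM : M ≠ ⊥) :
    ∀ a b c d : Ω, a ≠ b → c ≠ d → ∃ g ∈ M, g • a = c ∧ g • b = d := by
  classical
  have hprime : Fact (Nat.Prime 2) := ⟨Nat.prime_two⟩
  -- Step 1: `M` is transitive
  have hMtr : ∀ x y : Ω, ∃ m ∈ M, m • x = y := by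
    obtain ⟨⟨m₀, hm₀⟩, hne⟩ := (Subgroup.ne_bot_iff_exists_ne_one).mp hM
    have hm₀1 : m₀ ≠ 1 := fun h => hne (Subtype.ext h)
    obtain ⟨x₀, hx₀⟩ : ∃ x₀ : Ω, m₀ • x₀ ≠ x₀ := by
      by_contra hcon
      apply hm₀1
      apply FaithfulSMul.eq_of_smul_eq_smul (α := Ω)
      intro x
      rw [one_smul]
      by_contra hx
      exact hcon ⟨x, hx⟩
    intro x y
    by_cases hxy : x = y
    · exact ⟨1, M.one_mem, by rw [one_smul, hxy]⟩
    · obtain ⟨g, hg1, hg2⟩ := h2 x₀ (m₀ • x₀) x y (Ne.symm hx₀) hxy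
      refine ⟨g * m₀ * g⁻¹, hMn.conj_mem m₀ hm₀ g, ?_⟩
      have h5 : g⁻¹ • x = x₀ := by rw [← hg1, inv_smul_smul]
      rw [mul_smul, mul_smul, h5, hg2]
  -- Step 2: the point `a`, the stabilizer `Ma`, its Sylow 2-subgroup `Q`
  have hcpos : 0 < Nat.card Ω := by omega
  obtain ⟨a⟩ : Nonempty Ω := (Nat.card_pos_iff.mp hcpos).1
  set Ma : Subgroup G := M ⊓ stabilizer G a with hMa
  set k := (Nat.card Ma).factorization 2 with hk
  have hMa2 : ¬ 2 ^ (k + 1) ∣ Nat.card Ma :=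
    Nat.pow_succ_factorization_not_dvd Nat.card_pos.ne' Nat.prime_two
  obtain ⟨Q, hQMa, hQc⟩ : ∃ Q : Subgroup G, Q ≤ Ma ∧ Nat.card Q = 2 ^ k := by
    obtain ⟨K, hK⟩ := Sylow.exists_subgroup_card_pow_prime (G := Ma) 2 (n := k)
      (Nat.ordProj_dvd _ _)
    refine ⟨K.map Ma.subtype, Subgroup.map_subtype_le K, ?_⟩
    rw [← hK]
    exact (Nat.card_congr (K.equivMapOfInjective _ Ma.subtype_injective).toEquiv).symm
  -- Step 3: orders
  have hcardM : ∀ x : Ω, Nat.card M = Nat.card Ω * Nat.card (M ⊓ stabilizer G x : Subgroup G) :=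
    fun x => card_eq_card_mul_card_stab M x (hMtr x)
  have hstab : ∀ x : Ω, Nat.card (M ⊓ stabilizer G x : Subgroup G) = Nat.card Ma := by
    intro x
    have h1 := hcardM x
    have h3 := hcardM a
    rw [h1] at h3
    exact Nat.eq_of_mul_eq_mul_left hcpos h3
  obtain ⟨u, hu, huodd⟩ : ∃ u, Nat.card Ω = 2 * u ∧ Odd u :=
    ⟨Nat.card Ω / 2, by omega, by rw [Nat.odd_iff]; omega⟩
  have hM2 : ¬ 2 ^ (k + 2) ∣ Nat.card M := by
    rw [hcardM a, hu]
    intro h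
    have h1 : 2 ^ (k + 1) ∣ u * Nat.card Ma := by
      have h0 : 2 ^ (k + 2) = 2 * 2 ^ (k + 1) := by ring
      rw [h0, mul_assoc] at h
      exact Nat.dvd_of_mul_dvd_mul_left (by norm_num) h
    have hcop : Nat.Coprime (2 ^ (k + 1)) u :=
      Nat.Coprime.pow_left _ (Nat.coprime_two_left.mpr huodd)
    exact hMa2 (hcop.dvd_of_dvd_mul_left h1)
  -- Step 4: the fixed points of `Q`
  have hQM : Q ≤ M := hQMa.trans inf_le_left
  have hQa : ∀ q ∈ Q, q • a = a := fun q hq => mem_stabilizer_iff.mp (hQMa hq).2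
  have haF : a ∈ fixSub Q Ω := hQa
  have hNMtr : ∀ x y : Ω, x ∈ fixSub Q Ω → y ∈ fixSub Q Ω →
      ∃ n ∈ Subgroup.normalizer (Q : Set G), n ∈ M ∧ n • x = y := by
    intro x y hx hy
    obtain ⟨m, hm, hmxy⟩ := hMtr x y
    obtain ⟨h, hh, hhn⟩ := exists_mul_mem_normalizer (M ⊓ stabilizer G y) Q k m
      (le_inf hQM (fun q hq => mem_stabilizer_iff.mpr (hy q hq))) hQc
      (by rw [hstab y]; exact hMa2)
      (fun q hq => Subgroup.mem_inf.mpr
        ⟨M.mul_mem (M.mul_mem hm (hQM hq)) (M.inv_mem hm), by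
          rw [mem_stabilizer_iff, mul_smul, mul_smul, ← hmxy, inv_smul_smul, hx q hq]⟩)
    refine ⟨h * m, hhn, M.mul_mem (Subgroup.mem_inf.mp hh).1 hm, ?_⟩
    rw [mul_smul, hmxy]
    exact mem_stabilizer_iff.mp (Subgroup.mem_inf.mp hh).2
  have hNa : ∀ c c' : Ω, c ∈ fixSub Q Ω → c' ∈ fixSub Q Ω → c ≠ a → c' ≠ a →
      ∃ n ∈ Subgroup.normalizer (Q : Set G), n • a = a ∧ n • c = c' := by
    intro c c' hc hc' hca hc'a
    obtain ⟨g, hga, hgc⟩ := h2 a c a c' (Ne.symm hca) (Ne.symm hc'a)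
    have hginv : g⁻¹ • a = a := inv_smul_eq_iff.mpr hga.symm
    obtain ⟨h, hh, hhn⟩ := exists_mul_mem_normalizer (Ma ⊓ stabilizer G c') Q k g
      (le_inf hQMa (fun q hq => mem_stabilizer_iff.mpr (hc' q hq))) hQc
      (fun hdiv => hMa2 (hdiv.trans (Subgroup.card_dvd_of_le inf_le_left)))
      (fun q hq => Subgroup.mem_inf.mpr ⟨Subgroup.mem_inf.mpr ⟨hMn.conj_mem q (hQM hq) g, by
          rw [mem_stabilizer_iff, mul_smul, mul_smul, hginv, hQa q hq, hga]⟩, by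
          rw [mem_stabilizer_iff, mul_smul, mul_smul, ← hgc, inv_smul_smul, hc q hq]⟩)
    refine ⟨h * g, hhn, ?_, ?_⟩
    · rw [mul_smul, hga]
      exact mem_stabilizer_iff.mp (Subgroup.mem_inf.mp (Subgroup.mem_inf.mp hh).1).2
    · rw [mul_smul, hgc]
      exact mem_stabilizer_iff.mp (Subgroup.mem_inf.mp hh).2
  have hFeven : Even (Nat.card (fixSub Q Ω)) := by
    have hQp : IsPGroup 2 Q := IsPGroup.of_card hQc
    have h1 := hQp.card_modEq_card_fixedPoints Ω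
    have heq : Nat.card (fixSub Q Ω) = Nat.card (fixedPoints Q Ω) := by
      apply Nat.card_congr
      apply Equiv.subtypeEquivRight
      intro x
      rw [mem_fixSub, mem_fixedPoints]
      constructor
      · intro h q; exact h q.1 q.2
      · intro h q hq; exact h ⟨q, hq⟩
    rw [heq, Nat.even_iff]
    have h3 : Nat.card Ω % 2 = Nat.card (fixedPoints Q Ω) % 2 := h1
    omega
  have hFcard : Nat.card (fixSub Q Ω) ≤ 2 := by
    apply card_le_two_of_sign (X := Subgroup.normalizer (Q : Set G)) (F := fixSub Q Ω)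
      (M.subgroupOf _) (Q.subgroupOf _) ?_ k ?_ ?_ ?_ ?_ ?_ ?_ hFeven
    · exact fun x hx => Subgroup.mem_subgroupOf.mpr (hQM (Subgroup.mem_subgroupOf.mp hx))
    · rintro ⟨x, hx⟩ ⟨y, hy⟩ ⟨x', hx'⟩ ⟨y', hy'⟩ hxy hxy'
      obtain ⟨n₁, hn₁N, hn₁M, hn₁⟩ := hNMtr x a hx haF
      obtain ⟨n₂, hn₂N, hn₂M, hn₂⟩ := hNMtr x' a hx' haF
      have h1 : n₁ • y ∈ fixSub Q Ω := (fixSub Q Ω).smul_mem ⟨n₁, hn₁N⟩ hy
      have h1' : n₂ • y' ∈ fixSub Q Ω := (fixSub Q Ω).smul_mem ⟨n₂, hn₂N⟩ hy'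
      have h1a : n₁ • y ≠ a := fun h =>
        hxy (Subtype.ext (smul_left_cancel n₁ (hn₁.trans h.symm)))
      have h1a' : n₂ • y' ≠ a := fun h =>
        hxy' (Subtype.ext (smul_left_cancel n₂ (hn₂.trans h.symm)))
      obtain ⟨n, hnN, hna, hnc⟩ := hNa (n₁ • y) (n₂ • y') h1 h1' h1a h1a'
      refine ⟨⟨n₂⁻¹ * n * n₁, Subgroup.mul_mem _ (Subgroup.mul_mem _ (Subgroup.inv_mem _ hn₂N) hnN)
        hn₁N⟩, Subtype.ext ?_, Subtype.ext ?_⟩
      · show (n₂⁻¹ * n * n₁) • x = x'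
        rw [mul_smul, mul_smul, hn₁, hna, ← hn₂, inv_smul_smul]
      · show (n₂⁻¹ * n * n₁) • y = y'
        rw [mul_smul, mul_smul, hnc, inv_smul_smul]
    · rintro ⟨x, hx⟩ ⟨y, hy⟩
      obtain ⟨n, hnN, hnM, hnxy⟩ := hNMtr x y hx hy
      exact ⟨⟨n, hnN⟩, Subgroup.mem_subgroupOf.mpr hnM, Subtype.ext hnxy⟩
    · rintro ⟨q, hqN⟩ hq ⟨x, hx⟩
      exact Subtype.ext (hx q (Subgroup.mem_subgroupOf.mp hq))
    · rw [card_subgroupOf_eq_card_inf, inf_eq_right.mpr Subgroup.le_normalizer, hQc]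
    · rw [card_subgroupOf_eq_card_inf]
      exact fun h => hM2 (h.trans (Subgroup.card_dvd_of_le inf_le_right))
    · intro c T hTY hTfix hcard
      have hle : T.map (Subgroup.normalizer (Q : Set G)).subtype ≤ M ⊓ stabilizer G c.1 := by
        rintro _ ⟨t, ht, rfl⟩
        refine Subgroup.mem_inf.mpr ⟨Subgroup.mem_subgroupOf.mp (hTY ht),
          mem_stabilizer_iff.mpr ?_⟩
        exact congrArg Subtype.val (hTfix t ht)
      have hc2 : Nat.card (T.map (Subgroup.normalizer (Q : Set G)).subtype) = Nat.card T :=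
        (Nat.card_congr (T.equivMapOfInjective _
          (Subgroup.normalizer (Q : Set G)).subtype_injective).toEquiv).symm
      have h3 := Subgroup.card_dvd_of_le hle
      rw [hc2, hcard, hstab] at h3
      exact hMa2 h3
  -- the second fixed point
  have hFpos : 0 < Nat.card (fixSub Q Ω) := by
    have : Nonempty (fixSub Q Ω) := ⟨⟨a, haF⟩⟩
    exact Nat.card_pos
  have hF2 : Nat.card (fixSub Q Ω) = 2 := by
    obtain ⟨v, hv⟩ := hFeven
    omega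
  obtain ⟨⟨b₀, hb₀F⟩, hb₀a, hb₀u⟩ := (Nat.card_eq_two_iff' (⟨a, haF⟩ : fixSub Q Ω)).mp hF2
  have hb₀a' : b₀ ≠ a := fun h => hb₀a (Subtype.ext h)
  have hFall : ∀ x ∈ fixSub Q Ω, x ≠ a → x = b₀ := fun x hx hxa =>
    congrArg Subtype.val (hb₀u ⟨x, hx⟩ (fun h => hxa (congrArg Subtype.val h)))
  -- Step 5: `Ma` is transitive off `a`
  have hMatr : ∀ c : Ω, c ≠ a → ∃ h ∈ M, h • a = a ∧ h • b₀ = c := by
    intro c hca
    obtain ⟨g, hga, hgc⟩ := h2 a b₀ a c (Ne.symm hb₀a') (Ne.symm hca)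
    have hginv : g⁻¹ • a = a := inv_smul_eq_iff.mpr hga.symm
    obtain ⟨h, hh, hhn⟩ := exists_mul_mem_normalizer Ma Q k g hQMa hQc hMa2
      (fun q hq => Subgroup.mem_inf.mpr ⟨hMn.conj_mem q (hQM hq) g, by
          rw [mem_stabilizer_iff, mul_smul, mul_smul, hginv, hQa q hq, hga]⟩)
    have hh_a : h • a = a := mem_stabilizer_iff.mp (Subgroup.mem_inf.mp hh).2
    have h1 : (h * g) • b₀ ∈ fixSub Q Ω := (fixSub Q Ω).smul_mem ⟨h * g, hhn⟩ hb₀F
    have h3 : (h * g) • b₀ ≠ a := by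
      intro h4
      have h5 : (h * g) • a = a := by rw [mul_smul, hga, hh_a]
      exact hb₀a' (smul_left_cancel (h * g) (h4.trans h5.symm))
    have h4 := hFall _ h1 h3
    rw [mul_smul, hgc] at h4
    refine ⟨h⁻¹, M.inv_mem (Subgroup.mem_inf.mp hh).1, inv_smul_eq_iff.mpr hh_a.symm, ?_⟩
    rw [← h4, inv_smul_smul]
  -- Step 6: conclusion
  intro x y x' y' hxy hxy'
  obtain ⟨m₁, hm₁, hm₁x⟩ := hMtr x a
  obtain ⟨m₂, hm₂, hm₂x⟩ := hMtr x' a
  have h1 : m₁ • y ≠ a := fun h => hxy (smul_left_cancel m₁ (hm₁x.trans h.symm))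
  have h1' : m₂ • y' ≠ a := fun h => hxy' (smul_left_cancel m₂ (hm₂x.trans h.symm))
  obtain ⟨h₁, hh₁, hh₁a, hh₁b⟩ := hMatr _ h1
  obtain ⟨h₂, hh₂, hh₂a, hh₂b⟩ := hMatr _ h1'
  refine ⟨m₂⁻¹ * h₂ * h₁⁻¹ * m₁,
    M.mul_mem (M.mul_mem (M.mul_mem (M.inv_mem hm₂) hh₂) (M.inv_mem hh₁)) hm₁, ?_, ?_⟩
  · rw [mul_smul, mul_smul, mul_smul, hm₁x, inv_smul_eq_iff.mpr hh₁a.symm, hh₂a, ← hm₂x,
      inv_smul_smul]
  · rw [mul_smul, mul_smul, mul_smul, ← hh₁b, inv_smul_smul, hh₂b, inv_smul_smul]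

end Main

end Cfsg.Agent.Helper2.TT24
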