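import Cfsg.Agent.Helper2.TwoTrans24B

set_option autoImplicit false

/-!
# Doubly transitive groups of degree `n ≡ 2 (mod 4)`: the unique minimal normal subgroup (helper2)
-/

namespace Cfsg.Agent.Helper2.TT24

open MulAction

section Min
variable {G : Type*} [Group G] [Finite G] {Ω : Type*} [Finite Ω] [MulAction G Ω]

/-- Existence of the unique minimal normal subgroup, doubly transitive with trivial centralizer. -/
theorem exists_min_normal [FaithfulSMul G Ω]
    (h2 : ∀ a b c d : Ω, a ≠ b → c ≠ d → ∃ g : G, g • a = c ∧ g • b = d)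
    (hn : Nat.card Ω % 4 = 2) (hn2 : 2 < Nat.card Ω) :
    ∃ M : Subgroup G, M.Normal ∧ M ≠ ⊥ ∧ (∀ N : Subgroup G, N.Normal → N ≠ ⊥ → M ≤ N) ∧
      (∀ a b c d : Ω, a ≠ b → c ≠ d → ∃ g ∈ M, g • a = c ∧ g • b = d) ∧
      Subgroup.centralizer (M : Set G) = ⊥ := by
  classical
  -- three distinct points
  have hthree : ∀ x y : Ω, ∃ w : Ω, w ≠ x ∧ w ≠ y := by
    intro x y
    by_contra hcon
    have hall : ∀ w : Ω, w = x ∨ w = y := by
      intro w
      by_contra hw
      rw [not_or] at hw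
      exact hcon ⟨w, hw.1, hw.2⟩
    cases nonempty_fintype Ω
    have hsub : (Finset.univ : Finset Ω) ⊆ {x, y} := by
      intro w _
      rcases hall w with h | h
      · rw [h]; exact Finset.mem_insert_self _ _
      · rw [h]; exact Finset.mem_insert_of_mem (Finset.mem_singleton_self _)
    have h1 := (Finset.card_le_card hsub).trans Finset.card_le_two
    rw [Finset.card_univ, ← Nat.card_eq_fintype_card] at h1
    omega
  have hpos : 0 < Nat.card Ω := by omega
  obtain ⟨a⟩ : Nonempty Ω := (Nat.card_pos_iff.mp hpos).1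
  obtain ⟨b, hba, -⟩ := hthree a a
  -- `⊤` is a nontrivial normal subgroup
  have htop : (⊤ : Subgroup G) ≠ ⊥ := by
    obtain ⟨g, hga, -⟩ := h2 a b b a (Ne.symm hba) hba
    intro h
    have hg : g ∈ (⊥ : Subgroup G) := h ▸ Subgroup.mem_top g
    rw [Subgroup.mem_bot] at hg
    rw [hg, one_smul] at hga
    exact hba hga.symm
  obtain ⟨M, ⟨hMn, hMne⟩, hMmin⟩ := wellFounded_lt.has_min
    {N : Subgroup G | N.Normal ∧ N ≠ ⊥} ⟨⊤, inferInstance, htop⟩
  have hM2 := twoTr_of_normal h2 hn M hMne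
  -- trivial centralizer
  have hcent : Subgroup.centralizer (M : Set G) = ⊥ := by
    rw [Subgroup.eq_bot_iff_forall]
    intro z hz
    apply FaithfulSMul.eq_of_smul_eq_smul (α := Ω)
    intro x
    rw [one_smul]
    by_contra hzx
    obtain ⟨w, hwx, hwz⟩ := hthree x (z • x)
    obtain ⟨m, hm, hmx, hmz⟩ := hM2 x (z • x) x w (Ne.symm hzx) (Ne.symm hwx)
    have hcomm : m * z = z * m := Subgroup.mem_centralizer_iff.mp hz m hm
    have h1 : z • x = w := by
      calc z • x = z • m • x := by rw [hmx]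
        _ = (z * m) • x := (mul_smul _ _ _).symm
        _ = (m * z) • x := by rw [hcomm]
        _ = m • z • x := mul_smul _ _ _
        _ = w := hmz
    exact hwz h1.symm
  refine ⟨M, hMn, hMne, ?_, hM2, hcent⟩
  intro N hNn hNne
  have hinf : N ⊓ M ≠ ⊥ := by
    intro hbot
    apply hNne
    rw [Subgroup.eq_bot_iff_forall]
    intro n hn
    have hnc : n ∈ Subgroup.centralizer (M : Set G) := by
      rw [Subgroup.mem_centralizer_iff]
      intro m hm
      exact ((Subgroup.commute_of_normal_of_disjoint N M hNn hMn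
        (disjoint_iff.mpr hbot) n m hn hm).eq).symm
    rw [hcent, Subgroup.mem_bot] at hnc
    exact hnc
  have hle : N ⊓ M ≤ M := inf_le_right
  have hnlt : ¬ (N ⊓ M < M) := hMmin (N ⊓ M) ⟨inferInstance, hinf⟩
  have heq : N ⊓ M = M := by
    by_contra hne
    exact hnlt (lt_of_le_of_ne hle hne)
  exact heq ▸ inf_le_left

/-- The main theorem in elementary form: the unique minimal normal subgroup is simple. -/
theorem exists_simple_min_normal [FaithfulSMul G Ω]
    (h2 : ∀ a b c d : Ω, a ≠ b → c ≠ d → ∃ g : G, g • a = c ∧ g • b = d)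
    (hn : Nat.card Ω % 4 = 2) (hn2 : 2 < Nat.card Ω) :
    ∃ M : Subgroup G, M.Normal ∧ M ≠ ⊥ ∧ (∀ N : Subgroup G, N.Normal → N ≠ ⊥ → M ≤ N) ∧
      IsSimpleGroup ↥M ∧
      (∀ a b c d : Ω, a ≠ b → c ≠ d → ∃ g ∈ M, g • a = c ∧ g • b = d) ∧
      Subgroup.centralizer (M : Set G) = ⊥ := by
  classical
  obtain ⟨M, hMn, hMne, hMmin, hM2, hcent⟩ := exists_min_normal h2 hn hn2
  refine ⟨M, hMn, hMne, hMmin, ?_, hM2, hcent⟩
  -- apply the previous theorem to `M` itself
  have hfaith : FaithfulSMul ↥M Ω := by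
    constructor
    intro m₁ m₂ h
    apply Subtype.ext
    apply FaithfulSMul.eq_of_smul_eq_smul (α := Ω)
    intro x
    exact h x
  have h2M : ∀ a b c d : Ω, a ≠ b → c ≠ d → ∃ g : ↥M, g • a = c ∧ g • b = d := by
    intro a b c d hab hcd
    obtain ⟨g, hg, h1, h3⟩ := hM2 a b c d hab hcd
    exact ⟨⟨g, hg⟩, h1, h3⟩
  obtain ⟨M₁, hM₁n, hM₁ne, hM₁min, -, -⟩ := exists_min_normal (G := ↥M) h2M hn hn2
  -- `M₁` is invariant under conjugation by `G`
  have hinv : ∀ (g : G) (y : ↥M), y ∈ M₁ → MulAut.conjNormal g y ∈ M₁ := by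
    intro g y hy
    have hLn : (M₁.comap (MulAut.conjNormal g : ↥M ≃* ↥M).toMonoidHom).Normal :=
      hM₁n.comap _
    have hLne : M₁.comap (MulAut.conjNormal g : ↥M ≃* ↥M).toMonoidHom ≠ ⊥ := by
      obtain ⟨w, hw, hw1⟩ : ∃ w : ↥M, w ∈ M₁ ∧ w ≠ 1 := by
        obtain ⟨w, hw⟩ := (Subgroup.ne_bot_iff_exists_ne_one).mp hM₁ne
        exact ⟨w.1, w.2, fun h => hw (Subtype.ext h)⟩
      intro hbot
      have hmem : (MulAut.conjNormal g : ↥M ≃* ↥M).symm w ∈
          M₁.comap (MulAut.conjNormal g : ↥M ≃* ↥M).toMonoidHom := by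
        rw [Subgroup.mem_comap]
        simpa using hw
      rw [hbot, Subgroup.mem_bot] at hmem
      apply hw1
      have := congrArg (MulAut.conjNormal g : ↥M ≃* ↥M) hmem
      simpa using this
    have hle := hM₁min _ hLn hLne
    exact hle hy
  have hmapn : (M₁.map M.subtype).Normal := by
    constructor
    rintro _ ⟨y, hy, rfl⟩ g
    refine ⟨MulAut.conjNormal g y, hinv g y hy, ?_⟩
    simp [MulAut.conjNormal_apply]
  have hmapne : M₁.map M.subtype ≠ ⊥ := by
    intro h
    apply hM₁ne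
    rwa [Subgroup.map_eq_bot_iff_of_injective _ M.subtype_injective] at h
  have hMle : M ≤ M₁.map M.subtype := hMmin _ hmapn hmapne
  have hM₁top : M₁ = ⊤ := by
    rw [eq_top_iff]
    intro y _
    obtain ⟨y', hy', hyy'⟩ := hMle y.2
    have : y' = y := Subtype.ext hyy'
    exact this ▸ hy'
  have hnontriv : Nontrivial ↥M := by
    obtain ⟨w, hw⟩ := (Subgroup.ne_bot_iff_exists_ne_one).mp hMne
    exact ⟨⟨w, 1, hw⟩⟩
  refine { exists_pair_ne := hnontriv.exists_pair_ne, eq_bot_or_eq_top_of_normal := ?_ }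
  intro L hL
  by_cases hLb : L = ⊥
  · exact Or.inl hLb
  · right
    have := hM₁min L hL hLb
    rw [hM₁top] at this
    exact top_le_iff.mp this

end Min

end Cfsg.Agent.Helper2.TT24
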