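import Mathlib
import Cfsg.Prelude.Def_Classical
import Cfsg.Agent.Helper2.U34F

set_option autoImplicit false

/-!
An involutory automorphism of the abstract Sylow 2-subgroup of `U₃(4)` centralises the centre;
there is no `S₃` in the automorphism group.
-/

namespace Cfsg.Agent.Helper2.U34

variable {F : Type*} [Field F] [Fintype F]

section
variable [hF16 : IsF16 F] (hF : Fintype.card F = 16)
include hF

/-- The central elements fixed by an automorphism. -/
def fixC (τ : MulAut (U F)) : Subgroup (U F) where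
  carrier := {x | x.1.1 = 0 ∧ τ x = x}
  one_mem' := ⟨rfl, map_one τ⟩
  mul_mem' := by
    rintro x y ⟨hx, hx'⟩ ⟨hy, hy'⟩
    refine ⟨?_, ?_⟩
    · rw [mul_fst, hx, hy, add_zero]
    · rw [map_mul, hx', hy']
  inv_mem' := by
    rintro x ⟨hx, hx'⟩
    refine ⟨?_, ?_⟩
    · rw [inv_fst, hx]
    · rw [map_inv, hx']

omit hF in
theorem mem_fixC (τ : MulAut (U F)) (x : U F) : x ∈ fixC τ ↔ x.1.1 = 0 ∧ τ x = x := Iff.rfl

/-- An involutory automorphism centralises the centre. -/
theorem aut_L2 (τ : MulAut (U F)) (h2τ : τ ^ 2 = 1) : ∀ x : U F, x.1.1 = 0 → τ x = x := by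
  have h2 := hF16.two
  by_contra hcon
  push Not at hcon
  obtain ⟨z₁, hz₁, hz₁'⟩ := hcon
  haveI : Finite (U F) := Nat.finite_of_card_ne_zero (by rw [card_U hF]; norm_num)
  have hCle : fixC τ ≤ Subgroup.center (U F) := by
    intro x hx
    exact (mem_center_iff hF x).mpr hx.1
  have hdvd : Nat.card (fixC τ) ∣ 4 := by
    rw [← card_center hF]
    exact Subgroup.card_dvd_of_le hCle
  have hne4 : Nat.card (fixC τ) ≠ 4 := by
    intro h4
    have heq : fixC τ = Subgroup.center (U F) :=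
      Subgroup.eq_of_le_of_card_ge hCle (by rw [card_center hF, h4])
    have : z₁ ∈ fixC τ := by
      rw [heq]
      exact (mem_center_iff hF z₁).mpr hz₁
    exact hz₁' this.2
  have hle4 : Nat.card (fixC τ) ≤ 4 := Nat.le_of_dvd (by norm_num) hdvd
  have hkey : ∀ g h : U F, g ∈ fixC τ → h ∈ fixC τ → g ≠ 1 → h ≠ 1 → g = h := by
    intro g h hg hh hg1 hh1
    have hc2 : Nat.card (fixC τ) = 2 := by
      have h1 : Nat.card (fixC τ) ≠ 1 := by
        intro h1
        have hbot := Subgroup.card_eq_one.mp h1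
        rw [hbot] at hg
        exact hg1 (Subgroup.mem_bot.mp hg)
      have h0 : Nat.card (fixC τ) ≠ 0 := Nat.card_pos.ne'
      interval_cases hn : Nat.card (fixC τ) <;> omega
    obtain ⟨y, _, hy⟩ := (Nat.card_eq_two_iff' (1 : fixC τ)).mp hc2
    have e1 := hy ⟨g, hg⟩ (fun h => hg1 (congrArg Subtype.val h))
    have e2 := hy ⟨h, hh⟩ (fun h' => hh1 (congrArg Subtype.val h'))
    exact congrArg Subtype.val (e1.trans e2.symm)
  have hA2 : ∀ a, ind hF τ (ind hF τ a) = a := by
    intro a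
    rw [← ind_comp, ← pow_two, h2τ, ind_one]
  let D : F →+ F :=
    { toFun := fun a => a + ind hF τ a
      map_zero' := by rw [ind_zero, add_zero]
      map_add' := by
        intro a b
        rw [ind_add]
        ring }
  have hDD : ∀ a, D (D a) = 0 := by
    intro a
    change (a + ind hF τ a) + ind hF τ (a + ind hF τ a) = 0
    rw [ind_add, hA2]
    linear_combination (a + ind hF τ a) * h2
  have hrk : D.range ≤ D.ker := by
    rintro _ ⟨a, rfl⟩
    exact hDD a
  have hcard : Nat.card D.ker * Nat.card D.range = 16 := by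
    rw [← AddSubgroup.index_ker, AddSubgroup.card_mul_index, Nat.card_eq_fintype_card, hF]
  have hle := AddSubgroup.card_le_of_le hrk
  have h4 : 2 < Nat.card D.ker := by
    by_contra hlt
    push Not at hlt
    have : Nat.card D.ker * Nat.card D.range ≤ 2 * 2 := Nat.mul_le_mul hlt (hle.trans hlt)
    omega
  haveI : Fintype D.ker := Fintype.ofFinite _
  rw [Nat.card_eq_fintype_card, Fintype.two_lt_card_iff] at h4
  obtain ⟨a, b, c, hab, hac, hbc⟩ := h4
  have hfix : ∀ w : D.ker, ind hF τ w.1 = w.1 := by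
    intro w
    have hw : w.1 + ind hF τ w.1 = 0 := w.2
    linear_combination hw - w.1 * h2
  -- the squares
  have hn : ∀ w : F, ind hF τ w = w → w ≠ 0 →
      (lift hF w) ^ 2 ∈ fixC τ ∧ (lift hF w) ^ 2 ≠ 1 ∧ ((lift hF w) ^ 2).1.2 = w ^ 5 := by
    intro w hw hw0
    refine ⟨⟨sq_fst _, ?_⟩, ?_, ?_⟩
    · apply U.ext
      · rw [aut_center hF τ _ (sq_fst _), sq_fst]
      · rw [ind_sq hF τ, lift_fst, hw, sq_snd, lift_fst]
    · intro h1
      have := congrArg (fun x : U F => x.1.2) h1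
      simp only [sq_snd, lift_fst, one_snd] at this
      exact hw0 (pow_eq_zero_iff (by norm_num) |>.mp this)
    · rw [sq_snd, lift_fst]
  have hu : ind hF τ (a.1 + b.1) = a.1 + b.1 := by rw [ind_add, hfix, hfix]
  have hv : ind hF τ (a.1 + c.1) = a.1 + c.1 := by rw [ind_add, hfix, hfix]
  have huv : ind hF τ ((a.1 + b.1) + (a.1 + c.1)) = (a.1 + b.1) + (a.1 + c.1) := by
    rw [ind_add, hu, hv]
  have hu0 : a.1 + b.1 ≠ 0 := by
    intro h
    apply hab
    apply Subtype.ext
    linear_combination h - b.1 * h2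
  have hv0 : a.1 + c.1 ≠ 0 := by
    intro h
    apply hac
    apply Subtype.ext
    linear_combination h - c.1 * h2
  have huv0 : (a.1 + b.1) + (a.1 + c.1) ≠ 0 := by
    intro h
    apply hbc
    apply Subtype.ext
    linear_combination h - (a.1 + c.1) * h2
  obtain ⟨m1, n1, s1⟩ := hn _ hu hu0
  obtain ⟨m2, n2, s2⟩ := hn _ hv hv0
  obtain ⟨m3, n3, s3⟩ := hn _ huv huv0
  have e12 := hkey _ _ m1 m2 n1 n2
  have e13 := hkey _ _ m1 m3 n1 n3
  have f12 : (a.1 + b.1) ^ 5 = (a.1 + c.1) ^ 5 := by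
    rw [← s1, ← s2, e12]
  have f13 : ((a.1 + b.1) + (a.1 + c.1)) ^ 5 = (a.1 + b.1) ^ 5 := by
    rw [← s1, ← s3, e13]
  exact norm_lemma hu0 f12 f13

/-- There is no `S₃` in the automorphism group. -/
theorem no_S3 (H : Subgroup (MulAut (U F))) : ¬ Nonempty (↥H ≃* Equiv.Perm (Fin 3)) := by
  rintro ⟨φ⟩
  have hs1 : (Equiv.swap (0 : Fin 3) 1) ^ 2 = 1 := by decide
  have hs2 : (Equiv.swap (1 : Fin 3) 2) ^ 2 = 1 := by decide
  have hs3 : (Equiv.swap (0 : Fin 3) 1 * Equiv.swap (1 : Fin 3) 2) ^ 3 = 1 := by decide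
  have hs4 : Equiv.swap (0 : Fin 3) 1 * Equiv.swap (1 : Fin 3) 2 ≠ 1 := by decide
  have ht1 : (φ.symm (Equiv.swap (0 : Fin 3) 1) : MulAut (U F)) ^ 2 = 1 := by
    rw [← Subgroup.coe_pow, ← map_pow, hs1, map_one, Subgroup.coe_one]
  have ht2 : (φ.symm (Equiv.swap (1 : Fin 3) 2) : MulAut (U F)) ^ 2 = 1 := by
    rw [← Subgroup.coe_pow, ← map_pow, hs2, map_one, Subgroup.coe_one]
  have ha3 : ((φ.symm (Equiv.swap (0 : Fin 3) 1) : MulAut (U F)) *
      (φ.symm (Equiv.swap (1 : Fin 3) 2) : MulAut (U F))) ^ 3 = 1 := by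
    rw [← Subgroup.coe_mul, ← Subgroup.coe_pow, ← map_mul, ← map_pow, hs3, map_one,
      Subgroup.coe_one]
  have hZ1 := aut_L2 hF _ ht1
  have hZ2 := aut_L2 hF _ ht2
  have h1 := aut_L1 hF _ ha3 (by
    intro x hx
    rw [MulAut.mul_apply, hZ2 x hx, hZ1 x hx])
  apply hs4
  apply φ.symm.injective
  apply Subtype.ext
  rw [map_mul, Subgroup.coe_mul, h1, map_one, Subgroup.coe_one]

/-- Transfer to any group isomorphic to the abstract group. -/
theorem no_S3_of_equiv {T : Type*} [Group T] (e : T ≃* U F) (H : Subgroup (MulAut T)) :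
    ¬ Nonempty (↥H ≃* Equiv.Perm (Fin 3)) := by
  rintro ⟨φ⟩
  have hinj : Function.Injective (MulAut.congr e).toMonoidHom := (MulAut.congr e).injective
  exact no_S3 hF (H.map (MulAut.congr e).toMonoidHom)
    ⟨(Subgroup.equivMapOfInjective H _ hinj).symm.trans φ⟩

end

end Cfsg.Agent.Helper2.U34
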