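import Mathlib
import Cfsg.Agent.Helper7.Hermitian

set_option autoImplicit false

/-!
The abstract Sylow 2-subgroup of `SU₃(q)`, `q` even: pairs `(a, c)` over the field with `q²`
elements with `c + c^q = a^q a` and product `(a,c)(a',c') = (a+a', c+c'+a^q a')`.
-/

namespace Cfsg.Agent.Helper2.U3q

/-- A field of characteristic 2 in which `x ↦ x ^ q` is an involutory additive map. -/
class IsFq2 (F : Type*) [Field F] (q : ℕ) : Prop where
  two : (2 : F) = 0
  add_pow : ∀ a b : F, (a + b) ^ q = a ^ q + b ^ q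
  pow_pow : ∀ a : F, (a ^ q) ^ q = a
  q_ne : q ≠ 0

variable {F : Type*} [Field F]

theorem isFq2_of_card [Fintype F] {n : ℕ} (hn : 1 ≤ n) (hF : Fintype.card F = (2 ^ n) ^ 2) :
    IsFq2 F (2 ^ n) := by
  constructor
  · have h := FiniteField.cast_card_eq_zero F
    rw [hF] at h
    push_cast at h
    have h4 : (2 : F) ^ n = 0 := pow_eq_zero_iff (by norm_num) |>.mp h
    exact pow_eq_zero_iff (by omega) |>.mp h4
  · exact Cfsg.Agent.Helper7.Herm.add_pow_q hF
  · exact Cfsg.Agent.Helper7.Herm.pow_q_pow_q hF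
  · positivity

variable {q : ℕ} [hFq : IsFq2 F q]

omit hFq in
theorem add_self (q : ℕ) [hq : IsFq2 F q] (x : F) : x + x = 0 := by
  have h2 := hq.two
  linear_combination x * h2

theorem zero_pow_q : (0 : F) ^ q = 0 := zero_pow (hFq.q_ne (F := F))

/-- The underlying type. -/
def U (F : Type*) [Field F] (q : ℕ) : Type _ := {p : F × F // p.2 + p.2 ^ q = p.1 ^ q * p.1}

@[ext] theorem U.ext {p r : U F q} (h1 : p.1.1 = r.1.1) (h2 : p.1.2 = r.1.2) : p = r :=
  Subtype.ext (Prod.ext h1 h2)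

instance : Mul (U F q) :=
  ⟨fun p r => ⟨(p.1.1 + r.1.1, p.1.2 + r.1.2 + p.1.1 ^ q * r.1.1), by
    obtain ⟨⟨a, c⟩, hc⟩ := p
    obtain ⟨⟨a', c'⟩, hc'⟩ := r
    simp only at hc hc' ⊢
    rw [hFq.add_pow, hFq.add_pow, hFq.add_pow, mul_pow, hFq.pow_pow]
    linear_combination hc + hc'⟩⟩

instance : One (U F q) := ⟨⟨(0, 0), by simp [zero_pow_q (F := F) (q := q)]⟩⟩

instance : Inv (U F q) :=
  ⟨fun p => ⟨(p.1.1, p.1.2 + p.1.1 ^ q * p.1.1), by
    obtain ⟨⟨a, c⟩, hc⟩ := p
    have h2 := hFq.two (q := q)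
    simp only at hc ⊢
    rw [hFq.add_pow, mul_pow, hFq.pow_pow]
    linear_combination hc + (a ^ q * a) * h2⟩⟩

@[simp] theorem mul_fst (p r : U F q) : (p * r).1.1 = p.1.1 + r.1.1 := rfl
@[simp] theorem mul_snd (p r : U F q) : (p * r).1.2 = p.1.2 + r.1.2 + p.1.1 ^ q * r.1.1 := rfl
@[simp] theorem one_fst : (1 : U F q).1.1 = 0 := rfl
@[simp] theorem one_snd : (1 : U F q).1.2 = 0 := rfl
@[simp] theorem inv_fst (p : U F q) : (p⁻¹).1.1 = p.1.1 := rfl
@[simp] theorem inv_snd (p : U F q) : (p⁻¹).1.2 = p.1.2 + p.1.1 ^ q * p.1.1 := rfl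

instance : Group (U F q) where
  mul_assoc p r s := by
    apply U.ext
    · simp only [mul_fst]; ring
    · simp only [mul_fst, mul_snd, hFq.add_pow]
      ring
  one_mul p := by
    apply U.ext
    · simp
    · simp [zero_pow_q (F := F) (q := q)]
  mul_one p := by
    apply U.ext
    · simp
    · simp
  inv_mul_cancel p := by
    have h2 := hFq.two (q := q)
    apply U.ext
    · simp only [mul_fst, inv_fst, one_fst]
      exact add_self q _
    · simp only [mul_snd, inv_fst, inv_snd, one_snd]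
      linear_combination (p.1.2 + p.1.1 ^ q * p.1.1) * h2

end Cfsg.Agent.Helper2.U3q
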