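import Mathlib
import Cfsg.Prelude.Def_LieRecognition
import Cfsg.Agent.Helper2.U3qA
import Cfsg.Agent.Helper8.UnitaryLines

set_option autoImplicit false

/-!
Structure of the abstract Sylow 2-subgroup of `SU₃(q)`: order, centre, Suzuki 2-group property.
-/

namespace Cfsg.Agent.Helper2.U3q

variable {F : Type*} [Field F] [Fintype F] {q : ℕ}

section
variable [hFq : IsFq2 F q]

omit [Fintype F] in
theorem fixN (a : F) : (a ^ q * a) ^ q = a ^ q * a := by
  rw [mul_pow, hFq.pow_pow]; ring

omit [Fintype F] in
theorem sq_fst (x : U F q) : (x * x).1.1 = 0 := add_self q _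

omit [Fintype F] in
theorem sq_snd (x : U F q) : (x * x).1.2 = x.1.1 ^ q * x.1.1 := by
  rw [mul_snd, add_self q, zero_add]

omit [Fintype F] in
theorem snd_fixed (x : U F q) (hx : x.1.1 = 0) : x.1.2 ^ q = x.1.2 := by
  have h := x.2
  have h2 := hFq.two
  rw [hx, zero_pow_q, zero_mul] at h
  linear_combination h - x.1.2 * h2

/-- A chosen solution of `c + c^q = a^q a`. -/
noncomputable def sol (hF : Fintype.card F = q ^ 2) (a : F) : F :=
  Classical.choose (Cfsg.Agent.Helper8.UnitaryLines.exists_trace hF (fixN (q := q) a))

theorem sol_spec (hF : Fintype.card F = q ^ 2) (a : F) : sol hF a + sol hF a ^ q = a ^ q * a :=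
  Classical.choose_spec (Cfsg.Agent.Helper8.UnitaryLines.exists_trace hF (fixN (q := q) a))

/-- An element with prescribed first coordinate. -/
noncomputable def lift (hF : Fintype.card F = q ^ 2) (a : F) : U F q :=
  ⟨(a, sol hF a), sol_spec hF a⟩

@[simp] theorem lift_fst (hF : Fintype.card F = q ^ 2) (a : F) : (lift hF a).1.1 = a := rfl
@[simp] theorem lift_snd (hF : Fintype.card F = q ^ 2) (a : F) : (lift hF a).1.2 = sol hF a := rfl

theorem mem_center_iff (hF : Fintype.card F = q ^ 2) (p : U F q) :
    p ∈ Subgroup.center (U F q) ↔ p.1.1 = 0 := by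
  have h2 := hFq.two
  constructor
  · intro hp
    rw [Subgroup.mem_center_iff] at hp
    have h1 := congrArg (fun x : U F q => x.1.2) (hp (lift hF 1))
    simp only [mul_snd, lift_fst, lift_snd, one_pow, one_mul, mul_one] at h1
    have ha4 : p.1.1 ^ q = p.1.1 := by linear_combination (-1 : F) * h1
    obtain ⟨ω, hω⟩ := Cfsg.Agent.Helper8.GUOrder.exists_not_fixed hF
    have h3 := congrArg (fun x : U F q => x.1.2) (hp (lift hF ω))
    simp only [mul_snd, lift_fst, lift_snd] at h3
    rw [ha4] at h3
    have h4 : p.1.1 * (ω ^ q - ω) = 0 := by linear_combination h3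
    rcases mul_eq_zero.mp h4 with h | h
    · exact h
    · exact absurd (by linear_combination h) hω
  · intro hp
    rw [Subgroup.mem_center_iff]
    intro g
    apply U.ext
    · simp only [mul_fst]; ring
    · simp only [mul_snd, hp, zero_pow_q]; ring

/-- The group has order `q³`. -/
theorem card_U (hF : Fintype.card F = q ^ 2) : Nat.card (U F q) = q ^ 3 := by
  have h2 := hFq.two
  let e : U F q ≃ F × {z : F // z ^ q = z} :=
    { toFun := fun p => (p.1.1, ⟨p.1.2 + sol hF p.1.1, by
        have hc := p.2
        have hs := sol_spec hF p.1.1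
        rw [hFq.add_pow]
        linear_combination hc - hs + (sol hF p.1.1 ^ q - p.1.2) * h2⟩)
      invFun := fun x => ⟨(x.1, x.2.1 + sol hF x.1), by
        have hz := x.2.2
        have hs := sol_spec hF x.1
        simp only
        rw [hFq.add_pow]
        linear_combination hz + hs + x.2.1 * h2⟩
      left_inv := by
        intro p
        apply U.ext
        · rfl
        · change p.1.2 + sol hF p.1.1 + sol hF p.1.1 = p.1.2
          rw [add_assoc, add_self q, add_zero]
      right_inv := by
        intro x
        apply Prod.ext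
        · rfl
        · apply Subtype.ext
          change x.2.1 + sol hF x.1 + sol hF x.1 = x.2.1
          rw [add_assoc, add_self q, add_zero] }
  rw [Nat.card_congr e, Nat.card_prod, Nat.card_eq_fintype_card, hF,
    Cfsg.Agent.Helper8.UnitaryLines.card_fixed hF]
  ring

theorem card_center (hF : Fintype.card F = q ^ 2) : Nat.card (Subgroup.center (U F q)) = q := by
  have h2 := hFq.two
  let e : Subgroup.center (U F q) ≃ {z : F // z ^ q = z} :=
    { toFun := fun p => ⟨p.1.1.2, snd_fixed p.1 ((mem_center_iff hF p.1).mp p.2)⟩
      invFun := fun z => ⟨⟨(0, z.1), by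
        have hz := z.2
        simp only
        rw [zero_pow_q, zero_mul]
        linear_combination hz + z.1 * h2⟩, (mem_center_iff hF _).mpr rfl⟩
      left_inv := by
        intro p
        apply Subtype.ext
        apply U.ext
        · exact ((mem_center_iff hF p.1).mp p.2).symm
        · rfl
      right_inv := by
        intro z
        rfl }
  rw [Nat.card_congr e, Cfsg.Agent.Helper8.UnitaryLines.card_fixed hF]

end

end Cfsg.Agent.Helper2.U3q
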