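import Mathlib
import Cfsg.Prelude.Def_LieRecognition
import Cfsg.Agent.Helper2.U3qB

set_option autoImplicit false

/-!
The abstract Sylow 2-subgroup of `SU₃(q)` is a Suzuki 2-group.
-/

namespace Cfsg.Agent.Helper2.U3q

variable {F : Type*} [Field F] {q : ℕ}

/-- The units fixed by `x ↦ x ^ q`. -/
def Lam (F : Type*) [Field F] (q : ℕ) : Subgroup Fˣ where
  carrier := {u | (u : F) ^ q = u}
  one_mem' := by simp
  mul_mem' := by
    intro a b ha hb
    simp only [Set.mem_setOf_eq, Units.val_mul, mul_pow] at *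
    rw [ha, hb]
  inv_mem' := by
    intro a ha
    simp only [Set.mem_setOf_eq, Units.val_inv_eq_inv_val, inv_pow] at *
    rw [ha]

theorem mem_Lam (u : Fˣ) : u ∈ Lam F q ↔ (u : F) ^ q = u := Iff.rfl

theorem Lam_pow (u : Lam F q) : ((u.1 : Fˣ) : F) ^ q = ((u.1 : Fˣ) : F) := u.2

/-- The scalar map `(a, c) ↦ (l a, l² c)`. -/
def kappaFun (l : F) (hl : l ^ q = l) (p : U F q) : U F q :=
  ⟨(l * p.1.1, l * l * p.1.2), by
    have hc := p.2
    simp only
    rw [mul_pow, mul_pow, mul_pow, hl]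
    linear_combination (l * l) * hc⟩

@[simp] theorem kappaFun_fst (l : F) (hl : l ^ q = l) (p : U F q) :
    (kappaFun l hl p).1.1 = l * p.1.1 := rfl
@[simp] theorem kappaFun_snd (l : F) (hl : l ^ q = l) (p : U F q) :
    (kappaFun l hl p).1.2 = l * l * p.1.2 := rfl

section
variable [hFq : IsFq2 F q]

/-- The scalar automorphism attached to a fixed unit. -/
def kappaEquiv (u : Lam F q) : U F q ≃* U F q where
  toFun := kappaFun (u.1 : F) (Lam_pow u)
  invFun := kappaFun ((u⁻¹ : Lam F q).1 : F) (Lam_pow u⁻¹)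
  left_inv p := by
    apply U.ext
    · simp only [kappaFun_fst]
      rw [← mul_assoc, ← Units.val_mul, ← Subgroup.coe_mul, inv_mul_cancel]
      simp
    · simp only [kappaFun_snd]
      have h : (((u⁻¹ : Lam F q).1 : Fˣ) : F) * ((u.1 : Fˣ) : F) = 1 := by
        rw [← Units.val_mul, ← Subgroup.coe_mul, inv_mul_cancel]
        simp
      linear_combination ((((u⁻¹ : Lam F q).1 : Fˣ) : F) * ((u.1 : Fˣ) : F) * p.1.2 + p.1.2) * h
  right_inv p := by
    apply U.ext
    · simp only [kappaFun_fst]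
      rw [← mul_assoc, ← Units.val_mul, ← Subgroup.coe_mul, mul_inv_cancel]
      simp
    · simp only [kappaFun_snd]
      have h : ((u.1 : Fˣ) : F) * (((u⁻¹ : Lam F q).1 : Fˣ) : F) = 1 := by
        rw [← Units.val_mul, ← Subgroup.coe_mul, mul_inv_cancel]
        simp
      linear_combination (((u.1 : Fˣ) : F) * (((u⁻¹ : Lam F q).1 : Fˣ) : F) * p.1.2 + p.1.2) * h
  map_mul' p r := by
    have hu : ((u.1 : Fˣ) : F) ^ q = u.1 := Lam_pow u
    apply U.ext
    · simp only [kappaFun_fst, mul_fst]; ring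
    · simp only [kappaFun_snd, kappaFun_fst, mul_snd, mul_pow, hu]; ring

theorem kappaEquiv_apply (u : Lam F q) (p : U F q) :
    kappaEquiv u p = kappaFun (u.1 : F) (Lam_pow u) p := rfl

/-- The scalar automorphisms as a homomorphism. -/
def kappa (F : Type*) [Field F] (q : ℕ) [IsFq2 F q] : Lam F q →* MulAut (U F q) where
  toFun := kappaEquiv
  map_one' := by
    apply MulEquiv.ext
    intro p
    apply U.ext
    · simp [kappaEquiv_apply]
    · simp [kappaEquiv_apply]
  map_mul' u v := by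
    apply MulEquiv.ext
    intro p
    apply U.ext
    · simp only [MulAut.mul_apply, kappaEquiv_apply, kappaFun_fst, Subgroup.coe_mul, Units.val_mul]
      ring
    · simp only [MulAut.mul_apply, kappaEquiv_apply, kappaFun_snd, Subgroup.coe_mul, Units.val_mul]
      ring

/-- A central element. -/
def zel (c : F) (hc : c ^ q = c) : U F q :=
  ⟨(0, c), by
    simp only
    rw [hc, zero_pow_q, zero_mul]
    exact add_self q c⟩

@[simp] theorem zel_fst (c : F) (hc : c ^ q = c) : (zel c hc).1.1 = 0 := rfl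
@[simp] theorem zel_snd (c : F) (hc : c ^ q = c) : (zel c hc).1.2 = c := rfl

theorem zel_mul_self (c : F) (hc : c ^ q = c) : zel c hc * zel c hc = 1 := by
  apply U.ext
  · exact sq_fst _
  · rw [sq_snd, zel_fst, zero_pow_q, zero_mul]
    rfl

theorem kappa_apply (u : Lam F q) (p : U F q) : kappa F q u p = kappaFun (u.1 : F) (Lam_pow u) p := rfl

end

variable [Fintype F]

/-- The abstract group is a Suzuki 2-group. -/
theorem isSuzuki_U {n : ℕ} (hn : 2 ≤ n) (hF : Fintype.card F = (2 ^ n) ^ 2)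
    [hFq : IsFq2 F (2 ^ n)] : Cfsg.IsSuzukiTwoGroup (U F (2 ^ n)) := by
  have h2 := hFq.two
  have hcard := card_U hF
  have hfin : Finite (U F (2 ^ n)) := Nat.finite_of_card_ne_zero (by rw [hcard]; positivity)
  have hinv : ∀ x : U F (2 ^ n), x ≠ 1 → x * x = 1 →
      x.1.1 = 0 ∧ x.1.2 ≠ 0 ∧ x.1.2 ^ (2 ^ n) = x.1.2 := by
    intro x hx1 hxx
    have h0 : x.1.1 = 0 := by
      have := congrArg (fun y : U F (2 ^ n) => y.1.2) hxx
      simp only [sq_snd, one_snd] at this
      rcases mul_eq_zero.mp this with h | h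
      · exact pow_eq_zero_iff (by positivity) |>.mp h
      · exact h
    refine ⟨h0, ?_, snd_fixed x h0⟩
    intro hc
    exact hx1 (U.ext h0 hc)
  refine ⟨hfin, ?_, ?_, ?_, ?_⟩
  · apply IsPGroup.of_card (n := n * 3)
    rw [hcard, pow_mul]
  · obtain ⟨ω, hω⟩ := Cfsg.Agent.Helper8.GUOrder.exists_not_fixed hF
    refine ⟨lift hF 1, lift hF ω, ?_⟩
    intro h
    have h1 := congrArg (fun x : U F (2 ^ n) => x.1.2) h
    simp only [mul_snd, lift_fst, lift_snd, one_pow, one_mul, mul_one] at h1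
    apply hω
    linear_combination (-1 : F) * h1
  · -- two involutions
    have hc4 : 2 < Nat.card {c : F // c ^ (2 ^ n) = c} := by
      rw [Cfsg.Agent.Helper8.UnitaryLines.card_fixed hF]
      calc 2 < 2 ^ 2 := by norm_num
        _ ≤ 2 ^ n := Nat.pow_le_pow_right (by norm_num) hn
    haveI : Fintype {c : F // c ^ (2 ^ n) = c} := Fintype.ofFinite _
    rw [Nat.card_eq_fintype_card, Fintype.two_lt_card_iff] at hc4
    obtain ⟨a, b, c, hab, hac, hbc⟩ := hc4
    -- two distinct nonzero fixed elements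
    have key : ∃ u v : {c : F // c ^ (2 ^ n) = c}, u ≠ v ∧ u.1 ≠ 0 ∧ v.1 ≠ 0 := by
      by_cases ha : a.1 = 0
      · refine ⟨b, c, hbc, ?_, ?_⟩
        · intro hb
          exact hab (Subtype.ext (ha.trans hb.symm))
        · intro hc
          exact hac (Subtype.ext (ha.trans hc.symm))
      · by_cases hb : b.1 = 0
        · refine ⟨a, c, hac, ha, ?_⟩
          intro hc
          exact hbc (Subtype.ext (hb.trans hc.symm))
        · exact ⟨a, b, hab, ha, hb⟩
    obtain ⟨u, v, huv, hu0, hv0⟩ := key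
    refine ⟨zel u.1 u.2, zel v.1 v.2, ?_, ?_, zel_mul_self _ _, ?_, zel_mul_self _ _⟩
    · intro h
      apply huv
      apply Subtype.ext
      exact congrArg (fun x : U F (2 ^ n) => x.1.2) h
    · intro h
      exact hu0 (congrArg (fun x : U F (2 ^ n) => x.1.2) h)
    · intro h
      exact hv0 (congrArg (fun x : U F (2 ^ n) => x.1.2) h)
  · refine ⟨(kappa F (2 ^ n)).range, ?_, ?_⟩
    · exact isCyclic_of_surjective (kappa F (2 ^ n)).rangeRestrict
        (kappa F (2 ^ n)).rangeRestrict_surjective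
    · intro x y hx1 hxx hy1 hyy
      obtain ⟨hx0, hxc, hxq⟩ := hinv x hx1 hxx
      obtain ⟨hy0, hyc, hyq⟩ := hinv y hy1 hyy
      have hnn : (2 : ℕ) ^ n = 2 * 2 ^ (n - 1) := by
        rw [← pow_succ']
        congr 1
        omega
      obtain ⟨r, hr⟩ : ∃ r : F, r = y.1.2 / x.1.2 := ⟨_, rfl⟩
      have hr0 : r ≠ 0 := by rw [hr]; exact div_ne_zero hyc hxc
      have hrq : r ^ (2 ^ n) = r := by rw [hr, div_pow, hxq, hyq]
      obtain ⟨l, hl⟩ : ∃ l : F, l = r ^ (2 ^ (n - 1)) := ⟨_, rfl⟩
      have hl0 : l ≠ 0 := by rw [hl]; exact pow_ne_zero _ hr0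
      have hll : l * l = r := by
        rw [hl, ← pow_add, ← two_mul, ← hnn, hrq]
      have hlq : l ^ (2 ^ n) = l := by
        rw [hl, ← pow_mul, mul_comm, pow_mul, hrq]
      let u : Lam F (2 ^ n) := ⟨Units.mk0 l hl0, hlq⟩
      have hux : kappa F (2 ^ n) u x = y := by
        apply U.ext
        · rw [kappa_apply, kappaFun_fst, hx0, hy0, mul_zero]
        · rw [kappa_apply, kappaFun_snd]
          change l * l * x.1.2 = y.1.2
          rw [hll, hr]
          field_simp
      refine ⟨⟨kappa F (2 ^ n) u, u, rfl⟩, hux, ?_⟩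
      rintro ⟨k, v, rfl⟩ hk
      apply Subtype.ext
      change kappa F (2 ^ n) v = kappa F (2 ^ n) u
      congr 1
      apply Subtype.ext
      apply Units.ext
      change ((v.1 : Fˣ) : F) = l
      have h1 := congrArg (fun z : U F (2 ^ n) => z.1.2) hk
      simp only [kappa_apply, kappaFun_snd] at h1
      have h3 : ((v.1 : Fˣ) : F) * (v.1 : Fˣ) = r := by
        rw [hr]
        field_simp
        linear_combination h1
      have h4 : (((v.1 : Fˣ) : F) - l) ^ 2 = 0 := by
        linear_combination h3 + hll + (r - ((v.1 : Fˣ) : F) * l) * h2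
      have h5 := pow_eq_zero_iff (by norm_num) |>.mp h4
      linear_combination h5

end Cfsg.Agent.Helper2.U3q
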