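import Mathlib
import Cfsg.Prelude.Def_Classical
import Cfsg.Prelude.Def_LieRecognition
import Cfsg.Agent.Helper2.U3qC
import Cfsg.Agent.Helper8.SUCenter

set_option autoImplicit false

/-!
Isomorphism invariance of the Suzuki 2-group property, and the embedding of the abstract group
into `SU₃(q)`.
-/

namespace Cfsg.Agent.Helper2.U3q

open Matrix

theorem isSuzuki_of_equiv {A B : Type*} [Group A] [Group B] (e : A ≃* B)
    (h : Cfsg.IsSuzukiTwoGroup B) : Cfsg.IsSuzukiTwoGroup A := by
  obtain ⟨hfin, hp, ⟨x, y, hxy⟩, ⟨u, v, huv, hu1, huu, hv1, hvv⟩, K, hK, hreg⟩ := h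
  refine ⟨Finite.of_equiv B e.symm.toEquiv, hp.of_equiv e.symm, ?_, ?_, ?_⟩
  · refine ⟨e.symm x, e.symm y, ?_⟩
    intro h
    apply hxy
    apply e.symm.injective
    rw [map_mul, map_mul, h]
  · refine ⟨e.symm u, e.symm v, ?_, ?_, ?_, ?_, ?_⟩
    · intro h
      exact huv (e.symm.injective h)
    · intro h
      apply hu1
      apply e.symm.injective
      rw [h, map_one]
    · rw [← map_mul, huu, map_one]
    · intro h
      apply hv1
      apply e.symm.injective
      rw [h, map_one]
    · rw [← map_mul, hvv, map_one]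
  · refine ⟨K.map (MulAut.congr e.symm).toMonoidHom, ?_, ?_⟩
    · exact isCyclic_of_surjective ((MulAut.congr e.symm).toMonoidHom.subgroupMap K)
        (MonoidHom.subgroupMap_surjective _ K)
    · intro a b ha1 haa hb1 hbb
      have h1 : e a ≠ 1 := by
        intro h
        apply ha1
        apply e.injective
        rw [h, map_one]
      have h2 : e a * e a = 1 := by rw [← map_mul, haa, map_one]
      have h3 : e b ≠ 1 := by
        intro h
        apply hb1
        apply e.injective
        rw [h, map_one]
      have h4 : e b * e b = 1 := by rw [← map_mul, hbb, map_one]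
      obtain ⟨k, hk, hkuniq⟩ := hreg (e a) (e b) h1 h2 h3 h4
      have happ : ∀ (f : MulAut B) (z : A), (MulAut.congr e.symm f) z = e.symm (f (e z)) := by
        intro f z
        rfl
      refine ⟨⟨MulAut.congr e.symm k.1, Subgroup.mem_map_of_mem _ k.2⟩, ?_, ?_⟩
      · change (MulAut.congr e.symm k.1) a = b
        rw [happ, hk, MulEquiv.symm_apply_apply]
      · rintro ⟨k', k₀, hk₀, rfl⟩ hk'
        have : (MulAut.congr e.symm k₀) a = b := hk'
        rw [happ] at this
        have h5 : k₀ (e a) = e b := by
          rw [← this, MulEquiv.apply_symm_apply]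
        have h6 := hkuniq ⟨k₀, hk₀⟩ h5
        apply Subtype.ext
        change (MulAut.congr e.symm) k₀ = (MulAut.congr e.symm) k.1
        rw [← h6]

variable {F : Type*} [Field F] {q : ℕ}

/-- The matrix of the element `(a, c)`. -/
def Mat (q : ℕ) (a c : F) : Matrix (Fin 3) (Fin 3) F :=
  !![1 + c, c, a ^ q; c, 1 + c, a ^ q; a, a, 1]

section
variable [hFq : IsFq2 F q]

theorem Mat_unitary {a c : F} (hc : c + c ^ q = a ^ q * a) :
    (Mat q a c)ᵀ * (Mat q a c).map (· ^ q) = 1 := by
  have h2 := hFq.two
  ext i j
  fin_cases i <;> fin_cases j <;>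
    simp [Mat, Matrix.mul_apply, Fin.sum_univ_three, hFq.add_pow, hFq.pow_pow]
  · linear_combination hc + (c * c ^ q + a * a ^ q) * h2
  · linear_combination hc + (c * c ^ q + a * a ^ q) * h2
  · linear_combination (a + a * c) * h2
  · linear_combination hc + (c * c ^ q + a * a ^ q) * h2
  · linear_combination hc + (c * c ^ q + a * a ^ q) * h2
  · linear_combination (a + a * c) * h2
  · linear_combination (a ^ q + a ^ q * c ^ q) * h2
  · linear_combination (a ^ q + a ^ q * c ^ q) * h2
  · linear_combination (a ^ q * a) * h2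

theorem Mat_det (a c : F) : (Mat q a c).det = 1 := by
  have h2 := hFq.two
  rw [Matrix.det_fin_three]
  simp [Mat]
  linear_combination (c - a ^ q * a) * h2

theorem Mat_mul (a c a' c' : F) :
    Mat q a c * Mat q a' c' = Mat q (a + a') (c + c' + a ^ q * a') := by
  have h2 := hFq.two
  ext i j
  fin_cases i <;> fin_cases j <;>
    simp [Mat, Matrix.mul_apply, Fin.sum_univ_three, hFq.add_pow]
  · linear_combination (c * c') * h2
  · linear_combination (c * c') * h2
  · linear_combination (c * a' ^ q) * h2
  · linear_combination (c * c') * h2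
  · linear_combination (c * c') * h2
  · linear_combination (c * a' ^ q) * h2
  · linear_combination (a * c') * h2
  · linear_combination (a * c') * h2
  · linear_combination (a * a' ^ q) * h2

end

theorem Mat_injective {a c a' c' : F} (h : Mat q a c = Mat q a' c') : a = a' ∧ c = c' := by
  constructor
  · have := congrFun (congrFun h 2) 0
    simpa [Mat] using this
  · have := congrFun (congrFun h 0) 1
    simpa [Mat] using this

variable [Fintype F]

/-- The embedding into `SU₃(q)`. -/
noncomputable def iota (hF : Fintype.card F = q ^ 2) [IsFq2 F q] : U F q →* Cfsg.SU 3 F q :=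
  MonoidHom.mk' (fun p => Cfsg.Agent.Helper8.SUCenter.mkSU hF (Mat q p.1.1 p.1.2)
      (Mat_unitary p.2) (Mat_det _ _)) (by
    intro p r
    apply Subtype.ext
    apply Subtype.ext
    exact (Mat_mul p.1.1 p.1.2 r.1.1 r.1.2).symm)

theorem iota_injective (hF : Fintype.card F = q ^ 2) [IsFq2 F q] :
    Function.Injective (iota hF) := by
  intro p r h
  have h1 : Mat q p.1.1 p.1.2 = Mat q r.1.1 r.1.2 := by
    have := congrArg (fun x : Cfsg.SU 3 F q =>
      ((x : Matrix.SpecialLinearGroup (Fin 3) F) : Matrix (Fin 3) (Fin 3) F)) h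
    exact this
  obtain ⟨h2, h3⟩ := Mat_injective h1
  exact U.ext h2 h3

end Cfsg.Agent.Helper2.U3q
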