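import Mathlib
import Cfsg.Prelude.Def_Classical
import Cfsg.Prelude.Def_LieRecognition
import Cfsg.Agent.Helper2.U3qD
import Cfsg.Agent.Helper2.U34C
import Cfsg.Agent.Helper8.SUCenter
import Cfsg.Agent.Helper8.GUOrder

set_option autoImplicit false

/-!
The Sylow 2-subgroups of `PSU₃(2ⁿ)`.
-/

namespace Cfsg.Agent.Helper2.U3q

open Matrix

variable {F : Type*} [Field F] [Fintype F] {q : ℕ}

theorem card_SU3 (hF : Fintype.card F = q ^ 2) :
    Nat.card (Cfsg.SU 3 F q) = q ^ 3 * ((q ^ 2 - 1) * (q ^ 3 + 1)) := by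
  have h1 := Cfsg.Agent.Helper8.GUOrder.card_SU (n := 3) hF (by norm_num)
  rw [Cfsg.Agent.Helper8.GUOrder.card_GU hF 3] at h1
  have h2 : (q ^ (3 * (3 - 1) / 2) *
      ∏ i ∈ Finset.range 3, (if Even i then q ^ (i + 1) + 1 else q ^ (i + 1) - 1) : ℕ) =
      (q + 1) * (q ^ 3 * ((q ^ 2 - 1) * (q ^ 3 + 1))) := by
    have e1 : ¬ Even 1 := by decide
    have e2 : Even 2 := by decide
    simp only [Finset.prod_range_succ, Finset.prod_range_zero, Even.zero, if_true, e1, if_false, e2]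
    norm_num
    ring
  rw [h2] at h1
  exact Nat.eq_of_mul_eq_mul_left (by omega) h1

variable {n : ℕ}

theorem odd_part (hn : 1 ≤ n) : ¬ 2 ∣ ((2 ^ n) ^ 2 - 1) * ((2 ^ n) ^ 3 + 1) := by
  have h1 : 2 ∣ 2 ^ n := dvd_pow_self 2 (by omega)
  obtain ⟨k, hk⟩ := h1
  have hk0 : 0 < k := by
    rcases Nat.eq_zero_or_pos k with h | h
    · rw [h, mul_zero] at hk
      have := Nat.pos_of_ne_zero (pow_ne_zero n (by norm_num : (2 : ℕ) ≠ 0))
      omega
    · exact h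
  rw [hk]
  intro h
  rcases (Nat.Prime.dvd_mul Nat.prime_two).mp h with h | h
  · have h3 : (2 * k) ^ 2 = 2 * (2 * k * k) := by ring
    have h4 : 0 < 2 * k * k := by positivity
    rw [h3] at h
    omega
  · have h3 : (2 * k) ^ 3 = 2 * (4 * k * k * k) := by ring
    rw [h3] at h
    omega

theorem card_center_odd (hF : Fintype.card F = (2 ^ n) ^ 2) :
    ¬ 2 ∣ Nat.card (Subgroup.center (Cfsg.SU 3 F (2 ^ n))) := by
  rw [Cfsg.Agent.Helper8.SUCenter.card_center hF (by norm_num)]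
  intro h
  have h3 : 2 ∣ 3 := h.trans (Nat.gcd_dvd_left 3 _)
  omega

theorem factorization_PSU (hn : 1 ≤ n) (hF : Fintype.card F = (2 ^ n) ^ 2) :
    (Nat.card (Cfsg.PSU 3 F (2 ^ n))).factorization 2 = n * 3 := by
  have h1 := Subgroup.card_eq_card_quotient_mul_card_subgroup
    (Subgroup.center (Cfsg.SU 3 F (2 ^ n)))
  rw [card_SU3 hF] at h1
  have hz := card_center_odd hF
  have hm := odd_part hn
  have hz0 : Nat.card (Subgroup.center (Cfsg.SU 3 F (2 ^ n))) ≠ 0 := by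
    intro h
    rw [h] at hz
    exact hz (dvd_zero 2)
  have hm0 : ((2 ^ n) ^ 2 - 1) * ((2 ^ n) ^ 3 + 1) ≠ 0 := by
    intro h
    rw [h] at hm
    exact hm (dvd_zero 2)
  have hP0 : Nat.card (Cfsg.PSU 3 F (2 ^ n)) ≠ 0 := by
    intro h
    have h5 : Nat.card (Cfsg.SU 3 F (2 ^ n) ⧸ Subgroup.center (Cfsg.SU 3 F (2 ^ n))) = 0 := h
    rw [h5, zero_mul] at h1
    have : (2 ^ n) ^ 3 ≠ 0 := by positivity
    exact (mul_ne_zero this hm0) h1
  have h2 : (((2 ^ n) ^ 3 * (((2 ^ n) ^ 2 - 1) * ((2 ^ n) ^ 3 + 1)))).factorization 2 =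
      (Nat.card (Cfsg.SU 3 F (2 ^ n) ⧸ Subgroup.center (Cfsg.SU 3 F (2 ^ n))) *
        Nat.card (Subgroup.center (Cfsg.SU 3 F (2 ^ n)))).factorization 2 := by
    rw [h1]
  have hP0' : Nat.card (Cfsg.SU 3 F (2 ^ n) ⧸ Subgroup.center (Cfsg.SU 3 F (2 ^ n))) ≠ 0 := hP0
  rw [Nat.factorization_mul (by positivity) hm0, Nat.factorization_mul hP0' hz0,
    Finsupp.add_apply, Finsupp.add_apply, Nat.factorization_eq_zero_of_not_dvd hm,
    Nat.factorization_eq_zero_of_not_dvd hz, ← pow_mul,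
    Nat.Prime.factorization_pow Nat.prime_two, Finsupp.single_eq_same] at h2
  change (Nat.card (Cfsg.SU 3 F (2 ^ n) ⧸ Subgroup.center (Cfsg.SU 3 F (2 ^ n)))).factorization 2 = _
  omega

theorem card_sylow (hn : 1 ≤ n) (hF : Fintype.card F = (2 ^ n) ^ 2)
    (hfin : Finite (Cfsg.PSU 3 F (2 ^ n))) (S : Sylow 2 (Cfsg.PSU 3 F (2 ^ n))) :
    Nat.card S = (2 ^ n) ^ 3 := by
  rw [Sylow.card_eq_multiplicity, factorization_PSU hn hF, pow_mul]

/-- Every Sylow 2-subgroup of `PSU₃(2ⁿ)` is isomorphic to the abstract group. -/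
theorem equiv_sylow (hn : 1 ≤ n) (hF : Fintype.card F = (2 ^ n) ^ 2) [IsFq2 F (2 ^ n)]
    (S : Sylow 2 (Cfsg.PSU 3 F (2 ^ n))) :
    Nonempty (U F (2 ^ n) ≃* ↥(S : Subgroup (Cfsg.PSU 3 F (2 ^ n)))) := by
  have hfinSU : Finite (Cfsg.SU 3 F (2 ^ n)) := inferInstance
  have hfin : Finite (Cfsg.PSU 3 F (2 ^ n)) := by
    change Finite (Cfsg.SU 3 F (2 ^ n) ⧸ Subgroup.center (Cfsg.SU 3 F (2 ^ n)))
    infer_instance
  let f : U F (2 ^ n) →* Cfsg.PSU 3 F (2 ^ n) :=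
    (QuotientGroup.mk' (Subgroup.center (Cfsg.SU 3 F (2 ^ n)))).comp (iota hF)
  have hcardU := card_U hF
  haveI hfinU : Finite (U F (2 ^ n)) := Nat.finite_of_card_ne_zero (by rw [hcardU]; positivity)
  have hf : Function.Injective f := by
    rw [injective_iff_map_eq_one]
    intro x hx
    have hx' : iota hF x ∈ Subgroup.center (Cfsg.SU 3 F (2 ^ n)) := by
      have : (QuotientGroup.mk' (Subgroup.center (Cfsg.SU 3 F (2 ^ n)))) (iota hF x) = 1 := hx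
      rwa [QuotientGroup.mk'_apply, QuotientGroup.eq_one_iff] at this
    have h1 : (iota hF x) ^ Nat.card (Subgroup.center (Cfsg.SU 3 F (2 ^ n))) = 1 := by
      have := pow_card_eq_one' (G := Subgroup.center (Cfsg.SU 3 F (2 ^ n))) (x := ⟨iota hF x, hx'⟩)
      exact congrArg Subtype.val this
    have h2 : (iota hF x) ^ ((2 ^ n) ^ 3) = 1 := by
      rw [← map_pow, ← hcardU, pow_card_eq_one', map_one]
    have h3 := pow_gcd_eq_one.mpr ⟨h1, h2⟩
    have hcop : Nat.gcd (Nat.card (Subgroup.center (Cfsg.SU 3 F (2 ^ n)))) ((2 ^ n) ^ 3) = 1 := by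
      rw [← pow_mul]
      apply Nat.Coprime.pow_right
      rw [Nat.coprime_comm, Nat.Prime.coprime_iff_not_dvd Nat.prime_two]
      exact card_center_odd hF
    rw [hcop, pow_one] at h3
    exact (iota_injective hF) (h3.trans (map_one _).symm)
  let e₁ : U F (2 ^ n) ≃* f.range := MonoidHom.ofInjective hf
  have hcardV : Nat.card f.range = (2 ^ n) ^ 3 := by
    rw [← Nat.card_congr e₁.toEquiv, hcardU]
  have hpV : IsPGroup 2 f.range := IsPGroup.of_card (n := n * 3) (by rw [hcardV, pow_mul])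
  obtain ⟨P, hVP⟩ := hpV.exists_le_sylow
  have hVP' : f.range = (P : Subgroup (Cfsg.PSU 3 F (2 ^ n))) :=
    Subgroup.eq_of_le_of_card_ge hVP (by rw [hcardV, card_sylow hn hF hfin P])
  obtain ⟨g, hg⟩ := MulAction.exists_smul_eq (Cfsg.PSU 3 F (2 ^ n)) P S
  let e₂ : f.range ≃* (P : Subgroup (Cfsg.PSU 3 F (2 ^ n))) := MulEquiv.subgroupCongr hVP'
  let e₃ : (P : Subgroup (Cfsg.PSU 3 F (2 ^ n))) ≃* ((g • P : Sylow 2 (Cfsg.PSU 3 F (2 ^ n))) :
      Subgroup (Cfsg.PSU 3 F (2 ^ n))) := Sylow.equivSMul P g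
  let e₄ : ((g • P : Sylow 2 (Cfsg.PSU 3 F (2 ^ n))) : Subgroup (Cfsg.PSU 3 F (2 ^ n))) ≃*
      (S : Subgroup (Cfsg.PSU 3 F (2 ^ n))) := MulEquiv.subgroupCongr (congrArg Sylow.toSubgroup hg)
  exact ⟨((e₁.trans e₂).trans e₃).trans e₄⟩

/-- The structure of a Sylow 2-subgroup of `PSU₃(2ⁿ)`. -/
theorem main (hn : 2 ≤ n) (hF : Fintype.card F = (2 ^ n) ^ 2)
    (S : Sylow 2 (Cfsg.PSU 3 F (2 ^ n))) :
    Nat.card S = (2 ^ n) ^ 3 ∧
      Nat.card (Subgroup.center ↥(S : Subgroup (Cfsg.PSU 3 F (2 ^ n)))) = 2 ^ n ∧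
      Cfsg.IsSuzukiTwoGroup ↥(S : Subgroup (Cfsg.PSU 3 F (2 ^ n))) := by
  haveI := isFq2_of_card (by omega : 1 ≤ n) hF
  obtain ⟨e⟩ := equiv_sylow (by omega) hF S
  refine ⟨?_, ?_, ?_⟩
  · rw [← Nat.card_congr e.toEquiv, card_U hF]
  · have h1 := card_center (q := 2 ^ n) hF
    refine Eq.trans ?_ h1
    exact (Nat.card_congr (Equiv.subtypeEquiv e.toEquiv
      (fun z => (Cfsg.Agent.Helper2.U34.mem_center_equiv e z).symm))).symm
  · exact isSuzuki_of_equiv e.symm (isSuzuki_U hn hF)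

end Cfsg.Agent.Helper2.U3q
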