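import Mathlib
import Cfsg.Agent.Helper2.U3qA
import Cfsg.Agent.Helper8.GUOrder

set_option autoImplicit false

/-!
Field-theoretic core: an additive involution `A` of the field with `q²` elements which is compatible
with the norm `a ↦ a^q a` up to an additive involution `B` of the fixed field is semilinear over the
fixed field.
-/

namespace Cfsg.Agent.Helper2.U3q

variable {F : Type*} [Field F] {q : ℕ}

/-- Membership in the fixed field. -/
def Fq (q : ℕ) (a : F) : Prop := a ^ q = a

/-- The norm. -/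
def Nm (q : ℕ) (a : F) : F := a ^ q * a

/-- The polar form of the norm. -/
def Bt (q : ℕ) (a b : F) : F := a ^ q * b + a * b ^ q

section
variable [hFq : IsFq2 F q]

theorem Fq_zero : Fq q (0 : F) := zero_pow_q

omit hFq in
theorem Fq_one : Fq q (1 : F) := one_pow q

theorem Fq_add {a b : F} (ha : Fq q a) (hb : Fq q b) : Fq q (a + b) := by
  unfold Fq at *
  rw [hFq.add_pow, ha, hb]

omit hFq in
theorem Fq_mul {a b : F} (ha : Fq q a) (hb : Fq q b) : Fq q (a * b) := by
  unfold Fq at *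
  rw [mul_pow, ha, hb]

omit hFq in
theorem Fq_inv {a : F} (ha : Fq q a) : Fq q a⁻¹ := by
  unfold Fq at *
  rw [inv_pow, ha]

omit hFq in
theorem Fq_div {a b : F} (ha : Fq q a) (hb : Fq q b) : Fq q (a / b) := by
  unfold Fq at *
  rw [div_pow, ha, hb]

omit hFq in
theorem Fq_pow {a : F} (ha : Fq q a) (k : ℕ) : Fq q (a ^ k) := by
  unfold Fq at *
  rw [← pow_mul, mul_comm, pow_mul, ha]

theorem Nm_fix (a : F) : Fq q (Nm q a) := by
  unfold Fq Nm
  rw [mul_pow, hFq.pow_pow]
  ring

theorem Bt_fix (a b : F) : Fq q (Bt q a b) := by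
  unfold Fq Bt
  rw [hFq.add_pow, mul_pow, mul_pow, hFq.pow_pow, hFq.pow_pow]
  ring

theorem Nm_add (a b : F) : Nm q (a + b) = Nm q a + Nm q b + Bt q a b := by
  unfold Nm Bt
  rw [hFq.add_pow]
  ring

omit hFq in
theorem Nm_eq_zero {a : F} (h : Nm q a = 0) : a = 0 := by
  unfold Nm at h
  rcases mul_eq_zero.mp h with h | h
  · by_contra ha
    exact pow_ne_zero q ha h
  · exact h

omit hFq in
theorem Nm_smul {l : F} (hl : Fq q l) (a : F) : Nm q (l * a) = l * l * Nm q a := by
  unfold Nm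
  unfold Fq at hl
  rw [mul_pow, hl]
  ring

omit hFq in
theorem Bt_smul_right {l : F} (hl : Fq q l) (a b : F) : Bt q a (l * b) = l * Bt q a b := by
  unfold Bt
  unfold Fq at hl
  rw [mul_pow, hl]
  ring

theorem Bt_line {a b : F} (ha : a ≠ 0) : Bt q a b = 0 ↔ Fq q (b / a) := by
  have h2 := hFq.two
  unfold Bt Fq
  rw [div_pow, div_eq_div_iff (pow_ne_zero _ ha) ha]
  constructor
  · intro h
    linear_combination h - (a ^ q * b) * h2
  · intro h
    linear_combination h + (a ^ q * b) * h2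

/-- Independence over the fixed field. -/
theorem indep_Fq {a b : F} (ha : a ≠ 0) (hab : ¬ Fq q (b / a)) {c₁ c₂ : F} (h₁ : Fq q c₁)
    (h₂ : Fq q c₂) (h : c₁ * a + c₂ * b = 0) : c₁ = 0 ∧ c₂ = 0 := by
  have h2 := hFq.two
  have hc2 : c₂ = 0 := by
    by_contra hc2
    apply hab
    have : b / a = c₁ / c₂ := by
      rw [div_eq_div_iff ha hc2]
      linear_combination h - (c₁ * a) * h2
    rw [this]
    exact Fq_div h₁ h₂
  refine ⟨?_, hc2⟩
  rw [hc2, zero_mul, add_zero] at h
  rcases mul_eq_zero.mp h with h | h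
  · exact h
  · exact absurd h ha

end

/-- The hypotheses on the pair `(A, B)`. -/
structure SemiPair (q : ℕ) (A B : F → F) : Prop where
  A_add : ∀ a b, A (a + b) = A a + A b
  AA : ∀ a, A (A a) = a
  B_fix : ∀ c, Fq q c → Fq q (B c)
  B_add : ∀ c c', Fq q c → Fq q c' → B (c + c') = B c + B c'
  BB : ∀ c, Fq q c → B (B c) = c
  N : ∀ a, Nm q (A a) = B (Nm q a)

namespace SemiPair

variable [hFq : IsFq2 F q] {A B : F → F} (h : SemiPair q A B)
include h

omit hFq in
theorem A_zero : A 0 = 0 := by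
  have := h.A_add 0 0
  rw [add_zero] at this
  exact left_eq_add.mp this

omit hFq in
theorem A_inj {a b : F} (hab : A a = A b) : a = b := by
  rw [← h.AA a, ← h.AA b, hab]

omit hFq in
theorem A_ne_zero {a : F} (ha : a ≠ 0) : A a ≠ 0 := by
  intro h0
  apply ha
  apply h.A_inj
  rw [h0, h.A_zero]

theorem B_zero : B 0 = 0 := by
  have := h.B_add 0 0 Fq_zero Fq_zero
  rw [add_zero] at this
  exact left_eq_add.mp this

theorem B_eq_zero {c : F} (hc : Fq q c) (h0 : B c = 0) : c = 0 := by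
  rw [← h.BB c hc, h0, h.B_zero]

theorem Bt_compat (a b : F) : Bt q (A a) (A b) = B (Bt q a b) := by
  have h1 := h.N (a + b)
  rw [h.A_add, Nm_add, Nm_add, h.B_add _ _ (Fq_add (Nm_fix a) (Nm_fix b)) (Bt_fix a b),
    h.B_add _ _ (Nm_fix a) (Nm_fix b), h.N a, h.N b] at h1
  exact add_left_cancel h1

theorem A_line {a b : F} (ha : a ≠ 0) : Fq q (A b / A a) ↔ Fq q (b / a) := by
  rw [← Bt_line ha, ← Bt_line (h.A_ne_zero ha), h.Bt_compat]
  constructor
  · intro h0
    exact h.B_eq_zero (Bt_fix a b) h0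
  · intro h0
    rw [h0, h.B_zero]

/-- The multiplier along the line through `a`. -/
theorem m_spec {a l : F} (ha : a ≠ 0) (hl : Fq q l) :
    ∃ m : F, Fq q m ∧ A (l * a) = m * A a ∧ m = A (l * a) / A a := by
  refine ⟨A (l * a) / A a, ?_, (div_mul_cancel₀ _ (h.A_ne_zero ha)).symm, rfl⟩
  rw [h.A_line ha, mul_div_assoc, div_self ha, mul_one]
  exact hl

theorem m_indep {a b l : F} (ha : a ≠ 0) (hb : b ≠ 0) (hab : ¬ Fq q (b / a)) (hl : Fq q l) :
    A (l * a) / A a = A (l * b) / A b := by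
  have h2 := hFq.two
  have hsum0 : a + b ≠ 0 := by
    intro h0
    apply hab
    have : b = a := by linear_combination h0 - a * h2
    rw [this, div_self ha]
    exact Fq_one
  obtain ⟨ma, fa, ea, da⟩ := h.m_spec ha hl
  obtain ⟨mb, fb, eb, db⟩ := h.m_spec hb hl
  obtain ⟨ms, fs, es, ds⟩ := h.m_spec hsum0 hl
  have hAab : ¬ Fq q (A b / A a) := by
    rw [h.A_line ha]
    exact hab
  have key : (ms - ma) * A a + (ms - mb) * A b = 0 := by
    have e1 : A (l * (a + b)) = A (l * a) + A (l * b) := by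
      rw [mul_add, h.A_add]
    have e2 : A (a + b) = A a + A b := h.A_add a b
    linear_combination (-1 : F) * es - ms * e2 + e1 + ea + eb
  have hneg : ∀ x y : F, Fq q x → Fq q y → Fq q (x - y) := by
    intro x y hx hy
    have : x - y = x + y := by linear_combination (-y) * h2
    rw [this]
    exact Fq_add hx hy
  obtain ⟨k1, k2⟩ := indep_Fq (h.A_ne_zero ha) hAab (hneg _ _ fs fa) (hneg _ _ fs fb) key
  rw [sub_eq_zero] at k1 k2
  rw [← da, ← db, ← k1, ← k2]

end SemiPair

end Cfsg.Agent.Helper2.U3q
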