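import Mathlib
import Cfsg.Agent.Helper2.U3qG

set_option autoImplicit false

/-!
Artin–Schreier over the fixed field of an involution, and the conclusion that `B` is the identity.
-/

namespace Cfsg.Agent.Helper2.U3q

variable {F : Type*} [Field F] {q : ℕ}

/-- Artin–Schreier: if `μ` is an involutory automorphism of the fixed field `Fq` moving some
element, every element fixed by `μ` is of the form `y² + y` with `y ∈ Fq`. -/
theorem artin_schreier [Finite F] [hFq : IsFq2 F q] (μ : F → F)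
    (mfix : ∀ l, Fq q l → Fq q (μ l)) (madd : ∀ l l', μ (l + l') = μ l + μ l')
    (mmul : ∀ l l', Fq q l → μ (l * l') = μ l * μ l') (mone : μ 1 = 1)
    (mm : ∀ l, Fq q l → μ (μ l) = l) (l₀ : F) (hl₀ : Fq q l₀) (hne : μ l₀ ≠ l₀)
    (v : F) (hv : Fq q v) (hμv : μ v = v) : ∃ y, Fq q y ∧ y * y + y = v := by
  have h2 := hFq.two
  have mzero : μ 0 = 0 := by
    have := madd 0 0
    rw [add_zero] at this
    exact left_eq_add.mp this
  -- the element y₀ with μ y₀ = y₀ + 1
  obtain ⟨d, hd⟩ : ∃ d : F, d = μ l₀ + l₀ := ⟨_, rfl⟩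
  have hd0 : d ≠ 0 := by
    intro h0
    apply hne
    rw [hd] at h0
    linear_combination h0 - l₀ * h2
  have hdq : Fq q d := by rw [hd]; exact Fq_add (mfix _ hl₀) hl₀
  have hμd : μ d = d := by
    rw [hd, madd, mm _ hl₀]
    ring
  have hμdi : μ d⁻¹ = d⁻¹ := by
    have h1 : μ (d * d⁻¹) = μ d * μ d⁻¹ := mmul _ _ hdq
    rw [mul_inv_cancel₀ hd0, mone, hμd] at h1
    exact (eq_inv_of_mul_eq_one_right h1.symm)
  obtain ⟨y₀, hy₀⟩ : ∃ y₀ : F, y₀ = l₀ * d⁻¹ := ⟨_, rfl⟩
  have hy₀q : Fq q y₀ := by rw [hy₀]; exact Fq_mul hl₀ (Fq_inv hdq)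
  have hμy₀ : μ y₀ = y₀ + 1 := by
    rw [hy₀, mmul _ _ hl₀, hμdi]
    have : (μ l₀ + l₀) * d⁻¹ = 1 := by rw [← hd, mul_inv_cancel₀ hd0]
    linear_combination this - (l₀ * d⁻¹) * h2
  -- the subgroup k
  let k : AddSubgroup F :=
    { carrier := {x | Fq q x ∧ μ x = x}
      zero_mem' := ⟨Fq_zero, mzero⟩
      add_mem' := by
        rintro a b ⟨ha, ha'⟩ ⟨hb, hb'⟩
        exact ⟨Fq_add ha hb, by rw [madd, ha', hb']⟩
      neg_mem' := by
        rintro a ⟨ha, ha'⟩
        have : -a = a := by linear_combination (-a) * h2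
        rw [Set.mem_setOf_eq, this]
        exact ⟨ha, ha'⟩ }
  have hk : ∀ x : F, x ∈ k ↔ (Fq q x ∧ μ x = x) := fun x => Iff.rfl
  have hsq : ∀ x : F, x ∈ k → x * x + x ∈ k := by
    rintro x ⟨hx, hx'⟩
    refine ⟨Fq_add (Fq_mul hx hx) hx, ?_⟩
    rw [madd, mmul _ _ hx, hx']
  let wp : k →+ k :=
    { toFun := fun x => ⟨x.1 * x.1 + x.1, hsq x.1 x.2⟩
      map_zero' := by
        apply Subtype.ext
        change (0 : F) * 0 + 0 = 0
        ring
      map_add' := by
        intro a b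
        apply Subtype.ext
        change (a.1 + b.1) * (a.1 + b.1) + (a.1 + b.1) = (a.1 * a.1 + a.1) + (b.1 * b.1 + b.1)
        linear_combination (a.1 * b.1) * h2 }
  have hwp : ∀ x : k, (wp x).1 = x.1 * x.1 + x.1 := fun x => rfl
  have h1k : (1 : F) ∈ k := ⟨Fq_one, mone⟩
  have hker : Nat.card wp.ker = 2 := by
    rw [Nat.card_eq_two_iff]
    refine ⟨0, ⟨⟨1, h1k⟩, ?_⟩, ?_, ?_⟩
    · rw [AddMonoidHom.mem_ker]
      apply Subtype.ext
      rw [hwp]
      change (1 : F) * 1 + 1 = 0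
      linear_combination h2
    · intro h
      have := congrArg (fun x : wp.ker => (x.1.1 : F)) h
      simp at this
    · ext x
      simp only [Set.mem_insert_iff, Set.mem_singleton_iff, Set.mem_univ, iff_true]
      have hx := x.2
      rw [AddMonoidHom.mem_ker] at hx
      have hx' := congrArg Subtype.val hx
      rw [hwp] at hx'
      change x.1.1 * x.1.1 + x.1.1 = 0 at hx'
      have : x.1.1 * (x.1.1 + 1) = 0 := by linear_combination hx'
      rcases mul_eq_zero.mp this with h | h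
      · left
        apply Subtype.ext
        apply Subtype.ext
        exact h
      · right
        apply Subtype.ext
        apply Subtype.ext
        change x.1.1 = 1
        linear_combination h - h2
  have hidx : wp.range.index = 2 := by
    have e1 := AddSubgroup.card_mul_index wp.ker
    have e2 := AddSubgroup.card_mul_index wp.range
    rw [AddSubgroup.index_ker, hker] at e1
    have hpos : 0 < Nat.card wp.range := Nat.card_pos
    have : Nat.card wp.range * wp.range.index = Nat.card wp.range * 2 := by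
      rw [e2, ← e1, mul_comm]
    exact Nat.eq_of_mul_eq_mul_left hpos this
  -- p₀
  have hp₀k : y₀ * y₀ + y₀ ∈ k := by
    refine ⟨Fq_add (Fq_mul hy₀q hy₀q) hy₀q, ?_⟩
    rw [madd, mmul _ _ hy₀q, hμy₀]
    linear_combination (y₀ + 1) * h2
  have hp₀ : (⟨y₀ * y₀ + y₀, hp₀k⟩ : k) ∉ wp.range := by
    rintro ⟨y₁, hy₁⟩
    have e := congrArg Subtype.val hy₁
    rw [hwp] at e
    change y₁.1 * y₁.1 + y₁.1 = y₀ * y₀ + y₀ at e
    have : (y₀ + y₁.1) * (y₀ + y₁.1 + 1) = 0 := by
      linear_combination e + (y₀ * y₀ + y₀ * y₁.1 + y₀) * h2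
    have hy₀k : y₀ ∈ k := by
      rcases mul_eq_zero.mp this with h | h
      · have : y₀ = y₁.1 := by linear_combination h - y₁.1 * h2
        rw [this]
        exact y₁.2
      · have : y₀ = y₁.1 + 1 := by linear_combination h - (y₁.1 + 1) * h2
        rw [this]
        exact k.add_mem y₁.2 h1k
    have h3 := hy₀k.2
    rw [hμy₀] at h3
    have : (1 : F) = 0 := by linear_combination h3
    exact one_ne_zero this
  -- conclusion
  have hvk : v ∈ k := ⟨hv, hμv⟩
  by_cases hvr : (⟨v, hvk⟩ : k) ∈ wp.range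
  · obtain ⟨y, hy⟩ := hvr
    refine ⟨y.1, y.2.1, ?_⟩
    have e := congrArg Subtype.val hy
    rw [hwp] at e
    exact e
  · have hsum : (⟨v, hvk⟩ : k) + ⟨y₀ * y₀ + y₀, hp₀k⟩ ∈ wp.range := by
      rw [AddSubgroup.add_mem_iff_of_index_two hidx]
      exact ⟨fun h => absurd h hvr, fun h => absurd h hp₀⟩
    obtain ⟨y, hy⟩ := hsum
    refine ⟨y.1 + y₀, Fq_add y.2.1 hy₀q, ?_⟩
    have e := congrArg Subtype.val hy
    rw [hwp] at e
    change y.1 * y.1 + y.1 = v + (y₀ * y₀ + y₀) at e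
    linear_combination e + (y.1 * y₀ + y₀ * y₀ + y₀) * h2

end Cfsg.Agent.Helper2.U3q
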