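import Mathlib
import Cfsg.Agent.Helper2.U3qH

set_option autoImplicit false

/-!
Semilinearity of `A` and the conclusion `B = id` on the fixed field.
-/

namespace Cfsg.Agent.Helper2.U3q

variable {F : Type*} [Field F] {q : ℕ}

/-- The multiplier. -/
noncomputable def mu (A : F → F) (l : F) : F := A l / A 1

namespace SemiPair

variable [Fintype F] [hFq : IsFq2 F q] {A B : F → F} (h : SemiPair q A B)
  (hF : Fintype.card F = q ^ 2)
include h hF

theorem mu_spec {l : F} (hl : Fq q l) (a : F) : A (l * a) = mu A l * A a := by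
  by_cases ha : a = 0
  · rw [ha, mul_zero, h.A_zero, mul_zero]
  obtain ⟨m, fm, em, dm⟩ := h.m_spec ha hl
  have hm : m = mu A l := by
    unfold mu
    have h1 : ∀ b : F, b ≠ 0 → ¬ Fq q b → A (l * 1) / A 1 = A (l * b) / A b := by
      intro b hb hbq
      apply h.m_indep one_ne_zero hb _ hl
      rwa [div_one]
    by_cases haq : Fq q a
    · obtain ⟨θ, hθ⟩ := Cfsg.Agent.Helper8.GUOrder.exists_not_fixed hF
      have hθ0 : θ ≠ 0 := by
        intro h0
        apply hθ
        rw [h0]
        exact zero_pow_q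
      have e1 := h1 θ hθ0 hθ
      have hθa : ¬ Fq q (θ / a) := by
        intro hq
        apply hθ
        have : θ = θ / a * a := (div_mul_cancel₀ θ ha).symm
        have h3 := Fq_mul hq haq
        rw [← this] at h3
        exact h3
      have e2 := h.m_indep ha hθ0 hθa hl
      rw [mul_one] at e1
      rw [dm, e2, ← e1]
    · have e1 := h1 a ha haq
      rw [mul_one] at e1
      rw [dm, ← e1]
  rw [← hm]
  exact em

theorem mu_fix {l : F} (hl : Fq q l) : Fq q (mu A l) := by
  obtain ⟨m, fm, em, dm⟩ := h.m_spec one_ne_zero hl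
  rw [mul_one] at dm
  unfold mu
  rw [← dm]
  exact fm

omit hFq hF [Fintype F] in
theorem mu_add (l l' : F) : mu A (l + l') = mu A l + mu A l' := by
  unfold mu
  rw [h.A_add, add_div]

theorem mu_mul {l : F} (hl : Fq q l) (l' : F) : mu A (l * l') = mu A l * mu A l' := by
  unfold mu
  rw [h.mu_spec hF hl l']
  unfold mu
  rw [mul_div_assoc]

omit hFq hF [Fintype F] in
theorem mu_one : mu A 1 = 1 := by
  unfold mu
  exact div_self (h.A_ne_zero one_ne_zero)

theorem mu_mu {l : F} (hl : Fq q l) : mu A (mu A l) = l := by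
  have h1 := h.mu_spec hF hl 1
  rw [mul_one] at h1
  have h2 := h.mu_spec hF (h.mu_fix hF hl) (A 1)
  rw [← h1, h.AA, h.AA, mul_one] at h2
  exact h2.symm

theorem B_semi_sq {l z : F} (hl : Fq q l) (hz : Fq q z) :
    B (l * l * z) = mu A l * mu A l * B z := by
  by_cases hz0 : z = 0
  · rw [hz0, mul_zero, h.B_zero, mul_zero]
  obtain ⟨a, ha⟩ := Cfsg.Agent.Helper8.GUOrder.exists_norm hF hz0 hz
  have hN : Nm q a = z := by
    unfold Nm
    rw [mul_comm]
    exact ha
  rw [← hN, ← Nm_smul hl, ← h.N, h.mu_spec hF hl, Nm_smul (h.mu_fix hF hl), h.N]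

theorem B_semi {k : ℕ} (hq : q = 2 * k) {l z : F} (hl : Fq q l) (hz : Fq q z) :
    B (l * z) = mu A l * B z := by
  have hr : Fq q (l ^ k) := Fq_pow hl k
  have hrr : l ^ k * l ^ k = l := by
    rw [← pow_add, ← two_mul, ← hq]
    exact hl
  have h1 := h.B_semi_sq hF hr hz
  rw [← h.mu_mul hF hr, hrr] at h1
  exact h1

/-- The main algebraic conclusion. -/
theorem B_eq_id {k : ℕ} (hq : q = 2 * k) {c : F} (hc : Fq q c) : B c = c := by
  have h2 := hFq.two
  by_cases hmu : ∀ l, Fq q l → mu A l = l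
  · -- linear case
    have hb := h.B_fix 1 Fq_one
    have h1 : B (B 1) = B 1 * B 1 := by
      have := h.B_semi hF hq hb Fq_one
      rw [mul_one, hmu _ hb] at this
      exact this
    rw [h.BB 1 Fq_one] at h1
    have h3 : (B 1 - 1) ^ 2 = 0 := by linear_combination (-1 : F) * h1 + (1 - B 1) * h2
    have h4 : B 1 = 1 := by
      have := pow_eq_zero_iff (by norm_num) |>.mp h3
      linear_combination this
    have := h.B_semi hF hq hc Fq_one
    rw [mul_one, hmu _ hc, h4, mul_one] at this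
    exact this
  · exfalso
    push Not at hmu
    obtain ⟨l₀, hl₀, hne⟩ := hmu
    -- two independent fixed vectors
    have hex1 : ∃ v, v + A v ≠ 0 := by
      by_contra hcon
      push Not at hcon
      apply hne
      have hA : ∀ v, A v = v := by
        intro v
        linear_combination hcon v - v * h2
      unfold mu
      rw [hA, hA, div_one]
    obtain ⟨v₁, hv₁⟩ := hex1
    obtain ⟨w₁, hw₁⟩ : ∃ w₁ : F, w₁ = v₁ + A v₁ := ⟨_, rfl⟩
    have hw₁0 : w₁ ≠ 0 := by rw [hw₁]; exact hv₁
    have hAw₁ : A w₁ = w₁ := by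
      rw [hw₁, h.A_add, h.AA]
      ring
    have hex2 : ∃ w₂, A w₂ = w₂ ∧ ¬ Fq q (w₂ / w₁) := by
      by_contra hcon
      push Not at hcon
      have hd0 : mu A l₀ - l₀ ≠ 0 := sub_ne_zero.mpr hne
      have hdq : Fq q (mu A l₀ - l₀) := by
        have : mu A l₀ - l₀ = mu A l₀ + l₀ := by linear_combination (-l₀) * h2
        rw [this]
        exact Fq_add (h.mu_fix hF hl₀) hl₀
      have hall : ∀ v, Fq q (A v / w₁) := by
        intro v
        have e1 : A (v + A v) = v + A v := by
          rw [h.A_add, h.AA]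
          ring
        have e2 : A (l₀ * v + A (l₀ * v)) = l₀ * v + A (l₀ * v) := by
          rw [h.A_add, h.AA]
          ring
        have f1 := hcon _ e1
        have f2 := hcon _ e2
        rw [h.mu_spec hF hl₀] at f2
        have f3 := Fq_mul hl₀ f1
        have f4 := Fq_add f2 f3
        have : (l₀ * v + mu A l₀ * A v) / w₁ + l₀ * ((v + A v) / w₁) =
            (mu A l₀ - l₀) * (A v / w₁) := by
          field_simp
          linear_combination (l₀ * v + l₀ * A v) * h2
        rw [this] at f4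
        have f5 := Fq_mul (Fq_inv hdq) f4
        rwa [← mul_assoc, inv_mul_cancel₀ hd0, one_mul] at f5
      obtain ⟨θ, hθ⟩ := Cfsg.Agent.Helper8.GUOrder.exists_not_fixed hF
      have := hall (A (θ * w₁))
      rw [h.AA, mul_div_assoc, div_self hw₁0, mul_one] at this
      exact hθ this
    obtain ⟨w₂, hAw₂, hw₂⟩ := hex2
    -- the quadratic
    have hN1 : B (Nm q w₁) = Nm q w₁ := by rw [← h.N, hAw₁]
    have hN2 : B (Nm q w₂) = Nm q w₂ := by rw [← h.N, hAw₂]
    have hB12 : B (Bt q w₁ w₂) = Bt q w₁ w₂ := by rw [← h.Bt_compat, hAw₁, hAw₂]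
    have hN10 : Nm q w₁ ≠ 0 := fun h0 => hw₁0 (Nm_eq_zero h0)
    have hfixdiv : ∀ z, Fq q z → B z = z → mu A (z / Nm q w₁) = z / Nm q w₁ := by
      intro z hz hBz
      have hzq : Fq q (z / Nm q w₁) := Fq_div hz (Nm_fix w₁)
      have := h.B_semi hF hq hzq (Nm_fix w₁)
      rw [div_mul_cancel₀ z hN10, hBz, hN1] at this
      have h5 : z / Nm q w₁ * Nm q w₁ = mu A (z / Nm q w₁) * Nm q w₁ := by
        rw [div_mul_cancel₀ z hN10]
        exact this
      exact (mul_right_cancel₀ hN10 h5).symm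
    obtain ⟨t, ht⟩ : ∃ t : F, t = Bt q w₁ w₂ / Nm q w₁ := ⟨_, rfl⟩
    obtain ⟨u, hu⟩ : ∃ u : F, u = Nm q w₂ / Nm q w₁ := ⟨_, rfl⟩
    have htq : Fq q t := by rw [ht]; exact Fq_div (Bt_fix _ _) (Nm_fix _)
    have huq : Fq q u := by rw [hu]; exact Fq_div (Nm_fix _) (Nm_fix _)
    have hμt : mu A t = t := by rw [ht]; exact hfixdiv _ (Bt_fix _ _) hB12
    have hμu : mu A u = u := by rw [hu]; exact hfixdiv _ (Nm_fix _) hN2
    -- a root of x² + t x + u
    have hroot : ∃ x, Fq q x ∧ x * x + t * x + u = 0 := by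
      by_cases ht0 : t = 0
      · refine ⟨u ^ k, Fq_pow huq k, ?_⟩
        have : u ^ k * u ^ k = u := by
          rw [← pow_add, ← two_mul, ← hq]
          exact huq
        rw [ht0, this]
        linear_combination u * h2
      · have hvq : Fq q (u / (t * t)) := Fq_div huq (Fq_mul htq htq)
        have hμv : mu A (u / (t * t)) = u / (t * t) := by
          have hti : mu A (t * t)⁻¹ = (t * t)⁻¹ := by
            have e1 := h.mu_mul hF (Fq_mul htq htq) (t * t)⁻¹
            rw [mul_inv_cancel₀ (mul_ne_zero ht0 ht0), h.mu_one, h.mu_mul hF htq, hμt] at e1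
            exact eq_inv_of_mul_eq_one_right e1.symm
          rw [div_eq_mul_inv, h.mu_mul hF huq, hμu, hti]
        obtain ⟨y, hyq, hy⟩ := artin_schreier (mu A) (fun l hl => h.mu_fix hF hl) (h.mu_add)
          (fun l l' hl => h.mu_mul hF hl l') h.mu_one (fun l hl => h.mu_mu hF hl) l₀ hl₀ hne
          (u / (t * t)) hvq hμv
        refine ⟨t * y, Fq_mul htq hyq, ?_⟩
        have h7 : t * t * (y * y + y) = u := by
          rw [hy, mul_div_cancel₀ _ (mul_ne_zero ht0 ht0)]
        linear_combination h7 + u * h2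
    obtain ⟨x, hxq, hx⟩ := hroot
    have hNx : Nm q (x * w₁ + w₂) = 0 := by
      rw [Nm_add, Nm_smul hxq]
      have e1 : Bt q (x * w₁) w₂ = x * Bt q w₁ w₂ := by
        unfold Bt
        unfold Fq at hxq
        rw [mul_pow, hxq]
        ring
      rw [e1]
      have e2 : Bt q w₁ w₂ = t * Nm q w₁ := by rw [ht, div_mul_cancel₀ _ hN10]
      have e3 : Nm q w₂ = u * Nm q w₁ := by rw [hu, div_mul_cancel₀ _ hN10]
      rw [e2, e3]
      linear_combination (Nm q w₁) * hx
    have hz := Nm_eq_zero hNx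
    apply hw₂
    have : w₂ / w₁ = x := by
      rw [div_eq_iff hw₁0]
      linear_combination hz - (x * w₁) * h2
    rw [this]
    exact hxq

end SemiPair

end Cfsg.Agent.Helper2.U3q
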