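import Mathlib
import Cfsg.Prelude.Def_Classical
import Cfsg.Agent.Helper2.U3qE
import Cfsg.Agent.Helper2.U3qI

set_option autoImplicit false

/-!
An automorphism of the abstract Sylow 2-subgroup of `SU₃(q)` whose square is inner centralises the
centre; consequence for overgroups of index two.
-/

namespace Cfsg.Agent.Helper2.U3q

variable {F : Type*} [Field F] [Fintype F] {q : ℕ}

section
variable [hFq : IsFq2 F q] (hF : Fintype.card F = q ^ 2)
include hF

theorem aut_center (α : MulAut (U F q)) (x : U F q) (hx : x.1.1 = 0) : (α x).1.1 = 0 := by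
  rw [← mem_center_iff hF] at hx ⊢
  exact (Cfsg.Agent.Helper2.U34.mem_center_equiv α x).mpr hx

/-- The map induced on the Frattini quotient. -/
noncomputable def ind (α : MulAut (U F q)) (a : F) : F := (α (lift hF a)).1.1

theorem ind_spec (α : MulAut (U F q)) (x : U F q) : (α x).1.1 = ind hF α x.1.1 := by
  have hz : ((lift hF x.1.1)⁻¹ * x).1.1 = 0 := by
    rw [mul_fst, inv_fst, lift_fst, add_self q]
  have h := aut_center hF α _ hz
  rw [map_mul, mul_fst, map_inv, inv_fst] at h
  unfold ind
  have h2 := hFq.two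
  linear_combination h - (α (lift hF x.1.1)).1.1 * h2

theorem ind_add (α : MulAut (U F q)) (a b : F) :
    ind hF α (a + b) = ind hF α a + ind hF α b := by
  have h := ind_spec hF α (lift hF a * lift hF b)
  rw [map_mul, mul_fst, mul_fst, lift_fst, lift_fst] at h
  exact h.symm

theorem ind_comp (α β : MulAut (U F q)) (a : F) :
    ind hF (α * β) a = ind hF α (ind hF β a) := by
  change ((α * β) (lift hF a)).1.1 = _
  rw [MulAut.mul_apply, ind_spec hF α]
  rfl

theorem ind_conj (g : U F q) (a : F) : ind hF (MulAut.conj g) a = a := by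
  have h2 := hFq.two
  change (g * lift hF a * g⁻¹).1.1 = a
  rw [mul_fst, mul_fst, inv_fst, lift_fst]
  linear_combination g.1.1 * h2

omit hF in
/-- Central elements as `zel`. -/
theorem eq_zel (x : U F q) (hx : x.1.1 = 0) : x = zel x.1.2 (snd_fixed x hx) :=
  U.ext hx rfl

open Classical in
/-- The map induced on the centre. -/
noncomputable def indZ (α : MulAut (U F q)) (c : F) : F :=
  if hc : c ^ q = c then (α (zel c hc)).1.2 else 0

theorem indZ_fix (α : MulAut (U F q)) (c : F) (hc : c ^ q = c) : (indZ α c) ^ q = indZ α c := by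
  unfold indZ
  rw [dif_pos hc]
  exact snd_fixed _ (aut_center hF α _ rfl)

theorem indZ_spec (α : MulAut (U F q)) (c : F) (hc : c ^ q = c) :
    α (zel c hc) = zel (indZ α c) (indZ_fix hF α c hc) := by
  apply U.ext
  · rw [aut_center hF α _ rfl]
    rfl
  · change (α (zel c hc)).1.2 = indZ α c
    unfold indZ
    rw [dif_pos hc]

omit hF in
theorem zel_add (c c' : F) (hc : c ^ q = c) (hc' : c' ^ q = c') (hcc : (c + c') ^ q = c + c') :
    zel (c + c') hcc = zel c hc * zel c' hc' := by
  apply U.ext
  · rw [mul_fst, zel_fst, zel_fst, zel_fst, add_zero]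
  · rw [mul_snd, zel_snd, zel_snd, zel_snd, zel_fst, zero_pow_q, zero_mul, add_zero]

omit hF in
theorem zel_inj {c c' : F} {hc : c ^ q = c} {hc' : c' ^ q = c'} (h : zel c hc = zel c' hc') :
    c = c' := congrArg (fun x : U F q => x.1.2) h

/-- An automorphism whose square is inner gives a semilinear pair. -/
theorem semiPair_of_aut (τ : MulAut (U F q)) (g : U F q) (hτ : τ * τ = MulAut.conj g) :
    SemiPair q (ind hF τ) (indZ τ) where
  A_add := ind_add hF τ
  AA a := by rw [← ind_comp, hτ, ind_conj]
  B_fix c hc := indZ_fix hF τ c hc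
  B_add c c' hc0 hc0' := by
    have hc : c ^ q = c := hc0
    have hc' : c' ^ q = c' := hc0'
    have hcc : (c + c') ^ q = c + c' := Fq_add (q := q) hc hc'
    have h1 := indZ_spec hF τ (c + c') hcc
    have hbb : (indZ τ c + indZ τ c') ^ q = indZ τ c + indZ τ c' :=
      Fq_add (q := q) (indZ_fix hF τ c hc) (indZ_fix hF τ c' hc')
    rw [zel_add c c' hc hc' hcc, map_mul, indZ_spec hF τ c hc, indZ_spec hF τ c' hc',
      ← zel_add _ _ _ _ hbb] at h1
    exact (zel_inj h1).symm
  BB c hc0 := by
    have hc : c ^ q = c := hc0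
    have h1 := indZ_spec hF τ (indZ τ c) (indZ_fix hF τ c hc)
    rw [← indZ_spec hF τ c hc, ← MulAut.mul_apply, hτ] at h1
    have h2 : MulAut.conj g (zel c hc) = zel c hc := by
      have hcen : zel c hc ∈ Subgroup.center (U F q) := (mem_center_iff hF _).mpr rfl
      change g * zel c hc * g⁻¹ = zel c hc
      rw [Subgroup.mem_center_iff.mp hcen g, mul_inv_cancel_right]
    rw [h2] at h1
    exact (zel_inj h1).symm
  N a := by
    have hxx : lift hF a * lift hF a = zel (Nm q a) (Nm_fix a) := by
      apply U.ext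
      · rw [sq_fst]; rfl
      · rw [sq_snd, lift_fst]; rfl
    have h1 := indZ_spec hF τ (Nm q a) (Nm_fix a)
    rw [← hxx, map_mul] at h1
    have h2 := congrArg (fun x : U F q => x.1.2) h1
    simp only [sq_snd] at h2
    rw [zel_snd] at h2
    rw [ind_spec hF τ, lift_fst] at h2
    exact h2

/-- An automorphism whose square is inner centralises the centre. -/
theorem aut_sq_inner {k : ℕ} (hq : q = 2 * k) (τ : MulAut (U F q)) (g : U F q)
    (hτ : τ * τ = MulAut.conj g) (z : U F q) (hz : z ∈ Subgroup.center (U F q)) : τ z = z := by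
  have hz0 := (mem_center_iff hF z).mp hz
  have hp := semiPair_of_aut hF τ g hτ
  have hc := snd_fixed z hz0
  have h1 := hp.B_eq_id hF hq (c := z.1.2) hc
  rw [eq_zel z hz0, indZ_spec hF τ _ hc]
  apply U.ext
  · rfl
  · exact h1

end

end Cfsg.Agent.Helper2.U3q
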