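import Mathlib
import Cfsg.Prelude.Def_Classical
import Cfsg.Agent.Helper2.U3qJ

set_option autoImplicit false

/-!
Sylow 2-subgroups of `SU₃(2ⁿ)` and their overgroups of index two.
-/

namespace Cfsg.Agent.Helper2.U3q

variable {F : Type*} [Field F] [Fintype F] {n : ℕ}

theorem factorization_SU (hn : 1 ≤ n) (hF : Fintype.card F = (2 ^ n) ^ 2) :
    (Nat.card (Cfsg.SU 3 F (2 ^ n))).factorization 2 = n * 3 := by
  have hm := odd_part hn
  have hm0 : ((2 ^ n) ^ 2 - 1) * ((2 ^ n) ^ 3 + 1) ≠ 0 := by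
    intro h
    rw [h] at hm
    exact hm (dvd_zero 2)
  rw [card_SU3 hF, Nat.factorization_mul (by positivity) hm0, Finsupp.add_apply,
    Nat.factorization_eq_zero_of_not_dvd hm, ← pow_mul,
    Nat.Prime.factorization_pow Nat.prime_two, Finsupp.single_eq_same]
  omega

/-- Every Sylow 2-subgroup of `SU₃(2ⁿ)` is isomorphic to the abstract group. -/
theorem equiv_sylow_SU (hn : 1 ≤ n) (hF : Fintype.card F = (2 ^ n) ^ 2) [IsFq2 F (2 ^ n)]
    (S : Sylow 2 (Cfsg.SU 3 F (2 ^ n))) :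
    Nonempty (U F (2 ^ n) ≃* ↥(S : Subgroup (Cfsg.SU 3 F (2 ^ n)))) := by
  have hfin : Finite (Cfsg.SU 3 F (2 ^ n)) := inferInstance
  have hcardU := card_U hF
  haveI hfinU : Finite (U F (2 ^ n)) := Nat.finite_of_card_ne_zero (by rw [hcardU]; positivity)
  let f : U F (2 ^ n) →* Cfsg.SU 3 F (2 ^ n) := iota hF
  have hf : Function.Injective f := iota_injective hF
  let e₁ : U F (2 ^ n) ≃* f.range := MonoidHom.ofInjective hf
  have hcardV : Nat.card f.range = (2 ^ n) ^ 3 := by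
    rw [← Nat.card_congr e₁.toEquiv, hcardU]
  have hpV : IsPGroup 2 f.range := IsPGroup.of_card (n := n * 3) (by rw [hcardV, pow_mul])
  obtain ⟨P, hVP⟩ := hpV.exists_le_sylow
  have hcardP : Nat.card P = (2 ^ n) ^ 3 := by
    rw [Sylow.card_eq_multiplicity, factorization_SU hn hF, pow_mul]
  have hVP' : f.range = (P : Subgroup (Cfsg.SU 3 F (2 ^ n))) :=
    Subgroup.eq_of_le_of_card_ge hVP (by rw [hcardV, hcardP])
  obtain ⟨g, hg⟩ := MulAction.exists_smul_eq (Cfsg.SU 3 F (2 ^ n)) P S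
  let e₂ : f.range ≃* (P : Subgroup (Cfsg.SU 3 F (2 ^ n))) := MulEquiv.subgroupCongr hVP'
  let e₃ : (P : Subgroup (Cfsg.SU 3 F (2 ^ n))) ≃* ((g • P : Sylow 2 (Cfsg.SU 3 F (2 ^ n))) :
      Subgroup (Cfsg.SU 3 F (2 ^ n))) := Sylow.equivSMul P g
  let e₄ : ((g • P : Sylow 2 (Cfsg.SU 3 F (2 ^ n))) : Subgroup (Cfsg.SU 3 F (2 ^ n))) ≃*
      (S : Subgroup (Cfsg.SU 3 F (2 ^ n))) := MulEquiv.subgroupCongr (congrArg Sylow.toSubgroup hg)
  exact ⟨((e₁.trans e₂).trans e₃).trans e₄⟩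

/-- A group with a subgroup of index two isomorphic to the abstract group: the centre of the
subgroup is central. -/
theorem center_le_of_index_two (hn : 1 ≤ n) (hF : Fintype.card F = (2 ^ n) ^ 2) [IsFq2 F (2 ^ n)]
    {R : Type*} [Group R] (S' : Subgroup R) (e : ↥S' ≃* U F (2 ^ n)) (hidx : S'.index = 2) :
    (Subgroup.center ↥S').map S'.subtype ≤ Subgroup.center R := by
  haveI hnorm : S'.Normal := Subgroup.normal_of_index_eq_two hidx
  have hq : (2 : ℕ) ^ n = 2 * 2 ^ (n - 1) := by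
    rw [← pow_succ']
    congr 1
    omega
  rintro _ ⟨z, hz, rfl⟩
  rw [Subgroup.mem_center_iff]
  intro r
  -- the automorphism induced by r
  let τ : MulAut ↥S' := MulAut.conjNormal r
  let s : ↥S' := ⟨r * r, Subgroup.mul_self_mem_of_index_two hidx r⟩
  have hττ : τ * τ = MulAut.conj s := by
    apply MulEquiv.ext
    intro x
    apply Subtype.ext
    rw [MulAut.mul_apply, MulAut.conjNormal_apply, MulAut.conjNormal_apply, MulAut.conj_apply]
    change r * (r * (x : R) * r⁻¹) * r⁻¹ = (r * r) * (x : R) * (r * r)⁻¹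
    group
  let τ' : MulAut (U F (2 ^ n)) := MulAut.congr e τ
  have happ : ∀ y : U F (2 ^ n), τ' y = e (τ (e.symm y)) := fun y => rfl
  have hτ' : τ' * τ' = MulAut.conj (e s) := by
    apply MulEquiv.ext
    intro y
    rw [MulAut.mul_apply, happ, happ, MulEquiv.symm_apply_apply, ← MulAut.mul_apply, hττ,
      MulAut.conj_apply, MulAut.conj_apply, map_mul, map_mul, MulEquiv.apply_symm_apply, map_inv]
  have hez : e z ∈ Subgroup.center (U F (2 ^ n)) :=
    (Cfsg.Agent.Helper2.U34.mem_center_equiv e z).mpr hz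
  have h1 := aut_sq_inner hF hq τ' (e s) hτ' (e z) hez
  rw [happ, MulEquiv.symm_apply_apply] at h1
  have h2 : τ z = z := e.injective h1
  have h3 := congrArg Subtype.val h2
  rw [MulAut.conjNormal_apply] at h3
  change r * (z : R) = (z : R) * r
  calc r * (z : R) = r * (z : R) * r⁻¹ * r := by group
    _ = (z : R) * r := by rw [h3]

end Cfsg.Agent.Helper2.U3q
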