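import Mathlib
import Cfsg.Agent.Helper2.U3qI

set_option autoImplicit false

/-!
General (not necessarily involutory) additive bijections compatible with the norm are of the form
`a ↦ l * σ a` for a field automorphism `σ`.
-/

namespace Cfsg.Agent.Helper2.U3q

variable {F : Type*} [Field F] {q : ℕ}

/-- The hypotheses on a general pair `(A, B)`. -/
structure GenPair (q : ℕ) (A B : F → F) : Prop where
  A_add : ∀ a b, A (a + b) = A a + A b
  A_inj : ∀ a b, A a = A b → a = b
  B_fix : ∀ c, Fq q c → Fq q (B c)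
  B_add : ∀ c c', Fq q c → Fq q c' → B (c + c') = B c + B c'
  N : ∀ a, Nm q (A a) = B (Nm q a)

omit [Field F] in
theorem Nm_mul [Field F] (a b : F) : Nm q (a * b) = Nm q a * Nm q b := by
  unfold Nm
  rw [mul_pow]
  ring

namespace GenPair

variable [Fintype F] [hFq : IsFq2 F q] {A B : F → F} (h : GenPair q A B)
  (hF : Fintype.card F = q ^ 2)
include h

omit hFq [Fintype F] in
theorem A_zero : A 0 = 0 := by
  have := h.A_add 0 0
  rw [add_zero] at this
  exact left_eq_add.mp this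

omit hFq [Fintype F] in
theorem A_ne_zero {a : F} (ha : a ≠ 0) : A a ≠ 0 := by
  intro h0
  apply ha
  apply h.A_inj
  rw [h0, h.A_zero]

omit [Fintype F] in
theorem B_zero : B 0 = 0 := by
  have := h.B_add 0 0 Fq_zero Fq_zero
  rw [add_zero] at this
  exact left_eq_add.mp this

include hF

theorem B_eq_zero {c : F} (hc : Fq q c) (h0 : B c = 0) : c = 0 := by
  by_contra hc0
  obtain ⟨a, ha⟩ := Cfsg.Agent.Helper8.GUOrder.exists_norm hF hc0 hc
  have hN : Nm q a = c := by
    unfold Nm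
    rw [mul_comm]
    exact ha
  have h1 := h.N a
  rw [hN, h0] at h1
  have h2 := Nm_eq_zero h1
  have h3 : a = 0 := h.A_inj _ _ (h2.trans h.A_zero.symm)
  rw [h3] at hN
  apply hc0
  rw [← hN]
  unfold Nm
  rw [mul_zero]

omit hF in
theorem Bt_compat (a b : F) : Bt q (A a) (A b) = B (Bt q a b) := by
  have h1 := h.N (a + b)
  rw [h.A_add, Nm_add, Nm_add, h.B_add _ _ (Fq_add (Nm_fix a) (Nm_fix b)) (Bt_fix a b),
    h.B_add _ _ (Nm_fix a) (Nm_fix b), h.N a, h.N b] at h1
  exact add_left_cancel h1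

theorem A_line {a b : F} (ha : a ≠ 0) : Fq q (A b / A a) ↔ Fq q (b / a) := by
  rw [← Bt_line ha, ← Bt_line (h.A_ne_zero ha), h.Bt_compat]
  constructor
  · intro h0
    exact h.B_eq_zero hF (Bt_fix a b) h0
  · intro h0
    rw [h0, h.B_zero]

theorem m_spec {a l : F} (ha : a ≠ 0) (hl : Fq q l) :
    ∃ m : F, Fq q m ∧ A (l * a) = m * A a ∧ m = A (l * a) / A a := by
  refine ⟨A (l * a) / A a, ?_, (div_mul_cancel₀ _ (h.A_ne_zero ha)).symm, rfl⟩
  rw [h.A_line hF ha, mul_div_assoc, div_self ha, mul_one]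
  exact hl

theorem m_indep {a b l : F} (ha : a ≠ 0) (hb : b ≠ 0) (hab : ¬ Fq q (b / a)) (hl : Fq q l) :
    A (l * a) / A a = A (l * b) / A b := by
  have h2 := hFq.two
  have hsum0 : a + b ≠ 0 := by
    intro h0
    apply hab
    have : b = a := by linear_combination h0 - a * h2
    rw [this, div_self ha]
    exact Fq_one
  obtain ⟨ma, fa, ea, da⟩ := h.m_spec hF ha hl
  obtain ⟨mb, fb, eb, db⟩ := h.m_spec hF hb hl
  obtain ⟨ms, fs, es, ds⟩ := h.m_spec hF hsum0 hl
  have hAab : ¬ Fq q (A b / A a) := by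
    rw [h.A_line hF ha]
    exact hab
  have key : (ms - ma) * A a + (ms - mb) * A b = 0 := by
    have e1 : A (l * (a + b)) = A (l * a) + A (l * b) := by
      rw [mul_add, h.A_add]
    have e2 : A (a + b) = A a + A b := h.A_add a b
    linear_combination (-1 : F) * es - ms * e2 + e1 + ea + eb
  have hneg : ∀ x y : F, Fq q x → Fq q y → Fq q (x - y) := by
    intro x y hx hy
    have : x - y = x + y := by linear_combination (-y) * h2
    rw [this]
    exact Fq_add hx hy
  obtain ⟨k1, k2⟩ := indep_Fq (h.A_ne_zero ha) hAab (hneg _ _ fs fa) (hneg _ _ fs fb) key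
  rw [sub_eq_zero] at k1 k2
  rw [← da, ← db, ← k1, ← k2]

theorem mu_spec {l : F} (hl : Fq q l) (a : F) : A (l * a) = mu A l * A a := by
  by_cases ha : a = 0
  · rw [ha, mul_zero, h.A_zero, mul_zero]
  obtain ⟨m, fm, em, dm⟩ := h.m_spec hF ha hl
  have hm : m = mu A l := by
    unfold mu
    have h1 : ∀ b : F, b ≠ 0 → ¬ Fq q b → A (l * 1) / A 1 = A (l * b) / A b := by
      intro b hb hbq
      apply h.m_indep hF one_ne_zero hb _ hl
      rwa [div_one]
    by_cases haq : Fq q a
    · obtain ⟨θ, hθ⟩ := Cfsg.Agent.Helper8.GUOrder.exists_not_fixed hF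
      have hθ0 : θ ≠ 0 := by
        intro h0
        apply hθ
        rw [h0]
        exact zero_pow_q
      have e1 := h1 θ hθ0 hθ
      have hθa : ¬ Fq q (θ / a) := by
        intro hq
        apply hθ
        have : θ = θ / a * a := (div_mul_cancel₀ θ ha).symm
        have h3 := Fq_mul hq haq
        rw [← this] at h3
        exact h3
      have e2 := h.m_indep hF ha hθ0 hθa hl
      rw [mul_one] at e1
      rw [dm, e2, ← e1]
    · have e1 := h1 a ha haq
      rw [mul_one] at e1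
      rw [dm, ← e1]
  rw [← hm]
  exact em

theorem mu_fix {l : F} (hl : Fq q l) : Fq q (mu A l) := by
  obtain ⟨m, fm, em, dm⟩ := h.m_spec hF one_ne_zero hl
  rw [mul_one] at dm
  unfold mu
  rw [← dm]
  exact fm

theorem mu_mul {l : F} (hl : Fq q l) (l' : F) : mu A (l * l') = mu A l * mu A l' := by
  unfold mu
  rw [h.mu_spec hF hl l']
  unfold mu
  rw [mul_div_assoc]

theorem B_semi_sq {l z : F} (hl : Fq q l) (hz : Fq q z) :
    B (l * l * z) = mu A l * mu A l * B z := by
  by_cases hz0 : z = 0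
  · rw [hz0, mul_zero, h.B_zero, mul_zero]
  obtain ⟨a, ha⟩ := Cfsg.Agent.Helper8.GUOrder.exists_norm hF hz0 hz
  have hN : Nm q a = z := by
    unfold Nm
    rw [mul_comm]
    exact ha
  rw [← hN, ← Nm_smul hl, ← h.N, h.mu_spec hF hl, Nm_smul (h.mu_fix hF hl), h.N]

theorem B_semi {k : ℕ} (hq : q = 2 * k) {l z : F} (hl : Fq q l) (hz : Fq q z) :
    B (l * z) = mu A l * B z := by
  have hr : Fq q (l ^ k) := Fq_pow hl k
  have hrr : l ^ k * l ^ k = l := by
    rw [← pow_add, ← two_mul, ← hq]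
    exact hl
  have h1 := h.B_semi_sq hF hr hz
  rw [← h.mu_mul hF hr, hrr] at h1
  exact h1

/-- In the normalised case `A 1 = 1` the map `A` is multiplicative. -/
theorem A_mul_of_one {k : ℕ} (hq : q = 2 * k) (h1 : A 1 = 1) (a b : F) :
    A (a * b) = A a * A b := by
  have h2 := hFq.two
  have hmu : ∀ l, mu A l = A l := by
    intro l
    unfold mu
    rw [h1, div_one]
  have hAq : ∀ l, Fq q l → Fq q (A l) := by
    intro l hl
    rw [← hmu]
    exact h.mu_fix hF hl
  have hsp : ∀ l, Fq q l → ∀ c, A (l * c) = A l * A c := by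
    intro l hl c
    rw [h.mu_spec hF hl, hmu]
  have hB1 : B 1 = 1 := by
    have := h.N 1
    rw [h1] at this
    have e : Nm q (1 : F) = 1 := by
      unfold Nm
      rw [one_pow, one_mul]
    rw [e] at this
    exact this.symm
  have hBA : ∀ c, Fq q c → B c = A c := by
    intro c hc
    have := h.B_semi hF hq hc Fq_one
    rw [mul_one, hB1, mul_one, hmu] at this
    exact this
  -- trace and norm compatibility
  have hTq : ∀ c : F, Fq q (c + c ^ q) := by
    intro c
    unfold Fq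
    rw [hFq.add_pow, hFq.pow_pow]
    ring
  have hNq : ∀ c : F, Fq q (c ^ q * c) := fun c => Nm_fix c
  have hT : ∀ c, A c + (A c) ^ q = A (c + c ^ q) := by
    intro c
    have := h.Bt_compat 1 c
    rw [h1] at this
    unfold Bt at this
    simp only [one_pow, one_mul] at this
    rw [this, hBA _ (hTq c)]
  have hN : ∀ c, (A c) ^ q * A c = A (c ^ q * c) := by
    intro c
    have := h.N c
    unfold Nm at this
    rw [this, hBA]
    exact Nm_fix c
  obtain ⟨θ, hθ⟩ := Cfsg.Agent.Helper8.GUOrder.exists_not_fixed hF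
  have hTθ0 : θ + θ ^ q ≠ 0 := by
    intro h0
    apply hθ
    linear_combination h0 - θ * h2
  -- decomposition
  have hdec : ∀ c : F, ∃ x y : F, Fq q x ∧ Fq q y ∧ c = x + y * θ := by
    intro c
    obtain ⟨Y, hY⟩ : ∃ Y : F, Y = (c + c ^ q) / (θ + θ ^ q) := ⟨_, rfl⟩
    have hYq : Fq q Y := by rw [hY]; exact Fq_div (hTq c) (hTq θ)
    have e : Y * (θ + θ ^ q) = c + c ^ q := by rw [hY]; exact div_mul_cancel₀ _ hTθ0
    refine ⟨c + Y * θ, Y, ?_, hYq, ?_⟩
    · unfold Fq at hYq ⊢
      rw [hFq.add_pow, mul_pow, hYq]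
      linear_combination e + (c ^ q - Y * θ) * h2
    · linear_combination (-(Y * θ)) * h2
  -- the image of x + yθ
  have hAdec : ∀ x y : F, Fq q y → A (x + y * θ) = A x + A y * A θ := by
    intro x y hy
    rw [h.A_add, hsp y hy]
  -- θ² and (Aθ)²
  have hsq : ∀ c : F, c * c = (c + c ^ q) * c + c ^ q * c := by
    intro c
    linear_combination (-(c ^ q * c)) * h2
  obtain ⟨x, y, hx, hy, rfl⟩ := hdec a
  obtain ⟨x', y', hx', hy', rfl⟩ := hdec b
  have e1 : (x + y * θ) * (x' + y' * θ) =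
      (x * x' + y * y' * (θ ^ q * θ)) + (x * y' + x' * y + y * y' * (θ + θ ^ q)) * θ := by
    linear_combination (y * y') * hsq θ
  have fu : Fq q (x * x' + y * y' * (θ ^ q * θ)) :=
    Fq_add (Fq_mul hx hx') (Fq_mul (Fq_mul hy hy') (hNq θ))
  have fv : Fq q (x * y' + x' * y + y * y' * (θ + θ ^ q)) :=
    Fq_add (Fq_add (Fq_mul hx hy') (Fq_mul hx' hy)) (Fq_mul (Fq_mul hy hy') (hTq θ))
  rw [e1, hAdec _ _ fv, hAdec _ _ hy, hAdec _ _ hy']
  rw [h.A_add, hsp x hx, hsp (y * y') (Fq_mul hy hy'), hsp y hy, h.A_add, h.A_add, hsp x hx,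
    hsp x' hx', hsp (y * y') (Fq_mul hy hy'), hsp y hy, ← hN θ, ← hT θ]
  linear_combination (-(A y * A y')) * hsq (A θ)

end GenPair

end Cfsg.Agent.Helper2.U3q
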