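import Mathlib
import Cfsg.Prelude.Def_Classical
import Cfsg.Agent.Helper2.U3qJ
import Cfsg.Agent.Helper2.U3qL

set_option autoImplicit false

/-!
Every automorphism of the abstract Sylow 2-subgroup of `SU₃(q)` induces `a ↦ l * σ a` on the
Frattini quotient; explicit automorphisms realising all such maps.
-/

namespace Cfsg.Agent.Helper2.U3q

variable {F : Type*} [Field F] [Fintype F] {q : ℕ}

namespace GenPair

variable [hFq : IsFq2 F q] {A B : F → F}

/-- The general form of `A`. -/
theorem exists_ringEquiv (h : GenPair q A B) (hF : Fintype.card F = q ^ 2) {k : ℕ}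
    (hq : q = 2 * k) : ∃ (l : F) (σ : F ≃+* F), l ≠ 0 ∧ ∀ a, A a = l * σ a := by
  have hl0 : A 1 ≠ 0 := h.A_ne_zero one_ne_zero
  have hN0 : Nm q (A 1) ≠ 0 := fun h0 => hl0 (Nm_eq_zero h0)
  have h' : GenPair q (fun a => (A 1)⁻¹ * A a) (fun c => (Nm q (A 1))⁻¹ * B c) := by
    constructor
    · intro a b
      rw [h.A_add, mul_add]
    · intro a b hab
      exact h.A_inj _ _ (mul_left_cancel₀ (inv_ne_zero hl0) hab)
    · intro c hc
      exact Fq_mul (Fq_inv (Nm_fix _)) (h.B_fix c hc)
    · intro c c' hc hc'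
      rw [h.B_add c c' hc hc', mul_add]
    · intro a
      rw [Nm_mul, h.N]
      congr 1
      unfold Nm
      rw [inv_pow, mul_inv]
  have h1 : (fun a => (A 1)⁻¹ * A a) 1 = 1 := inv_mul_cancel₀ hl0
  have hmul := h'.A_mul_of_one hF hq h1
  have hinj : Function.Injective (fun a => (A 1)⁻¹ * A a) := fun a b hab => h'.A_inj a b hab
  have hbij : Function.Bijective (fun a => (A 1)⁻¹ * A a) :=
    ⟨hinj, Finite.injective_iff_surjective.mp hinj⟩
  let f : F →+* F :=
    { toFun := fun a => (A 1)⁻¹ * A a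
      map_one' := h1
      map_mul' := hmul
      map_zero' := h'.A_zero
      map_add' := h'.A_add }
  refine ⟨A 1, RingEquiv.ofBijective f hbij, hl0, ?_⟩
  intro a
  change A a = A 1 * ((A 1)⁻¹ * A a)
  rw [← mul_assoc, mul_inv_cancel₀ hl0, one_mul]

end GenPair

section
variable [hFq : IsFq2 F q] (hF : Fintype.card F = q ^ 2)
include hF

theorem ind_one' (a : F) : ind hF (1 : MulAut (U F q)) a = a := rfl

/-- Every automorphism gives a general pair. -/
theorem genPair_of_aut (τ : MulAut (U F q)) : GenPair q (ind hF τ) (indZ τ) where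
  A_add := ind_add hF τ
  A_inj a b hab := by
    have h1 := ind_comp hF τ⁻¹ τ a
    have h2 := ind_comp hF τ⁻¹ τ b
    rw [inv_mul_cancel, ind_one'] at h1 h2
    rw [h1, h2, hab]
  B_fix c hc := indZ_fix hF τ c hc
  B_add c c' hc0 hc0' := by
    have hc : c ^ q = c := hc0
    have hc' : c' ^ q = c' := hc0'
    have hcc : (c + c') ^ q = c + c' := Fq_add (q := q) hc hc'
    have h1 := indZ_spec hF τ (c + c') hcc
    have hbb : (indZ τ c + indZ τ c') ^ q = indZ τ c + indZ τ c' :=
      Fq_add (q := q) (indZ_fix hF τ c hc) (indZ_fix hF τ c' hc')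
    rw [zel_add c c' hc hc' hcc, map_mul, indZ_spec hF τ c hc, indZ_spec hF τ c' hc',
      ← zel_add _ _ _ _ hbb] at h1
    exact (zel_inj h1).symm
  N a := by
    have hxx : lift hF a * lift hF a = zel (Nm q a) (Nm_fix a) := by
      apply U.ext
      · rw [sq_fst]; rfl
      · rw [sq_snd, lift_fst]; rfl
    have h1 := indZ_spec hF τ (Nm q a) (Nm_fix a)
    rw [← hxx, map_mul] at h1
    have h2 := congrArg (fun x : U F q => x.1.2) h1
    simp only [sq_snd] at h2
    rw [zel_snd] at h2
    rw [ind_spec hF τ, lift_fst] at h2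
    exact h2

theorem ind_form {k : ℕ} (hq : q = 2 * k) (τ : MulAut (U F q)) :
    ∃ (l : F) (σ : F ≃+* F), l ≠ 0 ∧ ∀ a, ind hF τ a = l * σ a :=
  (genPair_of_aut hF τ).exists_ringEquiv hF hq

end

/-! ### explicit automorphisms -/

section
variable [hFq : IsFq2 F q]

omit [Fintype F] in
theorem ringEquiv_pow (σ : F ≃+* F) (a : F) : σ (a ^ q) = (σ a) ^ q := map_pow σ a q

/-- The map `(a, c) ↦ (l σ a, N(l) σ c)`. -/
def lsFun (l : F) (σ : F ≃+* F) (p : U F q) : U F q :=
  ⟨(l * σ p.1.1, Nm q l * σ p.1.2), by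
    have hc := congrArg σ p.2
    rw [map_add, map_mul, map_pow, map_pow] at hc
    have hN : (Nm q l) ^ q = Nm q l := Nm_fix l
    simp only
    rw [mul_pow, mul_pow, hN]
    unfold Nm
    linear_combination (l ^ q * l) * hc⟩

omit [Fintype F] in
@[simp] theorem lsFun_fst (l : F) (σ : F ≃+* F) (p : U F q) :
    (lsFun l σ p).1.1 = l * σ p.1.1 := rfl

omit [Fintype F] in
@[simp] theorem lsFun_snd (l : F) (σ : F ≃+* F) (p : U F q) :
    (lsFun l σ p).1.2 = Nm q l * σ p.1.2 := rfl

/-- `lsFun` as a homomorphism. -/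
def lsHom (l : F) (σ : F ≃+* F) : U F q →* U F q where
  toFun := lsFun l σ
  map_one' := by
    apply U.ext
    · simp
    · simp
  map_mul' p r := by
    apply U.ext
    · simp only [lsFun_fst, mul_fst, map_add]; ring
    · simp only [lsFun_snd, lsFun_fst, mul_snd, map_add, map_mul, map_pow, mul_pow]
      unfold Nm
      ring

omit [Fintype F] in
theorem lsHom_injective {l : F} (hl : l ≠ 0) (σ : F ≃+* F) :
    Function.Injective (lsHom (q := q) l σ) := by
  intro p r h
  have h1 := congrArg (fun x : U F q => x.1.1) h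
  have h2 := congrArg (fun x : U F q => x.1.2) h
  change l * σ p.1.1 = l * σ r.1.1 at h1
  change Nm q l * σ p.1.2 = Nm q l * σ r.1.2 at h2
  have hN0 : Nm q l ≠ 0 := fun h0 => hl (Nm_eq_zero h0)
  exact U.ext (σ.injective (mul_left_cancel₀ hl h1)) (σ.injective (mul_left_cancel₀ hN0 h2))

end

section
variable [hFq : IsFq2 F q] (hF : Fintype.card F = q ^ 2)
include hF

/-- The explicit automorphism. -/
noncomputable def lsAut {l : F} (hl : l ≠ 0) (σ : F ≃+* F) : MulAut (U F q) :=
  haveI : Finite (U F q) := Nat.finite_of_card_ne_zero (by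
    rw [card_U hF]
    have := Cfsg.Agent.Helper8.GUOrder.two_le_q hF
    positivity)
  MulEquiv.ofBijective (lsHom l σ)
    ⟨lsHom_injective hl σ, Finite.injective_iff_surjective.mp (lsHom_injective hl σ)⟩

theorem lsAut_apply {l : F} (hl : l ≠ 0) (σ : F ≃+* F) (p : U F q) :
    lsAut hF hl σ p = lsFun l σ p := rfl

theorem ind_lsAut {l : F} (hl : l ≠ 0) (σ : F ≃+* F) (a : F) :
    ind hF (lsAut hF hl σ) a = l * σ a := rfl

end

end Cfsg.Agent.Helper2.U3q
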