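import Mathlib
import Cfsg.Prelude.Def_Classical
import Cfsg.Agent.Helper2.U3qM
import Cfsg.Agent.Helper8.UnitaryLines

set_option autoImplicit false

/-!
The action of the automorphism group of the abstract Sylow 2-subgroup of `SU₃(q)` on the Frattini
quotient: kernel (central automorphisms) and counting lemmas.
-/

namespace Cfsg.Agent.Helper2.U3q

variable {F : Type*} [Field F] [Fintype F] {q : ℕ}

/-- The fixed field as an additive subgroup. -/
def ZqAdd (F : Type*) [Field F] (q : ℕ) [hFq : IsFq2 F q] : AddSubgroup F where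
  carrier := {c | c ^ q = c}
  zero_mem' := zero_pow_q
  add_mem' := by
    intro a b ha hb
    exact Fq_add (q := q) ha hb
  neg_mem' := by
    intro a ha
    have h2 := hFq.two
    have : -a = a := by linear_combination (-a) * h2
    change (-a) ^ q = -a
    rw [this]
    exact ha

omit [Fintype F] in
theorem mem_ZqAdd [IsFq2 F q] (c : ↥(ZqAdd F q)) : (c : F) ^ q = c := c.2

theorem card_addHom [hFq : IsFq2 F q] {n : ℕ} (hqn : q = 2 ^ n) (hF : Fintype.card F = q ^ 2) :
    Nat.card (F →+ ↥(ZqAdd F q)) = q ^ (2 * n) := by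
  letI mF : Module (ZMod 2) F := AddCommGroup.zmodModule (n := 2) (fun x => by
    rw [two_nsmul]; exact add_self q x)
  letI mZ : Module (ZMod 2) ↥(ZqAdd F q) := AddCommGroup.zmodModule (n := 2) (fun x => by
    rw [two_nsmul]
    apply Subtype.ext
    exact add_self q x.1)
  have e1 : Nat.card (F →+ ↥(ZqAdd F q)) = Nat.card (F →ₗ[ZMod 2] ↥(ZqAdd F q)) :=
    Nat.card_congr (AddMonoidHom.toZModLinearMapEquiv 2).toEquiv
  let b := Module.finBasis (ZMod 2) F
  have e2 : Nat.card (F →ₗ[ZMod 2] ↥(ZqAdd F q)) =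
      Nat.card (Fin (Module.finrank (ZMod 2) F) → ↥(ZqAdd F q)) :=
    Nat.card_congr (b.constr (ZMod 2)).toEquiv.symm
  have e3 : Module.finrank (ZMod 2) F = 2 * n := by
    have h1 := Module.card_eq_pow_finrank (K := ZMod 2) (V := F)
    rw [hF, ZMod.card, hqn, ← pow_mul, mul_comm] at h1
    exact (Nat.pow_right_injective (le_refl 2) h1).symm
  have e4 : Nat.card ↥(ZqAdd F q) = q := Cfsg.Agent.Helper8.UnitaryLines.card_fixed hF
  rw [e1, e2, Nat.card_fun, e4, Nat.card_fin, e3]

theorem card_ringAut [hFq : IsFq2 F q] {n : ℕ} (hqn : q = 2 ^ n) (hF : Fintype.card F = q ^ 2) :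
    Nat.card (F ≃+* F) = 2 * n := by
  haveI : CharP F 2 := CharTwo.of_one_ne_zero_of_two_eq_zero one_ne_zero hFq.two
  letI : Algebra (ZMod 2) F := ZMod.algebra F 2
  let e : (F ≃+* F) ≃ (F ≃ₐ[ZMod 2] F) :=
    { toFun := fun σ => AlgEquiv.ofRingEquiv (f := σ) (by
        intro r
        rw [← ZMod.natCast_zmod_val r, map_natCast, map_natCast])
      invFun := fun e => e.toRingEquiv
      left_inv := fun σ => by
        ext a
        rfl
      right_inv := fun e => by
        ext a
        rfl }
  rw [Nat.card_congr e, IsGalois.card_aut_eq_finrank]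
  have h1 := Module.card_eq_pow_finrank (K := ZMod 2) (V := F)
  rw [hF, ZMod.card, hqn, ← pow_mul, mul_comm] at h1
  exact (Nat.pow_right_injective (le_refl 2) h1).symm

section
variable [hFq : IsFq2 F q] (hF : Fintype.card F = q ^ 2)
include hF

/-- The induced map as a permutation. -/
noncomputable def indPerm (τ : MulAut (U F q)) : Equiv.Perm F where
  toFun := ind hF τ
  invFun := ind hF τ⁻¹
  left_inv a := by rw [← ind_comp, inv_mul_cancel, ind_one']
  right_inv a := by rw [← ind_comp, mul_inv_cancel, ind_one']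

/-- The action on the Frattini quotient as a homomorphism. -/
noncomputable def phi : MulAut (U F q) →* Equiv.Perm F where
  toFun := indPerm hF
  map_one' := Equiv.ext (ind_one' hF)
  map_mul' α β := Equiv.ext (ind_comp hF α β)

theorem phi_apply (τ : MulAut (U F q)) (a : F) : phi hF τ a = ind hF τ a := rfl

theorem mem_ker_phi (τ : MulAut (U F q)) : τ ∈ (phi hF).ker ↔ ∀ a, ind hF τ a = a := by
  rw [MonoidHom.mem_ker]
  constructor
  · intro h a
    rw [← phi_apply, h]
    rfl
  · intro h
    apply Equiv.ext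
    intro a
    rw [phi_apply, h]
    rfl

theorem ker_fix_center (τ : MulAut (U F q)) (hτ : ∀ a, ind hF τ a = a) (z : U F q)
    (hz : z.1.1 = 0) : τ z = z := by
  have hp := genPair_of_aut hF τ
  have hc := snd_fixed z hz
  have key : indZ τ z.1.2 = z.1.2 := by
    by_cases h0 : z.1.2 = 0
    · rw [h0]
      exact hp.B_zero
    · obtain ⟨a, ha⟩ := Cfsg.Agent.Helper8.GUOrder.exists_norm hF h0 hc
      have hN : Nm q a = z.1.2 := by
        unfold Nm
        rw [mul_comm]
        exact ha
      have := hp.N a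
      rw [hτ a, hN] at this
      exact this.symm
  rw [eq_zel z hz, indZ_spec hF τ _ hc]
  apply U.ext
  · rfl
  · exact key

theorem ker_apply (τ : MulAut (U F q)) (hτ : ∀ a, ind hF τ a = a) (x : U F q) :
    (x⁻¹ * τ x).1.1 = 0 := by
  rw [mul_fst, inv_fst, ind_spec hF τ, hτ, add_self q]

omit hF [Fintype F] in
theorem central_sq (z : U F q) (hz : z.1.1 = 0) : z * z = 1 := by
  apply U.ext
  · exact sq_fst z
  · rw [sq_snd, hz, zero_pow_q, zero_mul]
    rfl

theorem ker_sq (τ : MulAut (U F q)) (hτ : ∀ a, ind hF τ a = a) : τ * τ = 1 := by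
  apply MulEquiv.ext
  intro x
  have hz := ker_apply hF τ hτ x
  obtain ⟨z, hz, h1⟩ : ∃ z : U F q, z.1.1 = 0 ∧ τ x = x * z := ⟨x⁻¹ * τ x, hz, by group⟩
  rw [MulAut.mul_apply, h1, map_mul, ker_fix_center hF τ hτ z hz, h1, mul_assoc,
    central_sq z hz, mul_one]
  rfl

end

end Cfsg.Agent.Helper2.U3q
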