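import Mathlib
import Cfsg.Prelude.Def_Classical
import Cfsg.Prelude.Def_Transfer
import Cfsg.Prelude.Def_Solvable
import Cfsg.Agent.Helper2.U3qN

set_option autoImplicit false

/-!
Central automorphisms of the abstract Sylow 2-subgroup of `SU₃(q)` and the order of the kernel of
the action on the Frattini quotient.
-/

namespace Cfsg.Agent.Helper2.U3q

variable {F : Type*} [Field F] [Fintype F] {q : ℕ}

section
variable [hFq : IsFq2 F q]

omit [Fintype F] in
theorem zel_central (c : F) (hc : c ^ q = c) (x : U F q) : x * zel c hc = zel c hc * x := by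
  apply U.ext
  · simp only [mul_fst, zel_fst]; ring
  · simp only [mul_snd, zel_fst, zel_snd, zero_pow_q]; ring

/-- The central automorphism attached to an additive map into the fixed field. -/
def psiFun (f : F →+ ↥(ZqAdd F q)) (x : U F q) : U F q :=
  x * zel (f x.1.1 : F) (mem_ZqAdd _)

omit [Fintype F] in
theorem psiFun_fst (f : F →+ ↥(ZqAdd F q)) (x : U F q) : (psiFun f x).1.1 = x.1.1 := by
  unfold psiFun
  rw [mul_fst, zel_fst, add_zero]

omit [Fintype F] in
theorem psiFun_snd (f : F →+ ↥(ZqAdd F q)) (x : U F q) :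
    (psiFun f x).1.2 = x.1.2 + (f x.1.1 : F) := by
  unfold psiFun
  rw [mul_snd, zel_snd, zel_fst, mul_zero, add_zero]

/-- The central automorphism as a multiplicative equivalence. -/
def psiAut (f : F →+ ↥(ZqAdd F q)) : MulAut (U F q) where
  toFun := psiFun f
  invFun := psiFun f
  left_inv x := by
    apply U.ext
    · rw [psiFun_fst, psiFun_fst]
    · rw [psiFun_snd, psiFun_fst, psiFun_snd, add_assoc, add_self q, add_zero]
  right_inv x := by
    apply U.ext
    · rw [psiFun_fst, psiFun_fst]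
    · rw [psiFun_snd, psiFun_fst, psiFun_snd, add_assoc, add_self q, add_zero]
  map_mul' x y := by
    apply U.ext
    · rw [mul_fst, psiFun_fst, psiFun_fst, psiFun_fst, mul_fst]
    · rw [mul_snd, psiFun_snd, psiFun_snd, psiFun_snd, psiFun_fst, psiFun_fst, mul_snd, mul_fst,
        map_add, AddSubgroup.coe_add]
      ring

omit [Fintype F] in
theorem psiAut_apply (f : F →+ ↥(ZqAdd F q)) (x : U F q) : psiAut f x = psiFun f x := rfl

end

section
variable [hFq : IsFq2 F q] (hF : Fintype.card F = q ^ 2)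
include hF

theorem psiAut_injective : Function.Injective (psiAut (F := F) (q := q)) := by
  intro f g h
  apply AddMonoidHom.ext
  intro a
  apply Subtype.ext
  have h1 := congrArg (fun τ : MulAut (U F q) => (τ (lift hF a)).1.2) h
  simp only [psiAut_apply, psiFun_snd, lift_fst] at h1
  exact add_left_cancel h1

theorem psiAut_mem_ker (f : F →+ ↥(ZqAdd F q)) : psiAut f ∈ (phi hF).ker := by
  rw [mem_ker_phi]
  intro a
  change (psiFun f (lift hF a)).1.1 = a
  rw [psiFun_fst, lift_fst]

theorem ker_le_range_psi (τ : MulAut (U F q)) (hτ : τ ∈ (phi hF).ker) :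
    ∃ f : F →+ ↥(ZqAdd F q), psiAut f = τ := by
  rw [mem_ker_phi] at hτ
  have h2 := hFq.two
  -- the function w
  have hw0 : ∀ x : U F q, (x⁻¹ * τ x).1.1 = 0 := ker_apply hF τ hτ
  have hwc : ∀ x : U F q, x⁻¹ * τ x ∈ Subgroup.center (U F q) :=
    fun x => (mem_center_iff hF _).mpr (hw0 x)
  have hwmul : ∀ x y : U F q, (x * y)⁻¹ * τ (x * y) = (x⁻¹ * τ x) * (y⁻¹ * τ y) := by
    intro x y
    have hc := Subgroup.mem_center_iff.mp (hwc x) y⁻¹
    calc (x * y)⁻¹ * τ (x * y) = y⁻¹ * (x⁻¹ * τ x) * τ y := by rw [map_mul]; group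
      _ = (x⁻¹ * τ x) * y⁻¹ * τ y := by rw [hc]
      _ = (x⁻¹ * τ x) * (y⁻¹ * τ y) := by group
  have hwfst : ∀ x y : U F q, x.1.1 = y.1.1 → x⁻¹ * τ x = y⁻¹ * τ y := by
    intro x y hxy
    have hz : (x⁻¹ * y).1.1 = 0 := by
      rw [mul_fst, inv_fst, hxy, add_self q]
    have hy : y = x * (x⁻¹ * y) := by group
    have hτz := ker_fix_center hF τ hτ _ hz
    have h1 := hwmul x (x⁻¹ * y)
    rw [← hy, hτz, inv_mul_cancel, mul_one] at h1
    exact h1.symm
  let f : F →+ ↥(ZqAdd F q) :=
    { toFun := fun a => ⟨((lift hF a)⁻¹ * τ (lift hF a)).1.2, snd_fixed _ (hw0 _)⟩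
      map_zero' := by
        apply Subtype.ext
        have h1 := hwfst (lift hF 0) 1 rfl
        change ((lift hF 0)⁻¹ * τ (lift hF 0)).1.2 = 0
        rw [h1, map_one, inv_one, one_mul]
        rfl
      map_add' := by
        intro a b
        apply Subtype.ext
        have h1 := hwfst (lift hF (a + b)) (lift hF a * lift hF b) rfl
        change ((lift hF (a + b))⁻¹ * τ (lift hF (a + b))).1.2 =
          ((lift hF a)⁻¹ * τ (lift hF a)).1.2 + ((lift hF b)⁻¹ * τ (lift hF b)).1.2
        rw [h1, hwmul, mul_snd, hw0, zero_pow_q, zero_mul, add_zero] }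
  refine ⟨f, ?_⟩
  apply MulEquiv.ext
  intro x
  have h1 := hwfst (lift hF x.1.1) x rfl
  have h3 : zel ((f x.1.1 : F)) (mem_ZqAdd _) = (lift hF x.1.1)⁻¹ * τ (lift hF x.1.1) := by
    apply U.ext
    · rw [hw0]
      rfl
    · rfl
  rw [psiAut_apply]
  unfold psiFun
  rw [h3, h1]
  group

/-- The order of the kernel. -/
theorem card_ker_phi {n : ℕ} (hqn : q = 2 ^ n) : Nat.card (phi hF).ker = q ^ (2 * n) := by
  rw [← card_addHom hqn hF]
  symm
  refine Nat.card_congr (Equiv.ofBijective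
    (fun f => (⟨psiAut f, psiAut_mem_ker hF f⟩ : (phi hF).ker)) ⟨?_, ?_⟩)
  · intro f g h
    exact psiAut_injective hF (congrArg Subtype.val h)
  · rintro ⟨τ, hτ⟩
    obtain ⟨f, hf⟩ := ker_le_range_psi hF τ hτ
    exact ⟨f, Subtype.ext hf⟩

/-- The kernel is elementary abelian. -/
theorem ker_phi_elementary : Cfsg.IsElementaryAbelian 2 (phi hF).ker := by
  have hsq : ∀ τ ∈ (phi hF).ker, τ * τ = 1 := by
    intro τ hτ
    exact ker_sq hF τ ((mem_ker_phi hF τ).mp hτ)
  refine ⟨⟨⟨?_⟩⟩, ?_⟩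
  · intro a b
    apply Subtype.ext
    rw [Subgroup.coe_mul, Subgroup.coe_mul]
    have h1 := hsq _ a.2
    have h2 := hsq _ b.2
    have h3 := hsq _ ((phi hF).ker.mul_mem a.2 b.2)
    calc (a : MulAut (U F q)) * b = a * (a * b * (a * b)) * b := by rw [h3, mul_one]
      _ = (a * a) * b * a * (b * b) := by group
      _ = b * a := by rw [h1, h2, one_mul, mul_one]
  · intro τ hτ
    rw [pow_two]
    exact hsq τ hτ

end

end Cfsg.Agent.Helper2.U3q
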