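import Mathlib
import Cfsg.Prelude.Def_Classical
import Cfsg.Prelude.Def_Transfer
import Cfsg.Prelude.Def_Solvable
import Cfsg.Agent.Helper2.U3qO
import Cfsg.Agent.Helper4.PCore

set_option autoImplicit false

/-!
The order of the automorphism group of the abstract Sylow 2-subgroup of `SU₃(q)` and its largest
normal 2-subgroup.
-/

namespace Cfsg.Agent.Helper2.U3q

variable {F : Type*} [Field F] [Fintype F] {q : ℕ}

/-- The permutation `a ↦ l * σ a`. -/
def lsPerm (p : Fˣ × (F ≃+* F)) : Equiv.Perm F :=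
  p.2.toEquiv.trans (Equiv.mulLeft₀ (p.1 : F) p.1.ne_zero)

omit [Fintype F] in
theorem lsPerm_apply (p : Fˣ × (F ≃+* F)) (a : F) : lsPerm p a = (p.1 : F) * p.2 a := rfl

omit [Fintype F] in
theorem lsPerm_injective : Function.Injective (lsPerm (F := F)) := by
  intro p r h
  have h1 := congrArg (fun e : Equiv.Perm F => e 1) h
  simp only [lsPerm_apply, map_one, mul_one] at h1
  have hu : p.1 = r.1 := Units.ext h1
  apply Prod.ext hu
  apply RingEquiv.ext
  intro a
  have h2 := congrArg (fun e : Equiv.Perm F => e a) h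
  simp only [lsPerm_apply] at h2
  rw [h1] at h2
  exact mul_left_cancel₀ r.1.ne_zero h2

section
variable [hFq : IsFq2 F q] (hF : Fintype.card F = q ^ 2)
include hF

theorem range_phi_eq {k : ℕ} (hq : q = 2 * k) :
    ((phi hF).range : Set (Equiv.Perm F)) = Set.range (lsPerm (F := F)) := by
  ext e
  constructor
  · rintro ⟨τ, rfl⟩
    obtain ⟨l, σ, hl, hform⟩ := ind_form hF hq τ
    refine ⟨(Units.mk0 l hl, σ), ?_⟩
    apply Equiv.ext
    intro a
    rw [lsPerm_apply, phi_apply, hform]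
    rfl
  · rintro ⟨p, rfl⟩
    refine ⟨lsAut hF p.1.ne_zero p.2, ?_⟩
    apply Equiv.ext
    intro a
    rw [lsPerm_apply, phi_apply, ind_lsAut]

theorem card_range_phi {n : ℕ} (hqn : q = 2 ^ n) (hn : 1 ≤ n) :
    Nat.card (phi hF).range = (q ^ 2 - 1) * (2 * n) := by
  have hq : q = 2 * 2 ^ (n - 1) := by
    rw [hqn, ← pow_succ']
    congr 1
    omega
  have h1 : Nat.card (phi hF).range = Nat.card ↥(Set.range (lsPerm (F := F))) :=
    Nat.card_congr (Equiv.setCongr (range_phi_eq hF hq))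
  rw [h1, ← Nat.card_congr (Equiv.ofInjective _ (lsPerm_injective (F := F))), Nat.card_prod,
    Cfsg.Agent.Helper8.GUOrder.card_units_K hF, card_ringAut hqn hF]

theorem card_aut {n : ℕ} (hqn : q = 2 ^ n) (hn : 1 ≤ n) :
    Nat.card (MulAut (U F q)) = q ^ (2 * n) * ((q ^ 2 - 1) * (2 * n)) := by
  rw [← Subgroup.card_mul_index (phi hF).ker, Subgroup.index_ker, card_ker_phi hF hqn,
    card_range_phi hF hqn hn]

theorem pCore_eq_ker {n : ℕ} (hqn : q = 2 ^ n) (hn : 1 ≤ n) :
    Cfsg.pCore 2 (MulAut (U F q)) = (phi hF).ker := by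
  have hq : q = 2 * 2 ^ (n - 1) := by
    rw [hqn, ← pow_succ']
    congr 1
    omega
  have hodd : ∀ (m : F) (j : ℕ), m ≠ 0 → m ^ (2 ^ j) = 1 → m = 1 := by
    intro m j hm hmj
    have h1 := FiniteField.pow_card_sub_one_eq_one m hm
    have h3 := pow_gcd_eq_one.mpr ⟨hmj, h1⟩
    have hcop : Nat.gcd (2 ^ j) (Fintype.card F - 1) = 1 := by
      apply Nat.Coprime.pow_left
      rw [Nat.Prime.coprime_iff_not_dvd Nat.prime_two, hF, hqn]
      have : 2 ∣ (2 ^ n) ^ 2 := dvd_pow (dvd_pow_self 2 (by omega)) (by norm_num)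
      have hpos : 0 < (2 ^ n) ^ 2 := by positivity
      omega
    rwa [hcop, pow_one] at h3
  apply le_antisymm
  · intro τ hτ
    haveI hnorm : (Cfsg.pCore 2 (MulAut (U F q))).Normal := Cfsg.Agent.Helper4.pCore_normal
    have hP : IsPGroup 2 (Cfsg.pCore 2 (MulAut (U F q))) := Cfsg.Agent.Helper4.pCore_isPGroup
    obtain ⟨l₀, σ, hl₀, hform⟩ := ind_form hF hq τ
    have hpow : ∀ c ∈ Cfsg.pCore 2 (MulAut (U F q)), ∃ j : ℕ, c ^ (2 ^ j) = 1 := by
      intro c hc
      obtain ⟨j, hj⟩ := hP ⟨c, hc⟩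
      refine ⟨j, ?_⟩
      have := congrArg Subtype.val hj
      rwa [Subgroup.coe_pow] at this
    -- σ = id
    have hσ : ∀ l : F, σ l = l := by
      intro l
      by_cases hl : l = 0
      · rw [hl, map_zero]
      set κ := lsAut hF hl (RingEquiv.refl F) with hκ
      have hc : τ * κ * τ⁻¹ * κ⁻¹ ∈ Cfsg.pCore 2 (MulAut (U F q)) := by
        have h1 : κ * τ⁻¹ * κ⁻¹ ∈ Cfsg.pCore 2 (MulAut (U F q)) :=
          hnorm.conj_mem _ (inv_mem hτ) κ
        have h2 := mul_mem hτ h1
        have e : τ * (κ * τ⁻¹ * κ⁻¹) = τ * κ * τ⁻¹ * κ⁻¹ := by group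
        rwa [e] at h2
      have hphi : ∀ a, phi hF (τ * κ * τ⁻¹ * κ⁻¹) a = σ l * l⁻¹ * a := by
        intro a
        rw [map_mul, map_mul, map_mul, map_inv, map_inv, Equiv.Perm.mul_apply,
          Equiv.Perm.mul_apply, Equiv.Perm.mul_apply]
        obtain ⟨b, hb⟩ : ∃ b, b = (phi hF κ)⁻¹ a := ⟨_, rfl⟩
        obtain ⟨d, hd⟩ : ∃ d, d = (phi hF τ)⁻¹ b := ⟨_, rfl⟩
        have hb' : phi hF κ b = a := (Equiv.Perm.inv_eq_iff_eq.mp hb.symm).symm
        have hd' : phi hF τ d = b := (Equiv.Perm.inv_eq_iff_eq.mp hd.symm).symm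
        rw [← hb, ← hd]
        rw [phi_apply, hform] at hd'
        have hb'' : l * b = a := by
          rw [phi_apply, hκ, ind_lsAut] at hb'
          exact hb'
        rw [phi_apply, phi_apply, hform, hκ, ind_lsAut]
        change l₀ * σ (l * d) = σ l * l⁻¹ * a
        rw [map_mul, ← hb'', ← hd']
        field_simp
      obtain ⟨j, hj⟩ := hpow _ hc
      have hpowj : ∀ (i : ℕ) (a : F), ((phi hF (τ * κ * τ⁻¹ * κ⁻¹)) ^ i) a = (σ l * l⁻¹) ^ i * a := by
        intro i
        induction i with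
        | zero => intro a; simp
        | succ i ih =>
          intro a
          rw [pow_succ, Equiv.Perm.mul_apply, hphi, ih, pow_succ]
          ring
      have h5 := hpowj (2 ^ j) 1
      have h7 : (phi hF (τ * κ * τ⁻¹ * κ⁻¹)) ^ (2 ^ j) = 1 := by rw [← map_pow, hj, map_one]
      rw [h7, Equiv.Perm.one_apply, mul_one] at h5
      have hσl : σ l ≠ 0 := by
        intro h0
        apply hl
        have := σ.injective (h0.trans (map_zero σ).symm)
        exact this
      have h6 := hodd (σ l * l⁻¹) j (mul_ne_zero hσl (inv_ne_zero hl)) h5.symm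
      field_simp at h6
      exact h6
    -- l₀ = 1
    obtain ⟨j, hj⟩ := hpow τ hτ
    have hpowj : ∀ (i : ℕ) (a : F), ((phi hF τ) ^ i) a = l₀ ^ i * a := by
      intro i
      induction i with
      | zero => intro a; simp
      | succ i ih =>
        intro a
        rw [pow_succ, Equiv.Perm.mul_apply, phi_apply, hform, hσ, ih, pow_succ]
        ring
    have h5 := hpowj (2 ^ j) 1
    have h7 : (phi hF τ) ^ (2 ^ j) = 1 := by rw [← map_pow, hj, map_one]
    rw [h7, Equiv.Perm.one_apply, mul_one] at h5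
    have h6 := hodd l₀ j hl₀ h5.symm
    rw [mem_ker_phi]
    intro a
    rw [hform, hσ, h6, one_mul]
  · apply Cfsg.Agent.Helper4.le_pCore _ (MonoidHom.normal_ker _)
    apply IsPGroup.of_card (n := n * (2 * n))
    rw [card_ker_phi hF hqn, hqn, ← pow_mul]

end

end Cfsg.Agent.Helper2.U3q
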