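import Mathlib
import Cfsg.Prelude.Def_Classical
import Cfsg.Prelude.Def_Transfer
import Cfsg.Prelude.Def_Solvable
import Cfsg.Agent.Helper2.U3qP
import Cfsg.Agent.Helper2.U3qK
import Cfsg.Agent.Helper5.Cores

set_option autoImplicit false

/-!
The automorphism group of a Sylow 2-subgroup of `SU₃(2ⁿ)`.
-/

namespace Cfsg.Agent.Helper2.U3q

theorem pCore_map_le {G H : Type*} [Group G] [Group H] (E : G ≃* H) (p : ℕ) :
    (Cfsg.pCore p G).map E.toMonoidHom ≤ Cfsg.pCore p H := by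
  apply Cfsg.Agent.Helper4.le_pCore
  · haveI : (Cfsg.pCore p G).Normal := Cfsg.Agent.Helper4.pCore_normal
    exact Subgroup.Normal.map inferInstance _ E.surjective
  · exact (Cfsg.Agent.Helper5.isPGroup_pCore p).map _

theorem pCore_map_equiv {G H : Type*} [Group G] [Group H] (E : G ≃* H) (p : ℕ) :
    (Cfsg.pCore p G).map E.toMonoidHom = Cfsg.pCore p H := by
  apply le_antisymm (pCore_map_le E p)
  intro x hx
  have h1 := pCore_map_le E.symm p (Subgroup.mem_map_of_mem _ hx)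
  refine ⟨E.symm x, h1, ?_⟩
  exact E.apply_symm_apply x

variable {F : Type*} [Field F] [Fintype F]

/-- The structure of the automorphism group of a group isomorphic to the abstract group. -/
theorem aut_main {S : Type*} [Group S] {n : ℕ} (hn : 1 ≤ n) (hF : Fintype.card F = (2 ^ n) ^ 2)
    [IsFq2 F (2 ^ n)] (e : S ≃* U F (2 ^ n)) :
    Cfsg.IsElementaryAbelian 2 (Cfsg.pCore 2 (MulAut S)) ∧
      Nat.card ↥(Cfsg.pCore 2 (MulAut S)) = 2 ^ (2 * n ^ 2) ∧
      Nat.card (MulAut S) = 2 ^ (2 * n ^ 2) * (2 * n * ((2 ^ n) ^ 2 - 1)) := by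
  let E : MulAut S ≃* MulAut (U F (2 ^ n)) := MulAut.congr e
  have hmap : (Cfsg.pCore 2 (MulAut S)).map E.toMonoidHom = (phi hF).ker := by
    rw [pCore_map_equiv E 2, pCore_eq_ker hF rfl hn]
  have hel := ker_phi_elementary hF
  have hpow : ((2 : ℕ) ^ n) ^ (2 * n) = 2 ^ (2 * n ^ 2) := by
    rw [← pow_mul]
    congr 1
    ring
  have hmem : ∀ a ∈ Cfsg.pCore 2 (MulAut S), E a ∈ (phi hF).ker := by
    intro a ha
    rw [← hmap]
    exact Subgroup.mem_map_of_mem _ ha
  refine ⟨⟨⟨⟨?_⟩⟩, ?_⟩, ?_, ?_⟩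
  · intro a b
    apply Subtype.ext
    apply E.injective
    rw [Subgroup.coe_mul, Subgroup.coe_mul, map_mul, map_mul]
    have := hel.1.is_comm.comm ⟨E a, hmem a a.2⟩ ⟨E b, hmem b b.2⟩
    exact congrArg Subtype.val this
  · intro a ha
    apply E.injective
    rw [map_pow, map_one]
    exact hel.2 _ (hmem a ha)
  · have h1 : Nat.card ↥(Cfsg.pCore 2 (MulAut S)) =
        Nat.card ↥((Cfsg.pCore 2 (MulAut S)).map E.toMonoidHom) :=
      Nat.card_congr (Subgroup.equivMapOfInjective _ _ E.injective).toEquiv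
    rw [h1, hmap, card_ker_phi hF rfl, hpow]
  · rw [Nat.card_congr E.toEquiv, card_aut hF rfl hn, hpow]
    ring

end Cfsg.Agent.Helper2.U3q
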