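import Mathlib
import Cfsg.Agent.Helper2.Unbal1

/-!
Helper lemmas (helper2): transfer of `exists_unbalanced_component` to a subgroup `H` normalized by the
involution `t`, via the group `H ⟨t⟩`.
-/

set_option autoImplicit false

namespace Cfsg.Agent.Helper2

open scoped commutatorElement

section amb
variable {G : Type*} [Group G] [Finite G]

theorem pPrimeCore_eq_bot_of_sq_mem (N : Subgroup G) [hN : N.Normal] (hsq : ∀ x : G, x ^ 2 ∈ N)
    (hO : Cfsg.pPrimeCore 2 ↥N = ⊥) : Cfsg.pPrimeCore 2 G = ⊥ := by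
  have hle : Cfsg.pPrimeCore 2 G ≤ N := by
    intro x hx
    have h1 : orderOf x ∣ Nat.card ↥(Cfsg.pPrimeCore 2 G) := Subgroup.orderOf_dvd_natCard _ hx
    have h2 : (Nat.card ↥(Cfsg.pPrimeCore 2 G)).Coprime 2 :=
      Cfsg.Agent.Helper1.card_pPrimeCore_coprime 2
    have h3 : Nat.Coprime 2 (orderOf x) := (Nat.Coprime.coprime_dvd_left h1 h2).symm
    exact mem_of_pow_mem_of_coprime N h3 (hsq x)
  have h4 := pPrimeCore_subnormal_eq_subgroupOf 2 N hN.isSubnormal
  rw [hO] at h4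
  have h5 : Disjoint (Cfsg.pPrimeCore 2 G) N := Subgroup.subgroupOf_eq_bot.mp h4.symm
  exact h5.eq_bot_of_le hle

omit [Finite G] in
theorem le_of_perfect_of_sq_mem (N : Subgroup G) [hN : N.Normal] (hsq : ∀ x : G, x ^ 2 ∈ N)
    (K : Subgroup G) (hK : ⁅K, K⁆ = K) : K ≤ N := by
  have hq : ∀ q : G ⧸ N, q ^ 2 = 1 := by
    intro q
    induction q using QuotientGroup.induction_on with
    | H x =>
      rw [← QuotientGroup.mk_pow, QuotientGroup.eq_one_iff]
      exact hsq x
  have hinv : ∀ q : G ⧸ N, q⁻¹ = q := by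
    intro q
    have := hq q
    rw [pow_two] at this
    exact inv_eq_of_mul_eq_one_left this
  have hcomm : ∀ a b : G, ⁅a, b⁆ ∈ N := by
    intro a b
    rw [← QuotientGroup.eq_one_iff]
    have h1 : ((⁅a, b⁆ : G) : G ⧸ N) = ⁅(a : G ⧸ N), (b : G ⧸ N)⁆ := by
      simp [commutatorElement_def]
    rw [h1, commutatorElement_def, hinv, hinv]
    have := hq ((a : G ⧸ N) * (b : G ⧸ N))
    rw [pow_two] at this
    simpa [mul_assoc] using this
  rw [← hK, Subgroup.commutator_le]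
  intro a _ b _
  exact hcomm a b

end amb

section transfer
variable {G : Type*} [Group G] [Finite G]

theorem exists_unbalanced_component_of_subgroup (H : Subgroup G) (hO : Cfsg.pPrimeCore 2 ↥H = ⊥)
    (t : G) (ht : orderOf t = 2) (htH : t ∈ Subgroup.normalizer (H : Set G)) (Y : Subgroup G)
    (hY1 : Y ≠ ⊥) (hY : Y ≤ coreOf 2 (H ⊓ Subgroup.centralizer ({t} : Set G))) :
    ∃ E : Subgroup ↥H, Cfsg.IsComponent E ∧ cj t (E.map H.subtype) = E.map H.subtype ∧
      Y ≤ Subgroup.normalizer ((E.map H.subtype : Subgroup G) : Set G) ∧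
      ¬ (t ∈ Subgroup.centralizer ((E.map H.subtype : Subgroup G) : Set G)) ∧
      ¬ (Y ≤ Subgroup.centralizer ((E.map H.subtype : Subgroup G) : Set G)) := by
  classical
  -- the ambient group `Hs = H ⟨t⟩`
  have hHs : H ≤ H ⊔ Subgroup.zpowers t := le_sup_left
  have htHs : t ∈ H ⊔ Subgroup.zpowers t := Subgroup.mem_sup_right (Subgroup.mem_zpowers t)
  have hzN : Subgroup.zpowers t ≤ Subgroup.normalizer (H : Set G) := by
    rw [Subgroup.zpowers_le]; exact htH
  have hHsN : H ⊔ Subgroup.zpowers t ≤ Subgroup.normalizer (H : Set G) :=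
    sup_le Subgroup.le_normalizer hzN
  have hNn : (H.subgroupOf (H ⊔ Subgroup.zpowers t)).Normal :=
    (Subgroup.normal_subgroupOf_iff_le_normalizer hHs).mpr hHsN
  -- squares lie in `H`
  have hsq : ∀ x : ↥(H ⊔ Subgroup.zpowers t), x ^ 2 ∈ H.subgroupOf (H ⊔ Subgroup.zpowers t) := by
    intro x
    rw [Subgroup.mem_subgroupOf]
    obtain ⟨h, hh, k, hk, hx⟩ := Cfsg.Agent.Helper1.mem_sup_of_le_normalizer hzN x.2
    have hxv : ((x ^ 2 : ↥(H ⊔ Subgroup.zpowers t)) : G) = (h * k) ^ 2 := by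
      rw [Subgroup.coe_pow, hx]
    rw [hxv]
    rcases mem_zpowers_of_orderOf_two ht hk with h1 | h1
    · rw [h1, mul_one]; exact H.pow_mem hh 2
    · rw [h1]
      have h2 : t * h * t⁻¹ ∈ H := (Subgroup.mem_normalizer_iff.mp htH h).mp hh
      have ht2 : t ^ 2 = 1 := by rw [← ht]; exact pow_orderOf_eq_one t
      have ht3 : t⁻¹ = t := by
        rw [pow_two] at ht2
        exact inv_eq_of_mul_eq_one_left ht2
      have h3 : (h * t) ^ 2 = h * (t * h * t⁻¹) := by
        rw [ht3, pow_two]; group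
      rw [h3]
      exact H.mul_mem hh h2
  -- `O(H) = 1` transfers
  have hO' : Cfsg.pPrimeCore 2 ↥(H.subgroupOf (H ⊔ Subgroup.zpowers t)) = ⊥ := by
    have h1 := pPrimeCore_map_equiv 2 (Subgroup.subgroupOfEquivOfLe hHs)
    rw [hO] at h1
    exact (Subgroup.map_eq_bot_iff_of_injective _ (Subgroup.subgroupOfEquivOfLe hHs).injective).mp h1
  have hOΓ : Cfsg.pPrimeCore 2 ↥(H ⊔ Subgroup.zpowers t) = ⊥ :=
    pPrimeCore_eq_bot_of_sq_mem _ hsq hO'
  -- the data in `Hs`
  have ht' : orderOf (⟨t, htHs⟩ : ↥(H ⊔ Subgroup.zpowers t)) = 2 := by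
    rw [Subgroup.orderOf_mk]; exact ht
  have hD0le : coreOf 2 (H ⊓ Subgroup.centralizer ({t} : Set G)) ≤
      H ⊓ Subgroup.centralizer ({t} : Set G) := coreOf_le 2 _
  have hD0Hs : coreOf 2 (H ⊓ Subgroup.centralizer ({t} : Set G)) ≤ H ⊔ Subgroup.zpowers t :=
    hD0le.trans (inf_le_left.trans hHs)
  have hDt : (coreOf 2 (H ⊓ Subgroup.centralizer ({t} : Set G))).subgroupOf
      (H ⊔ Subgroup.zpowers t) ≤
      Subgroup.centralizer ({(⟨t, htHs⟩ : ↥(H ⊔ Subgroup.zpowers t))} : Set _) := by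
    intro x hx
    rw [Subgroup.mem_subgroupOf] at hx
    have h1 : (x : G) ∈ Subgroup.centralizer ({t} : Set G) := (hD0le hx).2
    rw [Subgroup.mem_centralizer_iff] at h1 ⊢
    intro y hy
    rw [Set.mem_singleton_iff] at hy
    subst hy
    apply Subtype.ext
    exact h1 t rfl
  have htD : Subgroup.centralizer ({(⟨t, htHs⟩ : ↥(H ⊔ Subgroup.zpowers t))} : Set _) ≤
      Subgroup.normalizer (((coreOf 2 (H ⊓ Subgroup.centralizer ({t} : Set G))).subgroupOf
        (H ⊔ Subgroup.zpowers t) : Subgroup ↥(H ⊔ Subgroup.zpowers t)) : Set _) := by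
    intro g hg
    have hgt : t * (g : G) = (g : G) * t := by
      rw [Subgroup.mem_centralizer_iff] at hg
      have := hg ⟨t, htHs⟩ rfl
      exact congrArg Subtype.val this
    have hgH : cj (g : G) H = H := (mem_normalizer_iff_cj H _).mp (hHsN g.2)
    have hgC : cj (g : G) (Subgroup.centralizer ({t} : Set G)) =
        Subgroup.centralizer ({t} : Set G) := by
      apply (mem_normalizer_iff_cj _ _).mp
      apply Subgroup.le_normalizer
      rw [Subgroup.mem_centralizer_iff]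
      intro y hy
      rw [Set.mem_singleton_iff] at hy
      subst hy
      exact hgt.symm ▸ rfl
    have hgI : cj (g : G) (H ⊓ Subgroup.centralizer ({t} : Set G)) =
        H ⊓ Subgroup.centralizer ({t} : Set G) := by
      unfold cj
      rw [Subgroup.map_inf _ _ _ (MulAut.conj (g : G)).injective]
      change cj (g : G) H ⊓ cj (g : G) _ = _
      rw [hgH, hgC]
    have hgD : cj (g : G) (coreOf 2 (H ⊓ Subgroup.centralizer ({t} : Set G))) =
        coreOf 2 (H ⊓ Subgroup.centralizer ({t} : Set G)) := by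
      rw [← coreOf_cj, hgI]
    have hgN : (g : G) ∈ Subgroup.normalizer
        ((coreOf 2 (H ⊓ Subgroup.centralizer ({t} : Set G)) : Subgroup G) : Set G) :=
      (mem_normalizer_iff_cj _ _).mpr hgD
    rw [Subgroup.mem_normalizer_iff] at hgN ⊢
    intro x
    rw [Subgroup.mem_subgroupOf, Subgroup.mem_subgroupOf]
    exact hgN x
  have hDodd : (Nat.card ↥((coreOf 2 (H ⊓ Subgroup.centralizer ({t} : Set G))).subgroupOf
      (H ⊔ Subgroup.zpowers t))).Coprime 2 := by
    rw [Cfsg.Agent.Helper1.card_subgroupOf_of_le hD0Hs]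
    exact card_coreOf_coprime 2 _
  have hYHs : Y ≤ H ⊔ Subgroup.zpowers t := hY.trans hD0Hs
  have hY1' : Y.subgroupOf (H ⊔ Subgroup.zpowers t) ≠ ⊥ := by
    intro h
    apply hY1
    rw [Subgroup.subgroupOf_eq_bot] at h
    exact h.eq_bot_of_le hYHs
  have hYD : Y.subgroupOf (H ⊔ Subgroup.zpowers t) ≤
      (coreOf 2 (H ⊓ Subgroup.centralizer ({t} : Set G))).subgroupOf (H ⊔ Subgroup.zpowers t) := by
    intro x hx
    rw [Subgroup.mem_subgroupOf] at hx ⊢
    exact hY hx
  obtain ⟨K, hK, htK, hYK, htcK, hYcK⟩ :=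
    exists_unbalanced_component hOΓ ⟨t, htHs⟩ ht' _ hDt htD hDodd _ hY1' hYD
  have hKN : K ≤ H.subgroupOf (H ⊔ Subgroup.zpowers t) :=
    le_of_perfect_of_sq_mem _ hsq K (component_perfect hK)
  -- the component of `H`
  have hE := isComponent_map_equiv (Subgroup.subgroupOfEquivOfLe hHs)
    (isComponent_subgroupOf hK hKN)
  refine ⟨_, hE, ?_⟩
  have hmap : ((K.subgroupOf (H.subgroupOf (H ⊔ Subgroup.zpowers t))).map
      (Subgroup.subgroupOfEquivOfLe hHs).toMonoidHom).map H.subtype =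
      K.map (H ⊔ Subgroup.zpowers t).subtype := by
    ext x
    constructor
    · rintro ⟨y, ⟨z, hz, rfl⟩, rfl⟩
      have hz' : (z : ↥(H ⊔ Subgroup.zpowers t)) ∈ K := Subgroup.mem_subgroupOf.mp hz
      exact ⟨_, hz', rfl⟩
    · rintro ⟨k, hk, rfl⟩
      have hkN := hKN hk
      refine ⟨⟨(k : G), hkN⟩, ⟨⟨k, hkN⟩, ?_, rfl⟩, rfl⟩
      exact Subgroup.mem_subgroupOf.mpr hk
  rw [hmap]
  have hcjK : ∀ g : ↥(H ⊔ Subgroup.zpowers t), g ∈ Subgroup.normalizer (K : Set _) →
      cj (g : G) (K.map (H ⊔ Subgroup.zpowers t).subtype) =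
        K.map (H ⊔ Subgroup.zpowers t).subtype := by
    intro g hg
    have h1 := (mem_normalizer_iff_cj K g).mp hg
    have h2 := map_cj (H ⊔ Subgroup.zpowers t).subtype K g
    rw [h1] at h2
    exact h2.symm
  have hcent : ∀ g : ↥(H ⊔ Subgroup.zpowers t),
      (g : G) ∈ Subgroup.centralizer ((K.map (H ⊔ Subgroup.zpowers t).subtype : Subgroup G) : Set G) →
      g ∈ Subgroup.centralizer (K : Set _) := by
    intro g hg
    rw [Subgroup.mem_centralizer_iff] at hg ⊢
    intro k hk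
    apply Subtype.ext
    exact hg (k : G) ⟨k, hk, rfl⟩
  refine ⟨hcjK ⟨t, htHs⟩ htK, ?_, ?_, ?_⟩
  · intro y hy
    have h1 : (⟨y, hYHs hy⟩ : ↥(H ⊔ Subgroup.zpowers t)) ∈ Y.subgroupOf (H ⊔ Subgroup.zpowers t) := by
      rw [Subgroup.mem_subgroupOf]; exact hy
    exact (mem_normalizer_iff_cj _ _).mpr (hcjK _ (hYK h1))
  · intro htc
    exact htcK (hcent ⟨t, htHs⟩ htc)
  · intro hYc
    apply hYcK
    intro y hy
    rw [Subgroup.mem_subgroupOf] at hy
    exact hcent y (hYc hy)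

end transfer

end Cfsg.Agent.Helper2
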