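import Mathlib
import Cfsg.Agent.Helper2.GL2SylC
import Cfsg.Agent.Helper2.GL2SylD
import Cfsg.Agent.Helper8.GUOrder

/-!
# Order of a Sylow 2-subgroup of `GU(2, q)`, `q` odd, and the wreathed case `q ≡ 3 (mod 4)`
-/

set_option autoImplicit false
set_option linter.style.haveILetI false

namespace Cfsg.Agent.Helper2.UnitSyl

open Matrix Cfsg Cfsg.Agent.Helper2.GL2Syl Cfsg.Agent.Helper8.GUOrder

variable {K : Type*} [Field K] [Fintype K] {q : ℕ}

theorem card_GU2 (hK : Fintype.card K = q ^ 2) :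
    Nat.card (GU 2 K q) = q * (q + 1) * ((q + 1) * (q - 1)) := by
  have hq := two_le_q hK
  rw [card_GU hK 2, Finset.prod_range_succ, Finset.prod_range_succ, Finset.prod_range_zero]
  have h0 : Even 0 := by decide
  have h1 : ¬ Even 1 := by decide
  rw [if_pos h0, if_neg h1]
  have e : q ^ (1 + 1) - 1 = (q + 1) * (q - 1) := by
    obtain ⟨r, rfl⟩ : ∃ r, q = r + 1 := ⟨q - 1, by omega⟩
    simp only [Nat.add_sub_cancel]
    have : (r + 1) ^ (1 + 1) = (r + 1 + 1) * r + 1 := by ring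
    omega
  rw [e]
  norm_num
  ring

instance finite_GU (n : ℕ) : Finite (GU n K q) := by
  classical
  exact Finite.of_injective (fun g : GU n K q => (g : GL (Fin n) K)) Subtype.val_injective

/-- The order of a Sylow 2-subgroup of `GU(2, q)` for odd `q`. -/
theorem card_sylow_GU2 (hK : Fintype.card K = q ^ 2) (hq : Odd q) (P : Sylow 2 (GU 2 K q)) :
    Nat.card P = 2 ^ (2 * (q + 1).factorization 2 + (q - 1).factorization 2) := by
  haveI : Fact (Nat.Prime 2) := ⟨Nat.prime_two⟩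
  have hq2 := two_le_q hK
  rw [Sylow.card_eq_multiplicity, card_GU2 hK]
  have h1 : q - 1 ≠ 0 := by omega
  have h2 : q + 1 ≠ 0 := by omega
  have h3 : q ≠ 0 := by omega
  have hqf : q.factorization 2 = 0 := by
    apply Nat.factorization_eq_zero_of_not_dvd
    obtain ⟨j, hj⟩ := hq
    omega
  rw [Nat.factorization_mul (mul_ne_zero h3 h2) (mul_ne_zero h2 h1),
    Nat.factorization_mul h3 h2, Nat.factorization_mul h2 h1]
  simp only [Finsupp.add_apply, hqf]
  congr 1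
  ring

theorem zero_pow_q (hK : Fintype.card K = q ^ 2) : (0 : K) ^ q = 0 :=
  zero_pow (by have := two_le_q hK; omega)

theorem dX_mem_GU (hK : Fintype.card K = q ^ 2) (a : Kˣ) (ha : a ^ (q + 1) = 1) :
    (dX a : GL (Fin 2) K) ∈ GU 2 K q := by
  rw [mem_GU_iff hK, dX_val]
  have h1 : (a : K) * (a : K) ^ q = 1 := by
    have := congrArg Units.val ha
    rw [Units.val_pow_eq_pow_val, Units.val_one, pow_succ'] at this
    exact this
  ext i j
  fin_cases i <;> fin_cases j <;>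
    simp [Matrix.mul_apply, Fin.sum_univ_two, Matrix.transpose_apply, zero_pow_q hK, h1]

theorem dY_mem_GU (hK : Fintype.card K = q ^ 2) (a : Kˣ) (ha : a ^ (q + 1) = 1) :
    (dY a : GL (Fin 2) K) ∈ GU 2 K q := by
  rw [mem_GU_iff hK, dY_val]
  have h1 : (a : K) * (a : K) ^ q = 1 := by
    have := congrArg Units.val ha
    rw [Units.val_pow_eq_pow_val, Units.val_one, pow_succ'] at this
    exact this
  ext i j
  fin_cases i <;> fin_cases j <;>
    simp [Matrix.mul_apply, Fin.sum_univ_two, Matrix.transpose_apply, zero_pow_q hK, h1]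

theorem sw_mem_GU (hK : Fintype.card K = q ^ 2) : (sw : GL (Fin 2) K) ∈ GU 2 K q := by
  rw [mem_GU_iff hK, sw_val]
  ext i j
  fin_cases i <;> fin_cases j <;>
    simp [Matrix.mul_apply, Fin.sum_univ_two, Matrix.transpose_apply, zero_pow_q hK]

/-- Disjointness of cyclic subgroups passes to a subgroup. -/
theorem zpowers_inf_eq_bot_subgroup {G : Type*} [Group G] (H : Subgroup G) {x y : G} (hx : x ∈ H)
    (hy : y ∈ H) (h : Subgroup.zpowers x ⊓ Subgroup.zpowers y = ⊥) :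
    Subgroup.zpowers (⟨x, hx⟩ : H) ⊓ Subgroup.zpowers (⟨y, hy⟩ : H) = ⊥ := by
  rw [eq_bot_iff]
  rintro ⟨g, hgH⟩ ⟨hg1, hg2⟩
  rw [Subgroup.mem_bot]
  apply Subtype.ext
  obtain ⟨k, hk⟩ := Subgroup.mem_zpowers_iff.mp hg1
  obtain ⟨l, hl⟩ := Subgroup.mem_zpowers_iff.mp hg2
  have hk' : x ^ k = g := by
    have := congrArg Subtype.val hk
    simpa using this
  have hl' : y ^ l = g := by
    have := congrArg Subtype.val hl
    simpa using this
  have hmem : g ∈ Subgroup.zpowers x ⊓ Subgroup.zpowers y :=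
    ⟨hk' ▸ Subgroup.zpow_mem _ (Subgroup.mem_zpowers x) k,
      hl' ▸ Subgroup.zpow_mem _ (Subgroup.mem_zpowers y) l⟩
  rw [h, Subgroup.mem_bot] at hmem
  exact hmem

/-- Sylow 2-subgroups of `GU(2, q)` are wreathed for `q ≡ 3 (mod 4)`. -/
theorem isWreathed_GU2 (hK : Fintype.card K = q ^ 2) (hq : q % 4 = 3) (P : Sylow 2 (GU 2 K q)) :
    Cfsg.IsWreathed (P : Subgroup (GU 2 K q)) := by
  have hodd : Odd q := by rw [Nat.odd_iff]; omega
  obtain ⟨n, hn⟩ : ∃ n, n = (q + 1).factorization 2 := ⟨_, rfl⟩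
  have hn2 : 2 ≤ n := hn ▸ two_le_factorization_two (by omega) (by omega)
  have h1 : (q - 1).factorization 2 = 1 := factorization_two_eq_one (by omega) (by omega)
  have hcard : Nat.card P = 2 ^ (2 * n + 1) := by
    rw [card_sylow_GU2 hK hodd P, h1, ← hn]
  have hdvd : 2 ^ n ∣ Nat.card Kˣ := by
    rw [card_units_K hK, qsq_sub_one hK, hn]
    exact Dvd.dvd.mul_left (Nat.ordProj_dvd (q + 1) 2) _
  obtain ⟨a, ha⟩ := exists_orderOf_of_dvd_card (C := Kˣ) hdvd
  have haq : a ^ (q + 1) = 1 := by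
    rw [← orderOf_dvd_iff_pow_eq_one, ha, hn]
    exact Nat.ordProj_dvd (q + 1) 2
  have hxG := dX_mem_GU hK a haq
  have hyG := dY_mem_GU hK a haq
  have hzG := sw_mem_GU hK
  have hx : orderOf (⟨dX a, hxG⟩ : GU 2 K q) = 2 ^ n := by
    rw [Subgroup.orderOf_mk, orderOf_injective dX dX_injective, ha]
  have hxy : (⟨dX a, hxG⟩ : GU 2 K q) * ⟨dY a, hyG⟩ = ⟨dY a, hyG⟩ * ⟨dX a, hxG⟩ :=
    Subtype.ext (dX_comm_dY a a)
  have hz : orderOf (⟨sw, hzG⟩ : GU 2 K q) = 2 := by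
    rw [Subgroup.orderOf_mk, orderOf_sw]
  have hzx : (⟨sw, hzG⟩ : GU 2 K q) * ⟨dX a, hxG⟩ * (⟨sw, hzG⟩ : GU 2 K q)⁻¹ = ⟨dY a, hyG⟩ :=
    Subtype.ext (sw_conj_dX a)
  exact isWreathed_sylow P n hn2 hcard _ _ _ hx hxy
    (zpowers_inf_eq_bot_subgroup _ hxG hyG (zpowers_dX_inf_dY a)) hz hzx _
    (isPGroup_wreath hx hxy hz hzx)
    (Subgroup.mem_sup_right (Subgroup.mem_sup_left (Subgroup.mem_zpowers _)))
    (Subgroup.mem_sup_right (Subgroup.mem_sup_right (Subgroup.mem_zpowers _)))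
    (Subgroup.mem_sup_left (Subgroup.mem_zpowers _))

end Cfsg.Agent.Helper2.UnitSyl
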