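import Mathlib
import Cfsg.Agent.Helper2.UnitSylA

/-!
# The quasi-dihedral case: Sylow 2-subgroups of `GU(2, q)` for `q ≡ 1 (mod 4)`
-/

set_option autoImplicit false
set_option linter.style.haveILetI false

namespace Cfsg.Agent.Helper2.UnitSyl

open Matrix Cfsg Cfsg.Agent.Helper2.GL2Syl Cfsg.Agent.Helper8.GUOrder Cfsg.Agent.Helper7.Herm

variable {K : Type*} [Field K]

/-- The matrix acting as `l` and `m` on the two isotropic lines spanned by `(1, ε)`, `(1, -ε)`. -/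
def Phi (ε l m : K) : Matrix (Fin 2) (Fin 2) K :=
  !![(l + m) / 2, (l - m) / (2 * ε); ε * (l - m) / 2, (l + m) / 2]

theorem Phi_mul {ε : K} (hε : ε ≠ 0) (h2 : (2 : K) ≠ 0) (l m l' m' : K) :
    Phi ε l m * Phi ε l' m' = Phi ε (l * l') (m * m') := by
  unfold Phi
  rw [Matrix.mul_fin_two]
  ext i j
  fin_cases i <;> fin_cases j <;> simp <;> field_simp <;> ring

theorem Phi_one {ε : K} (h2 : (2 : K) ≠ 0) : Phi ε 1 1 = 1 := by
  unfold Phi
  rw [Matrix.one_fin_two]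
  ext i j
  fin_cases i <;> fin_cases j <;> simp
  all_goals rw [one_add_one_eq_two]; exact div_self h2

theorem Phi_recover {ε : K} (hε : ε ≠ 0) (h2 : (2 : K) ≠ 0) (l m : K) :
    Phi ε l m 0 0 + Phi ε l m 1 0 / ε = l := by
  unfold Phi
  simp
  field_simp
  ring

/-- The cyclic torus of order `q² - 1`. -/
def torus (ε : K) (hε : ε ≠ 0) (h2 : (2 : K) ≠ 0) (q : ℕ) : Kˣ →* GL (Fin 2) K where
  toFun l := ⟨Phi ε (l : K) ((l : K) ^ q)⁻¹, Phi ε (l : K)⁻¹ ((l : K) ^ q),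
    by rw [Phi_mul hε h2, mul_inv_cancel₀ (Units.ne_zero l),
      inv_mul_cancel₀ (pow_ne_zero _ (Units.ne_zero l)), Phi_one h2],
    by rw [Phi_mul hε h2, inv_mul_cancel₀ (Units.ne_zero l),
      mul_inv_cancel₀ (pow_ne_zero _ (Units.ne_zero l)), Phi_one h2]⟩
  map_one' := by
    apply Units.ext
    simp [Phi_one h2]
  map_mul' a b := by
    apply Units.ext
    simp only [Units.val_mul]
    rw [Phi_mul hε h2, mul_pow, mul_inv]

theorem torus_val (ε : K) (hε : ε ≠ 0) (h2 : (2 : K) ≠ 0) (q : ℕ) (l : Kˣ) :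
    ((torus ε hε h2 q l : GL (Fin 2) K) : Matrix (Fin 2) (Fin 2) K) =
      Phi ε (l : K) ((l : K) ^ q)⁻¹ := rfl

theorem torus_injective (ε : K) (hε : ε ≠ 0) (h2 : (2 : K) ≠ 0) (q : ℕ) :
    Function.Injective (torus ε hε h2 q) := by
  intro a b hab
  have h := congrArg (fun g : GL (Fin 2) K => (g : Matrix (Fin 2) (Fin 2) K)) hab
  simp only [torus_val] at h
  apply Units.ext
  rw [← Phi_recover hε h2 (a : K) ((a : K) ^ q)⁻¹, ← Phi_recover hε h2 (b : K) ((b : K) ^ q)⁻¹, h]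

/-- `diag(1, -1)`. -/
def ym : GL (Fin 2) K := dY (-1)

theorem ym_val : ((ym : GL (Fin 2) K) : Matrix (Fin 2) (Fin 2) K) = !![1, 0; 0, -1] := by
  unfold ym
  rw [dY_val]
  simp

theorem ym_mul_self : (ym : GL (Fin 2) K) * ym = 1 := by
  unfold ym
  rw [← map_mul]
  simp

theorem ym_inv : (ym : GL (Fin 2) K)⁻¹ = ym := inv_eq_of_mul_eq_one_left ym_mul_self

theorem orderOf_ym (h2 : (2 : K) ≠ 0) : orderOf (ym : GL (Fin 2) K) = 2 := by
  apply orderOf_eq_prime
  · rw [pow_two, ym_mul_self]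
  · intro h
    have := congrArg (fun g : GL (Fin 2) K => (g : Matrix (Fin 2) (Fin 2) K) 1 1) h
    simp only [ym_val] at this
    simp at this
    apply h2
    have h3 : (1 : K) + 1 = 0 := by
      nth_rewrite 1 [← this]
      ring
    rw [← one_add_one_eq_two]
    exact h3

theorem ym_conj_Phi (ε l m : K) :
    (!![1, 0; 0, -1] : Matrix (Fin 2) (Fin 2) K) * Phi ε l m * !![1, 0; 0, -1] = Phi ε m l := by
  unfold Phi
  rw [Matrix.mul_fin_two, Matrix.mul_fin_two]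
  ext i j
  fin_cases i <;> fin_cases j <;> simp <;> ring

end Cfsg.Agent.Helper2.UnitSyl
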