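import Mathlib
import Cfsg.Agent.Helper2.UnitSylB

/-!
# The quasi-dihedral case for `GU(2, q)`, `q ≡ 1 (mod 4)`: assembly
-/

set_option autoImplicit false
set_option linter.style.haveILetI false

namespace Cfsg.Agent.Helper2.UnitSyl

open Matrix Cfsg Cfsg.Agent.Helper2.GL2Syl Cfsg.Agent.Helper8.GUOrder Cfsg.Agent.Helper7.Herm

variable {K : Type*} [Field K] [Fintype K] {q : ℕ}

theorem two_pow_q (hK : Fintype.card K = q ^ 2) : (2 : K) ^ q = 2 := by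
  rw [← one_add_one_eq_two, add_pow_q hK, one_pow]

theorem Phi_map_q (hK : Fintype.card K = q ^ 2) {ε : K} (hε0 : ε ≠ 0) (hε : ε * ε ^ q = -1)
    (h2 : (2 : K) ≠ 0) (l m : K) (hl : l ≠ 0) (hm : m ≠ 0) (h1 : l ^ q = m⁻¹)
    (h2' : m ^ q = l⁻¹) : (Phi ε l m).map (· ^ q) = (Phi ε l⁻¹ m⁻¹)ᵀ := by
  have hεq : ε ^ q = -ε⁻¹ := by
    field_simp
    linear_combination hε
  unfold Phi
  ext i j
  fin_cases i <;> fin_cases j <;>
    simp [div_pow, mul_pow, sub_pow_q hK, add_pow_q hK, two_pow_q hK, h1, h2', hεq] <;>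
    field_simp <;> ring

theorem torus_mem_GU (hK : Fintype.card K = q ^ 2) {ε : K} (hε0 : ε ≠ 0) (hε : ε * ε ^ q = -1)
    (h2 : (2 : K) ≠ 0) (l : Kˣ) : torus ε hε0 h2 q l ∈ GU 2 K q := by
  have hl : (l : K) ≠ 0 := Units.ne_zero l
  have hlq : (l : K) ^ q ≠ 0 := pow_ne_zero _ hl
  rw [mem_GU_iff hK, torus_val,
    Phi_map_q hK hε0 hε h2 _ _ hl (inv_ne_zero hlq) (by rw [inv_inv])
      (by rw [inv_pow, pow_q_pow_q hK]),
    ← Matrix.transpose_mul, Phi_mul hε0 h2, inv_mul_cancel₀ hl, inv_inv, mul_inv_cancel₀ hlq,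
    Phi_one h2, Matrix.transpose_one]

theorem ym_mem_GU (hK : Fintype.card K = q ^ 2) (hq : Odd q) : (ym : GL (Fin 2) K) ∈ GU 2 K q := by
  unfold ym
  apply dY_mem_GU hK
  exact Even.neg_one_pow (by
    obtain ⟨j, rfl⟩ := hq
    exact ⟨j + 1, by ring⟩)

theorem ym_conj_torus (hK : Fintype.card K = q ^ 2) {ε : K} (hε0 : ε ≠ 0) (h2 : (2 : K) ≠ 0)
    (l : Kˣ) (k : ℕ) (hk : l ^ k * l ^ q = 1) :
    (ym : GL (Fin 2) K) * torus ε hε0 h2 q l * ym⁻¹ = torus ε hε0 h2 q l ^ k := by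
  rw [ym_inv, ← map_pow]
  apply Units.ext
  rw [Units.val_mul, Units.val_mul, ym_val, torus_val, torus_val, ym_conj_Phi]
  have hl : (l : K) ≠ 0 := Units.ne_zero l
  have hlq : (l : K) ^ q ≠ 0 := pow_ne_zero _ hl
  have hk' : (l : K) ^ k * (l : K) ^ q = 1 := by
    have := congrArg Units.val hk
    simpa using this
  have e1 : (l : K) ^ k = ((l : K) ^ q)⁻¹ := eq_inv_of_mul_eq_one_left hk'
  have e2 : ((l ^ k : Kˣ) : K) = ((l : K) ^ q)⁻¹ := by
    rw [Units.val_pow_eq_pow_val, e1]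
  rw [e2, inv_pow, pow_q_pow_q hK, inv_inv]

/-- Sylow 2-subgroups of `GU(2, q)` are quasi-dihedral for `q ≡ 1 (mod 4)`. -/
theorem isQuasiDihedral_GU2 (hK : Fintype.card K = q ^ 2) (hq : q % 4 = 1)
    (P : Sylow 2 (GU 2 K q)) : Cfsg.IsQuasiDihedral (P : Subgroup (GU 2 K q)) := by
  have hodd : Odd q := by rw [Nat.odd_iff]; omega
  have hq2 := two_le_q hK
  have h2 : (2 : K) ≠ 0 := by
    apply Ring.two_ne_zero
    intro hch
    have := (FiniteField.even_card_iff_char_two (F := K)).mp hch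
    rw [hK] at this
    have : q ^ 2 % 2 = 1 := by
      rw [Nat.pow_mod]
      have : q % 2 = 1 := by omega
      rw [this]
    omega
  obtain ⟨c, hc⟩ : ∃ c, c = (q - 1).factorization 2 := ⟨_, rfl⟩
  have hc2 : 2 ≤ c := hc ▸ two_le_factorization_two (by omega) (by omega)
  have h1 : (q + 1).factorization 2 = 1 := factorization_two_eq_one (by omega) (by omega)
  have hcard : Nat.card P = 2 ^ (c + 1 + 1) := by
    rw [card_sylow_GU2 hK hodd P, h1, ← hc]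
    congr 1
    omega
  have hdvd : 2 ^ (c + 1) ∣ Nat.card Kˣ := by
    rw [card_units_K hK, qsq_sub_one hK, pow_succ, hc]
    exact Nat.mul_dvd_mul (Nat.ordProj_dvd (q - 1) 2) (by omega)
  obtain ⟨l, hl⟩ := exists_orderOf_of_dvd_card (C := Kˣ) hdvd
  obtain ⟨ε, hε⟩ := exists_norm hK (c := (-1 : K)) (neg_ne_zero.mpr one_ne_zero)
    (neg_one_pow_q hK)
  have hε0 : ε ≠ 0 := by
    rintro rfl
    rw [zero_mul] at hε
    exact (neg_ne_zero.mpr one_ne_zero) hε.symm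
  -- `q + 2^c - 1 ≡ 0 (mod 2^(c+1))`
  obtain ⟨j, hj⟩ : ∃ j, 2 ^ c - 1 + q = 2 ^ (c + 1) * j := by
    have hdiv : 2 ^ c ∣ q - 1 := hc ▸ Nat.ordProj_dvd (q - 1) 2
    obtain ⟨m, hm⟩ := hdiv
    have hmodd : ¬ 2 ∣ m := by
      intro h2m
      obtain ⟨m', rfl⟩ := h2m
      have : 2 ^ (c + 1) ∣ q - 1 := ⟨m', by rw [hm, pow_succ]; ring⟩
      have h3 := (Nat.prime_two.pow_dvd_iff_le_factorization (by omega)).mp this
      omega
    obtain ⟨j, rfl⟩ : ∃ j, m = 2 * j + 1 := ⟨m / 2, by omega⟩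
    refine ⟨j + 1, ?_⟩
    have hpos : 0 < 2 ^ c := by positivity
    have : q - 1 = 2 ^ (c + 1) * j + 2 ^ c := by rw [hm, pow_succ]; ring
    have e : 2 ^ (c + 1) * (j + 1) = 2 ^ (c + 1) * j + 2 ^ c + 2 ^ c := by rw [pow_succ]; ring
    omega
  have hk : l ^ (2 ^ c - 1) * l ^ q = 1 := by
    rw [← pow_add, hj, pow_mul, ← hl, pow_orderOf_eq_one, one_pow]
  have hxG := torus_mem_GU hK hε0 hε h2 l
  have hyG := ym_mem_GU (K := K) hK hodd
  apply isQuasiDihedral_sylow P (c + 1) (by omega) hcard ⟨torus ε hε0 h2 q l, hxG⟩ ⟨ym, hyG⟩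
  · rw [Subgroup.orderOf_mk, orderOf_injective _ (torus_injective ε hε0 h2 q), hl]
  · rw [Subgroup.orderOf_mk, orderOf_ym h2]
  · apply Subtype.ext
    have e1 : c + 1 - 1 = c := by omega
    rw [e1]
    exact ym_conj_torus hK hε0 h2 l _ hk

end Cfsg.Agent.Helper2.UnitSyl
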