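import Mathlib
import Cfsg.Agent.Helper2.WF26

set_option autoImplicit false

/-! Wreathed Sylow `2`-subgroups in a group without subgroups of index two; transport of the
automizer of `V = Q Z(S)` to a subgroup containing `N(V)`. -/

namespace Cfsg.Agent.Helper2.WF

open Cfsg.Agent.Helper2.Wr Cfsg.Agent.Helper2.QDF

section transport

variable {G : Type*} [Group G]

theorem mem_Z'_iff (S : Subgroup G) (y : G) : y ∈ Z' S ↔ y ∈ S ∧ ∀ r ∈ S, r * y = y * r := by
  constructor
  · rintro ⟨t, ht, rfl⟩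
    refine ⟨t.2, fun r hr => ?_⟩
    have := Subgroup.mem_center_iff.mp ht ⟨r, hr⟩
    exact congrArg Subtype.val this
  · rintro ⟨hy, hc⟩
    refine ⟨⟨y, hy⟩, ?_, rfl⟩
    rw [SetLike.mem_coe, Subgroup.mem_center_iff]
    rintro ⟨r, hr⟩
    exact Subtype.ext (hc r hr)

theorem Z'_subgroupOf (S C : Subgroup G) (hSC : S ≤ C) :
    Z' (S.subgroupOf C) = (Z' S).subgroupOf C := by
  ext y
  rw [mem_Z'_iff, Subgroup.mem_subgroupOf, Subgroup.mem_subgroupOf, mem_Z'_iff]
  constructor
  · rintro ⟨hy, hc⟩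
    refine ⟨hy, fun r hr => ?_⟩
    have := hc ⟨r, hSC hr⟩ (Subgroup.mem_subgroupOf.mpr hr)
    exact congrArg Subtype.val this
  · rintro ⟨hy, hc⟩
    refine ⟨hy, fun r hr => ?_⟩
    exact Subtype.ext (hc r (Subgroup.mem_subgroupOf.mp hr))

theorem centralizer_subgroupOf (V C : Subgroup G) (hVC : V ≤ C) :
    Subgroup.centralizer ((V.subgroupOf C : Subgroup ↥C) : Set ↥C) =
      (Subgroup.centralizer (V : Set G)).subgroupOf C := by
  ext y
  rw [Subgroup.mem_subgroupOf, Subgroup.mem_centralizer_iff, Subgroup.mem_centralizer_iff]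
  constructor
  · intro h v hv
    have := h ⟨v, hVC hv⟩ (Subgroup.mem_subgroupOf.mpr hv)
    exact congrArg Subtype.val this
  · intro h v hv
    exact Subtype.ext (h v (Subgroup.mem_subgroupOf.mp hv))

/-- the automizer index of `V` computed inside a subgroup `C` containing `N(V)` -/
theorem relIndex_transport (V C : Subgroup G)
    (hN : Subgroup.normalizer (V : Set G) ≤ C) :
    ((V.subgroupOf C) ⊔ Subgroup.centralizer ((V.subgroupOf C : Subgroup ↥C) : Set ↥C)).relIndex
      (Subgroup.normalizer ((V.subgroupOf C : Subgroup ↥C) : Set ↥C)) =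
    (V ⊔ Subgroup.centralizer (V : Set G)).relIndex (Subgroup.normalizer (V : Set G)) := by
  have hVC : V ≤ C := Subgroup.le_normalizer.trans hN
  have hCC : Subgroup.centralizer (V : Set G) ≤ C :=
    (Subgroup.centralizer_le_normalizer _).trans hN
  rw [centralizer_subgroupOf V C hVC, ← Subgroup.subgroupOf_sup hVC hCC,
    ← Subgroup.subgroupOf_normalizer_eq hVC, Subgroup.relIndex_subgroupOf hN]

end transport

variable {G : Type*} [Group G] [Finite G] (S : Sylow 2 G) (d : WDat ↥(S : Subgroup G))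

/-- no subgroup of index two: both automizers have order six -/
theorem type_six_six (hG : ∀ H : Subgroup G, H.index ≠ 2) (Q : Subgroup G) (hQS : Q ≤ S)
    (eQ : Q ≃* QuaternionGroup 2) :
    (Subgroup.centralizer (U' d : Set G)).relIndex (Subgroup.normalizer (U' d : Set G)) = 6 ∧
    ((Q ⊔ Z' (S : Subgroup G)) ⊔
        Subgroup.centralizer ((Q ⊔ Z' (S : Subgroup G) : Subgroup G) : Set G)).relIndex
        (Subgroup.normalizer ((Q ⊔ Z' (S : Subgroup G) : Subgroup G) : Set G)) = 6 := by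
  rcases relIndex_U_cases S d with h₁ | h₁ <;>
    rcases relIndex_V_cases S d Q hQS eQ with h₂ | h₂
  · exfalso
    obtain ⟨H, hH⟩ := exists_index_two_of_complement
      (normal_complement_two_two S d Q hQS eQ h₁ h₂) S (2 * d.n + 1) (by omega) d.card
    exact hG H hH
  · exfalso
    obtain ⟨⟨K, hKn, hKi, -, -⟩, -, -⟩ := two_six S d Q hQS eQ h₁ h₂
    haveI := hKn
    obtain ⟨H, hH⟩ := exists_index_two_of_normal K d.n (by have := d.hn; omega) hKi
    exact hG H hH
  · exfalso
    obtain ⟨⟨K, -, hKi, -, -⟩, -⟩ := six_two S d Q hQS eQ h₁ h₂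
    exact hG K hKi
  · exact ⟨h₁, h₂⟩

/-- no subgroup of index two: all involutions are conjugate to the central involution -/
theorem all_invol_conj (hG : ∀ H : Subgroup G, H.index ≠ 2) (t : G) (ht : orderOf t = 2) :
    ∃ g : G, g * c d * g⁻¹ = t := by
  obtain ⟨Q, hQS, ⟨eQ⟩, -⟩ := exists_quat d 0
  obtain ⟨h₁, h₂⟩ := type_six_six S d hG Q hQS eQ
  obtain ⟨g₁, hg₁⟩ := c_conj_a S d h₁
  obtain ⟨g₂, hg₂⟩ := V_six S d Q hQS eQ h₂
  rcases invol_conj S d t ht with h | h | h
  · obtain ⟨g, hg⟩ := isConj_iff.mp h.symm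
    exact ⟨g, hg⟩
  · obtain ⟨g, hg⟩ := isConj_iff.mp h.symm
    refine ⟨g * g₁, ?_⟩
    rw [← hg, ← hg₁]; group
  · obtain ⟨g, hg⟩ := isConj_iff.mp h.symm
    refine ⟨g * g₂ * g₁, ?_⟩
    rw [← hg, ← hg₂, ← hg₁]; group

end Cfsg.Agent.Helper2.WF
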