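import Mathlib
import Cfsg.Agent.Helper2.WF27

set_option autoImplicit false

/-! Centralizer of an involution in a group with wreathed Sylow `2`-subgroups and no subgroup of
index two. -/

namespace Cfsg.Agent.Helper2.WF

open Cfsg.Agent.Helper2.Wr Cfsg.Agent.Helper2.QDF

variable {G : Type*} [Group G] [Finite G]

theorem wreathed_core (S₁ : Sylow 2 G) (hS₁ : Cfsg.IsWreathed ↥(S₁ : Subgroup G))
    (hG : ∀ H : Subgroup G, H.index ≠ 2) (x : G) (hx : orderOf x = 2)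
    (hxS : x ∈ (S₁ : Subgroup G)) (hxc : ∀ s ∈ (S₁ : Subgroup G), s * x = x * s) :
    ∃ R : Sylow 2 ↥(Subgroup.centralizer ({x} : Set G)),
      Nat.card R = Nat.card S₁ ∧
      (∃ K : Subgroup ↥(Subgroup.centralizer ({x} : Set G)), K.Normal ∧
        (∃ a : ℕ, K.index = 2 ^ a) ∧ (∀ H : Subgroup ↥K, H.index ≠ 2) ∧
        (∀ P : Sylow 2 ↥K, ∃ m : ℕ, 1 ≤ m ∧
          Nonempty ((P : Subgroup ↥K) ≃* QuaternionGroup (2 ^ m)))) ∧
      (∀ Z₀ : Subgroup ↥(Subgroup.centralizer ({x} : Set G)),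
        Z₀ ≤ ((Subgroup.center (R : Subgroup ↥(Subgroup.centralizer ({x} : Set G)))).map
          (R : Subgroup ↥(Subgroup.centralizer ({x} : Set G))).subtype) →
        Cfsg.IsWeaklyClosed Z₀ (R : Subgroup ↥(Subgroup.centralizer ({x} : Set G)))) := by
  set C := Subgroup.centralizer ({x} : Set G) with hC
  have hmemC : ∀ g : G, g ∈ C ↔ x * g = g * x := by
    intro g
    rw [hC, Subgroup.mem_centralizer_iff]
    constructor
    · intro h; exact h x rfl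
    · intro h y hy
      rw [Set.mem_singleton_iff] at hy
      rw [hy]; exact h
  have hSC : (S₁ : Subgroup G) ≤ C := fun s hs => (hmemC s).mpr (hxc s hs).symm
  set R : Sylow 2 ↥C := S₁.subtype hSC with hR
  have hRco : (R : Subgroup ↥C) = (S₁ : Subgroup G).subgroupOf C := rfl
  let eR : ↥(R : Subgroup ↥C) ≃* ↥(S₁ : Subgroup G) := Subgroup.subgroupOfEquivOfLe hSC
  have hcard : Nat.card R = Nat.card S₁ := Nat.card_congr eR.toEquiv
  have hRw : Cfsg.IsWreathed ↥(R : Subgroup ↥C) := isWreathed_of_equiv eR.symm hS₁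
  obtain ⟨d'⟩ := Wr.exists_dat hRw
  obtain ⟨d₁⟩ := Wr.exists_dat hS₁
  have hxC : x ∈ C := (hmemC x).mpr rfl
  have hx'R : (⟨x, hxC⟩ : ↥C) ∈ (R : Subgroup ↥C) := by
    rw [hRco, Subgroup.mem_subgroupOf]; exact hxS
  have hx'c : ∀ g : ↥C, g * ⟨x, hxC⟩ = ⟨x, hxC⟩ * g := by
    intro g
    apply Subtype.ext
    exact ((hmemC g).mp g.2).symm
  have hx'Z : (⟨x, hxC⟩ : ↥C) ∈ Z' (R : Subgroup ↥C) :=
    (mem_Z'_iff _ _).mpr ⟨hx'R, fun r _ => hx'c r⟩
  have hxx : x * x = 1 := by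
    have := pow_orderOf_eq_one x
    rwa [hx, pow_two] at this
  have hx1 : x ≠ 1 := by
    intro h
    rw [h, orderOf_one] at hx
    omega
  have hx'eq : (⟨x, hxC⟩ : ↥C) = c d' := by
    rcases Z'_invol R d' _ hx'Z (Subtype.ext hxx) with h | h
    · exact absurd (congrArg Subtype.val h) hx1
    · exact h
  -- first automizer
  have h₁' : (Subgroup.centralizer (U' d' : Set ↥C)).relIndex
      (Subgroup.normalizer (U' d' : Set ↥C)) = 2 := by
    rcases relIndex_U_cases R d' with h | h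
    · exact h
    · exfalso
      obtain ⟨g, hg⟩ := c_conj_a R d' h
      apply a_ne_c d'
      rw [← hg, ← hx'eq, hx'c g, mul_assoc, mul_inv_cancel, mul_one]
  -- second automizer, transported from `G`
  obtain ⟨Q, hQS, ⟨eQ⟩, -⟩ := exists_quat d₁ 0
  obtain ⟨-, h₂⟩ := type_six_six S₁ d₁ hG Q hQS eQ
  have hxZ : x ∈ Z' (S₁ : Subgroup G) := (mem_Z'_iff _ _).mpr ⟨hxS, hxc⟩
  have hN : Subgroup.normalizer ((Q ⊔ Z' (S₁ : Subgroup G) : Subgroup G) : Set G) ≤ C := by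
    refine (normalizer_V_le_centralizer_Z' S₁ d₁ Q hQS eQ).trans ?_
    apply Subgroup.centralizer_le
    intro y hy
    rw [Set.mem_singleton_iff] at hy
    rw [hy]; exact hxZ
  have hQC : Q ≤ C := hQS.trans hSC
  have hZC : Z' (S₁ : Subgroup G) ≤ C := (Subgroup.map_subtype_le _).trans hSC
  have hQ'R : Q.subgroupOf C ≤ (R : Subgroup ↥C) := by
    intro y hy
    rw [hRco, Subgroup.mem_subgroupOf]
    exact hQS (Subgroup.mem_subgroupOf.mp hy)
  let eQ' : ↥(Q.subgroupOf C) ≃* QuaternionGroup 2 := (Subgroup.subgroupOfEquivOfLe hQC).trans eQ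
  have hV' : Q.subgroupOf C ⊔ Z' (R : Subgroup ↥C) =
      (Q ⊔ Z' (S₁ : Subgroup G)).subgroupOf C := by
    rw [hRco, Z'_subgroupOf _ _ hSC, Subgroup.subgroupOf_sup hQC hZC]
  have h₂' : ((Q.subgroupOf C ⊔ Z' (R : Subgroup ↥C)) ⊔
        Subgroup.centralizer ((Q.subgroupOf C ⊔ Z' (R : Subgroup ↥C) : Subgroup ↥C) : Set ↥C)).relIndex
        (Subgroup.normalizer ((Q.subgroupOf C ⊔ Z' (R : Subgroup ↥C) : Subgroup ↥C) : Set ↥C)) = 6 := by
    rw [hV', relIndex_transport _ C hN]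
    exact h₂
  obtain ⟨⟨K, hKn, hKi, hKP, hKH⟩, hwc, -⟩ := two_six R d' (Q.subgroupOf C) hQ'R eQ' h₁' h₂'
  exact ⟨R, hcard, ⟨K, hKn, ⟨d'.n, hKi⟩, hKH, hKP⟩, hwc⟩

end Cfsg.Agent.Helper2.WF
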