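import Mathlib
import Cfsg.Agent.Helper2.QDF6
import Cfsg.Agent.Helper5.PGroupCenter

set_option autoImplicit false

/-! Sylow `2`-subgroups of direct powers have several central involutions. -/

namespace Cfsg.Agent.Helper2.WF

section pi

variable (T : Type*) [Group T] (m : ℕ)

/-- the `i`-th factor of a direct power -/
def piFactor (i : Fin m) : Subgroup (Fin m → T) where
  carrier := {f | ∀ j, j ≠ i → f j = 1}
  one_mem' := fun _ _ => rfl
  mul_mem' := fun {a b} ha hb j hj => by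
    change a j * b j = 1
    rw [ha j hj, hb j hj, one_mul]
  inv_mem' := fun {a} ha j hj => by
    change (a j)⁻¹ = 1
    rw [ha j hj, inv_one]

theorem mem_piFactor (i : Fin m) (f : Fin m → T) : f ∈ piFactor T m i ↔ ∀ j, j ≠ i → f j = 1 :=
  Iff.rfl

instance piFactor_normal (i : Fin m) : (piFactor T m i).Normal :=
  ⟨fun n hn g j hj => by
    change g j * n j * (g j)⁻¹ = 1
    rw [hn j hj, mul_one, mul_inv_cancel]⟩

theorem piFactor_inf {i j : Fin m} (hij : i ≠ j) : piFactor T m i ⊓ piFactor T m j = ⊥ := by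
  rw [eq_bot_iff]
  rintro f ⟨h1, h2⟩
  rw [Subgroup.mem_bot]
  funext k
  by_cases hk : k = i
  · exact h2 k (by rw [hk]; exact hij)
  · exact h1 k hk

theorem two_dvd_card_piFactor [Finite T] (τ : T) (hτ : orderOf τ = 2) (i : Fin m) :
    2 ∣ Nat.card (piFactor T m i) := by
  classical
  have hmem : Pi.mulSingle (M := fun _ : Fin m => T) i τ ∈ piFactor T m i := by
    intro j hj
    exact Pi.mulSingle_eq_of_ne (M := fun _ : Fin m => T) hj τ
  have ho : orderOf (Pi.mulSingle (M := fun _ : Fin m => T) i τ) = 2 := by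
    have := orderOf_injective (MonoidHom.mulSingle (fun _ : Fin m => T) i)
      (Pi.mulSingle_injective (M := fun _ : Fin m => T) i) τ
    rw [← hτ, ← this]; rfl
  have h1 : orderOf (⟨Pi.mulSingle (M := fun _ : Fin m => T) i τ, hmem⟩ : piFactor T m i) = 2 := by
    rw [← ho]; exact Subgroup.orderOf_mk _ hmem
  rw [← h1]
  exact orderOf_dvd_natCard _

theorem exists_central_invol_in_factor [Finite T] (τ : T) (hτ : orderOf τ = 2)
    (Q : Sylow 2 (Fin m → T)) (i : Fin m) :
    ∃ y : ↥(Q : Subgroup (Fin m → T)), y ∈ Subgroup.center ↥(Q : Subgroup (Fin m → T)) ∧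
      orderOf y = 2 ∧ (y : Fin m → T) ∈ piFactor T m i := by
  haveI : Fact (Nat.Prime 2) := ⟨Nat.prime_two⟩
  set K := piFactor T m i with hK
  have hcard := Cfsg.Agent.Helper2.QDF.card_inf_normal Q K
  have h2 : 2 ∣ Nat.card K := two_dvd_card_piFactor T m τ hτ i
  have hfac : 1 ≤ (Nat.card K).factorization 2 := by
    have hpos : Nat.card K ≠ 0 := Nat.card_pos.ne'
    exact (Nat.Prime.dvd_iff_one_le_factorization Nat.prime_two hpos).mp h2
  have hne : (Q : Subgroup (Fin m → T)) ⊓ K ≠ ⊥ := by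
    intro h
    rw [h, Subgroup.card_bot] at hcard
    have : 2 ^ 1 ≤ 2 ^ (Nat.card K).factorization 2 := Nat.pow_le_pow_right (by norm_num) hfac
    omega
  set M : Subgroup ↥(Q : Subgroup (Fin m → T)) := K.subgroupOf (Q : Subgroup (Fin m → T)) with hM
  have hMne : M ≠ ⊥ := by
    intro h
    apply hne
    rw [eq_bot_iff]
    rintro f ⟨hfQ, hfK⟩
    have : (⟨f, hfQ⟩ : ↥(Q : Subgroup (Fin m → T))) ∈ M := Subgroup.mem_subgroupOf.mpr hfK
    rw [h, Subgroup.mem_bot] at this
    rw [Subgroup.mem_bot]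
    exact congrArg Subtype.val this
  obtain ⟨x, hxM, hx1, hxc⟩ :=
    Cfsg.Agent.Helper5.exists_ne_one_mem_center_of_normal Q.isPGroup' M hMne
  obtain ⟨k, hk⟩ := (IsPGroup.iff_orderOf.mp Q.isPGroup') x
  have hk1 : 1 ≤ k := by
    by_contra h
    have h0 : k = 0 := by omega
    rw [h0, pow_zero, orderOf_eq_one_iff] at hk
    exact hx1 hk
  refine ⟨x ^ (2 ^ (k - 1)), ?_, ?_, ?_⟩
  · rw [Subgroup.mem_center_iff]
    intro t
    have hcomm : Commute t x := hxc t
    exact (hcomm.pow_right _)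
  · rw [orderOf_pow_of_dvd (by positivity) (by rw [hk]; exact pow_dvd_pow 2 (Nat.sub_le k 1)), hk]
    have : k = (k - 1) + 1 := by omega
    conv_lhs => rw [this, pow_succ]
    exact Nat.mul_div_cancel_left 2 (by positivity)
  · have := M.pow_mem hxM (2 ^ (k - 1))
    exact Subgroup.mem_subgroupOf.mp this

/-- a Sylow `2`-subgroup of a direct power with at least two factors of even order has two distinct
central involutions -/
theorem pi_two_central_invol [Finite T] (hm : 2 ≤ m) (τ : T) (hτ : orderOf τ = 2)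
    (Q : Sylow 2 (Fin m → T)) :
    ∃ y₀ y₁ : ↥(Q : Subgroup (Fin m → T)),
      y₀ ∈ Subgroup.center ↥(Q : Subgroup (Fin m → T)) ∧
      y₁ ∈ Subgroup.center ↥(Q : Subgroup (Fin m → T)) ∧
      orderOf y₀ = 2 ∧ orderOf y₁ = 2 ∧ y₀ ≠ y₁ := by
  obtain ⟨y₀, hc₀, ho₀, hf₀⟩ := exists_central_invol_in_factor T m τ hτ Q ⟨0, by omega⟩
  obtain ⟨y₁, hc₁, ho₁, hf₁⟩ := exists_central_invol_in_factor T m τ hτ Q ⟨1, by omega⟩
  refine ⟨y₀, y₁, hc₀, hc₁, ho₀, ho₁, ?_⟩
  intro h
  have hne : (⟨0, by omega⟩ : Fin m) ≠ ⟨1, by omega⟩ := by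
    intro h'
    have := congrArg Fin.val h'
    simp at this
  have h1 : (y₀ : Fin m → T) ∈ piFactor T m ⟨0, by omega⟩ ⊓ piFactor T m ⟨1, by omega⟩ :=
    ⟨hf₀, by rw [h]; exact hf₁⟩
  rw [piFactor_inf T m hne, Subgroup.mem_bot] at h1
  have h2 : y₀ = 1 := Subtype.ext h1
  rw [h2, orderOf_one] at ho₀
  omega

end pi

end Cfsg.Agent.Helper2.WF
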