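import Mathlib
import Cfsg.Agent.Helper2.WF29
import Cfsg.Agent.Helper2.CyclicSylow2
import Cfsg.Agent.Helper4.MinNormalPower
import Cfsg.Agent.Helper1.Fitting
import Cfsg.Prelude.Def_Solvable

set_option autoImplicit false

/-! A simple normal subgroup of odd index in a core-free group without subgroups of index two
whose Sylow `2`-subgroups are non-abelian with a unique central involution and cyclic modulo the
subgroup generated by the involutions. -/

namespace Cfsg.Agent.Helper2.WF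

theorem core_simple_generic {H : Type*} [Group H] [Finite H] (S : Sylow 2 H)
    (hH : ∀ K : Subgroup H, K.index ≠ 2) (hO : Cfsg.pPrimeCore 2 H = ⊥)
    (h_i : ∀ t u : H, orderOf t = 2 → orderOf u = 2 → ∃ g : H, g * t * g⁻¹ = u)
    (h_ii : ∃ ρ ∈ (S : Subgroup H), ∀ N : Subgroup H, N.Normal →
      (∀ t ∈ (S : Subgroup H), orderOf t = 2 → t ∈ N) →
      ∀ s ∈ (S : Subgroup H), ∃ k : ℕ, ∃ n ∈ N, s = ρ ^ k * n)
    (h_iii : ∃ s ∈ (S : Subgroup H), ∃ t ∈ (S : Subgroup H), s * t ≠ t * s)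
    (h_iv : ∀ t₁ t₂ : ↥(S : Subgroup H), t₁ ∈ Subgroup.center ↥(S : Subgroup H) →
      t₂ ∈ Subgroup.center ↥(S : Subgroup H) → orderOf t₁ = 2 → orderOf t₂ = 2 → t₁ = t₂)
    (h_v : ∃ c ∈ (S : Subgroup H), orderOf c = 2) :
    ∃ L : Subgroup H, L.Normal ∧ Odd L.index ∧ IsSimpleGroup L ∧ ¬ IsMulCommutative L := by
  classical
  haveI : Fact (Nat.Prime 2) := ⟨Nat.prime_two⟩
  obtain ⟨c, hcS, hc⟩ := h_v
  have hc1 : c ≠ 1 := by
    intro h
    rw [h, orderOf_one] at hc
    omega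
  haveI : Nontrivial H := ⟨⟨c, 1, hc1⟩⟩
  obtain ⟨N, hNn, hN1, hNmin⟩ := Cfsg.Agent.Helper4.exists_isMinNormal H
  haveI := hNn
  -- `N` has even order
  have h2N : 2 ∣ Nat.card N := by
    by_contra h
    have hcop : (Nat.card N).Coprime 2 :=
      ((Nat.Prime.coprime_iff_not_dvd Nat.prime_two).mpr h).symm
    have := Cfsg.Agent.Helper1.le_pPrimeCore hNn hcop
    rw [hO, le_bot_iff] at this
    exact hN1 this
  obtain ⟨⟨t, htN⟩, ht⟩ := exists_prime_orderOf_dvd_card' 2 h2N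
  have ht' : orderOf t = 2 := by rw [← ht]; exact (Subgroup.orderOf_mk t htN).symm
  -- all involutions lie in `N`
  have hinv : ∀ u : H, orderOf u = 2 → u ∈ N := by
    intro u hu
    obtain ⟨g, hg⟩ := h_i t u ht' hu
    rw [← hg]; exact hNn.conj_mem t htN g
  -- `S ≤ N`
  have hSN : (S : Subgroup H) ≤ N := by
    by_contra hSN
    obtain ⟨ρ, hρS, hρ⟩ := h_ii
    have hgen := hρ N hNn (fun t _ ht => hinv t ht)
    set π := QuotientGroup.mk' N with hπ
    have hπs : Function.Surjective π := QuotientGroup.mk'_surjective N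
    set Sbar : Sylow 2 (H ⧸ N) := Sylow.mapSurjective hπs S with hSbar
    have hco : (Sbar : Subgroup (H ⧸ N)) = (S : Subgroup H).map π := Sylow.coe_mapSurjective hπs S
    have hle : (Sbar : Subgroup (H ⧸ N)) ≤ Subgroup.zpowers (π ρ) := by
      rw [hco]
      rintro _ ⟨s, hs, rfl⟩
      obtain ⟨k, n, hn, rfl⟩ := hgen s hs
      have hn1 : π n = 1 := (QuotientGroup.eq_one_iff n).mpr hn
      rw [map_mul, map_pow, hn1, mul_one]
      exact Subgroup.pow_mem _ (Subgroup.mem_zpowers _) k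
    have hcyc : IsCyclic (Sbar : Subgroup (H ⧸ N)) := Subgroup.isCyclic_of_le hle
    obtain ⟨s, hsS, hsN⟩ := SetLike.not_le_iff_exists.mp hSN
    have hπs1 : π s ≠ 1 := fun h => hsN ((QuotientGroup.eq_one_iff s).mp h)
    have heven : Even (Nat.card (H ⧸ N)) := by
      obtain ⟨k, hk⟩ := (IsPGroup.iff_orderOf.mp S.isPGroup') ⟨s, hsS⟩
      have hk' : orderOf s = 2 ^ k := by rw [← hk]; exact (Subgroup.orderOf_mk s hsS).symm
      have hdvd : orderOf (π s) ∣ 2 ^ k := hk' ▸ orderOf_map_dvd π s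
      obtain ⟨j, -, hj⟩ := (Nat.dvd_prime_pow Nat.prime_two).mp hdvd
      have hj1 : 1 ≤ j := by
        by_contra h
        have h0 : j = 0 := by omega
        rw [h0, pow_zero, orderOf_eq_one_iff] at hj
        exact hπs1 hj
      have h2 : 2 ∣ orderOf (π s) := by rw [hj]; exact dvd_pow_self 2 (by omega)
      exact even_iff_two_dvd.mpr (h2.trans (orderOf_dvd_natCard _))
    obtain ⟨Kbar, hKbar⟩ := Cfsg.Agent.Helper2.exists_index_two_of_cyclic_sylow_two heven Sbar hcyc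
    apply hH (Kbar.comap π)
    rw [Subgroup.index_comap_of_surjective _ hπs]
    exact hKbar
  -- odd index
  have hodd : Odd N.index := by
    rw [← Nat.not_even_iff_odd, even_iff_two_dvd]
    intro h
    exact S.not_dvd_index (h.trans (Subgroup.index_dvd_of_le hSN))
  -- structure of `N`
  obtain ⟨T, hT, m, hTs, hm, ⟨e⟩⟩ := Cfsg.Agent.Helper4.minNormal_mulEquiv_pi_simple N hN1
    (fun M hM hMN => hNmin M hM hMN)
  haveI := hTs
  haveI : Finite (Fin m → T) := Finite.of_equiv _ e.toEquiv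
  haveI : Nonempty (Fin m) := ⟨⟨0, hm⟩⟩
  haveI : Finite T := Finite.of_injective (fun t : T => fun _ : Fin m => t)
    (fun a b hab => congrFun hab ⟨0, hm⟩)
  have hcardN : Nat.card N = Nat.card T ^ m := by
    rw [Nat.card_congr e.toEquiv, Nat.card_fun, Nat.card_fin]
  have h2T : 2 ∣ Nat.card T := by
    rw [hcardN] at h2N
    exact Nat.Prime.dvd_of_dvd_pow Nat.prime_two h2N
  obtain ⟨τ, hτ⟩ := exists_prime_orderOf_dvd_card' 2 h2T
  have hm1 : m = 1 := by
    by_contra hne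
    have hm2 : 2 ≤ m := by omega
    obtain ⟨Q'⟩ : Nonempty (Sylow 2 (Fin m → T)) := inferInstance
    obtain ⟨y₀, y₁, hc₀, hc₁, ho₀, ho₁, hne'⟩ := pi_two_central_invol T m hm2 τ hτ Q'
    set S_N : Sylow 2 ↥N := S.subtype hSN with hS_N
    set Q'' : Sylow 2 ↥N := Q'.comapOfInjective e.toMonoidHom
      (show Function.Injective e.toMonoidHom from e.injective)
      (by
        intro x _
        exact ⟨e.symm x, e.apply_symm_apply x⟩) with hQ''
    have hQco : (Q'' : Subgroup ↥N) = (Q' : Subgroup (Fin m → T)).map e.symm.toMonoidHom := by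
      have h1 : (Q'' : Subgroup ↥N) = (Q' : Subgroup (Fin m → T)).comap e.toMonoidHom := rfl
      rw [h1]
      exact Subgroup.comap_equiv_eq_map_symm e _
    let iso1 : ↥(Q' : Subgroup (Fin m → T)) ≃* ↥(Q'' : Subgroup ↥N) :=
      (e.symm.subgroupMap (Q' : Subgroup (Fin m → T))).trans (MulEquiv.subgroupCongr hQco.symm)
    let iso2 : ↥(Q'' : Subgroup ↥N) ≃* ↥(S_N : Subgroup ↥N) := Sylow.equiv Q'' S_N
    let iso3 : ↥(S_N : Subgroup ↥N) ≃* ↥(S : Subgroup H) := Subgroup.subgroupOfEquivOfLe hSN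
    let ψ : ↥(Q' : Subgroup (Fin m → T)) ≃* ↥(S : Subgroup H) := iso1.trans (iso2.trans iso3)
    have hcen : ∀ y, y ∈ Subgroup.center ↥(Q' : Subgroup (Fin m → T)) →
        ψ y ∈ Subgroup.center ↥(S : Subgroup H) := by
      intro y hy
      rw [Subgroup.mem_center_iff] at hy ⊢
      intro s
      have := hy (ψ.symm s)
      have h2 := congrArg ψ this
      rwa [map_mul, map_mul, ψ.apply_symm_apply] at h2
    have heq := h_iv (ψ y₀) (ψ y₁) (hcen y₀ hc₀) (hcen y₁ hc₁)
      (by rw [MulEquiv.orderOf_eq]; exact ho₀) (by rw [MulEquiv.orderOf_eq]; exact ho₁)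
    exact hne' (ψ.injective heq)
  subst hm1
  have hsimple : IsSimpleGroup ↥N :=
    (e.trans (MulEquiv.piUnique (fun _ : Fin 1 => T))).isSimpleGroup
  refine ⟨N, hNn, hodd, hsimple, ?_⟩
  intro hcomm
  obtain ⟨s, hs, t', ht', hst⟩ := h_iii
  apply hst
  have := hcomm.is_comm.comm (⟨s, hSN hs⟩ : ↥N) ⟨t', hSN ht'⟩
  exact congrArg Subtype.val this

end Cfsg.Agent.Helper2.WF
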