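import Mathlib
import Cfsg.Agent.Helper2.WF30
import Cfsg.Agent.Helper2.WF27
import Cfsg.Agent.Helper2.QDF9

set_option autoImplicit false

/-! Groups with wreathed or quasidihedral Sylow `2`-subgroups, no subgroup of index two and trivial
core: a simple normal subgroup of odd index. -/

namespace Cfsg.Agent.Helper2.WF

open Cfsg.Agent.Helper2.Wr Cfsg.Agent.Helper2.QDF

theorem core_simple_wreathed {H : Type*} [Group H] [Finite H] (S : Sylow 2 H)
    (d : WDat ↥(S : Subgroup H)) (hH : ∀ K : Subgroup H, K.index ≠ 2)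
    (hO : Cfsg.pPrimeCore 2 H = ⊥) :
    ∃ L : Subgroup H, L.Normal ∧ Odd L.index ∧ IsSimpleGroup L ∧ ¬ IsMulCommutative L := by
  apply core_simple_generic S hH hO
  · intro t u ht hu
    obtain ⟨g₁, hg₁⟩ := all_invol_conj S d hH t ht
    obtain ⟨g₂, hg₂⟩ := all_invol_conj S d hH u hu
    refine ⟨g₂ * g₁⁻¹, ?_⟩
    rw [← hg₁, ← hg₂]; group
  · refine ⟨A d 1 0, A_mem d _ _, ?_⟩
    intro N hNn hinv s hs
    have hz : z d ∈ N := hinv _ (z_mem d) (orderOf_z d)
    have hB : ∀ i, B d i (-i) ∈ N := fun i => hinv _ (B_mem d _ _) (orderOf_B_neg d i)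
    have hA : ∀ i, A d i (-i) ∈ N := by
      intro i
      have e : A d i (-i) = B d i (-i) * z d := by
        unfold z; rw [B_mul_B]; congr 1 <;> ring
      rw [e]; exact N.mul_mem (hB i) hz
    have hpow : ∀ i : ZMod (2 ^ d.n), A d 1 0 ^ i.val = A d i 0 := by
      intro i
      rw [A_pow, ZMod.natCast_zmod_val, mul_one, mul_zero]
    rcases nf d s hs with ⟨i, j, rfl⟩ | ⟨i, j, rfl⟩
    · refine ⟨(i + j).val, A d (-j) (-(-j)), hA _, ?_⟩
      rw [hpow, A_mul_A]; congr 1 <;> ring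
    · refine ⟨(i + j).val, A d (-j) (-(-j)) * z d, N.mul_mem (hA _) hz, ?_⟩
      rw [hpow, ← mul_assoc, A_mul_A]
      unfold z
      rw [A_mul_B]; congr 1 <;> ring
  · refine ⟨a d, a_mem d, z d, z_mem d, ?_⟩
    intro h
    have h1 := z_conj_a d
    have h2 : z d * a d * (z d)⁻¹ = a d := by rw [← h]; group
    rw [h2] at h1
    unfold a a' at h1
    exact d.h_ne_zero (A_inj d h1).1
  · intro t₁ t₂ h₁ h₂ ho₁ ho₂
    have key : ∀ t : ↥(S : Subgroup H), t ∈ Subgroup.center ↥(S : Subgroup H) → orderOf t = 2 →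
        (t : H) = c d := by
      intro t ht hto
      have hZ : (t : H) ∈ Z' (S : Subgroup H) := ⟨t, ht, rfl⟩
      have hsq : (t : H) * (t : H) = 1 := by
        have := pow_orderOf_eq_one t
        rw [hto, pow_two] at this
        exact congrArg Subtype.val this
      rcases Z'_invol S d _ hZ hsq with h | h
      · exfalso
        have : t = 1 := Subtype.ext h
        rw [this, orderOf_one] at hto
        omega
      · exact h
    exact Subtype.ext ((key t₁ h₁ ho₁).trans (key t₂ h₂ ho₂).symm)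
  · exact ⟨c d, c_mem d, orderOf_c d⟩

end Cfsg.Agent.Helper2.WF

namespace Cfsg.Agent.Helper2.QDF

open Cfsg.Agent.Helper2.QD

theorem core_simple_qd {H : Type*} [Group H] [Finite H] (S : Sylow 2 H)
    (d : QDat ↥(S : Subgroup H)) (hH : ∀ K : Subgroup H, K.index ≠ 2)
    (hO : Cfsg.pPrimeCore 2 H = ⊥) :
    ∃ L : Subgroup H, L.Normal ∧ Odd L.index ∧ IsSimpleGroup L ∧ ¬ IsMulCommutative L := by
  apply Cfsg.Agent.Helper2.WF.core_simple_generic S hH hO
  · intro t u ht hu
    obtain ⟨g₁, hg₁⟩ := all_invol_conj_qd S d hH t ht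
    obtain ⟨g₂, hg₂⟩ := all_invol_conj_qd S d hH u hu
    refine ⟨g₂ * g₁⁻¹, ?_⟩
    rw [← hg₁, ← hg₂]; group
  · refine ⟨A d 1, A_mem d _, ?_⟩
    intro N hNn hinv s hs
    have hB : ∀ j, B d (2 * j) ∈ N := fun j => hinv _ (B_mem d _) (orderOf_B_even d j)
    have hB0 : B d 0 ∈ N := by
      have := hB 0
      rwa [mul_zero] at this
    have hA : ∀ j, A d (2 * j) ∈ N := by
      intro j
      rw [A_eq_B_mul_B]; exact N.mul_mem (hB j) hB0
    rcases nf d s hs with ⟨i, rfl⟩ | ⟨i, rfl⟩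
    · rcases d.even_or_odd i with ⟨j, rfl⟩ | ⟨j, rfl⟩
      · exact ⟨0, _, hA j, by rw [pow_zero, one_mul]⟩
      · refine ⟨1, _, hA j, ?_⟩
        rw [pow_one, A_mul_A]; congr 1; ring
    · rcases d.even_or_odd i with ⟨j, rfl⟩ | ⟨j, rfl⟩
      · exact ⟨0, _, hB j, by rw [pow_zero, one_mul]⟩
      · refine ⟨1, _, hB j, ?_⟩
        rw [pow_one, A_mul_B]; congr 1; ring
  · refine ⟨B d 0, B_mem d _, A d d.q, A_mem d _, ?_⟩
    intro h
    have h1 := conj_B_A_q d 0
    have h2 : B d 0 * A d d.q * (B d 0)⁻¹ = A d d.q := by rw [h]; group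
    rw [h2] at h1
    have h3 : A d d.q ^ 2 = 1 := by
      rw [pow_two]
      nth_rewrite 1 [h1]
      exact inv_mul_cancel _
    have h4 := orderOf_dvd_of_pow_eq_one h3
    rw [orderOf_A_q] at h4
    omega
  · intro t₁ t₂ h₁ h₂ ho₁ ho₂
    have key : ∀ t : ↥(S : Subgroup H), t ∈ Subgroup.center ↥(S : Subgroup H) → orderOf t = 2 →
        t = d.z := by
      intro t ht hto
      rw [d.center_eq] at ht
      obtain ⟨k, rfl⟩ := Subgroup.mem_zpowers_iff.mp ht
      have h1 := zpow_mod_orderOf d.z k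
      rw [d.orderOf_z] at h1
      rw [← h1] at hto ⊢
      rcases Int.emod_two_eq_zero_or_one k with h | h
      · exfalso
        have : k % ((2 : ℕ) : ℤ) = 0 := by exact_mod_cast h
        rw [this, zpow_zero, orderOf_one] at hto
        omega
      · have : k % ((2 : ℕ) : ℤ) = 1 := by exact_mod_cast h
        rw [this, zpow_one]
    exact (key t₁ h₁ ho₁).trans (key t₂ h₂ ho₂).symm
  · exact ⟨Z d, Z_mem d, orderOf_Z d⟩

end Cfsg.Agent.Helper2.QDF
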