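import Mathlib
import Cfsg.Agent.Helper2.WF31
import Cfsg.Agent.Helper1.Fitting2

set_option autoImplicit false

/-! The image of a Sylow `2`-subgroup modulo the largest normal subgroup of odd order. -/

namespace Cfsg.Agent.Helper2.WF

variable {G : Type*} [Group G] [Finite G]

/-- the Sylow `2`-subgroup of `G / O(G)` is isomorphic to that of `G` -/
theorem sylow_quotient_oddCore (S : Sylow 2 G) :
    ∃ Sbar : Sylow 2 (G ⧸ Cfsg.pPrimeCore 2 G),
      Nonempty (↥(S : Subgroup G) ≃* ↥(Sbar : Subgroup (G ⧸ Cfsg.pPrimeCore 2 G))) := by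
  haveI : Fact (Nat.Prime 2) := ⟨Nat.prime_two⟩
  set O := Cfsg.pPrimeCore 2 G with hO
  set π := QuotientGroup.mk' O with hπ
  have hπs : Function.Surjective π := QuotientGroup.mk'_surjective O
  refine ⟨Sylow.mapSurjective hπs S, ?_⟩
  have hco : ((Sylow.mapSurjective hπs S : Sylow 2 (G ⧸ O)) : Subgroup (G ⧸ O)) =
      (S : Subgroup G).map π := Sylow.coe_mapSurjective hπs S
  have hinf : (S : Subgroup G) ⊓ O = ⊥ := by
    rw [← Subgroup.card_eq_one]
    obtain ⟨a, ha⟩ := IsPGroup.iff_card.mp S.isPGroup'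
    have h1 : Nat.card ((S : Subgroup G) ⊓ O : Subgroup G) ∣ 2 ^ a := by
      rw [← ha]; exact Subgroup.card_dvd_of_le inf_le_left
    have h2 : Nat.card ((S : Subgroup G) ⊓ O : Subgroup G) ∣ Nat.card O :=
      Subgroup.card_dvd_of_le inf_le_right
    have h3 : (Nat.card O).Coprime 2 := Cfsg.Agent.Helper1.card_pPrimeCore_coprime 2
    have h4 : (Nat.card ((S : Subgroup G) ⊓ O : Subgroup G)).Coprime 2 :=
      Nat.Coprime.coprime_dvd_left h2 h3
    exact Nat.Coprime.eq_one_of_dvd (Nat.Coprime.pow_right a h4) h1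
  have hinj : Function.Injective (π.domRestrict (S : Subgroup G)) := by
    rw [← MonoidHom.ker_eq_bot_iff, eq_bot_iff]
    intro s hs
    rw [MonoidHom.mem_ker, MonoidHom.domRestrict_apply] at hs
    have h1 : (s : G) ∈ O := (QuotientGroup.eq_one_iff (s : G)).mp hs
    have h2 : (s : G) ∈ (S : Subgroup G) ⊓ O := ⟨s.2, h1⟩
    rw [hinf, Subgroup.mem_bot] at h2
    rw [Subgroup.mem_bot]
    exact Subtype.ext h2
  have hrange : (π.domRestrict (S : Subgroup G)).range = (S : Subgroup G).map π :=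
    MonoidHom.domRestrict_range _ _
  exact ⟨(MonoidHom.ofInjective hinj).trans (MulEquiv.subgroupCongr (hrange.trans hco.symm))⟩

theorem no_index_two_quotient (N : Subgroup G) [N.Normal] (hG : ∀ H : Subgroup G, H.index ≠ 2) :
    ∀ K : Subgroup (G ⧸ N), K.index ≠ 2 := by
  intro K hK
  apply hG (K.comap (QuotientGroup.mk' N))
  rw [Subgroup.index_comap_of_surjective _ (QuotientGroup.mk'_surjective N)]
  exact hK

end Cfsg.Agent.Helper2.WF
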