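import Mathlib
import Cfsg.Agent.Helper2.Conj
import Cfsg.Agent.Helper2.FixCoset

set_option autoImplicit false

namespace Cfsg.Agent.Helper2.WeakClosedAB

open Subgroup Cfsg.Agent.Helper2

variable {G : Type*} [Group G]

/-- Elementary abelian `2`-subgroups, in elementwise form. -/
def EA (X : Subgroup G) : Prop :=
  (∀ a ∈ X, ∀ b ∈ X, a * b = b * a) ∧ ∀ a ∈ X, a ^ 2 = 1

theorem cj_self_of_mem {H : Subgroup G} {x : G} (hx : x ∈ H) : cj x H = H :=
  (mem_normalizer_iff_cj H x).mp (le_normalizer hx)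

theorem card_cj [Finite G] (g : G) (H : Subgroup G) : Nat.card (cj g H) = Nat.card H :=
  Subgroup.card_map_of_injective (MulAut.conj g).injective

theorem cj_eq_of_le [Finite G] {g : G} {H : Subgroup G} (h : cj g H ≤ H) : cj g H = H :=
  Subgroup.eq_of_le_of_card_ge h (card_cj g H).ge

theorem EA_cj {X : Subgroup G} (hX : EA X) (g : G) : EA (cj g X) := by
  constructor
  · rintro _ ⟨a, ha, rfl⟩ _ ⟨b, hb, rfl⟩
    show g * a * g⁻¹ * (g * b * g⁻¹) = g * b * g⁻¹ * (g * a * g⁻¹)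
    have := hX.1 a ha b hb
    calc g * a * g⁻¹ * (g * b * g⁻¹) = g * (a * b) * g⁻¹ := by group
      _ = g * (b * a) * g⁻¹ := by rw [this]
      _ = _ := by group
  · rintro _ ⟨a, ha, rfl⟩
    show (g * a * g⁻¹) ^ 2 = 1
    have := hX.2 a ha
    rw [pow_two] at this ⊢
    calc g * a * g⁻¹ * (g * a * g⁻¹) = g * (a * a) * g⁻¹ := by group
      _ = 1 := by rw [this]; group

theorem EA_mono {X Y : Subgroup G} (hY : EA Y) (h : X ≤ Y) : EA X :=
  ⟨fun a ha b hb => hY.1 a (h ha) b (h hb), fun a ha => hY.2 a (h ha)⟩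

/-- The closure of a set of pairwise commuting involutions is elementary abelian. -/
theorem EA_closure (s : Set G) (hc : ∀ x ∈ s, ∀ y ∈ s, x * y = y * x) (hsq : ∀ x ∈ s, x ^ 2 = 1) :
    EA (closure s) := by
  have hc1 : ∀ c ∈ s, ∀ n ∈ closure s, c * n = n * c := by
    intro c hcs n hn
    induction hn using Subgroup.closure_induction with
    | mem z hz => exact hc c hcs z hz
    | one => rw [mul_one, one_mul]
    | mul z w _ _ ihz ihw => rw [← mul_assoc, ihz, mul_assoc, ihw, ← mul_assoc]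
    | inv z _ ih =>
      have : Commute c z := ih
      exact this.inv_right
  have hc2 : ∀ m ∈ closure s, ∀ n ∈ closure s, m * n = n * m := by
    intro m hm n hn
    induction hm using Subgroup.closure_induction with
    | mem z hz => exact hc1 z hz n hn
    | one => rw [mul_one, one_mul]
    | mul z w _ _ ihz ihw => rw [mul_assoc, ihw, ← mul_assoc, ihz, mul_assoc]
    | inv z _ ih =>
      have : Commute z n := ih
      exact this.inv_left
  refine ⟨hc2, ?_⟩
  intro n hn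
  induction hn using Subgroup.closure_induction with
  | mem z hz => exact hsq z hz
  | one => exact one_pow 2
  | mul z w hz hw ihz ihw =>
    have hcomm : Commute z w := hc2 z hz w hw
    rw [hcomm.mul_pow, ihz, ihw, one_mul]
  | inv z _ ih => rw [inv_pow, ih, inv_one]

/-- Conjugating a `p`-subgroup of `M` into a Sylow subgroup of `G` lying in `M`, by an element
of `M`. -/
theorem exists_cj_le_sylow_in [Finite G] {p : ℕ} [Fact p.Prime] (S : Sylow p G) (M : Subgroup G)
    (hSM : (S : Subgroup G) ≤ M) (K : Subgroup G) (hK : IsPGroup p K) (hKM : K ≤ M) :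
    ∃ m ∈ M, cj m K ≤ (S : Subgroup G) := by
  obtain ⟨h, hh⟩ := exists_conj_le_sylow (S.subtype hSM) (K.subgroupOf M) hK.comap_subtype
  refine ⟨h.1, h.2, ?_⟩
  rw [cj_le_iff]
  intro k hk
  have := hh ⟨k, hKM hk⟩ (Subgroup.mem_subgroupOf.mpr hk)
  rw [Sylow.coe_subtype, Subgroup.mem_subgroupOf] at this
  exact this

/-- Every elementary abelian subgroup lies in a maximal one. -/
theorem cover_of_only [Finite G] (S A' B' : Subgroup G)
    (honly : ∀ C : Subgroup G, C ≤ S → EA C →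
      (∀ D : Subgroup G, D ≤ S → EA D → C ≤ D → D = C) → C = A' ∨ C = B') :
    ∀ C : Subgroup G, C ≤ S → EA C → C ≤ A' ∨ C ≤ B' := by
  intro C hCS hC
  have hfin : {M : Subgroup G | M ≤ S ∧ EA M ∧ C ≤ M}.Finite := Set.toFinite _
  obtain ⟨M, ⟨hMS, hM, hCM⟩, hmax⟩ := Set.exists_max_image _ (fun M : Subgroup G => Nat.card M) hfin
    ⟨C, hCS, hC, le_rfl⟩
  have hMmax : ∀ D : Subgroup G, D ≤ S → EA D → M ≤ D → D = M := by
    intro D hDS hD hMD
    exact (Subgroup.eq_of_le_of_card_ge hMD (hmax D ⟨hDS, hD, hCM.trans hMD⟩)).symm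
  rcases honly M hMS hM hMmax with h | h
  · exact Or.inl (h ▸ hCM)
  · exact Or.inr (h ▸ hCM)

section main

variable [Finite G] (S : Sylow 2 G) (A' B' : Subgroup G)
  (hAS : A' ≤ (S : Subgroup G)) (hBS : B' ≤ (S : Subgroup G)) (hAB : A' ≠ B')
  (hA : EA A') (hB : EA B')
  (hAmax : ∀ C : Subgroup G, C ≤ (S : Subgroup G) → EA C → A' ≤ C → C = A')
  (hBmax : ∀ C : Subgroup G, C ≤ (S : Subgroup G) → EA C → B' ≤ C → C = B')
  (hcover : ∀ C : Subgroup G, C ≤ (S : Subgroup G) → EA C → C ≤ A' ∨ C ≤ B')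
  (hprod : ∀ s ∈ (S : Subgroup G), ∃ a ∈ A', ∃ b ∈ B', a * b = s)

include hAS hBS hAB hA hB hAmax hBmax hcover hprod

theorem cj_eq_of_mem_sylow (s : G) (hs : s ∈ (S : Subgroup G)) : cj s A' = A' ∧ cj s B' = B' := by
  obtain ⟨a, ha, b, hb, rfl⟩ := hprod s hs
  have haS := hAS ha
  have hbS := hBS hb
  have hcjS : ∀ (x : G), x ∈ (S : Subgroup G) → ∀ X : Subgroup G, X ≤ (S : Subgroup G) →
      cj x X ≤ (S : Subgroup G) := by
    intro x hx X hX
    rw [cj_le_iff]
    intro y hy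
    exact mul_mem (mul_mem hx (hX hy)) (inv_mem hx)
  constructor
  · rw [← cj_cj]
    have h1 : cj b A' = A' := by
      rcases hcover (cj b A') (hcjS b hbS A' hAS) (EA_cj hA b) with h | h
      · exact cj_eq_of_le h
      · exfalso
        have h2 : A' ≤ B' := by
          have := cj_mono h b⁻¹
          rwa [cj_cj, inv_mul_cancel, cj_one, cj_self_of_mem (inv_mem hb)] at this
        exact hAB (hAmax B' hBS hB h2).symm
    rw [h1, cj_self_of_mem ha]
  · rw [← cj_cj, cj_self_of_mem hb]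
    rcases hcover (cj a B') (hcjS a haS B' hBS) (EA_cj hB a) with h | h
    · exfalso
      have h2 : B' ≤ A' := by
        have := cj_mono h a⁻¹
        rwa [cj_cj, inv_mul_cancel, cj_one, cj_self_of_mem (inv_mem ha)] at this
      exact hAB (hBmax A' hAS hA h2)
    · exact cj_eq_of_le h

theorem centralizer_le (c : G) (hc : c ∈ (S : Subgroup G)) (hcA : ∀ a ∈ A', c * a = a * c) :
    c ∈ A' := by
  obtain ⟨a, ha, b, hb, rfl⟩ := hprod c hc
  have hbA : ∀ x ∈ A', b * x = x * b := by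
    intro x hx
    have h1 := hcA x hx
    have h2 := hA.1 a ha x hx
    calc b * x = a⁻¹ * (a * b * x) := by group
      _ = a⁻¹ * (x * (a * b)) := by rw [h1]
      _ = a⁻¹ * (x * a) * b := by group
      _ = a⁻¹ * (a * x) * b := by rw [h2]
      _ = x * b := by group
  have hEA : EA (closure ((A' : Set G) ∪ {b})) := by
    apply EA_closure
    · rintro x (hx | hx) y (hy | hy)
      · exact hA.1 x hx y hy
      · rw [Set.mem_singleton_iff] at hy; subst hy; exact (hbA x hx).symm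
      · rw [Set.mem_singleton_iff] at hx; subst hx; exact hbA y hy
      · rw [Set.mem_singleton_iff] at hx hy; subst hx; subst hy; rfl
    · rintro x (hx | hx)
      · exact hA.2 x hx
      · rw [Set.mem_singleton_iff] at hx; subst hx; exact hB.2 x hb
  have hle : closure ((A' : Set G) ∪ {b}) ≤ (S : Subgroup G) := by
    rw [closure_le]
    rintro x (hx | hx)
    · exact hAS hx
    · rw [Set.mem_singleton_iff] at hx; subst hx; exact hBS hb
  have hAle : A' ≤ closure ((A' : Set G) ∪ {b}) := fun x hx => subset_closure (Or.inl hx)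
  have heq := hAmax _ hle hEA hAle
  have hbA' : b ∈ A' := by
    rw [← heq]
    exact subset_closure (Or.inr rfl)
  exact mul_mem ha hbA'

theorem weakly_closed (g : G) (hg : cj g A' ≤ (S : Subgroup G)) : cj g A' = A' := by
  have hfp : Fact (Nat.Prime 2) := ⟨Nat.prime_two⟩
  have hstep1 := cj_eq_of_mem_sylow S A' B' hAS hBS hAB hA hB hAmax hBmax hcover hprod
  rcases hcover (cj g A') hg (EA_cj hA g) with h | h
  · exact cj_eq_of_le h
  exfalso
  -- (i) cardinalities
  have hSNA : (S : Subgroup G) ≤ normalizer (A' : Set G) := fun s hs =>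
    (mem_normalizer_iff_cj A' s).mpr (hstep1 s hs).1
  have hSNB : (S : Subgroup G) ≤ normalizer (B' : Set G) := fun s hs =>
    (mem_normalizer_iff_cj B' s).mpr (hstep1 s hs).2
  have hB1cent : ∀ y ∈ cj g⁻¹ B', ∀ a ∈ A', y * a = a * y := by
    rintro _ ⟨b, hb, rfl⟩ a ha
    show g⁻¹ * b * g⁻¹⁻¹ * a = a * (g⁻¹ * b * g⁻¹⁻¹)
    have hga : g * a * g⁻¹ ∈ B' := h (conj_mem_cj A' g a ha)
    have := hB.1 b hb _ hga
    rw [inv_inv]
    calc g⁻¹ * b * g * a = g⁻¹ * (b * (g * a * g⁻¹)) * g := by group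
      _ = g⁻¹ * ((g * a * g⁻¹) * b) * g := by rw [this]
      _ = _ := by group
  have hB1N : cj g⁻¹ B' ≤ normalizer (A' : Set G) := by
    intro y hy
    apply Subgroup.centralizer_le_normalizer
    rw [Subgroup.mem_centralizer_iff]
    intro a ha
    exact (hB1cent y hy a ha).symm
  have hB1p : IsPGroup 2 (cj g⁻¹ B') := isPGroup_cj (S.isPGroup'.to_le hBS) g⁻¹
  obtain ⟨m, hm, hmS⟩ := exists_cj_le_sylow_in S _ hSNA _ hB1p hB1N
  have hmA : cj m A' = A' := (mem_normalizer_iff_cj A' m).mp hm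
  have hle1 : cj m (cj g⁻¹ B') ≤ A' := by
    intro y hy
    apply centralizer_le S A' B' hAS hBS hAB hA hB hAmax hBmax hcover hprod y (hmS hy)
    intro a ha
    -- a = m a₀ m⁻¹, y = m y₀ m⁻¹
    obtain ⟨y₀, hy₀, rfl⟩ := hy
    have ha' : a ∈ cj m A' := hmA.symm ▸ ha
    obtain ⟨a₀, ha₀, rfl⟩ := ha'
    show m * y₀ * m⁻¹ * (m * a₀ * m⁻¹) = m * a₀ * m⁻¹ * (m * y₀ * m⁻¹)
    have := hB1cent y₀ hy₀ a₀ ha₀
    calc m * y₀ * m⁻¹ * (m * a₀ * m⁻¹) = m * (y₀ * a₀) * m⁻¹ := by group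
      _ = m * (a₀ * y₀) * m⁻¹ := by rw [this]
      _ = _ := by group
  have hcardBA : Nat.card B' ≤ Nat.card A' := by
    have := Subgroup.card_le_of_le hle1
    rwa [card_cj, card_cj] at this
  have hgAB : cj g A' = B' := Subgroup.eq_of_le_of_card_ge h (by rw [card_cj]; exact hcardBA)
  have hcardAB : Nat.card A' = Nat.card B' := by rw [← hgAB, card_cj]
  -- (ii) find `h ∈ N(S)` with `cj h A' = B'`
  have hgSN : cj g (S : Subgroup G) ≤ normalizer (B' : Set G) := by
    rintro _ ⟨s, hs, rfl⟩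
    rw [mem_normalizer_iff_cj]
    show cj (g * s * g⁻¹) B' = B'
    rw [← hgAB, cj_cj]
    have : g * s * g⁻¹ * g = g * s := by group
    rw [this, ← cj_cj, (hstep1 s hs).1]
  obtain ⟨n, hn, hnS⟩ := exists_cj_le_sylow_in S _ hSNB _ (isPGroup_cj S.isPGroup' g) hgSN
  rw [cj_cj] at hnS
  have hhS : cj (n * g) (S : Subgroup G) = S := cj_eq_of_le hnS
  have hhA : cj (n * g) A' = B' := by
    rw [← cj_cj, hgAB]
    exact (mem_normalizer_iff_cj B' n).mp hn
  set h₀ := n * g with hh₀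
  -- (iii) `h₀` swaps `A'` and `B'`
  have hcjh_le : ∀ X : Subgroup G, X ≤ (S : Subgroup G) → cj h₀ X ≤ (S : Subgroup G) := by
    intro X hX
    rw [← hhS]
    exact cj_mono hX h₀
  have hhB : cj h₀ B' = A' := by
    rcases hcover (cj h₀ B') (hcjh_le B' hBS) (EA_cj hB h₀) with h' | h'
    · exact Subgroup.eq_of_le_of_card_ge h' (by rw [card_cj, hcardAB])
    · exfalso
      have e1 : cj h₀ B' = B' := cj_eq_of_le h'
      have e2 : cj h₀ B' = cj h₀ A' := by rw [e1, hhA]
      have e3 := congrArg (cj h₀⁻¹) e2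
      rw [cj_cj, cj_cj, inv_mul_cancel, cj_one, cj_one] at e3
      exact hAB e3.symm
  have hsq : ∀ j : ℕ, cj (h₀ ^ (2 * j)) A' = A' ∧ cj (h₀ ^ (2 * j)) B' = B' := by
    intro j
    induction j with
    | zero => simp [cj_one]
    | succ j ih =>
      have e : h₀ ^ (2 * (j + 1)) = h₀ * h₀ * h₀ ^ (2 * j) := by
        rw [show 2 * (j + 1) = 2 + 2 * j by ring, pow_add, pow_two]
      rw [e, ← cj_cj, ← cj_cj, ih.1, hhA, hhB, ← cj_cj, ← cj_cj, ih.2, hhB, hhA]
      exact ⟨rfl, rfl⟩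
  have hodd : ∀ j : ℕ, cj (h₀ ^ (2 * j + 1)) A' = B' := by
    intro j
    rw [pow_succ, ← cj_cj, hhA, (hsq j).2]
  -- the odd part
  have ho : orderOf h₀ ≠ 0 := (orderOf_pos h₀).ne'
  obtain ⟨k, m', hm'odd, hkm⟩ := Nat.exists_eq_two_pow_mul_odd ho
  obtain ⟨j, hj⟩ := hm'odd
  have hwS : h₀ ^ m' ∈ (S : Subgroup G) := by
    apply FixCoset.mem_sylow_of_mem_normalizer S
    · have hdvd : orderOf (h₀ ^ m') ∣ 2 ^ k := by
        apply orderOf_dvd_of_pow_eq_one
        rw [← pow_mul, mul_comm, ← hkm, pow_orderOf_eq_one]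
      obtain ⟨i, _, hi⟩ := (Nat.dvd_prime_pow Nat.prime_two).mp hdvd
      apply IsPGroup.of_card (n := i)
      rw [Nat.card_zpowers, hi]
    · apply Subgroup.pow_mem
      exact (mem_normalizer_iff_cj (S : Subgroup G) h₀).mpr hhS
  have e1 := (hstep1 _ hwS).1
  rw [hj, hodd j] at e1
  exact hAB e1.symm

end main

end Cfsg.Agent.Helper2.WeakClosedAB
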