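import Mathlib

set_option autoImplicit false

/-!
Witt's lemma on transitive extensions: the one-step double coset computation and the bookkeeping
for multiple transitivity on an invariant subset.
-/

namespace Cfsg.Agent.Helper2.Witt

open Equiv

variable {α : Type*}

theorem inv_app (f : Perm α) (x : α) : f⁻¹ (f x) = x := f.symm_apply_apply x

theorem app_inv (f : Perm α) (x : α) : f (f⁻¹ x) = x := f.apply_symm_apply x

section onestep

variable (K : Subgroup (Perm α)) (u v : Perm α) (x y : α)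
  (h2 : ∀ g ∈ K, g y ≠ y → ∃ a ∈ K, a y = y ∧ a x = g y)
  (huK : u ∈ K) (huy : u y = x)
  (hv2 : v * v ∈ K)
  (huv : (u * v) ^ 3 ∈ K)
  (hnorm : ∀ g ∈ K, g y = y → v * g * v⁻¹ ∈ K)
include h2 huK huy hv2 huv hnorm

theorem vcv (c : Perm α) (hc : c ∈ K) :
    v * c * v ∈ K ∨ ∃ a ∈ K, ∃ b ∈ K, v * c * v = a * v * b := by
  by_cases hcy : c y = y
  · left
    have h1 := hnorm c hc hcy
    have : v * c * v = (v * c * v⁻¹) * (v * v) := by group
    rw [this]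
    exact K.mul_mem h1 hv2
  · right
    have huv' : u * v * (u * v) * (u * v) ∈ K := by
      have : (u * v) ^ 3 = u * v * (u * v) * (u * v) := by rw [pow_succ, pow_succ, pow_one]
      rwa [this] at huv
    obtain ⟨a₁, ha₁, ha₁y, ha₁x⟩ := h2 c hc hcy
    have hb₁K : u⁻¹ * a₁⁻¹ * c ∈ K :=
      K.mul_mem (K.mul_mem (K.inv_mem huK) (K.inv_mem ha₁)) hc
    have hb₁y : (u⁻¹ * a₁⁻¹ * c) y = y := by
      rw [Perm.mul_apply, Perm.mul_apply, ← ha₁x, inv_app, ← huy, inv_app]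
    have hvb : v⁻¹ * (u⁻¹ * a₁⁻¹ * c) * v ∈ K := by
      have h1 := hnorm _ hb₁K hb₁y
      have : v⁻¹ * (u⁻¹ * a₁⁻¹ * c) * v =
          (v * v)⁻¹ * (v * (u⁻¹ * a₁⁻¹ * c) * v⁻¹) * (v * v) := by group
      rw [this]
      exact K.mul_mem (K.mul_mem (K.inv_mem hv2) h1) hv2
    refine ⟨(v * a₁ * v⁻¹) * (u⁻¹ * (u * v * (u * v) * (u * v)) * (v * v)⁻¹), ?_,
      u⁻¹ * (v⁻¹ * (u⁻¹ * a₁⁻¹ * c) * v), ?_, ?_⟩
    · exact K.mul_mem (hnorm a₁ ha₁ ha₁y)
        (K.mul_mem (K.mul_mem (K.inv_mem huK) huv') (K.inv_mem hv2))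
    · exact K.mul_mem (K.inv_mem huK) hvb
    · group

theorem mem_of_mem_closure :
    ∀ g ∈ Subgroup.closure ((K : Set (Perm α)) ∪ {v}),
      g ∈ K ∨ ∃ a ∈ K, ∃ b ∈ K, g = a * v * b := by
  intro g hg
  induction hg using Subgroup.closure_induction with
  | mem g hg =>
    rcases hg with hg | hg
    · left; exact hg
    · right
      rw [Set.mem_singleton_iff] at hg
      exact ⟨1, K.one_mem, 1, K.one_mem, by rw [hg]; group⟩
  | one => left; exact K.one_mem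
  | mul g₁ g₂ _ _ ih₁ ih₂ =>
    rcases ih₁ with h1 | ⟨a, ha, b, hb, rfl⟩ <;> rcases ih₂ with h2' | ⟨a', ha', b', hb', rfl⟩
    · left; exact K.mul_mem h1 h2'
    · right; exact ⟨g₁ * a', K.mul_mem h1 ha', b', hb', by group⟩
    · right; exact ⟨a, ha, b * g₂, K.mul_mem hb h2', by group⟩
    · have e : a * v * b * (a' * v * b') = a * (v * (b * a') * v) * b' := by group
      rcases vcv K u v x y h2 huK huy hv2 huv hnorm (b * a') (K.mul_mem hb ha') with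
        h | ⟨c, hc, d, hd, h⟩
      · left
        rw [e]
        exact K.mul_mem (K.mul_mem ha h) hb'
      · right
        refine ⟨a * c, K.mul_mem ha hc, d * b', K.mul_mem hd hb', ?_⟩
        rw [e, h]
        group
  | inv g _ ih =>
    rcases ih with h | ⟨a, ha, b, hb, rfl⟩
    · left; exact K.inv_mem h
    · right
      exact ⟨b⁻¹ * (v * v)⁻¹, K.mul_mem (K.inv_mem hb) (K.inv_mem hv2), a⁻¹, K.inv_mem ha,
        by group⟩

/-- the stabiliser of the new point in the extended group is the old group -/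
theorem stab_of_mem_closure {z : α} (hKz : ∀ g ∈ K, g z = z) (hvz : v z = y) (hyz : y ≠ z) :
    ∀ g ∈ Subgroup.closure ((K : Set (Perm α)) ∪ {v}), g z = z → g ∈ K := by
  intro g hg hgz
  rcases mem_of_mem_closure K u v x y h2 huK huy hv2 huv hnorm g hg with h | ⟨a, ha, b, hb, rfl⟩
  · exact h
  · exfalso
    rw [Perm.mul_apply, Perm.mul_apply, hKz b hb, hvz] at hgz
    have := hKz a ha
    rw [← this] at hgz
    exact hyz (a.injective hgz)

end onestep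

/-- `k`-fold transitivity of a permutation group on a subset -/
def KT (K : Subgroup (Perm α)) (Ω : Set α) (k : ℕ) : Prop :=
  ∀ x y : Fin k → α, Function.Injective x → Function.Injective y → (∀ i, x i ∈ Ω) →
    (∀ i, y i ∈ Ω) → ∃ g ∈ K, ∀ i, g (x i) = y i

theorem KT_succ {K K' : Subgroup (Perm α)} {Ω Ω' : Set α} {z : α} {k : ℕ}
    (hKK' : K ≤ K') (hKz : ∀ g ∈ K, g z = z) (hK : KT K Ω k)
    (hΩ : ∀ w ∈ Ω', w ≠ z → w ∈ Ω)
    (hK'Ω : ∀ g ∈ K', ∀ w ∈ Ω', g w ∈ Ω')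
    (htr : ∀ w ∈ Ω', ∃ g ∈ K', g w = z) : KT K' Ω' (k + 1) := by
  intro x y hx hy hxΩ hyΩ
  obtain ⟨g₁, hg₁, hg₁z⟩ := htr (x 0) (hxΩ 0)
  obtain ⟨g₂, hg₂, hg₂z⟩ := htr (y 0) (hyΩ 0)
  have hx' : Function.Injective (fun i : Fin k => g₁ (x i.succ)) :=
    fun i j h => Fin.succ_injective _ (hx (g₁.injective h))
  have hy' : Function.Injective (fun i : Fin k => g₂ (y i.succ)) :=
    fun i j h => Fin.succ_injective _ (hy (g₂.injective h))
  have hxΩ' : ∀ i : Fin k, g₁ (x i.succ) ∈ Ω := by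
    intro i
    refine hΩ _ (hK'Ω g₁ hg₁ _ (hxΩ _)) ?_
    intro h
    rw [← hg₁z] at h
    exact Fin.succ_ne_zero i (hx (g₁.injective h))
  have hyΩ' : ∀ i : Fin k, g₂ (y i.succ) ∈ Ω := by
    intro i
    refine hΩ _ (hK'Ω g₂ hg₂ _ (hyΩ _)) ?_
    intro h
    rw [← hg₂z] at h
    exact Fin.succ_ne_zero i (hy (g₂.injective h))
  obtain ⟨g, hg, hgi⟩ := hK _ _ hx' hy' hxΩ' hyΩ'
  refine ⟨g₂⁻¹ * g * g₁, K'.mul_mem (K'.mul_mem (K'.inv_mem hg₂) (hKK' hg)) hg₁, ?_⟩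
  intro i
  refine Fin.cases ?_ ?_ i
  · rw [Perm.mul_apply, Perm.mul_apply, hg₁z, hKz g hg, ← hg₂z, inv_app]
  · intro j
    have := hgi j
    rw [Perm.mul_apply, Perm.mul_apply, this, inv_app]

theorem KT_two_of_pairs {K : Subgroup (Perm α)} {Ω : Set α}
    (h : ∀ a b c d : α, a ∈ Ω → b ∈ Ω → c ∈ Ω → d ∈ Ω → a ≠ b → c ≠ d →
      ∃ g ∈ K, g a = c ∧ g b = d) : KT K Ω 2 := by
  intro x y hx hy hxΩ hyΩ
  have h01 : (0 : Fin 2) ≠ 1 := by decide
  obtain ⟨g, hg, h0, h1⟩ := h (x 0) (x 1) (y 0) (y 1) (hxΩ 0) (hxΩ 1) (hyΩ 0) (hyΩ 1)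
    (fun e => h01 (hx e)) (fun e => h01 (hy e))
  refine ⟨g, hg, ?_⟩
  intro i
  fin_cases i
  · exact h0
  · exact h1

theorem pairs_of_KT_two {K : Subgroup (Perm α)} {Ω : Set α} (h : KT K Ω 2)
    (a b c d : α) (ha : a ∈ Ω) (hb : b ∈ Ω) (hc : c ∈ Ω) (hd : d ∈ Ω) (hab : a ≠ b)
    (hcd : c ≠ d) : ∃ g ∈ K, g a = c ∧ g b = d := by
  have hinj : ∀ a b : α, a ≠ b → Function.Injective (![a, b] : Fin 2 → α) := by
    intro a b hab i j hij
    fin_cases i <;> fin_cases j <;> simp_all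
  obtain ⟨g, hg, hgi⟩ := h ![a, b] ![c, d] (hinj a b hab) (hinj c d hcd)
    (by intro i; fin_cases i <;> simpa) (by intro i; fin_cases i <;> simpa)
  exact ⟨g, hg, hgi 0, hgi 1⟩

theorem KT_one_of_KT_two {K : Subgroup (Perm α)} {Ω : Set α} (h : KT K Ω 2) : KT K Ω 1 := by
  intro x y _ _ hxΩ hyΩ
  by_cases hxy : x 0 = y 0
  · refine ⟨1, K.one_mem, ?_⟩
    intro i
    have : i = 0 := Subsingleton.elim _ _
    rw [this, Perm.one_apply, hxy]
  · obtain ⟨g, hg, h0, -⟩ := pairs_of_KT_two h (x 0) (y 0) (y 0) (x 0) (hxΩ 0) (hyΩ 0) (hyΩ 0)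
      (hxΩ 0) hxy (Ne.symm hxy)
    refine ⟨g, hg, ?_⟩
    intro i
    have : i = 0 := Subsingleton.elim _ _
    rw [this, h0]

theorem trans_of_KT_one {K : Subgroup (Perm α)} {Ω : Set α} (h : KT K Ω 1) (a c : α)
    (ha : a ∈ Ω) (hc : c ∈ Ω) : ∃ g ∈ K, g a = c := by
  obtain ⟨g, hg, hgi⟩ := h (fun _ => a) (fun _ => c) (fun i j _ => Subsingleton.elim _ _)
    (fun i j _ => Subsingleton.elim _ _) (fun _ => ha) (fun _ => hc)
  exact ⟨g, hg, hgi 0⟩

end Cfsg.Agent.Helper2.Witt
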