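import Mathlib
import Cfsg.Agent.Helper2.WittA

set_option autoImplicit false

/-!
Witt's lemma on transitive extensions: the tower of groups `G ≤ ⟨G, s₂⟩ ≤ ⟨G, s₂, s₃⟩ ≤ …`.
-/

namespace Cfsg.Agent.Helper2.Witt

open Equiv

variable {α : Type*}

/-- the generators added up to level `k` -/
def gens (s : ℕ → Perm α) (k : ℕ) : Set (Perm α) := {x | ∃ i : ℕ, 2 ≤ i ∧ i + 1 ≤ k ∧ x = s i}

/-- the group at level `k` -/
def Gk (G : Subgroup (Perm α)) (s : ℕ → Perm α) (k : ℕ) : Subgroup (Perm α) :=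
  Subgroup.closure ((G : Set (Perm α)) ∪ gens s k)

/-- the points on which the level `k` group acts: all but `q (k+1), …, q t` -/
def Om (t : ℕ) (q : ℕ → α) (k : ℕ) : Set α := {w | ∀ j : ℕ, k < j → j ≤ t → w ≠ q j}

theorem G_le_Gk (G : Subgroup (Perm α)) (s : ℕ → Perm α) (k : ℕ) : G ≤ Gk G s k :=
  fun _ hg => Subgroup.subset_closure (Or.inl hg)

theorem Gk_mono (G : Subgroup (Perm α)) (s : ℕ → Perm α) {k k' : ℕ} (h : k ≤ k') :
    Gk G s k ≤ Gk G s k' := by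
  apply Subgroup.closure_mono
  apply Set.union_subset_union_right
  rintro x ⟨i, h1, h2, rfl⟩
  exact ⟨i, h1, by omega, rfl⟩

theorem Gk_two (G : Subgroup (Perm α)) (s : ℕ → Perm α) : Gk G s 2 = G := by
  have : gens s 2 = ∅ := by
    ext x
    simp only [gens, Set.mem_setOf_eq, Set.mem_empty_iff_false, iff_false]
    rintro ⟨i, h1, h2, -⟩
    omega
  rw [Gk, this, Set.union_empty, Subgroup.closure_eq]

theorem s_mem_Gk (G : Subgroup (Perm α)) (s : ℕ → Perm α) {i k : ℕ} (h1 : 2 ≤ i)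
    (h2 : i + 1 ≤ k) : s i ∈ Gk G s k :=
  Subgroup.subset_closure (Or.inr ⟨i, h1, h2, rfl⟩)

theorem Gk_succ (G : Subgroup (Perm α)) (s : ℕ → Perm α) {k : ℕ} (hk : 2 ≤ k) :
    Gk G s (k + 1) = Subgroup.closure ((Gk G s k : Set (Perm α)) ∪ {s k}) := by
  apply le_antisymm
  · rw [Gk, Subgroup.closure_le]
    rintro x (hx | ⟨i, h1, h2, rfl⟩)
    · exact Subgroup.subset_closure (Or.inl (G_le_Gk G s k hx))
    · by_cases h : i + 1 ≤ k
      · exact Subgroup.subset_closure (Or.inl (s_mem_Gk G s h1 h))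
      · have : i = k := by omega
        subst this
        exact Subgroup.subset_closure (Or.inr rfl)
  · rw [Subgroup.closure_le]
    rintro x (hx | hx)
    · exact Gk_mono G s (Nat.le_succ k) hx
    · rw [Set.mem_singleton_iff] at hx
      rw [hx]
      exact s_mem_Gk G s hk le_rfl

/-- the hypotheses of Witt's lemma -/
structure Hyp (t : ℕ) (q : ℕ → α) (G : Subgroup (Perm α)) (s : ℕ → Perm α)
    (H : Subgroup (Perm α)) : Prop where
  hq : ∀ i j : ℕ, 1 ≤ i → i ≤ t → 1 ≤ j → j ≤ t → q i = q j → i = j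
  hfix : ∀ g ∈ G, ∀ i : ℕ, 3 ≤ i → i ≤ t → g (q i) = q i
  h2 : ∀ a b c d : α, (∀ i, 3 ≤ i → i ≤ t → a ≠ q i ∧ b ≠ q i ∧ c ≠ q i ∧ d ≠ q i) → a ≠ b →
    c ≠ d → ∃ g ∈ G, g a = c ∧ g b = d
  hs1 : s 1 ∈ G
  hs1q : s 1 (q 1) = q 2 ∧ s 1 (q 2) = q 1
  hsq : ∀ i : ℕ, 2 ≤ i → i + 1 ≤ t → s i (q i) = q (i + 1) ∧ s i (q (i + 1)) = q i ∧
    ∀ j : ℕ, 1 ≤ j → j ≤ t → j ≠ i → j ≠ i + 1 → s i (q j) = q j
  hH : H = G ⊓ MulAction.stabilizer (Perm α) (q 1) ⊓ MulAction.stabilizer (Perm α) (q 2)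
  hsq2 : ∀ i : ℕ, 1 ≤ i → i + 1 ≤ t → s i ^ 2 ∈ H
  hbraid : ∀ i : ℕ, 1 ≤ i → i + 2 ≤ t → (s i * s (i + 1)) ^ 3 ∈ H
  hcomm : ∀ i j : ℕ, 1 ≤ i → i + 2 ≤ j → j + 1 ≤ t → (s i * s j) ^ 2 ∈ H ∧ (s j * s i) ^ 2 ∈ H
  hnorm : ∀ i : ℕ, 2 ≤ i → i + 1 ≤ t → ∀ g ∈ G ⊓ MulAction.stabilizer (Perm α) (q 2),
    s i * g * (s i)⁻¹ ∈ G ⊓ MulAction.stabilizer (Perm α) (q 2)

namespace Hyp

variable {t : ℕ} {q : ℕ → α} {G : Subgroup (Perm α)} {s : ℕ → Perm α} {H : Subgroup (Perm α)}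
  (h : Hyp t q G s H)
include h

theorem H_le_G : H ≤ G := by
  rw [h.hH]
  exact inf_le_left.trans inf_le_left

theorem ss_mem {i : ℕ} (h1 : 1 ≤ i) (h2 : i + 1 ≤ t) : s i * s i ∈ G := by
  have := h.hsq2 i h1 h2
  rw [pow_two] at this
  exact h.H_le_G this

theorem Gk_fix {k : ℕ} (hk : 2 ≤ k) : ∀ g ∈ Gk G s k, ∀ j : ℕ, k < j → j ≤ t → g (q j) = q j := by
  intro g hg j hj1 hj2
  induction hg using Subgroup.closure_induction with
  | mem g hg =>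
    rcases hg with hg | ⟨i, h1, h2, rfl⟩
    · exact h.hfix g hg j (by omega) hj2
    · exact (h.hsq i h1 (by omega)).2.2 j (by omega) hj2 (by omega) (by omega)
  | one => rfl
  | mul g₁ g₂ _ _ ih₁ ih₂ => rw [Perm.mul_apply, ih₂, ih₁]
  | inv g _ ih =>
    nth_rewrite 1 [← ih]
    exact inv_app g _

theorem Gk_pres {k : ℕ} (hk : 2 ≤ k) : ∀ g ∈ Gk G s k, ∀ w ∈ Om t q k, g w ∈ Om t q k := by
  intro g hg w hw j hj1 hj2 heq
  have h1 := h.Gk_fix hk g⁻¹ ((Gk G s k).inv_mem hg) j hj1 hj2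
  have h2 : w = q j := by
    rw [← h1, ← heq]
    exact (inv_app g w).symm
  exact hw j hj1 hj2 h2

theorem q_mem_Om {i k : ℕ} (h1 : 1 ≤ i) (h2 : i ≤ k) : q i ∈ Om t q k := by
  intro j hj1 hj2 heq
  have := h.hq i j h1 (by omega) (by omega) hj2 heq
  omega

theorem norm_G {i : ℕ} (hi : 3 ≤ i) (hit : i + 1 ≤ t) : ∀ g ∈ G, s i * g * (s i)⁻¹ ∈ G := by
  intro g hg
  by_cases hgq : g (q 2) = q 2
  · exact (h.hnorm i (by omega) hit g ⟨hg, MulAction.mem_stabilizer_iff.mpr hgq⟩).1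
  · have hq21 : q 2 ≠ q 1 := fun e => by
      have := h.hq 2 1 (by omega) (by omega) (by omega) (by omega) e
      omega
    obtain ⟨a, ha, haq2, haq1⟩ := h.h2 (q 2) (q 1) (q 2) (g (q 2)) (by
      intro i' hi1 hi2
      have e2 : q 2 ≠ q i' := fun e => by
        have := h.hq 2 i' (by omega) (by omega) (by omega) hi2 e
        omega
      have e1 : q 1 ≠ q i' := fun e => by
        have := h.hq 1 i' (by omega) (by omega) (by omega) hi2 e
        omega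
      refine ⟨e2, e1, e2, ?_⟩
      intro e
      rw [← h.hfix g hg i' hi1 hi2] at e
      exact e2 (g.injective e)) hq21 (Ne.symm hgq)
    have hbG : (s 1)⁻¹ * a⁻¹ * g ∈ G :=
      G.mul_mem (G.mul_mem (G.inv_mem h.hs1) (G.inv_mem ha)) hg
    have hbq : ((s 1)⁻¹ * a⁻¹ * g) (q 2) = q 2 := by
      rw [Perm.mul_apply, Perm.mul_apply, ← haq1, inv_app, ← h.hs1q.2, inv_app]
    have h1 := (h.hnorm i (by omega) hit a ⟨ha, MulAction.mem_stabilizer_iff.mpr haq2⟩).1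
    have h3 := (h.hnorm i (by omega) hit _ ⟨hbG, MulAction.mem_stabilizer_iff.mpr hbq⟩).1
    have h4 : (s 1 * s i) * (s 1 * s i) ∈ G := by
      have := (h.hcomm 1 i le_rfl (by omega) hit).1
      rw [pow_two] at this
      exact h.H_le_G this
    have h5 : s i * s i ∈ G := h.ss_mem (by omega) hit
    have h2 : s i * s 1 * (s i)⁻¹ ∈ G := by
      have e : s i * s 1 * (s i)⁻¹ = (s 1)⁻¹ * ((s 1 * s i) * (s 1 * s i)) * (s i * s i)⁻¹ := by
        group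
      rw [e]
      exact G.mul_mem (G.mul_mem (G.inv_mem h.hs1) h4) (G.inv_mem h5)
    have e : s i * g * (s i)⁻¹ = (s i * a * (s i)⁻¹) * (s i * s 1 * (s i)⁻¹) *
        (s i * ((s 1)⁻¹ * a⁻¹ * g) * (s i)⁻¹) := by group
    rw [e]
    exact G.mul_mem (G.mul_mem h1 h2) h3

theorem norm_Gk {i k : ℕ} (hi : 3 ≤ i) (hit : i + 1 ≤ t) (hk : k + 1 ≤ i) :
    ∀ g ∈ Gk G s k, s i * g * (s i)⁻¹ ∈ Gk G s k := by
  intro g hg
  induction hg using Subgroup.closure_induction with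
  | mem g hg =>
    rcases hg with hg | ⟨j, h1, h2, rfl⟩
    · exact G_le_Gk G s k (h.norm_G hi hit g hg)
    · have h4 : (s j * s i) * (s j * s i) ∈ Gk G s k := by
        have := (h.hcomm j i (by omega) (by omega) hit).1
        rw [pow_two] at this
        exact G_le_Gk G s k (h.H_le_G this)
      have h5 : s i * s i ∈ Gk G s k := G_le_Gk G s k (h.ss_mem (by omega) hit)
      have e : s i * s j * (s i)⁻¹ = (s j)⁻¹ * ((s j * s i) * (s j * s i)) * (s i * s i)⁻¹ := by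
        group
      rw [e]
      exact (Gk G s k).mul_mem ((Gk G s k).mul_mem ((Gk G s k).inv_mem (s_mem_Gk G s h1 h2)) h4)
        ((Gk G s k).inv_mem h5)
  | one =>
    have : s i * 1 * (s i)⁻¹ = 1 := by group
    rw [this]
    exact (Gk G s k).one_mem
  | mul g₁ g₂ _ _ ih₁ ih₂ =>
    have : s i * (g₁ * g₂) * (s i)⁻¹ = (s i * g₁ * (s i)⁻¹) * (s i * g₂ * (s i)⁻¹) := by group
    rw [this]
    exact (Gk G s k).mul_mem ih₁ ih₂
  | inv g _ ih =>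
    have : s i * g⁻¹ * (s i)⁻¹ = (s i * g * (s i)⁻¹)⁻¹ := by group
    rw [this]
    exact (Gk G s k).inv_mem ih

end Hyp

end Cfsg.Agent.Helper2.Witt
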