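import Mathlib
import Cfsg.Agent.Helper2.WittB

set_option autoImplicit false

/-!
Witt's lemma on transitive extensions: the induction and the final statement.
-/

namespace Cfsg.Agent.Helper2.Witt

open Equiv

variable {α : Type*}

namespace Hyp

variable {t : ℕ} {q : ℕ → α} {G : Subgroup (Perm α)} {s : ℕ → Perm α} {H : Subgroup (Perm α)}
  (h : Hyp t q G s H)
include h

theorem level : ∀ m : ℕ, 1 ≤ m → m + 1 ≤ t →
    KT (Gk G s (m + 1)) (Om t q (m + 1)) (m + 1) ∧ KT (Gk G s (m + 1)) (Om t q (m + 1)) 2 ∧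
    (∀ g ∈ Gk G s (m + 1), (∀ j, 3 ≤ j → j ≤ m + 1 → g (q j) = q j) → g ∈ G) ∧
    (2 ≤ m → ∀ g ∈ Gk G s (m + 1), g (q (m + 1)) = q (m + 1) → g ∈ Gk G s m) := by
  intro m hm
  induction m, hm using Nat.le_induction with
  | base =>
    intro _
    have e : (1 + 1 : ℕ) = 2 := rfl
    rw [e, Gk_two]
    have hkt : KT G (Om t q 2) 2 := by
      apply KT_two_of_pairs
      intro a b c d ha hb hc hd hab hcd
      exact h.h2 a b c d (fun i hi1 hi2 =>
        ⟨ha i (by omega) hi2, hb i (by omega) hi2, hc i (by omega) hi2, hd i (by omega) hi2⟩)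
        hab hcd
    refine ⟨hkt, hkt, fun g hg _ => hg, fun h2 => ?_⟩
    omega
  | succ m hm ih =>
    intro ht
    obtain ⟨ihk, ih2, ihc, ihc'⟩ := ih (by omega)
    have hsucc : Gk G s (m + 1 + 1) =
        Subgroup.closure ((Gk G s (m + 1) : Set (Perm α)) ∪ {s (m + 1)}) :=
      Gk_succ G s (by omega)
    have hKfix := h.Gk_fix (k := m + 1) (by omega)
    have hKpres := h.Gk_pres (k := m + 1) (by omega)
    have hxΩ : q m ∈ Om t q (m + 1) := h.q_mem_Om hm (by omega)
    have hyΩ : q (m + 1) ∈ Om t q (m + 1) := h.q_mem_Om (by omega) le_rfl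
    have hxy : q m ≠ q (m + 1) := fun e => by
      have := h.hq m (m + 1) hm (by omega) (by omega) (by omega) e
      omega
    have hyz : q (m + 1) ≠ q (m + 1 + 1) := fun e => by
      have := h.hq (m + 1) (m + 1 + 1) (by omega) (by omega) (by omega) (by omega) e
      omega
    have huK : s m ∈ Gk G s (m + 1) := by
      by_cases hm2 : 2 ≤ m
      · exact s_mem_Gk G s hm2 le_rfl
      · have : m = 1 := by omega
        subst this
        exact G_le_Gk G s _ h.hs1
    have huy : s m (q (m + 1)) = q m := by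
      by_cases hm2 : 2 ≤ m
      · exact (h.hsq m hm2 (by omega)).2.1
      · have : m = 1 := by omega
        subst this
        exact h.hs1q.2
    obtain ⟨hvy, hvz, -⟩ := h.hsq (m + 1) (by omega) ht
    have hv2 : s (m + 1) * s (m + 1) ∈ Gk G s (m + 1) :=
      G_le_Gk G s _ (h.ss_mem (by omega) ht)
    have huv : (s m * s (m + 1)) ^ 3 ∈ Gk G s (m + 1) :=
      G_le_Gk G s _ (h.H_le_G (h.hbraid m hm (by omega)))
    have h2' : ∀ g ∈ Gk G s (m + 1), g (q (m + 1)) ≠ q (m + 1) →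
        ∃ a ∈ Gk G s (m + 1), a (q (m + 1)) = q (m + 1) ∧ a (q m) = g (q (m + 1)) := by
      intro g hg hgy
      exact pairs_of_KT_two ih2 (q (m + 1)) (q m) (q (m + 1)) (g (q (m + 1))) hyΩ hxΩ hyΩ
        (hKpres g hg _ hyΩ) (Ne.symm hxy) (Ne.symm hgy)
    have hnorm' : ∀ g ∈ Gk G s (m + 1), g (q (m + 1)) = q (m + 1) →
        s (m + 1) * g * (s (m + 1))⁻¹ ∈ Gk G s (m + 1) := by
      intro g hg hgy
      by_cases hm2 : 2 ≤ m
      · have hg' := ihc' hm2 g hg hgy
        have := h.norm_Gk (i := m + 1) (k := m) (by omega) ht le_rfl g hg'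
        exact Gk_mono G s (Nat.le_succ m) this
      · have hm1 : m = 1 := by omega
        subst hm1
        have e : (1 + 1 : ℕ) = 2 := rfl
        rw [e, Gk_two] at hg ⊢
        rw [e] at hgy
        exact (h.hnorm 2 le_rfl (by omega) g ⟨hg, MulAction.mem_stabilizer_iff.mpr hgy⟩).1
    have hKz : ∀ g ∈ Gk G s (m + 1), g (q (m + 1 + 1)) = q (m + 1 + 1) :=
      fun g hg => hKfix g hg (m + 1 + 1) (by omega) ht
    have hstab := stab_of_mem_closure (Gk G s (m + 1)) (s m) (s (m + 1)) (q m) (q (m + 1)) h2' huK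
      huy hv2 huv hnorm' hKz hvz hyz
    have hle : Gk G s (m + 1) ≤ Gk G s (m + 1 + 1) := Gk_mono G s (Nat.le_succ _)
    have hΩ : ∀ w ∈ Om t q (m + 1 + 1), w ≠ q (m + 1 + 1) → w ∈ Om t q (m + 1) := by
      intro w hw hwz j hj1 hj2
      by_cases hj : j = m + 1 + 1
      · rw [hj]; exact hwz
      · exact hw j (by omega) hj2
    have hK'pres := h.Gk_pres (k := m + 1 + 1) (by omega)
    have htr : ∀ w ∈ Om t q (m + 1 + 1), ∃ g ∈ Gk G s (m + 1 + 1), g w = q (m + 1 + 1) := by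
      intro w hw
      by_cases hwz : w = q (m + 1 + 1)
      · exact ⟨1, (Gk G s _).one_mem, by rw [Perm.one_apply, hwz]⟩
      · obtain ⟨g, hg, hgw⟩ := trans_of_KT_one (KT_one_of_KT_two ih2) w (q (m + 1))
          (hΩ w hw hwz) hyΩ
        refine ⟨s (m + 1) * g, (Gk G s _).mul_mem (s_mem_Gk G s (by omega) le_rfl) (hle hg), ?_⟩
        rw [Perm.mul_apply, hgw, hvy]
    refine ⟨KT_succ hle hKz ihk hΩ hK'pres htr,
      KT_succ hle hKz (KT_one_of_KT_two ih2) hΩ hK'pres htr, ?_, ?_⟩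
    · intro g hg hfixj
      rw [hsucc] at hg
      have hgK := hstab g hg (hfixj (m + 1 + 1) (by omega) le_rfl)
      exact ihc g hgK (fun j hj1 hj2 => hfixj j hj1 (by omega))
    · intro _ g hg hgz
      rw [hsucc] at hg
      exact hstab g hg hgz

theorem final (ht : 2 ≤ t) :
    MulAction.IsMultiplyPretransitive ↥(Gk G s t) α t ∧
    Gk G s t ⊓ fixingSubgroup (Perm α) {x | ∃ i : ℕ, 1 ≤ i ∧ i ≤ t ∧ x = q i} = H := by
  obtain ⟨m, rfl⟩ : ∃ m, t = m + 1 := ⟨t - 1, by omega⟩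
  obtain ⟨hk, -, hc, -⟩ := h.level m (by omega) le_rfl
  constructor
  · refine ⟨fun x y => ?_⟩
    obtain ⟨g, hg, hgi⟩ := hk x y x.injective y.injective
      (fun i j hj1 hj2 => by omega) (fun i j hj1 hj2 => by omega)
    refine ⟨⟨g, hg⟩, ?_⟩
    ext i
    exact hgi i
  · apply le_antisymm
    · intro g hg'
      obtain ⟨hg, hgfix⟩ := Subgroup.mem_inf.mp hg'
      rw [mem_fixingSubgroup_iff] at hgfix
      have hfixj : ∀ j, 1 ≤ j → j ≤ m + 1 → g (q j) = q j :=
        fun j h1 h2 => hgfix (q j) ⟨j, h1, h2, rfl⟩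
      have hgG := hc g hg (fun j h1 h2 => hfixj j (by omega) h2)
      rw [h.hH]
      exact ⟨⟨hgG, MulAction.mem_stabilizer_iff.mpr (hfixj 1 le_rfl (by omega))⟩,
        MulAction.mem_stabilizer_iff.mpr (hfixj 2 (by omega) (by omega))⟩
    · intro g hg
      have hgG := h.H_le_G hg
      refine Subgroup.mem_inf.mpr ⟨G_le_Gk G s _ hgG, ?_⟩
      rw [mem_fixingSubgroup_iff]
      rintro _ ⟨j, h1, h2, rfl⟩
      rw [h.hH] at hg
      by_cases hj : 3 ≤ j
      · exact h.hfix g hgG j hj h2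
      · have : j = 1 ∨ j = 2 := by omega
        rcases this with rfl | rfl
        · exact MulAction.mem_stabilizer_iff.mp hg.1.2
        · exact MulAction.mem_stabilizer_iff.mp hg.2

end Hyp

end Cfsg.Agent.Helper2.Witt
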