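import Mathlib
import Cfsg.Agent.Lead.GlThB
import Cfsg.Agent.Lead.FusionClosedProd
import Cfsg.Agent.Lead.FusionStab

set_option autoImplicit false

/-!
# Weakly embedded subgroups and nilpotency of fusion systems, part A

If every subgroup of `S` of order `p ^ d` is weakly embedded in the saturated system `F` and the
normalizer systems of the fully normalized subgroups of that order are inner, then `Aut_F(P)` is a
`p`-group for every `P ≤ S` of order at least `p ^ d`.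
-/

namespace Cfsg.Agent.Helper2.WkEmb

open Cfsg Cfsg.FusionSystem Cfsg.Agent.Lead
open scoped Pointwise

variable {Ω : Type*} [Group Ω] {S : Subgroup Ω}

/-- Every subgroup of `S` of order `m` is weakly embedded in `F`. -/
def WE (F : FusionSystem S) (m : ℕ) : Prop :=
  ∀ Q : Subgroup Ω, Q ≤ S → Nat.card Q = m →
    ∃ P : Subgroup Ω, F.StronglyClosed P ∧ F.StronglyClosed (Q ⊔ P) ∧ F.StronglyClosed (Q ⊓ P)

theorem mem_sup_of_normalizes {Q N : Subgroup Ω} (h : Q ≤ Subgroup.normalizer (N : Set Ω)) {x : Ω}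
    (hx : x ∈ Q ⊔ N) : ∃ q ∈ Q, ∃ t ∈ N, x = q * t := by
  have hmul := Subgroup.coe_mul_of_left_le_normalizer_right Q N h
  have hx' : x ∈ ((Q ⊔ N : Subgroup Ω) : Set Ω) := hx
  rw [hmul] at hx'
  obtain ⟨q, hq, t, ht, rfl⟩ := hx'
  exact ⟨q, hq, t, ht, rfl⟩

/-- Dedekind's modular law. -/
theorem modular {Q N Y : Subgroup Ω} (hQY : Q ≤ Y) (hQN : Q ≤ Subgroup.normalizer (N : Set Ω)) :
    (Q ⊔ N) ⊓ Y = Q ⊔ (N ⊓ Y) := by
  apply le_antisymm
  · rintro x ⟨hx1, hx2⟩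
    obtain ⟨q, hq, t, ht, rfl⟩ := mem_sup_of_normalizes hQN hx1
    have htY : t ∈ Y := by
      have h := Y.mul_mem (Y.inv_mem (hQY hq)) hx2
      rwa [inv_mul_cancel_left] at h
    exact Subgroup.mul_mem_sup hq ⟨ht, htY⟩
  · exact le_inf (sup_le_sup_left inf_le_left Q) (sup_le hQY inf_le_right)

/-- A subgroup between two `p`-subgroups of prescribed order. -/
theorem exists_between [Finite S] (p : ℕ) [Fact p.Prime] (hS : IsPGroup p S) {X Y : Subgroup Ω}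
    (hXY : X ≤ Y) (hYS : Y ≤ S) (d : ℕ) (hXd : Nat.card X ≤ p ^ d) (hYd : p ^ d ≤ Nat.card Y) :
    ∃ Q : Subgroup Ω, X ≤ Q ∧ Q ≤ Y ∧ Nat.card Q = p ^ d := by
  haveI : Finite Y := Fusion.finite_of_le hYS
  have hYp : IsPGroup p Y := hS.to_le hYS
  obtain ⟨b, hb⟩ := IsPGroup.iff_card.mp hYp
  have hXp : IsPGroup p (X.subgroupOf Y) := hYp.to_subgroup _
  obtain ⟨a, ha⟩ := IsPGroup.iff_card.mp hXp
  have hcardX : Nat.card (X.subgroupOf Y) = Nat.card X :=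
    Nat.card_congr (Subgroup.subgroupOfEquivOfLe hXY).toEquiv
  have hp1 : 1 < p := (Fact.out : p.Prime).one_lt
  have had : a ≤ d := by
    rw [hcardX] at ha
    rw [ha] at hXd
    exact (Nat.pow_le_pow_iff_right hp1).mp hXd
  have hdb : p ^ d ∣ Nat.card Y := by
    rw [hb] at hYd ⊢
    exact pow_dvd_pow p ((Nat.pow_le_pow_iff_right hp1).mp hYd)
  obtain ⟨K, hK, hXK⟩ := Sylow.exists_subgroup_card_pow_prime_le p hdb (X.subgroupOf Y) ha had
  refine ⟨K.map Y.subtype, ?_, ?_, ?_⟩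
  · intro x hx
    exact ⟨⟨x, hXY hx⟩, hXK (Subgroup.mem_subgroupOf.mpr hx), rfl⟩
  · rintro _ ⟨y, -, rfl⟩
    exact y.2
  · rw [Subgroup.card_map_of_injective Y.subtype_injective]
    exact hK

/-- `Z` is a subgroup of `P`, normal in `P`, and invariant under `α`. -/
def IN (P : Subgroup Ω) (α : MulAut P) (Z : Subgroup Ω) : Prop :=
  Z ≤ P ∧ P ≤ Subgroup.normalizer (Z : Set Ω) ∧ ∀ x : P, (x : Ω) ∈ Z → ((α x : P) : Ω) ∈ Z

theorem le_normalizer_inf {P Z₁ Z₂ : Subgroup Ω} (h₁ : P ≤ Subgroup.normalizer (Z₁ : Set Ω))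
    (h₂ : P ≤ Subgroup.normalizer (Z₂ : Set Ω)) :
    P ≤ Subgroup.normalizer ((Z₁ ⊓ Z₂ : Subgroup Ω) : Set Ω) := by
  intro g hg
  rw [Subgroup.mem_normalizer_iff]
  intro y
  have e1 := Subgroup.mem_normalizer_iff.mp (h₁ hg) y
  have e2 := Subgroup.mem_normalizer_iff.mp (h₂ hg) y
  constructor
  · rintro ⟨hy1, hy2⟩
    exact ⟨e1.mp hy1, e2.mp hy2⟩
  · rintro ⟨hy1, hy2⟩
    exact ⟨e1.mpr hy1, e2.mpr hy2⟩

theorem IN.sup {P : Subgroup Ω} [Finite P] {α : MulAut P} {Z₁ Z₂ : Subgroup Ω}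
    (h₁ : IN P α Z₁) (h₂ : IN P α Z₂) : IN P α (Z₁ ⊔ Z₂) := by
  have h12 : Z₁ ≤ Subgroup.normalizer (Z₂ : Set Ω) := h₁.1.trans h₂.2.1
  have hle : Z₁ ⊔ Z₂ ≤ P := sup_le h₁.1 h₂.1
  refine ⟨hle, ?_, ?_⟩
  · intro g hg
    haveI : Finite ↥(Z₁ ⊔ Z₂) :=
      Finite.of_injective (Subgroup.inclusion hle) (Subgroup.inclusion_injective _)
    apply mem_normalizer_of_conj_mem_of_finite
    intro y hy
    obtain ⟨a, ha, b, hb, rfl⟩ := mem_sup_of_normalizes h12 hy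
    have : g * (a * b) * g⁻¹ = (g * a * g⁻¹) * (g * b * g⁻¹) := by group
    rw [this]
    exact Subgroup.mul_mem_sup ((Subgroup.mem_normalizer_iff.mp (h₁.2.1 hg) a).mp ha)
      ((Subgroup.mem_normalizer_iff.mp (h₂.2.1 hg) b).mp hb)
  · intro x hx
    obtain ⟨a, ha, b, hb, hab⟩ := mem_sup_of_normalizes h12 hx
    have hx' : x = (⟨a, h₁.1 ha⟩ : P) * ⟨b, h₂.1 hb⟩ := Subtype.ext hab
    rw [hx', map_mul, Subgroup.coe_mul]
    exact Subgroup.mul_mem_sup (h₁.2.2 _ ha) (h₂.2.2 _ hb)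

theorem IN.of_stronglyClosed [Finite S] (F : FusionSystem S) {P : Subgroup Ω} (hPS : P ≤ S)
    {α : MulAut P} (hα : α ∈ F.autGroup P) {A : Subgroup Ω} (hA : F.StronglyClosed A)
    {Z : Subgroup Ω} (hZ : IN P α Z) : IN P α (A ⊓ Z) := by
  have hAn := Fusion.le_normalizer_of_stronglyClosed F hA
  exact ⟨inf_le_right.trans hZ.1, le_normalizer_inf (hPS.trans hAn) hZ.2.1, fun x hx =>
    ⟨Fusion.aut_mem_of_stronglyClosed F hPS hA α hα x hx.1, hZ.2.2 x hx.2⟩⟩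

theorem IN.bot (P : Subgroup Ω) (α : MulAut P) : IN P α ⊥ := by
  refine ⟨bot_le, ?_, ?_⟩
  · intro g _
    rw [Subgroup.mem_normalizer_iff]
    intro y
    simp only [SetLike.mem_coe, Subgroup.mem_bot]
    constructor
    · rintro rfl
      simp
    · intro h
      have : y = g⁻¹ * (g * y * g⁻¹) * g := by group
      rw [this, h]
      simp
  · intro x hx
    rw [Subgroup.mem_bot] at hx
    have hx1 : x = 1 := Subtype.ext hx
    rw [hx1, map_one]
    exact Subgroup.one_mem _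

theorem IN.top (P : Subgroup Ω) (α : MulAut P) : IN P α P :=
  ⟨le_rfl, Subgroup.le_normalizer, fun x _ => (α x).2⟩

/-- Between two invariant normal subgroups straddling `p ^ d` there is one of order exactly
`p ^ d`. -/
theorem exists_IN_card [Finite S] (p : ℕ) [Fact p.Prime] (hS : IsPGroup p S) (F : FusionSystem S)
    (d : ℕ) (hWE : WE F (p ^ d)) {P : Subgroup Ω} (hPS : P ≤ S) {α : MulAut P}
    (hα : α ∈ F.autGroup P) :
    ∀ (k : ℕ) (X Y : Subgroup Ω), IN P α X → IN P α Y → X ≤ Y → Nat.card X ≤ p ^ d →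
      p ^ d ≤ Nat.card Y → Nat.card Y - Nat.card X = k →
      ∃ Z, IN P α Z ∧ Nat.card Z = p ^ d := by
  intro k
  induction k using Nat.strong_induction_on with
  | _ k ih =>
  intro X Y hX hY hXY hXd hYd hk
  haveI : Finite P := Fusion.finite_of_le hPS
  by_cases h1 : Nat.card X = p ^ d
  · exact ⟨X, hX, h1⟩
  by_cases h2 : Nat.card Y = p ^ d
  · exact ⟨Y, hY, h2⟩
  have hYS : Y ≤ S := hY.1.trans hPS
  obtain ⟨Q, hXQ, hQY, hQc⟩ := exists_between p hS hXY hYS d hXd hYd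
  have hQS : Q ≤ S := hQY.trans hYS
  obtain ⟨P0, hP0, hsup, hinf⟩ := hWE Q hQS hQc
  have hWIN : IN P α ((P0 ⊓ Y) ⊔ X) := (IN.of_stronglyClosed F hPS hα hP0 hY).sup hX
  have hXW : X ≤ (P0 ⊓ Y) ⊔ X := le_sup_right
  have hWY : (P0 ⊓ Y) ⊔ X ≤ Y := sup_le inf_le_right hXY
  have hQP0 : Q ≤ Subgroup.normalizer (P0 : Set Ω) :=
    hQS.trans (Fusion.le_normalizer_of_stronglyClosed F hP0)
  haveI : Finite Y := Fusion.finite_of_le hYS
  haveI : Finite ↥((P0 ⊓ Y) ⊔ X) := Fusion.finite_of_le (hWY.trans hYS)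
  by_cases hWX : (P0 ⊓ Y) ⊔ X = X
  · have hle : P0 ⊓ Y ≤ X := by
      rw [← hWX]
      exact le_sup_left
    have hQeq : (Q ⊔ P0) ⊓ Y = Q := by
      rw [modular hQY hQP0]
      exact sup_eq_left.mpr (hle.trans hXQ)
    refine ⟨Q, ?_, hQc⟩
    rw [← hQeq]
    exact IN.of_stronglyClosed F hPS hα hsup hY
  by_cases hWYeq : (P0 ⊓ Y) ⊔ X = Y
  · have hXn : X ≤ Subgroup.normalizer ((P0 ⊓ Y : Subgroup Ω) : Set Ω) :=
      hX.1.trans (IN.of_stronglyClosed F hPS hα hP0 hY).2.1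
    have hm := modular hXQ hXn
    have hQeq : Q = X ⊔ (Q ⊓ P0) := by
      have h3 : (X ⊔ (P0 ⊓ Y)) ⊓ Q = Q := by
        rw [sup_comm, hWYeq]
        exact inf_eq_right.mpr hQY
      have h4 : (P0 ⊓ Y) ⊓ Q = Q ⊓ P0 := by
        rw [inf_assoc, inf_eq_right.mpr hQY, inf_comm]
      rw [h3, h4] at hm
      exact hm
    refine ⟨Q, ?_, hQc⟩
    rw [hQeq]
    have hIN2 : IN P α (Q ⊓ P0) := by
      have := IN.of_stronglyClosed F hPS hα hinf hY
      rwa [inf_eq_left.mpr (inf_le_left.trans hQY)] at this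
    exact hX.sup hIN2
  have hXWlt : Nat.card X < Nat.card ↥((P0 ⊓ Y) ⊔ X) := by
    by_contra hcon
    push Not at hcon
    exact hWX (Subgroup.eq_of_le_of_card_ge hXW hcon).symm
  have hWYlt : Nat.card ↥((P0 ⊓ Y) ⊔ X) < Nat.card Y := by
    by_contra hcon
    push Not at hcon
    exact hWYeq (Subgroup.eq_of_le_of_card_ge hWY hcon)
  by_cases hWd : Nat.card ↥((P0 ⊓ Y) ⊔ X) ≤ p ^ d
  · exact ih (Nat.card Y - Nat.card ↥((P0 ⊓ Y) ⊔ X)) (by omega) _ Y hWIN hY hWY hWd hYd rfl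
  · exact ih (Nat.card ↥((P0 ⊓ Y) ⊔ X) - Nat.card X) (by omega) X _ hX hWIN hXW hXd
      (le_of_lt (not_le.mp hWd)) rfl

/-- **Claim 2.** Under weak embedding at order `p ^ d` and `NP` for fully normalized subgroups of
that order, all automizers of subgroups of order at least `p ^ d` are `p`-groups. -/
theorem isPGroup_autGroup_of_card_ge [Finite S] (p : ℕ) [Fact p.Prime] (hS : IsPGroup p S)
    (F : FusionSystem S) (hF : F.IsSaturated p) (d : ℕ) (hWE : WE F (p ^ d))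
    (hNP : ∀ H : Subgroup Ω, F.IsFullyNormalized H → Nat.card H = p ^ d → GlTh.NP p F H)
    (P : Subgroup Ω) (hPS : P ≤ S) (hPd : p ^ d ≤ Nat.card P) : IsPGroup p (F.autGroup P) := by
  rintro ⟨α, hα⟩
  haveI : Finite P := Fusion.finite_of_le hPS
  have h1 : Nat.card (⊥ : Subgroup Ω) ≤ p ^ d := by
    rw [Subgroup.card_bot]
    exact Nat.one_le_pow _ _ (Fact.out : p.Prime).pos
  obtain ⟨Z, hZ, hZc⟩ := exists_IN_card p hS F d hWE hPS hα _ ⊥ P (IN.bot P α) (IN.top P α)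
    bot_le h1 hPd rfl
  have hZS : Z ≤ S := hZ.1.trans hPS
  obtain ⟨Z', hfn, hc, -, himp⟩ := GlTh.exists_fullyNormalized_np p hS F hF hZS
  have hnp : GlTh.NP p F Z := himp (hNP Z' hfn (hc.trans hZc))
  have hinv : (Z.subgroupOf P).map α.toMonoidHom = Z.subgroupOf P := by
    apply Fusion.map_aut_eq_of_le
    rintro _ ⟨y, hy, rfl⟩
    rw [SetLike.mem_coe, Subgroup.mem_subgroupOf] at hy
    rw [Subgroup.mem_subgroupOf]
    exact hZ.2.2 y hy
  obtain ⟨k, hk⟩ := hnp P hZ.1 (le_inf hPS hZ.2.1) α hα hinv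
  exact ⟨k, Subtype.ext (by rw [Subgroup.coe_pow]; exact hk)⟩

end Cfsg.Agent.Helper2.WkEmb
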