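import Mathlib
import Cfsg.Agent.Helper2.WkEmbA
import Cfsg.Agent.Lead.FusionSolvable
import Cfsg.Agent.Lead.FusionHypQuot
import Cfsg.Agent.Lead.FusionFactorSys
import Cfsg.Agent.Lead.FusionMorph3
import Cfsg.Agent.Lead.FusionNilp
import Cfsg.Agent.Lead.FusionSat3

set_option autoImplicit false
set_option linter.style.haveILetI false

/-!
# Weakly embedded subgroups and nilpotency of fusion systems, part B

Transfer of the hypotheses to factor systems modulo a strongly closed subgroup, and auxiliary facts.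
-/

namespace Cfsg.Agent.Helper2.WkEmb

open Cfsg Cfsg.FusionSystem Cfsg.Agent.Lead

universe u

variable {Ω : Type u} [Group Ω] {S : Subgroup Ω} {Ω' : Type u} [Group Ω'] {S' : Subgroup Ω'}

theorem inf_sc (F : FusionSystem S) {A B : Subgroup Ω}
    (hA : F.StronglyClosed A) (hB : F.StronglyClosed B) : F.StronglyClosed (A ⊓ B) :=
  ⟨inf_le_left.trans hA.1, fun R hR φ hφ x =>
    ⟨hA.2 R (hR.trans inf_le_left) φ hφ x, hB.2 R (hR.trans inf_le_right) φ hφ x⟩⟩

/-- Automizers in the image system are `p`-groups if those of the full preimages are. -/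
theorem isPGroup_autGroup_image' [Finite S] (p : ℕ) (F : FusionSystem S) (F' : FusionSystem S')
    (θ : S →* Ω') (hθ : F.IsSurjectiveMorphism F' θ) {Q' : Subgroup Ω'} (hQ'S' : Q' ≤ S')
    (h : IsPGroup p (F.autGroup (preimageAlong θ Q'))) : IsPGroup p (F'.autGroup Q') := by
  rintro ⟨α', hα'⟩
  obtain ⟨γ, hγ, hlift⟩ := Fusion.exists_liftsAut F F' θ hθ hQ'S' α' hα'
  obtain ⟨k, hk⟩ := h ⟨γ, hγ⟩
  have hk' : γ ^ p ^ k = 1 := congrArg Subtype.val hk
  refine ⟨k, ?_⟩
  apply Subtype.ext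
  rw [Subgroup.coe_pow]
  show α' ^ p ^ k = 1
  have h3 := Fusion.liftsAut_pow θ Q' hlift (p ^ k)
  rw [hk'] at h3
  ext y
  obtain ⟨x, rfl⟩ := Fusion.toImage_surjective θ hθ.2.1 hQ'S' y
  have h4 := h3 x
  rw [← h4]
  rfl

/-- If all automizers are `p`-groups then the hyperfocal subgroup is trivial. -/
theorem hyperfocal_eq_bot_of_isPGroup (p : ℕ) [Fact p.Prime] (F : FusionSystem S)
    (h : ∀ P : Subgroup Ω, P ≤ S → IsPGroup p (F.autGroup P)) : F.hyperfocalSubgroup p = ⊥ := by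
  unfold FusionSystem.hyperfocalSubgroup
  rw [Subgroup.closure_eq_bot_iff]
  rintro y ⟨P, α, x, hPS, hα, rfl⟩
  have hres : pResidual p (F.autGroup P) = ⊥ := by
    unfold pResidual
    rw [Subgroup.closure_eq_bot_iff]
    intro g hg
    have hg' : (orderOf g).Coprime p := hg
    obtain ⟨k, hk⟩ := h P hPS g
    have h1 : orderOf g ∣ p ^ k := orderOf_dvd_of_pow_eq_one hk
    have h2 : (orderOf g).Coprime (p ^ k) := Nat.Coprime.pow_right k hg'
    have h3 : orderOf g = 1 := Nat.Coprime.eq_one_of_dvd h2 h1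
    exact orderOf_eq_one_iff.mp h3
  rw [hres, Subgroup.mem_bot] at hα
  rw [hα]
  simp

/-- The factor system modulo a strongly closed subgroup. -/
theorem exists_factor_sc [Finite S] (p : ℕ) [Fact p.Prime] (hS : IsPGroup p S)
    (F : FusionSystem S) (hF : F.IsSaturated p) {M : Subgroup Ω} (hM : F.StronglyClosed M) :
    ∃ (Ω' : Type u) (_ : Group Ω') (S' : Subgroup Ω') (_ : Finite S') (E : FusionSystem S')
      (θ : S →* Ω'), IsPGroup p S' ∧ F.IsSurjectiveMorphism E θ ∧ Fusion.kerAlong θ = M ∧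
        E.IsSaturated p ∧ Nat.card S' * Nat.card M = Nat.card S ∧ F.IsFactorSystem M θ E ∧
        θ.range = S' := by
  have hMS := hM.1
  haveI : (M.subgroupOf S).Normal :=
    Subgroup.normal_subgroupOf_of_le_normalizer (Fusion.le_normalizer_of_stronglyClosed F hM)
  set θ : S →* (↥S ⧸ M.subgroupOf S) := QuotientGroup.mk' (M.subgroupOf S) with hθdef
  have hker : ∀ s : S, θ s = 1 ↔ (s : Ω) ∈ M := by
    intro s
    rw [hθdef, QuotientGroup.mk'_apply, QuotientGroup.eq_one_iff, Subgroup.mem_subgroupOf]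
  have hr : θ.range = (⊤ : Subgroup (↥S ⧸ M.subgroupOf S)) :=
    MonoidHom.range_eq_top.mpr (QuotientGroup.mk'_surjective _)
  have hfac := Fusion.factorSystem_isFactorSystem F θ hM hker hr
  have hθ := Fusion.isSurjectiveMorphism_of_isFactorSystem p hS F hF M hM θ _ hfac
  have hsat := Fusion.isSaturated_image p hS F hF _ θ hθ
  haveI hfin : Finite ↥(⊤ : Subgroup (↥S ⧸ M.subgroupOf S)) := inferInstance
  refine ⟨↥S ⧸ M.subgroupOf S, inferInstance, ⊤, hfin, Fusion.factorSystem F θ hM hker hr, θ,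
    ?_, hθ, ?_, hsat, ?_, hfac, hr⟩
  · have h1 : IsPGroup p (↥S ⧸ M.subgroupOf S) := hS.to_quotient _
    exact h1.to_subgroup _
  · ext s
    rw [Fusion.mem_kerAlong]
    constructor
    · rintro ⟨hs, h⟩
      exact (hker _).mp h
    · intro hs
      exact ⟨hMS hs, (hker _).mpr hs⟩
  · rw [Subgroup.card_top, ← Nat.card_congr (Subgroup.subgroupOfEquivOfLe hMS).toEquiv]
    exact (Subgroup.card_eq_card_quotient_mul_card_subgroup (M.subgroupOf S)).symm

theorem imageAlong_preimageAlong (θ : S →* Ω') (hr : θ.range = S') {Q' : Subgroup Ω'}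
    (hQ' : Q' ≤ S') : imageAlong θ (preimageAlong θ Q') = Q' := by
  ext y
  rw [Fusion.mem_imageAlong]
  constructor
  · rintro ⟨x, hx, hxS, rfl⟩
    obtain ⟨_, h⟩ := (Fusion.mem_preimageAlong θ Q' x).mp hx
    exact h
  · intro hy
    have hyr : y ∈ θ.range := hr ▸ hQ' hy
    obtain ⟨s, rfl⟩ := hyr
    exact ⟨s.1, (Fusion.mem_preimageAlong θ Q' s.1).mpr ⟨s.2, hy⟩, s.2, rfl⟩

theorem imageAlong_sup (θ : S →* Ω') {A B : Subgroup Ω} (hA : A ≤ S) (hB : B ≤ S) :
    imageAlong θ (A ⊔ B) = imageAlong θ A ⊔ imageAlong θ B := by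
  unfold imageAlong
  rw [Subgroup.subgroupOf_sup hA hB, Subgroup.map_sup]

theorem imageAlong_inf_preimage (θ : S →* Ω') (Q' : Subgroup Ω') (P0 : Subgroup Ω) :
    imageAlong θ (preimageAlong θ Q' ⊓ P0) = Q' ⊓ imageAlong θ P0 := by
  ext y
  constructor
  · intro hy
    obtain ⟨x, hx, hxS, rfl⟩ := (Fusion.mem_imageAlong θ _ y).mp hy
    refine ⟨?_, (Fusion.mem_imageAlong θ P0 _).mpr ⟨x, hx.2, hxS, rfl⟩⟩
    obtain ⟨_, h⟩ := (Fusion.mem_preimageAlong θ Q' x).mp hx.1
    exact h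
  · rintro ⟨hy1, hy2⟩
    obtain ⟨x, hx, hxS, rfl⟩ := (Fusion.mem_imageAlong θ P0 y).mp hy2
    exact (Fusion.mem_imageAlong θ _ _).mpr
      ⟨x, ⟨(Fusion.mem_preimageAlong θ Q' x).mpr ⟨hxS, hy1⟩, hx⟩, hxS, rfl⟩

/-- Weak embedding passes to factor systems. -/
theorem WE_factor [Finite S] (F : FusionSystem S) {M : Subgroup Ω} (θ : S →* Ω')
    (E : FusionSystem S') (hE : F.IsFactorSystem M θ E) (hker : Fusion.kerAlong θ = M) (k : ℕ)
    (hWE : WE F (Nat.card M * k)) : WE E k := by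
  intro Q' hQ' hQ'c
  have hr : θ.range = S' := hE.2.2.1
  have hQS : preimageAlong θ Q' ≤ S := Fusion.preimageAlong_le θ Q'
  have hcard : Nat.card ↥(preimageAlong θ Q') = Nat.card M * k := by
    rw [Fusion.card_preimageAlong θ hr hQ', hker, hQ'c]
  obtain ⟨P0, hP0, hsup, hinf⟩ := hWE _ hQS hcard
  refine ⟨imageAlong θ P0, Fusion.imageAlong_stronglyClosed F θ E hE hP0, ?_, ?_⟩
  · have h1 := Fusion.imageAlong_stronglyClosed F θ E hE hsup
    rwa [imageAlong_sup θ hQS hP0.1, imageAlong_preimageAlong θ hr hQ'] at h1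
  · have h1 := Fusion.imageAlong_stronglyClosed F θ E hE hinf
    rwa [imageAlong_inf_preimage] at h1

/-- A minimal nontrivial strongly closed subgroup has order at most `p ^ d`. -/
theorem card_le_of_minimal [Finite S] (p : ℕ) [Fact p.Prime] (hS : IsPGroup p S)
    (F : FusionSystem S) (d : ℕ) (hd : 0 < d) (hWE : WE F (p ^ d)) {M : Subgroup Ω}
    (hM : F.StronglyClosed M)
    (hmin : ∀ A : Subgroup Ω, F.StronglyClosed A → A ≤ M → A = ⊥ ∨ A = M) :
    Nat.card M ≤ p ^ d := by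
  by_contra hcon
  push Not at hcon
  have h1 : Nat.card (⊥ : Subgroup Ω) ≤ p ^ d := by
    rw [Subgroup.card_bot]
    exact Nat.one_le_pow _ _ (Fact.out : p.Prime).pos
  obtain ⟨Q, -, hQM, hQc⟩ := exists_between p hS (bot_le : ⊥ ≤ M) hM.1 d h1 hcon.le
  have hQS : Q ≤ S := hQM.trans hM.1
  haveI : Finite M := Fusion.finite_of_le hM.1
  have hp1 : 1 < p := (Fact.out : p.Prime).one_lt
  -- `Q` is not strongly closed
  have hQnot : ¬ F.StronglyClosed Q := by
    intro hQ
    rcases hmin Q hQ hQM with h | h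
    · rw [h, Subgroup.card_bot] at hQc
      have : 1 < p ^ d := Nat.one_lt_pow hd.ne' hp1
      omega
    · rw [h] at hQc
      omega
  obtain ⟨P0, hP0, hsup, hinf⟩ := hWE Q hQS hQc
  rcases hmin (P0 ⊓ M) (inf_sc F hP0 hM) inf_le_right with h | h
  · apply hQnot
    have hQP0 : Q ≤ Subgroup.normalizer (P0 : Set Ω) :=
      hQS.trans (Fusion.le_normalizer_of_stronglyClosed F hP0)
    have h2 := modular hQM hQP0
    rw [h, sup_bot_eq] at h2
    rw [← h2]
    exact inf_sc F hsup hM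
  · apply hQnot
    have hMP0 : M ≤ P0 := inf_eq_right.mp h
    have h2 : Q ⊓ P0 = Q := inf_eq_left.mpr (hQM.trans hMP0)
    rwa [h2] at hinf

end Cfsg.Agent.Helper2.WkEmb
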