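import Mathlib
import Cfsg.Agent.Helper2.WkEmbB
import Cfsg.Agent.Helper6.TateF
import Cfsg.Agent.Helper1.PGroup
import Cfsg.Agent.Lead.FusionExt

set_option autoImplicit false
set_option linter.style.haveILetI false

/-!
# Weakly embedded subgroups and nilpotency of fusion systems, part C

The hyperfocal subgroup of order `p`, and the main induction.
-/

namespace Cfsg.Agent.Helper2.WkEmb

open Cfsg Cfsg.FusionSystem Cfsg.Agent.Lead

universe u

variable {Ω : Type u} [Group Ω] {S : Subgroup Ω}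

/-- a nontrivial normal subgroup of a finite `p`-group meets the centre nontrivially -/
theorem normal_inf_center_ne_bot'' {Q : Type*} [Group Q] [Finite Q] {p : ℕ} [hp : Fact p.Prime]
    (hQ : IsPGroup p Q) (M : Subgroup Q) [hM : M.Normal] (hMne : M ≠ ⊥) :
    ∃ b ∈ M, b ≠ 1 ∧ ∀ g : Q, g * b = b * g := by
  have hQ' : IsPGroup p (ConjAct Q) := hQ
  have hcard : p ∣ Nat.card M := by
    obtain ⟨k, hk⟩ := (hQ.to_subgroup M).exists_card_eq
    have hk0 : k ≠ 0 := by
      rintro rfl
      rw [pow_zero] at hk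
      exact hMne (Subgroup.card_eq_one.1 hk)
    rw [hk]
    exact dvd_pow_self p hk0
  have h1 : (1 : M) ∈ MulAction.fixedPoints (ConjAct Q) M := by
    intro g
    exact smul_one g
  obtain ⟨b, hb, hne⟩ := hQ'.exists_fixed_point_of_prime_dvd_card_of_fixed_point M hcard h1
  refine ⟨(b : Q), b.2, ?_, ?_⟩
  · intro h
    apply hne
    exact (Subtype.ext h).symm
  · intro g
    have h2 := hb (ConjAct.toConjAct g)
    have h3 := congrArg Subtype.val h2
    rw [ConjAct.Subgroup.val_conj_smul, ConjAct.smul_def, ConjAct.ofConjAct_toConjAct] at h3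
    calc g * b = g * b * g⁻¹ * g := by group
      _ = b * g := by rw [h3]

/-- A normal subgroup of order `p` of a finite `p`-group is central. -/
theorem central_of_card_prime [Finite S] (p : ℕ) [hp : Fact p.Prime] (hS : IsPGroup p S)
    {H : Subgroup Ω} (hHS : H ≤ S) (hHn : S ≤ Subgroup.normalizer (H : Set Ω))
    (hcard : Nat.card H = p) : ∀ h ∈ H, ∀ s ∈ S, s * h = h * s := by
  haveI : (H.subgroupOf S).Normal := Subgroup.normal_subgroupOf_of_le_normalizer hHn
  have hne : H.subgroupOf S ≠ ⊥ := by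
    intro h0
    have h1 : Nat.card (H.subgroupOf S) = Nat.card H :=
      Nat.card_congr (Subgroup.subgroupOfEquivOfLe hHS).toEquiv
    rw [h0, Subgroup.card_bot, hcard] at h1
    exact hp.out.one_lt.ne h1
  obtain ⟨b, hbM, hb1, hbc⟩ := normal_inf_center_ne_bot'' hS (H.subgroupOf S) hne
  have hbH : (b : Ω) ∈ H := Subgroup.mem_subgroupOf.mp hbM
  have hb1' : (⟨(b : Ω), hbH⟩ : H) ≠ 1 := by
    intro h
    apply hb1
    apply Subtype.ext
    have h' := congrArg Subtype.val h
    exact h'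
  have htop := zpowers_eq_top_of_prime_card hcard hb1'
  intro h hh s hs
  have hmem : (⟨h, hh⟩ : H) ∈ Subgroup.zpowers (⟨(b : Ω), hbH⟩ : H) := by
    rw [htop]
    exact Subgroup.mem_top _
  obtain ⟨k, hk⟩ := Subgroup.mem_zpowers_iff.mp hmem
  have hk' : (b : Ω) ^ k = h := by
    have := congrArg Subtype.val hk
    simpa using this
  have hcomm : Commute s (b : Ω) := by
    have := hbc ⟨s, hs⟩
    exact congrArg Subtype.val this
  rw [← hk']
  exact (hcomm.zpow_right k).eq

/-- If the hyperfocal subgroup has order `p` and `Aut_F(S)` is a `p`-group, all automizers are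
`p`-groups. -/
theorem isPGroup_autGroup_of_hyperfocal_card_prime [Finite S] (p : ℕ) [hp : Fact p.Prime]
    (hS : IsPGroup p S) (F : FusionSystem S) (hF : F.IsSaturated p)
    (hcard : Nat.card (F.hyperfocalSubgroup p) = p)
    (hA : ∀ P : Subgroup Ω, P ≤ S → Nat.card S ≤ Nat.card P → IsPGroup p (F.autGroup P))
    (P : Subgroup Ω) (hPS : P ≤ S) : IsPGroup p (F.autGroup P) := by
  have hHsc : F.StronglyClosed (F.hyperfocalSubgroup p) := Fusion.hyperfocal_stronglyClosed p hS F hF
  have hHS := hHsc.1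
  have hHn := Fusion.le_normalizer_of_stronglyClosed F hHsc
  have hcen := central_of_card_prime p hS hHS hHn hcard
  haveI : Finite P := Fusion.finite_of_le hPS
  haveI : Finite (MulAut P) :=
    Finite.of_injective (fun (α : MulAut P) => (α : P → P)) (fun a b hab => MulEquiv.ext (congrFun hab))
  apply isPGroup_of_coprime_eq_one p
  intro β hβ
  have hres : β ∈ pResidual p (F.autGroup P) := mem_pResidual_of_coprime' hβ
  have hcomm : ∀ x : P, (x : Ω)⁻¹ * (((β : MulAut P) x : P) : Ω) ∈ F.hyperfocalSubgroup p :=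
    fun x => Fusion.mem_hyperfocal F p hPS β hres x
  obtain ⟨b, hbmem⟩ := β
  have hRP : F.hyperfocalSubgroup p ⊓ P ≤ P := inf_le_right
  have hRS : F.hyperfocalSubgroup p ⊓ P ≤ S := hRP.trans hPS
  have hRinv : ∀ x : P, (x : Ω) ∈ F.hyperfocalSubgroup p ⊓ P →
      ((b x : P) : Ω) ∈ F.hyperfocalSubgroup p ⊓ P := fun x hx =>
    ⟨Fusion.aut_mem_of_stronglyClosed F hPS hHsc b hbmem x hx.1, (b x).2⟩
  have hbo : b ^ orderOf (⟨b, hbmem⟩ : F.autGroup P) = 1 := by
    have h1 := pow_orderOf_eq_one (⟨b, hbmem⟩ : F.autGroup P)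
    have h2 := congrArg Subtype.val h1
    rwa [Subgroup.coe_pow] at h2
  -- Step 1: `b` fixes `H ⊓ P` pointwise
  have hfix : ∀ x : P, (x : Ω) ∈ F.hyperfocalSubgroup p ⊓ P → b x = x := by
    have hφ := (Fusion.mem_autGroup_iff F hPS b).mp hbmem
    have hχ := Fusion.restrict_mem F hφ hRP
    haveI : Finite ↥(F.hyperfocalSubgroup p ⊓ P) := Fusion.finite_of_le hRS
    have hr : ((P.subtype.comp b.toMonoidHom).comp (Subgroup.inclusion hRP)).range =
        F.hyperfocalSubgroup p ⊓ P := by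
      apply Subgroup.eq_of_le_of_card_ge
      · rintro _ ⟨x, rfl⟩
        exact hRinv _ x.2
      · rw [Nat.card_congr (MonoidHom.ofInjective (F.injective_of_mem hχ)).toEquiv]
    obtain ⟨a, ha, hax⟩ := Fusion.exists_aut_of_range_eq F hχ hr
    have hab : ∀ x : ↥(F.hyperfocalSubgroup p ⊓ P),
        ((b (Subgroup.inclusion hRP x) : P) : Ω) = ((a x : ↥(F.hyperfocalSubgroup p ⊓ P)) : Ω) :=
      fun x => (hax x).symm
    have hRcen : ∀ r ∈ F.hyperfocalSubgroup p ⊓ P, ∀ s ∈ S, s * r = r * s :=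
      fun r hr s hs => hcen r hr.1 s hs
    have hSN : S ≤ Subgroup.normalizer ((F.hyperfocalSubgroup p ⊓ P : Subgroup Ω) : Set Ω) := by
      intro s hs
      rw [Subgroup.mem_normalizer_iff]
      intro y
      constructor
      · intro hy
        have : s * y * s⁻¹ = y := by rw [hRcen y hy s hs]; group
        rw [this]
        exact hy
      · intro hy
        have h1 := hRcen _ hy s⁻¹ (S.inv_mem hs)
        have h2 : s⁻¹ * (s * y * s⁻¹) = y * s⁻¹ := by group
        rw [h2] at h1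
        have : y = s * y * s⁻¹ := mul_right_cancel h1
        rw [this]
        exact hy
    have hNeq : normalizerIn S (F.hyperfocalSubgroup p ⊓ P) = S :=
      le_antisymm inf_le_left (le_inf le_rfl hSN)
    have hfn : F.IsFullyNormalized (F.hyperfocalSubgroup p ⊓ P) :=
      ⟨hRS, fun Q _ => by rw [hNeq]; exact Subgroup.card_le_of_le inf_le_left⟩
    have hrec := Fusion.receptive_of_fullyCentralized p hS F hF
      (Fusion.fullyCentralized_fullyAutomized_of_fullyNormalized p hS F hF hfn).1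
    have hind : autInducedBy S (F.hyperfocalSubgroup p ⊓ P) = ⊥ := by
      rw [eq_bot_iff]
      intro u hu
      rw [mem_autInducedBy_iff] at hu
      obtain ⟨g, hg, hgx⟩ := hu
      rw [Subgroup.mem_bot]
      ext x
      rw [hgx x, hRcen x x.2 g hg]
      simp
    obtain ⟨γ, hγ, hγx⟩ := Fusion.exists_aut_normalizerIn_extension F hrec a ha (by
      intro u hu
      rw [hind, Subgroup.mem_bot] at hu
      rw [hu]
      simp)
    have hNS : normalizerIn S (F.hyperfocalSubgroup p ⊓ P) ≤ S := inf_le_left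
    have hNc : Nat.card S ≤ Nat.card ↥(normalizerIn S (F.hyperfocalSubgroup p ⊓ P)) := by
      rw [hNeq]
    obtain ⟨k, hk⟩ := hA _ hNS hNc ⟨γ, hγ⟩
    have hk' : γ ^ p ^ k = 1 := by
      have h2 := congrArg Subtype.val hk
      rwa [Subgroup.coe_pow] at h2
    have hak : a ^ p ^ k = 1 :=
      GlTh.pow_eq_one_of_restrict (Fusion.le_normalizerIn hRS) a γ (fun x => hγx x) hk'
    have hao : a ^ orderOf (⟨b, hbmem⟩ : F.autGroup P) = 1 :=
      GlTh.pow_eq_one_of_restrict hRP a b hab hbo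
    have ha1 : a = 1 := by
      have h1 : orderOf a ∣ p ^ k := orderOf_dvd_of_pow_eq_one hak
      have h2 : orderOf a ∣ orderOf (⟨b, hbmem⟩ : F.autGroup P) := orderOf_dvd_of_pow_eq_one hao
      have h3 : (orderOf (⟨b, hbmem⟩ : F.autGroup P)).Coprime (p ^ k) := Nat.Coprime.pow_right k hβ
      exact orderOf_eq_one_iff.mp (Nat.eq_one_of_dvd_coprimes h3 h2 h1)
    intro x hx
    apply Subtype.ext
    have h1 := hab ⟨x, hx⟩
    rw [ha1] at h1
    exact h1
  -- Step 2: powers of `b`
  have hpow : ∀ (x : P) (j : ℕ), (((b ^ j) x : P) : Ω) =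
      (x : Ω) * ((x : Ω)⁻¹ * ((b x : P) : Ω)) ^ j := by
    intro x j
    induction j with
    | zero => simp
    | succ j ih =>
      have hhP : (x : Ω)⁻¹ * ((b x : P) : Ω) ∈ P := P.mul_mem (P.inv_mem x.2) (b x).2
      have hhR : (x : Ω)⁻¹ * ((b x : P) : Ω) ∈ F.hyperfocalSubgroup p ⊓ P := ⟨hcomm x, hhP⟩
      have e1 : (b ^ j) x = x * (⟨(x : Ω)⁻¹ * ((b x : P) : Ω), hhP⟩ : P) ^ j :=
        Subtype.ext (by rw [ih, Subgroup.coe_mul, Subgroup.coe_pow])
      have e2 : b (⟨(x : Ω)⁻¹ * ((b x : P) : Ω), hhP⟩ : P) = ⟨(x : Ω)⁻¹ * ((b x : P) : Ω), hhP⟩ :=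
        hfix ⟨_, hhP⟩ hhR
      rw [pow_succ', MulAut.mul_apply, e1, map_mul, map_pow, e2, Subgroup.coe_mul,
        Subgroup.coe_pow]
      show ((b x : P) : Ω) * ((x : Ω)⁻¹ * ((b x : P) : Ω)) ^ j =
        (x : Ω) * ((x : Ω)⁻¹ * ((b x : P) : Ω)) ^ (j + 1)
      rw [pow_succ', ← mul_assoc, mul_inv_cancel_left]
  have hbp : b ^ p = 1 := by
    ext x
    rw [hpow x p]
    have h1 : (⟨(x : Ω)⁻¹ * ((b x : P) : Ω), hcomm x⟩ : F.hyperfocalSubgroup p) ^ p = 1 := by
      have := pow_card_eq_one' (G := ↥(F.hyperfocalSubgroup p))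
        (x := ⟨(x : Ω)⁻¹ * ((b x : P) : Ω), hcomm x⟩)
      rwa [hcard] at this
    have h2 := congrArg Subtype.val h1
    rw [Subgroup.coe_pow] at h2
    rw [show ((x : Ω)⁻¹ * ((b x : P) : Ω)) ^ p = 1 from h2]
    simp
  have hβp : (⟨b, hbmem⟩ : F.autGroup P) ^ p = 1 := by
    apply Subtype.ext
    rw [Subgroup.coe_pow]
    exact hbp
  have h1 : orderOf (⟨b, hbmem⟩ : F.autGroup P) ∣ p := orderOf_dvd_of_pow_eq_one hβp
  exact orderOf_eq_one_iff.mp (Nat.Coprime.eq_one_of_dvd hβ h1)

/-- The statement proved by induction on `n`: over a group of order `p ^ n`, if automizers of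
subgroups of order at least `p ^ d` are `p`-groups and subgroups of order `p ^ d` are weakly
embedded (`0 < d < n`), the hyperfocal subgroup is trivial. -/
def Stmt (p n : ℕ) : Prop :=
  ∀ (Ω : Type u) [Group Ω] (S : Subgroup Ω) [Finite S], IsPGroup p S →
    ∀ F : FusionSystem S, F.IsSaturated p → ∀ d : ℕ, 0 < d → d < n → Nat.card S = p ^ n →
      (∀ P : Subgroup Ω, P ≤ S → p ^ d ≤ Nat.card P → IsPGroup p (F.autGroup P)) →
      WE F (p ^ d) → F.hyperfocalSubgroup p = ⊥

/-- The hyperfocal subgroup lies in every minimal nontrivial strongly closed subgroup. -/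
theorem hyperfocal_le_of_minimal (p : ℕ) [hp : Fact p.Prime] (n : ℕ)
    (IH : ∀ n' < n, Stmt.{u} p n')
    [Finite S] (hS : IsPGroup p S) (F : FusionSystem S) (hF : F.IsSaturated p) (d : ℕ)
    (hd : 0 < d) (hdn : d < n) (hcard : Nat.card S = p ^ n)
    (hA : ∀ P : Subgroup Ω, P ≤ S → p ^ d ≤ Nat.card P → IsPGroup p (F.autGroup P))
    (hWE : WE F (p ^ d)) {M : Subgroup Ω} (hM : F.StronglyClosed M) (hM0 : M ≠ ⊥)
    (hmin : ∀ A : Subgroup Ω, F.StronglyClosed A → A ≤ M → A = ⊥ ∨ A = M) :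
    F.hyperfocalSubgroup p ≤ M := by
  have hMd := card_le_of_minimal p hS F d hd hWE hM hmin
  haveI : Finite M := Fusion.finite_of_le hM.1
  obtain ⟨m, hm⟩ := IsPGroup.iff_card.mp (hS.to_le hM.1)
  have hp1 : 1 < p := hp.out.one_lt
  have hm0 : 0 < m := by
    rcases Nat.eq_zero_or_pos m with h | h
    · exfalso
      rw [h, pow_zero] at hm
      exact hM0 (Subgroup.card_eq_one.mp hm)
    · exact h
  have hmd : m ≤ d := by
    rw [hm] at hMd
    exact (Nat.pow_le_pow_iff_right hp1).mp hMd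
  obtain ⟨Ω', _, S', _, E, θ, hS', hθ, hker, hEsat, hcardS', hfac, hr⟩ :=
    exists_factor_sc p hS F hF hM
  have hcS' : Nat.card S' = p ^ (n - m) := by
    rw [hm, hcard] at hcardS'
    have h1 : p ^ n = p ^ (n - m) * p ^ m := by
      rw [← pow_add]
      congr 1
      omega
    rw [h1] at hcardS'
    exact Nat.eq_of_mul_eq_mul_right (pow_pos (by omega) m) hcardS'
  have hA' : ∀ P' : Subgroup Ω', P' ≤ S' → p ^ (d - m) ≤ Nat.card P' →
      IsPGroup p (E.autGroup P') := by
    intro P' hP' hc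
    apply isPGroup_autGroup_image' p F E θ hθ hP'
    apply hA _ (Fusion.preimageAlong_le θ P')
    rw [Fusion.card_preimageAlong θ hr hP', hker, hm]
    calc p ^ d = p ^ m * p ^ (d - m) := by
          rw [← pow_add]
          congr 1
          omega
      _ ≤ p ^ m * Nat.card P' := Nat.mul_le_mul_left _ hc
  have hE0 : E.hyperfocalSubgroup p = ⊥ := by
    rcases Nat.lt_or_ge m d with hlt | hge
    · have hWE' : WE E (p ^ (d - m)) := by
        apply WE_factor F θ E hfac hker
        rw [hm, ← pow_add]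
        have h2 : m + (d - m) = d := by omega
        rw [h2]
        exact hWE
      exact IH (n - m) (by omega) Ω' S' hS' E hEsat (d - m) (by omega) (by omega) hcS' hA' hWE'
    · have hdm : d - m = 0 := by omega
      apply hyperfocal_eq_bot_of_isPGroup p E
      intro P' hP'
      apply hA' P' hP'
      rw [hdm, pow_zero]
      haveI : Finite P' := Fusion.finite_of_le hP'
      exact Nat.one_le_iff_ne_zero.mpr Nat.card_pos.ne'
  have hfact := Fusion.hyperfocal_factor p hS F hF M hM θ E hfac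
  rw [hE0] at hfact
  intro y hy
  have hyS : y ∈ S := Fusion.hyperfocal_le F p hy
  have h1 : θ ⟨y, hyS⟩ ∈ Subgroup.map θ ((F.hyperfocalSubgroup p).subgroupOf S) :=
    ⟨⟨y, hyS⟩, Subgroup.mem_subgroupOf.mpr hy, rfl⟩
  rw [← hfact, Subgroup.mem_bot] at h1
  rw [← hker, Fusion.mem_kerAlong]
  exact ⟨hyS, h1⟩

/-- Two subgroups meeting trivially have product of cardinalities at most that of the group. -/
theorem card_mul_le_of_inf_eq_bot [Finite S] {A B : Subgroup Ω} (hA : A ≤ S) (hB : B ≤ S)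
    (h : A ⊓ B = ⊥) : Nat.card A * Nat.card B ≤ Nat.card S := by
  rw [← Nat.card_prod]
  apply Nat.card_le_card_of_injective
    (fun x : A × B => (⟨(x.1 : Ω) * (x.2 : Ω), S.mul_mem (hA x.1.2) (hB x.2.2)⟩ : S))
  rintro ⟨a, b⟩ ⟨a', b'⟩ hab
  have h1 : (a : Ω) * (b : Ω) = (a' : Ω) * (b' : Ω) := congrArg Subtype.val hab
  have h2 : (a' : Ω)⁻¹ * (a : Ω) = (b' : Ω) * (b : Ω)⁻¹ := by
    rw [inv_mul_eq_iff_eq_mul, ← mul_assoc, ← h1]
    group
  have h3 : (a' : Ω)⁻¹ * (a : Ω) ∈ A ⊓ B :=
    ⟨A.mul_mem (A.inv_mem a'.2) a.2, h2 ▸ B.mul_mem b'.2 (B.inv_mem b.2)⟩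
  rw [h, Subgroup.mem_bot] at h3
  have h4 : (a : Ω) = (a' : Ω) := by
    have := inv_mul_eq_one.mp h3
    exact this.symm
  have h5 : (b : Ω) = (b' : Ω) := by
    rw [h4] at h1
    exact mul_left_cancel h1
  exact Prod.ext (Subtype.ext h4) (Subtype.ext h5)

/-- **Main induction.** -/
theorem stmt_all (p : ℕ) [hp : Fact p.Prime] : ∀ n : ℕ, Stmt.{u} p n := by
  intro n
  induction n using Nat.strong_induction_on with
  | _ n IH =>
  intro Ω _ S _ hS F hF d hd hdn hcard hA hWE
  by_contra hH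
  have hp1 : 1 < p := hp.out.one_lt
  have hHsc : F.StronglyClosed (F.hyperfocalSubgroup p) :=
    Fusion.hyperfocal_stronglyClosed p hS F hF
  have hHS := hHsc.1
  -- every nontrivial strongly closed subgroup contains the hyperfocal subgroup
  have hK : ∀ (c : ℕ) (B : Subgroup Ω), F.StronglyClosed B → B ≠ ⊥ → Nat.card B = c →
      F.hyperfocalSubgroup p ≤ B := by
    intro c
    induction c using Nat.strong_induction_on with
    | _ c ihc =>
    intro B hB hB0 hBc
    by_cases hmin : ∀ A : Subgroup Ω, F.StronglyClosed A → A ≤ B → A = ⊥ ∨ A = B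
    · exact hyperfocal_le_of_minimal p n IH hS F hF d hd hdn hcard hA hWE hB hB0 hmin
    · push Not at hmin
      obtain ⟨A, hA1, hAB, hA0, hAne⟩ := hmin
      haveI : Finite B := Fusion.finite_of_le hB.1
      have hlt : Nat.card A < c := by
        rw [← hBc]
        by_contra hcon
        push Not at hcon
        exact hAne (Subgroup.eq_of_le_of_card_ge hAB hcon)
      exact (ihc _ hlt A hA1 hA0 rfl).trans hAB
  have hHmin : ∀ A : Subgroup Ω, F.StronglyClosed A → A ≤ F.hyperfocalSubgroup p →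
      A = ⊥ ∨ A = F.hyperfocalSubgroup p := by
    intro A hA1 hAH
    by_cases hA0 : A = ⊥
    · exact Or.inl hA0
    · exact Or.inr (le_antisymm hAH (hK _ A hA1 hA0 rfl))
  have hHd := card_le_of_minimal p hS F d hd hWE hHsc hHmin
  haveI : Finite ↥(F.hyperfocalSubgroup p) := Fusion.finite_of_le hHS
  obtain ⟨m, hm⟩ := IsPGroup.iff_card.mp (hS.to_le hHS)
  have hmd : m ≤ d := by
    rw [hm] at hHd
    exact (Nat.pow_le_pow_iff_right hp1).mp hHd
  have hm0 : 0 < m := by
    rcases Nat.eq_zero_or_pos m with h | h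
    · exfalso
      rw [h, pow_zero] at hm
      exact hH (Subgroup.card_eq_one.mp hm)
    · exact h
  -- the case `m = 1`
  by_cases hm1 : m = 1
  · rw [hm1, pow_one] at hm
    apply hH
    apply hyperfocal_eq_bot_of_isPGroup p F
    intro P hP
    apply isPGroup_autGroup_of_hyperfocal_card_prime p hS F hF hm _ P hP
    intro P' hP' hc
    apply hA P' hP'
    calc p ^ d ≤ p ^ n := Nat.pow_le_pow_right hp.out.pos hdn.le
      _ = Nat.card S := hcard.symm
      _ ≤ Nat.card P' := hc
  have hm2 : 2 ≤ m := by omega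
  -- Tate: the hyperfocal subgroup is not inside the Frattini subgroup
  have hnotΦ : ¬ ((F.hyperfocalSubgroup p).subgroupOf S ≤ frattini S) := by
    intro hle
    apply hH
    have h1 := Cfsg.Agent.Helper6.Tate.hyperfocal_le_of_le_sup_frattini p hS F hF ⊥ bot_le
      (by rw [bot_sup_eq]; exact hle)
    rw [eq_bot_iff]
    intro y hy
    have hyS := hHS hy
    have h2 := h1 (Subgroup.mem_subgroupOf.mpr (show ((⟨y, hyS⟩ : S) : Ω) ∈ _ from hy))
    rw [Subgroup.mem_bot] at h2
    rw [Subgroup.mem_bot]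
    exact congrArg Subtype.val h2
  obtain ⟨X, hX, hHX⟩ : ∃ X : Subgroup S, IsCoatom X ∧
      ¬ (F.hyperfocalSubgroup p).subgroupOf S ≤ X := by
    by_contra hcon
    push Not at hcon
    apply hnotΦ
    unfold frattini Order.radical
    exact le_iInf₂ (fun X hX => hcon X hX)
  have hXi := Cfsg.Agent.Helper1.IsPGroup.coatom_index hS hX
  have hXc : Nat.card X * p = p ^ n := by
    have h1 := Subgroup.card_mul_index X
    rw [hXi, hcard] at h1
    exact h1
  have hn0 : 0 < n := by omega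
  have hXc' : Nat.card X = p ^ (n - 1) := by
    have h1 : p ^ n = p ^ (n - 1) * p := by
      rw [← pow_succ]
      congr 1
      omega
    rw [h1] at hXc
    exact Nat.eq_of_mul_eq_mul_right hp.out.pos hXc
  have hX'S : X.map S.subtype ≤ S := by
    rintro _ ⟨y, -, rfl⟩
    exact y.2
  have hX'c : Nat.card ↥(X.map S.subtype) = p ^ (n - 1) := by
    rw [Subgroup.card_map_of_injective S.subtype_injective]
    exact hXc'
  have hHX' : ¬ F.hyperfocalSubgroup p ≤ X.map S.subtype := by
    intro hle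
    apply hHX
    intro y hy
    obtain ⟨z, hz, hzy⟩ := hle (Subgroup.mem_subgroupOf.mp hy)
    have : z = y := Subtype.ext hzy
    rw [← this]
    exact hz
  -- the intersection is nontrivial
  have hK0 : X.map S.subtype ⊓ F.hyperfocalSubgroup p ≠ ⊥ := by
    intro h0
    have h1 := card_mul_le_of_inf_eq_bot hX'S hHS h0
    rw [hX'c, hm, hcard, ← pow_add] at h1
    have h2 := (Nat.pow_le_pow_iff_right hp1).mp h1
    omega
  have hK0c : Nat.card ↥(X.map S.subtype ⊓ F.hyperfocalSubgroup p) ≤ p ^ d := by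
    calc Nat.card ↥(X.map S.subtype ⊓ F.hyperfocalSubgroup p)
        ≤ Nat.card ↥(F.hyperfocalSubgroup p) := Subgroup.card_le_of_le inf_le_right
      _ ≤ p ^ d := hHd
  have hX'd : p ^ d ≤ Nat.card ↥(X.map S.subtype) := by
    rw [hX'c]
    exact Nat.pow_le_pow_right hp.out.pos (by omega)
  obtain ⟨Q, hK0Q, hQX, hQc⟩ := exists_between p hS
    (inf_le_left : X.map S.subtype ⊓ F.hyperfocalSubgroup p ≤ X.map S.subtype) hX'S d hK0c hX'd
  have hQS : Q ≤ S := hQX.trans hX'S
  have hQ0 : Q ≠ ⊥ := by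
    intro h0
    rw [h0, le_bot_iff] at hK0Q
    exact hK0 hK0Q
  obtain ⟨P0, hP0, hsup, hinf⟩ := hWE Q hQS hQc
  by_cases hP00 : P0 = ⊥
  · rw [hP00, sup_bot_eq] at hsup
    exact hHX' ((hK _ Q hsup hQ0 rfl).trans hQX)
  · have hHP0 := hK _ P0 hP0 hP00 rfl
    have hne : Q ⊓ P0 ≠ ⊥ := by
      intro h0
      apply hK0
      rw [eq_bot_iff, ← h0]
      exact le_inf hK0Q (inf_le_right.trans hHP0)
    exact hHX' (((hK _ _ hinf hne rfl).trans inf_le_left).trans hQX)

end Cfsg.Agent.Helper2.WkEmb
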