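import Mathlib
import Cfsg.Agent.Helper2.WkEmbC
import Cfsg.Agent.Helper6.TateH
import Cfsg.Agent.S5096

set_option autoImplicit false
set_option linter.style.haveILetI false

/-!
# Weakly embedded subgroups and nilpotency of fusion systems, part D

The two directions of the nilpotency criterion.
-/

namespace Cfsg.Agent.Helper2.WkEmb

open Cfsg Cfsg.FusionSystem Cfsg.Agent.Lead

universe u

variable {Ω : Type u} [Group Ω] {S : Subgroup Ω}

/-- In the inner system every subgroup normal in `S` is strongly closed. -/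
theorem stronglyClosed_of_inner (F : FusionSystem S)
    (h : ∀ P : Subgroup Ω, F.Hom P = (innerFusionSystem S).Hom P) {Q : Subgroup Ω} (hQS : Q ≤ S)
    (hQn : S ≤ Subgroup.normalizer (Q : Set Ω)) : F.StronglyClosed Q := by
  refine ⟨hQS, fun R hR φ hφ x => ?_⟩
  rw [h R] at hφ
  obtain ⟨-, g, hg, hφg⟩ := hφ
  rw [hφg]
  exact (Subgroup.mem_normalizer_iff.mp (hQn hg) x).mp (hR x.2)

/-- The normalizer systems of the inner system are inner. -/
theorem normalizer_inner_of_inner' [Finite S] (p : ℕ) [Fact p.Prime]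
    (hS : IsPGroup p S) (F : FusionSystem S) (hF : F.IsSaturated p)
    (h : ∀ P : Subgroup Ω, F.Hom P = (innerFusionSystem S).Hom P) (H : Subgroup Ω)
    (hH : F.IsFullyNormalized H) :
    ∀ N : FusionSystem (normalizerIn S H), F.IsNormalizerSystem H N →
      ∀ P : Subgroup Ω, N.Hom P = (innerFusionSystem (normalizerIn S H)).Hom P := by
  intro N hN
  have hRS : normalizerIn S H ≤ S := inf_le_left
  haveI : Finite ↥(normalizerIn S H) := Fusion.finite_of_le hRS
  have hRp : IsPGroup p ↥(normalizerIn S H) := hS.to_le hRS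
  have hNsat := Fusion.normalizerSystem_isSaturated p hS F hF H hH N hN
  have h1 : GlTh.Inner p F := (GlTh.inner_iff_hom p hS F hF).mpr h
  have h2 : GlTh.NP p F H := GlTh.np_of_inner h1 H
  have h3 : GlTh.Inner p N := (GlTh.np_iff_normalizer_inner F hH.1 N hN).mp h2
  exact (GlTh.inner_iff_hom p hRp N hNsat).mp h3

theorem forward [Finite S] (p : ℕ) [hp : Fact p.Prime] (hS : IsPGroup p S)
    (F : FusionSystem S) (hF : F.IsSaturated p) (hcard : p ^ 2 ≤ Nat.card S)
    (h : ∀ P : Subgroup Ω, F.Hom P = (innerFusionSystem S).Hom P) :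
    ∃ D : Subgroup Ω, ⊥ < D ∧ D < S ∧
      (∀ Q : Subgroup Ω, Q ≤ S → Nat.card ↥Q = Nat.card ↥D →
        ∃ P : Subgroup Ω, F.StronglyClosed P ∧ F.StronglyClosed (Q ⊔ P) ∧
          F.StronglyClosed (Q ⊓ P)) ∧
      (∀ H : Subgroup Ω, F.IsFullyNormalized H → Nat.card ↥H = Nat.card ↥D →
        ∀ N : FusionSystem (normalizerIn S H), F.IsNormalizerSystem H N →
          ∀ P : Subgroup Ω, N.Hom P = (innerFusionSystem (normalizerIn S H)).Hom P) := by
  have hp1 : 1 < p := hp.out.one_lt
  obtain ⟨n, hn⟩ := IsPGroup.iff_card.mp hS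
  have hn2 : 2 ≤ n := by
    rw [hn] at hcard
    exact (Nat.pow_le_pow_iff_right hp1).mp hcard
  have hdvd : p ^ (n - 1) ∣ Nat.card S := by
    rw [hn]
    exact pow_dvd_pow p (by omega)
  obtain ⟨K, hK⟩ := Sylow.exists_subgroup_card_pow_prime p hdvd
  have hDS : K.map S.subtype ≤ S := by
    rintro _ ⟨y, -, rfl⟩
    exact y.2
  have hDc : Nat.card ↥(K.map S.subtype) = p ^ (n - 1) := by
    rw [Subgroup.card_map_of_injective S.subtype_injective]
    exact hK
  refine ⟨K.map S.subtype, ?_, ?_, ?_, ?_⟩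
  · rw [bot_lt_iff_ne_bot]
    intro h0
    rw [h0, Subgroup.card_bot] at hDc
    have : 1 < p ^ (n - 1) := Nat.one_lt_pow (by omega) hp1
    omega
  · refine lt_of_le_of_ne hDS ?_
    intro h0
    rw [h0, hn] at hDc
    have := Nat.pow_right_injective hp1 hDc
    omega
  · intro Q hQS hQc
    rw [hDc] at hQc
    have hQn : S ≤ Subgroup.normalizer (Q : Set Ω) := by
      rw [← Subgroup.normal_subgroupOf_iff_le_normalizer hQS]
      apply Cfsg.Agent.Helper1.IsPGroup.coatom_normal hS
      apply Cfsg.Agent.Helper1.isCoatom_of_index_prime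
      have h1 : Nat.card (Q.subgroupOf S) = p ^ (n - 1) := by
        rw [Nat.card_congr (Subgroup.subgroupOfEquivOfLe hQS).toEquiv]
        exact hQc
      have h2 := Subgroup.card_mul_index (Q.subgroupOf S)
      rw [h1, hn] at h2
      have h3 : p ^ n = p ^ (n - 1) * p := by
        rw [← pow_succ]
        congr 1
        omega
      rw [h3] at h2
      have h4 : (Q.subgroupOf S).index = p :=
        Nat.eq_of_mul_eq_mul_left (pow_pos hp.out.pos _) h2
      rw [h4]
      exact hp.out
    refine ⟨⊥, Fusion.bot_stronglyClosed F, ?_, ?_⟩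
    · rw [sup_bot_eq]
      exact stronglyClosed_of_inner F h hQS hQn
    · rw [inf_bot_eq]
      exact Fusion.bot_stronglyClosed F
  · intro H hH _
    exact normalizer_inner_of_inner' p hS F hF h H hH

theorem backward [Finite S] (p : ℕ) [hp : Fact p.Prime] (hS : IsPGroup p S)
    (F : FusionSystem S) (hF : F.IsSaturated p) (D : Subgroup Ω) (hD0 : ⊥ < D) (hDS : D < S)
    (hW : ∀ Q : Subgroup Ω, Q ≤ S → Nat.card ↥Q = Nat.card ↥D →
        ∃ P : Subgroup Ω, F.StronglyClosed P ∧ F.StronglyClosed (Q ⊔ P) ∧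
          F.StronglyClosed (Q ⊓ P))
    (hN : ∀ H : Subgroup Ω, F.IsFullyNormalized H → Nat.card ↥H = Nat.card ↥D →
        ∀ N : FusionSystem (normalizerIn S H), F.IsNormalizerSystem H N →
          ∀ P : Subgroup Ω, N.Hom P = (innerFusionSystem (normalizerIn S H)).Hom P) :
    ∀ P : Subgroup Ω, F.Hom P = (innerFusionSystem S).Hom P := by
  have hp1 : 1 < p := hp.out.one_lt
  obtain ⟨n, hn⟩ := IsPGroup.iff_card.mp hS
  haveI : Finite D := Fusion.finite_of_le hDS.le
  obtain ⟨d, hd⟩ := IsPGroup.iff_card.mp (hS.to_le hDS.le)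
  have hd0 : 0 < d := by
    rcases Nat.eq_zero_or_pos d with h | h
    · exfalso
      rw [h, pow_zero] at hd
      exact (bot_lt_iff_ne_bot.mp hD0) (Subgroup.card_eq_one.mp hd)
    · exact h
  have hdn : d < n := by
    by_contra hcon
    push Not at hcon
    have h1 : Nat.card S ≤ Nat.card D := by
      rw [hn, hd]
      exact Nat.pow_le_pow_right hp.out.pos hcon
    exact hDS.ne (Subgroup.eq_of_le_of_card_ge hDS.le h1)
  have hWE : WE F (p ^ d) := fun Q hQ hc => hW Q hQ (hc.trans hd.symm)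
  have hNP : ∀ H : Subgroup Ω, F.IsFullyNormalized H → Nat.card H = p ^ d → GlTh.NP p F H := by
    intro H hH hHc
    obtain ⟨N, hNsys⟩ := Cfsg.Agent.S5096.result F H hH.1
    have h1 := hN H hH (hHc.trans hd.symm) N hNsys
    have hRS : normalizerIn S H ≤ S := inf_le_left
    haveI : Finite ↥(normalizerIn S H) := Fusion.finite_of_le hRS
    have hRp : IsPGroup p ↥(normalizerIn S H) := hS.to_le hRS
    have hNsat := Fusion.normalizerSystem_isSaturated p hS F hF H hH N hNsys
    have h2 : GlTh.Inner p N := (GlTh.inner_iff_hom p hRp N hNsat).mpr h1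
    exact (GlTh.np_iff_normalizer_inner F hH.1 N hNsys).mpr h2
  have hA := isPGroup_autGroup_of_card_ge p hS F hF d hWE hNP
  have h0 := stmt_all.{u} p n Ω S hS F hF d hd0 hdn hn hA hWE
  have h1 := Cfsg.Agent.Helper6.Tate.eq_inner_of_hyperfocal_eq_bot p hS F hF h0
  intro P
  rw [h1]

end Cfsg.Agent.Helper2.WkEmb
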