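import Mathlib

/-!
# S4414, piece A: extension of scalars of an `F_2`-representation to a finite field `K`

For `ρ : Representation (ZMod 2) S E` (`E` finite) and a finite field `K` of characteristic `2`
there is a `K`-representation `σ` on a finite `K`-space `W` such that, for every subset `T` of `S`,
`#C_W(T) = (#C_E(T)) ^ [K : F_2]`, and invariance of `C_E(T)` under `y` passes to `C_W(T)`.
(Model: `W = K ⊗ E`; coordinates with respect to an `F_2`-basis of `K`.)
(piece written by helper8)
-/

set_option autoImplicit false

namespace Cfsg.Agent.Helper2.Wt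

open scoped TensorProduct

universe u v w

section general

variable {k K G E : Type*} [Field k] [Field K] [Algebra k K] [Group G]
  [AddCommGroup E] [Module k E]

/-- Extension of scalars of a representation. -/
@[reducible] def h8_baseChangeRep (K : Type*) [Field K] [Algebra k K]
    (ρ : Representation k G E) : Representation K G (K ⊗[k] E) where
  toFun g := (ρ g).baseChange K
  map_one' := by rw [map_one]; exact LinearMap.baseChange_one _ _
  map_mul' g h := by rw [map_mul]; exact LinearMap.baseChange_mul _ _

theorem h8_baseChangeRep_apply (ρ : Representation k G E) (g : G) (w : K ⊗[k] E) :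
    h8_baseChangeRep K ρ g w = (ρ g).baseChange K w := rfl

theorem h8_baseChangeRep_tmul (ρ : Representation k G E) (g : G) (a : K) (v : E) :
    h8_baseChangeRep K ρ g (a ⊗ₜ[k] v) = a ⊗ₜ[k] ρ g v := by
  rw [h8_baseChangeRep_apply, LinearMap.baseChange_tmul]

/-- Coordinates with respect to a `k`-basis of `K`. -/
noncomputable def h8_coord {ι : Type*} [DecidableEq ι] (b : Module.Basis ι k K) :
    K ⊗[k] E ≃ₗ[k] (ι →₀ E) :=
  TensorProduct.equivFinsuppOfBasisLeft b

theorem h8_coord_baseChange {ι : Type*} [DecidableEq ι] (b : Module.Basis ι k K)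
    (f : E →ₗ[k] E) (w : K ⊗[k] E) (i : ι) :
    h8_coord b (f.baseChange K w) i = f (h8_coord b w i) := by
  induction w using TensorProduct.induction_on with
  | zero => simp
  | tmul a v =>
    rw [LinearMap.baseChange_tmul]
    simp only [h8_coord, TensorProduct.equivFinsuppOfBasisLeft_apply_tmul_apply, map_smul]
  | add x y hx hy =>
    simp only [map_add, Finsupp.coe_add, Pi.add_apply, hx, hy]

theorem h8_fixed_iff_coord {ι : Type*} [DecidableEq ι] (b : Module.Basis ι k K)
    (ρ : Representation k G E) (T : Set G) (w : K ⊗[k] E) :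
    (∀ s ∈ T, h8_baseChangeRep K ρ s w = w) ↔
      ∀ i : ι, ∀ s ∈ T, ρ s (h8_coord b w i) = h8_coord b w i := by
  constructor
  · intro h i s hs
    have := h s hs
    rw [h8_baseChangeRep_apply] at this
    have h2 := h8_coord_baseChange b (ρ s) w i
    rw [this] at h2
    exact h2.symm
  · intro h s hs
    apply (h8_coord b).injective
    ext i
    rw [h8_baseChangeRep_apply, h8_coord_baseChange, h i s hs]

/-- If `y` maps the `T`-fixed points of `E` to `T`-fixed points then the same holds after
extension of scalars. -/
theorem h8_baseChange_fixed_invariant [FiniteDimensional k K]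
    (ρ : Representation k G E) (T : Set G) (y : G)
    (hy : ∀ v : E, (∀ s ∈ T, ρ s v = v) → ∀ s ∈ T, ρ s (ρ y v) = ρ y v)
    (w : K ⊗[k] E) (hw : ∀ s ∈ T, h8_baseChangeRep K ρ s w = w) :
    ∀ s ∈ T, h8_baseChangeRep K ρ s (h8_baseChangeRep K ρ y w) = h8_baseChangeRep K ρ y w := by
  classical
  let b := Module.finBasis k K
  rw [h8_fixed_iff_coord b] at hw ⊢
  intro i s hs
  rw [h8_baseChangeRep_apply, h8_coord_baseChange]
  exact hy _ (hw i) s hs

/-- The fixed points of `T` on `K ⊗ E` biject with `finrank`-tuples of fixed points on `E`. -/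
theorem h8_card_fixed_baseChange [FiniteDimensional k K]
    (ρ : Representation k G E) (T : Set G) :
    Nat.card {w : K ⊗[k] E // ∀ s ∈ T, h8_baseChangeRep K ρ s w = w} =
      Nat.card {v : E // ∀ s ∈ T, ρ s v = v} ^ Module.finrank k K := by
  classical
  let b := Module.finBasis k K
  have e : {w : K ⊗[k] E // ∀ s ∈ T, h8_baseChangeRep K ρ s w = w} ≃
      (Fin (Module.finrank k K) → {v : E // ∀ s ∈ T, ρ s v = v}) :=
    { toFun := fun w i => ⟨h8_coord b w.1 i, (h8_fixed_iff_coord b ρ T w.1).mp w.2 i⟩
      invFun := fun f => ⟨(h8_coord b).symm (Finsupp.equivFunOnFinite.symm fun i => (f i).1), by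
        rw [h8_fixed_iff_coord b]
        intro i
        rw [LinearEquiv.apply_symm_apply]
        exact (f i).2⟩
      left_inv := by
        intro w
        apply Subtype.ext
        apply (h8_coord b).injective
        rw [LinearEquiv.apply_symm_apply]
        ext i
        rfl
      right_inv := by
        intro f
        funext i
        apply Subtype.ext
        simp only [LinearEquiv.apply_symm_apply]
        rfl }
  rw [Nat.card_congr e, Nat.card_fun, Nat.card_eq_fintype_card (α := Fin _), Fintype.card_fin]

/-- `K ⊗ E` is finite when `K` is finite-dimensional and `E` is finite. -/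
theorem h8_finite_baseChange [FiniteDimensional k K] [Finite E] : Finite (K ⊗[k] E) := by
  classical
  let b := Module.finBasis k K
  have : Finite (Fin (Module.finrank k K) →₀ E) :=
    Finite.of_equiv _ (Finsupp.equivFunOnFinite (α := Fin (Module.finrank k K)) (M := E)).symm
  exact Finite.of_injective (h8_coord (E := E) b) (h8_coord b).injective

end general

theorem exists_baseChange {S : Type u} [Group S] {E : Type v} [AddCommGroup E] [Module (ZMod 2) E]
    [Finite E] (ρ : Representation (ZMod 2) S E) (K : Type w) [Field K] [Algebra (ZMod 2) K]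
    [Finite K] :
    ∃ (W : Type (max v w)) (_ : AddCommGroup W) (_ : Module K W) (_ : Finite W)
      (σ : Representation K S W),
      (∀ T : Set S, Nat.card {x : W // ∀ t ∈ T, σ t x = x} =
        (Nat.card {v : E // ∀ t ∈ T, ρ t v = v}) ^ (Module.finrank (ZMod 2) K)) ∧
      (∀ (T : Set S) (y : S),
        (∀ v : E, (∀ t ∈ T, ρ t v = v) → ∀ t ∈ T, ρ t (ρ y v) = ρ y v) →
        ∀ x : W, (∀ t ∈ T, σ t x = x) → ∀ t ∈ T, σ t (σ y x) = σ y x) := by
  have : FiniteDimensional (ZMod 2) K := Module.Finite.of_finite
  refine ⟨K ⊗[ZMod 2] E, inferInstance, inferInstance, h8_finite_baseChange,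
    h8_baseChangeRep K ρ, ?_, ?_⟩
  · intro T
    exact h8_card_fixed_baseChange ρ T
  · intro T y hy x hx
    exact h8_baseChange_fixed_invariant ρ T y hy x hx

end Cfsg.Agent.Helper2.Wt
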