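import Cfsg.Agent.Helper2.Wt_Supp

/-!
# S4414, piece E: orbits of characters, fixed vectors with prescribed support, the core count
-/

set_option autoImplicit false

namespace Cfsg.Agent.Helper2.Wt

variable {K : Type*} [Field K] {S : Type*} [Group S]
  {W : Type*} [AddCommGroup W] [Module K W]
  (σ : Representation K S W) (A : Subgroup S) [A.Normal] [Fintype ↥A] [Fintype (↥A →* Kˣ)]
  [DecidableEq (↥A →* Kˣ)]

/-- The conjugation action of `S` on the characters of the normal subgroup `A`. -/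
@[reducible] noncomputable def charAct : MulAction S (↥A →* Kˣ) where
  smul s χ := twist A s χ
  one_smul := twist_one A
  mul_smul := twist_mul A

open Classical in
/-- The orbit of a character under a subgroup, as a finset. -/
noncomputable def orb (T : Subgroup S) (χ : ↥A →* Kˣ) : Finset (↥A →* Kˣ) :=
  Finset.univ.filter (fun ψ => ∃ t ∈ T, twist A t χ = ψ)

omit [Fintype ↥A] [DecidableEq (↥A →* Kˣ)] in
theorem mem_orb {T : Subgroup S} {χ ψ : ↥A →* Kˣ} :
    ψ ∈ orb A T χ ↔ ∃ t ∈ T, twist A t χ = ψ := by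
  classical
  simp [orb]

omit [Fintype ↥A] [DecidableEq (↥A →* Kˣ)] in
theorem self_mem_orb (T : Subgroup S) (χ : ↥A →* Kˣ) : χ ∈ orb A T χ :=
  (mem_orb A).2 ⟨1, T.one_mem, twist_one A χ⟩

omit [Fintype ↥A] [DecidableEq (↥A →* Kˣ)] in
theorem twist_mem_orb {T : Subgroup S} {χ ψ : ↥A →* Kˣ} {t : S} (ht : t ∈ T)
    (h : ψ ∈ orb A T χ) : twist A t ψ ∈ orb A T χ := by
  obtain ⟨u, hu, rfl⟩ := (mem_orb A).1 h
  exact (mem_orb A).2 ⟨t * u, T.mul_mem ht hu, twist_mul A t u χ⟩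

omit [Fintype ↥A] [DecidableEq (↥A →* Kˣ)] in
theorem orb_subset_of_invariant {T : Subgroup S} {J : Finset (↥A →* Kˣ)}
    (hJ : ∀ t ∈ T, ∀ ψ ∈ J, twist A t ψ ∈ J) {χ : ↥A →* Kˣ} (h : χ ∈ J) : orb A T χ ⊆ J := by
  intro ψ hψ
  obtain ⟨t, ht, rfl⟩ := (mem_orb A).1 hψ
  exact hJ t ht χ h

omit [Fintype ↥A] [DecidableEq (↥A →* Kˣ)] in
theorem orb_eq_of_mem {T : Subgroup S} {χ ψ : ↥A →* Kˣ} (h : ψ ∈ orb A T χ) :
    orb A T ψ = orb A T χ := by
  apply Finset.Subset.antisymm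
  · exact orb_subset_of_invariant A (fun t ht φ hφ => twist_mem_orb A ht hφ) h
  · obtain ⟨t, ht, rfl⟩ := (mem_orb A).1 h
    apply orb_subset_of_invariant A (fun u hu φ hφ => twist_mem_orb A hu hφ)
    refine (mem_orb A).2 ⟨t⁻¹, T.inv_mem ht, twist_inv_twist A t χ⟩

omit [Fintype ↥A] in
theorem orb_disjoint {T : Subgroup S} {χ ψ : ↥A →* Kˣ} (h : ψ ∉ orb A T χ) :
    Disjoint (orb A T χ) (orb A T ψ) := by
  rw [Finset.disjoint_left]
  intro φ h1 h2
  apply h
  rw [← orb_eq_of_mem A h1, orb_eq_of_mem A h2]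
  exact self_mem_orb A T ψ

omit [Fintype ↥A] [DecidableEq (↥A →* Kˣ)] in
theorem card_orb_two_pow {T : Subgroup S} (hT : IsPGroup 2 ↥T) (χ : ↥A →* Kˣ) :
    ∃ n : ℕ, (orb A T χ).card = 2 ^ n := by
  classical
  letI : MulAction S (↥A →* Kˣ) := charAct A
  obtain ⟨n, hn⟩ := hT.card_orbit (α := ↥A →* Kˣ) χ
  refine ⟨n, ?_⟩
  rw [← hn]
  have hset : (MulAction.orbit ↥T χ) = ((orb A T χ : Finset (↥A →* Kˣ)) : Set (↥A →* Kˣ)) := by
    ext ψ
    rw [MulAction.mem_orbit_iff, Finset.mem_coe, mem_orb]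
    constructor
    · rintro ⟨t, rfl⟩
      exact ⟨(t : S), t.2, rfl⟩
    · rintro ⟨t, ht, rfl⟩
      exact ⟨⟨t, ht⟩, rfl⟩
  rw [hset]
  simp

omit [Fintype ↥A] [DecidableEq (↥A →* Kˣ)] in
/-- A finite set of characters which is invariant under a `q`-group `Q` and contains no
`Q`-fixed character has cardinality divisible by `q`. -/
theorem dvd_card_of_invariant {q : ℕ} [Fact q.Prime] (Q : Subgroup S) (hQ : IsPGroup q ↥Q)
    (J : Finset (↥A →* Kˣ)) (hinv : ∀ y ∈ Q, ∀ χ ∈ J, twist A y χ ∈ J)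
    (hfix : ∀ χ ∈ J, ¬ ∀ y ∈ Q, twist A y χ = χ) : q ∣ J.card := by
  classical
  letI : MulAction S (↥A →* Kˣ) := charAct A
  let M : SubMulAction ↥Q (↥A →* Kˣ) :=
    { carrier := (J : Set (↥A →* Kˣ))
      smul_mem' := fun y χ hχ => hinv (y : S) y.2 χ hχ }
  have h := hQ.card_modEq_card_fixedPoints (↥M)
  have hempty : IsEmpty (MulAction.fixedPoints ↥Q ↥M) := by
    refine ⟨fun x => ?_⟩
    obtain ⟨⟨χ, hχ⟩, hf⟩ := x
    refine hfix χ hχ (fun y hy => ?_)
    have := hf ⟨y, hy⟩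
    exact congrArg Subtype.val this
  have h0 : Nat.card (MulAction.fixedPoints ↥Q ↥M) = 0 := Nat.card_of_isEmpty
  have hc : Nat.card ↥M = J.card := by
    have : Nat.card ↥M = Nat.card ↥(J : Set (↥A →* Kˣ)) := rfl
    rw [this]
    simp
  rw [hc, h0] at h
  exact (Nat.modEq_zero_iff_dvd).1 h


/-- The component `proj χ x` has support inside `{χ}`. -/
theorem supp_proj_subset (hG : Good K A) (χ : ↥A →* Kˣ) (x : W) :
    supp σ A (proj σ A χ x) ⊆ {χ} := by
  intro ψ hψ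
  rw [mem_supp] at hψ
  rw [Finset.mem_singleton]
  by_contra hne
  exact hψ (proj_proj_of_ne σ A hG.hcard ψ χ hne x)

/-- (E1) a non-zero fixed vector of the `2`-group `T` whose support is exactly the `T`-orbit of
a weight that occurs. -/
theorem exists_fixed_with_supp [Finite W] (hG : Good K A) (h2W : ∀ x : W, x + x = 0)
    (T : Subgroup S) (hT : IsPGroup 2 ↥T) (χ : ↥A →* Kˣ) (x₀ : W) (hx₀ : proj σ A χ x₀ ≠ 0) :
    ∃ f : W, f ≠ 0 ∧ (∀ t ∈ T, σ t f = f) ∧ supp σ A f = orb A T χ := by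
  classical
  set J := orb A T χ with hJdef
  have hJinv : ∀ t ∈ T, ∀ ψ ∈ J, twist A t ψ ∈ J := fun t ht ψ hψ => twist_mem_orb A ht hψ
  let U : Submodule K W := LinearMap.eqLocus (projJ σ A J) LinearMap.id
  have hUmem : ∀ u : W, u ∈ U ↔ projJ σ A J u = u := by
    intro u
    simp [U, LinearMap.mem_eqLocus]
  have hU : ∀ t ∈ T, ∀ u ∈ U, σ t u ∈ U := by
    intro t ht u hu
    rw [hUmem] at hu ⊢
    rw [← sigma_projJ σ A t J (hJinv t ht) u, hu]
  letI : MulAction ↥T ↥U :=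
    { smul := fun t u => ⟨σ (t : S) u, hU t t.2 u u.2⟩
      one_smul := fun u => by
        apply Subtype.ext
        show σ ((1 : ↥T) : S) (u : W) = u
        simp
      mul_smul := fun s t u => by
        apply Subtype.ext
        show σ ((s * t : ↥T) : S) (u : W) = σ (s : S) (σ (t : S) (u : W))
        simp }
  have hsmul : ∀ (t : ↥T) (u : ↥U), ((t • u : ↥U) : W) = σ (t : S) (u : W) := fun _ _ => rfl
  -- the element `proj χ x₀` of `U`
  have hu₀ : proj σ A χ x₀ ∈ U := by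
    rw [hUmem]
    apply projJ_eq_self σ A hG
    exact (supp_proj_subset σ A hG χ x₀).trans
      (Finset.singleton_subset_iff.2 (self_mem_orb A T χ))
  have h2dvd : 2 ∣ Nat.card ↥U := by
    let u₀ : ↥U := ⟨proj σ A χ x₀, hu₀⟩
    have hne : u₀ ≠ 0 := fun h => hx₀ (congrArg Subtype.val h)
    have h2 : (2 : ℕ) • u₀ = 0 := by
      apply Subtype.ext
      show (2 : ℕ) • (proj σ A χ x₀) = 0
      rw [two_smul]
      exact h2W _
    have : addOrderOf u₀ = 2 := addOrderOf_eq_prime h2 hne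
    rw [← this]
    exact addOrderOf_dvd_natCard u₀
  have hzero : (0 : ↥U) ∈ MulAction.fixedPoints ↥T ↥U := by
    intro t
    apply Subtype.ext
    rw [hsmul]
    simp
  obtain ⟨b, hb, hne⟩ :=
    hT.exists_fixed_point_of_prime_dvd_card_of_fixed_point (↥U) h2dvd hzero
  have hbfix : ∀ t ∈ T, σ t (b : W) = b := by
    intro t ht
    have := hb ⟨t, ht⟩
    have h' := congrArg Subtype.val this
    rw [hsmul] at h'
    exact h'
  have hb0 : (b : W) ≠ 0 := by
    intro h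
    apply hne
    exact (Subtype.ext h).symm
  have hbJ : supp σ A (b : W) ⊆ J := by
    have hbU := (hUmem b).1 b.2
    have := supp_projJ σ A hG J (b : W)
    rw [hbU] at this
    rw [this]
    exact Finset.inter_subset_right
  refine ⟨b, hb0, hbfix, Finset.Subset.antisymm hbJ ?_⟩
  -- `J ⊆ supp b`
  have hne' : (supp σ A (b : W)).Nonempty := by
    rw [Finset.nonempty_iff_ne_empty]
    intro h
    exact hb0 ((supp_eq_empty σ A hG).1 h)
  obtain ⟨ψ, hψ⟩ := hne'
  have hinv : ∀ t ∈ T, ∀ φ ∈ supp σ A (b : W), twist A t φ ∈ supp σ A (b : W) := by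
    intro t ht φ hφ
    have := supp_sigma σ A t (b : W)
    rw [hbfix t ht] at this
    rw [this]
    exact Finset.mem_image_of_mem _ hφ
  have h1 : orb A T ψ ⊆ supp σ A (b : W) := orb_subset_of_invariant A hinv hψ
  rw [orb_eq_of_mem A (hbJ hψ)] at h1
  exact h1


/-- (E2) the core count: the fixed space of the `2`-group `S₂` on `W` has at least `|K|^2`
elements, and in case of equality it is not normalized by `Q`. -/
theorem core [Finite K] [Finite W] (hG : Good K A) (h2W : ∀ x : W, x + x = 0) (hW : Nontrivial W)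
    (S₂ Q : Subgroup S) (h2 : IsPGroup 2 ↥S₂) {q : ℕ} (hq : q.Prime) (hq2 : q ≠ 2)
    (hQ : Nat.card ↥Q = q)
    (hCA : ∀ x : W, (∀ a ∈ A, σ a x = x) → x = 0)
    (hfpf : ∀ χ : ↥A →* Kˣ, (∀ y ∈ Q, twist A y χ = χ) → χ = 1) :
    Nat.card K ^ 2 ≤ Nat.card {x : W // ∀ t ∈ S₂, σ t x = x} ∧
    (Nat.card {x : W // ∀ t ∈ S₂, σ t x = x} = Nat.card K ^ 2 →
      ¬ ∀ y ∈ Q, ∀ x : W, (∀ t ∈ S₂, σ t x = x) → ∀ t ∈ S₂, σ t (σ y x) = σ y x) := by
  classical
  haveI : Fact q.Prime := ⟨hq⟩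
  have hQp : IsPGroup q ↥Q := IsPGroup.of_card (n := 1) (by rw [hQ, pow_one])
  -- weights that occur are nontrivial
  have hne1 : ∀ χ : ↥A →* Kˣ, ∀ x : W, proj σ A χ x ≠ 0 → χ ≠ 1 := by
    rintro χ x hx rfl
    apply hx
    apply hCA
    intro a ha
    have := sigma_proj σ A (1 : ↥A →* Kˣ) ⟨a, ha⟩ x
    simpa using this
  have hnofix : ∀ χ : ↥A →* Kˣ, ∀ x : W, proj σ A χ x ≠ 0 → ¬ ∀ y ∈ Q, twist A y χ = χ :=
    fun χ x hx h => hne1 χ x hx (hfpf χ h)
  have hmove : ∀ (s : S) (χ : ↥A →* Kˣ) (x : W), proj σ A χ x ≠ 0 →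
      proj σ A (twist A s χ) (σ s x) ≠ 0 := by
    intro s χ x hx
    rw [← sigma_proj_twist]
    intro h0
    exact hx (sigma_injective σ s (by rw [h0, map_zero]))
  have hocc : ∀ (T : Subgroup S) (χ : ↥A →* Kˣ) (x : W), proj σ A χ x ≠ 0 →
      ∀ ψ ∈ orb A T χ, ∃ x' : W, proj σ A ψ x' ≠ 0 := by
    intro T χ x hx ψ hψ
    obtain ⟨t, _, rfl⟩ := (mem_orb A).1 hψ
    exact ⟨σ t x, hmove t χ x hx⟩
  -- a first weight and its orbit
  obtain ⟨x₀, hx₀⟩ := exists_ne (0 : W)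
  have hs : (supp σ A x₀).Nonempty := by
    rw [Finset.nonempty_iff_ne_empty]
    intro h
    exact hx₀ ((supp_eq_empty σ A hG).1 h)
  obtain ⟨χ₀, hχ₀⟩ := hs
  rw [mem_supp] at hχ₀
  obtain ⟨f₁, hf₁0, hf₁fix, hf₁supp⟩ := exists_fixed_with_supp σ A hG h2W S₂ h2 χ₀ x₀ hχ₀
  obtain ⟨n₁, hn₁⟩ := card_orb_two_pow A h2 χ₀
  have hnotinv : ¬ ∀ y ∈ Q, ∀ χ ∈ orb A S₂ χ₀, twist A y χ ∈ orb A S₂ χ₀ := by
    intro hinv
    have hdvd := dvd_card_of_invariant A Q hQp (orb A S₂ χ₀) hinv (fun χ hχ => by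
      obtain ⟨x', hx'⟩ := hocc S₂ χ₀ x₀ hχ₀ χ hχ
      exact hnofix χ x' hx')
    rw [hn₁] at hdvd
    have := Nat.Prime.dvd_of_dvd_pow hq hdvd
    exact hq2 ((Nat.prime_dvd_prime_iff_eq hq Nat.prime_two).1 this)
  push_neg at hnotinv
  obtain ⟨y₀, hy₀, χ, hχJ₁, hχ'⟩ := hnotinv
  obtain ⟨xχ, hxχ⟩ := hocc S₂ χ₀ x₀ hχ₀ χ hχJ₁
  have hχ'occ : proj σ A (twist A y₀ χ) (σ y₀ xχ) ≠ 0 := hmove y₀ χ xχ hxχ
  obtain ⟨f₂, hf₂0, hf₂fix, hf₂supp⟩ :=
    exists_fixed_with_supp σ A hG h2W S₂ h2 (twist A y₀ χ) (σ y₀ xχ) hχ'occ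
  generalize hJ₁ : orb A S₂ χ₀ = J₁ at *
  generalize hJ₂ : orb A S₂ (twist A y₀ χ) = J₂ at *
  have hdisj : Disjoint J₁ J₂ := by
    rw [← hJ₁, ← hJ₂]
    apply orb_disjoint A
    rw [hJ₁]
    exact hχ'
  have hJ₁ne : J₁.Nonempty := ⟨χ₀, by rw [← hJ₁]; exact self_mem_orb A S₂ χ₀⟩
  have hJ₂ne : J₂.Nonempty := ⟨twist A y₀ χ, by rw [← hJ₂]; exact self_mem_orb A S₂ _⟩
  have hJ₁occ : ∀ ψ ∈ J₁, ∃ x' : W, proj σ A ψ x' ≠ 0 := by
    intro ψ hψ
    rw [← hJ₁] at hψ
    exact hocc S₂ χ₀ x₀ hχ₀ ψ hψ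
  have hJ₂occ : ∀ ψ ∈ J₂, ∃ x' : W, proj σ A ψ x' ≠ 0 := by
    intro ψ hψ
    rw [← hJ₂] at hψ
    exact hocc S₂ _ _ hχ'occ ψ hψ
  -- supports of combinations
  have hsuppcomb : ∀ α β : K, supp σ A (α • f₁ + β • f₂) =
      (if α = 0 then ∅ else J₁) ∪ (if β = 0 then ∅ else J₂) := by
    intro α β
    have h1 : supp σ A (α • f₁) = if α = 0 then ∅ else J₁ := by
      split_ifs with h
      · subst h
        rw [zero_smul, supp_zero]
      · rw [supp_smul σ A h, hf₁supp]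
    have h2' : supp σ A (β • f₂) = if β = 0 then ∅ else J₂ := by
      split_ifs with h
      · subst h
        rw [zero_smul, supp_zero]
      · rw [supp_smul σ A h, hf₂supp]
    have hd : Disjoint (supp σ A (α • f₁)) (supp σ A (β • f₂)) := by
      rw [h1, h2']
      split_ifs <;> simp [hdisj]
    rw [supp_add_of_disjoint σ A hd, h1, h2']
  have hindep : ∀ α β : K, α • f₁ + β • f₂ = 0 → α = 0 ∧ β = 0 := by
    intro α β h
    have hs := hsuppcomb α β
    rw [h, supp_zero] at hs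
    have hs' := hs.symm
    rw [Finset.union_eq_empty] at hs'
    constructor
    · by_contra hα
      rw [if_neg hα] at hs'
      exact hJ₁ne.ne_empty hs'.1
    · by_contra hβ
      rw [if_neg hβ] at hs'
      exact hJ₂ne.ne_empty hs'.2
  -- the injection K × K → C
  let φ : K × K → {x : W // ∀ t ∈ S₂, σ t x = x} := fun ab =>
    ⟨ab.1 • f₁ + ab.2 • f₂, fun t ht => by
      rw [map_add, map_smul, map_smul, hf₁fix t ht, hf₂fix t ht]⟩
  have hφ : Function.Injective φ := by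
    rintro ⟨a, b⟩ ⟨a', b'⟩ h
    have h' : a • f₁ + b • f₂ = a' • f₁ + b' • f₂ := congrArg Subtype.val h
    have h0 : (a - a') • f₁ + (b - b') • f₂ = 0 := by
      rw [sub_smul, sub_smul]
      have : a • f₁ - a' • f₁ + (b • f₂ - b' • f₂) = (a • f₁ + b • f₂) - (a' • f₁ + b' • f₂) := by
        abel
      rw [this, h', sub_self]
    obtain ⟨h1, h2'⟩ := hindep _ _ h0
    rw [sub_eq_zero.1 h1, sub_eq_zero.1 h2']
  have hcardKK : Nat.card (K × K) = Nat.card K ^ 2 := by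
    rw [Nat.card_prod, sq]
  refine ⟨?_, ?_⟩
  · rw [← hcardKK]
    exact Nat.card_le_card_of_injective φ hφ
  · intro hcard hnorm
    have hbij : Function.Bijective φ := by
      apply hφ.bijective_of_nat_card_le
      rw [hcard, hcardKK]
    -- images of supports
    have hgen : ∀ y ∈ Q, ∀ (f : W) (J : Finset (↥A →* Kˣ)), (∀ t ∈ S₂, σ t f = f) →
        supp σ A f = J → J.Nonempty → J.card < J₁.card + J₂.card →
        J.image (twist A y) = J₁ ∨ J.image (twist A y) = J₂ := by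
      intro y hy f J hfix hsupp hJne hJcard
      obtain ⟨⟨α, β⟩, hαβ⟩ := hbij.2 ⟨σ y f, hnorm y hy f hfix⟩
      have hαβ' : α • f₁ + β • f₂ = σ y f := congrArg Subtype.val hαβ
      have himg : J.image (twist A y) =
          (if α = 0 then ∅ else J₁) ∪ (if β = 0 then ∅ else J₂) := by
        rw [← hsupp, ← supp_sigma, ← hαβ', hsuppcomb]
      have hcardimg : (J.image (twist A y)).card = J.card :=
        Finset.card_image_of_injective _ (twist_injective A y)
      by_cases hα : α = 0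
      · by_cases hβ : β = 0
        · exfalso
          rw [if_pos hα, if_pos hβ, Finset.union_empty] at himg
          rw [himg, Finset.card_empty] at hcardimg
          exact hJne.ne_empty (Finset.card_eq_zero.1 hcardimg.symm)
        · right
          rw [himg, if_pos hα, if_neg hβ, Finset.empty_union]
      · by_cases hβ : β = 0
        · left
          rw [himg, if_neg hα, if_pos hβ, Finset.union_empty]
        · exfalso
          rw [if_neg hα, if_neg hβ] at himg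
          rw [himg, Finset.card_union_of_disjoint hdisj] at hcardimg
          omega
    have hJ₁pos : 0 < J₁.card := Finset.card_pos.2 hJ₁ne
    have hJ₂pos : 0 < J₂.card := Finset.card_pos.2 hJ₂ne
    have hinv : ∀ y ∈ Q, ∀ ψ ∈ J₁ ∪ J₂, twist A y ψ ∈ J₁ ∪ J₂ := by
      intro y hy ψ hψ
      rcases Finset.mem_union.1 hψ with h | h
      · have hm : twist A y ψ ∈ J₁.image (twist A y) := Finset.mem_image_of_mem _ h
        rcases hgen y hy f₁ J₁ hf₁fix hf₁supp hJ₁ne (by omega) with e | e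
        · rw [e] at hm
          exact Finset.mem_union_left _ hm
        · rw [e] at hm
          exact Finset.mem_union_right _ hm
      · have hm : twist A y ψ ∈ J₂.image (twist A y) := Finset.mem_image_of_mem _ h
        rcases hgen y hy f₂ J₂ hf₂fix hf₂supp hJ₂ne (by omega) with e | e
        · rw [e] at hm
          exact Finset.mem_union_left _ hm
        · rw [e] at hm
          exact Finset.mem_union_right _ hm
    have hdvd := dvd_card_of_invariant A Q hQp (J₁ ∪ J₂) hinv (fun ψ hψ => by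
      rcases Finset.mem_union.1 hψ with h | h
      · obtain ⟨x', hx'⟩ := hJ₁occ ψ h
        exact hnofix ψ x' hx'
      · obtain ⟨x', hx'⟩ := hJ₂occ ψ h
        exact hnofix ψ x' hx')
    rw [Finset.card_union_of_disjoint hdisj] at hdvd
    -- `y₀` maps `J₁` onto `J₂`
    have hy₀img : J₁.image (twist A y₀) = J₂ := by
      rcases hgen y₀ hy₀ f₁ J₁ hf₁fix hf₁supp hJ₁ne (by omega) with e | e
      · exfalso
        apply hχ'
        rw [← e]
        exact Finset.mem_image_of_mem _ hχJ₁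
      · exact e
    have hcardeq : J₂.card = J₁.card := by
      rw [← hy₀img]
      exact Finset.card_image_of_injective _ (twist_injective A y₀)
    rw [hcardeq, hn₁, ← two_mul, ← pow_succ'] at hdvd
    have := Nat.Prime.dvd_of_dvd_pow hq hdvd
    exact hq2 ((Nat.prime_dvd_prime_iff_eq hq Nat.prime_two).1 this)

end Cfsg.Agent.Helper2.Wt
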