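import Mathlib

/-!
# S4414, piece C: a finite field of characteristic `2` with a primitive `p`-th root of unity,
and the dual of an abelian group of exponent `p` over it.
(Model: `K = GaloisField 2 (p - 1)`; `p ∣ 2 ^ (p - 1) - 1 = #Kˣ`.)
(piece written by helper8)
-/

set_option autoImplicit false

namespace Cfsg.Agent.Helper2.Wt

universe u

/-- A finite field has enough `(|K| - 1)`-th roots of unity. -/
theorem h8_finField_enough_card_sub_one (K : Type*) [Field K] [Fintype K] :
    HasEnoughRootsOfUnity K (Fintype.card K - 1) := by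
  have h2 : 2 ≤ Fintype.card K := Fintype.one_lt_card
  have : NeZero (Fintype.card K - 1) := ⟨by omega⟩
  refine HasEnoughRootsOfUnity.of_card_le ?_
  have htop : rootsOfUnity (Fintype.card K - 1) K = ⊤ := by
    ext u
    simp only [mem_rootsOfUnity, Subgroup.mem_top, iff_true]
    rw [Units.ext_iff, Units.val_pow_eq_pow_val, Units.val_one]
    exact FiniteField.pow_card_sub_one_eq_one _ (Units.ne_zero u)
  have := Nat.card_congr (MulEquiv.subgroupCongr htop).toEquiv
  rw [this]
  have hu : Nat.card Kˣ = Fintype.card K - 1 := by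
    classical
    rw [Nat.card_eq_fintype_card, Fintype.card_units]
  simp only [Subgroup.card_top, hu, le_refl]

/-- A finite field has enough `n`-th roots of unity for every `n ∣ |K| - 1`. -/
theorem h8_finField_enough_of_dvd (K : Type*) [Field K] [Fintype K] {n : ℕ}
    (hn : n ∣ Fintype.card K - 1) : HasEnoughRootsOfUnity K n := by
  have h2 : 2 ≤ Fintype.card K := Fintype.one_lt_card
  have : NeZero (Fintype.card K - 1) := ⟨by omega⟩
  have := h8_finField_enough_card_sub_one K
  exact HasEnoughRootsOfUnity.of_dvd K hn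

/-- Fermat: an odd prime `p` divides `2 ^ (p - 1) - 1`. -/
theorem h8_odd_prime_dvd_two_pow_sub_one {p : ℕ} (hp : p.Prime) (hp2 : p ≠ 2) :
    p ∣ 2 ^ (p - 1) - 1 := by
  have : Fact p.Prime := ⟨hp⟩
  have h2 : (2 : ZMod p) ≠ 0 := by
    intro h
    have : (p : ℕ) ∣ 2 := (ZMod.natCast_eq_zero_iff 2 p).mp (by exact_mod_cast h)
    exact hp2 ((Nat.prime_dvd_prime_iff_eq hp Nat.prime_two).mp this)
  have h1 : (2 : ZMod p) ^ (p - 1) = 1 := ZMod.pow_card_sub_one_eq_one h2
  have hpos : 1 ≤ 2 ^ (p - 1) := Nat.one_le_two_pow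
  rw [← ZMod.natCast_eq_zero_iff]
  rw [Nat.cast_sub hpos]
  push_cast
  rw [h1, sub_self]

/-- The field with `2 ^ (p - 1)` elements contains all `p`-th roots of unity, `p` an odd prime. -/
theorem h8_galoisField_enough {p : ℕ} (hp : p.Prime) (hp2 : p ≠ 2) :
    HasEnoughRootsOfUnity (GaloisField 2 (p - 1)) p := by
  have hne : p - 1 ≠ 0 := by have := hp.two_le; omega
  have : Finite (GaloisField 2 (p - 1)) := inferInstance
  let _ : Fintype (GaloisField 2 (p - 1)) := Fintype.ofFinite _
  apply h8_finField_enough_of_dvd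
  rw [← Nat.card_eq_fintype_card, GaloisField.card 2 (p - 1) hne]
  exact h8_odd_prime_dvd_two_pow_sub_one hp hp2

/-- duality for a finite commutative group of exponent dividing `p` -/
theorem h8_dual_of_enough (p : ℕ) (hp : p.Prime) (K : Type*) [Field K]
    [HasEnoughRootsOfUnity K p] (A : Type u) [CommGroup A] [Finite A] (hexp : ∀ a : A, a ^ p = 1) :
    (∀ a : A, a ≠ 1 → ∃ φ : A →* Kˣ, φ a ≠ 1) ∧ Nat.card (A →* Kˣ) = Nat.card A := by
  have : NeZero p := ⟨hp.ne_zero⟩
  have hdvd : Monoid.exponent A ∣ p := Monoid.exponent_dvd_of_forall_pow_eq_one hexp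
  have : HasEnoughRootsOfUnity K (Monoid.exponent A) := HasEnoughRootsOfUnity.of_dvd K hdvd
  exact ⟨fun a ha => CommGroup.exists_apply_ne_one_of_hasEnoughRootsOfUnity A K ha,
    CommGroup.card_monoidHom_of_hasEnoughRootsOfUnity A K⟩

theorem exists_field_and_chars (p : ℕ) (hp : p.Prime) (hp2 : p ≠ 2) :
    ∃ (K : Type) (_ : Field K) (_ : Algebra (ZMod 2) K) (_ : Finite K),
      (∀ n : ℕ, Odd n → ((n : K) ≠ 0)) ∧
      ∀ (A : Type u) [Group A] [Fintype A], (∀ a b : A, a * b = b * a) → (∀ a : A, a ^ p = 1) →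
        (∀ a : A, a ≠ 1 → ∃ φ : A →* Kˣ, φ a ≠ 1) ∧ Nat.card (A →* Kˣ) = Nat.card A := by
  refine ⟨GaloisField 2 (p - 1), inferInstance, inferInstance, inferInstance, ?_, ?_⟩
  · intro n hn h0
    have h2 : (2 : ℕ) ∣ n := (CharP.cast_eq_zero_iff (GaloisField 2 (p - 1)) 2 n).mp h0
    exact (Nat.not_even_iff_odd.mpr hn) (even_iff_two_dvd.mpr h2)
  · intro A instG instF hcomm hexp
    have := h8_galoisField_enough hp hp2
    let instC : CommGroup A := { instG with mul_comm := hcomm }
    exact h8_dual_of_enough p hp (GaloisField 2 (p - 1)) A hexp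

end Cfsg.Agent.Helper2.Wt
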