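import Cfsg.Agent.Helper2.Wt_Prep
import Cfsg.Agent.Helper2.Wt_Base
import Cfsg.Agent.Helper2.Wt_Field

/-!
# S4414: assembly of the pieces
-/

set_option autoImplicit false

namespace Cfsg.Agent.Helper2.Wt

universe u1 u2

theorem main {S : Type u1} [Group S] [Finite S] (p q : ℕ) (hp : p.Prime) (hq : q.Prime)
    (hp2 : p ≠ 2) (hq2 : q ≠ 2)
    (A S₂ Q : Subgroup S) (hA : A.Normal) (h2 : IsPGroup 2 ↥S₂)
    (hAc : ∀ a b : ↥A, a * b = b * a) (hAp : ∀ a ∈ A, a ^ p = 1) (hAodd : Odd (Nat.card ↥A))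
    (hQ : Nat.card ↥Q = q) (hcomm : ⁅A, Q⁆ = A)
    {E : Type u2} [AddCommGroup E] [Module (ZMod 2) E] [Finite E]
    (ρ : Representation (ZMod 2) S E) (hE : Nontrivial E)
    (hfix : ∀ v : E, (∀ a ∈ A, ρ a v = v) → v = 0) :
    8 ≤ Nat.card {v : E // ∀ s ∈ S₂, ρ s v = v} ∨
      (Nat.card {v : E // ∀ s ∈ S₂, ρ s v = v} = 4 ∧
        ∃ x ∈ Q, ∃ v : E, (∀ s ∈ S₂, ρ s v = v) ∧ ¬ ∀ s ∈ S₂, ρ s (ρ x v) = ρ x v) := by
  classical
  obtain ⟨K, iF, iAlg, iFin, hodd, hchars⟩ := exists_field_and_chars.{u1} p hp hp2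
  letI : Field K := iF
  letI : Algebra (ZMod 2) K := iAlg
  haveI : Finite K := iFin
  obtain ⟨W, iW, iMod, iWfin, σ, hcardfix, htransfer⟩ := exists_baseChange ρ K
  letI : AddCommGroup W := iW
  letI : Module K W := iMod
  haveI : Finite W := iWfin
  haveI : A.Normal := hA
  letI : Fintype ↥A := Fintype.ofFinite _
  letI : Fintype (↥A →* Kˣ) := Fintype.ofFinite _
  obtain ⟨hsep, hdual⟩ := hchars ↥A hAc (fun a => Subtype.ext (by simpa using hAp a a.2))
  have hG : Good K A :=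
    ⟨by rw [← Nat.card_eq_fintype_card]; exact hodd _ hAodd, hsep,
      by rw [← Nat.card_eq_fintype_card, ← Nat.card_eq_fintype_card]; exact hdual⟩
  haveI : Module.Finite (ZMod 2) K := Module.Finite.of_finite
  set k := Module.finrank (ZMod 2) K with hk
  have hkpos : 0 < k := Module.finrank_pos
  have hKcard : Nat.card K = 2 ^ k := by
    have := Module.natCard_eq_pow_finrank (K := ZMod 2) (V := K)
    rw [Nat.card_zmod] at this
    exact this
  have h2K : (2 : K) = 0 := by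
    have h := map_ofNat (algebraMap (ZMod 2) K) 2
    have h0 : (2 : ZMod 2) = 0 := by decide
    rw [← h, h0, map_zero]
  have h2W : ∀ x : W, x + x = 0 := fun x => by rw [← two_smul K x, h2K, zero_smul]
  -- `W` is nontrivial
  have hWcard : Nat.card W = Nat.card E ^ k := by
    have h1 := hcardfix ∅
    have e1 : Nat.card {x : W // ∀ t ∈ (∅ : Set S), σ t x = x} = Nat.card W :=
      Nat.card_congr (Equiv.subtypeUnivEquiv (fun x => by simp))
    have e2 : Nat.card {v : E // ∀ t ∈ (∅ : Set S), ρ t v = v} = Nat.card E :=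
      Nat.card_congr (Equiv.subtypeUnivEquiv (fun x => by simp))
    rw [e1, e2] at h1
    exact h1
  have hW : Nontrivial W := by
    rw [← Finite.one_lt_card_iff_nontrivial, hWcard]
    exact Nat.one_lt_pow hkpos.ne' Finite.one_lt_card
  -- `C_W(A) = 0`
  have hCA : ∀ x : W, (∀ a ∈ A, σ a x = x) → x = 0 := by
    have h1 := hcardfix (A : Set S)
    have h2' : Nat.card {v : E // ∀ t ∈ (A : Set S), ρ t v = v} = 1 := by
      rw [Nat.card_eq_one_iff_unique]
      refine ⟨⟨fun a b => Subtype.ext ?_⟩, ⟨⟨0, fun t _ => map_zero _⟩⟩⟩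
      rw [hfix a.1 (fun t ht => a.2 t ht), hfix b.1 (fun t ht => b.2 t ht)]
    rw [h2', one_pow] at h1
    intro x hx
    have hsub : Subsingleton {x : W // ∀ t ∈ (A : Set S), σ t x = x} :=
      (Nat.card_eq_one_iff_unique.1 h1).1
    have := congrArg Subtype.val
      (hsub.elim ⟨x, fun t ht => hx t ht⟩ ⟨0, fun t _ => map_zero _⟩)
    exact this
  obtain ⟨hc1, hc2⟩ := core σ A hG h2W hW S₂ Q h2 hq hq2 hQ hCA
    (fun χ h => char_trivial A Q hcomm χ h)
  set e0 := Nat.card {v : E // ∀ s ∈ S₂, ρ s v = v} with he0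
  have hC : Nat.card {x : W // ∀ t ∈ S₂, σ t x = x} = e0 ^ k := hcardfix (S₂ : Set S)
  -- `e0` is a power of two
  let E0 : Submodule (ZMod 2) E :=
    { carrier := {v | ∀ s ∈ S₂, ρ s v = v}
      add_mem' := by
        intro v w hv hw s hs
        rw [map_add, hv s hs, hw s hs]
      zero_mem' := by
        intro s _
        exact map_zero _
      smul_mem' := by
        intro c v hv s hs
        rw [map_smul, hv s hs] }
  obtain ⟨d, hd⟩ : ∃ d : ℕ, e0 = 2 ^ d := by
    refine ⟨Module.finrank (ZMod 2) ↥E0, ?_⟩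
    have := Module.natCard_eq_pow_finrank (K := ZMod 2) (V := ↥E0)
    rw [Nat.card_zmod] at this
    exact this
  rw [hC, hKcard, hd, ← pow_mul, ← pow_mul] at hc1
  have hd2 : 2 ≤ d := by
    have h := (Nat.pow_le_pow_iff_right (by norm_num : 1 < 2)).1 hc1
    by_contra hlt
    push_neg at hlt
    have : d * k < k * 2 := by nlinarith
    omega
  by_cases hd3 : 3 ≤ d
  · left
    rw [hd]
    calc 8 = 2 ^ 3 := by norm_num
      _ ≤ 2 ^ d := Nat.pow_le_pow_right (by norm_num) hd3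
  · right
    have hd' : d = 2 := by omega
    have he4 : e0 = 4 := by rw [hd, hd']; norm_num
    refine ⟨he4, ?_⟩
    by_contra hcon
    push_neg at hcon
    apply hc2
    · rw [hC, hKcard, he4]
      rw [← pow_mul, show (4 : ℕ) = 2 ^ 2 by norm_num, ← pow_mul, mul_comm]
    · intro y hy
      exact htransfer (S₂ : Set S) y (fun v hv => hcon y hy v hv)

end Cfsg.Agent.Helper2.Wt
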