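import Cfsg.Agent.Helper2.Wt_Core

/-!
# S4414, piece D: group-theoretic preparation
-/

set_option autoImplicit false

namespace Cfsg.Agent.Helper2.Wt

/-- A group of order `p` or `p^2` is commutative. -/
theorem comm_of_card {G : Type*} [Group G] {p : ℕ} (hp : p.Prime)
    (h : Nat.card G = p ∨ Nat.card G = p ^ 2) : ∀ a b : G, a * b = b * a := by
  haveI : Fact p.Prime := ⟨hp⟩
  rcases h with h | h
  · haveI : IsCyclic G := isCyclic_of_prime_card h
    intro a b
    exact (IsCyclic.isMulCommutative (α := G)).is_comm.comm a b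
  · exact (IsPGroup.isMulCommutative_of_card_eq_prime_sq h).is_comm.comm

/-- A minimal normal subgroup of order `p` or `p^2` has exponent `p`. -/
theorem pow_eq_one_of_minimal {S : Type*} [Group S] [Finite S] {p : ℕ} (hp : p.Prime)
    (A : Subgroup S) (hA : A.Normal)
    (hmin : ∀ N : Subgroup S, N.Normal → N ≤ A → N = ⊥ ∨ N = A)
    (hcard : Nat.card ↥A = p ∨ Nat.card ↥A = p ^ 2) : ∀ a ∈ A, a ^ p = 1 := by
  haveI : Fact p.Prime := ⟨hp⟩
  have hc := comm_of_card hp hcard
  let N : Subgroup S :=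
    { carrier := {a | a ∈ A ∧ a ^ p = 1}
      one_mem' := ⟨A.one_mem, one_pow p⟩
      mul_mem' := by
        rintro a b ⟨ha, ha1⟩ ⟨hb, hb1⟩
        refine ⟨A.mul_mem ha hb, ?_⟩
        have hcomm : Commute a b := by
          have := hc ⟨a, ha⟩ ⟨b, hb⟩
          exact congrArg Subtype.val this
        rw [hcomm.mul_pow, ha1, hb1, one_mul]
      inv_mem' := by
        rintro a ⟨ha, ha1⟩
        exact ⟨A.inv_mem ha, by rw [inv_pow, ha1, inv_one]⟩ }
  have hNn : N.Normal := by
    constructor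
    rintro a ⟨ha, ha1⟩ g
    refine ⟨hA.conj_mem a ha g, ?_⟩
    rw [conj_pow, ha1, mul_one, mul_inv_cancel]
  have hNle : N ≤ A := fun a ha => ha.1
  have hdvd : p ∣ Nat.card ↥A := by
    rcases hcard with h | h
    · rw [h]
    · rw [h]; exact dvd_pow_self p (by norm_num)
  obtain ⟨x, hx⟩ := exists_prime_orderOf_dvd_card' p hdvd
  have hxN : (x : S) ∈ N := by
    refine ⟨x.2, ?_⟩
    have : x ^ p = 1 := by rw [← hx]; exact pow_orderOf_eq_one x
    exact congrArg Subtype.val this
  rcases hmin N hNn hNle with h | h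
  · exfalso
    rw [h, Subgroup.mem_bot] at hxN
    have hx1 : x = 1 := Subtype.ext hxN
    rw [hx1, orderOf_one] at hx
    exact hp.one_lt.ne hx
  · intro a ha
    have : a ∈ N := by rw [h]; exact ha
    exact this.2

/-- The fixed points of a faithful non-trivial normal subgroup on an irreducible module
are trivial. -/
theorem fixed_eq_zero {S : Type*} [Group S] {E : Type*} [AddCommGroup E] [Module (ZMod 2) E]
    (ρ : Representation (ZMod 2) S E) (hE : Nontrivial E)
    (hirr : ∀ N : Submodule (ZMod 2) E, (∀ s : S, ∀ m ∈ N, ρ s m ∈ N) → N = ⊥ ∨ N = ⊤)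
    (A : Subgroup S) (hA : A.Normal) (hne : A ≠ ⊥)
    (hfaith : ∀ x ∈ A, ρ x = 1 → x = 1) :
    ∀ v : E, (∀ a ∈ A, ρ a v = v) → v = 0 := by
  let N : Submodule (ZMod 2) E :=
    { carrier := {v | ∀ a ∈ A, ρ a v = v}
      add_mem' := by
        intro v w hv hw a ha
        rw [map_add, hv a ha, hw a ha]
      zero_mem' := by
        intro a _
        exact map_zero _
      smul_mem' := by
        intro c v hv a ha
        rw [map_smul, hv a ha] }
  have hinv : ∀ s : S, ∀ m ∈ N, ρ s m ∈ N := by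
    intro s m hm a ha
    have h1 : s⁻¹ * a * s ∈ A := by
      have := hA.conj_mem a ha s⁻¹
      simpa using this
    have h2 := hm _ h1
    have h3 : ρ a (ρ s m) = ρ s (ρ (s⁻¹ * a * s) m) := by
      rw [← Module.End.mul_apply, ← Module.End.mul_apply, ← map_mul, ← map_mul]
      congr 2
      group
    rw [h3, h2]
  rcases hirr N hinv with h | h
  · intro v hv
    have : v ∈ N := hv
    rw [h] at this
    exact (Submodule.mem_bot _).1 this
  · exfalso
    apply hne
    rw [Subgroup.eq_bot_iff_forall]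
    intro a ha
    apply hfaith a ha
    ext v
    have : v ∈ N := by rw [h]; trivial
    exact this a ha

/-- A character of `A` fixed by `Q` is trivial when `[A, Q] = A`. -/
theorem char_trivial {K : Type*} [Field K] {S : Type*} [Group S] (A Q : Subgroup S) [A.Normal]
    (hcomm : ⁅A, Q⁆ = A) (χ : ↥A →* Kˣ) (hχ : ∀ y ∈ Q, twist A y χ = χ) : χ = 1 := by
  have hle : ⁅A, Q⁆ ≤ (χ.ker).map A.subtype := by
    rw [Subgroup.commutator_le]
    intro a ha y hy
    have hyinv : twist A y⁻¹ χ = χ := hχ y⁻¹ (Q.inv_mem hy)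
    have hmem : y * a⁻¹ * y⁻¹ ∈ A := by
      have := (inferInstance : A.Normal).conj_mem a⁻¹ (A.inv_mem ha) y
      exact this
    refine ⟨⟨a, ha⟩ * ⟨y * a⁻¹ * y⁻¹, hmem⟩, ?_, ?_⟩
    · rw [SetLike.mem_coe, MonoidHom.mem_ker, map_mul]
      have h1 : χ ⟨y * a⁻¹ * y⁻¹, hmem⟩ = twist A y⁻¹ χ ⟨a⁻¹, A.inv_mem ha⟩ := by
        unfold twist
        rw [MonoidHom.comp_apply]
        congr 1
        apply Subtype.ext
        simp [MulAut.conjNormal_apply]
      rw [h1, hyinv, ← map_mul]
      have : (⟨a, ha⟩ : ↥A) * ⟨a⁻¹, A.inv_mem ha⟩ = 1 := by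
        apply Subtype.ext
        simp
      rw [this, map_one]
    · simp [commutatorElement_def, mul_assoc]
  rw [hcomm] at hle
  ext a
  obtain ⟨b, hb, hba⟩ := hle a.2
  have : b = a := Subtype.ext hba
  rw [← this]
  have hb' : χ b = 1 := MonoidHom.mem_ker.1 hb
  rw [hb']
  rfl

end Cfsg.Agent.Helper2.Wt
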