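import Mathlib

/-!
# S4414, piece B: weight projections for a normal abelian subgroup

`σ : Representation K S W`, `A ⊴ S` finite, characters `χ : ↥A →* Kˣ`.
`proj χ = |A|⁻¹ ∑ₐ χ(a⁻¹) σ(a)`; `twist s χ = χ ∘ (conjugation by s⁻¹)`.
-/

set_option autoImplicit false

namespace Cfsg.Agent.Helper2.Wt

variable {K : Type*} [Field K] {S : Type*} [Group S]
  {W : Type*} [AddCommGroup W] [Module K W]
  (σ : Representation K S W) (A : Subgroup S) [A.Normal] [Fintype ↥A]

/-- The character `a ↦ χ (s⁻¹ a s)`. -/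
noncomputable def twist (s : S) (χ : ↥A →* Kˣ) : ↥A →* Kˣ :=
  χ.comp (MulAut.conjNormal (s⁻¹) : MulAut ↥A).toMonoidHom

omit [Fintype ↥A] in
theorem twist_apply (s : S) (χ : ↥A →* Kˣ) (a : ↥A) :
    ((twist A s χ a : Kˣ) : K) = ((χ (MulAut.conjNormal (s⁻¹) a) : Kˣ) : K) := rfl

omit [Fintype ↥A] in
theorem twist_one (χ : ↥A →* Kˣ) : twist A (1 : S) χ = χ := by
  ext a
  show ((χ (MulAut.conjNormal (1 : S)⁻¹ a) : Kˣ) : K) = ((χ a : Kˣ) : K)
  rw [inv_one, map_one, MulAut.one_apply]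

omit [Fintype ↥A] in
theorem twist_mul (s t : S) (χ : ↥A →* Kˣ) : twist A (s * t) χ = twist A s (twist A t χ) := by
  ext a
  show ((χ (MulAut.conjNormal (s * t)⁻¹ a) : Kˣ) : K) =
    ((χ (MulAut.conjNormal t⁻¹ (MulAut.conjNormal s⁻¹ a)) : Kˣ) : K)
  rw [mul_inv_rev, map_mul, MulAut.mul_apply]

/-- The projection onto the `χ`-weight space. -/
noncomputable def proj (χ : ↥A →* Kˣ) : W →ₗ[K] W :=
  ((Fintype.card ↥A : K))⁻¹ • ∑ a : ↥A, (((χ a⁻¹ : Kˣ) : K)) • σ (a : S)

theorem h4_proj_apply (χ : ↥A →* Kˣ) (x : W) :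
    proj σ A χ x = ((Fintype.card ↥A : K))⁻¹ • ∑ a : ↥A, (((χ a⁻¹ : Kˣ) : K)) • σ (a : S) x := by
  unfold proj
  rw [LinearMap.smul_apply, LinearMap.sum_apply]
  simp only [LinearMap.smul_apply]

/-- (B1) the image of `proj χ` lies in the `χ`-weight space. -/
theorem sigma_proj (χ : ↥A →* Kˣ) (b : ↥A) (x : W) :
    σ (b : S) (proj σ A χ x) = ((χ b : Kˣ) : K) • proj σ A χ x := by
  have key : σ (b : S) (∑ a : ↥A, (((χ a⁻¹ : Kˣ) : K)) • σ (a : S) x) =
      ((χ b : Kˣ) : K) • ∑ a : ↥A, (((χ a⁻¹ : Kˣ) : K)) • σ (a : S) x := by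
    rw [map_sum, Finset.smul_sum]
    calc ∑ a : ↥A, σ (b : S) ((((χ a⁻¹ : Kˣ) : K)) • σ (a : S) x)
        = ∑ a : ↥A, (((χ b : Kˣ) : K) • ((χ (b * a)⁻¹ : Kˣ) : K) • σ ((b * a : ↥A) : S) x) := by
          refine Finset.sum_congr rfl ?_
          intro a _
          rw [map_smul, smul_smul, Subgroup.coe_mul, map_mul σ]
          congr 1
          rw [mul_comm, ← Units.val_mul, ← map_mul]
          congr 2
          group
      _ = ∑ c : ↥A, (((χ b : Kˣ) : K) • ((χ c⁻¹ : Kˣ) : K) • σ (c : S) x) :=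
          Fintype.sum_equiv (Equiv.mulLeft b) _ _ (fun _ => rfl)
  rw [h4_proj_apply, map_smul, key, smul_comm]

/-- (B5) a `χ`-weight vector is fixed by `proj χ`. -/
theorem proj_of_weight (hcard : (Fintype.card ↥A : K) ≠ 0) (χ : ↥A →* Kˣ) (x : W)
    (hx : ∀ a : ↥A, σ (a : S) x = ((χ a : Kˣ) : K) • x) : proj σ A χ x = x := by
  rw [h4_proj_apply]
  have h1 : ∀ a : ↥A, (((χ a⁻¹ : Kˣ) : K)) • σ (a : S) x = x := by
    intro a
    rw [hx a, smul_smul, ← Units.val_mul, ← map_mul, inv_mul_cancel, map_one, Units.val_one,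
      one_smul]
  simp_rw [h1]
  rw [Finset.sum_const, Finset.card_univ, ← Nat.cast_smul_eq_nsmul K, smul_smul,
    inv_mul_cancel₀ hcard, one_smul]

theorem h4_proj_of_weight_ne (χ ψ : ↥A →* Kˣ) (h : χ ≠ ψ) (x : W)
    (hx : ∀ a : ↥A, σ (a : S) x = ((ψ a : Kˣ) : K) • x) : proj σ A χ x = 0 := by
  rw [h4_proj_apply]
  have h1 : ∀ a : ↥A, (((χ a⁻¹ : Kˣ) : K)) • σ (a : S) x = (((ψ * χ⁻¹) a : Kˣ) : K) • x := by
    intro a
    rw [hx a, smul_smul]
    congr 1
    rw [← Units.val_mul]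
    congr 1
    simp [mul_comm]
  simp_rw [h1]
  rw [← Finset.sum_smul]
  have h2 : ((Units.coeHom K).comp (ψ * χ⁻¹)) ≠ 1 := by
    intro h3
    apply h
    ext a
    have := DFunLike.congr_fun h3 a
    simp only [MonoidHom.coe_comp, Function.comp_apply, Units.coeHom_apply, MonoidHom.mul_apply,
      MonoidHom.inv_apply, MonoidHom.one_apply] at this
    have h4 : ψ a * (χ a)⁻¹ = 1 := Units.ext this
    rw [mul_inv_eq_one] at h4
    rw [h4]
  have := sum_hom_units_eq_zero ((Units.coeHom K).comp (ψ * χ⁻¹)) h2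
  simp only [MonoidHom.coe_comp, Function.comp_apply, Units.coeHom_apply] at this
  rw [this, zero_smul, smul_zero]

/-- (B3) orthogonality of the projections. -/
theorem proj_proj_of_ne (hcard : (Fintype.card ↥A : K) ≠ 0) (χ ψ : ↥A →* Kˣ) (h : χ ≠ ψ) (x : W) :
    proj σ A χ (proj σ A ψ x) = 0 :=
  h4_proj_of_weight_ne σ A χ ψ h _ (fun a => sigma_proj σ A ψ a x)

theorem proj_proj_self (hcard : (Fintype.card ↥A : K) ≠ 0) (χ : ↥A →* Kˣ) (x : W) :
    proj σ A χ (proj σ A χ x) = proj σ A χ x :=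
  proj_of_weight σ A hcard χ _ (fun a => sigma_proj σ A χ a x)

/-- (B4) `σ s` carries the `χ`-component to the `twist s χ`-component. -/
theorem sigma_proj_twist (s : S) (χ : ↥A →* Kˣ) (x : W) :
    σ s (proj σ A χ x) = proj σ A (twist A s χ) (σ s x) := by
  rw [h4_proj_apply, h4_proj_apply, map_smul, map_sum]
  congr 1
  calc ∑ a : ↥A, σ s ((((χ a⁻¹ : Kˣ) : K)) • σ (a : S) x)
      = ∑ a : ↥A, (((twist A s χ (MulAut.conjNormal s a)⁻¹ : Kˣ) : K)) •
          σ ((MulAut.conjNormal s a : ↥A) : S) (σ s x) := by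
        refine Finset.sum_congr rfl ?_
        intro a _
        rw [map_smul, twist_apply]
        congr 1
        · congr 3
          apply Subtype.ext
          simp [MulAut.conjNormal_apply, mul_assoc]
        · rw [MulAut.conjNormal_apply, ← Module.End.mul_apply, ← Module.End.mul_apply, ← map_mul,
            ← map_mul]
          congr 2
          group
    _ = ∑ c : ↥A, (((twist A s χ c⁻¹ : Kˣ) : K)) • σ (c : S) (σ s x) :=
        Fintype.sum_equiv (MulAut.conjNormal s : MulAut ↥A).toEquiv _ _ (fun _ => rfl)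

/-- (B2) completeness: the projections sum to the identity.  `hsep`: characters separate the
points of `A`; `hdual`: there are exactly `|A|` characters. -/
theorem sum_proj [Fintype (↥A →* Kˣ)] (hcard : (Fintype.card ↥A : K) ≠ 0)
    (hsep : ∀ a : ↥A, a ≠ 1 → ∃ φ : ↥A →* Kˣ, φ a ≠ 1)
    (hdual : Fintype.card (↥A →* Kˣ) = Fintype.card ↥A) (x : W) :
    ∑ χ : ↥A →* Kˣ, proj σ A χ x = x := by
  classical
  simp_rw [h4_proj_apply]
  rw [← Finset.smul_sum, Finset.sum_comm]
  have h1 : ∀ a : ↥A, ∑ χ : ↥A →* Kˣ, (((χ a⁻¹ : Kˣ) : K)) • σ (a : S) x =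
      if a = 1 then (Fintype.card ↥A : K) • x else 0 := by
    intro a
    rw [← Finset.sum_smul]
    split_ifs with ha
    · subst ha
      simp only [inv_one, map_one, Units.val_one, Finset.sum_const, Finset.card_univ, hdual,
        Subgroup.coe_one, map_one, Module.End.one_apply]
      rw [nsmul_eq_mul, mul_one]
    · let ev : (↥A →* Kˣ) →* K :=
        { toFun := fun χ => ((χ a⁻¹ : Kˣ) : K)
          map_one' := by simp
          map_mul' := by intro χ ψ; simp }
      have hev : ev ≠ 1 := by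
        intro h
        obtain ⟨φ, hφ⟩ := hsep a⁻¹ (by simpa using ha)
        apply hφ
        have := DFunLike.congr_fun h φ
        simp only [ev, MonoidHom.coe_mk, OneHom.coe_mk, MonoidHom.one_apply] at this
        exact Units.ext this
      have := sum_hom_units_eq_zero ev hev
      simp only [ev, MonoidHom.coe_mk, OneHom.coe_mk] at this
      rw [this, zero_smul]
  simp_rw [h1]
  rw [Finset.sum_ite_eq' Finset.univ (1 : ↥A), if_pos (Finset.mem_univ _), smul_smul,
    inv_mul_cancel₀ hcard, one_smul]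

end Cfsg.Agent.Helper2.Wt
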