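import Cfsg.Agent.Helper2.Wt_Proj

/-!
# S4414, piece D: supports with respect to the weight projections
-/

set_option autoImplicit false

namespace Cfsg.Agent.Helper2.Wt

variable {K : Type*} [Field K] {S : Type*} [Group S]
  {W : Type*} [AddCommGroup W] [Module K W]
  (σ : Representation K S W) (A : Subgroup S) [A.Normal] [Fintype ↥A] [Fintype (↥A →* Kˣ)]
  [DecidableEq (↥A →* Kˣ)]

/-- The hypotheses under which the weight projections form a complete orthogonal system. -/
structure Good (K : Type*) [Field K] {S : Type*} [Group S] (A : Subgroup S) [Fintype ↥A]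
    [Fintype (↥A →* Kˣ)] : Prop where
  hcard : (Fintype.card ↥A : K) ≠ 0
  hsep : ∀ a : ↥A, a ≠ 1 → ∃ φ : ↥A →* Kˣ, φ a ≠ 1
  hdual : Fintype.card (↥A →* Kˣ) = Fintype.card ↥A

omit [Fintype ↥A] [Fintype (↥A →* Kˣ)] [DecidableEq (↥A →* Kˣ)] in
theorem twist_inv_twist (s : S) (χ : ↥A →* Kˣ) : twist A s⁻¹ (twist A s χ) = χ := by
  rw [← twist_mul, inv_mul_cancel, twist_one]

omit [Fintype ↥A] [Fintype (↥A →* Kˣ)] [DecidableEq (↥A →* Kˣ)] in
theorem twist_twist_inv (s : S) (χ : ↥A →* Kˣ) : twist A s (twist A s⁻¹ χ) = χ := by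
  rw [← twist_mul, mul_inv_cancel, twist_one]

omit [Fintype ↥A] [Fintype (↥A →* Kˣ)] [DecidableEq (↥A →* Kˣ)] in
theorem twist_injective (s : S) : Function.Injective (twist (K := K) A s) := by
  intro χ ψ h
  have := congrArg (twist A s⁻¹) h
  simpa [twist_inv_twist] using this

omit [Fintype (↥A →* Kˣ)] [DecidableEq (↥A →* Kˣ)] [A.Normal] [Fintype ↥A] in
theorem sigma_injective (s : S) : Function.Injective (σ s) := by
  intro x y h
  have := congrArg (σ s⁻¹) h
  have e : ∀ z, σ s⁻¹ (σ s z) = z := by
    intro z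
    have : (σ s⁻¹ * σ s) z = z := by rw [← map_mul, inv_mul_cancel, map_one]; rfl
    simpa using this
  simpa [e] using this

open Classical in
/-- The set of characters `χ` with non-zero `χ`-component. -/
noncomputable def supp (x : W) : Finset (↥A →* Kˣ) :=
  Finset.univ.filter (fun χ => proj σ A χ x ≠ 0)

theorem mem_supp {x : W} {χ : ↥A →* Kˣ} : χ ∈ supp σ A x ↔ proj σ A χ x ≠ 0 := by
  classical
  simp [supp]

theorem supp_zero : supp σ A (0 : W) = ∅ := by
  classical
  ext χ
  simp [mem_supp]

theorem supp_eq_empty (hG : Good K A) {x : W} : supp σ A x = ∅ ↔ x = 0 := by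
  classical
  constructor
  · intro h
    rw [← sum_proj σ A hG.hcard hG.hsep hG.hdual x]
    apply Finset.sum_eq_zero
    intro χ _
    by_contra hne
    have : χ ∈ supp σ A x := (mem_supp σ A).2 hne
    rw [h] at this
    simp at this
  · rintro rfl
    exact supp_zero σ A

theorem supp_sigma (s : S) (x : W) :
    supp σ A (σ s x) = (supp σ A x).image (twist A s) := by
  classical
  ext χ
  rw [Finset.mem_image, mem_supp]
  constructor
  · intro h
    refine ⟨twist A s⁻¹ χ, ?_, twist_twist_inv A s χ⟩
    rw [mem_supp]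
    intro h0
    apply h
    have := sigma_proj_twist σ A s (twist A s⁻¹ χ) x
    rw [twist_twist_inv, h0, map_zero] at this
    exact this.symm
  · rintro ⟨ψ, hψ, rfl⟩
    rw [mem_supp] at hψ
    rw [← sigma_proj_twist]
    intro h0
    apply hψ
    exact sigma_injective σ s (by rw [h0, map_zero])

theorem supp_add_subset (x y : W) : supp σ A (x + y) ⊆ supp σ A x ∪ supp σ A y := by
  classical
  intro χ h
  rw [mem_supp, map_add] at h
  rw [Finset.mem_union, mem_supp, mem_supp]
  by_contra hc
  push_neg at hc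
  apply h
  rw [hc.1, hc.2, add_zero]

theorem supp_smul {c : K} (hc : c ≠ 0) (x : W) : supp σ A (c • x) = supp σ A x := by
  classical
  ext χ
  rw [mem_supp, mem_supp, map_smul, Ne, smul_eq_zero]
  simp [hc]

theorem supp_smul_subset (c : K) (x : W) : supp σ A (c • x) ⊆ supp σ A x := by
  classical
  by_cases hc : c = 0
  · subst hc
    rw [zero_smul, supp_zero]
    exact Finset.empty_subset _
  · rw [supp_smul σ A hc]

theorem supp_add_of_disjoint {x y : W} (h : Disjoint (supp σ A x) (supp σ A y)) :
    supp σ A (x + y) = supp σ A x ∪ supp σ A y := by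
  classical
  apply Finset.Subset.antisymm (supp_add_subset σ A x y)
  intro χ hχ
  rw [Finset.mem_union] at hχ
  rw [mem_supp, map_add]
  rcases hχ with hχ | hχ
  · have : χ ∉ supp σ A y := Finset.disjoint_left.1 h hχ
    rw [mem_supp, not_not] at this
    rw [this, add_zero]
    exact (mem_supp σ A).1 hχ
  · have : χ ∉ supp σ A x := Finset.disjoint_right.1 h hχ
    rw [mem_supp, not_not] at this
    rw [this, zero_add]
    exact (mem_supp σ A).1 hχ

/-- The projection onto the sum of the weight spaces indexed by `J`. -/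
noncomputable def projJ (J : Finset (↥A →* Kˣ)) : W →ₗ[K] W := ∑ χ ∈ J, proj σ A χ

theorem projJ_apply (J : Finset (↥A →* Kˣ)) (x : W) :
    projJ σ A J x = ∑ χ ∈ J, proj σ A χ x := by
  simp [projJ, LinearMap.sum_apply]

theorem proj_projJ (hG : Good K A) (χ : ↥A →* Kˣ) (J : Finset (↥A →* Kˣ)) (x : W) :
    proj σ A χ (projJ σ A J x) = if χ ∈ J then proj σ A χ x else 0 := by
  classical
  rw [projJ_apply, map_sum]
  split_ifs with h
  · rw [Finset.sum_eq_single χ]
    · exact proj_proj_self σ A hG.hcard χ x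
    · intro ψ _ hne
      exact proj_proj_of_ne σ A hG.hcard χ ψ (Ne.symm hne) x
    · intro h'
      exact absurd h h'
  · apply Finset.sum_eq_zero
    intro ψ hψ
    apply proj_proj_of_ne σ A hG.hcard
    rintro rfl
    exact h hψ

theorem supp_projJ (hG : Good K A) (J : Finset (↥A →* Kˣ)) (x : W) :
    supp σ A (projJ σ A J x) = supp σ A x ∩ J := by
  classical
  ext χ
  rw [Finset.mem_inter, mem_supp, mem_supp, proj_projJ σ A hG]
  by_cases h : χ ∈ J <;> simp [h]

theorem projJ_eq_self (hG : Good K A) {J : Finset (↥A →* Kˣ)} {x : W}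
    (h : supp σ A x ⊆ J) : projJ σ A J x = x := by
  classical
  have h1 : supp σ A (projJ σ A J x - x) = ∅ := by
    ext χ
    simp only [Finset.notMem_empty, iff_false]
    rw [mem_supp, not_not, map_sub, proj_projJ σ A hG]
    by_cases hχ : χ ∈ J
    · simp [hχ]
    · have : χ ∉ supp σ A x := fun h' => hχ (h h')
      rw [mem_supp, not_not] at this
      simp [hχ, this]
  have := (supp_eq_empty σ A hG).1 h1
  exact sub_eq_zero.1 this

theorem sigma_projJ (s : S) (J : Finset (↥A →* Kˣ)) (hJ : ∀ χ ∈ J, twist A s χ ∈ J) (x : W) :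
    σ s (projJ σ A J x) = projJ σ A J (σ s x) := by
  classical
  rw [projJ_apply, projJ_apply, map_sum]
  have himg : J.image (twist A s) = J := by
    apply Finset.eq_of_subset_of_card_le
    · intro χ hχ
      obtain ⟨ψ, hψ, rfl⟩ := Finset.mem_image.1 hχ
      exact hJ ψ hψ
    · rw [Finset.card_image_of_injective _ (twist_injective A s)]
  calc ∑ χ ∈ J, σ s (proj σ A χ x) = ∑ χ ∈ J, proj σ A (twist A s χ) (σ s x) := by
        apply Finset.sum_congr rfl
        intro χ _
        exact sigma_proj_twist σ A s χ x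
    _ = ∑ χ ∈ J.image (twist A s), proj σ A χ (σ s x) := by
        rw [Finset.sum_image]
        intro a _ b _ hab
        exact twist_injective A s hab
    _ = ∑ χ ∈ J, proj σ A χ (σ s x) := by rw [himg]

end Cfsg.Agent.Helper2.Wt
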