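import Mathlib
import Cfsg.Agent.Helper2.ZStarH

set_option autoImplicit false
set_option linter.style.haveILetI false

/-!
# Weak closure from the "central intersection" hypothesis
-/

namespace Cfsg.Agent.Helper2.ZStar

open Cfsg.Agent.Helper2 Cfsg.Agent.Helper1

variable {G : Type*} [Group G]

/-- The involution of a cyclic characteristic subgroup of `S` is fixed by `N_G(S)`. -/
theorem char_invol_fixed {S : Subgroup G} [Finite S] (C : Subgroup S) (hCc : IsCyclic C)
    (hCh : C.Characteristic) (c : S) (hc : c ∈ C) (hc2 : orderOf c = 2) (n : G)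
    (hn : n ∈ Subgroup.normalizer (S : Set G)) : n * (c : G) * n⁻¹ = c := by
  have hn' := Subgroup.mem_normalizer_iff.mp hn
  have hninv : n⁻¹ ∈ Subgroup.normalizer (S : Set G) := Subgroup.inv_mem _ hn
  have hn'' := Subgroup.mem_normalizer_iff.mp hninv
  let φ : S ≃* S :=
    { toFun := fun s => ⟨n * s * n⁻¹, (hn' s).mp s.2⟩
      invFun := fun s => ⟨n⁻¹ * s * n, by
        have := (hn'' s).mp s.2
        rwa [inv_inv] at this⟩
      left_inv := fun s => by apply Subtype.ext; simp; group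
      right_inv := fun s => by apply Subtype.ext; simp; group
      map_mul' := fun a b => by apply Subtype.ext; simp }
  have hφc : φ c ∈ C := by
    have h1 := Subgroup.characteristic_iff_map_eq.mp hCh φ
    rw [← h1]
    exact ⟨c, hc, rfl⟩
  have ho : orderOf (φ c) = 2 := by rw [MulEquiv.orderOf_eq]; exact hc2
  -- uniqueness of the involution in a cyclic group
  haveI := hCc
  haveI : Fintype C := Fintype.ofFinite C
  have hd : 2 ∣ Fintype.card C := by
    have h1 : orderOf (⟨c, hc⟩ : C) = 2 := by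
      rw [← hc2]; exact (Subgroup.orderOf_mk c hc)
    rw [← h1]
    exact orderOf_dvd_card
  have hcard := IsCyclic.card_orderOf_eq_totient (α := C) hd
  rw [Nat.totient_two] at hcard
  have h1 : (⟨c, hc⟩ : C) ∈ Finset.univ.filter (fun a : C => orderOf a = 2) := by
    rw [Finset.mem_filter]
    refine ⟨Finset.mem_univ _, ?_⟩
    rw [← hc2]; exact (Subgroup.orderOf_mk c hc)
  have h2 : (⟨φ c, hφc⟩ : C) ∈ Finset.univ.filter (fun a : C => orderOf a = 2) := by
    rw [Finset.mem_filter]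
    refine ⟨Finset.mem_univ _, ?_⟩
    rw [← ho]; exact (Subgroup.orderOf_mk _ hφc)
  have h3 := Finset.card_le_one.mp hcard.le _ h2 _ h1
  have h4 : φ c = c := congrArg Subtype.val h3
  exact congrArg Subtype.val h4

variable [Finite G]

/-- Burnside: a conjugate of an `N_G(S)`-fixed element of `S` lying in the centre of a Sylow
subgroup `U = h • S` is `h c h⁻¹`. -/
theorem conj_mem_center_eq {p : ℕ} [Fact p.Prime] (S : Sylow p G) (c : G) (hcS : c ∈ S)
    (hN : ∀ n ∈ Subgroup.normalizer ((S : Subgroup G) : Set G), n * c * n⁻¹ = c)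
    (U : Sylow p G) (h : G) (hU : h • S = U) (k : G)
    (hk : k * c * k⁻¹ ∈ (Subgroup.center ↥(U : Subgroup G)).map (U : Subgroup G).subtype) :
    k * c * k⁻¹ = h * c * h⁻¹ := by
  have hcC : c ∈ Subgroup.centralizer ((S : Subgroup G) : Set G) := by
    rw [Subgroup.mem_centralizer_iff]
    intro s hs
    have := hN s (Subgroup.le_normalizer hs)
    calc s * c = s * c * s⁻¹ * s := by group
      _ = c * s := by rw [this]
  obtain ⟨⟨a, haU⟩, haZ, hak⟩ := hk
  have hak' : a = k * c * k⁻¹ := hak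
  have hkC : (h⁻¹ * k)⁻¹⁻¹ * c * (h⁻¹ * k)⁻¹ ∈ Subgroup.centralizer ((S : Subgroup G) : Set G) := by
    rw [Subgroup.mem_centralizer_iff]
    intro s hs
    have hsU : h * s * h⁻¹ ∈ (U : Subgroup G) := by
      rw [← hU, Sylow.coe_subgroup_smul, Subgroup.mem_pointwise_smul_iff_inv_smul_mem]
      have : (MulAut.conj h)⁻¹ • (h * s * h⁻¹) = s := by
        rw [← map_inv, MulAut.smul_def, MulAut.conj_apply]; group
      rw [this]; exact hs
    have h1 := Subgroup.mem_center_iff.mp haZ ⟨h * s * h⁻¹, hsU⟩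
    have h2 : h * s * h⁻¹ * a = a * (h * s * h⁻¹) := congrArg Subtype.val h1
    rw [hak'] at h2
    calc s * ((h⁻¹ * k)⁻¹⁻¹ * c * (h⁻¹ * k)⁻¹)
        = h⁻¹ * (h * s * h⁻¹ * (k * c * k⁻¹)) * h := by group
      _ = h⁻¹ * (k * c * k⁻¹ * (h * s * h⁻¹)) * h := by rw [h2]
      _ = (h⁻¹ * k)⁻¹⁻¹ * c * (h⁻¹ * k)⁻¹ * s := by group
  obtain ⟨n, hn, hneq⟩ := S.conj_eq_normalizer_conj_of_mem_centralizer c (h⁻¹ * k)⁻¹ hcC hkC
  have h3 : n⁻¹ * c * n = c := by
    have := hN n⁻¹ (Subgroup.inv_mem _ hn)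
    rwa [inv_inv] at this
  rw [h3] at hneq
  calc k * c * k⁻¹ = h * ((h⁻¹ * k)⁻¹⁻¹ * c * (h⁻¹ * k)⁻¹) * h⁻¹ := by group
    _ = h * c * h⁻¹ := by rw [hneq]

end Cfsg.Agent.Helper2.ZStar
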