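import Mathlib
import Cfsg.Agent.Helper2.ZStarI
import Cfsg.Agent.Helper1.Basic

set_option autoImplicit false
set_option linter.style.haveILetI false

/-!
# Weak closure from the "central intersection" hypothesis: main argument
-/

namespace Cfsg.Agent.Helper2.ZStar

open Cfsg.Agent.Helper2 Cfsg.Agent.Helper1

variable {G : Type*} [Group G] [Finite G]

/-- If the intersection of any two distinct Sylow `p`-subgroups lies in the centre of some Sylow
`p`-subgroup, then an element of `S` fixed by `N_G(S)` is weakly closed in `S`. -/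
theorem wc_of_central_inter {p : ℕ} [Fact p.Prime] (S : Sylow p G)
    (hCI : ∀ S T : Sylow p G, S ≠ T → ∃ U : Sylow p G,
      (S : Subgroup G) ⊓ (T : Subgroup G) ≤
        (Subgroup.center ↥(U : Subgroup G)).map (U : Subgroup G).subtype)
    (c : G) (hcS : c ∈ S)
    (hN : ∀ n ∈ Subgroup.normalizer ((S : Subgroup G) : Set G), n * c * n⁻¹ = c) :
    ∀ (d : ℕ) (g : G), Nat.card (S : Subgroup G) -
        Nat.card ((S : Subgroup G) ⊓ ((g • S : Sylow p G) : Subgroup G) : Subgroup G) = d →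
      g * c * g⁻¹ ∈ S → g * c * g⁻¹ = c := by
  intro d
  induction d using Nat.strong_induction_on with
  | _ d IH =>
  intro g hd hgS
  set T : Sylow p G := g • S with hT
  by_cases hST : S = T
  · have : g ∈ Subgroup.normalizer ((S : Subgroup G) : Set G) :=
      Sylow.smul_eq_iff_mem_normalizer.mp hST.symm
    exact hN g this
  obtain ⟨U, hU⟩ := hCI S T hST
  obtain ⟨h, hh⟩ := MulAction.exists_smul_eq G S U
  set a := g * c * g⁻¹ with ha
  have haT : a ∈ (T : Subgroup G) := by
    rw [hT, Sylow.coe_subgroup_smul, Subgroup.mem_pointwise_smul_iff_inv_smul_mem]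
    have : (MulAut.conj g)⁻¹ • a = c := by
      rw [← map_inv, MulAut.smul_def, MulAut.conj_apply, ha]; group
    rw [this]; exact hcS
  have haD : a ∈ (S : Subgroup G) ⊓ T := ⟨hgS, haT⟩
  have hah : a = h * c * h⁻¹ := conj_mem_center_eq S c hcS hN U h hh g (hU haD)
  set D := (S : Subgroup G) ⊓ T with hD
  have hUD : ∀ u ∈ (U : Subgroup G), ∀ w ∈ D, u * w = w * u := by
    intro u hu w hw
    obtain ⟨⟨w', hw'U⟩, hw'Z, hw'eq⟩ := hU hw
    have hw'' : w' = w := hw'eq
    have := Subgroup.mem_center_iff.mp hw'Z ⟨u, hu⟩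
    have h2 : u * w' = w' * u := congrArg Subtype.val this
    rw [hw''] at h2; exact h2
  set L := Subgroup.normalizer (D : Set G) with hL
  have hUL : (U : Subgroup G) ≤ L := by
    intro u hu
    rw [hL, Subgroup.mem_normalizer_iff]
    intro w
    constructor
    · intro hw
      have : u * w * u⁻¹ = w := by rw [hUD u hu w hw]; group
      rw [this]; exact hw
    · intro hw
      have h1 := hUD u hu _ hw
      have : w = u * w * u⁻¹ := by
        have h2 : u * (u * w * u⁻¹) = u * w := by rw [h1]; group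
        exact (mul_left_cancel h2).symm
      rw [this]; exact hw
  have hDS : D < (S : Subgroup G) := by
    refine lt_of_le_of_ne inf_le_left ?_
    intro heq
    apply hST
    have hle : (S : Subgroup G) ≤ T := by rw [← heq]; exact inf_le_right
    exact Sylow.ext (S.3 T.2 hle).symm
  obtain ⟨s, hsS, hsL, hsD⟩ : ∃ s ∈ (S : Subgroup G), s ∈ L ∧ s ∉ D := by
    haveI : Group.IsNilpotent (S : Subgroup G) := S.2.isNilpotent
    have hnc := normalizerCondition_of_isNilpotent (G := (S : Subgroup G))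
    have hlt : D.subgroupOf S < ⊤ := by
      rw [lt_top_iff_ne_top]
      intro htop
      rw [Subgroup.subgroupOf_eq_top] at htop
      exact absurd htop hDS.not_ge
    have h1 := hnc _ hlt
    obtain ⟨s, hsN, hsD⟩ := SetLike.exists_of_lt h1
    refine ⟨s, s.2, ?_, fun h => hsD (Subgroup.mem_subgroupOf.mpr h)⟩
    rw [hL, Subgroup.mem_normalizer_iff]
    have hsN' := Subgroup.mem_normalizer_iff.mp hsN
    intro w
    constructor
    · intro hw
      have hwS : w ∈ (S : Subgroup G) := hDS.le hw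
      have := (hsN' ⟨w, hwS⟩).mp (Subgroup.mem_subgroupOf.mpr hw)
      exact Subgroup.mem_subgroupOf.mp this
    · intro hw
      have hwS : w ∈ (S : Subgroup G) := by
        have h1 : (s : G) * w * (s : G)⁻¹ ∈ (S : Subgroup G) := hDS.le hw
        have : w = (s : G)⁻¹ * ((s : G) * w * (s : G)⁻¹) * s := by group
        rw [this]
        exact mul_mem (mul_mem (inv_mem s.2) h1) s.2
      have := (hsN' ⟨w, hwS⟩).mpr (Subgroup.mem_subgroupOf.mpr hw)
      exact Subgroup.mem_subgroupOf.mp this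
  set D₁ := (S : Subgroup G) ⊓ L with hD₁
  have hp1 : IsPGroup p (D₁.subgroupOf L) := (S.2.to_le inf_le_left).comap_subtype
  obtain ⟨Q, hQ⟩ := hp1.exists_le_sylow
  obtain ⟨m, hm⟩ := MulAction.exists_smul_eq L (U.subtype hUL) Q
  have hD₁U : ∀ w ∈ D₁, (m : G)⁻¹ * w * m ∈ (U : Subgroup G) := by
    intro w hw
    have hwL : w ∈ L := hw.2
    have h1 : (⟨w, hwL⟩ : L) ∈ (Q : Subgroup L) := hQ (Subgroup.mem_subgroupOf.mpr hw)
    rw [← hm, Sylow.coe_subgroup_smul, Subgroup.mem_pointwise_smul_iff_inv_smul_mem] at h1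
    rw [← map_inv, MulAut.smul_def, MulAut.conj_apply, inv_inv] at h1
    rw [Sylow.coe_subtype, Subgroup.mem_subgroupOf] at h1
    simpa using h1
  set g₁ := (m : G) * h with hg₁
  have hD₁S₁ : D₁ ≤ ((g₁ • S : Sylow p G) : Subgroup G) := by
    intro w hw
    rw [Sylow.coe_subgroup_smul, Subgroup.mem_pointwise_smul_iff_inv_smul_mem]
    rw [← map_inv, MulAut.smul_def, MulAut.conj_apply, inv_inv]
    have h1 := hD₁U w hw
    rw [← hh, Sylow.coe_subgroup_smul, Subgroup.mem_pointwise_smul_iff_inv_smul_mem] at h1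
    rw [← map_inv, MulAut.smul_def, MulAut.conj_apply, inv_inv] at h1
    have : g₁⁻¹ * w * g₁ = h⁻¹ * ((m : G)⁻¹ * w * m) * h := by rw [hg₁]; group
    rw [this]; exact h1
  have ha₁ : g₁ * c * g₁⁻¹ = (m : G) * a * (m : G)⁻¹ := by rw [hah, hg₁]; group
  have ha₁D : g₁ * c * g₁⁻¹ ∈ D := by
    rw [ha₁]
    exact (Subgroup.mem_normalizer_iff.mp m.2 a).mp haD
  have hDle : D ≤ (S : Subgroup G) ⊓ ((g₁ • S : Sylow p G) : Subgroup G) :=
    le_inf hDS.le (le_trans (le_inf hDS.le Subgroup.le_normalizer) hD₁S₁)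
  have hDlt : D < (S : Subgroup G) ⊓ ((g₁ • S : Sylow p G) : Subgroup G) := by
    refine lt_of_le_of_ne hDle ?_
    intro heq
    apply hsD
    rw [heq]
    exact ⟨hsS, hD₁S₁ ⟨hsS, hsL⟩⟩
  have hcard1 := card_lt_card_of_lt hDlt
  have hcard2 : Nat.card ((S : Subgroup G) ⊓ ((g₁ • S : Sylow p G) : Subgroup G) : Subgroup G) ≤
      Nat.card (S : Subgroup G) := Subgroup.card_le_of_le inf_le_left
  have h5 := IH (Nat.card (S : Subgroup G) -
      Nat.card ((S : Subgroup G) ⊓ ((g₁ • S : Sylow p G) : Subgroup G) : Subgroup G))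
    (by omega) g₁ rfl (hDS.le ha₁D)
  have hcD : c ∈ D := by rw [← h5]; exact ha₁D
  have h6 := conj_mem_center_eq S c hcS hN U h hh 1 (by simpa using hU hcD)
  rw [hah, ← h6]; group

/-- Usable form. -/
theorem wc_of_central_inter' {p : ℕ} [Fact p.Prime] (S : Sylow p G)
    (hCI : ∀ S T : Sylow p G, S ≠ T → ∃ U : Sylow p G,
      (S : Subgroup G) ⊓ (T : Subgroup G) ≤
        (Subgroup.center ↥(U : Subgroup G)).map (U : Subgroup G).subtype)
    (c : G) (hcS : c ∈ S)
    (hN : ∀ n ∈ Subgroup.normalizer ((S : Subgroup G) : Set G), n * c * n⁻¹ = c)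
    (g : G) (hg : g * c * g⁻¹ ∈ S) : g * c * g⁻¹ = c :=
  wc_of_central_inter S hCI c hcS hN _ g rfl hg

end Cfsg.Agent.Helper2.ZStar
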