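import Mathlib
import Cfsg.Agent.Helper2.ZStarH

set_option autoImplicit false
set_option linter.style.haveILetI false

/-!
# Isolated involutions: invariant Sylow subgroups
-/

namespace Cfsg.Agent.Helper2.ZStar

open Cfsg.Agent.Helper2 Cfsg.Agent.Helper1
open scoped Pointwise

variable {G : Type*} [Group G]

/-- Conjugation by an element of the normalizer, as an automorphism of the subgroup. -/
def conjEquiv (H : Subgroup G) (n : G) (hn : n ∈ Subgroup.normalizer (H : Set G)) : H ≃* H where
  toFun s := ⟨n * s * n⁻¹, (Subgroup.mem_normalizer_iff.mp hn s).mp s.2⟩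
  invFun s := ⟨n⁻¹ * s * n, by
    have := (Subgroup.mem_normalizer_iff.mp (Subgroup.inv_mem _ hn) s).mp s.2
    rwa [inv_inv] at this⟩
  left_inv s := by apply Subtype.ext; simp; group
  right_inv s := by apply Subtype.ext; simp; group
  map_mul' a b := by apply Subtype.ext; simp

@[simp] theorem conjEquiv_apply (H : Subgroup G) (n : G)
    (hn : n ∈ Subgroup.normalizer (H : Set G)) (s : H) :
    ((conjEquiv H n hn s : H) : G) = n * s * n⁻¹ := rfl

/-- An involution normalizing a subgroup `M` of odd order normalizes some Sylow `p`-subgroup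
of `M`. -/
theorem exists_invariant_sylow_of_odd [Finite G] {p : ℕ} [Fact p.Prime] (M : Subgroup G)
    (hM : Odd (Nat.card M)) (z : G) (hzz : z * z = 1)
    (hzM : z ∈ Subgroup.normalizer (M : Set G)) :
    ∃ R : Sylow p M, ∀ r : M, r ∈ R → (conjEquiv M z hzM r) ∈ R := by
  haveI : Fact (Nat.Prime 2) := ⟨Nat.prime_two⟩
  set φ : MulAut M := conjEquiv M z hzM with hφ
  have hφ2 : φ * φ = 1 := by
    ext s
    show ((φ (φ s) : M) : G) = s
    rw [hφ, conjEquiv_apply, conjEquiv_apply]
    calc z * (z * s * z⁻¹) * z⁻¹ = (z * z) * s * (z * z)⁻¹ := by group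
      _ = s := by rw [hzz]; group
  have hA : IsPGroup 2 (Subgroup.zpowers φ) := by
    apply isPGroup_zpowers_of_pow φ 1
    rw [pow_one, pow_two]; exact hφ2
  have hcard : ¬ 2 ∣ Nat.card (Sylow p M) := by
    intro h2
    obtain ⟨R₀⟩ : Nonempty (Sylow p M) := inferInstance
    have h3 : Nat.card (Sylow p M) ∣ Nat.card M :=
      (Sylow.card_dvd_index R₀).trans (Subgroup.index_dvd_card _)
    have h4 : 2 ∣ Nat.card M := h2.trans h3
    exact (Nat.not_even_iff_odd.mpr hM) (even_iff_two_dvd.mpr h4)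
  obtain ⟨R, hR⟩ := hA.nonempty_fixed_point_of_prime_not_dvd_card (Sylow p M) hcard
  refine ⟨R, fun r hr => ?_⟩
  have h1 : (⟨φ, Subgroup.mem_zpowers φ⟩ : Subgroup.zpowers φ) • R = R := hR _
  have h2 : φ • R = R := h1
  have h3 : φ • (R : Subgroup M) = (R : Subgroup M) := by
    rw [← Sylow.pointwise_smul_def, h2]
  rw [← SetLike.mem_coe, ← Sylow.coe_coe] 
  show φ r ∈ (R : Subgroup M)
  rw [← h3]
  exact Subgroup.smul_mem_pointwise_smul r φ _ hr

end Cfsg.Agent.Helper2.ZStar
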