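import Mathlib
import Cfsg.Agent.Helper2.ZStarL

set_option autoImplicit false
set_option linter.style.haveILetI false

/-!
# Isolated involutions: invariant Sylow subgroups of the whole group
-/

namespace Cfsg.Agent.Helper2.ZStar

open Cfsg.Agent.Helper2 Cfsg.Agent.Helper1
open scoped Pointwise

variable {G : Type*} [Group G]

/-- An isolated involution normalizes some Sylow `p`-subgroup for every odd prime `p`. -/
theorem exists_invariant_sylow [Finite G] (z : G) (hz : Cfsg.IsIsolatedInvolution z) {p : ℕ}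
    [Fact p.Prime] (hp : p ≠ 2) :
    ∃ P : Sylow p G, z ∈ Subgroup.normalizer ((P : Subgroup G) : Set G) := by
  haveI : Fact (Nat.Prime 2) := ⟨Nat.prime_two⟩
  have hzz : z * z = 1 := mul_self_of_orderOf_two hz.1
  set N := Cfsg.oddCore G with hN
  obtain ⟨Pb⟩ : Nonempty (Sylow p (G ⧸ N)) := inferInstance
  set M : Subgroup G := (Pb : Subgroup (G ⧸ N)).comap (QuotientGroup.mk' N) with hM
  have hNM : N ≤ M := by
    intro n hn
    rw [hM, Subgroup.mem_comap, QuotientGroup.mk'_apply, (QuotientGroup.eq_one_iff n).2 hn]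
    exact Subgroup.one_mem _
  -- `M` has odd order
  have hModd : Odd (Nat.card M) := by
    rw [← Nat.not_even_iff_odd, even_iff_two_dvd]
    intro h2
    obtain ⟨m, hm⟩ := exists_prime_orderOf_dvd_card' (G := M) 2 h2
    have hm2 : orderOf (m : G) = 2 := by rw [Subgroup.orderOf_coe]; exact hm
    have hmM : (QuotientGroup.mk (m : G) : G ⧸ N) ∈ (Pb : Subgroup (G ⧸ N)) := m.2
    obtain ⟨k, hk⟩ := Pb.2 ⟨_, hmM⟩
    have hk' : (QuotientGroup.mk (m : G) : G ⧸ N) ^ p ^ k = 1 := by
      have := congrArg Subtype.val hk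
      simpa using this
    have hd1 : orderOf (QuotientGroup.mk (m : G) : G ⧸ N) ∣ p ^ k := orderOf_dvd_of_pow_eq_one hk'
    have hd2 : orderOf (QuotientGroup.mk (m : G) : G ⧸ N) ∣ 2 := by
      have h0 : orderOf (m : G) ∣ 2 := by rw [hm2]
      exact (orderOf_map_dvd (QuotientGroup.mk' N) (m : G)).trans h0
    have hcop : Nat.Coprime (p ^ k) 2 := by
      apply Nat.Coprime.pow_left
      exact (Nat.coprime_primes Fact.out Nat.prime_two).mpr hp
    have h1 : orderOf (QuotientGroup.mk (m : G) : G ⧸ N) = 1 :=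
      Nat.eq_one_of_dvd_coprimes hcop hd1 hd2
    have hmN : (m : G) ∈ N := by
      rw [← QuotientGroup.eq_one_iff]; exact orderOf_eq_one_iff.mp h1
    have hd3 : 2 ∣ Nat.card N := by
      have h0 : orderOf (⟨(m : G), hmN⟩ : N) = 2 := by rw [Subgroup.orderOf_mk]; exact hm2
      have h1 := orderOf_dvd_natCard (⟨(m : G), hmN⟩ : N)
      rwa [h0] at h1
    have hNodd : Odd (Nat.card N) := oddCore_odd_card
    exact (Nat.not_even_iff_odd.mpr hNodd) (even_iff_two_dvd.mpr hd3)
  -- `z` normalizes `M`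
  have hzM : z ∈ Subgroup.normalizer (M : Set G) := by
    rw [Subgroup.mem_normalizer_iff]
    have key : ∀ m ∈ M, z * m * z⁻¹ ∈ M := by
      intro m hm
      have h1 : z * m * z⁻¹ * m⁻¹ ∈ N := glauberman_zstar z hz m
      have : z * m * z⁻¹ = (z * m * z⁻¹ * m⁻¹) * m := by group
      rw [this]; exact M.mul_mem (hNM h1) hm
    intro m
    constructor
    · exact key m
    · intro hm
      have h2 := key _ hm
      have hzi : z⁻¹ = z := inv_eq_of_mul_eq_one_left hzz
      have : z * (z * m * z⁻¹) * z⁻¹ = m := by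
        calc z * (z * m * z⁻¹) * z⁻¹ = (z * z) * m * (z * z)⁻¹ := by group
          _ = m := by rw [hzz]; group
      rwa [this] at h2
  obtain ⟨R, hR⟩ := exists_invariant_sylow_of_odd (p := p) M hModd z hzz hzM
  set P : Subgroup G := (R : Subgroup M).map M.subtype with hP
  have hPp : IsPGroup p P := R.2.map _
  have hidx : ¬ p ∣ P.index := by
    have h1 : M.index = (Pb : Subgroup (G ⧸ N)).index := by
      rw [hM]; exact Subgroup.index_comap_of_surjective _ (QuotientGroup.mk'_surjective N)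
    rw [hP, Subgroup.index_map_subtype, h1]
    exact Nat.Prime.not_dvd_mul Fact.out R.not_dvd_index Pb.not_dvd_index
  refine ⟨hPp.toSylow hidx, ?_⟩
  rw [IsPGroup.toSylow_coe]
  have key : ∀ x ∈ P, z * x * z⁻¹ ∈ P := by
    rintro _ ⟨r, hr, rfl⟩
    exact ⟨conjEquiv M z hzM r, hR r hr, rfl⟩
  rw [Subgroup.mem_normalizer_iff]
  intro x
  constructor
  · exact key x
  · intro hx
    have h2 := key _ hx
    have : z * (z * x * z⁻¹) * z⁻¹ = x := by
      calc z * (z * x * z⁻¹) * z⁻¹ = (z * z) * x * (z * z)⁻¹ := by group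
        _ = x := by rw [hzz]; group
    rwa [this] at h2

end Cfsg.Agent.Helper2.ZStar
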