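import Mathlib
import Cfsg.Agent.Helper2.ZStarM

set_option autoImplicit false
set_option linter.style.haveILetI false

/-!
# Isolated involutions: maximal invariant `p`-subgroups are Sylow
-/

namespace Cfsg.Agent.Helper2.ZStar

open Cfsg.Agent.Helper2 Cfsg.Agent.Helper1
open scoped Pointwise

variable {G : Type*} [Group G]

/-- A `p`-subgroup which is a Sylow subgroup of its normalizer is a Sylow subgroup. -/
theorem sylow_of_sylow_normalizer [Finite G] {p : ℕ} [Fact p.Prime] (Q : Subgroup G)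
    (hQ : IsPGroup p Q)
    (hidx : ¬ p ∣ (Q.subgroupOf (Subgroup.normalizer (Q : Set G))).index) :
    ¬ p ∣ Q.index := by
  obtain ⟨n, hn⟩ := IsPGroup.iff_card.mp hQ
  have h1 := Sylow.card_quotient_normalizer_modEq_card_quotient (p := p) hn
  intro hd
  apply hidx
  rw [Subgroup.index_eq_card] at hd ⊢
  have h2 : Nat.card (G ⧸ Q) ≡ 0 [MOD p] := (Nat.modEq_zero_iff_dvd).mpr hd
  exact (Nat.modEq_zero_iff_dvd).mp (h1.trans h2)

/-- If `z` normalizes `Q` then `z` normalizes every ... : helper for symmetric normalizer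
membership of an involution. -/
theorem invol_mem_normalizer (H : Subgroup G) {z : G} (hzz : z * z = 1)
    (key : ∀ x ∈ H, z * x * z⁻¹ ∈ H) : z ∈ Subgroup.normalizer (H : Set G) := by
  rw [Subgroup.mem_normalizer_iff]
  intro x
  constructor
  · exact key x
  · intro hx
    have h2 := key _ hx
    have : z * (z * x * z⁻¹) * z⁻¹ = x := by
      calc z * (z * x * z⁻¹) * z⁻¹ = (z * z) * x * (z * z)⁻¹ := by group
        _ = x := by rw [hzz]; group
    rwa [this] at h2

/-- **S1187**: a maximal `z`-invariant `p`-subgroup is a Sylow `p`-subgroup, for an isolated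
involution `z`. -/
theorem max_invariant_is_sylow [Finite G] (z : G) (hz : Cfsg.IsIsolatedInvolution z) {p : ℕ}
    [Fact p.Prime] (Q : Subgroup G) (hQ : IsPGroup p Q)
    (hzQ : z ∈ Subgroup.normalizer (Q : Set G))
    (hmax : ∀ R : Subgroup G, IsPGroup p R → z ∈ Subgroup.normalizer (R : Set G) → Q ≤ R → R = Q) :
    ∃ P : Sylow p G, (P : Subgroup G) = Q := by
  have hzz : z * z = 1 := mul_self_of_orderOf_two hz.1
  by_cases hp : p = 2
  · subst hp
    -- `z ∈ Q`
    have hzp : IsPGroup 2 (Subgroup.zpowers z) :=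
      IsPGroup.of_card (n := 1) (by rw [Nat.card_zpowers, hz.1, pow_one])
    have hsup : IsPGroup 2 (Q ⊔ Subgroup.zpowers z : Subgroup G) :=
      hQ.to_sup_of_normal_left' hzp (Subgroup.zpowers_le.mpr hzQ)
    have hzsup : z ∈ Subgroup.normalizer ((Q ⊔ Subgroup.zpowers z : Subgroup G) : Set G) :=
      Subgroup.le_normalizer ((le_sup_right : Subgroup.zpowers z ≤ _) (Subgroup.mem_zpowers z))
    have h1 := hmax _ hsup hzsup le_sup_left
    have hzQ' : z ∈ Q := by
      rw [← h1]; exact (le_sup_right : Subgroup.zpowers z ≤ _) (Subgroup.mem_zpowers z)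
    obtain ⟨S, hS⟩ := hQ.exists_le_sylow
    have h2 := hmax S S.2 (Subgroup.le_normalizer (hS hzQ')) hS
    exact ⟨S, h2⟩
  · -- `p` odd
    set L := Subgroup.normalizer (Q : Set G) with hL
    have hQL : Q ≤ L := Subgroup.le_normalizer
    have hzL := isolated_subtype hz L hzQ
    obtain ⟨R, hR⟩ := exists_invariant_sylow (⟨z, hzQ⟩ : L) hzL hp
    haveI : (Q.subgroupOf L).Normal := Subgroup.normal_in_normalizer
    have hQR : Q.subgroupOf L ≤ R := by
      have hp1 : IsPGroup p (Q.subgroupOf L) := hQ.comap_subtype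
      have hp2 : IsPGroup p (Q.subgroupOf L ⊔ (R : Subgroup L) : Subgroup L) :=
        hp1.to_sup_of_normal_left R.2
      have := R.3 hp2 le_sup_right
      rw [← this]; exact le_sup_left
    set R₀ : Subgroup G := (R : Subgroup L).map L.subtype with hR₀
    have hR₀p : IsPGroup p R₀ := R.2.map _
    have hQR₀ : Q ≤ R₀ := by
      intro q hq
      exact ⟨⟨q, hQL hq⟩, hQR (Subgroup.mem_subgroupOf.mpr hq), rfl⟩
    have hzR₀ : z ∈ Subgroup.normalizer (R₀ : Set G) := by
      apply invol_mem_normalizer R₀ hzz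
      rintro _ ⟨r, hr, rfl⟩
      have h1 := (Subgroup.mem_normalizer_iff.mp hR r).mp hr
      exact ⟨_, h1, by simp⟩
    have h3 := hmax R₀ hR₀p hzR₀ hQR₀
    have hRQ : (R : Subgroup L) = Q.subgroupOf L := by
      apply le_antisymm _ hQR
      intro r hr
      rw [Subgroup.mem_subgroupOf, ← h3]
      exact ⟨r, hr, rfl⟩
    have hidx : ¬ p ∣ (Q.subgroupOf L).index := by
      rw [← hRQ]; exact R.not_dvd_index
    have hidx' := sylow_of_sylow_normalizer Q hQ hidx
    exact ⟨hQ.toSylow hidx', IsPGroup.toSylow_coe hQ hidx'⟩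

end Cfsg.Agent.Helper2.ZStar
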