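import Mathlib
import Cfsg.Agent.Helper2.ZStarN

set_option autoImplicit false
set_option linter.style.haveILetI false

/-!
# An involution acting on a subgroup of odd order: counting inverted elements
-/

namespace Cfsg.Agent.Helper2.ZStar

open Cfsg.Agent.Helper2 Cfsg.Agent.Helper1

variable {G : Type*} [Group G]

/-- An element of odd order has a square root among its powers. -/
theorem exists_pow_sq_of_odd {x : G} (hx : Odd (orderOf x)) : ∃ m : ℕ, (x ^ m) ^ 2 = x := by
  obtain ⟨k, hk⟩ := hx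
  refine ⟨k + 1, ?_⟩
  rw [← pow_mul]
  have : (k + 1) * 2 = orderOf x + 1 := by omega
  rw [this, pow_succ, pow_orderOf_eq_one, one_mul]

/-- `|P : C_P(z)|` equals the number of elements of `P` inverted by `z`, for `P` of odd order
normalized by the involution `z`. -/
theorem relIndex_centralizer_eq_card_inverted [Finite G] (P : Subgroup G)
    (hodd : Odd (Nat.card P)) (z : G) (hzz : z * z = 1)
    (hzP : z ∈ Subgroup.normalizer (P : Set G)) :
    (P ⊓ Subgroup.centralizer ({z} : Set G)).relIndex P =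
      Nat.card {x : G // x ∈ P ∧ z * x * z⁻¹ = x⁻¹} := by
  set C := Subgroup.centralizer ({z} : Set G) with hC
  have hzi : z⁻¹ = z := inv_eq_of_mul_eq_one_left hzz
  have hnorm : ∀ x ∈ P, z * x * z⁻¹ ∈ P := fun x hx =>
    (Subgroup.mem_normalizer_iff.mp hzP x).mp hx
  rw [Subgroup.relIndex, Subgroup.index_eq_card]
  -- the map on the quotient
  let f : P → {x : G // x ∈ P ∧ z * x * z⁻¹ = x⁻¹} := fun x =>
    ⟨(x : G) * z * (x : G)⁻¹ * z⁻¹, by
      constructor
      · have h1 : z * (x : G)⁻¹ * z⁻¹ ∈ P := hnorm _ (P.inv_mem x.2)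
        have : (x : G) * z * (x : G)⁻¹ * z⁻¹ = (x : G) * (z * (x : G)⁻¹ * z⁻¹) := by group
        rw [this]; exact P.mul_mem x.2 h1
      · rw [hzi]
        calc z * ((x : G) * z * (x : G)⁻¹ * z) * z
            = z * (x : G) * z * (x : G)⁻¹ * (z * z) := by group
          _ = z * (x : G) * z * (x : G)⁻¹ := by rw [hzz, mul_one]
          _ = ((x : G) * z * (x : G)⁻¹ * z)⁻¹ := by
              rw [mul_inv_rev, mul_inv_rev, mul_inv_rev, inv_inv, hzi]; group⟩
  have hf : ∀ a b : P, (QuotientGroup.leftRel ((P ⊓ C).subgroupOf P)) a b → f a = f b := by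
    intro a b hab
    rw [QuotientGroup.leftRel_apply, Subgroup.mem_subgroupOf] at hab
    have hab' : ((a : G)⁻¹ * (b : G)) ∈ C := by
      have := hab.2
      simpa using this
    rw [hC, Subgroup.mem_centralizer_singleton_iff] at hab'
    apply Subtype.ext
    show (a : G) * z * (a : G)⁻¹ * z⁻¹ = (b : G) * z * (b : G)⁻¹ * z⁻¹
    have h1 : (a : G)⁻¹ * (b : G) * z = z * ((a : G)⁻¹ * (b : G)) := hab'
    have h2 : (b : G) * z * (b : G)⁻¹ = (a : G) * z * (a : G)⁻¹ := by
      calc (b : G) * z * (b : G)⁻¹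
          = (a : G) * ((a : G)⁻¹ * (b : G) * z) * (b : G)⁻¹ := by group
        _ = (a : G) * (z * ((a : G)⁻¹ * (b : G))) * (b : G)⁻¹ := by rw [h1]
        _ = (a : G) * z * (a : G)⁻¹ := by group
    rw [h2]
  let F : (P ⧸ (P ⊓ C).subgroupOf P) → {x : G // x ∈ P ∧ z * x * z⁻¹ = x⁻¹} :=
    Quotient.lift f hf
  have hFinj : Function.Injective F := by
    intro q₁ q₂
    induction q₁ using Quotient.inductionOn with | _ a => ?_
    induction q₂ using Quotient.inductionOn with | _ b => ?_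
    intro h
    apply Quotient.sound
    show (QuotientGroup.leftRel ((P ⊓ C).subgroupOf P)) a b
    rw [QuotientGroup.leftRel_apply, Subgroup.mem_subgroupOf]
    have h' : (a : G) * z * (a : G)⁻¹ * z⁻¹ = (b : G) * z * (b : G)⁻¹ * z⁻¹ :=
      congrArg Subtype.val h
    have h2 : (a : G) * z * (a : G)⁻¹ = (b : G) * z * (b : G)⁻¹ := mul_right_cancel h'
    refine ⟨?_, ?_⟩
    · simpa using P.mul_mem (P.inv_mem a.2) b.2
    · apply Subgroup.mem_centralizer_singleton_iff.mpr
      show ((a⁻¹ * b : P) : G) * z = z * ((a⁻¹ * b : P) : G)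
      have : ((a⁻¹ * b : P) : G) = (a : G)⁻¹ * (b : G) := by simp
      rw [this]
      calc (a : G)⁻¹ * (b : G) * z = (a : G)⁻¹ * ((b : G) * z * (b : G)⁻¹) * (b : G) := by group
        _ = (a : G)⁻¹ * ((a : G) * z * (a : G)⁻¹) * (b : G) := by rw [h2]
        _ = z * ((a : G)⁻¹ * (b : G)) := by group
  have hFsurj : Function.Surjective F := by
    rintro ⟨i, hiP, hiz⟩
    have hio : Odd (orderOf i) := by
      have h1 : orderOf (⟨i, hiP⟩ : P) ∣ Nat.card P := orderOf_dvd_natCard _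
      rw [Subgroup.orderOf_mk] at h1
      exact Odd.of_dvd_nat hodd h1
    obtain ⟨m, hm⟩ := exists_pow_sq_of_odd hio
    set j := i ^ m with hj
    have hjP : j ∈ P := P.pow_mem hiP m
    have hjz : z * j * z⁻¹ = j⁻¹ := by
      rw [hj, ← conj_pow, hiz, inv_pow]
    refine ⟨QuotientGroup.mk ⟨j, hjP⟩, ?_⟩
    apply Subtype.ext
    show j * z * j⁻¹ * z⁻¹ = i
    have h1 : z * j⁻¹ * z⁻¹ = j := by
      have h0 : (z * j * z⁻¹)⁻¹ = j := by rw [hjz, inv_inv]
      calc z * j⁻¹ * z⁻¹ = (z * j * z⁻¹)⁻¹ := by group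
        _ = j := h0
    calc j * z * j⁻¹ * z⁻¹ = j * (z * j⁻¹ * z⁻¹) := by group
      _ = j * j := by rw [h1]
      _ = j ^ 2 := (pow_two j).symm
      _ = i := hm
  exact Nat.card_congr (Equiv.ofBijective F ⟨hFinj, hFsurj⟩)

end Cfsg.Agent.Helper2.ZStar
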