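import Mathlib
import Cfsg.Agent.Helper2.ZStarO
import Cfsg.Agent.S1180

set_option autoImplicit false
set_option linter.style.haveILetI false

/-!
# Isolated involutions: `C_P(z)` is a Sylow subgroup of `C_G(z)` for invariant Sylow `P`
-/

namespace Cfsg.Agent.Helper2.ZStar

open Cfsg.Agent.Helper2 Cfsg.Agent.Helper1
open scoped Pointwise

variable {G : Type*} [Group G]

/-- Two Sylow `p`-subgroups normalized by the isolated involution `z` are conjugate under
`C_G(z)`. -/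
theorem invariant_sylow_conj [Finite G] (z : G) (hz : Cfsg.IsIsolatedInvolution z) {p : ℕ}
    [Fact p.Prime] (P P₁ : Sylow p G)
    (hzP : z ∈ Subgroup.normalizer ((P : Subgroup G) : Set G))
    (hzP₁ : z ∈ Subgroup.normalizer ((P₁ : Subgroup G) : Set G)) :
    ∃ c : G, c * z = z * c ∧ c • P = P₁ := by
  obtain ⟨g, hg⟩ := MulAction.exists_smul_eq G P P₁
  have h1 : (g * z * g⁻¹) • P₁ = P₁ := by
    rw [← hg, ← mul_smul]
    have : g * z * g⁻¹ * g = g * z := by group
    rw [this, mul_smul, Sylow.smul_eq_iff_mem_normalizer.mpr hzP]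
  have h2 : g * z * g⁻¹ ∈ Subgroup.normalizer ((P₁ : Subgroup G) : Set G) :=
    Sylow.smul_eq_iff_mem_normalizer.mp h1
  obtain ⟨h, hhL, hh⟩ := Cfsg.Agent.S1180.result z hz _ hzP₁ g h2
  refine ⟨h⁻¹ * g, ?_, ?_⟩
  · calc h⁻¹ * g * z = h⁻¹ * (g * z * g⁻¹) * g := by group
      _ = h⁻¹ * (h * z * h⁻¹) * g := by rw [hh]
      _ = z * (h⁻¹ * g) := by group
  · rw [mul_smul, hg]
    exact Sylow.smul_eq_iff_mem_normalizer.mpr (Subgroup.inv_mem _ hhL)

/-- **S1253 (first part)**: for an isolated involution `z` and a `z`-invariant Sylow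
`p`-subgroup `P`, `p` odd, `P ∩ C_G(z)` is a Sylow `p`-subgroup of `C_G(z)`. -/
theorem sylow_inf_centralizer [Finite G] (z : G) (hz : Cfsg.IsIsolatedInvolution z) {p : ℕ}
    [Fact p.Prime] (P : Sylow p G)
    (hzP : z ∈ Subgroup.normalizer ((P : Subgroup G) : Set G)) :
    ¬ p ∣ ((P : Subgroup G) ⊓ Subgroup.centralizer ({z} : Set G)).relIndex
      (Subgroup.centralizer ({z} : Set G)) := by
  have hzz : z * z = 1 := mul_self_of_orderOf_two hz.1
  set C := Subgroup.centralizer ({z} : Set G) with hC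
  set D : Subgroup C := ((P : Subgroup G) ⊓ C).subgroupOf C with hD
  have hDp : IsPGroup p D := (P.2.to_le inf_le_left).comap_subtype
  obtain ⟨T, hT⟩ := hDp.exists_le_sylow
  set T₀ : Subgroup G := (T : Subgroup C).map C.subtype with hT₀
  have hT₀p : IsPGroup p T₀ := T.2.map _
  have hT₀C : T₀ ≤ C := by
    rintro _ ⟨t, -, rfl⟩; exact t.2
  have hzT₀ : z ∈ Subgroup.normalizer (T₀ : Set G) := by
    apply invol_mem_normalizer T₀ hzz
    intro x hx
    have hxC : x ∈ C := hT₀C hx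
    rw [hC, Subgroup.mem_centralizer_singleton_iff] at hxC
    have : z * x * z⁻¹ = x := by rw [← hxC]; group
    rw [this]; exact hx
  -- a maximal invariant `p`-subgroup containing `T₀`
  let 𝒮 := {R : Subgroup G // IsPGroup p R ∧ z ∈ Subgroup.normalizer (R : Set G) ∧ T₀ ≤ R}
  haveI : Nonempty 𝒮 := ⟨⟨T₀, hT₀p, hzT₀, le_refl _⟩⟩
  haveI : Finite 𝒮 := Subtype.finite
  obtain ⟨⟨Q, hQp, hzQ, hTQ⟩, hQmax⟩ := Finite.exists_max (fun R : 𝒮 => Nat.card (R : Subgroup G))
  have hmax : ∀ R : Subgroup G, IsPGroup p R → z ∈ Subgroup.normalizer (R : Set G) → Q ≤ R →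
      R = Q := by
    intro R hRp hzR hQR
    have h1 := hQmax ⟨R, hRp, hzR, hTQ.trans hQR⟩
    exact (Subgroup.eq_of_le_of_card_ge hQR h1).symm
  obtain ⟨P₁, hP₁⟩ := max_invariant_is_sylow z hz Q hQp hzQ hmax
  have hzP₁ : z ∈ Subgroup.normalizer ((P₁ : Subgroup G) : Set G) := by rw [hP₁]; exact hzQ
  obtain ⟨c, hcz, hcP⟩ := invariant_sylow_conj z hz P P₁ hzP hzP₁
  have hcC : c ∈ C := by
    rw [hC, Subgroup.mem_centralizer_singleton_iff]; exact hcz
  -- `|T| ≤ |P₁ ∩ C| ≤ |P ∩ C| = |D|`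
  have hle1 : Nat.card (T : Subgroup C) ≤ Nat.card ((P₁ : Subgroup G) ⊓ C : Subgroup G) := by
    have h1 : T₀ ≤ (P₁ : Subgroup G) ⊓ C := le_inf (by rw [hP₁]; exact hTQ) hT₀C
    have h2 : Nat.card T₀ = Nat.card (T : Subgroup C) :=
      Subgroup.card_map_of_injective C.subtype_injective
    rw [← h2]
    exact Subgroup.card_le_of_le h1
  have hle2 : Nat.card ((P₁ : Subgroup G) ⊓ C : Subgroup G) ≤
      Nat.card ((P : Subgroup G) ⊓ C : Subgroup G) := by
    have hconjmem : ∀ w ∈ (P₁ : Subgroup G), c⁻¹ * w * c ∈ (P : Subgroup G) := by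
      intro w hw
      rw [← hcP, Sylow.coe_subgroup_smul, Subgroup.mem_pointwise_smul_iff_inv_smul_mem] at hw
      rw [← map_inv, MulAut.smul_def, MulAut.conj_apply, inv_inv] at hw
      exact hw
    let f : ((P₁ : Subgroup G) ⊓ C : Subgroup G) → ((P : Subgroup G) ⊓ C : Subgroup G) :=
      fun y => ⟨c⁻¹ * y * c,
        ⟨hconjmem _ y.2.1, C.mul_mem (C.mul_mem (C.inv_mem hcC) y.2.2) hcC⟩⟩
    apply Nat.card_le_card_of_injective f
    intro a b hab
    have h1 : c⁻¹ * (a : G) * c = c⁻¹ * (b : G) * c := congrArg Subtype.val hab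
    apply Subtype.ext
    exact mul_left_cancel (mul_right_cancel h1)
  have hDcard : Nat.card D = Nat.card ((P : Subgroup G) ⊓ C : Subgroup G) :=
    Nat.card_congr (Subgroup.subgroupOfEquivOfLe inf_le_right).toEquiv
  have hDT : D = (T : Subgroup C) :=
    Subgroup.eq_of_le_of_card_ge hT (by rw [hDcard]; exact hle1.trans hle2)
  rw [Subgroup.relIndex, ← hD, hDT]
  exact T.not_dvd_index

end Cfsg.Agent.Helper2.ZStar
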