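import Mathlib
import Cfsg.Agent.Helper2.ZStarH

set_option autoImplicit false
set_option linter.style.haveILetI false

/-!
# Consequences of the Z*-theorem: the factorization `G = O(G) C_G(Z)`
-/

namespace Cfsg.Agent.Helper2.ZStar

open Cfsg.Agent.Helper2 Cfsg.Agent.Helper1

variable {G : Type*} [Group G]

/-- A `p`-subgroup of `S N` (`S` Sylow, `N` normal) is conjugate into `S` by an element of `N`. -/
theorem exists_conj_into_sylow {p : ℕ} [Fact p.Prime] [Finite G] (S : Sylow p G)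
    (N : Subgroup G) [N.Normal] (D : Subgroup G) (hD : IsPGroup p D)
    (hDM : D ≤ (S : Subgroup G) ⊔ N) : ∃ n ∈ N, ∀ w ∈ D, n * w * n⁻¹ ∈ S := by
  set M := (S : Subgroup G) ⊔ N with hM
  have hSM : (S : Subgroup G) ≤ M := le_sup_left
  have hp2 : IsPGroup p (D.subgroupOf M) := hD.comap_subtype
  obtain ⟨Q, hQ⟩ := hp2.exists_le_sylow
  obtain ⟨m, hm⟩ := MulAction.exists_smul_eq M Q (S.subtype hSM)
  have hmw : ∀ w ∈ D, (m : G) * w * (m : G)⁻¹ ∈ (S : Subgroup G) := by
    intro w hw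
    have hwM : w ∈ M := hDM hw
    have h1 : m * ⟨w, hwM⟩ * m⁻¹ ∈ ((S.subtype hSM : Sylow p M) : Subgroup M) := by
      rw [← hm, Sylow.coe_subgroup_smul, Subgroup.mem_pointwise_smul_iff_inv_smul_mem]
      have : (MulAut.conj m)⁻¹ • (m * ⟨w, hwM⟩ * m⁻¹) = (⟨w, hwM⟩ : M) := by
        rw [← map_inv, MulAut.smul_def, MulAut.conj_apply]; group
      rw [this]
      exact hQ (Subgroup.mem_subgroupOf.mpr hw)
    rw [Sylow.coe_subtype, Subgroup.mem_subgroupOf] at h1
    simpa using h1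
  have hmM : (m : G) ∈ ((S : Subgroup G) ⊔ N : Subgroup G) := m.2
  rw [← SetLike.mem_coe, Subgroup.mul_normal, Set.mem_mul] at hmM
  obtain ⟨s, hs, n, hn, hmeq⟩ := hmM
  refine ⟨n, hn, fun w hw => ?_⟩
  have h1 := hmw w hw
  rw [← hmeq] at h1
  have : n * w * n⁻¹ = s⁻¹ * (s * n * w * (s * n)⁻¹) * s := by group
  rw [this]
  exact (S : Subgroup G).mul_mem ((S : Subgroup G).mul_mem ((S : Subgroup G).inv_mem hs) h1) hs

/-- If every element of `Z ≤ S` is weakly closed in the Sylow `2`-subgroup `S`, then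
`G = O(G) C_G(Z)`. -/
theorem zstar_factor [Finite G] (S : Sylow 2 G) (Z : Subgroup G) (hZS : Z ≤ S)
    (hZ : ∀ x ∈ Z, ∀ g : G, g * x * g⁻¹ ∈ S → g * x * g⁻¹ = x) (h : G) :
    ∃ o ∈ Cfsg.oddCore G, ∃ c ∈ Subgroup.centralizer (Z : Set G), h = o * c := by
  haveI : Fact (Nat.Prime 2) := ⟨Nat.prime_two⟩
  set D : Subgroup G := Z.map (MulAut.conj h).toMonoidHom with hD
  have hDp : IsPGroup 2 D := (S.2.to_le hZS).map _
  have hDM : D ≤ (S : Subgroup G) ⊔ Cfsg.oddCore G := by
    rintro _ ⟨x, hx, rfl⟩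
    have h1 := glauberman_zstar_two S x (hZS hx) (hZ x hx) h
    have h2 : h * x * h⁻¹ * x⁻¹ ∈ Cfsg.oddCore G := by
      have : h * x * h⁻¹ * x⁻¹ = (x * h * x⁻¹ * h⁻¹)⁻¹ := by group
      rw [this]; exact Subgroup.inv_mem _ h1
    have h3 : (MulAut.conj h).toMonoidHom x = x * (x⁻¹ * (h * x * h⁻¹ * x⁻¹) * x) := by
      show h * x * h⁻¹ = _
      group
    rw [h3]
    refine Subgroup.mul_mem _ ((le_sup_left : (S : Subgroup G) ≤ _) (hZS hx))
      ((le_sup_right : Cfsg.oddCore G ≤ _) ?_)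
    have hn : (Cfsg.oddCore G).Normal := inferInstance
    have := hn.conj_mem _ h2 x⁻¹
    rwa [inv_inv] at this
  obtain ⟨n, hn, hnD⟩ := exists_conj_into_sylow S (Cfsg.oddCore G) D hDp hDM
  refine ⟨n⁻¹, Subgroup.inv_mem _ hn, n * h, ?_, by group⟩
  rw [Subgroup.mem_centralizer_iff]
  intro x hx
  have h1 : n * (h * x * h⁻¹) * n⁻¹ ∈ (S : Subgroup G) := hnD _ ⟨x, hx, rfl⟩
  have h2 : (n * h) * x * (n * h)⁻¹ = x := by
    apply hZ x hx
    have : (n * h) * x * (n * h)⁻¹ = n * (h * x * h⁻¹) * n⁻¹ := by group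
    rw [this]; exact h1
  calc x * (n * h) = (n * h) * x * (n * h)⁻¹ * (n * h) := by rw [h2]
    _ = n * h * x := by group

/-- If a central element `x` of the Sylow `2`-subgroup `S` generates a subgroup normalized by
`g`, then `g` centralizes `x`. -/
theorem normalizer_zpowers_le_centralizer [Finite G] (S : Sylow 2 G) (x : G)
    (hxc : ∀ s ∈ (S : Subgroup G), s * x = x * s) (hxS : x ∈ S) :
    Subgroup.normalizer ((Subgroup.zpowers x : Subgroup G) : Set G) ≤
      Subgroup.centralizer ((Subgroup.zpowers x : Subgroup G) : Set G) := by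
  haveI : Fact (Nat.Prime 2) := ⟨Nat.prime_two⟩
  set X := Subgroup.zpowers x with hX
  have hSC : (S : Subgroup G) ≤ Subgroup.centralizer (X : Set G) := by
    intro s hs
    rw [Subgroup.mem_centralizer_iff]
    intro y hy
    obtain ⟨k, rfl⟩ := Subgroup.mem_zpowers_iff.mp hy
    have hc : Commute s x := hxc s hs
    exact (hc.zpow_right k).eq.symm
  have hCN : Subgroup.centralizer (X : Set G) ≤ Subgroup.normalizer (X : Set G) :=
    Subgroup.centralizer_le_normalizer _
  have key := Subgroup.card_dvd_of_injective _ (QuotientGroup.kerLift_injective X.normalizerMonoidHom)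
  rw [Subgroup.normalizerMonoidHom_ker, ← Subgroup.index, ← Subgroup.relIndex] at key
  refine Subgroup.relIndex_eq_one.mp (Nat.eq_one_of_dvd_coprimes ?_ dvd_rfl key)
  haveI hcyc : IsCyclic X := by rw [hX]; infer_instance
  have hXp : IsPGroup 2 X := S.2.to_le (Subgroup.zpowers_le.mpr hxS)
  obtain ⟨k, hk⟩ := IsPGroup.iff_card.mp hXp
  have hodd : Nat.Coprime ((Subgroup.centralizer (X : Set G)).relIndex
      (Subgroup.normalizer (X : Set G))) 2 := by
    apply Nat.Coprime.coprime_dvd_left (Subgroup.relIndex_dvd_of_le_left _ hSC)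
    apply Nat.Coprime.coprime_dvd_left (Subgroup.relIndex_dvd_index_of_le (hSC.trans hCN))
    rw [Nat.coprime_comm, Nat.Prime.coprime_iff_not_dvd Nat.prime_two]
    exact S.not_dvd_index
  rcases Nat.eq_zero_or_pos k with h0 | h0
  · rw [IsCyclic.card_mulAut, hk, h0, pow_zero, Nat.totient_one]
    apply Nat.coprime_one_right
  rw [IsCyclic.card_mulAut, hk, Nat.totient_prime_pow Nat.prime_two h0]
  exact (Nat.Coprime.pow_right _ hodd).mul_right (by norm_num)

/-- If `x ∈ Z(S)` and the subgroup `⟨x⟩` is weakly closed in `S`, then the element `x` is weakly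
closed in `S`. -/
theorem wc_elt_of_wc_zpowers [Finite G] (S : Sylow 2 G) (x : G)
    (hxc : ∀ s ∈ (S : Subgroup G), s * x = x * s) (hxS : x ∈ S)
    (hwc : Cfsg.IsWeaklyClosed (Subgroup.zpowers x) (S : Subgroup G)) (g : G)
    (hg : g * x * g⁻¹ ∈ S) : g * x * g⁻¹ = x := by
  have h1 : (Subgroup.zpowers x).map (MulAut.conj g).toMonoidHom ≤ (S : Subgroup G) := by
    rw [MonoidHom.map_zpowers, Subgroup.zpowers_le]
    exact hg
  have h2 := hwc.2 g h1
  have h3 : g ∈ Subgroup.normalizer ((Subgroup.zpowers x : Subgroup G) : Set G) :=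
    Subgroup.mem_normalizer_iff_map_conj_eq.mpr h2
  have h4 := normalizer_zpowers_le_centralizer S x hxc hxS h3
  rw [Subgroup.mem_centralizer_iff] at h4
  have h5 := h4 x (Subgroup.mem_zpowers x)
  rw [← h5]; group

end Cfsg.Agent.Helper2.ZStar
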