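import Mathlib
import Cfsg.Agent.Helper2.ZStarQ
import Cfsg.Agent.Helper2.WF25
import Cfsg.Agent.Helper2.QD9

set_option autoImplicit false
set_option linter.style.haveILetI false

/-!
# Isolated involutions in groups with quasi-dihedral or wreathed Sylow 2-subgroups
-/

namespace Cfsg.Agent.Helper2.ZStar

open Cfsg.Agent.Helper2 Cfsg.Agent.Helper1

variable {G : Type*} [Group G]

/-- An isolated involution is weakly closed in every Sylow `2`-subgroup containing it. -/
theorem isolated_wc [Finite G] {z : G} (hz : Cfsg.IsIsolatedInvolution z) (S : Sylow 2 G)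
    (hzS : z ∈ S) (g : G) (hg : g * z * g⁻¹ ∈ S) : g * z * g⁻¹ = z := by
  have hzz : z * z = 1 := mul_self_of_orderOf_two hz.1
  have hzi : z⁻¹ = z := inv_eq_of_mul_eq_one_left hzz
  refine (Cfsg.Agent.S0216.result S z hz.1 hzS).mpr (fun g => ?_) g hg
  have h1 := odd_orderOf_mul_conj_of_isolated hz g
  have : z * g * z⁻¹ * g⁻¹ = z * (g * z * g⁻¹) := by rw [hzi]; group
  rw [this]; exact h1

/-- If every element of `Z ≤ S` is weakly closed in `S`, then `O(G) Z` is normal. -/
theorem sup_normal_of_wc [Finite G] (S : Sylow 2 G) (Z : Subgroup G) (hZS : Z ≤ S)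
    (hZ : ∀ x ∈ Z, ∀ g : G, g * x * g⁻¹ ∈ S → g * x * g⁻¹ = x) :
    (Cfsg.oddCore G ⊔ Z).Normal := by
  have hcen : Z.map (QuotientGroup.mk' (Cfsg.oddCore G)) ≤
      Subgroup.center (G ⧸ Cfsg.oddCore G) := by
    rintro _ ⟨x, hx, rfl⟩
    rw [Subgroup.mem_center_iff]
    intro q
    obtain ⟨g, rfl⟩ := QuotientGroup.mk_surjective q
    have h1 := glauberman_zstar_two S x (hZS hx) (hZ x hx) g
    have h2 : ((x * g * x⁻¹ * g⁻¹ : G) : G ⧸ Cfsg.oddCore G) = 1 :=
      (QuotientGroup.eq_one_iff _).mpr h1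
    have h3 : (QuotientGroup.mk x : G ⧸ Cfsg.oddCore G) * QuotientGroup.mk g *
        (QuotientGroup.mk x)⁻¹ * (QuotientGroup.mk g)⁻¹ = 1 := by simpa using h2
    show (QuotientGroup.mk g : G ⧸ Cfsg.oddCore G) * QuotientGroup.mk x =
      QuotientGroup.mk x * QuotientGroup.mk g
    calc (QuotientGroup.mk g : G ⧸ Cfsg.oddCore G) * QuotientGroup.mk x
        = 1 * (QuotientGroup.mk g * QuotientGroup.mk x) := (one_mul _).symm
      _ = ((QuotientGroup.mk x : G ⧸ Cfsg.oddCore G) * QuotientGroup.mk g *
            (QuotientGroup.mk x)⁻¹ * (QuotientGroup.mk g)⁻¹) *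
            (QuotientGroup.mk g * QuotientGroup.mk x) := by rw [h3]
      _ = QuotientGroup.mk x * QuotientGroup.mk g := by group
  haveI hn : (Z.map (QuotientGroup.mk' (Cfsg.oddCore G))).Normal := by
    refine ⟨fun n hn q => ?_⟩
    have := Subgroup.mem_center_iff.mp (hcen hn) q
    have h4 : q * n * q⁻¹ = n := by rw [this]; group
    rw [h4]; exact hn
  have heq : Cfsg.oddCore G ⊔ Z =
      (Z.map (QuotientGroup.mk' (Cfsg.oddCore G))).comap (QuotientGroup.mk' (Cfsg.oddCore G)) := by
    rw [Subgroup.comap_map_eq, QuotientGroup.ker_mk', sup_comm]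
  rw [heq]
  infer_instance

open Cfsg.Agent.Helper2.Wr Cfsg.Agent.Helper2.QDF Cfsg.Agent.Helper2.WF in
/-- **S1239**. -/
theorem qd_wreathed_isolated [Finite G] (S : Sylow 2 G)
    (hS : Cfsg.IsQuasiDihedral (S : Subgroup G) ∨ Cfsg.IsWreathed (S : Subgroup G)) (z : G)
    (hzS : z ∈ S) (hz : Cfsg.IsIsolatedInvolution z) :
    (Cfsg.oddCore G ⊔ (Subgroup.center (S : Subgroup G)).map (S : Subgroup G).subtype).Normal := by
  have hzz : z * z = 1 := mul_self_of_orderOf_two hz.1
  have hz1 : z ≠ 1 := ne_one_of_orderOf_two hz.1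
  have hzwc := isolated_wc hz S hzS
  have hzc : ∀ s ∈ (S : Subgroup G), s * z = z * s :=
    fun s hs => wc_commute (S : Subgroup G) z hzwc hzS s hs
  have hzZ : z ∈ (Subgroup.center (S : Subgroup G)).map (S : Subgroup G).subtype := by
    refine ⟨⟨z, hzS⟩, Subgroup.mem_center_iff.mpr ?_, rfl⟩
    intro s
    apply Subtype.ext
    exact hzc s s.2
  apply sup_normal_of_wc S _ (Subgroup.map_subtype_le _)
  rcases hS with hS | hS
  · -- quasi-dihedral: the centre has order two
    obtain ⟨d⟩ := QD.exists_dat hS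
    haveI : Finite (S : Subgroup G) := inferInstance
    have hcard : Nat.card ((Subgroup.center (S : Subgroup G)).map (S : Subgroup G).subtype) = 2 := by
      rw [Subgroup.card_map_of_injective (S : Subgroup G).subtype_injective]
      exact d.card_center
    intro x hx g hg
    have hx' : x = 1 ∨ x = z := by
      have hle : Subgroup.zpowers z ≤
          (Subgroup.center (S : Subgroup G)).map (S : Subgroup G).subtype :=
        Subgroup.zpowers_le.mpr hzZ
      have heq := Subgroup.eq_of_le_of_card_ge hle (by rw [hcard, Nat.card_zpowers, hz.1])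
      rw [← heq] at hx
      obtain ⟨k, rfl⟩ := Subgroup.mem_zpowers_iff.mp hx
      rcases Int.even_or_odd' k with ⟨m, hm | hm⟩
      · left
        rw [hm, zpow_mul, zpow_two, hzz, one_zpow]
      · right
        rw [hm, zpow_add, zpow_mul, zpow_two, hzz, one_zpow, one_mul, zpow_one]
    rcases hx' with rfl | rfl
    · group
    · exact hzwc g hg
  · -- wreathed
    obtain ⟨d⟩ := Wr.exists_dat hS
    have hzc' : z = c d := by
      rcases Z'_invol S d z hzZ hzz with h | h
      · exact absurd h hz1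
      · exact h
    have h₁ : (Subgroup.centralizer (U' d : Set G)).relIndex
        (Subgroup.normalizer (U' d : Set G)) = 2 := by
      rcases relIndex_U_cases S d with h | h
      · exact h
      · exfalso
        obtain ⟨g, hg⟩ := c_conj_a S d h
        apply a_ne_c d
        rw [← hg, ← hzc']
        apply hzwc g
        rw [hzc', hg]; exact a_mem d
    intro x hx g hg
    have := Z'_fusion S d h₁ x hx g⁻¹ (by rw [inv_inv]; exact hg)
    rwa [inv_inv] at this

end Cfsg.Agent.Helper2.ZStar
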