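import Mathlib
import Cfsg.Agent.Helper2.ZStarQ

set_option autoImplicit false
set_option linter.style.haveILetI false

/-!
# A strongly closed `2`-subgroup centralizes a core-free normal subgroup it meets trivially
-/

namespace Cfsg.Agent.Helper2.ZStar

open Cfsg.Agent.Helper2 Cfsg.Agent.Helper1

variable {L : Type*} [Group L]

/-- Abstract form of S1251: `H ⊴ L`, `A` strongly closed in a Sylow `2`-subgroup `T` of `L`,
`A ∩ H = 1`, `H` without nontrivial `H`-invariant subgroups of odd order; then `[A, H] = 1`. -/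
theorem sc_centralizes_normal [Finite L] (H : Subgroup L) [hHn : H.Normal] (T : Sylow 2 L)
    (A : Subgroup L) (hA : Cfsg.IsStronglyClosed A (T : Subgroup L)) (hAH : A ⊓ H = ⊥)
    (hO : ∀ N : Subgroup L, N ≤ H → (∀ h ∈ H, ∀ n ∈ N, h * n * h⁻¹ ∈ N) →
      Odd (Nat.card N) → N = ⊥) :
    ∀ a ∈ A, ∀ h ∈ H, a * h = h * a := by
  haveI : Fact (Nat.Prime 2) := ⟨Nat.prime_two⟩
  intro a ha h hh
  set M : Subgroup L := H ⊔ Subgroup.zpowers a with hM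
  have hHM : H ≤ M := le_sup_left
  have haM : a ∈ M := (le_sup_right : Subgroup.zpowers a ≤ M) (Subgroup.mem_zpowers a)
  -- (1) commutators with `a` of elements of `M` lie in `H`
  have hcomm : ∀ m ∈ M, m * a * m⁻¹ * a⁻¹ ∈ H := by
    intro m hm
    rw [hM, ← SetLike.mem_coe, Subgroup.normal_mul, Set.mem_mul] at hm
    obtain ⟨h₀, hh₀, b, hb, rfl⟩ := hm
    obtain ⟨k, rfl⟩ := Subgroup.mem_zpowers_iff.mp hb
    have h1 : h₀ * a ^ k * a * (h₀ * a ^ k)⁻¹ * a⁻¹ = h₀ * (a * h₀⁻¹ * a⁻¹) := by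
      have h2 : a ^ k * a * (a ^ k)⁻¹ = a := by
        rw [← zpow_add_one, ← zpow_neg, ← zpow_add]; simp
      calc h₀ * a ^ k * a * (h₀ * a ^ k)⁻¹ * a⁻¹
          = h₀ * (a ^ k * a * (a ^ k)⁻¹) * h₀⁻¹ * a⁻¹ := by group
        _ = h₀ * a * h₀⁻¹ * a⁻¹ := by rw [h2]
        _ = h₀ * (a * h₀⁻¹ * a⁻¹) := by group
    rw [h1]
    exact H.mul_mem hh₀ (hHn.conj_mem _ (H.inv_mem hh₀) a)
  -- (2) a Sylow subgroup of `M` containing `a`
  have haT : a ∈ (T : Subgroup L) := hA.1 ha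
  obtain ⟨k, hk⟩ := T.2 ⟨a, haT⟩
  have hak : a ^ 2 ^ k = 1 := by
    have := congrArg Subtype.val hk
    simpa using this
  have hp2 : IsPGroup 2 (Subgroup.zpowers (⟨a, haM⟩ : M)) := by
    apply isPGroup_zpowers_of_pow _ k
    apply Subtype.ext
    simpa using hak
  obtain ⟨Ta, hTa⟩ := hp2.exists_le_sylow
  have haTa : (⟨a, haM⟩ : M) ∈ Ta := hTa (Subgroup.mem_zpowers _)
  -- (3) its image lies in a conjugate of `T`
  have hp3 : IsPGroup 2 ((Ta : Subgroup M).map M.subtype) := Ta.2.map _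
  obtain ⟨Q, hQ⟩ := hp3.exists_le_sylow
  obtain ⟨l, hl⟩ := MulAction.exists_smul_eq L T Q
  have hconjT : ∀ w : M, w ∈ Ta → l⁻¹ * (w : L) * l ∈ (T : Subgroup L) := by
    intro w hw
    have h1 : (w : L) ∈ (Q : Subgroup L) := hQ ⟨w, hw, rfl⟩
    rw [← hl, Sylow.coe_subgroup_smul, Subgroup.mem_pointwise_smul_iff_inv_smul_mem] at h1
    rw [← map_inv, MulAut.smul_def, MulAut.conj_apply, inv_inv] at h1
    exact h1
  -- (4) weak closure of `a` in `Ta`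
  have hwc : ∀ m : M, m * ⟨a, haM⟩ * m⁻¹ ∈ Ta → m * ⟨a, haM⟩ * m⁻¹ = ⟨a, haM⟩ := by
    intro m hm
    have h1 := hconjT _ hm
    have h2 := hconjT _ haTa
    have h3 : (l⁻¹ * (m : L)) * a * (l⁻¹ * (m : L))⁻¹ ∈ A := by
      apply hA.2 a ha
      have : (l⁻¹ * (m : L)) * a * (l⁻¹ * (m : L))⁻¹ =
          l⁻¹ * ((m * ⟨a, haM⟩ * m⁻¹ : M) : L) * l := by
        simp only [Subgroup.coe_mul, Subgroup.coe_inv]; group
      rw [this]; exact h1
    have h4 : l⁻¹ * a * l⁻¹⁻¹ ∈ A := by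
      apply hA.2 a ha
      rw [inv_inv]; exact h2
    rw [inv_inv] at h4
    have h5 : l⁻¹ * ((m : L) * a * (m : L)⁻¹ * a⁻¹) * l ∈ A := by
      have : l⁻¹ * ((m : L) * a * (m : L)⁻¹ * a⁻¹) * l =
          ((l⁻¹ * (m : L)) * a * (l⁻¹ * (m : L))⁻¹) * (l⁻¹ * a * l)⁻¹ := by group
      rw [this]; exact A.mul_mem h3 (A.inv_mem h4)
    have h6 : l⁻¹ * ((m : L) * a * (m : L)⁻¹ * a⁻¹) * l ∈ H := by
      have := hHn.conj_mem _ (hcomm m m.2) l⁻¹
      rwa [inv_inv] at this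
    have h7 : l⁻¹ * ((m : L) * a * (m : L)⁻¹ * a⁻¹) * l = 1 := by
      have : l⁻¹ * ((m : L) * a * (m : L)⁻¹ * a⁻¹) * l ∈ A ⊓ H := ⟨h5, h6⟩
      rw [hAH, Subgroup.mem_bot] at this
      exact this
    have h8 : (m : L) * a * (m : L)⁻¹ * a⁻¹ = 1 := by
      calc (m : L) * a * (m : L)⁻¹ * a⁻¹
          = l * (l⁻¹ * ((m : L) * a * (m : L)⁻¹ * a⁻¹) * l) * l⁻¹ := by group
        _ = 1 := by rw [h7]; group
    apply Subtype.ext
    show (m : L) * a * (m : L)⁻¹ = a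
    calc (m : L) * a * (m : L)⁻¹ = ((m : L) * a * (m : L)⁻¹ * a⁻¹) * a := by group
      _ = a := by rw [h8, one_mul]
  -- (5) the Z*-theorem in `M`
  have hz := glauberman_zstar_two Ta (⟨a, haM⟩ : M) haTa hwc ⟨h, hHM hh⟩
  -- (6) the odd normal subgroup
  set N₀ : Subgroup L := (Cfsg.oddCore M).map M.subtype with hN₀
  have hN₀odd : Odd (Nat.card N₀) := by
    rw [hN₀, Subgroup.card_map_of_injective M.subtype_injective]
    exact oddCore_odd_card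
  have hNbot : N₀ ⊓ H = ⊥ := by
    apply hO _ inf_le_right
    · intro h₁ hh₁ n hn
      refine ⟨?_, hHn.conj_mem _ hn.2 h₁⟩
      obtain ⟨n', hn', rfl⟩ := hn.1
      have hnorm : (Cfsg.oddCore M).Normal := inferInstance
      exact ⟨⟨h₁, hHM hh₁⟩ * n' * ⟨h₁, hHM hh₁⟩⁻¹, hnorm.conj_mem _ hn' _, by simp⟩
    · exact Odd.of_dvd_nat hN₀odd (Subgroup.card_dvd_of_le inf_le_left)
  have hc : a * h * a⁻¹ * h⁻¹ ∈ N₀ ⊓ H := by
    refine ⟨⟨_, hz, by simp⟩, ?_⟩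
    exact H.mul_mem (hHn.conj_mem _ hh a) (H.inv_mem hh)
  rw [hNbot, Subgroup.mem_bot] at hc
  calc a * h = (a * h * a⁻¹ * h⁻¹) * (h * a) := by group
    _ = h * a := by rw [hc, one_mul]

end Cfsg.Agent.Helper2.ZStar
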