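import Mathlib
import Cfsg.Agent.Helper2.ZStarS

set_option autoImplicit false
set_option linter.style.haveILetI false

/-!
# S1251: a strongly closed subgroup centralizes a core-free subgroup it normalizes and meets
trivially
-/

namespace Cfsg.Agent.Helper2.ZStar

open Cfsg.Agent.Helper2 Cfsg.Agent.Helper1

variable {G : Type*} [Group G]

theorem sc_centralizes [Finite G] (S : Sylow 2 G) (A : Subgroup G)
    (hA : Cfsg.IsStronglyClosed A (S : Subgroup G)) (H : Subgroup G)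
    (hAH : A ≤ Subgroup.normalizer (H : Set G)) (hO : Cfsg.oddCore ↥H = ⊥)
    (hdisj : A ⊓ H = ⊥) : A ≤ Subgroup.centralizer (H : Set G) := by
  haveI : Fact (Nat.Prime 2) := ⟨Nat.prime_two⟩
  set L : Subgroup G := H ⊔ A with hL
  have hHL : H ≤ L := le_sup_left
  have hAL : A ≤ L := le_sup_right
  have hLN : L ≤ Subgroup.normalizer (H : Set G) := sup_le Subgroup.le_normalizer hAH
  haveI hHn : (H.subgroupOf L).Normal := (Subgroup.normal_subgroupOf_iff_le_normalizer hHL).mpr hLN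
  -- a Sylow subgroup of `L` containing `A`
  have hAp : IsPGroup 2 (A.subgroupOf L) := (S.2.to_le hA.1).comap_subtype
  obtain ⟨T, hT⟩ := hAp.exists_le_sylow
  have hp3 : IsPGroup 2 ((T : Subgroup L).map L.subtype) := T.2.map _
  obtain ⟨Q, hQ⟩ := hp3.exists_le_sylow
  obtain ⟨g, hg⟩ := MulAction.exists_smul_eq G S Q
  have hconjS : ∀ w : L, w ∈ T → g⁻¹ * (w : G) * g ∈ (S : Subgroup G) := by
    intro w hw
    have h1 : (w : G) ∈ (Q : Subgroup G) := hQ ⟨w, hw, rfl⟩
    rw [← hg, Sylow.coe_subgroup_smul, Subgroup.mem_pointwise_smul_iff_inv_smul_mem] at h1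
    rw [← map_inv, MulAut.smul_def, MulAut.conj_apply, inv_inv] at h1
    exact h1
  -- conjugation by `g⁻¹` maps `A` onto `A`
  have hAg : ∀ a ∈ A, g⁻¹ * a * g ∈ A := by
    intro a ha
    have h1 := hconjS ⟨a, hAL ha⟩ (hT (Subgroup.mem_subgroupOf.mpr ha))
    have h2 := hA.2 a ha g⁻¹ (by rw [inv_inv]; exact h1)
    rwa [inv_inv] at h2
  have hAg' : ∀ y ∈ A, g * y * g⁻¹ ∈ A := by
    intro y hy
    let φ : A → A := fun a => ⟨g⁻¹ * a * g, hAg a a.2⟩
    have hφinj : Function.Injective φ := by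
      intro a b hab
      have h1 : g⁻¹ * (a : G) * g = g⁻¹ * (b : G) * g := congrArg Subtype.val hab
      exact Subtype.ext (mul_left_cancel (mul_right_cancel h1))
    obtain ⟨a₀, ha₀⟩ := (Finite.injective_iff_surjective.mp hφinj) ⟨y, hy⟩
    have h1 : g⁻¹ * (a₀ : G) * g = y := congrArg Subtype.val ha₀
    have : g * y * g⁻¹ = a₀ := by rw [← h1]; group
    rw [this]; exact a₀.2
  -- strong closure in `T`
  have hsc : Cfsg.IsStronglyClosed (A.subgroupOf L) (T : Subgroup L) := by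
    refine ⟨hT, fun x hx l hl => ?_⟩
    rw [Subgroup.mem_subgroupOf] at hx ⊢
    have h1 := hconjS _ hl
    have h2 : (g⁻¹ * (l : G)) * (x : G) * (g⁻¹ * (l : G))⁻¹ ∈ A := by
      apply hA.2 _ hx
      have : (g⁻¹ * (l : G)) * (x : G) * (g⁻¹ * (l : G))⁻¹ =
          g⁻¹ * ((l * x * l⁻¹ : L) : G) * g := by
        simp only [Subgroup.coe_mul, Subgroup.coe_inv]; group
      rw [this]; exact h1
    have h3 := hAg' _ h2
    have : ((l * x * l⁻¹ : L) : G) =
        g * ((g⁻¹ * (l : G)) * (x : G) * (g⁻¹ * (l : G))⁻¹) * g⁻¹ := by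
      simp only [Subgroup.coe_mul, Subgroup.coe_inv]; group
    rw [this]; exact h3
  have hdisj' : A.subgroupOf L ⊓ H.subgroupOf L = ⊥ := by
    rw [eq_bot_iff]
    intro x hx
    rw [Subgroup.mem_bot]
    have h1 : (x : G) ∈ A ⊓ H :=
      ⟨Subgroup.mem_subgroupOf.mp hx.1, Subgroup.mem_subgroupOf.mp hx.2⟩
    rw [hdisj, Subgroup.mem_bot] at h1
    exact Subtype.ext h1
  have hO' : ∀ N : Subgroup L, N ≤ H.subgroupOf L →
      (∀ h ∈ H.subgroupOf L, ∀ n ∈ N, h * n * h⁻¹ ∈ N) → Odd (Nat.card N) → N = ⊥ := by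
    intro N hNH hinv hodd
    set N₀ : Subgroup G := N.map L.subtype with hN₀
    have hN₀H : N₀ ≤ H := by
      rintro _ ⟨n, hn, rfl⟩
      exact Subgroup.mem_subgroupOf.mp (hNH hn)
    set N₁ : Subgroup H := N₀.subgroupOf H with hN₁
    have hcard : Nat.card N₁ = Nat.card N := by
      rw [hN₁, Nat.card_congr (Subgroup.subgroupOfEquivOfLe hN₀H).toEquiv, hN₀,
        Subgroup.card_map_of_injective L.subtype_injective]
    have hN₁n : N₁.Normal := by
      refine ⟨fun n hn h => ?_⟩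
      rw [hN₁, Subgroup.mem_subgroupOf] at hn ⊢
      obtain ⟨n', hn', hn'eq⟩ := hn
      have h1 := hinv ⟨(h : G), hHL h.2⟩ (Subgroup.mem_subgroupOf.mpr h.2) n' hn'
      refine ⟨_, h1, ?_⟩
      simp only [Subgroup.coe_mul, Subgroup.coe_inv, Subgroup.coe_subtype]
      rw [← hn'eq]; rfl
    have h2 : ¬ 2 ∣ Nat.card N₁ := by
      rw [hcard, ← even_iff_two_dvd]; exact Nat.not_even_iff_odd.mpr hodd
    have hle : N₁ ≤ Cfsg.oddCore ↥H :=
      le_pPrimeCore hN₁n ((Nat.Prime.coprime_iff_not_dvd Nat.prime_two).mpr h2).symm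
    rw [hO, le_bot_iff] at hle
    rw [eq_bot_iff]
    intro n hn
    rw [Subgroup.mem_bot]
    have h3 : (⟨(n : G), Subgroup.mem_subgroupOf.mp (hNH hn)⟩ : H) ∈ N₁ := by
      rw [hN₁, Subgroup.mem_subgroupOf]
      exact ⟨n, hn, rfl⟩
    rw [hle, Subgroup.mem_bot] at h3
    apply Subtype.ext
    have h4 : ((⟨(n : G), Subgroup.mem_subgroupOf.mp (hNH hn)⟩ : H) : G) = ((1 : H) : G) :=
      congrArg Subtype.val h3
    exact h4
  have key := sc_centralizes_normal (H.subgroupOf L) T (A.subgroupOf L) hsc hdisj' hO'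
  intro a ha
  rw [Subgroup.mem_centralizer_iff]
  intro h hh
  have h1 := key ⟨a, hAL ha⟩ (Subgroup.mem_subgroupOf.mpr ha) ⟨h, hHL hh⟩
    (Subgroup.mem_subgroupOf.mpr hh)
  have h2 : a * h = h * a := congrArg Subtype.val h1
  exact h2.symm

end Cfsg.Agent.Helper2.ZStar
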