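import Mathlib
import Cfsg.Agent.S0339
import Cfsg.Agent.Helper2.ZasPSLD
import Cfsg.Agent.Helper7.ZassCount

set_option autoImplicit false

/-!
Zassenhaus groups whose point stabilisers have an abelian regular normal subgroup: under Feit's
bound (taken as a hypothesis), there is no normal `q`-complement for a prime `q` dividing the
odd order `e` of a two-point stabiliser when `2 e = n - 1`.
-/

namespace Cfsg.Agent.Helper2.ZasAb

open MulAction Cfsg.Agent.Helper7.Zass Cfsg.Agent.Helper2.ZasPSL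

universe u v

/-- Feit's bound for Zassenhaus groups with two-point stabilisers of odd order, as a hypothesis. -/
def FeitHyp : Prop :=
  ∀ (G : Type u) (Ω : Type v) [Group G] [Finite G] [MulAction G Ω] [Fintype Ω],
    Cfsg.IsZassenhausGroup G Ω → ∀ (a b : Ω), a ≠ b → ∀ (h e : ℕ), Fintype.card Ω = h + 1 →
    Nat.card ↥(stabilizer G a ⊓ stabilizer G b) = e → Odd e →
    ∀ H : Subgroup G, H ≤ stabilizer G a → Nat.card H + 1 = Fintype.card Ω →
    (∀ u ∈ H, u ≠ 1 → ∀ c : Ω, u • c = c → c = a) →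
    h - 1 ≤ 2 * e ∨ (IsPGroup 2 H ∧ (∃ u v : H, u * v ≠ v * u) ∧
      (commutator H).index ≤ 4 * e ^ 2 + 1)

set_option maxHeartbeats 800000 in
theorem no_complement (hFeit : FeitHyp.{u, v}) {G : Type u} {Ω : Type v} [Group G] [Finite G]
    [MulAction G Ω] [Fintype Ω] (hZ : Cfsg.IsZassenhausGroup G Ω) {a b : Ω} (hab : a ≠ b)
    (hodd : Odd (Nat.card ↥(stabilizer G a ⊓ stabilizer G b)))
    (hd : 2 * Nat.card ↥(stabilizer G a ⊓ stabilizer G b) = Fintype.card Ω - 2)
    (F : Subgroup G) (hFa : F ≤ stabilizer G a) (hFcard : Nat.card F + 1 = Fintype.card Ω)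
    (hFfix : ∀ u ∈ F, u ≠ 1 → ∀ c : Ω, u • c = c → c = a)
    (hFab : ∀ u ∈ F, ∀ v ∈ F, u * v = v * u) :
    ∀ q : ℕ, q.Prime → q ∣ Nat.card ↥(stabilizer G a ⊓ stabilizer G b) →
      ¬ ∃ N : Subgroup G, N.Normal ∧ N.index = q ^ (Nat.card G).factorization q := by
  rintro q hq hqe ⟨N, hNn, hNidx⟩
  classical
  haveI := hNn
  haveI : Fintype G := Fintype.ofFinite G
  have hZH := zhyp_of hZ
  obtain ⟨e, he⟩ : ∃ e, e = Nat.card ↥(stabilizer G a ⊓ stabilizer G b) := ⟨_, rfl⟩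
  rw [← he] at hodd hd hqe
  have hepos : 0 < e := by rw [he]; exact Nat.card_pos
  have hΩ : Fintype.card Ω = 2 * e + 2 := by omega
  have hGcard := card_eq hZH.t2 hab
  rw [← he, hΩ] at hGcard
  have hM : (2 * e + 2) * (2 * e + 2) - (2 * e + 2) = 2 * ((e + 1) * (2 * e + 1)) := by
    apply Nat.sub_eq_of_eq_add
    ring
  rw [hM] at hGcard
  have hq2 : q ≠ 2 := by
    rintro rfl
    obtain ⟨k, hk⟩ := hodd
    omega
  have hqG : q ∣ Nat.card G := by
    rw [Nat.card_eq_fintype_card, hGcard]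
    exact Dvd.dvd.mul_right hqe _
  obtain ⟨k, hk⟩ : ∃ k, k = (Nat.card G).factorization q := ⟨_, rfl⟩
  rw [← hk] at hNidx
  have hk1 : 1 ≤ k := by
    rw [hk]
    exact hq.factorization_pos_of_dvd Nat.card_pos.ne' hqG
  have hqk2 : 2 ≤ q ^ k := by
    calc 2 ≤ q := hq.two_le
      _ = q ^ 1 := (pow_one q).symm
      _ ≤ q ^ k := Nat.pow_le_pow_right hq.pos hk1
  have hN1 : N ≠ ⊥ := by
    rintro rfl
    rw [Subgroup.index_bot] at hNidx
    have h2 : 2 ∣ Nat.card G := by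
      rw [Nat.card_eq_fintype_card, hGcard]
      exact Dvd.dvd.mul_left (Dvd.intro _ rfl) _
    rw [hNidx] at h2
    have h3 := Nat.Prime.dvd_of_dvd_pow Nat.prime_two h2
    exact hq2 ((Nat.prime_dvd_prime_iff_eq Nat.prime_two hq).1 h3).symm
  have hZN := Cfsg.Agent.S0339.result hZ N hN1
  haveI : Fintype ↥N := Fintype.ofFinite _
  have hNcard := card_eq (zhyp_of hZN).t2 hab
  obtain ⟨e', he'⟩ : ∃ e', e' = Nat.card ↥(stabilizer ↥N a ⊓ stabilizer ↥N b) := ⟨_, rfl⟩
  rw [← he', hΩ, hM] at hNcard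
  have hidx := N.index_mul_card
  rw [hNidx, Nat.card_eq_fintype_card, Nat.card_eq_fintype_card, hGcard, hNcard] at hidx
  have hee' : q ^ k * e' = e := by
    have hpos : 0 < 2 * ((e + 1) * (2 * e + 1)) := by positivity
    apply Nat.eq_of_mul_eq_mul_right hpos
    rw [mul_assoc]
    exact hidx
  have he'pos : 0 < e' := by
    rcases Nat.eq_zero_or_pos e' with h | h
    · rw [h, mul_zero] at hee'
      omega
    · exact h
  have hodd' : Odd e' := by
    rw [← hee'] at hodd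
    exact Nat.Odd.of_mul_right hodd
  -- `F ≤ N`
  have hFc : Nat.card F = 2 * e + 1 := by omega
  have hnd : ¬ q ∣ 2 * e + 1 := by
    intro h
    have := (Nat.dvd_add_right (Dvd.dvd.mul_left hqe 2)).1 h
    exact hq.one_lt.ne' (Nat.dvd_one.1 this)
  have hcop : Nat.Coprime (Nat.card F) (q ^ k) := by
    rw [hFc]
    exact (((hq.coprime_iff_not_dvd).2 hnd).symm).pow_right k
  have hFN : F ≤ N := by
    intro u hu
    have h1 : u ^ (Nat.card F) = 1 := by
      have := pow_card_eq_one' (G := ↥F) (x := ⟨u, hu⟩)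
      exact congrArg Subtype.val this
    have h2 : (QuotientGroup.mk u : G ⧸ N) ^ (Nat.card F) = 1 := by
      rw [← QuotientGroup.mk_pow, h1]
      rfl
    have h3 : (QuotientGroup.mk u : G ⧸ N) ^ (q ^ k) = 1 := by
      rw [← hNidx, Subgroup.index_eq_card]
      exact pow_card_eq_one'
    have h4 : orderOf (QuotientGroup.mk u : G ⧸ N) ∣ 1 := by
      rw [← Nat.Coprime.gcd_eq_one hcop]
      exact Nat.dvd_gcd (orderOf_dvd_of_pow_eq_one h2) (orderOf_dvd_of_pow_eq_one h3)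
    have h5 : (QuotientGroup.mk u : G ⧸ N) = 1 := orderOf_eq_one_iff.1 (Nat.dvd_one.1 h4)
    exact (QuotientGroup.eq_one_iff u).1 h5
  -- apply Feit's bound to `N`
  have hF'a : F.subgroupOf N ≤ stabilizer ↥N a := by
    intro u hu
    rw [mem_stabilizer_iff]
    have := hFa (Subgroup.mem_subgroupOf.1 hu)
    rw [mem_stabilizer_iff] at this
    exact this
  have hF'card : Nat.card ↥(F.subgroupOf N) + 1 = Fintype.card Ω := by
    rw [Nat.card_congr (Subgroup.subgroupOfEquivOfLe hFN).toEquiv]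
    exact hFcard
  have hF'fix : ∀ u ∈ F.subgroupOf N, u ≠ 1 → ∀ c : Ω, u • c = c → c = a := by
    intro u hu hu1 c hc
    exact hFfix (u : G) (Subgroup.mem_subgroupOf.1 hu) (fun e1 => hu1 (Subtype.ext e1)) c hc
  rcases hFeit ↥N Ω hZN a b hab (2 * e + 1) e' hΩ he'.symm hodd' (F.subgroupOf N) hF'a hF'card
    hF'fix with h | ⟨-, ⟨u, v, huv⟩, -⟩
  · have h1 : 2 * e' ≤ e := by
      calc 2 * e' ≤ q ^ k * e' := Nat.mul_le_mul_right _ hqk2
        _ = e := hee'
    omega
  · apply huv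
    apply Subtype.ext
    rw [Subgroup.coe_mul, Subgroup.coe_mul]
    apply Subtype.ext
    rw [Subgroup.coe_mul, Subgroup.coe_mul]
    exact hFab _ (Subgroup.mem_subgroupOf.1 u.2) _ (Subgroup.mem_subgroupOf.1 v.2)

end Cfsg.Agent.Helper2.ZasAb
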