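import Mathlib
import Cfsg.Prelude.Def_Solvable
import Cfsg.Agent.Helper6.ZasDefs
import Cfsg.Agent.Helper6.ZasGDefs
import Cfsg.Agent.Helper1.ZasG3A
import Cfsg.Agent.Helper3.ZasRepC
import Cfsg.Agent.Helper8.ZasLJ
import Cfsg.Agent.S0035
import Cfsg.Agent.S0040

/-!
Zassenhaus project (helper6), G-side, piece G6a (helper2): a non-solvable Frobenius complement
satisfies `ZData`.
-/

set_option autoImplicit false

namespace Cfsg.Agent.Helper2.ZasG6

open Cfsg.Agent.Helper6.Zas Cfsg.Agent.Helper6.ZasG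
open scoped Pointwise

/-- `ZData` transports backwards along an injective homomorphism. -/
theorem zdata_of_inj {H G : Type*} [Group H] [Group G] (φ : H →* G)
    (hinj : Function.Injective φ) (hZ : ZData G) : ZData H := by
  have hord : ∀ x : H, orderOf (φ x) = orderOf x := fun x => orderOf_injective φ hinj x
  have hcl2 : ∀ a b : H, (Subgroup.closure {a, b}).map φ =
      Subgroup.closure {φ a, φ b} := fun a b => Cfsg.Agent.Helper1.ZasG.map_closure_pair φ a b
  have hcov2 : ∀ (a b : H) (X : Type) [Group X],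
      Cover (Subgroup.closure {φ a, φ b}) X → Cover (Subgroup.closure {a, b}) X := by
    intro a b X _ h
    rw [← hcl2 a b] at h
    exact (Cfsg.Agent.Helper1.ZasG.cover_map_iff φ hinj _).mp h
  have hcomm : ∀ a b : H, Commute (φ a) (φ b) → Commute a b := by
    intro a b h
    apply hinj
    rw [map_mul, map_mul]
    exact h
  refine ⟨?_, ?_, ?_, ?_, ?_, ?_⟩
  · intro A hA
    have h1 : IsCyclic ↥(A.map φ) := by
      apply hZ.comm_cyclic
      rintro _ ⟨x, hx, rfl⟩ _ ⟨y, hy, rfl⟩
      rw [← map_mul, ← map_mul, hA x hx y hy]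
    exact isCyclic_of_surjective (A.equivMapOfInjective φ hinj).symm
      (A.equivMapOfInjective φ hinj).symm.surjective
  · intro A p q hp hq hA
    have h1 : IsCyclic ↥(A.map φ) := by
      apply hZ.pq_cyclic _ p q hp hq
      rw [Subgroup.card_map_of_injective hinj]; exact hA
    exact isCyclic_of_surjective (A.equivMapOfInjective φ hinj).symm
      (A.equivMapOfInjective φ hinj).symm.surjective
  · intro s t hs ht
    apply hinj
    exact hZ.invol _ _ (by rw [hord]; exact hs) (by rw [hord]; exact ht)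
  · intro a b ha hb
    rcases hZ.f1 (φ a) (φ b) (by rw [hord]; exact ha) (by rw [hord]; exact hb) with h | h | h
    · left; exact hcomm a b h
    · right; left; exact hcov2 a b _ h
    · right; right; exact hcov2 a b _ h
  · intro x a hx ha
    rcases hZ.f2 (φ x) (φ a) (by rw [hord]; exact hx) (by rw [hord]; exact ha)
      with h | h | h | h | h
    · left; exact hcomm x a h
    · right; left; exact hcov2 x a _ h
    · right; right; left; exact hcov2 x a _ h
    · right; right; right; left; exact hcov2 x a _ h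
    · right; right; right; right; exact hcov2 x a _ h
  · intro x₁ a₁ x₂ a₂ r a hx₁ ha₁ hx₂ ha₂ hr hr1 hr2 haL ha
    have hmem : ∀ (s : Set H) (y : H), y ∈ Subgroup.closure s →
        φ y ∈ Subgroup.closure (φ '' s) := by
      intro s y hy
      rw [← MonoidHom.map_closure]
      exact ⟨y, hy, rfl⟩
    have h1 := hmem _ _ hr1
    have h2 := hmem _ _ hr2
    have h3 := hmem _ _ haL
    rw [Set.image_pair] at h1 h2
    have e4 : φ '' {x₁, a₁, x₂, a₂} = {φ x₁, φ a₁, φ x₂, φ a₂} := by
      rw [Set.image_insert_eq, Set.image_insert_eq, Set.image_pair]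
    rw [e4] at h3
    rcases hZ.dk (φ x₁) (φ a₁) (φ x₂) (φ a₂) (φ r) (φ a) (by rw [hord]; exact hx₁)
      (by rw [hord]; exact ha₁) (by rw [hord]; exact hx₂) (by rw [hord]; exact ha₂)
      (by rw [hord]; exact hr) h1 h2 h3 (by rw [hord]; exact ha) with h | h
    · left; exact hcomm r a h
    · right; exact hcov2 r a _ h

/-- a nonidentity element of a Frobenius complement fixes no nonidentity element of the kernel -/
theorem fpf_of_frobenius {L : Type*} [Group L] (H N : Subgroup L)
    (hH : Cfsg.IsFrobeniusComplement H) (hdisj : N ⊓ H = ⊥)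
    {h : L} (hh : h ∈ H) (hh1 : h ≠ 1) {n : L} (hn : n ∈ N) (hfix : h * n * h⁻¹ = n) : n = 1 := by
  by_contra hn1
  have hnH : n ∉ H := by
    intro hnH
    have : n ∈ N ⊓ H := ⟨hn, hnH⟩
    rw [hdisj, Subgroup.mem_bot] at this
    exact hn1 this
  have h0 := hH.2.2 n hnH
  have hmem : h ∈ H ⊓ (MulAut.conj n • H) := by
    refine Subgroup.mem_inf.mpr ⟨hh, ?_⟩
    rw [Subgroup.mem_pointwise_smul_iff_inv_smul_mem]
    have : (MulAut.conj n)⁻¹ • h = n⁻¹ * h * n := by
      rw [← map_inv, MulAut.smul_def, MulAut.conj_apply, inv_inv]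
    rw [this]
    have h2 : n⁻¹ * h * n = h := by
      have h3 : h * n = n * h := by
        calc h * n = h * n * h⁻¹ * h := by group
          _ = n * h := by rw [hfix]
      rw [mul_assoc, h3, ← mul_assoc, inv_mul_cancel, one_mul]
    rw [h2]
    exact hh
  rw [h0, Subgroup.mem_bot] at hmem
  exact hh1 hmem

/-- PIECE G6a: a non-solvable Frobenius complement satisfies `ZData`. -/
theorem zdata_of_frobenius_complement {G : Type*} [Group G] [Finite G]
    (hns : ¬ Group.IsSolvable G)
    (hFC : ∃ (L : Type) (_ : Group L) (_ : Finite L) (H : Subgroup L),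
      Cfsg.IsFrobeniusComplement H ∧ Nonempty (G ≃* H)) : ZData G := by
  obtain ⟨L, _, _, H, hH, ⟨e⟩⟩ := hFC
  obtain ⟨N, -, hNn, hc⟩ := Cfsg.Agent.S0035.result H hH
  have := hNn
  have hdisj : N ⊓ H = ⊥ := hc.disjoint.eq_bot
  have hNne : N ≠ ⊥ := by
    intro hb
    have := hc.sup_eq_top
    rw [hb, bot_sup_eq] at this
    exact hH.2.1 this
  have hfpf : ∀ h ∈ H, h ≠ 1 → ∀ n ∈ N, h * n * h⁻¹ = n → n = 1 :=
    fun h hh hh1 n hn hfix => fpf_of_frobenius H N hH hdisj hh hh1 hn hfix
  have hfpf' : ∀ h ∈ H, h ≠ 1 → N ⊓ Subgroup.centralizer {h} = ⊥ := by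
    intro h hh hh1
    rw [eq_bot_iff]
    intro n hn
    rw [Subgroup.mem_bot]
    refine hfpf h hh hh1 n hn.1 ?_
    have := Subgroup.mem_centralizer_singleton_iff.mp hn.2
    rw [← this, mul_inv_cancel_right]
  -- `|H|` is even
  have h2 : 2 ∣ Nat.card H := by
    by_contra hodd
    apply hns
    have hz : IsZGroup ↥H := by
      refine ⟨fun p hp P => ?_⟩
      have : Fact p.Prime := ⟨hp⟩
      rcases Cfsg.Agent.S0040.result N H hc hNne hfpf' p P with h | ⟨n, ⟨f⟩⟩
      · exact h
      · exfalso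
        apply hodd
        have h1 : Nat.card ↥(P : Subgroup ↥H) = 4 * 2 ^ n := by
          rw [Nat.card_congr f.toEquiv, Nat.card_eq_fintype_card, QuaternionGroup.card]
        have h2 : Nat.card ↥(P : Subgroup ↥H) ∣ Nat.card ↥H := Subgroup.card_subgroup_dvd_card _
        rw [h1] at h2
        exact dvd_trans (Dvd.intro (2 * 2 ^ n) (by ring)) h2
    have := hz
    exact Group.isSolvable_of_isSolvable_injective (f := e.toMonoidHom) e.injective
  -- the action on the kernel
  obtain ⟨ψ, hψ⟩ : ∃ ψ : ↥H →* MulAut ↥N, ∀ (h : ↥H) (n : ↥N),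
      ((ψ h n : ↥N) : L) = (h : L) * n * (h : L)⁻¹ :=
    ⟨(MulAut.conjNormal (H := N)).comp H.subtype, fun h n => MulAut.conjNormal_apply _ _⟩
  have hψfix : ∀ h : ↥H, h ≠ 1 → ∀ n : ↥N, ψ h n = n → n = 1 := by
    intro h hh1 n hfix
    have h3 := congrArg Subtype.val hfix
    rw [hψ] at h3
    have := hfpf h h.2 (fun h0 => hh1 (Subtype.ext h0)) n n.2 h3
    exact Subtype.ext this
  obtain ⟨n₀, hn₀N, hn₀1⟩ : ∃ n₀ ∈ N, n₀ ≠ 1 := by
    by_contra hcon
    push Not at hcon
    apply hNne
    rw [eq_bot_iff]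
    intro x hx
    rw [Subgroup.mem_bot]
    exact hcon x hx
  have hψinj : Function.Injective ψ := by
    rw [injective_iff_map_eq_one]
    intro h hh
    by_contra hh1
    have := hψfix h hh1 ⟨n₀, hn₀N⟩ (by rw [hh]; rfl)
    exact hn₀1 (congrArg Subtype.val this)
  have hfpfR : ∀ φ ∈ ψ.range, φ ≠ 1 → ∀ k : ↥N, φ k = k → k = 1 := by
    rintro _ ⟨h, rfl⟩ hne k hk
    exact hψfix h (fun h0 => hne (by rw [h0, map_one])) k hk
  have h2R : 2 ∣ Nat.card ↥ψ.range := by
    rw [← Nat.card_congr (MonoidHom.ofInjective hψinj).toEquiv]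
    exact h2
  obtain ⟨E, _, _, V, _, _, _, _, ρ, hfpfρ, heig⟩ :=
    Cfsg.Agent.Helper3.ZasRep.exists_fpf_rep ψ.range hfpfR h2R
  have hZR : ZData ↥ψ.range := Cfsg.Agent.Helper8.ZasL.zdata_of_fpf ρ hfpfρ heig
  exact zdata_of_inj ((MonoidHom.ofInjective hψinj).toMonoidHom.comp e.toMonoidHom)
    ((MonoidHom.ofInjective hψinj).injective.comp e.injective) hZR

end Cfsg.Agent.Helper2.ZasG6
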