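import Mathlib
import Cfsg.Agent.Helper6.ZasDefs
import Cfsg.Agent.Helper6.ZasGDefs
import Cfsg.Agent.Helper1.ZasG3A
import Cfsg.Agent.Helper1.ZasG3B
import Cfsg.Agent.Helper3.ZasOut
import Cfsg.Agent.Helper5.ZasG4A
import Cfsg.Agent.S3378

/-!
Zassenhaus project (helper6), G-side, piece G6b (helper2): structure of a non-solvable group with
`ZData`, given the main induction.
-/

set_option autoImplicit false
set_option linter.style.haveILetI false

namespace Cfsg.Agent.Helper2.ZasG6

open Cfsg.Agent.Helper6.Zas Cfsg.Agent.Helper6.ZasG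

/-- a finite non-solvable group has a non-trivial perfect normal subgroup -/
theorem exists_perfect_normal {G : Type*} [Group G] [Finite G] (hns : ¬ Group.IsSolvable G) :
    ∃ L : Subgroup G, L.Normal ∧ ⁅L, L⁆ = L ∧ L ≠ ⊥ := by
  obtain ⟨n, -, hn⟩ := (measure fun n => Nat.card (derivedSeries G n)).wf.has_min Set.univ
    ⟨0, trivial⟩
  refine ⟨derivedSeries G n, inferInstance, ?_, ?_⟩
  · have hle : derivedSeries G (n + 1) ≤ derivedSeries G n := derivedSeries_antitone G (Nat.le_succ n)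
    have hcard : Nat.card (derivedSeries G n) ≤ Nat.card (derivedSeries G (n + 1)) :=
      not_lt.mp (hn (n + 1) trivial)
    have h1 : derivedSeries G (n + 1) = derivedSeries G n := Subgroup.eq_of_le_of_card_ge hle hcard
    rw [derivedSeries_succ] at h1
    exact h1
  · intro hb
    exact hns ((Group.isSolvable_def G).mpr ⟨n, hb⟩)

/-- a central element of `SL(2, 𝔽₅)` squares to one -/
theorem sq_eq_one_of_mem_center {A : Matrix.SpecialLinearGroup (Fin 2) (ZMod 5)}
    (hA : A ∈ Subgroup.center (Matrix.SpecialLinearGroup (Fin 2) (ZMod 5))) : A * A = 1 := by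
  obtain ⟨r, hr, hA'⟩ := Matrix.SpecialLinearGroup.mem_center_iff.mp hA
  apply Subtype.ext
  rw [Matrix.SpecialLinearGroup.coe_mul, ← hA', Matrix.SpecialLinearGroup.coe_one,
    ← map_mul, ← pow_two]
  rw [Fintype.card_fin] at hr
  rw [hr, map_one]

/-- in a group with at most one involution, commuting elements of order 4 are equal or inverse -/
theorem eq_or_eq_inv_of_commute {G : Type*} [Group G]
    (hinv : ∀ s t : G, orderOf s = 2 → orderOf t = 2 → s = t) {x y : G} (hx : orderOf x = 4)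
    (hy : orderOf y = 4) (hxy : x * y = y * x) : x = y ∨ x = y⁻¹ := by
  have hx2 : orderOf (x * x) = 2 := by
    have := orderOf_pow' x (n := 2) (by norm_num)
    rw [hx, pow_two] at this
    rw [this]
    norm_num
  have hy2 : orderOf (y * y) = 2 := by
    have := orderOf_pow' y (n := 2) (by norm_num)
    rw [hy, pow_two] at this
    rw [this]
    norm_num
  have hsq : x * x = y * y := hinv _ _ hx2 hy2
  have hy4 : y * y * (y * y) = 1 := by
    have := pow_orderOf_eq_one y
    rw [hy] at this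
    rw [← this]
    simp only [pow_succ, pow_zero, one_mul, mul_assoc]
  have hyx : y⁻¹ * x = x * y⁻¹ := by
    calc y⁻¹ * x = y⁻¹ * (x * y) * y⁻¹ := by group
      _ = y⁻¹ * (y * x) * y⁻¹ := by rw [hxy]
      _ = x * y⁻¹ := by group
  have h1 : (x * y⁻¹) * (x * y⁻¹) = 1 := by
    calc (x * y⁻¹) * (x * y⁻¹) = x * (y⁻¹ * x) * y⁻¹ := by group
      _ = x * (x * y⁻¹) * y⁻¹ := by rw [hyx]
      _ = (x * x) * (y⁻¹ * y⁻¹) := by group
      _ = (y * y) * (y⁻¹ * y⁻¹) := by rw [hsq]
      _ = 1 := by group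
  by_cases h2 : x * y⁻¹ = 1
  · left
    exact mul_inv_eq_one.mp h2
  · right
    have h3 : orderOf (x * y⁻¹) = 2 := by
      apply orderOf_eq_prime
      · rw [pow_two]; exact h1
      · exact h2
    have h4 : x * y⁻¹ = y * y := hinv _ _ h3 hy2
    calc x = (x * y⁻¹) * y := by group
      _ = (y * y) * y := by rw [h4]
      _ = (y * y * (y * y)) * y⁻¹ := by group
      _ = y⁻¹ := by rw [hy4, one_mul]

/-- PIECE G6b: structure of a non-solvable group with `ZData`, given the main induction. -/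
theorem structure_of_zdata {G : Type*} [Group G] [Finite G] (hZ : ZData G)
    (hmain : ∀ H : Subgroup G, MProp H ∧ ZProp H) (hns : ¬ Group.IsSolvable G) :
    ∃ G₀ : Subgroup G, G₀.Normal ∧ (G₀.index = 1 ∨ G₀.index = 2) ∧
      ∃ S M : Subgroup G, S ⊔ M = G₀ ∧ S ⊓ M = ⊥ ∧ (∀ s ∈ S, ∀ x ∈ M, s * x = x * s) ∧
        Nonempty (S ≃* Matrix.SpecialLinearGroup (Fin 2) (ZMod 5)) ∧
        (∀ (p : ℕ) [Fact p.Prime] (P : Sylow p M), IsCyclic P) ∧ (Nat.card M).Coprime 30 := by
  classical
  haveI : Fact (Nat.Prime 2) := ⟨Nat.prime_two⟩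
  obtain ⟨L, hLn, hperf, hLne⟩ := exists_perfect_normal hns
  haveI := hLn
  -- `|L| = 120`
  have hcard : Nat.card L = 120 := by
    rcases (hmain L).2 hperf with h | h
    · exact absurd (Subgroup.card_eq_one.mp h) hLne
    · exact h
  have hQ : ∀ P : Sylow 2 L, Nonempty ((P : Subgroup L) ≃* QuaternionGroup 2) :=
    fun P => Cfsg.Agent.Helper5.ZasG4.sylow_two_quaternion hZ L hperf hcard P
  have hperf' : commutator ↥L = ⊤ := Cfsg.Agent.Helper5.ZasG4.commutator_eq_top_of_perfect L hperf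
  have hnsL : ¬ Group.IsSolvable ↥L := by
    intro hs
    haveI := hs
    haveI : Nontrivial ↥L := (Subgroup.nontrivial_iff_ne_bot L).mpr hLne
    have := Group.IsSolvable.commutator_lt_top_of_nontrivial ↥L
    rw [hperf'] at this
    exact lt_irrefl _ this
  obtain ⟨e⟩ := Cfsg.Agent.S3378.result.1 ↥L hcard hnsL hQ
  obtain ⟨hidx2, hidx0⟩ := Cfsg.Agent.Helper3.ZasOut.index_le_two_of_normal_120 L hcard hperf hQ
  -- the involution
  obtain ⟨z', hz'⟩ := exists_prime_orderOf_dvd_card' (G := ↥L) 2 (by rw [hcard]; norm_num)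
  obtain ⟨z, hzL, hz2⟩ : ∃ z ∈ L, orderOf z = 2 :=
    ⟨(z' : G), z'.2, by rw [Subgroup.orderOf_coe]; exact hz'⟩
  have hz1 : z ≠ 1 := by
    intro h
    rw [h, orderOf_one] at hz2
    omega
  have hzz : z * z = 1 := by
    have := pow_orderOf_eq_one z
    rwa [hz2, pow_two] at this
  have hzc : ∀ g : G, g * z = z * g := by
    intro g
    have h1 : orderOf (g * z * g⁻¹) = 2 := by
      have : g * z * g⁻¹ = MulAut.conj g z := by rw [MulAut.conj_apply]
      rw [this, MulEquiv.orderOf_eq]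
      exact hz2
    have h2 := hZ.invol _ _ h1 hz2
    calc g * z = (g * z * g⁻¹) * g := by group
      _ = z * g := by rw [h2]
  have hinvol : ∀ x : G, x * x = 1 → x = 1 ∨ x = z := by
    intro x hx
    by_cases h1 : x = 1
    · exact Or.inl h1
    · right
      apply hZ.invol _ _ _ hz2
      apply orderOf_eq_prime
      · rw [pow_two]; exact hx
      · exact h1
  -- the centralizer
  obtain ⟨C, hC⟩ : ∃ C : Subgroup G, C = Subgroup.centralizer (L : Set G) := ⟨_, rfl⟩
  haveI hCn : C.Normal := by rw [hC]; infer_instance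
  have hCmem : ∀ x ∈ C, ∀ y ∈ L, y * x = x * y := by
    intro x hx y hy
    rw [hC] at hx
    exact Subgroup.mem_centralizer_iff.mp hx y hy
  have hzC : z ∈ C := by
    rw [hC, Subgroup.mem_centralizer_iff]
    intro y _
    exact hzc y
  -- elements of `L ⊓ C` are `1` or `z`
  have hLC : ∀ x ∈ L, x ∈ C → x = 1 ∨ x = z := by
    intro x hxL hxC
    apply hinvol
    have hcen : (⟨x, hxL⟩ : ↥L) ∈ Subgroup.center ↥L := by
      rw [Subgroup.mem_center_iff]
      intro g
      apply Subtype.ext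
      exact hCmem x hxC g g.2
    have hcen' : e ⟨x, hxL⟩ ∈ Subgroup.center (Matrix.SpecialLinearGroup (Fin 2) (ZMod 5)) := by
      rw [Subgroup.mem_center_iff]
      intro A
      have := Subgroup.mem_center_iff.mp hcen (e.symm A)
      have h2 := congrArg e this
      rwa [map_mul, map_mul, MulEquiv.apply_symm_apply] at h2
    have h3 := sq_eq_one_of_mem_center hcen'
    rw [← map_mul, MulEquiv.map_eq_one_iff] at h3
    exact congrArg Subtype.val h3
  -- two elements of order 4 of `L`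
  obtain ⟨y₁, y₂, hy₁L, hy₂L, hy₁, hy₂, hne1, hne2⟩ : ∃ y₁ y₂ : G, y₁ ∈ L ∧ y₂ ∈ L ∧
      orderOf y₁ = 4 ∧ orderOf y₂ = 4 ∧ y₂ ≠ y₁ ∧ y₂ ≠ y₁⁻¹ := by
    obtain ⟨P⟩ : Nonempty (Sylow 2 ↥L) := inferInstance
    obtain ⟨f⟩ := hQ P
    refine ⟨((f.symm (QuaternionGroup.a 1) : ↥(P : Subgroup ↥L)) : ↥L),
      ((f.symm (QuaternionGroup.xa 0) : ↥(P : Subgroup ↥L)) : ↥L), Subtype.property _,
      Subtype.property _, ?_, ?_, ?_, ?_⟩
    · rw [Subgroup.orderOf_coe, Subgroup.orderOf_coe, MulEquiv.orderOf_eq,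
        QuaternionGroup.orderOf_a_one]
    · rw [Subgroup.orderOf_coe, Subgroup.orderOf_coe, MulEquiv.orderOf_eq,
        QuaternionGroup.orderOf_xa]
    · intro h
      have h1 := f.symm.injective (Subtype.ext (Subtype.ext h))
      exact absurd h1 (by decide)
    · intro h
      have h0 : ((f.symm (QuaternionGroup.xa 0) : ↥(P : Subgroup ↥L)) : ↥L) =
          (((f.symm (QuaternionGroup.a 1))⁻¹ : ↥(P : Subgroup ↥L)) : ↥L) := by
        apply Subtype.ext
        rw [h]
        rfl
      have h1 := Subtype.ext h0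
      rw [← map_inv] at h1
      have h2 := f.symm.injective h1
      exact absurd h2 (by decide)
  -- no element of order 4 in `C`
  have hno4 : ∀ x ∈ C, orderOf x ≠ 4 := by
    intro x hxC hx4
    have h1 := eq_or_eq_inv_of_commute hZ.invol hx4 hy₁ (hCmem x hxC y₁ hy₁L).symm
    have h2 := eq_or_eq_inv_of_commute hZ.invol hx4 hy₂ (hCmem x hxC y₂ hy₂L).symm
    rcases h1 with h1 | h1 <;> rcases h2 with h2 | h2
    · exact hne1 (h2.symm.trans h1)
    · apply hne2
      have h3 : y₂⁻¹ = y₁ := h2.symm.trans h1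
      rw [← h3, inv_inv]
    · exact hne2 (h2.symm.trans h1)
    · apply hne1
      have h3 : y₂⁻¹ = y₁⁻¹ := h2.symm.trans h1
      exact inv_injective h3
  -- the subgroup `⟨z⟩` of `C` has odd index
  obtain ⟨zC, hzC'⟩ : ∃ zC : ↥C, (zC : G) = z := ⟨⟨z, hzC⟩, rfl⟩
  have hzC2 : orderOf zC = 2 := by rw [← Subgroup.orderOf_coe, hzC']; exact hz2
  obtain ⟨N, hN⟩ : ∃ N : Subgroup ↥C, N = Subgroup.zpowers zC := ⟨_, rfl⟩
  have hNmem : ∀ x : ↥C, (x : G) = 1 ∨ (x : G) = z → x ∈ N := by
    intro x hx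
    rw [hN]
    rcases hx with hx | hx
    · have : x = 1 := Subtype.ext hx
      rw [this]
      exact one_mem _
    · have : x = zC := Subtype.ext (hx.trans hzC'.symm)
      rw [this]
      exact Subgroup.mem_zpowers zC
  have hNsq : ∀ x ∈ N, x * x = 1 := by
    intro x hx
    rw [hN, Subgroup.mem_zpowers_iff] at hx
    obtain ⟨k, rfl⟩ := hx
    have h1 : zC * zC = 1 := by
      apply Subtype.ext
      rw [Subgroup.coe_mul, hzC']
      exact hzz
    rw [← zpow_add, ← two_mul, zpow_mul, zpow_two, h1, one_zpow]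
  haveI hNn : N.Normal := by
    rw [hN]
    refine ⟨fun n hn g => ?_⟩
    have hcomm : g * zC = zC * g := by
      apply Subtype.ext
      rw [Subgroup.coe_mul, Subgroup.coe_mul, hzC']
      exact hzc g
    rw [Subgroup.mem_zpowers_iff] at hn ⊢
    obtain ⟨k, rfl⟩ := hn
    refine ⟨k, ?_⟩
    have h2 : Commute g (zC ^ k) := (Commute.zpow_right hcomm k)
    rw [h2.eq, mul_inv_cancel_right]
  have hNcard : Nat.card N = 2 := by rw [hN, Nat.card_zpowers, hzC2]
  have hodd : ¬ 2 ∣ N.index := by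
    intro h2
    have h3 : 2 ∣ Nat.card (↥C ⧸ N) := h2
    obtain ⟨q, hq⟩ := exists_prime_orderOf_dvd_card' (G := ↥C ⧸ N) 2 h3
    obtain ⟨x, rfl⟩ := QuotientGroup.mk_surjective q
    have hq1 : (x : ↥C ⧸ N) ≠ 1 := by
      intro h
      rw [h, orderOf_one] at hq
      omega
    have hxN : x ∉ N := fun h => hq1 ((QuotientGroup.eq_one_iff x).mpr h)
    have hq2 : ((x * x : ↥C) : ↥C ⧸ N) = 1 := by
      have := pow_orderOf_eq_one (x : ↥C ⧸ N)
      rw [hq, pow_two] at this
      rw [QuotientGroup.mk_mul]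
      exact this
    have hxx : x * x ∈ N := (QuotientGroup.eq_one_iff _).mp hq2
    have hx4 : x ^ 4 = 1 := by
      have := hNsq _ hxx
      rw [← this]
      simp only [pow_succ, pow_zero, one_mul, mul_assoc]
    have hx4' : (x : G) ^ 4 = 1 := by
      have := congrArg Subtype.val hx4
      rwa [Subgroup.coe_pow] at this
    have hdvd : orderOf (x : G) ∣ 4 := orderOf_dvd_of_pow_eq_one hx4'
    have hle : orderOf (x : G) ≤ 4 := Nat.le_of_dvd (by norm_num) hdvd
    have hne4 := hno4 x x.2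
    have hxx1 : (x : G) * x = 1 := by
      have hpos : 0 < orderOf (x : G) := orderOf_pos _
      have h12 : orderOf (x : G) = 1 ∨ orderOf (x : G) = 2 := by
        interval_cases h : orderOf (x : G)
        · left; rfl
        · right; rfl
        · exfalso; revert hdvd; decide
        · exact absurd rfl hne4
      rcases h12 with h | h
      · rw [orderOf_eq_one_iff] at h
        rw [h, one_mul]
      · have := pow_orderOf_eq_one (x : G)
        rwa [h, pow_two] at this
    exact hxN (hNmem x (hinvol _ hxx1))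
  have hcop : Nat.Coprime (Nat.card N) N.index := by
    rw [hNcard]
    exact (Nat.Prime.coprime_iff_not_dvd Nat.prime_two).mpr hodd
  obtain ⟨M', hM'⟩ := Subgroup.exists_right_complement'_of_coprime hcop
  obtain ⟨M, hM⟩ : ∃ M : Subgroup G, M = M'.map C.subtype := ⟨_, rfl⟩
  have hMC : M ≤ C := by rw [hM]; exact Subgroup.map_subtype_le M'
  have hzM : z ∉ M := by
    intro h
    rw [hM] at h
    obtain ⟨m, hm, hmz⟩ := h
    have h1 : m = zC := Subtype.ext (hmz.trans hzC'.symm)
    have h2 : zC ∈ N ⊓ M' := ⟨by rw [hN]; exact Subgroup.mem_zpowers zC, by rw [← h1]; exact hm⟩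
    rw [hM'.disjoint.eq_bot, Subgroup.mem_bot] at h2
    rw [h2, orderOf_one] at hzC2
    omega
  have hCle : C ≤ Subgroup.zpowers z ⊔ M := by
    have h1 : (⊤ : Subgroup ↥C).map C.subtype = C := by
      rw [← MonoidHom.range_eq_map, Subgroup.range_subtype]
    have h2 := hM'.sup_eq_top
    rw [← h1, ← h2, Subgroup.map_sup, hN, MonoidHom.map_zpowers, ← hM]
    rw [Subgroup.coe_subtype, hzC']
  have hLM : L ⊓ M = ⊥ := by
    rw [eq_bot_iff]
    intro x hx
    rw [Subgroup.mem_bot]
    rcases hLC x hx.1 (hMC hx.2) with h | h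
    · exact h
    · exact absurd (h ▸ hx.2) hzM
  have hM1 : ∀ x ∈ M, x * x = 1 → x = 1 := by
    intro x hx hxx
    rcases hinvol x hxx with h | h
    · exact h
    · exact absurd (h ▸ hx) hzM
  have hnodvd : ∀ q : ℕ, q.Prime → q ∣ 120 → ¬ q ∣ Nat.card M := by
    intro q hq hq120 hqM
    haveI : Fact q.Prime := ⟨hq⟩
    obtain ⟨x, hx⟩ := exists_prime_orderOf_dvd_card' (G := ↥M) q hqM
    have hxG : orderOf (x : G) = q := by rw [Subgroup.orderOf_coe]; exact hx
    obtain ⟨y, hy⟩ := exists_prime_orderOf_dvd_card' (G := ↥L) q (by rw [hcard]; exact hq120)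
    have hyG : orderOf (y : G) = q := by rw [Subgroup.orderOf_coe]; exact hy
    have h1 : (x : G) ∈ Subgroup.zpowers (y : G) :=
      Cfsg.Agent.Helper1.ZasG.mem_zpowers_of_commute hZ hq (hCmem x (hMC x.2) y y.2) hyG hxG
    have h2 : (x : G) ∈ L := (Subgroup.zpowers_le.mpr y.2) h1
    have h3 : (x : G) ∈ L ⊓ M := ⟨h2, x.2⟩
    rw [hLM, Subgroup.mem_bot] at h3
    rw [h3, orderOf_one] at hxG
    exact hq.one_lt.ne hxG
  rw [← hC] at hidx2 hidx0
  refine ⟨L ⊔ C, inferInstance, by omega, L, M, ?_, hLM, ?_, ⟨e⟩, ?_, ?_⟩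
  · apply le_antisymm
    · exact sup_le le_sup_left (hMC.trans le_sup_right)
    · refine sup_le le_sup_left (hCle.trans (sup_le ?_ le_sup_right))
      exact (Subgroup.zpowers_le.mpr hzL).trans le_sup_left
  · intro s hs x hx
    exact hCmem x (hMC hx) s hs
  · intro p hp P
    by_cases hp2 : p = 2
    · subst hp2
      have hbot : (P : Subgroup ↥M) = ⊥ := by
        by_contra hne
        haveI : Nontrivial ↥(P : Subgroup ↥M) := (Subgroup.nontrivial_iff_ne_bot _).mpr hne
        obtain ⟨k, hk⟩ := (IsPGroup.iff_card (p := 2)).mp P.2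
        have hk0 : k ≠ 0 := by
          intro h0
          rw [h0, pow_zero] at hk
          have := Finite.one_lt_card_iff_nontrivial.mpr ‹Nontrivial ↥(P : Subgroup ↥M)›
          omega
        have h2 : 2 ∣ Nat.card ↥(P : Subgroup ↥M) := by
          rw [hk]
          exact dvd_pow_self 2 hk0
        obtain ⟨x, hx⟩ := exists_prime_orderOf_dvd_card' (G := ↥(P : Subgroup ↥M)) 2 h2
        have hxG : orderOf (((x : ↥M) : G)) = 2 := by
          rw [Subgroup.orderOf_coe, Subgroup.orderOf_coe]; exact hx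
        have hxx : ((x : ↥M) : G) * ((x : ↥M) : G) = 1 := by
          have := pow_orderOf_eq_one ((x : ↥M) : G)
          rwa [hxG, pow_two] at this
        have := hM1 _ (x : ↥M).2 hxx
        rw [this, orderOf_one] at hxG
        omega
      haveI : Subsingleton ↥(P : Subgroup ↥M) := by
        rw [hbot]
        infer_instance
      exact isCyclic_of_subsingleton
    · exact Cfsg.Agent.Helper1.ZasG.sylow_cyclic_of_odd
        (Cfsg.Agent.Helper1.ZasG.zdata_subgroup hZ M) hp2 P
  · have h30 : (30 : ℕ) = 2 * (3 * 5) := by norm_num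
    rw [h30]
    refine Nat.Coprime.mul_right ?_ (Nat.Coprime.mul_right ?_ ?_)
    · exact ((Nat.Prime.coprime_iff_not_dvd Nat.prime_two).mpr
        (hnodvd 2 Nat.prime_two (by norm_num))).symm
    · exact ((Nat.Prime.coprime_iff_not_dvd Nat.prime_three).mpr
        (hnodvd 3 Nat.prime_three (by norm_num))).symm
    · exact ((Nat.Prime.coprime_iff_not_dvd Nat.prime_five).mpr
        (hnodvd 5 Nat.prime_five (by norm_num))).symm

end Cfsg.Agent.Helper2.ZasG6
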