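import Mathlib
import Cfsg.Agent.Helper2.ZasRegE
import Cfsg.Agent.Helper2.ZasRegF
import Cfsg.Agent.Helper1.FrobComplSylow

set_option autoImplicit false

/-!
Zassenhaus-type groups with a regular normal subgroup have degree `2 ^ p`, `p` prime.
-/

namespace Cfsg.Agent.Helper2.ZasReg

open MulAction

section reg

variable {G Ω : Type*} [Group G] [MulAction G Ω] (N : Subgroup G) [hNn : N.Normal]
  (hNt : IsPretransitive ↥N Ω) (hNr : ∀ a : Ω, stabilizer ↥N a = ⊥)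

include hNt in
theorem exists_N_smul (a d : Ω) : ∃ n ∈ N, n • a = d := by
  obtain ⟨n, hn⟩ := hNt.exists_smul_eq a d
  exact ⟨n, n.2, hn⟩

include hNr in
theorem eq_one_of_N_fix {n : G} (hn : n ∈ N) {d : Ω} (h : n • d = d) : n = 1 := by
  have h1 : (⟨n, hn⟩ : ↥N) ∈ stabilizer ↥N d := mem_stabilizer_iff.mpr h
  rw [hNr d, Subgroup.mem_bot] at h1
  exact congrArg Subtype.val h1

include hNr in
theorem N_eq_of_smul_eq {n m : G} (hn : n ∈ N) (hm : m ∈ N) {d : Ω} (h : n • d = m • d) :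
    n = m := by
  have h1 : (m⁻¹ * n) • d = d := by rw [mul_smul, h, inv_smul_smul]
  have h2 := eq_one_of_N_fix N hNr (N.mul_mem (N.inv_mem hm) hn) h1
  exact (inv_mul_eq_one.mp h2).symm

omit hNn in
theorem conj_smul {a : Ω} {y : G} (hy : y • a = a) (n : G) :
    (y * n * y⁻¹) • a = y • (n • a) := by
  have h1 : y⁻¹ • a = a := inv_smul_eq_iff.mpr hy.symm
  rw [mul_smul, mul_smul, h1]

include hNr in
theorem conj_eq_iff {a : Ω} {y : G} (hy : y • a = a) {n : G} (hn : n ∈ N) :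
    y * n * y⁻¹ = n ↔ y • (n • a) = n • a := by
  rw [← conj_smul hy n]
  constructor
  · intro h; rw [h]
  · intro h; exact N_eq_of_smul_eq N hNr (hNn.conj_mem n hn y) hn h

include hNr in
theorem sq_eq_one_of_fix
    (h3 : ∀ g : G, ∀ a b c : Ω, a ≠ b → b ≠ c → a ≠ c → g • a = a → g • b = b → g • c = c → g = 1)
    {a : Ω} {g : G} (hg1 : g ≠ 1) (hga : g • a = a) {n₀ : G} (hn₀ : n₀ ∈ N)
    (hgb : g • (n₀ • a) = n₀ • a) : n₀ * n₀ = 1 := by
  by_cases h1 : n₀ = 1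
  · rw [h1, one_mul]
  have hc : g * n₀ * g⁻¹ = n₀ := (conj_eq_iff N hNr hga hn₀).mpr hgb
  have hc' : g * n₀⁻¹ * g⁻¹ = n₀⁻¹ := by
    have : g * n₀⁻¹ * g⁻¹ = (g * n₀ * g⁻¹)⁻¹ := by group
    rw [this, hc]
  have hgb' : g • (n₀⁻¹ • a) = n₀⁻¹ • a := (conj_eq_iff N hNr hga (N.inv_mem hn₀)).mp hc'
  by_contra hsq
  apply hg1
  have hne1 : a ≠ n₀ • a := fun h => h1 (eq_one_of_N_fix N hNr hn₀ h.symm)
  have hne2 : n₀ • a ≠ n₀⁻¹ • a := by
    intro h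
    apply hsq
    apply eq_one_of_N_fix N hNr (N.mul_mem hn₀ hn₀) (d := a)
    rw [mul_smul, h, smul_inv_smul]
  have hne3 : a ≠ n₀⁻¹ • a := by
    intro h
    apply h1
    have := eq_one_of_N_fix N hNr (N.inv_mem hn₀) h.symm
    exact inv_eq_one.mp this
  exact h3 g a (n₀ • a) (n₀⁻¹ • a) hne1 hne2 hne3 hga hgb hgb'

include hNr in
theorem all_sq_eq_one (h2 : IsMultiplyPretransitive G Ω 2)
    (h3 : ∀ g : G, ∀ a b c : Ω, a ≠ b → b ≠ c → a ≠ c → g • a = a → g • b = b → g • c = c → g = 1)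
    {a : Ω} {g : G} (hg1 : g ≠ 1) (hga : g • a = a) {n₀ : G} (hn₀ : n₀ ∈ N) (hn₀1 : n₀ ≠ 1)
    (hgb : g • (n₀ • a) = n₀ • a) : ∀ n ∈ N, n * n = 1 := by
  intro n hn
  by_cases h1 : n = 1
  · rw [h1, one_mul]
  have hsq := sq_eq_one_of_fix N hNr h3 hg1 hga hn₀ hgb
  have hb : a ≠ n₀ • a := fun h => hn₀1 (eq_one_of_N_fix N hNr hn₀ h.symm)
  have hd : a ≠ n • a := fun h => h1 (eq_one_of_N_fix N hNr hn h.symm)
  rw [is_two_pretransitive_iff] at h2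
  obtain ⟨y, hya, hyb⟩ := h2 hb hd
  have hyn : y * n₀ * y⁻¹ = n :=
    N_eq_of_smul_eq N hNr (hNn.conj_mem n₀ hn₀ y) hn (by rw [conj_smul hya, hyb])
  rw [← hyn]
  calc y * n₀ * y⁻¹ * (y * n₀ * y⁻¹) = y * (n₀ * n₀) * y⁻¹ := by group
    _ = 1 := by rw [hsq]; group

omit hNn in
theorem comm_of_sq (h : ∀ n ∈ N, n * n = 1) : ∀ n ∈ N, ∀ m ∈ N, n * m = m * n := by
  intro n hn m hm
  have e1 : (n * m)⁻¹ = n * m := inv_eq_of_mul_eq_one_right (h (n * m) (N.mul_mem hn hm))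
  have e2 : n⁻¹ = n := inv_eq_of_mul_eq_one_right (h n hn)
  have e3 : m⁻¹ = m := inv_eq_of_mul_eq_one_right (h m hm)
  rw [← e1, mul_inv_rev, e2, e3]

include hNt hNr in
theorem card_eq_card_N (a : Ω) : Nat.card Ω = Nat.card ↥N := by
  symm
  apply Nat.card_congr
  refine Equiv.ofBijective (fun n : ↥N => (n : G) • a) ⟨?_, ?_⟩
  · intro n m h
    exact Subtype.ext (N_eq_of_smul_eq N hNr n.2 m.2 h)
  · intro d
    obtain ⟨n, hn, hnd⟩ := exists_N_smul N hNt a d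
    exact ⟨⟨n, hn⟩, hnd⟩

end reg

end Cfsg.Agent.Helper2.ZasReg
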