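import Mathlib
import Cfsg.Agent.Helper2.ZasRegG

set_option autoImplicit false

/-!
Zassenhaus-type groups with a regular normal subgroup have degree `2 ^ p`, `p` prime: assembly.
-/

namespace Cfsg.Agent.Helper2.ZasReg

open MulAction

theorem exists_prime_card {G Ω : Type*} [Group G] [MulAction G Ω] [Finite G] [FaithfulSMul G Ω]
    (h2 : IsMultiplyPretransitive G Ω 2)
    (h3 : ∀ g : G, ∀ a b c : Ω, a ≠ b → b ≠ c → a ≠ c → g • a = a → g • b = b → g • c = c → g = 1)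
    (hfix : ∃ g : G, g ≠ 1 ∧ ∃ a b : Ω, a ≠ b ∧ g • a = a ∧ g • b = b)
    (N : Subgroup G) [hNn : N.Normal] (hNt : IsPretransitive ↥N Ω)
    (hNr : ∀ a : Ω, stabilizer ↥N a = ⊥) :
    ∃ p : ℕ, p.Prime ∧ Nat.card Ω = 2 ^ p := by
  obtain ⟨g, hg1, a, b, hab, hga, hgb⟩ := hfix
  -- a third point
  obtain ⟨c, hc⟩ : ∃ c : Ω, g • c ≠ c := by
    by_contra hcon
    push_neg at hcon
    apply hg1
    apply FaithfulSMul.eq_of_smul_eq_smul (α := Ω)
    intro c
    rw [hcon c, one_smul]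
  have hca : c ≠ a := fun h => hc (by rw [h, hga])
  have hcb : c ≠ b := fun h => hc (by rw [h, hgb])
  -- an element of prime order fixing `a` and `b`
  have hord : orderOf g ≠ 1 := fun h => hg1 (orderOf_eq_one_iff.mp h)
  obtain ⟨r, hr, hrd⟩ := Nat.exists_prime_and_dvd hord
  obtain ⟨h, hh1, hha, hhb, hhr⟩ : ∃ h : G, h ≠ 1 ∧ h • a = a ∧ h • b = b ∧ h ^ r = 1 := by
    have hho : orderOf (g ^ (orderOf g / r)) = r :=
      orderOf_pow_orderOf_div (orderOf_pos g).ne' hrd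
    refine ⟨g ^ (orderOf g / r), ?_, ?_, ?_, ?_⟩
    · intro h1
      rw [h1, orderOf_one] at hho
      exact hr.one_lt.ne hho
    · exact mem_stabilizer_iff.mp ((stabilizer G a).pow_mem (mem_stabilizer_iff.mpr hga) _)
    · exact mem_stabilizer_iff.mp ((stabilizer G b).pow_mem (mem_stabilizer_iff.mpr hgb) _)
    · have := pow_orderOf_eq_one (g ^ (orderOf g / r))
      rwa [hho] at this
  obtain ⟨K, hKH, hKn, hKt, hKs⟩ := exists_kernel h2 h3 hab hca hcb hg1 hga hgb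
  obtain ⟨n₀, hn₀, hn₀b⟩ := exists_N_smul N hNt a b
  subst hn₀b
  have hn₀1 : n₀ ≠ 1 := by
    rintro rfl
    exact hab (one_smul _ _).symm
  have hsq := all_sq_eq_one N hNr h2 h3 hg1 hga hn₀ hn₀1 hgb
  have hNcomm := comm_of_sq N hsq
  -- conjugation action facts
  have hK2 : ∀ k ∈ K, k ≠ 1 → ∀ n ∈ N, n ≠ 1 → k * n * k⁻¹ ≠ n := by
    intro k hk hk1 n hn hn1 hc
    have hka : k • a = a := mem_stabilizer_iff.mp (hKH hk)
    have := (conj_eq_iff N hNr hka hn).mp hc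
    exact hKs k hk hk1 (n • a) (fun h => hn1 (eq_one_of_N_fix N hNr hn h)) this
  have hK3 : ∀ n ∈ N, n ≠ 1 → ∃ k ∈ K, k * n₀ * k⁻¹ = n := by
    intro n hn hn1
    obtain ⟨k, hk, hkb⟩ := hKt (n • a) (fun h => hn1 (eq_one_of_N_fix N hNr hn h))
    have hka : k • a = a := mem_stabilizer_iff.mp (hKH hk)
    refine ⟨k, hk, N_eq_of_smul_eq N hNr (d := a) (hNn.conj_mem n₀ hn₀ k) hn ?_⟩
    rw [conj_smul hka, hkb]
  -- `h` normalises `K` and acts fixed-point-freely
  have hhH : h ∈ stabilizer G a := mem_stabilizer_iff.mpr hha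
  have hn : ∀ k ∈ K, h * k * h⁻¹ ∈ K := fun k hk => hKn h hhH k hk
  have hn' : ∀ k ∈ K, h⁻¹ * k * h ∈ K := by
    intro k hk
    have := hKn h⁻¹ (inv_mem hhH) k hk
    rwa [inv_inv] at this
  have hfpf : ∀ k ∈ K, h * k * h⁻¹ = k → k = 1 := by
    intro k hk hc
    by_contra hk1
    apply hh1
    have hka : k • a = a := mem_stabilizer_iff.mp (hKH hk)
    have hne1 : n₀ • a ≠ k • (n₀ • a) :=
      fun e => hKs k hk hk1 (n₀ • a) (Ne.symm hab) e.symm
    have hne2 : a ≠ k • (n₀ • a) := by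
      intro e
      apply hab
      have : k • a = k • (n₀ • a) := by rw [hka]; exact e
      exact MulAction.injective k this
    have hfix3 : h • (k • (n₀ • a)) = k • (n₀ • a) := by
      have e : h * k = k * h := by
        calc h * k = (h * k * h⁻¹) * h := by group
          _ = k * h := by rw [hc]
      rw [← mul_smul, e, mul_smul, hhb]
    exact h3 h a (n₀ • a) (k • (n₀ • a)) hab hne1 hne2 hha hhb hfix3
  -- `K` has cyclic Sylow subgroups
  have hN1 : N ≠ ⊥ := by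
    intro hbot
    apply hn₀1
    rw [hbot] at hn₀
    exact Subgroup.mem_bot.mp hn₀
  have hfr : ∀ k ∈ K, k ≠ 1 → N ⊓ Subgroup.centralizer {k} = ⊥ := by
    intro k hk hk1
    rw [eq_bot_iff]
    intro n hn
    obtain ⟨hnN, hnc⟩ := Subgroup.mem_inf.mp hn
    rw [Subgroup.mem_bot]
    by_contra hn1
    apply hK2 k hk hk1 n hnN hn1
    rw [Subgroup.mem_centralizer_iff] at hnc
    have := hnc k (Set.mem_singleton k)
    rw [this]; group
  have hno2 : ∀ k ∈ K, k * k = 1 → k = 1 := by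
    intro k hk hkk
    by_contra hk1
    have hm : n₀ * (k * n₀ * k⁻¹) ∈ N := N.mul_mem hn₀ (hNn.conj_mem n₀ hn₀ k)
    have hfixm : k * (n₀ * (k * n₀ * k⁻¹)) * k⁻¹ = n₀ * (k * n₀ * k⁻¹) := by
      calc k * (n₀ * (k * n₀ * k⁻¹)) * k⁻¹
          = (k * n₀ * k⁻¹) * ((k * k) * n₀ * (k * k)⁻¹) := by group
        _ = (k * n₀ * k⁻¹) * n₀ := by rw [hkk]; group
        _ = n₀ * (k * n₀ * k⁻¹) := hNcomm _ (hNn.conj_mem n₀ hn₀ k) _ hn₀
    have hm1 : n₀ * (k * n₀ * k⁻¹) = 1 := by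
      by_contra hm1
      exact hK2 k hk hk1 _ hm hm1 hfixm
    have : k * n₀ * k⁻¹ = n₀ := by
      have e1 : k * n₀ * k⁻¹ = n₀⁻¹ := (inv_eq_of_mul_eq_one_right hm1).symm
      rw [e1]
      exact inv_eq_of_mul_eq_one_right (hsq n₀ hn₀)
    exact hK2 k hk hk1 n₀ hn₀ hn₀1 this
  haveI : IsZGroup ↥K := by
    refine ⟨fun p hp P => ?_⟩
    haveI : Fact p.Prime := ⟨hp⟩
    rcases Cfsg.Agent.Helper1.frobenius_complement_sylow N K hN1 hfr p P with hc | ⟨n, ⟨e⟩⟩
    · exact hc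
    · exfalso
      haveI : NeZero (2 ^ n) := ⟨by positivity⟩
      have h1 : Nat.card ↥(P : Subgroup ↥K) = 4 * 2 ^ n := by
        rw [Nat.card_congr e.toEquiv, Nat.card_eq_fintype_card, QuaternionGroup.card]
      have h2' : Nat.card ↥(P : Subgroup ↥K) ∣ Nat.card ↥K := Subgroup.card_subgroup_dvd_card _
      rw [h1] at h2'
      have h3' : 2 ∣ Nat.card ↥K := Dvd.dvd.trans ⟨2 * 2 ^ n, by ring⟩ h2'
      obtain ⟨k, hk⟩ := exists_prime_orderOf_dvd_card' 2 h3'
      have hkk : (k : G) * (k : G) = 1 := by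
        have := pow_orderOf_eq_one k
        rw [hk, pow_two] at this
        exact congrArg Subtype.val this
      have hk1 : k = 1 := Subtype.ext (hno2 k k.2 hkk)
      rw [hk1, orderOf_one] at hk
      omega
  -- the linear theorem
  letI : CommGroup ↥N :=
    { (inferInstance : Group ↥N) with mul_comm := fun x y => Subtype.ext (hNcomm x x.2 y y.2) }
  have hcard := card_of_linear (A := ↥N) (MulAut.conjNormal : G →* MulAut ↥N) K
    (a₀ := ⟨n₀, hn₀⟩) ?_ ?_ ?_ ?_ hn hn' hfpf hr hhr ?_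
  · refine ⟨r, hr, ?_⟩
    rw [card_eq_card_N N hNt hNr a]
    exact hcard
  · exact fun e => hn₀1 (congrArg Subtype.val e)
  · exact fun x => Subtype.ext (hsq x x.2)
  · intro x hx
    obtain ⟨k, hk, e⟩ := hK3 x x.2 (fun e => hx (Subtype.ext e))
    exact ⟨k, hk, Subtype.ext e⟩
  · exact fun k hk hk1 x hx e => hK2 k hk hk1 x x.2 (fun e' => hx (Subtype.ext e'))
      (congrArg Subtype.val e)
  · obtain ⟨k, hk, hkc⟩ := hKt c hca
    refine ⟨k, hk, ?_⟩
    rintro rfl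
    rw [one_smul] at hkc
    exact hcb hkc.symm

end Cfsg.Agent.Helper2.ZasReg
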