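import Mathlib
import Cfsg.Agent.Helper2.Sharp3D
import Cfsg.Agent.Helper2.ZasAbF

set_option autoImplicit false

/-!
Sharply 3-transitive groups of odd degree: for an involution `v` moving the point `a` and a subgroup
`U` of exponent 2 regular on the other points, exactly one `u₀ ∈ U`, `u₀ ≠ 1`, satisfies
`v u₀ v = u₀ v u₀`.  Application to Zassenhaus groups (modulo the two character-theoretic
hypotheses `ClassBound`, `EvenContra`).
-/

namespace Cfsg.Agent.Helper2.ZasU

open MulAction Cfsg.Agent.Helper2.Sharp3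

section abstract

variable {G α : Type*} [Group G] [MulAction G α]

theorem unique_u0 [Finite α] (h : SharpThree G α) (hodd : Odd (Nat.card α)) {a : α}
    (U : Subgroup G) (hUa : ∀ u ∈ U, u • a = a)
    (hreg : ∀ c d : α, c ≠ a → d ≠ a → ∃! u : U, (u : G) • c = d)
    (hU2 : ∀ u ∈ U, u * u = 1)
    (v : G) (hv1 : v ≠ 1) (hv2 : v * v = 1) (hva : v • a ≠ a) :
    ∃! u₀ : G, u₀ ∈ U ∧ u₀ ≠ 1 ∧ v * u₀ * v = u₀ * v * u₀ := by
  obtain ⟨c, hvc, hcu⟩ := h.invol_fix_unique hodd v hv2 hv1
  obtain ⟨b, hb⟩ : ∃ b : α, v • a = b := ⟨_, rfl⟩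
  have hvb : v • b = a := by rw [← hb, smul_smul, hv2, one_smul]
  have hba : b ≠ a := by rw [← hb]; exact hva
  have hca : c ≠ a := by
    intro e
    rw [e] at hvc
    exact hva hvc
  have hcb : c ≠ b := by
    intro e
    rw [e] at hvc
    exact hba (hvc.symm.trans hvb)
  obtain ⟨u₀, hu₀, huniq⟩ := hreg b c hba hca
  have hu₀a : (u₀ : G) • a = a := hUa u₀ u₀.2
  have hu₀c : (u₀ : G) • c = b := by
    have h2 := hU2 u₀ u₀.2
    rw [← hu₀, smul_smul, h2, one_smul]
  refine ⟨u₀, ⟨u₀.2, ?_, ?_⟩, ?_⟩
  · intro e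
    rw [e, one_smul] at hu₀
    exact hcb hu₀.symm
  · have key : ((u₀ : G) * v * u₀)⁻¹ * (v * u₀ * v) = 1 := by
      apply h.sharp _ a b c (Ne.symm hba) (Ne.symm hca) (Ne.symm hcb)
      · rw [mul_smul, inv_smul_eq_iff]
        simp only [mul_smul]
        rw [hb, hu₀, hvc, hu₀a, hb, hu₀]
      · rw [mul_smul, inv_smul_eq_iff]
        simp only [mul_smul]
        rw [hvb, hu₀a, hb, hu₀, hvc, hu₀c]
      · rw [mul_smul, inv_smul_eq_iff]
        simp only [mul_smul]
        rw [hvc, hu₀c, hvb, hu₀a]
    exact (inv_mul_eq_one.1 key).symm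
  · rintro u ⟨huU, hu1, hrel⟩
    have h1 : (v * u * v) • a = (u * v * u) • a := by rw [hrel]
    simp only [mul_smul] at h1
    rw [hb, hUa u huU, hb] at h1
    have h3 : u • b = c := hcu _ h1
    have h4 := huniq ⟨u, huU⟩ h3
    exact congrArg Subtype.val h4

end abstract

universe u v

open Cfsg.Agent.Helper2.FeitAb Cfsg.Agent.Helper2.ZasAb

set_option maxHeartbeats 800000 in
theorem main_of (hT1 : ClassBound.{u, v}) (hT2 : EvenContra.{u, v}) {G : Type u} {Ω : Type v}
    [Group G] [Finite G] [MulAction G Ω] [Finite Ω]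
    (hZ : Cfsg.IsZassenhausGroup G Ω) [IsSimpleGroup G] {a : Ω}
    (U : Subgroup G) (hUle : U ≤ MulAction.stabilizer G a)
    (hUn : ∀ h ∈ MulAction.stabilizer G a, ∀ u ∈ U, h * u * h⁻¹ ∈ U)
    (hreg : ∀ c d : Ω, c ≠ a → d ≠ a → ∃! u : U, (u : G) • c = d)
    (hU2 : IsPGroup 2 U) (hUab : ∀ u ∈ U, ∀ u' ∈ U, u * u' = u' * u)
    (v : G) (hv1 : v ≠ 1) (hv2 : v * v = 1) (hva : v • a ≠ a) :
    ∃! u₀ : G, u₀ ∈ U ∧ u₀ ≠ 1 ∧ v * u₀ * v = u₀ * v * u₀ := by
  classical
  haveI : Fintype Ω := Fintype.ofFinite Ω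
  have hFn : (U.subgroupOf (MulAction.stabilizer G a)).Normal := by
    constructor
    intro n hn g
    rw [Subgroup.mem_subgroupOf] at hn ⊢
    have := hUn g g.2 n hn
    simpa using this
  have hUa : ∀ u ∈ U, u • a = a := fun u hu => mem_stabilizer_iff.1 (hUle hu)
  -- a second point
  obtain ⟨b, hb⟩ : ∃ b : Ω, v • a = b := ⟨_, rfl⟩
  have hba : b ≠ a := by rw [← hb]; exact hva
  -- the order of `U`
  have hUcard : Nat.card U + 1 = Fintype.card Ω := by
    have hne : ∀ u : U, (u : G) • b ≠ a := by
      intro u e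
      have h1 : (u : G) • b = (u : G) • a := by rw [e, hUa u u.2]
      exact hba (smul_left_cancel _ h1)
    have hbij : Function.Bijective (fun u : U => (⟨(u : G) • b, hne u⟩ : {z : Ω // z ≠ a})) := by
      constructor
      · intro u w huw
        have h1 : (u : G) • b = (w : G) • b := congrArg Subtype.val huw
        obtain ⟨x, -, hx⟩ := hreg b ((w : G) • b) hba (hne w)
        exact (hx u h1).trans (hx w rfl).symm
      · rintro ⟨z, hz⟩
        obtain ⟨w, hw, -⟩ := hreg b z hba hz
        exact ⟨w, Subtype.ext hw⟩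
    have h1 : Nat.card U = Nat.card {z : Ω // z ≠ a} := Nat.card_congr (Equiv.ofBijective _ hbij)
    have h2 : Nat.card {z : Ω // z ≠ a} = Fintype.card Ω - 1 := by
      rw [Nat.card_eq_fintype_card, Fintype.card_subtype, Finset.filter_ne',
        Finset.card_erase_of_mem (Finset.mem_univ a), Finset.card_univ]
    have h3 : 0 < Fintype.card Ω := Fintype.card_pos_iff.2 ⟨a⟩
    omega
  -- `U` has even order
  obtain ⟨n, hn⟩ := IsPGroup.iff_card.1 hU2
  have hUne : 2 ≤ Nat.card U := by
    have h2 : Fintype.card Ω ≥ 2 := by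
      have h1 : ({a, b} : Finset Ω).card = 2 := by
        rw [Finset.card_insert_of_notMem, Finset.card_singleton]
        simpa using Ne.symm hba
      have h2 := Finset.card_le_univ ({a, b} : Finset Ω)
      omega
    by_contra hlt
    have h1 : Nat.card U = 1 := by
      have : 0 < Nat.card U := Nat.card_pos
      omega
    -- then `Ω = {a, b}`, and `v` fixing... use a third point from the Zassenhaus hypothesis
    have hZH := Cfsg.Agent.Helper2.ZasPSL.zhyp_of hZ
    obtain ⟨g, hg1, hga, hgb⟩ := hZH.exists_fix (Ne.symm hba)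
    apply hg1
    apply hZ.1.eq_of_smul_eq_smul (α := Ω)
    intro w
    rw [one_smul]
    have hcard2 : Fintype.card Ω = 2 := by omega
    by_cases hw : w = a
    · rw [hw, hga]
    · have : w = b := by
        by_contra hwb
        have h1 : ({a, b, w} : Finset Ω).card = 3 := by
          rw [Finset.card_insert_of_notMem, Finset.card_insert_of_notMem, Finset.card_singleton]
          · simpa using Ne.symm hwb
          · simp only [Finset.mem_insert, Finset.mem_singleton, not_or]
            exact ⟨Ne.symm hba, Ne.symm hw⟩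
        have h2 := Finset.card_le_univ ({a, b, w} : Finset Ω)
        omega
      rw [this, hgb]
  have hn1 : 1 ≤ n := by
    rcases Nat.eq_zero_or_pos n with h0 | h0
    · rw [h0, pow_zero] at hn; omega
    · exact h0
  have hUeven : Even (Nat.card U) := by
    rw [hn]
    exact (Nat.even_pow.2 ⟨even_two, by omega⟩)
  have hΩodd : Odd (Nat.card Ω) := by
    rw [Nat.card_eq_fintype_card, ← hUcard]
    exact hUeven.add_one
  rcases main_abelian' (feitHypAb_of hT1 hT2) hZ a U hUle hFn hUab hreg with
    ⟨h3, hs, -⟩ | ⟨K, iF, iFin, hchar, hKcard, -, -⟩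
  · have hS := sharpThree_of h3 hs
    -- exponent two: all non-identity elements of `U` are conjugate under the stabiliser of `a`
    have hexp : ∀ u ∈ U, u * u = 1 := by
      have : Fact (Nat.Prime 2) := ⟨Nat.prime_two⟩
      obtain ⟨t, ht⟩ := exists_prime_orderOf_dvd_card' (G := U) 2 hUeven.two_dvd
      have ht1 : (t : G) ≠ 1 := by
        intro e
        have : t = 1 := Subtype.ext e
        rw [this, orderOf_one] at ht
        norm_num at ht
      have ht2 : (t : G) * t = 1 := by
        have h1 : t ^ 2 = 1 := by rw [← ht]; exact pow_orderOf_eq_one t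
        have h2 : ((t ^ 2 : U) : G) = 1 := by rw [h1]; rfl
        rw [Subgroup.coe_pow, pow_two] at h2
        exact h2
      intro u hu
      by_cases hu1 : u = 1
      · rw [hu1, one_mul]
      · -- conjugate `t` to `u`
        have htb : (t : G) • b ≠ b := by
          intro e
          obtain ⟨x, -, hx⟩ := hreg b b hba hba
          have h1 := hx t e
          have h2 := hx 1 (by show ((1 : U) : G) • b = b; rw [Subgroup.coe_one, one_smul])
          exact ht1 (congrArg Subtype.val (h1.trans h2.symm))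
        have hub : u • b ≠ b := by
          intro e
          obtain ⟨x, -, hx⟩ := hreg b b hba hba
          have h1 := hx ⟨u, hu⟩ e
          have h2 := hx 1 (by show ((1 : U) : G) • b = b; rw [Subgroup.coe_one, one_smul])
          exact hu1 (congrArg Subtype.val (h1.trans h2.symm))
        have hta : (t : G) • b ≠ a := by
          intro e
          have h1 : (t : G) • b = (t : G) • a := by rw [e, hUa t t.2]
          exact hba (smul_left_cancel _ h1)
        have hua : u • b ≠ a := by
          intro e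
          have h1 : u • b = u • a := by rw [e, hUa u hu]
          exact hba (smul_left_cancel _ h1)
        obtain ⟨g, hga, hgb, hgc⟩ := hS.trans a b ((t : G) • b) a b (u • b) (Ne.symm hba)
          (Ne.symm hta) (Ne.symm htb) (Ne.symm hba) (Ne.symm hua) (Ne.symm hub)
        have hgt : g * t * g⁻¹ ∈ U := hUn g (mem_stabilizer_iff.2 hga) t t.2
        have hgtb : (g * t * g⁻¹) • b = u • b := by
          rw [mul_smul, mul_smul, inv_smul_eq_iff.2 hgb.symm, hgc]
        obtain ⟨x, -, hx⟩ := hreg b (u • b) hba hua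
        have h1 := hx ⟨g * t * g⁻¹, hgt⟩ hgtb
        have h2 := hx ⟨u, hu⟩ rfl
        have h3 : g * t * g⁻¹ = u := congrArg Subtype.val (h1.trans h2.symm)
        rw [← h3]
        have : g * t * g⁻¹ * (g * t * g⁻¹) = g * (t * t) * g⁻¹ := by group
        rw [this, ht2, mul_one, mul_inv_cancel]
    exact unique_u0 hS hΩodd U hUa hreg hexp v hv1 hv2 hva
  · exfalso
    have h1 := FiniteField.odd_card_of_char_ne_two hchar
    have h2 : Fintype.card K = Nat.card U := by omega
    rw [h2] at h1
    rcases hUeven with ⟨k, hk⟩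
    omega

end Cfsg.Agent.Helper2.ZasU
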